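import Groth.Agent.Lib.Helper3.QuasiFiniteDim
import Mathlib.AlgebraicGeometry.Properties
import Mathlib.Topology.KrullDimension

set_option autoImplicit false
universe u
open CategoryTheory CategoryTheory.Limits AlgebraicGeometry

namespace Groth.Agent.Lib.Helper3

/-- The Krull dimension of a scheme is the supremum of the dimensions of its local rings. -/
theorem topologicalKrullDim_eq_iSup_stalk (X : Scheme.{u}) :
    topologicalKrullDim X = ⨆ x : X, ringKrullDim (X.presheaf.stalk x) := by
  have h1 : topologicalKrullDim X = Order.krullDim X := by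
    unfold topologicalKrullDim
    exact Order.krullDim_eq_of_orderIso (irreducibleSetEquivPoints (α := X))
  rw [h1, Order.krullDim_eq_iSup_coheight]
  exact iSup_congr fun x => (ringKrullDim_stalk_eq_coheight x).symm

theorem topologicalKrullDim_le_of_locallyQuasiFinite {A B : Scheme.{u}} (f : A ⟶ B)
    [LocallyQuasiFinite f] : topologicalKrullDim A ≤ topologicalKrullDim B := by
  rw [topologicalKrullDim_eq_iSup_stalk, topologicalKrullDim_eq_iSup_stalk]
  exact iSup_le fun x => (ringKrullDim_stalk_le_of_locallyQuasiFinite f x).trans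
    (le_iSup (fun y : B => ringKrullDim (B.presheaf.stalk y)) (f x))

theorem topologicalKrullDim_le_of_etale_of_surjective {A B : Scheme.{u}} (f : A ⟶ B)
    [Etale f] [Surjective f] : topologicalKrullDim B ≤ topologicalKrullDim A := by
  rw [topologicalKrullDim_eq_iSup_stalk, topologicalKrullDim_eq_iSup_stalk]
  refine iSup_le fun y => ?_
  obtain ⟨x, rfl⟩ := f.surjective y
  rw [← ringKrullDim_stalk_eq_of_etale f x]
  exact le_iSup (fun x : A => ringKrullDim (A.presheaf.stalk x)) x

theorem topologicalKrullDim_le_of_etale {A B : Scheme.{u}} (f : A ⟶ B)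
    [Etale f] : topologicalKrullDim A ≤ topologicalKrullDim B := by
  rw [topologicalKrullDim_eq_iSup_stalk, topologicalKrullDim_eq_iSup_stalk]
  refine iSup_le fun x => ?_
  rw [ringKrullDim_stalk_eq_of_etale f x]
  exact le_iSup (fun y : B => ringKrullDim (B.presheaf.stalk y)) (f x)

end Groth.Agent.Lib.Helper3
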