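import Groth.Agent.Lib.Helper3.SchemeDim
import Mathlib.AlgebraicGeometry.Morphisms.Integral
import Mathlib.RingTheory.Ideal.HasGoingUp

set_option autoImplicit false
universe u
open CategoryTheory CategoryTheory.Limits AlgebraicGeometry

namespace Groth.Agent.Lib.Helper3

theorem ringKrullDim_le_of_isIntegral (A B : Type*) [CommRing A] [CommRing B] [Algebra A B]
    [Algebra.IsIntegral A B] : ringKrullDim B ≤ ringKrullDim A := by
  refine Order.krullDim_le_of_strictMono (fun q => PrimeSpectrum.comap (algebraMap A B) q) ?_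
  intro q q' h
  exact Ideal.IsIntegral.comap_lt_comap (R := A) (I := q.asIdeal) (J := q'.asIdeal) h

theorem ringKrullDim_le_of_isIntegral_of_surjective (A B : Type*) [CommRing A] [CommRing B]
    [Algebra A B] [Algebra.IsIntegral A B]
    (hs : Function.Surjective (PrimeSpectrum.comap (algebraMap A B))) :
    ringKrullDim A ≤ ringKrullDim B := by
  unfold ringKrullDim Order.krullDim
  refine iSup_le fun l => ?_
  obtain ⟨P, hP⟩ := hs l.head
  have : P.asIdeal.LiesOver l.head.asIdeal := ⟨by rw [← hP]; rfl⟩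
  obtain ⟨L, hlen, -, -⟩ := Ideal.exists_ltSeries_of_hasGoingUp l P.asIdeal
  exact le_iSup_of_le L (by rw [hlen])

theorem topologicalKrullDim_eq_ringKrullDim_of_isAffine (W : Scheme.{u}) [IsAffine W] :
    topologicalKrullDim W = ringKrullDim Γ(W, ⊤) := by
  rw [← PrimeSpectrum.topologicalKrullDim_eq_ringKrullDim]
  exact IsHomeomorph.topologicalKrullDim_eq _ W.isoSpec.hom.homeomorph.isHomeomorph

theorem topologicalKrullDim_le_of_isIntegralHom_of_isAffine {W V : Scheme.{u}} (i : W ⟶ V)
    [IsAffine W] [IsAffine V] [IsIntegralHom i] :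
    topologicalKrullDim W ≤ topologicalKrullDim V := by
  rw [topologicalKrullDim_eq_ringKrullDim_of_isAffine, topologicalKrullDim_eq_ringKrullDim_of_isAffine]
  have h : (i.appTop).hom.IsIntegral := i.isIntegral_app ⊤ (isAffineOpen_top V)
  algebraize [(i.appTop).hom]
  exact ringKrullDim_le_of_isIntegral Γ(V, ⊤) Γ(W, ⊤)

theorem topologicalKrullDim_le_of_isIntegralHom_of_surjective_of_isAffine {W V : Scheme.{u}}
    (i : W ⟶ V) [IsAffine W] [IsAffine V] [IsIntegralHom i] [Surjective i] :
    topologicalKrullDim V ≤ topologicalKrullDim W := by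
  rw [topologicalKrullDim_eq_ringKrullDim_of_isAffine, topologicalKrullDim_eq_ringKrullDim_of_isAffine]
  have h : (i.appTop).hom.IsIntegral := i.isIntegral_app ⊤ (isAffineOpen_top V)
  have hsurj : Surjective (Spec.map i.appTop) := by
    have e : Spec.map i.appTop = W.isoSpec.inv ≫ i ≫ V.isoSpec.hom := by
      rw [Iso.eq_inv_comp]
      exact Scheme.isoSpec_hom_naturality i
    rw [e]
    infer_instance
  algebraize [(i.appTop).hom]
  refine ringKrullDim_le_of_isIntegral_of_surjective Γ(V, ⊤) Γ(W, ⊤) ?_
  exact hsurj.surj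

end Groth.Agent.Lib.Helper3
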