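import Mathlib.AlgebraicGeometry.Morphisms.LocalFlatDescent
import Mathlib.AlgebraicGeometry.Morphisms.FlatDescent
import Mathlib.AlgebraicGeometry.Sites.Fpqc
import Mathlib.AlgebraicGeometry.Cover.Sigma
import Mathlib.CategoryTheory.MorphismProperty.Local

set_option autoImplicit false
universe u
open CategoryTheory CategoryTheory.Limits AlgebraicGeometry MorphismProperty

namespace Groth.Agent.Lib.Helper3

/-- A property that is Zariski local at the target, stable under base change and descends along
fppf covers is local at the target for the fppf precoverage. -/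
theorem isLocalAtTarget_fppf (P : MorphismProperty Scheme.{u}) [IsZariskiLocalAtTarget P]
    [P.IsStableUnderBaseChange]
    [P.DescendsAlong (@Surjective ⊓ @Flat ⊓ @LocallyOfFinitePresentation)] :
    P.IsLocalAtTarget Scheme.fppfPrecoverage.{u} := by
  have : P.RespectsIso := MorphismProperty.IsStableUnderBaseChange.respectsIso
  have : Scheme.fppfPrecoverage.{u}.HasPullbacks := by
    unfold Scheme.fppfPrecoverage; infer_instance
  have : Precoverage.Small.{u} Scheme.fppfPrecoverage.{u} := by
    unfold Scheme.fppfPrecoverage; infer_instance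
  refine MorphismProperty.IsLocalAtTarget.mk_of_small.{u} ?_ ?_
  · intro X Y f 𝒰 hf i
    exact P.pullback_snd _ _ hf
  · intro X Y f 𝒰 h
    have hmem := 𝒰.mem₀
    unfold Scheme.fppfPrecoverage at hmem
    rw [Scheme.presieve₀_mem_precoverage_iff] at hmem
    obtain ⟨hsurj, hprop⟩ := hmem
    have hfl : Flat (Sigma.desc 𝒰.f) :=
      IsZariskiLocalAtSource.sigmaDesc (P := @Flat) (fun i => (hprop i).1)
    have hfp : LocallyOfFinitePresentation (Sigma.desc 𝒰.f) :=
      IsZariskiLocalAtSource.sigmaDesc (P := @LocallyOfFinitePresentation) (fun i => (hprop i).2)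
    have hsu : Surjective (Sigma.desc 𝒰.f) := by
      refine ⟨fun y => ?_⟩
      obtain ⟨i, x, rfl⟩ := hsurj y
      exact ⟨Sigma.ι 𝒰.X i x, by simp [← Scheme.Hom.comp_apply]⟩
    refine MorphismProperty.of_pullback_snd_of_descendsAlong
      (Q := @Surjective ⊓ @Flat ⊓ @LocallyOfFinitePresentation) (g := Sigma.desc 𝒰.f)
      ⟨⟨hsu, hfl⟩, hfp⟩ ?_
    rw [IsZariskiLocalAtTarget.iff_of_openCover (P := P) (sigmaOpenCover 𝒰.X)]
    intro i
    have sq := (IsPullback.of_hasPullback (pullback.snd f (Sigma.desc 𝒰.f))
      ((sigmaOpenCover 𝒰.X).f i)).paste_horiz (IsPullback.of_hasPullback f (Sigma.desc 𝒰.f))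
    have e : (sigmaOpenCover 𝒰.X).f i ≫ Sigma.desc 𝒰.f = 𝒰.f i := by
      simp only [sigmaOpenCover_f]
      exact Sigma.ι_desc 𝒰.f i
    rw [e] at sq
    have := sq.isoPullback_hom_snd
    change P (pullback.snd (pullback.snd f (Sigma.desc 𝒰.f)) ((sigmaOpenCover 𝒰.X).f i))
    rw [← this, P.cancel_left_of_respectsIso]
    exact h i

theorem isLocalAtTarget_fppf_lft :
    MorphismProperty.IsLocalAtTarget (@LocallyOfFiniteType : MorphismProperty Scheme.{u}) Scheme.fppfPrecoverage.{u} := isLocalAtTarget_fppf _
theorem isLocalAtTarget_fppf_lfp :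
    MorphismProperty.IsLocalAtTarget (@LocallyOfFinitePresentation : MorphismProperty Scheme.{u}) Scheme.fppfPrecoverage.{u} :=
  isLocalAtTarget_fppf _
theorem isLocalAtTarget_fppf_smooth :
    MorphismProperty.IsLocalAtTarget (@Smooth : MorphismProperty Scheme.{u}) Scheme.fppfPrecoverage.{u} := isLocalAtTarget_fppf _
theorem isLocalAtTarget_fppf_formallyUnramified :
    MorphismProperty.IsLocalAtTarget (@FormallyUnramified : MorphismProperty Scheme.{u}) Scheme.fppfPrecoverage.{u} := isLocalAtTarget_fppf _
theorem isLocalAtTarget_fppf_etale :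
    MorphismProperty.IsLocalAtTarget (@Etale : MorphismProperty Scheme.{u}) Scheme.fppfPrecoverage.{u} := isLocalAtTarget_fppf _
theorem isLocalAtTarget_fppf_universallyClosed :
    MorphismProperty.IsLocalAtTarget (@UniversallyClosed : MorphismProperty Scheme.{u}) Scheme.fppfPrecoverage.{u} := isLocalAtTarget_fppf _
theorem isLocalAtTarget_fppf_universallyOpen :
    MorphismProperty.IsLocalAtTarget (@UniversallyOpen : MorphismProperty Scheme.{u}) Scheme.fppfPrecoverage.{u} := isLocalAtTarget_fppf _
theorem isLocalAtTarget_fppf_universallyInjective :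
    MorphismProperty.IsLocalAtTarget (@UniversallyInjective : MorphismProperty Scheme.{u}) Scheme.fppfPrecoverage.{u} := isLocalAtTarget_fppf _
theorem isLocalAtTarget_fppf_surjective :
    MorphismProperty.IsLocalAtTarget (@Surjective : MorphismProperty Scheme.{u}) Scheme.fppfPrecoverage.{u} := isLocalAtTarget_fppf _
theorem isLocalAtTarget_fppf_isomorphisms :
    (MorphismProperty.isomorphisms Scheme.{u}).IsLocalAtTarget Scheme.fppfPrecoverage.{u} :=
  isLocalAtTarget_fppf _
theorem isLocalAtTarget_fppf_isOpenImmersion :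
    MorphismProperty.IsLocalAtTarget (@IsOpenImmersion : MorphismProperty Scheme.{u}) Scheme.fppfPrecoverage.{u} := isLocalAtTarget_fppf _

theorem monomorphisms_eq_diagonal :
    MorphismProperty.monomorphisms Scheme.{u} =
      (MorphismProperty.isomorphisms Scheme.{u}).diagonal := by
  ext X Y f
  rw [MorphismProperty.diagonal_iff]
  exact (pullback.isIso_diagonal_iff f).symm

instance descendsAlong_monomorphisms :
    (MorphismProperty.monomorphisms Scheme.{u}).DescendsAlong
      (@Surjective ⊓ @Flat ⊓ @LocallyOfFinitePresentation) := by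
  rw [monomorphisms_eq_diagonal]
  infer_instance

theorem isLocalAtTarget_fppf_monomorphisms :
    (MorphismProperty.monomorphisms Scheme.{u}).IsLocalAtTarget Scheme.fppfPrecoverage.{u} :=
  isLocalAtTarget_fppf _

end Groth.Agent.Lib.Helper3
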