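import Groth.Agent.S9883
import Groth.Agent.S9886
import Groth.Agent.Lib.Helper3.FppfLocal

set_option autoImplicit false
universe u
open CategoryTheory CategoryTheory.Limits AlgebraicGeometry MorphismProperty

namespace Groth.Agent.Lib.Helper3

section cat

variable {D : Type*} [Category D]

theorem isPullback_prod_snd_with_id {A B : D} (f : A ⟶ B) (X : D) [HasBinaryProduct X A]
    [HasBinaryProduct X B] : IsPullback prod.snd (prod.map (𝟙 X) f) f prod.snd := by
  refine IsPullback.mk' (by simp) ?_ ?_
  · intro T φ φ' h1 h2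
    apply Limits.prod.hom_ext
    · have := h2 =≫ prod.fst
      simpa only [Category.assoc, prod.map_fst, Category.comp_id] using this
    · exact h1
  · intro T a b hab
    refine ⟨prod.lift (b ≫ prod.fst) a, by simp only [prod.lift_snd], ?_⟩
    apply Limits.prod.hom_ext
    · simp only [Category.assoc, prod.map_fst, Category.comp_id, prod.lift_fst]
    · simp only [Category.assoc, prod.map_snd, prod.lift_snd_assoc, hab]

theorem isPullback_shift_iso {P X Y Y' Z : D} {fst : P ⟶ X} {v : P ⟶ Y'} {e : Y' ⟶ Y} [IsIso e]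
    {f : X ⟶ Z} {g : Y ⟶ Z} (h : IsPullback fst (v ≫ e) f g) : IsPullback fst v f (e ≫ g) := by
  have h1 : IsPullback (𝟙 P) v (v ≫ e) e := IsPullback.of_horiz_isIso ⟨by simp⟩
  have := h1.paste_horiz h
  rwa [Category.id_comp] at this

theorem prod_map_mem [HasBinaryProducts D] (W : MorphismProperty D) [W.IsStableUnderBaseChange]
    [W.IsStableUnderComposition] {A B A' B' : D} (a : A ⟶ B) (b : A' ⟶ B') (ha : W a)
    (hb : W b) : W (prod.map a b) := by
  have h1 : W (prod.map a (𝟙 A')) := W.of_isPullback (IsPullback.of_prod_fst_with_id a A') ha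
  have h2 : W (prod.map (𝟙 B) b) := W.of_isPullback (isPullback_prod_snd_with_id b B) hb
  have : prod.map a b = prod.map a (𝟙 A') ≫ prod.map (𝟙 B) b := by simp
  rw [this]
  exact W.comp_mem _ _ h1 h2

theorem isPullback_diag_of_isPullback [HasBinaryProducts D] {T₁ T₂ F W : D} {a : T₁ ⟶ F}
    {b : T₂ ⟶ F} {p₁ : W ⟶ T₁} {p₂ : W ⟶ T₂} (sq : IsPullback p₁ p₂ a b) :
    IsPullback (p₁ ≫ a) (prod.lift p₁ p₂) (Limits.diag F) (prod.map a b) := by
  refine IsPullback.mk' ?_ ?_ ?_
  · apply Limits.prod.hom_ext
    · simp only [Category.assoc, Limits.diag, prod.lift_fst, Category.comp_id, prod.map_fst,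
        prod.lift_fst_assoc]
    · simp only [Category.assoc, Limits.diag, prod.lift_snd, Category.comp_id, prod.map_snd,
        prod.lift_snd_assoc, sq.w]
  · intro T φ φ' _ h
    apply sq.hom_ext
    · have := h =≫ prod.fst
      simpa only [Category.assoc, prod.lift_fst] using this
    · have := h =≫ prod.snd
      simpa only [Category.assoc, prod.lift_snd] using this
  · intro T z y hzy
    have h1 : z = y ≫ prod.fst ≫ a := by
      have := hzy =≫ prod.fst
      simpa only [Category.assoc, Limits.diag, prod.lift_fst, Category.comp_id, prod.map_fst]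
        using this
    have h2 : z = y ≫ prod.snd ≫ b := by
      have := hzy =≫ prod.snd
      simpa only [Category.assoc, Limits.diag, prod.lift_snd, Category.comp_id, prod.map_snd]
        using this
    have hw : (y ≫ prod.fst) ≫ a = (y ≫ prod.snd) ≫ b := by
      rw [Category.assoc, Category.assoc, ← h1, ← h2]
    refine ⟨sq.lift _ _ hw, ?_, ?_⟩
    · rw [← Category.assoc, sq.lift_fst, Category.assoc, ← h1]
    · apply Limits.prod.hom_ext
      · simp only [Category.assoc, prod.lift_fst, sq.lift_fst]
      · simp only [Category.assoc, prod.lift_snd, sq.lift_snd]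

end cat

variable {S : Scheme.{u}}

theorem repWith_inf {P Q : MorphismProperty Scheme.{u}} {F G : AlgSp.Sp S} {f : F ⟶ G}
    (hP : AlgSp.RepWith P f) (hQ : AlgSp.RepWith Q f) : AlgSp.RepWith (P ⊓ Q) f :=
  ⟨hP.rep, fun _ _ g fst snd sq => ⟨hP.property g fst snd sq, hQ.property g fst snd sq⟩⟩

theorem repWith_mono {P Q : MorphismProperty Scheme.{u}} (h : P ≤ Q) {F G : AlgSp.Sp S} {f : F ⟶ G}
    (hP : AlgSp.RepWith P f) : AlgSp.RepWith Q f :=
  ⟨hP.rep, fun _ _ g fst snd sq => h _ (hP.property g fst snd sq)⟩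

theorem prod_lift_yon {T W : Over S} (p₁ p₂ : W ⟶ T) :
    prod.lift ((AlgSp.yon S).map p₁) ((AlgSp.yon S).map p₂) =
      (AlgSp.yon S).map (prod.lift p₁ p₂) ≫ prodComparison (AlgSp.yon S) T T := by
  apply Limits.prod.hom_ext
  · simp only [prod.lift_fst, Category.assoc, prodComparison_fst, ← Functor.map_comp]
  · simp only [prod.lift_snd, Category.assoc, prodComparison_snd, ← Functor.map_comp]

theorem prod_lift_yon' {T₁ T₂ W : Over S} (p₁ : W ⟶ T₁) (p₂ : W ⟶ T₂) :
    prod.lift ((AlgSp.yon S).map p₁) ((AlgSp.yon S).map p₂) =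
      (AlgSp.yon S).map (prod.lift p₁ p₂) ≫ prodComparison (AlgSp.yon S) T₁ T₂ := by
  apply Limits.prod.hom_ext
  · simp only [prod.lift_fst, Category.assoc, prodComparison_fst, ← Functor.map_comp]
  · simp only [prod.lift_snd, Category.assoc, prodComparison_snd, ← Functor.map_comp]

/-- The product of two charts is a chart of the product. -/
theorem repWith_prodComparison_prod_map (W : MorphismProperty Scheme.{u})
    [W.IsStableUnderBaseChange] [W.IsMultiplicative] {U V : Over S} {X Y : AlgSp.Sp S}
    (p : (AlgSp.yon S).obj U ⟶ X) (q : (AlgSp.yon S).obj V ⟶ Y) (hp : AlgSp.RepWith W p)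
    (hq : AlgSp.RepWith W q) :
    AlgSp.RepWith W (prodComparison (AlgSp.yon S) U V ≫ prod.map p q) :=
  MorphismProperty.RespectsIso.precomp _ _ _ (prod_map_mem (AlgSp.RepWith W) p q hp hq)

/-- Diagonal criterion: for a sheaf `X` with representable diagonal, an etale surjective chart
`p : h_U ⟶ X` and `R = U ×_X U`, the diagonal of `X` has `P` iff `R ⟶ U × U` does. -/
theorem repWith_diag_iff (X : AlgSp.Sp S) (hX : AlgSp.Representable (Limits.diag X))
    {U R : Over S} (p : (AlgSp.yon S).obj U ⟶ X) (hpe : AlgSp.RepWith @Etale p)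
    (hps : AlgSp.RepWith @Surjective p) (s t : R ⟶ U)
    (sq : IsPullback ((AlgSp.yon S).map t) ((AlgSp.yon S).map s) p p)
    (P : MorphismProperty Scheme.{u}) [P.IsStableUnderBaseChange]
    [P.IsLocalAtTarget Scheme.fppfPrecoverage] :
    AlgSp.RepWith P (Limits.diag X) ↔ P (prod.lift t s).left := by
  have sq' := isPullback_diag_of_isPullback sq
  rw [prod_lift_yon] at sq'
  replace sq' := isPullback_shift_iso sq'
  exact Groth.Agent.S9883.repWith_iff_of_chart (Limits.diag X) hX
    (prodComparison (AlgSp.yon S) U U ≫ prod.map p p)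
    (repWith_prodComparison_prod_map _ p p hpe hpe)
    (repWith_prodComparison_prod_map _ p p hps hps) _ _ sq' P

end Groth.Agent.Lib.Helper3
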