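import Groth.Agent.Lib.Helper3.AlgSpQC5
import Groth.Agent.S9900
import Mathlib.AlgebraicGeometry.Morphisms.FlatMono

set_option autoImplicit false
universe u
open CategoryTheory CategoryTheory.Limits AlgebraicGeometry Opposite MorphismProperty

namespace Groth.Agent.Lib.Helper3

/-- A surjective monomorphism of schemes to the spectrum of a field has a section. -/
theorem exists_section_of_mono_surjective_field {K : Type u} [Field K] {W : Scheme.{u}}
    (g : W ⟶ Spec (.of K)) [Mono g] [Surjective g] : ∃ σ : Spec (.of K) ⟶ W, σ ≫ g = 𝟙 _ := by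
  obtain ⟨w, -⟩ := g.surjective (IsLocalRing.closedPoint K)
  let j := W.affineCover.f (W.affineCover.idx w)
  obtain ⟨u, hu⟩ := W.affineCover.covers w
  have : Surjective (j ≫ g) := ⟨fun y => ⟨u, Subsingleton.elim _ _⟩⟩
  have : Flat (j ≫ g) := inferInstance
  have : QuasiCompact (j ≫ g) := inferInstance
  have := Flat.isIso_of_surjective_of_mono (j ≫ g)
  exact ⟨inv (j ≫ g) ≫ j, by simp⟩

variable {S : Scheme.{u}}

open AlgSp

/-- Injectivity on field-valued points. -/
def InjOnFieldPts {X Y : Sp S} (f : X ⟶ Y) : Prop :=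
  ∀ (K : Type u) [Field K] (str : Spec (CommRingCat.of K) ⟶ S),
    Function.Injective (fun a : (yon S).obj (Over.mk str) ⟶ X => a ≫ f)

theorem InjOnFieldPts.of_isPullback {F G H P : Sp S} {f : F ⟶ G} {g : H ⟶ G} {fst : P ⟶ F}
    {snd : P ⟶ H} (sq : IsPullback fst snd f g) (hf : InjOnFieldPts f) : InjOnFieldPts snd := by
  intro K _ str a b hab
  have hab' : a ≫ snd = b ≫ snd := hab
  apply sq.hom_ext _ hab'
  apply hf K str
  change (a ≫ fst) ≫ f = (b ≫ fst) ≫ f
  rw [Category.assoc, Category.assoc, sq.w, ← Category.assoc, ← Category.assoc, hab']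

theorem InjOnFieldPts.injective_map {X Y : Sp S} {f : X ⟶ Y} (hf : InjOnFieldPts f) :
    Function.Injective (Points.map f) := by
  intro z₁ z₂ h
  obtain ⟨K, _, strK, a₁, rfl⟩ := Points.exists_hom z₁
  obtain ⟨L, _, strL, a₂, rfl⟩ := Points.exists_hom z₂
  rw [Points.map_mk_fieldPtOfHom, Points.map_mk_fieldPtOfHom, mk_fieldPtOfHom_eq_iff] at h
  obtain ⟨Ω, _, w, c, d, hcd⟩ := h
  rw [mk_fieldPtOfHom_eq_iff]
  refine ⟨Ω, inferInstance, w, c, d, ?_⟩
  apply hf Ω w
  change ((yon S).map c ≫ a₁) ≫ f = ((yon S).map d ≫ a₂) ≫ f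
  simpa only [Category.assoc] using hcd

theorem InjOnFieldPts.isUnivInjectiveMor {X Y : Sp S} {f : X ⟶ Y} (hf : InjOnFieldPts f) :
    IsUnivInjectiveMor f := by
  intro Z Z' _ g fst snd sq
  exact (hf.of_isPullback sq).injective_map

theorem isSurjectiveMor_diagonal_of_isUnivInjectiveMor {X Y : Sp S} {f : X ⟶ Y}
    (hf : IsUnivInjectiveMor f) : IsSurjectiveMor (pullback.diagonal f) := by
  intro x'
  obtain ⟨K, _, str, q, rfl⟩ := Points.exists_hom x'
  let a := q ≫ pullback.fst f f
  let b := q ≫ pullback.snd f f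
  have hab : a ≫ f = b ≫ f := by
    simp only [a, b, Category.assoc, pullback.condition]
  have sq := IsPullback.of_hasPullback f (a ≫ f)
  have hinj : Function.Injective (Points.map (pullback.snd f (a ≫ f))) :=
    hf (IsAlgSpace.yon_obj _) (a ≫ f) _ _ sq
  let a' : (yon S).obj (Over.mk str) ⟶ pullback f (a ≫ f) :=
    pullback.lift a (𝟙 _) (by simp)
  let b' : (yon S).obj (Over.mk str) ⟶ pullback f (a ≫ f) :=
    pullback.lift b (𝟙 _) (by simp [hab])
  have h1 : Points.mk (fieldPtOfHom K str a') = Points.mk (fieldPtOfHom K str b') := by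
    apply hinj
    rw [Points.map_mk_fieldPtOfHom, Points.map_mk_fieldPtOfHom]
    simp only [a', b', pullback.lift_snd]
  rw [mk_fieldPtOfHom_eq_iff] at h1
  obtain ⟨Ω, _, w, c, d, hcd⟩ := h1
  have hcd1 : (yon S).map c = (yon S).map d := by
    have := hcd =≫ pullback.snd f (a ≫ f)
    simpa only [a', b', Category.assoc, pullback.lift_snd, Category.comp_id] using this
  have hcd2 : (yon S).map c ≫ a = (yon S).map c ≫ b := by
    have := hcd =≫ pullback.fst f (a ≫ f)
    simp only [a', b', Category.assoc, pullback.lift_fst] at this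
    rw [this, hcd1]
  refine ⟨Points.mk (fieldPtOfHom Ω w ((yon S).map c ≫ a)), ?_⟩
  rw [Points.map_mk_fieldPtOfHom, ← mk_fieldPtOfHom_comp c q]
  congr 2
  apply pullback.hom_ext
  · simp only [Category.assoc, pullback.diagonal_fst, Category.comp_id, a]
  · simp only [Category.assoc, pullback.diagonal_snd, Category.comp_id]
    rw [hcd2]

theorem injOnFieldPts_of_isSurjectiveMor_diagonal {X Y : Sp S} (hX : IsAlgSpace X) {f : X ⟶ Y}
    (hf : IsSurjectiveMor (pullback.diagonal f)) : InjOnFieldPts f := by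
  intro K _ str a b hab
  have hab' : a ≫ f = b ≫ f := hab
  have hΔ := Groth.Agent.S9900.repWith_diagonal_lft_mono hX f
  have hΔs : RepWith @Surjective (pullback.diagonal f) :=
    (Groth.Agent.S9906.repWith_surjective_iff _ hΔ.rep).2 hf
  let q : (yon S).obj (Over.mk str) ⟶ pullback f f := pullback.lift a b hab'
  have sqW := hΔ.rep.isPullback q
  have hmono : Mono (hΔ.rep.snd q).left := (hΔ.property_snd q).2
  have hsurj : Surjective (hΔ.rep.snd q).left := hΔs.property _ _ _ sqW
  obtain ⟨σ, hσ⟩ := exists_section_of_mono_surjective_field (hΔ.rep.snd q).left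
  let σ' : Over.mk str ⟶ hΔ.rep.pullback q := Over.homMk σ (by
    have h1 : (hΔ.rep.snd q).left ≫ str = (hΔ.rep.pullback q).hom := Over.w (hΔ.rep.snd q)
    change σ ≫ (hΔ.rep.pullback q).hom = str
    rw [← h1, ← Category.assoc]
    erw [hσ]
    exact Category.id_comp _)
  have hσ' : σ' ≫ hΔ.rep.snd q = 𝟙 _ := by
    ext
    exact hσ
  let e := (yon S).map σ' ≫ hΔ.rep.fst q
  have he : e ≫ pullback.diagonal f = q := by
    simp only [e, Category.assoc]
    rw [sqW.w, ← Category.assoc, ← Functor.map_comp, hσ', CategoryTheory.Functor.map_id,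
      Category.id_comp]
  have ha : a = e := by
    have := he =≫ pullback.fst f f
    simp only [Category.assoc, pullback.diagonal_fst, Category.comp_id, q, pullback.lift_fst] at this
    exact this.symm
  have hb : b = e := by
    have := he =≫ pullback.snd f f
    simp only [Category.assoc, pullback.diagonal_snd, Category.comp_id, q, pullback.lift_snd] at this
    exact this.symm
  rw [ha, hb]

theorem injOnFieldPts_of_isUnivInjectiveMor {X Y : Sp S} (hX : IsAlgSpace X) {f : X ⟶ Y}
    (hf : IsUnivInjectiveMor f) : InjOnFieldPts f :=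
  injOnFieldPts_of_isSurjectiveMor_diagonal hX (isSurjectiveMor_diagonal_of_isUnivInjectiveMor hf)

end Groth.Agent.Lib.Helper3
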