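import Groth.Agent.Lib.Helper3.AlgSpFpqc2
import Groth.Agent.Lib.Helper3.AlgSpInj

set_option autoImplicit false
universe u
open CategoryTheory CategoryTheory.Limits AlgebraicGeometry Opposite MorphismProperty Topology

namespace Groth.Agent.Lib.Helper3

variable {S : Scheme.{u}}

open AlgSp

/-- The spectrum of a field over `S` is affine. -/
theorem isAffine_field {K : Type u} [Field K] (w : Spec (CommRingCat.of K) ⟶ S) :
    IsAffine (Over.mk w).left := by
  change IsAffine (Spec (CommRingCat.of K))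
  infer_instance

/-- Injectivity on points of all base changes can be tested on affine base changes. -/
theorem isUnivInjectiveMor_iff_affine {X Y : Sp S} (f : X ⟶ Y) :
    IsUnivInjectiveMor f ↔
      ∀ (Z : Over S), IsAffine Z.left → ∀ (g : (yon S).obj Z ⟶ Y) (P : Sp S)
        (fst : P ⟶ X) (snd : P ⟶ (yon S).obj Z), IsPullback fst snd f g →
        Function.Injective (Points.map snd) := by
  constructor
  · intro h Z _ g P fst snd sq
    exact h (IsAlgSpace.yon_obj Z) g fst snd sq
  · intro h T T' _ k a b sqT x₁ x₂ hx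
    obtain ⟨K₁, _, str₁, a₁, rfl⟩ := Points.exists_hom x₁
    obtain ⟨K₂, _, str₂, a₂, rfl⟩ := Points.exists_hom x₂
    rw [Points.map_mk_fieldPtOfHom, Points.map_mk_fieldPtOfHom, mk_fieldPtOfHom_eq_iff] at hx
    obtain ⟨Ω, _, w, c, d, hcd⟩ := hx
    let t : (yon S).obj (Over.mk w) ⟶ T := (yon S).map c ≫ a₁ ≫ b
    have sqP := (IsPullback.of_hasPullback b t).paste_horiz sqT
    have hinj := h (Over.mk w) (isAffine_field w) (t ≫ k) _ _ _ sqP
    let y₁ : (yon S).obj (Over.mk w) ⟶ pullback b t :=
      pullback.lift ((yon S).map c ≫ a₁) (𝟙 _) (by simp [t])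
    let y₂ : (yon S).obj (Over.mk w) ⟶ pullback b t :=
      pullback.lift ((yon S).map d ≫ a₂) (𝟙 _) (by simp only [Category.assoc, Category.id_comp, t, hcd])
    have hy : Points.mk (fieldPtOfHom Ω w y₁) = Points.mk (fieldPtOfHom Ω w y₂) := by
      apply hinj
      rw [Points.map_mk_fieldPtOfHom, Points.map_mk_fieldPtOfHom]
      simp only [y₁, y₂, pullback.lift_snd]
    have := congrArg (Points.map (pullback.fst b t)) hy
    rw [Points.map_mk_fieldPtOfHom, Points.map_mk_fieldPtOfHom] at this
    simp only [y₁, y₂, pullback.lift_fst] at this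
    rw [mk_fieldPtOfHom_comp, mk_fieldPtOfHom_comp] at this
    exact this

/-- Surjectivity on points of all base changes can be tested on affine base changes. -/
theorem univSp_surjective_iff_affine {X Y : Sp S} (f : X ⟶ Y) :
    UnivSp (fun _ _ f => Function.Surjective (Points.map f)) f ↔
      ∀ (Z : Over S), IsAffine Z.left → ∀ (g : (yon S).obj Z ⟶ Y) (P : Sp S)
        (fst : P ⟶ X) (snd : P ⟶ (yon S).obj Z), IsPullback fst snd f g →
        Function.Surjective (Points.map snd) := by
  constructor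
  · intro h Z _ g P fst snd sq
    exact h (IsAlgSpace.yon_obj Z) g fst snd sq
  · intro h T T' _ k a b sqT x
    obtain ⟨K, _, w, t, rfl⟩ := Points.exists_hom x
    have sqP := (IsPullback.of_hasPullback b t).paste_horiz sqT
    have hs := h (Over.mk w) (isAffine_field w) (t ≫ k) _ _ _ sqP
    obtain ⟨y, hy⟩ := hs (Points.mk (fieldPtOfHom K w (𝟙 _)))
    refine ⟨Points.map (pullback.fst b t) y, ?_⟩
    rw [← Points.map_comp, pullback.condition, Points.map_comp, hy, Points.map_mk_fieldPtOfHom,
      Category.id_comp]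

/-- Being a quotient map on points for all base changes can be tested on affine base changes. -/
theorem isUnivSubmersiveMor_iff_affine {X Y : Sp S} (f : X ⟶ Y) :
    IsUnivSubmersiveMor f ↔
      ∀ (Z : Over S), IsAffine Z.left → ∀ (g : (yon S).obj Z ⟶ Y) (P : Sp S)
        (fst : P ⟶ X) (snd : P ⟶ (yon S).obj Z), IsPullback fst snd f g →
        IsQuotientMap (Points.map snd) := by
  constructor
  · intro h Z _ g P fst snd sq
    exact h (IsAlgSpace.yon_obj Z) g fst snd sq
  · intro h T T' hT k a b sqT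
    have hsurj : Function.Surjective (Points.map b) :=
      (univSp_surjective_iff_affine f).2 (fun Z hZ g P fst snd sq => (h Z hZ g P fst snd sq).surjective)
        hT k a b sqT
    refine ⟨IsCoinducing.of_isOpen_preimage_iff_isOpen fun Ω =>
      ⟨fun hΩ => ?_, fun hΩ => hΩ.preimage (Points.continuous_map b)⟩, hsurj⟩
    rw [Groth.Agent.S9909.isOpen_points_iff_affine]
    intro Z hZ t
    have sqP := (IsPullback.of_hasPullback b t).paste_horiz sqT
    have hq := h Z hZ (t ≫ k) _ _ _ sqP
    rw [Points.ofPt_eq, Set.preimage_comp]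
    refine (Points.schemeHomeo Z).continuous.isOpen_preimage _ ?_
    rw [← hq.isOpen_preimage, ← Set.preimage_comp]
    have : Points.map t ∘ Points.map (pullback.snd b t) =
        Points.map b ∘ Points.map (pullback.fst b t) := by
      funext y
      simp only [Function.comp_apply, ← Points.map_comp, pullback.condition]
    rw [this, Set.preimage_comp]
    exact hΩ.preimage (Points.continuous_map _)

theorem isUnivHomeoMor_iff_affine {X Y : Sp S} (f : X ⟶ Y) :
    IsUnivHomeoMor f ↔
      ∀ (Z : Over S), IsAffine Z.left → ∀ (g : (yon S).obj Z ⟶ Y) (P : Sp S)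
        (fst : P ⟶ X) (snd : P ⟶ (yon S).obj Z), IsPullback fst snd f g →
        IsHomeomorph (Points.map snd) := by
  constructor
  · intro h Z _ g P fst snd sq
    exact h (IsAlgSpace.yon_obj Z) g fst snd sq
  · intro h T T' hT k a b sqT
    refine ⟨Points.continuous_map b, ?_, ?_, ?_⟩
    · exact (Groth.Agent.S9909.isUnivOpenMor_iff_affine f).2
        (fun Z hZ g P fst snd sq => (h Z hZ g P fst snd sq).isOpenMap) hT k a b sqT
    · exact (isUnivInjectiveMor_iff_affine f).2
        (fun Z hZ g P fst snd sq => (h Z hZ g P fst snd sq).bijective.1) hT k a b sqT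
    · exact (univSp_surjective_iff_affine f).2
        (fun Z hZ g P fst snd sq => (h Z hZ g P fst snd sq).bijective.2) hT k a b sqT

section Descent

variable {Z : Over S} {m : ℕ} {W : Fin m → Over S} {c : ∀ j, W j ⟶ Z}
  {F : Sp S} {g₀ : F ⟶ (yon S).obj Z} {Fj : Fin m → Sp S} {a : ∀ j, Fj j ⟶ F}
  {b : ∀ j, Fj j ⟶ (yon S).obj (W j)}

theorem StdFpqc.isQuotientMap [IsAffine Z.left] (hc : StdFpqc Z W c)
    (sq : ∀ j, IsPullback (a j) (b j) g₀ ((yon S).map (c j)))
    (h : ∀ j, IsQuotientMap (Points.map (b j))) : IsQuotientMap (Points.map g₀) := by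
  refine ⟨IsCoinducing.of_isOpen_preimage_iff_isOpen fun Ω =>
    ⟨fun hΩ => ?_, fun hΩ => hΩ.preimage (Points.continuous_map g₀)⟩,
    hc.surjective sq fun j => (h j).surjective⟩
  rw [← (Points.schemeHomeo Z).symm.isOpen_image]
  refine hc.isOpen _ fun j => ?_
  have : (c j).left ⁻¹' ((Points.schemeHomeo Z).symm '' Ω) =
      (Points.schemeHomeo (W j)) ⁻¹' (Points.map ((yon S).map (c j)) ⁻¹' Ω) := by
    ext w
    simp only [Set.mem_preimage, Set.mem_image, Points.map_yon_map_apply]
    constructor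
    · rintro ⟨y, hy, hyw⟩
      rw [← hyw, Homeomorph.apply_symm_apply]
      exact hy
    · intro hw
      exact ⟨_, hw, by simp⟩
  rw [this]
  refine (Points.schemeHomeo (W j)).continuous.isOpen_preimage _ ?_
  rw [← (h j).isOpen_preimage, ← Set.preimage_comp]
  have : Points.map ((yon S).map (c j)) ∘ Points.map (b j) =
      Points.map g₀ ∘ Points.map (a j) := by
    funext y
    simp only [Function.comp_apply, ← Points.map_comp, (sq j).w]
  rw [this, Set.preimage_comp]
  exact hΩ.preimage (Points.continuous_map _)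

theorem StdFpqc.isHomeomorph [IsAffine Z.left] (hc : StdFpqc Z W c)
    (sq : ∀ j, IsPullback (a j) (b j) g₀ ((yon S).map (c j)))
    (h : ∀ j, IsHomeomorph (Points.map (b j))) : IsHomeomorph (Points.map g₀) :=
  ⟨Points.continuous_map g₀, hc.isOpenMap sq fun j => (h j).isOpenMap,
    hc.injective sq fun j => (h j).bijective.1, hc.surjective sq fun j => (h j).bijective.2⟩

end Descent

section

variable {ι : Type u} {X Y : Sp S} {Yi : ι → Sp S} {g : ∀ i, Yi i ⟶ Y} {f : X ⟶ Y}
  {Xi : ι → Sp S} {p : ∀ i, Xi i ⟶ Yi i} {q : ∀ i, Xi i ⟶ X}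

theorem isUnivInjectiveMor_of_stdRefinement
    (hcov : HasStdRefinement Yi g) (sq : ∀ i, IsPullback (q i) (p i) f (g i))
    (hp : ∀ i, IsUnivInjectiveMor (p i)) : IsUnivInjectiveMor f := by
  rw [isUnivInjectiveMor_iff_affine]
  intro Z hZ h P₀ fst snd sqZ
  obtain ⟨m, W, c, hc, hj⟩ := exists_stdFpqc_squares hcov sq hZ h sqZ
  refine hc.injective (fun j => IsPullback.of_hasPullback snd ((yon S).map (c j))) ?_
  intro j
  obtain ⟨i, l, lift, sqj⟩ := hj j
  exact hp i (IsAlgSpace.yon_obj (W j)) l _ _ sqj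

theorem isUnivSubmersiveMor_of_stdRefinement
    (hcov : HasStdRefinement Yi g) (sq : ∀ i, IsPullback (q i) (p i) f (g i))
    (hp : ∀ i, IsUnivSubmersiveMor (p i)) : IsUnivSubmersiveMor f := by
  rw [isUnivSubmersiveMor_iff_affine]
  intro Z hZ h P₀ fst snd sqZ
  obtain ⟨m, W, c, hc, hj⟩ := exists_stdFpqc_squares hcov sq hZ h sqZ
  refine hc.isQuotientMap (fun j => IsPullback.of_hasPullback snd ((yon S).map (c j))) ?_
  intro j
  obtain ⟨i, l, lift, sqj⟩ := hj j
  exact hp i (IsAlgSpace.yon_obj (W j)) l _ _ sqj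

theorem isUnivHomeoMor_of_stdRefinement
    (hcov : HasStdRefinement Yi g) (sq : ∀ i, IsPullback (q i) (p i) f (g i))
    (hp : ∀ i, IsUnivHomeoMor (p i)) : IsUnivHomeoMor f := by
  rw [isUnivHomeoMor_iff_affine]
  intro Z hZ h P₀ fst snd sqZ
  obtain ⟨m, W, c, hc, hj⟩ := exists_stdFpqc_squares hcov sq hZ h sqZ
  refine hc.isHomeomorph (fun j => IsPullback.of_hasPullback snd ((yon S).map (c j))) ?_
  intro j
  obtain ⟨i, l, lift, sqj⟩ := hj j
  exact hp i (IsAlgSpace.yon_obj (W j)) l _ _ sqj

end

end Groth.Agent.Lib.Helper3
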