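import Groth.Agent.Lib.Helper3.AlgSpLocSrc
import Groth.Agent.Lib.Helper3.AlgSpFpqc3

set_option autoImplicit false
universe u
open CategoryTheory CategoryTheory.Limits AlgebraicGeometry Opposite MorphismProperty

namespace Groth.Agent.Lib.Helper3

variable {S : Scheme.{u}}

open AlgSp

theorem Points.ofPt_yon_map_comp {F : Sp S} {T T' : Over S} (φ : T ⟶ T')
    (a : (yon S).obj T' ⟶ F) (t : ↥T.left) :
    Points.ofPt ((yon S).map φ ≫ a) t = Points.ofPt a (φ.left t) := by
  rw [Points.ofPt_eq_map_ofScheme, Points.map_comp, Points.ofPt_eq_map_ofScheme a]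
  congr 1
  exact Points.map_yon_map_apply φ t

/-- A family admitting standard fpqc refinements over affines is jointly surjective on points. -/
theorem HasStdRefinement.jointly_surjective {ι : Type u} {Y : Sp S} {Yi : ι → Sp S}
    {g : ∀ i, Yi i ⟶ Y} (hcov : HasStdRefinement Yi g) (x : Points Y) :
    ∃ i, x ∈ Set.range (Points.map (g i)) := by
  obtain ⟨K, _, str, a, rfl⟩ := Points.exists_hom x
  obtain ⟨m, W, c, -, -, hs, hl⟩ := hcov (Over.mk str) (isAffine_field str) a
  obtain ⟨j, w, hw⟩ := hs (IsLocalRing.closedPoint K : ↥(Over.mk str).left)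
  obtain ⟨i, l, hl⟩ := hl j
  refine ⟨i, Points.ofPt l w, ?_⟩
  rw [Points.map_ofPt, hl, Points.ofPt_yon_map_comp, hw, S9906.mk_fieldPtOfHom_eq_ofPt]

/-- General source-locality: if the `g i` are `LocP Q`, jointly surjective on points, and `P` can
be checked after precomposition with jointly surjective `Q`-families of schemes, then `LocP P f`
follows from `LocP P (g i ≫ f)` for all `i`. -/
theorem locP_of_cover_comp {P Q : MorphismProperty Scheme.{u}} (hP : IsEtLocal P)
    (hQ : ∀ {ι : Type u} {U V : Scheme.{u}} (T : ι → Scheme.{u}) (p : ∀ i, T i ⟶ U),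
      (∀ i, Q (p i)) → (∀ x : U, ∃ i, x ∈ Set.range (p i)) → ∀ (h : U ⟶ V),
      (∀ i, P (p i ≫ h)) → P h)
    {ι : Type u} {X Y : Sp S} (Xi : ι → Sp S) (g : ∀ i, Xi i ⟶ X)
    (hX : IsAlgSpace X) (hXi : ∀ i, IsAlgSpace (Xi i)) (hgQ : ∀ i, LocP Q (g i))
    (hgs : ∀ x : Points X, ∃ i, x ∈ Set.range (Points.map (g i)))
    (f : X ⟶ Y) (hY : IsAlgSpace Y) (hf : ∀ i, LocP P (g i ≫ f)) : LocP P f := by
  obtain ⟨V, b, hbe, hbs⟩ := hY.atlas
  obtain ⟨U, u, h, -, -, hae, has, -, hh⟩ := exists_chart_over hX hY f b hbe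
  refine locP_of_chart hP f _ hae (has hbs) b hbe h hh ?_
  set a := u ≫ pullback.fst f b with ha
  choose W c hce hcs using fun i => (hXi i).atlas
  have sqT := fun i => hae.rep.isPullback (c i ≫ g i)
  have hq : ∀ i, Etale (hae.rep.snd (c i ≫ g i)).left := fun i => hae.property_snd _
  choose p hp using fun i => (yon S).map_surjective (hae.rep.fst (c i ≫ g i))
  have sqT' : ∀ i, IsPullback ((yon S).map (p i)) ((yon S).map (hae.rep.snd (c i ≫ g i))) a
      (c i ≫ g i) := fun i => by rw [hp i]; exact sqT i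
  have hae' : ∀ i, RepWith @Etale ((yon S).map (hae.rep.snd (c i ≫ g i)) ≫ c i) := fun i =>
    MorphismProperty.comp_mem _ _ _ ((repWith_yon_map_iff _ _).2 (hq i)) (hce i)
  have hpQ : ∀ i, Q (p i).left := fun i =>
    hgQ i ((yon S).map (hae.rep.snd (c i ≫ g i)) ≫ c i) a (p i) (hae' i) hae (by
      rw [Category.assoc]; exact (sqT' i).w.symm)
  refine hQ (fun i => (hae.rep.pullback (c i ≫ g i)).left) (fun i => (p i).left)
    hpQ ?_ h.left ?_
  · intro x
    obtain ⟨i, n, hn⟩ := hgs (Points.map a (Points.schemeHomeo U x))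
    obtain ⟨w, rfl⟩ := (S9906.repWith_surjective_iff (c i) (hcs i).rep).1 (hcs i) n
    obtain ⟨z, hz, -⟩ := Points.exists_of_isPullback (sqT' i) (Points.schemeHomeo U x) w (by
      rw [← hn]; exact (Points.map_comp _ _ w).symm)
    obtain ⟨t, rfl⟩ := (Points.schemeHomeo _).surjective z
    rw [Points.map_yon_map_apply] at hz
    exact ⟨i, t, (Points.schemeHomeo U).injective hz⟩
  · intro i
    have := hf i ((yon S).map (hae.rep.snd (c i ≫ g i)) ≫ c i) b (p i ≫ h) (hae' i) hbe (by
      rw [Functor.map_comp, Category.assoc ((yon S).map (p i)), ← hh,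
        ← Category.assoc ((yon S).map (p i)), (sqT' i).w]
      simp only [Category.assoc])
    rwa [Over.comp_left] at this

/-- Flatness can be checked after precomposition with a jointly surjective flat family. -/
theorem flat_of_family_comp {ι : Type u} {U V : Scheme.{u}} (T : ι → Scheme.{u})
    (p : ∀ i, T i ⟶ U) (hpf : ∀ i, Flat (p i)) (hps : ∀ x : U, ∃ i, x ∈ Set.range (p i))
    (h : U ⟶ V) (hh : ∀ i, Flat (p i ≫ h)) : Flat h := by
  have h1 : Flat (Sigma.desc p) := IsZariskiLocalAtSource.sigmaDesc (P := @Flat) hpf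
  have h2 : Surjective (Sigma.desc p) := by
    refine ⟨fun x => ?_⟩
    obtain ⟨i, t, rfl⟩ := hps x
    refine ⟨(Sigma.ι T i) t, ?_⟩
    rw [← Scheme.Hom.comp_apply, Sigma.ι_desc]
  refine flat_of_flat_surjective_comp (Sigma.desc p) h ?_
  have : Sigma.desc p ≫ h = Sigma.desc (fun i => p i ≫ h) := by
    apply Sigma.hom_ext
    intro i
    rw [Sigma.ι_desc, ← Category.assoc, Sigma.ι_desc]
  rw [this]
  exact IsZariskiLocalAtSource.sigmaDesc hh

/-- Flatness is local on the source for jointly surjective families of flat morphisms of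
algebraic spaces. -/
theorem locP_flat_of_flat_cover_comp {ι : Type u} {X Y : Sp S} (Xi : ι → Sp S)
    (g : ∀ i, Xi i ⟶ X) (hX : IsAlgSpace X) (hXi : ∀ i, IsAlgSpace (Xi i))
    (hgQ : ∀ i, LocP @Flat (g i))
    (hgs : ∀ x : Points X, ∃ i, x ∈ Set.range (Points.map (g i)))
    (f : X ⟶ Y) (hY : IsAlgSpace Y) (hf : ∀ i, LocP @Flat (g i ≫ f)) : LocP @Flat f :=
  locP_of_cover_comp isEtLocal_flat
    (fun T p hp hs h hh => flat_of_family_comp T p hp hs h hh) Xi g hX hXi hgQ hgs f hY hf

theorem isLocalOnSource_fpqc_locP_flat :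
    IsLocalOnSource (IsFpqcCover (S := S)) (LocP @Flat) := by
  intro ι X Xi g hX hXi hcov Y f hY
  constructor
  · intro hf i
    exact locP_comp isEtLocal_flat (hXi i) hX hY (g i) f (hcov.1 i) hf
  · intro hf
    exact locP_flat_of_flat_cover_comp Xi g hX hXi hcov.1
      (HasStdRefinement.jointly_surjective hcov.2) f hY hf

end Groth.Agent.Lib.Helper3
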