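import Groth.Agent.Lib.Helper3.AlgSpPoints
import Groth.Agent.S9884
import Mathlib.AlgebraicGeometry.Morphisms.UniversallyOpen
import Mathlib.AlgebraicGeometry.Morphisms.UniversallyClosed
import Mathlib.AlgebraicGeometry.Morphisms.UniversallyInjective

set_option autoImplicit false
universe u
open CategoryTheory CategoryTheory.Limits AlgebraicGeometry Opposite MorphismProperty

namespace Groth.Agent.Lib.Helper3

variable {S : Scheme.{u}}

open AlgSp

/-- For a pullback square of sheaves, the preimage of an image is the image of the preimage, on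
points. -/
theorem Points.preimage_image_of_isPullback {F G H P : Sp S} {f : F ⟶ G} {g : H ⟶ G}
    {fst : P ⟶ F} {snd : P ⟶ H} (sq : IsPullback fst snd f g) (Ω : Set (Points F)) :
    Points.map g ⁻¹' (Points.map f '' Ω) = Points.map snd '' (Points.map fst ⁻¹' Ω) := by
  ext y
  constructor
  · rintro ⟨x, hx, hxy⟩
    obtain ⟨z, hz1, hz2⟩ := Points.exists_of_isPullback sq x y hxy
    exact ⟨z, by simpa [hz1] using hx, hz2⟩
  · rintro ⟨z, hz, rfl⟩
    refine ⟨Points.map fst z, hz, ?_⟩
    rw [← Points.map_comp, ← Points.map_comp, sq.w]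

theorem Points.ofPt_eq {F : Sp S} {T : Over S} (g : (yon S).obj T ⟶ F) :
    Points.ofPt g = Points.map g ∘ Points.schemeHomeo T := by
  funext t
  exact Points.ofPt_eq_map_ofScheme g t

/-- Transport of subsets of a scheme along a represented pullback square. -/
theorem Points.ofPt_preimage_image {F G : Sp S} {f : F ⟶ G} {T V : Over S}
    {g : (yon S).obj T ⟶ G} {fstV : (yon S).obj V ⟶ F} {sndV : V ⟶ T}
    (sq : IsPullback fstV ((yon S).map sndV) f g) (Ω : Set (Points F)) :
    Points.ofPt g ⁻¹' (Points.map f '' Ω) = sndV.left '' (Points.ofPt fstV ⁻¹' Ω) := by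
  rw [Points.ofPt_eq, Points.ofPt_eq, Set.preimage_comp, Set.preimage_comp,
    Points.preimage_image_of_isPullback sq]
  ext t
  constructor
  · rintro ⟨z, hz, hzt⟩
    obtain ⟨v, rfl⟩ := (Points.schemeHomeo V).surjective z
    refine ⟨v, hz, ?_⟩
    rw [Points.map_yon_map_apply] at hzt
    exact (Points.schemeHomeo T).injective hzt
  · rintro ⟨v, hv, rfl⟩
    exact ⟨Points.schemeHomeo V v, hv, Points.map_yon_map_apply sndV v⟩

theorem isOpenMap_map_of_repWith {F G : Sp S} {f : F ⟶ G} (hf : RepWith @UniversallyOpen f) :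
    IsOpenMap (Points.map f) := by
  intro Ω hΩ
  rw [Points.isOpen_iff]
  intro T g
  have sq := hf.rep.isPullback g
  rw [Points.ofPt_preimage_image sq]
  have : UniversallyOpen (hf.rep.snd g).left := hf.property_snd g
  exact (hf.rep.snd g).left.isOpenMap _ (hΩ.preimage (Points.continuous_ofPt _))

theorem isClosedMap_map_of_repWith {F G : Sp S} {f : F ⟶ G} (hf : RepWith @UniversallyClosed f) :
    IsClosedMap (Points.map f) := by
  intro Ω hΩ
  rw [← isOpen_compl_iff, Points.isOpen_iff]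
  intro T g
  have sq := hf.rep.isPullback g
  rw [Set.preimage_compl, isOpen_compl_iff, Points.ofPt_preimage_image sq]
  have : UniversallyClosed (hf.rep.snd g).left := hf.property_snd g
  exact (hf.rep.snd g).left.isClosedMap _ (hΩ.preimage (Points.continuous_ofPt _))

/-- The square of sheaves obtained from a base change of schemes of a represented pullback. -/
theorem exists_univ_square {X Y : Sp S} {f : X ⟶ Y} {U V : Over S} {g : (yon S).obj U ⟶ Y}
    {fstV : (yon S).obj V ⟶ X} {sndV : V ⟶ U} (sq : IsPullback fstV ((yon S).map sndV) f g)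
    {U' V' : Scheme.{u}} (i₁ : V' ⟶ V.left) (i₂ : U' ⟶ U.left) (f' : V' ⟶ U')
    (h : IsPullback f' i₁ i₂ sndV.left) :
    ∃ (fst'' : (yon S).obj (Over.mk (f' ≫ i₂ ≫ U.hom)) ⟶ X)
      (g'' : (yon S).obj (Over.mk (i₂ ≫ U.hom)) ⟶ Y),
      IsPullback fst'' ((yon S).map (Over.homMk f' rfl :
        Over.mk (f' ≫ i₂ ≫ U.hom) ⟶ Over.mk (i₂ ≫ U.hom))) f g'' := by
  have hV : sndV.left ≫ U.hom = V.hom := Over.w sndV
  have hw : i₁ ≫ V.hom = f' ≫ i₂ ≫ U.hom := by
    rw [← hV, ← Category.assoc, ← h.w, Category.assoc]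
  let i₂' : Over.mk (i₂ ≫ U.hom) ⟶ U := Over.homMk i₂ rfl
  let i₁' : Over.mk (f' ≫ i₂ ≫ U.hom) ⟶ V := Over.homMk i₁ hw
  let f'' : Over.mk (f' ≫ i₂ ≫ U.hom) ⟶ Over.mk (i₂ ≫ U.hom) := Over.homMk f' rfl
  have sq1 : IsPullback i₁' f'' sndV i₂' := by
    refine IsPullback.of_map (Over.forget S) ?_ ?_
    · ext; exact h.w.symm
    · exact h.flip
  have sq2 := (sq1.map (yon S)).paste_horiz sq
  exact ⟨_, _, sq2⟩

theorem repWith_universallyOpen_of_isUnivOpenMor {X Y : Sp S} {f : X ⟶ Y} (hf : Representable f)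
    (h : IsUnivOpenMor f) : RepWith @UniversallyOpen f := by
  refine ⟨hf, fun U V g fstV sndV sq => ?_⟩
  change UniversallyOpen sndV.left
  rw [UniversallyOpen.eq]
  intro V' U' i₁ i₂ f' hsq
  obtain ⟨fst'', g'', sq''⟩ := exists_univ_square sq i₁ i₂ f' hsq
  have h1 : IsOpenMap (Points.map ((yon S).map (Over.homMk f' rfl :
      Over.mk (f' ≫ i₂ ≫ U.hom) ⟶ Over.mk (i₂ ≫ U.hom)))) :=
    h (IsAlgSpace.yon_obj _) g'' fst'' _ sq''
  rw [Points.map_yon_map_eq] at h1
  have h2 := ((Points.schemeHomeo _).symm.isOpenMap.comp h1).comp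
    (Points.schemeHomeo (Over.mk (f' ≫ i₂ ≫ U.hom))).isOpenMap
  have h3 : IsOpenMap (fun t => f' t) := by
    simpa [Function.comp_def] using h2
  exact h3

theorem isUnivOpenMor_of_repWith {X Y : Sp S} {f : X ⟶ Y} (h : RepWith @UniversallyOpen f) :
    IsUnivOpenMor f := by
  intro Z Z' _ g fst snd sq
  exact isOpenMap_map_of_repWith (MorphismProperty.of_isPullback sq h)

end Groth.Agent.Lib.Helper3
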