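import Groth.Prelude.Def_AlgSp4

set_option autoImplicit false
universe u
open CategoryTheory CategoryTheory.Limits AlgebraicGeometry Opposite

namespace Groth.Agent.Lib.Helper3

variable {S : Scheme.{u}}

open AlgSp

/-- The field-valued point given by a field `K` over `S` and a morphism `h_{Spec K} ⟶ F`. -/
noncomputable def fieldPtOfHom {F : Sp S} (K : Type u) [Field K] (str : Spec (.of K) ⟶ S)
    (a : (yon S).obj (Over.mk str) ⟶ F) : FieldPt F :=
  ⟨K, str, (J S).uliftYonedaEquiv.{u+1} a⟩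

theorem fieldPt_eq_ofHom {F : Sp S} (p : FieldPt F) :
    p = fieldPtOfHom p.K p.str ((J S).uliftYonedaEquiv.{u+1}.symm p.val) := by
  obtain ⟨K, str, val⟩ := p
  simp only [fieldPtOfHom, Equiv.apply_symm_apply]

theorem map_fieldPtOfHom {F G : Sp S} (f : F ⟶ G) (K : Type u) [Field K] (str : Spec (.of K) ⟶ S)
    (a : (yon S).obj (Over.mk str) ⟶ F) :
    (fieldPtOfHom K str a).map f = fieldPtOfHom K str (a ≫ f) := by
  simp only [fieldPtOfHom, FieldPt.map]
  congr 1

/-- Restricting a field-valued point along a morphism of spectra of fields gives the same point. -/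
theorem mk_fieldPtOfHom_comp {F : Sp S} {K L : Type u} [Field K] [Field L]
    {strK : Spec (.of K) ⟶ S} {strL : Spec (.of L) ⟶ S}
    (c : Over.mk strL ⟶ Over.mk strK) (a : (yon S).obj (Over.mk strK) ⟶ F) :
    Points.mk (fieldPtOfHom L strL ((yon S).map c ≫ a)) = Points.mk (fieldPtOfHom K strK a) := by
  refine Points.sound ⟨L, inferInstance, strL, 𝟙 _, c, ?_⟩
  change F.obj.map (𝟙 (Over.mk strL)).op ((J S).uliftYonedaEquiv.{u+1} ((yon S).map c ≫ a)) =
    F.obj.map c.op ((J S).uliftYonedaEquiv.{u+1} a)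
  rw [(J S).uliftYonedaEquiv_naturality.{u+1} a c]
  simp

/-- Two morphisms from spectra of fields define the same point iff they agree on a common field
extension. -/
theorem mk_fieldPtOfHom_eq_iff {F : Sp S} {K L : Type u} [Field K] [Field L]
    {strK : Spec (.of K) ⟶ S} {strL : Spec (.of L) ⟶ S}
    (a : (yon S).obj (Over.mk strK) ⟶ F) (b : (yon S).obj (Over.mk strL) ⟶ F) :
    Points.mk (fieldPtOfHom K strK a) = Points.mk (fieldPtOfHom L strL b) ↔
      ∃ (Ω : Type u) (_ : Field Ω) (w : Spec (.of Ω) ⟶ S) (c : Over.mk w ⟶ Over.mk strK)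
        (d : Over.mk w ⟶ Over.mk strL), (yon S).map c ≫ a = (yon S).map d ≫ b := by
  rw [Points.mk_eq_mk_iff]
  constructor
  · rintro ⟨Ω, _, w, c, d, h⟩
    refine ⟨Ω, inferInstance, w, c, d, ?_⟩
    apply (J S).uliftYonedaEquiv.{u+1}.injective
    rw [← (J S).uliftYonedaEquiv_naturality.{u+1} a c, ← (J S).uliftYonedaEquiv_naturality.{u+1} b d]
    exact h
  · rintro ⟨Ω, _, w, c, d, h⟩
    refine ⟨Ω, inferInstance, w, c, d, ?_⟩
    have := congrArg (J S).uliftYonedaEquiv.{u+1} h
    rw [← (J S).uliftYonedaEquiv_naturality.{u+1} a c, ← (J S).uliftYonedaEquiv_naturality.{u+1} b d]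
      at this
    exact this

/-- Every point is represented by a morphism from the spectrum of a field. -/
theorem Points.exists_hom {F : Sp S} (x : Points F) :
    ∃ (K : Type u) (_ : Field K) (str : Spec (.of K) ⟶ S)
      (a : (yon S).obj (Over.mk str) ⟶ F), x = Points.mk (fieldPtOfHom K str a) := by
  induction x using Points.ind with
  | h p => exact ⟨p.K, p.field, p.str, _, congrArg Points.mk (fieldPt_eq_ofHom p)⟩

theorem Points.map_mk_fieldPtOfHom {F G : Sp S} (f : F ⟶ G) (K : Type u) [Field K]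
    (str : Spec (.of K) ⟶ S) (a : (yon S).obj (Over.mk str) ⟶ F) :
    Points.map f (Points.mk (fieldPtOfHom K str a)) = Points.mk (fieldPtOfHom K str (a ≫ f)) := by
  rw [Points.map_mk, map_fieldPtOfHom]

/-- Points of a fibre product surject onto the fibre product of points. -/
theorem Points.exists_of_isPullback {F G H P : Sp S} {f : F ⟶ G} {g : H ⟶ G} {fst : P ⟶ F}
    {snd : P ⟶ H} (sq : IsPullback fst snd f g) (x : Points F) (y : Points H)
    (hxy : Points.map f x = Points.map g y) :
    ∃ z : Points P, Points.map fst z = x ∧ Points.map snd z = y := by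
  obtain ⟨K, _, strK, a, rfl⟩ := Points.exists_hom x
  obtain ⟨L, _, strL, b, rfl⟩ := Points.exists_hom y
  rw [Points.map_mk_fieldPtOfHom, Points.map_mk_fieldPtOfHom, mk_fieldPtOfHom_eq_iff] at hxy
  obtain ⟨Ω, _, w, c, d, h⟩ := hxy
  have hw : ((yon S).map c ≫ a) ≫ f = ((yon S).map d ≫ b) ≫ g := by
    simpa only [Category.assoc] using h
  refine ⟨Points.mk (fieldPtOfHom Ω w (sq.lift _ _ hw)), ?_, ?_⟩
  · rw [Points.map_mk_fieldPtOfHom, sq.lift_fst, mk_fieldPtOfHom_comp]
  · rw [Points.map_mk_fieldPtOfHom, sq.lift_snd, mk_fieldPtOfHom_comp]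

end Groth.Agent.Lib.Helper3
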