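import Groth.Agent.Lib.Helper3.AlgSpPoints2
import Groth.Agent.S9906
import Groth.Agent.S9936

set_option autoImplicit false
universe u
open CategoryTheory CategoryTheory.Limits AlgebraicGeometry Opposite MorphismProperty

namespace Groth.Agent.Lib.Helper3

variable {S : Scheme.{u}}

open AlgSp

theorem surjective_map_of_repWith {F G : Sp S} {f : F ⟶ G} (hf : RepWith @Surjective f) :
    Function.Surjective (Points.map f) :=
  (Groth.Agent.S9906.repWith_surjective_iff f hf.rep).1 hf

theorem repWith_universallyOpen_of_etale {F G : Sp S} {f : F ⟶ G} (hf : RepWith @Etale f) :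
    RepWith @UniversallyOpen f := by
  refine MorphismProperty.relative_monotone ?_ _ hf
  intro A B g hg
  have : Etale ((Over.forget S).map g) := hg
  change UniversallyOpen ((Over.forget S).map g)
  infer_instance

theorem isOpenMap_map_of_etale {F G : Sp S} {f : F ⟶ G} (hf : RepWith @Etale f) :
    IsOpenMap (Points.map f) :=
  isOpenMap_map_of_repWith (repWith_universallyOpen_of_etale hf)

/-- A quasi-compact sheaf has a compact space of points. -/
theorem compactSpace_points_of_isQuasiCompactSp {F : Sp S} (hF : IsQuasiCompactSp F) :
    CompactSpace (Points F) := by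
  obtain ⟨W, p, _, hps, hW⟩ := hF
  have hs := surjective_map_of_repWith hps
  have : CompactSpace (Points ((yon S).obj W)) := (Points.schemeHomeo W).compactSpace
  refine ⟨?_⟩
  rw [← hs.range_eq]
  exact isCompact_range (Points.continuous_map p)

theorem compactSpace_of_isQuasiCompactSp_yon {T : Over S}
    (h : IsQuasiCompactSp ((yon S).obj T)) : CompactSpace ↥T.left := by
  have := compactSpace_points_of_isQuasiCompactSp h
  exact (Points.schemeHomeo T).symm.compactSpace

theorem isQuasiCompactSp_yon {T : Over S} (h : CompactSpace ↥T.left) :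
    IsQuasiCompactSp ((yon S).obj T) :=
  ⟨T, 𝟙 _, repWith_id _ T, repWith_id _ T, h⟩

end Groth.Agent.Lib.Helper3
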