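import Mathlib

set_option autoImplicit false
universe u
open CategoryTheory CategoryTheory.Limits AlgebraicGeometry

namespace Groth.Agent.Lib.Helper3

/-- Any morphism out of the spectrum of a field is quasi-compact (version for `CommRingCat`). -/
theorem quasiCompact_fromSpecResidueField (Y : Scheme.{u}) (y : Y) :
    QuasiCompact (Y.fromSpecResidueField y) := by
  refine ⟨fun U _ _ => ?_⟩
  have : Finite ↥(Spec (Y.residueField y)) :=
    (inferInstance : Finite (PrimeSpectrum (Y.residueField y)))
  exact (Set.toFinite _).isCompact

/-- An etale ring map is quasi-finite. -/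
theorem ringHom_quasiFinite_of_etale {R T : Type u} [CommRing R] [CommRing T] (φ : R →+* T)
    (h : φ.Etale) : φ.QuasiFinite := by
  algebraize [φ]
  change Algebra.QuasiFinite R T
  infer_instance

/-- Etale morphisms are locally quasi-finite. -/
theorem locallyQuasiFinite_of_etale {X Y : Scheme.{u}} (f : X ⟶ Y) [Etale f] :
    LocallyQuasiFinite f := by
  refine ⟨fun {U} hU {V} hV e => ?_⟩
  exact ringHom_quasiFinite_of_etale _ (HasRingHomProperty.appLE (P := @Etale) f inferInstance
    ⟨U, hU⟩ ⟨V, hV⟩ e)

/-- A locally quasi-finite morphism with quasi-compact source has finite fibres. -/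
theorem finite_preimage_singleton_of_compactSpace {X Y : Scheme.{u}} (f : X ⟶ Y)
    [LocallyQuasiFinite f] [CompactSpace X] (y : Y) : (f ⁻¹' {y}).Finite := by
  have : QuasiCompact (Y.fromSpecResidueField y) := quasiCompact_fromSpecResidueField Y y
  have : QuasiCompact (f.fiberι y) :=
    MorphismProperty.pullback_fst (P := @QuasiCompact) f (Y.fromSpecResidueField y) this
  have : CompactSpace ↥(f.fiber y) := QuasiCompact.compactSpace_of_compactSpace (f.fiberι y)
  have : IsArtinianScheme (f.fiber y) := {}
  simpa [Scheme.Hom.range_fiberι] using Set.finite_univ.image (f.fiberι y)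

/-- There are no nontrivial specializations in a fibre of a locally quasi-finite morphism. -/
theorem eq_of_specializes_of_map_eq {X Y : Scheme.{u}} (f : X ⟶ Y) [LocallyQuasiFinite f]
    {r r' : X} (h : r' ⤳ r) (he : f r' = f r) : r' = r := by
  have hd := f.isDiscrete_preimage_singleton (f r)
  have : DiscreteTopology ↥(f ⁻¹' {f r}) := hd.to_subtype
  let a : ↥(f ⁻¹' {f r}) := ⟨r, rfl⟩
  let a' : ↥(f ⁻¹' {f r}) := ⟨r', he⟩
  have h' : a' ⤳ a := (subtype_specializes_iff a' a).2 h
  exact congrArg Subtype.val h'.eq

/-- A quasi-compact scheme etale over a field is finite. -/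
theorem finite_of_etale_of_compactSpace {K : Type u} [Field K] {F : Scheme.{u}}
    (g : F ⟶ Spec (CommRingCat.of K)) [Etale g] [CompactSpace F] : Finite F := by
  have := locallyQuasiFinite_of_etale g
  have h := finite_preimage_singleton_of_compactSpace g (IsLocalRing.closedPoint K)
  have hsub : (Set.univ : Set ↥F) ⊆ g ⁻¹' {IsLocalRing.closedPoint K} := by
    intro w _
    have : Subsingleton ↥(Spec (CommRingCat.of K)) :=
      (inferInstance : Subsingleton (PrimeSpectrum K))
    exact Subsingleton.elim _ _
  exact Set.finite_univ_iff.1 (h.subset hsub)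

end Groth.Agent.Lib.Helper3
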