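import Groth.Prelude.Def_AlgSpDec
import Groth.Agent.Lib.Helper3.AlgSpPoints2
import Groth.Agent.Lib.Helper3.AlgSpLocSrc2
import Groth.Agent.Lib.Helper3.AlgSpQC
import Groth.Agent.Lib.Helper3.FinFib

set_option autoImplicit false
universe u
open CategoryTheory CategoryTheory.Limits AlgebraicGeometry Opposite

namespace Groth.Agent.Lib.Helper3

variable {S : Scheme.{u}}

open AlgSp

section pullbackCharts

variable {X : Sp S} {U T W : Over S} {a : (yon S).obj U ⟶ X} {b : (yon S).obj T ⟶ X}
  {pU : W ⟶ U} {pT : W ⟶ T}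

/-- The two images in `|X|` of a point of a represented pullback of two charts agree. -/
theorem ofPt_comm_of_isPullback (sq : IsPullback ((yon S).map pU) ((yon S).map pT) a b)
    (w : ↥W.left) : Points.ofPt a (pU.left w) = Points.ofPt b (pT.left w) := by
  rw [← Points.ofPt_yon_map_comp, ← Points.ofPt_yon_map_comp, sq.w]

/-- Two points of two charts with the same image in `|X|` come from a point of the represented
pullback. -/
theorem exists_of_ofPt_eq_of_isPullback (sq : IsPullback ((yon S).map pU) ((yon S).map pT) a b)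
    (u : ↥U.left) (t : ↥T.left) (h : Points.ofPt a u = Points.ofPt b t) :
    ∃ w : ↥W.left, pU.left w = u ∧ pT.left w = t := by
  rw [Points.ofPt_eq_map_ofScheme, Points.ofPt_eq_map_ofScheme] at h
  obtain ⟨z, hz1, hz2⟩ := Points.exists_of_isPullback sq _ _ h
  obtain ⟨w, rfl⟩ := (Points.schemeHomeo W).surjective z
  refine ⟨w, ?_, ?_⟩
  · apply (Points.schemeHomeo U).injective
    rw [← Points.map_yon_map_apply]
    exact hz1
  · apply (Points.schemeHomeo T).injective
    rw [← Points.map_yon_map_apply]
    exact hz2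

end pullbackCharts

/-- The represented pullback of a representable chart with any other chart. -/
theorem exists_pullback_charts {X : Sp S} {U T : Over S} (a : (yon S).obj U ⟶ X)
    (ha : Representable a) (b : (yon S).obj T ⟶ X) :
    ∃ (W : Over S) (pU : W ⟶ U) (pT : W ⟶ T),
      IsPullback ((yon S).map pU) ((yon S).map pT) a b := by
  obtain ⟨W, pT, fst, sq⟩ := ha b
  obtain ⟨pU, rfl⟩ := (yon S).map_surjective fst
  exact ⟨W, pU, pT, sq⟩

/-- For an etale chart `a`, the map `|U| → |X|` is open. -/
theorem isOpenMap_ofPt {X : Sp S} {U : Over S} (a : (yon S).obj U ⟶ X) (ha : RepWith @Etale a) :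
    IsOpenMap (Points.ofPt a) := by
  rw [Points.ofPt_eq]
  exact (isOpenMap_map_of_etale ha).comp (Points.schemeHomeo U).isOpenMap

/-- Restriction of a chart to an open subscheme. -/
noncomputable def chartRestrict {X : Sp S} {U : Over S} (a : (yon S).obj U ⟶ X) (W : U.left.Opens) :
    (yon S).obj (Over.mk (W.ι ≫ U.hom)) ⟶ X :=
  (yon S).map (Over.homMk W.ι rfl : Over.mk (W.ι ≫ U.hom) ⟶ U) ≫ a

theorem chartRestrict_etale {X : Sp S} {U : Over S} (a : (yon S).obj U ⟶ X)
    (ha : RepWith @Etale a) (W : U.left.Opens) : RepWith @Etale (chartRestrict a W) := by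
  refine (RepWith @Etale).comp_mem _ _ ?_ ha
  rw [repWith_yon_map_iff]
  change Etale W.ι
  infer_instance

theorem ofPt_chartRestrict {X : Sp S} {U : Over S} (a : (yon S).obj U ⟶ X) (W : U.left.Opens)
    (w : ↥(Over.mk (W.ι ≫ U.hom)).left) :
    Points.ofPt (chartRestrict a W) w = Points.ofPt a (W.ι w) :=
  Points.ofPt_yon_map_comp (Over.homMk W.ι rfl : Over.mk (W.ι ≫ U.hom) ⟶ U) a w

/-- If `p` is a field-valued point with `p.toHom` representable quasi-compact, the fibre over the
point of `p` of an etale chart with quasi-compact source is finite. -/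
theorem finite_fibre_of_qc_point {X : Sp S} (p : FieldPt X) (hq : RepWith @QuasiCompact p.toHom)
    {V : Over S} [CompactSpace ↥V.left] (b : (yon S).obj V ⟶ X) (hb : RepWith @Etale b) :
    (Points.ofPt b ⁻¹' {Points.mk p}).Finite := by
  obtain ⟨F, pV, pK, sq⟩ := exists_pullback_charts b hb.1 p.toHom
  have hpK : Etale pK.left := hb.2 p.toHom ((yon S).map pV) pK sq
  have hpV : QuasiCompact pV.left := hq.2 b ((yon S).map pK) pV sq.flip
  have : CompactSpace ↥F.left := QuasiCompact.compactSpace_of_compactSpace pV.left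
  have hfin : Finite ↥F.left := by
    have : Etale (show F.left ⟶ Spec (CommRingCat.of p.K) from pK.left) := hpK
    exact finite_of_etale_of_compactSpace (show F.left ⟶ Spec (CommRingCat.of p.K) from pK.left)
  refine (Set.finite_range pV.left).subset ?_
  intro v hv
  have hv' : Points.ofPt b v = Points.ofPt p.toHom (IsLocalRing.closedPoint p.K) := by
    rw [Points.ofPt_toHom]; exact hv
  obtain ⟨w, hw, -⟩ := exists_of_ofPt_eq_of_isPullback sq v _ hv'
  exact ⟨w, hw⟩

end Groth.Agent.Lib.Helper3
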