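import Groth.Agent.Lib.Helper3.EtaleDim
import Groth.Agent.Lib.Helper3.AlgSpChartPts

set_option autoImplicit false
universe u
open CategoryTheory CategoryTheory.Limits AlgebraicGeometry Opposite
open AlgSp

namespace Groth.Agent.Lib.Helper3

variable {S : Scheme.{u}}

/-- Points of two etale charts over the same point of the space have local rings of the same
dimension. -/
theorem ringKrullDim_stalk_eq_of_ofPt_eq {X : Sp S} {U U' : Over S} (a : (yon S).obj U ⟶ X)
    (a' : (yon S).obj U' ⟶ X) (ha : RepWith @Etale a) (ha' : RepWith @Etale a') (u : ↥U.left)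
    (u' : ↥U'.left) (h : Points.ofPt a u = Points.ofPt a' u') :
    ringKrullDim (U.left.presheaf.stalk u) = ringKrullDim (U'.left.presheaf.stalk u') := by
  obtain ⟨W, pU, pU', sq⟩ := exists_pullback_charts a ha.1 a'
  obtain ⟨w, rfl, rfl⟩ := exists_of_ofPt_eq_of_isPullback sq u u' h
  have h1 : Etale pU.left := ha'.2 a ((yon S).map pU') pU sq.flip
  have h2 : Etale pU'.left := ha.2 a' ((yon S).map pU) pU' sq
  rw [← ringKrullDim_stalk_eq_of_etale pU.left w, ← ringKrullDim_stalk_eq_of_etale pU'.left w]

end Groth.Agent.Lib.Helper3
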