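import Groth.Agent.Lib.Helper3.FppfLocal
import Mathlib.AlgebraicGeometry.ZariskisMainTheorem
import Mathlib.AlgebraicGeometry.Morphisms.Proper

set_option autoImplicit false
universe u
open CategoryTheory CategoryTheory.Limits AlgebraicGeometry MorphismProperty

namespace Groth.Agent.Lib.Helper3

theorem flat_codescendsAlong_faithfullyFlat :
    RingHom.CodescendsAlong RingHom.Flat RingHom.FaithfullyFlat := by
  refine .mk _ RingHom.Flat.respectsIso fun R S T _ _ _ _ _ h h' ↦ ?_
  rw [RingHom.flat_algebraMap_iff] at h' ⊢
  rw [RingHom.faithfullyFlat_algebraMap_iff] at h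
  exact Module.Flat.of_flat_tensorProduct (R := R) (M := T) S

instance descendsAlong_flat_fpqc :
    DescendsAlong @Flat (@Surjective ⊓ @Flat ⊓ @QuasiCompact) :=
  HasRingHomProperty.descendsAlong_flat flat_codescendsAlong_faithfullyFlat

theorem isLocalAtTarget_fppf_flat :
    MorphismProperty.IsLocalAtTarget (@Flat : MorphismProperty Scheme.{u})
      Scheme.fppfPrecoverage.{u} := isLocalAtTarget_fppf _

theorem isClosedImmersion_eq :
    (@IsClosedImmersion : MorphismProperty Scheme.{u}) =
      (((@UniversallyClosed : MorphismProperty Scheme.{u}) ⊓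
        (@LocallyOfFiniteType : MorphismProperty Scheme.{u})) ⊓
          MorphismProperty.monomorphisms Scheme.{u} : MorphismProperty Scheme.{u}) := by
  ext X Y f
  constructor
  · intro h
    have : IsClosedImmersion f := h
    exact ⟨⟨inferInstance, inferInstance⟩, inferInstanceAs (Mono f)⟩
  · rintro ⟨⟨h1, h2⟩, h3⟩
    have : Mono f := h3
    have : UniversallyClosed f := h1
    have : LocallyOfFiniteType f := h2
    have : IsProper f := { }
    exact (IsClosedImmersion.iff_isProper_and_mono f).2 ⟨inferInstance, inferInstance⟩

theorem isLocalAtTarget_fppf_isClosedImmersion :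
    MorphismProperty.IsLocalAtTarget (@IsClosedImmersion : MorphismProperty Scheme.{u})
      Scheme.fppfPrecoverage.{u} := by
  rw [isClosedImmersion_eq]
  have := isLocalAtTarget_fppf_universallyClosed.{u}
  have := isLocalAtTarget_fppf_lft.{u}
  have := isLocalAtTarget_fppf_monomorphisms.{u}
  infer_instance

instance descendsAlong_isClosedImmersion :
    DescendsAlong (@IsClosedImmersion : MorphismProperty Scheme.{u})
      (@Surjective ⊓ @Flat ⊓ @LocallyOfFinitePresentation) := by
  rw [isClosedImmersion_eq]
  infer_instance

theorem isSeparated_eq_diagonal :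
    (@IsSeparated : MorphismProperty Scheme.{u}) =
      MorphismProperty.diagonal (@IsClosedImmersion : MorphismProperty Scheme.{u}) := by
  ext X Y f
  exact isSeparated_iff f

instance descendsAlong_isSeparated :
    DescendsAlong (@IsSeparated : MorphismProperty Scheme.{u})
      (@Surjective ⊓ @Flat ⊓ @LocallyOfFinitePresentation) := by
  rw [isSeparated_eq_diagonal]
  infer_instance

theorem isLocalAtTarget_fppf_isSeparated :
    MorphismProperty.IsLocalAtTarget (@IsSeparated : MorphismProperty Scheme.{u})
      Scheme.fppfPrecoverage.{u} := isLocalAtTarget_fppf _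

theorem isLocalAtTarget_fppf_isProper :
    MorphismProperty.IsLocalAtTarget (@IsProper : MorphismProperty Scheme.{u})
      Scheme.fppfPrecoverage.{u} := by
  rw [isProper_eq]
  have := isLocalAtTarget_fppf_universallyClosed.{u}
  have := isLocalAtTarget_fppf_lft.{u}
  have := isLocalAtTarget_fppf_isSeparated.{u}
  infer_instance

instance descendsAlong_quasiCompact_fpqc :
    DescendsAlong (@QuasiCompact : MorphismProperty Scheme.{u})
      (@Surjective ⊓ @Flat ⊓ @QuasiCompact) := by
  refine IsZariskiLocalAtTarget.descendsAlong_inf_quasiCompact _ _ ?_ ?_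
  · rw [inf_comm]
    exact inf_le_inf le_rfl (IsLocalIso.le_of_isZariskiLocalAtSource _)
  · intro R S Y φ g hφ hg
    have : Surjective (Spec.map φ) := hφ.1
    have : QuasiCompact (pullback.fst (Spec.map φ) g) := hg
    have : CompactSpace ↥(pullback (Spec.map φ) g) :=
      QuasiCompact.compactSpace_of_compactSpace (pullback.fst (Spec.map φ) g)
    have hs : Function.Surjective (pullback.snd (Spec.map φ) g) :=
      (pullback.snd (Spec.map φ) g).surjective
    have : CompactSpace ↥Y := by
      refine ⟨?_⟩
      rw [← hs.range_eq]
      exact isCompact_range (pullback.snd (Spec.map φ) g).continuous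
    exact HasAffineProperty.iff_of_isAffine.mpr this

theorem isLocalAtTarget_fppf_quasiCompact :
    MorphismProperty.IsLocalAtTarget (@QuasiCompact : MorphismProperty Scheme.{u})
      Scheme.fppfPrecoverage.{u} := isLocalAtTarget_fppf _

end Groth.Agent.Lib.Helper3
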