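import Groth.Agent.Lib.Helper3.AlgSpSep
import Groth.Agent.Lib.Helper3.FppfLocal2

set_option autoImplicit false
universe u
open CategoryTheory CategoryTheory.Limits AlgebraicGeometry MorphismProperty

namespace Groth.Agent.Lib.Helper3

section cat

variable {D : Type*} [Category D] [HasPullbacks D] {P X Z Y : D} {fst : P ⟶ X} {snd : P ⟶ Z}
  {f : X ⟶ Y} {g : Z ⟶ Y}

/-- The diagonal of a base change is the base change of the diagonal. -/
theorem isPullback_diagonal_of_isPullback (sq : IsPullback fst snd f g) :
    IsPullback fst (pullback.diagonal snd) (pullback.diagonal f)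
      (pullback.map snd snd f f fst fst g sq.w.symm sq.w.symm) := by
  refine IsPullback.mk' ?_ ?_ ?_
  · apply pullback.hom_ext
    · simp only [Category.assoc, pullback.diagonal_fst, Category.comp_id, pullback.lift_fst,
        pullback.diagonal_fst_assoc]
    · simp only [Category.assoc, pullback.diagonal_snd, Category.comp_id, pullback.lift_snd,
        pullback.diagonal_snd_assoc]
  · intro T φ φ' _ h
    have := h =≫ pullback.fst snd snd
    simpa only [Category.assoc, pullback.diagonal_fst, Category.comp_id] using this
  · intro T x y hxy
    have h1 : x = y ≫ pullback.fst snd snd ≫ fst := by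
      have := hxy =≫ pullback.fst f f
      simpa only [Category.assoc, pullback.diagonal_fst, Category.comp_id, pullback.lift_fst]
        using this
    have h2 : x = y ≫ pullback.snd snd snd ≫ fst := by
      have := hxy =≫ pullback.snd f f
      simpa only [Category.assoc, pullback.diagonal_snd, Category.comp_id, pullback.lift_snd]
        using this
    have h3 : y ≫ pullback.fst snd snd = y ≫ pullback.snd snd snd := by
      apply sq.hom_ext
      · rw [Category.assoc, Category.assoc, ← h1, ← h2]
      · rw [Category.assoc, Category.assoc, pullback.condition]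
    refine ⟨y ≫ pullback.fst snd snd, by rw [Category.assoc, ← h1], ?_⟩
    apply pullback.hom_ext
    · simp only [Category.assoc, pullback.diagonal_fst, Category.comp_id]
    · simp only [Category.assoc, pullback.diagonal_snd, Category.comp_id, h3]

/-- `P ×_Z P ⟶ X ×_Y X` is a base change of `g : Z ⟶ Y`. -/
theorem isPullback_map_of_isPullback (sq : IsPullback fst snd f g) :
    IsPullback (pullback.map snd snd f f fst fst g sq.w.symm sq.w.symm) (pullback.fst snd snd ≫ snd)
      (pullback.fst f f ≫ f) g := by
  refine IsPullback.mk' ?_ ?_ ?_
  · simp only [pullback.lift_fst_assoc, Category.assoc, sq.w]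
  · intro T φ φ' h1 h2
    apply pullback.hom_ext
    · apply sq.hom_ext
      · have := h1 =≫ pullback.fst f f
        simpa only [Category.assoc, pullback.lift_fst] using this
      · simpa only [Category.assoc] using h2
    · apply sq.hom_ext
      · have := h1 =≫ pullback.snd f f
        simpa only [Category.assoc, pullback.lift_snd] using this
      · have := h2
        simp only [← Category.assoc] at this
        simpa only [Category.assoc, pullback.condition] using this
  · intro T u v huv
    have hw₁ : (u ≫ pullback.fst f f) ≫ f = v ≫ g := by simpa only [Category.assoc] using huv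
    have hw₂ : (u ≫ pullback.snd f f) ≫ f = v ≫ g := by
      rw [← huv, Category.assoc, pullback.condition]
    have hw : sq.lift _ _ hw₁ ≫ snd = sq.lift _ _ hw₂ ≫ snd := by
      rw [sq.lift_snd, sq.lift_snd]
    refine ⟨pullback.lift (sq.lift _ _ hw₁) (sq.lift _ _ hw₂) hw, ?_, ?_⟩
    · apply pullback.hom_ext
      · simp only [Category.assoc, pullback.lift_fst, pullback.lift_fst_assoc, sq.lift_fst]
      · simp only [Category.assoc, pullback.lift_snd, pullback.lift_snd_assoc, sq.lift_fst]
    · simp only [pullback.lift_fst_assoc, sq.lift_snd]

end cat

variable {S : Scheme.{u}}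

/-- Diagonal-type properties descend along an etale surjective base change. -/
theorem repWith_diagonal_of_etale_cover (P : MorphismProperty Scheme.{u})
    [P.IsStableUnderBaseChange] [P.IsLocalAtTarget Scheme.fppfPrecoverage] {X Y Z Q : AlgSp.Sp S}
    (f : X ⟶ Y) (hd : AlgSp.Representable (pullback.diagonal f)) (p : Z ⟶ Y)
    (hp : AlgSp.RepWith @Etale p) (hps : AlgSp.RepWith @Surjective p)
    {fst : Q ⟶ X} {snd : Q ⟶ Z} (sq : IsPullback fst snd f p)
    (h : AlgSp.RepWith P (pullback.diagonal snd)) : AlgSp.RepWith P (pullback.diagonal f) := by
  have sq1 := isPullback_map_of_isPullback sq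
  have : Sheaf.IsLocallySurjective (pullback.map snd snd f f fst fst p sq.w.symm sq.w.symm) :=
    Groth.Agent.S9883.isLocallySurjective_of_etale_surjective _
      (MorphismProperty.of_isPullback sq1.flip hp) (MorphismProperty.of_isPullback sq1.flip hps)
  exact Groth.Agent.S9884.result S _ _ _ (pullback.diagonal f) hd _ _ fst _
    (isPullback_diagonal_of_isPullback sq) P h

end Groth.Agent.Lib.Helper3
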