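import Mathlib
import Groth.Agent.Lib.Helper3.FppfLocal2

set_option autoImplicit false
universe u
open CategoryTheory CategoryTheory.Limits AlgebraicGeometry Opposite MorphismProperty

namespace Groth.Agent.Lib.Helper3

/-- Two pullback squares over the same cospan: transfer a property of one projection. -/
theorem prop_fst_of_isPullback {P : MorphismProperty Scheme.{u}} [P.RespectsIso]
    {W U Z T₁ T₂ : Scheme.{u}} {c : W ⟶ Z} {h : U ⟶ Z} {a₁ : T₁ ⟶ W} {b₁ : T₁ ⟶ U}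
    {a₂ : T₂ ⟶ W} {b₂ : T₂ ⟶ U} (sq₁ : IsPullback a₁ b₁ c h) (sq₂ : IsPullback a₂ b₂ c h)
    (hP : P a₁) : P a₂ := by
  have : a₂ = (sq₂.isoIsPullback _ _ sq₁).hom ≫ a₁ :=
    (IsPullback.isoIsPullback_hom_fst _ _ sq₂ sq₁).symm
  rw [this]
  exact (P.cancel_left_of_respectsIso _ _).2 hP

/-- Descent along a finite jointly surjective family of flat morphisms from affine schemes to an
affine scheme. -/
theorem of_stdFpqc_family {P : MorphismProperty Scheme.{u}} [P.IsStableUnderBaseChange]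
    [P.DescendsAlong (@Surjective ⊓ @Flat ⊓ @QuasiCompact)] [IsZariskiLocalAtTarget P]
    {U Z : Scheme.{u}} [IsAffine Z] (h : U ⟶ Z) {m : ℕ} (W : Fin m → Scheme.{u})
    (c : ∀ j, W j ⟶ Z) [∀ j, IsAffine (W j)] (hc : ∀ j, Flat (c j))
    (hs : ∀ z : Z, ∃ j, z ∈ Set.range (c j))
    (hP : ∀ j, ∃ (T : Scheme.{u}) (a : T ⟶ W j) (b : T ⟶ U), IsPullback a b (c j) h ∧ P a) :
    P h := by
  let π : (∐ W) ⟶ Z := Sigma.desc c
  have hπf : Flat π := IsZariskiLocalAtSource.sigmaDesc (P := @Flat) hc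
  have hπs : Surjective π := by
    refine ⟨fun z => ?_⟩
    obtain ⟨j, w, rfl⟩ := hs z
    refine ⟨(Sigma.ι W j) w, ?_⟩
    rw [← Scheme.Hom.comp_apply, Sigma.ι_desc]
  have hπq : QuasiCompact π := inferInstance
  refine of_isPullback_of_descendsAlong (P := P) (Q := @Surjective ⊓ @Flat ⊓ @QuasiCompact)
    (IsPullback.of_hasPullback π h) ⟨⟨hπs, hπf⟩, hπq⟩ ?_
  rw [IsZariskiLocalAtTarget.iff_of_openCover (P := P) (sigmaOpenCover W)]
  intro j
  change P (pullback.snd (pullback.fst π h) (Sigma.ι W j))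
  obtain ⟨T, a, b, sq, ha⟩ := hP j
  have sq1 := (IsPullback.of_hasPullback (pullback.fst π h) (Sigma.ι W j)).flip
  have sq2 := sq1.paste_vert (IsPullback.of_hasPullback π h)
  have hj : Sigma.ι W j ≫ π = c j := Sigma.ι_desc _ _
  rw [hj] at sq2
  exact prop_fst_of_isPullback sq sq2 ha

/-- Descent along standard fpqc coverings of the affine opens of the target. -/
theorem of_stdFpqc_family_affineOpens {P : MorphismProperty Scheme.{u}} [P.IsStableUnderBaseChange]
    [P.DescendsAlong (@Surjective ⊓ @Flat ⊓ @QuasiCompact)] [IsZariskiLocalAtTarget P]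
    {U V : Scheme.{u}} (h : U ⟶ V)
    (H : ∀ (Z : Scheme.{u}) (_ : IsAffine Z) (ι : Z ⟶ V) (_ : IsOpenImmersion ι),
      ∃ (m : ℕ) (W : Fin m → Scheme.{u}) (c : ∀ j, W j ⟶ Z), (∀ j, IsAffine (W j)) ∧
        (∀ j, Flat (c j)) ∧ (∀ z : Z, ∃ j, z ∈ Set.range (c j)) ∧
        ∀ j, ∃ (T : Scheme.{u}) (a : T ⟶ W j) (b : T ⟶ U), IsPullback a b (c j ≫ ι) h ∧ P a) :
    P h := by
  rw [IsZariskiLocalAtTarget.iff_of_openCover (P := P) V.affineCover]
  intro k
  change P (pullback.snd h (V.affineCover.f k))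
  obtain ⟨m, W, c, hW, hcf, hcs, hT⟩ := H (V.affineCover.X k) inferInstance (V.affineCover.f k)
    inferInstance
  refine of_stdFpqc_family (pullback.snd h (V.affineCover.f k)) W c hcf hcs fun j => ?_
  obtain ⟨T, a, b, sq, ha⟩ := hT j
  have hw : b ≫ h = (a ≫ c j) ≫ V.affineCover.f k := by
    rw [← sq.w, Category.assoc]
  refine ⟨T, a, pullback.lift b (a ≫ c j) hw, ?_, ha⟩
  refine (IsPullback.of_right ?_ (pullback.lift_snd _ _ _) (IsPullback.of_hasPullback h _)).flip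
  rw [pullback.lift_fst]
  exact sq.flip

end Groth.Agent.Lib.Helper3
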