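import Groth.Agent.Lib.Helper3.AlgSpLocSrc2
import Groth.Agent.Lib.Helper3.FpqcFamily

set_option autoImplicit false
universe u
open CategoryTheory CategoryTheory.Limits AlgebraicGeometry Opposite MorphismProperty

namespace Groth.Agent.Lib.Helper3

variable {S : Scheme.{u}}

open AlgSp

/-- Base change of a chart over `c : h_W ⟶ Y` along a morphism of schemes `l : V' ⟶ W`. -/
theorem exists_chart_base_change {X Y : Sp S} (f : X ⟶ Y) {W V' U : Over S}
    (c : (yon S).obj W ⟶ Y) (u : (yon S).obj U ⟶ pullback f c) (h : U ⟶ W)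
    (hue : RepWith @Etale u) (hus : RepWith @Surjective u)
    (hh : (yon S).map h = u ≫ pullback.snd f c) (l : V' ⟶ W) {Q : Sp S} (fstQ : Q ⟶ X)
    (q : Q ⟶ (yon S).obj V') (sqQ : IsPullback fstQ q f ((yon S).map l ≫ c)) :
    ∃ t : (yon S).obj (pullback h l) ⟶ Q, RepWith @Etale t ∧ RepWith @Surjective t ∧
      t ≫ q = (yon S).map (pullback.snd h l) ∧
      t ≫ fstQ = (yon S).map (pullback.fst h l) ≫ u ≫ pullback.fst f c := by
  have hw : fstQ ≫ f = (q ≫ (yon S).map l) ≫ c := by rw [sqQ.w, Category.assoc]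
  let m : Q ⟶ pullback f c := pullback.lift fstQ (q ≫ (yon S).map l) hw
  have hm1 : m ≫ pullback.fst f c = fstQ := pullback.lift_fst _ _ _
  have hm2 : m ≫ pullback.snd f c = q ≫ (yon S).map l := pullback.lift_snd _ _ _
  have sqM : IsPullback m q (pullback.snd f c) ((yon S).map l) := by
    refine IsPullback.of_right ?_ hm2 (IsPullback.of_hasPullback f c)
    rw [hm1]
    exact sqQ
  have sqT : IsPullback ((yon S).map (pullback.fst h l)) ((yon S).map (pullback.snd h l))
      ((yon S).map h) ((yon S).map l) := (IsPullback.of_hasPullback h l).map (yon S)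
  have hw2 : ((yon S).map (pullback.fst h l) ≫ u) ≫ pullback.snd f c =
      (yon S).map (pullback.snd h l) ≫ (yon S).map l := by
    rw [Category.assoc, ← hh, sqT.w]
  let t : (yon S).obj (pullback h l) ⟶ Q := sqM.lift _ _ hw2
  have ht1 : t ≫ m = (yon S).map (pullback.fst h l) ≫ u := sqM.lift_fst _ _ _
  have ht2 : t ≫ q = (yon S).map (pullback.snd h l) := sqM.lift_snd _ _ _
  have sqU : IsPullback ((yon S).map (pullback.fst h l)) t u m := by
    refine IsPullback.of_bot ?_ ht1.symm sqM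
    rw [ht2, ← hh]
    exact sqT
  refine ⟨t, MorphismProperty.of_isPullback sqU hue, MorphismProperty.of_isPullback sqU hus, ht2, ?_⟩
  rw [← hm1, ← Category.assoc, ht1, Category.assoc]

section

variable {P : MorphismProperty Scheme.{u}} (hP : IsEtLocal P)
  {ι : Type u} {X Y : Sp S} {Yi : ι → Sp S} {g : ∀ i, Yi i ⟶ Y} {f : X ⟶ Y}
  {Xi : ι → Sp S} {p : ∀ i, Xi i ⟶ Yi i} {q : ∀ i, Xi i ⟶ X}

include hP in
/-- `LocP P` descends along families admitting standard fpqc refinements, for `P` satisfying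
fpqc descent for schemes. -/
theorem locP_of_stdRefinement [P.DescendsAlong (@Surjective ⊓ @Flat ⊓ @QuasiCompact)]
    [IsZariskiLocalAtTarget P] (hX : IsAlgSpace X) (hY : IsAlgSpace Y)
    (hYi : ∀ i, IsAlgSpace (Yi i)) (hXi : ∀ i, IsAlgSpace (Xi i))
    (hcov : HasStdRefinement Yi g) (sq : ∀ i, IsPullback (q i) (p i) f (g i))
    (hp : ∀ i, LocP P (p i)) : LocP P f := by
  have := hP.stableBC
  obtain ⟨V, b, hbe, hbs⟩ := hY.atlas
  obtain ⟨U, u, h, hue, hus, hae, has, hh, hcomm⟩ := exists_chart_over hX hY f b hbe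
  refine locP_of_chart hP f _ hae (has hbs) b hbe h hcomm ?_
  refine of_stdFpqc_family_affineOpens h.left ?_
  intro Z hZ ι₀ _
  let Zo : Over S := Over.mk (ι₀ ≫ V.hom)
  let ιo : Zo ⟶ V := Over.homMk ι₀ rfl
  obtain ⟨m, W, c, hWa, hcf, hcs, hl⟩ := hcov Zo hZ ((yon S).map ιo ≫ b)
  refine ⟨m, fun j => (W j).left, fun j => (c j).left, hWa, hcf, hcs, fun j => ?_⟩
  obtain ⟨i, l, hl⟩ := hl j
  have hl' : l ≫ g i = (yon S).map (c j ≫ ιo) ≫ b := by
    rw [hl, Functor.map_comp, Category.assoc]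
  have sqQ := IsPullback.of_hasPullback f ((yon S).map (c j ≫ ιo) ≫ b)
  have hQ : IsAlgSpace (pullback f ((yon S).map (c j ≫ ιo) ≫ b)) :=
    isAlgSpace_of_isPullback' hY hX (IsAlgSpace.yon_obj (W j)) sqQ
  -- the map to `Xi i`
  have hw : pullback.fst f ((yon S).map (c j ≫ ιo) ≫ b) ≫ f =
      (pullback.snd f ((yon S).map (c j ≫ ιo) ≫ b) ≫ l) ≫ g i := by
    rw [Category.assoc, hl', pullback.condition]
  have sqL : IsPullback ((sq i).lift _ _ hw) (pullback.snd f ((yon S).map (c j ≫ ιo) ≫ b))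
      (p i) l := by
    refine IsPullback.of_right ?_ ((sq i).lift_snd _ _ hw) (sq i)
    rw [(sq i).lift_fst, hl']
    exact sqQ
  have hq : LocP P (pullback.snd f ((yon S).map (c j ≫ ιo) ≫ b)) :=
    locP_of_isPullback hP (hXi i) (hYi i) (IsAlgSpace.yon_obj (W j)) hQ (p i) l _ _ sqL (hp i)
  obtain ⟨t, hte, -, ht2, -⟩ := exists_chart_base_change f b u h hue hus hh (c j ≫ ιo) _ _ sqQ
  have hPt : P (pullback.snd h (c j ≫ ιo)).left :=
    hq t (𝟙 _) (pullback.snd h (c j ≫ ιo)) hte (repWith_id _ (W j)) (by rw [ht2, Category.comp_id])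
  have sq3 : IsPullback (pullback.fst h (c j ≫ ιo)).left (pullback.snd h (c j ≫ ιo)).left h.left
      (c j ≫ ιo).left := (IsPullback.of_hasPullback h (c j ≫ ιo)).map (Over.forget S)
  exact ⟨_, _, _, sq3.flip, hPt⟩

include hP in
theorem isLocalOnBase_fpqc_locP [P.DescendsAlong (@Surjective ⊓ @Flat ⊓ @QuasiCompact)]
    [IsZariskiLocalAtTarget P] : IsLocalOnBase (IsFpqcCover (S := S)) (LocP P) := by
  intro ι Y Yi g hY hYi hcov X f hX Xi p q hXi sq
  constructor
  · intro hf i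
    exact locP_of_isPullback hP hX hY (hYi i) (hXi i) f (g i) (q i) (p i) (sq i) hf
  · intro hp
    exact locP_of_stdRefinement hP hX hY hYi hXi hcov.2 sq hp

end

end Groth.Agent.Lib.Helper3
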