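import Groth.Agent.Lib.Helper3.AlgSpEtMono
import Groth.Agent.Lib.Helper3.AlgSpBC
import Groth.Agent.S10544
import Groth.Agent.S10524
import Groth.Agent.S9937

set_option autoImplicit false
universe u
open CategoryTheory CategoryTheory.Limits AlgebraicGeometry Opposite MorphismProperty

namespace Groth.Agent.Lib.Helper3

variable {S : Scheme.{u}}

open AlgSp

theorem isUnivInjectiveMor_of_mono {X Y : Sp S} (f : X ⟶ Y) [Mono f] : IsUnivInjectiveMor f :=
  InjOnFieldPts.isUnivInjectiveMor (fun _ _ _ _ _ hab => (cancel_mono f).1 hab)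

theorem isEtaleMor_of_repWith_etale {X Y : Sp S} {f : X ⟶ Y} (hf : RepWith @Etale f) :
    IsEtaleMor f := fun _ φ hφ => MorphismProperty.comp_mem _ _ _ hφ hf

/-- Base change of an fpqc covering (sheaf-level form). -/
theorem isFpqcCover_of_isPullback {X X' : Sp S} (hX : IsAlgSpace X) (hX' : IsAlgSpace X')
    (a : X' ⟶ X) {ι : Type u} (Xi : ι → Sp S) (g : ∀ i, Xi i ⟶ X) (Xi' : ι → Sp S)
    (q : ∀ i, Xi' i ⟶ X') (p : ∀ i, Xi' i ⟶ Xi i) (hXi : ∀ i, IsAlgSpace (Xi i))
    (hXi' : ∀ i, IsAlgSpace (Xi' i)) (sq : ∀ i, IsPullback (q i) (p i) a (g i))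
    (h : IsFpqcCover Xi g) : IsFpqcCover Xi' q := by
  refine ⟨fun i => ?_, ?_⟩
  · exact locP_of_isPullback isEtLocal_flat (hXi i) hX hX' (hXi' i) (g i) a (p i) (q i)
      (sq i).flip (h.1 i)
  · intro Z hZ h'
    obtain ⟨m, W, c, hW, hcf, hcs, hl⟩ := h.2 Z hZ (h' ≫ a)
    refine ⟨m, W, c, hW, hcf, hcs, fun j => ?_⟩
    obtain ⟨i, l, hl⟩ := hl j
    refine ⟨i, (sq i).lift ((yon S).map (c j) ≫ h') l ?_, (sq i).lift_fst _ _ _⟩
    rw [Category.assoc, hl]

theorem isLocalOnBase_fpqc_repWith_isOpenImmersion :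
    IsLocalOnBase (IsFpqcCover (S := S)) (RepWith @IsOpenImmersion) := by
  intro ι Y Yi g hY hYi hcov X f hX Xi p q hXi sq
  constructor
  · intro hf i
    exact MorphismProperty.of_isPullback (sq i) hf
  · intro hp
    have h1 : ∀ i, IsEtaleMor (p i) := fun i => isEtaleMor_of_repWith_etale
      (repWith_mono (fun _ _ k hk => by
        have : IsOpenImmersion k := hk
        exact inferInstanceAs (Etale k)) (hp i))
    have h2 : ∀ i, IsUnivInjectiveMor (p i) := fun i => by
      have : Mono (p i) := Groth.Agent.S9928.mono_of_repWith @IsOpenImmersion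
        (fun k hk => by have : IsOpenImmersion k := hk; infer_instance) (p i) (hp i)
      exact isUnivInjectiveMor_of_mono _
    have h3 : IsEtaleMor f :=
      (Groth.Agent.S10544.result S Yi g hY hYi hcov f hX Xi p q hXi sq).2 h1
    have h4 : IsUnivInjectiveMor f :=
      (Groth.Agent.S10524.result S Yi g hY hYi hcov f hX Xi p q hXi sq).2 h2
    exact repWith_isOpenImmersion_of_etale_univInjective hX hY f h3 h4

theorem isLocalOnBase_fpqc_isomorphisms :
    IsLocalOnBase (IsFpqcCover (S := S)) (MorphismProperty.isomorphisms (Sp S)) := by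
  intro ι Y Yi g hY hYi hcov X f hX Xi p q hXi sq
  constructor
  · intro hf i
    exact MorphismProperty.of_isPullback (P := MorphismProperty.isomorphisms (Sp S)) (sq i) hf
  · intro hp
    have h1 : ∀ i, RepWith @IsOpenImmersion (p i) := fun i => by
      have : IsIso (p i) := hp i
      exact Groth.Agent.S9937.repWith_of_isIso @IsOpenImmersion (fun k _ => inferInstance) (p i)
    have h2 : RepWith @IsOpenImmersion f :=
      (isLocalOnBase_fpqc_repWith_isOpenImmersion Yi g hY hYi hcov f hX Xi p q hXi sq).2 h1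
    have h3 : IsSurjectiveMor f := by
      intro y
      obtain ⟨i, yi, rfl⟩ := HasStdRefinement.jointly_surjective hcov.2 y
      have : IsIso (p i) := hp i
      refine ⟨Points.map (q i) (Points.map (inv (p i)) yi), ?_⟩
      rw [← Points.map_comp, ← Points.map_comp, (sq i).w, IsIso.inv_hom_id_assoc]
    exact isIso_of_repWith_isOpenImmersion_of_isSurjectiveMor f h2 h3

theorem isLocalOnBase_fpqc_monomorphisms :
    IsLocalOnBase (IsFpqcCover (S := S)) (MorphismProperty.monomorphisms (Sp S)) := by
  intro ι Y Yi g hY hYi hcov X f hX Xi p q hXi sq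
  constructor
  · intro hf i
    exact MorphismProperty.of_isPullback (P := MorphismProperty.monomorphisms (Sp S)) (sq i) hf
  · intro hp
    have hXX : IsAlgSpace (pullback f f) :=
      isAlgSpace_of_isPullback' hY hX hX (IsPullback.of_hasPullback f f)
    have hXXi : ∀ i, IsAlgSpace (pullback (p i) (p i)) := fun i =>
      isAlgSpace_of_isPullback' (hYi i) (hXi i) (hXi i) (IsPullback.of_hasPullback _ _)
    have sqm := fun i => isPullback_map_of_isPullback (sq i)
    have hcov' := isFpqcCover_of_isPullback hY hXX (pullback.fst f f ≫ f) Yi g _ _ _ hYi hXXi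
      sqm hcov
    have sqΔ := fun i => isPullback_diagonal_of_isPullback (sq i)
    have := (isLocalOnBase_fpqc_isomorphisms _ _ hXX hXXi hcov' (pullback.diagonal f) hX Xi
      (fun i => pullback.diagonal (p i)) q hXi sqΔ).2 (fun i => by
        have : Mono (p i) := hp i
        exact inferInstanceAs (IsIso (pullback.diagonal (p i))))
    exact (pullback.isIso_diagonal_iff f).1 this

end Groth.Agent.Lib.Helper3
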