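import Groth.Agent.Lib.Helper3.AlgSpQC5

set_option autoImplicit false
universe u
open CategoryTheory CategoryTheory.Limits AlgebraicGeometry Opposite MorphismProperty

namespace Groth.Agent.Lib.Helper3

variable {S : Scheme.{u}}

open AlgSp

/-- An open subset of the points of an algebraic space is the image of an etale chart. -/
theorem exists_chart_of_isOpen {F : Sp S} (hF : IsAlgSpace F) (V : Set (Points F))
    (hV : IsOpen V) :
    ∃ (W : Over S) (q : (yon S).obj W ⟶ F), RepWith @Etale q ∧ Set.range (Points.map q) = V := by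
  obtain ⟨U, u, hue, hus⟩ := hF.atlas
  have hs := surjective_map_of_repWith hus
  let UV : U.left.Opens := ⟨Points.ofPt u ⁻¹' V, hV.preimage (Points.continuous_ofPt u)⟩
  obtain ⟨W', q, hqe, -, hq⟩ := exists_chart_of_opens u hue UV
  refine ⟨W', q, hqe, ?_⟩
  rw [hq]
  ext x
  constructor
  · rintro ⟨z, ⟨t, ht, rfl⟩, rfl⟩
    have : Points.ofPt u t ∈ V := ht
    rwa [Points.ofPt_eq_map_ofScheme] at this
  · intro hx
    obtain ⟨z, rfl⟩ := hs x
    obtain ⟨t, rfl⟩ := (Points.schemeHomeo U).surjective z
    refine ⟨_, ⟨t, ?_, rfl⟩, rfl⟩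
    change Points.ofPt u t ∈ V
    rw [Points.ofPt_eq_map_ofScheme]
    exact hx

/-- A compact open subset of the points of an algebraic space is the image of an etale chart from
a quasi-compact scheme. -/
theorem exists_compact_chart_of_isOpen_isCompact {F : Sp S} (hF : IsAlgSpace F)
    (V : Set (Points F)) (hV : IsOpen V) (hVc : IsCompact V) :
    ∃ (W : Over S) (q : (yon S).obj W ⟶ F), RepWith @Etale q ∧ CompactSpace ↥W.left ∧
      Set.range (Points.map q) = V := by
  obtain ⟨W', q, hqe, hq⟩ := exists_chart_of_isOpen hF V hV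
  obtain ⟨W, hWc, hW⟩ := exists_compact_open_of_isCompact q hqe V hVc (by rw [hq])
  obtain ⟨W'', q', hq'e, hW'', hq'⟩ := exists_chart_of_opens q hqe W
  refine ⟨W'', q', hq'e, ?_, ?_⟩
  · rw [hW'']
    exact isCompact_iff_compactSpace.1 hWc
  · rw [hq']
    apply Set.Subset.antisymm
    · rintro x ⟨z, -, rfl⟩
      rw [← hq]
      exact ⟨z, rfl⟩
    · exact hW

/-- For a quasi-compact morphism to an algebraic space, preimages of compact opens are compact. -/
theorem isCompact_preimage_of_isQuasiCompactMor {F G : Sp S} (hG : IsAlgSpace G) {f : F ⟶ G}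
    (hf : IsQuasiCompactMor f) (V : Set (Points G)) (hV : IsOpen V) (hVc : IsCompact V) :
    IsCompact (Points.map f ⁻¹' V) := by
  obtain ⟨W, q, hqe, hWc, hq⟩ := exists_compact_chart_of_isOpen_isCompact hG V hV hVc
  have sq := IsPullback.of_hasPullback f q
  have hP : IsQuasiCompactSp (pullback f q) :=
    hf (IsAlgSpace.yon_obj W) (isQuasiCompactSp_yon hWc) q _ _ sq
  have hc : CompactSpace (Points (pullback f q)) := compactSpace_points_of_isQuasiCompactSp hP
  have h1 := Points.preimage_image_of_isPullback sq.flip Set.univ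
  rw [Set.image_univ, hq, Set.preimage_univ, Set.image_univ] at h1
  rw [h1]
  exact isCompact_range (Points.continuous_map _)

end Groth.Agent.Lib.Helper3
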