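import Groth.Agent.Lib.Helper3.AlgSpMonoField
import Groth.Agent.Lib.Helper3.AlgSpQC6

set_option autoImplicit false
universe u
open CategoryTheory CategoryTheory.Limits AlgebraicGeometry Opposite MorphismProperty

namespace Groth.Agent.Lib.Helper3

variable {S : Scheme.{u}}

open AlgSp

/-- A morphism of sheaves representable by isomorphisms is an isomorphism. -/
theorem isIso_of_repWith_isomorphisms {F G : Sp S} (f : F ⟶ G)
    (hf : RepWith (isomorphisms Scheme.{u}) f) : IsIso f := by
  have hinj : Sheaf.IsLocallyInjective f := by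
    rw [Sheaf.isLocallyInjective_iff_injective]
    intro X x y hxy
    obtain ⟨a, rfl⟩ := (J S).uliftYonedaEquiv.{u+1}.surjective x
    obtain ⟨b, rfl⟩ := (J S).uliftYonedaEquiv.{u+1}.surjective y
    congr 1
    have hab : a ≫ f = b ≫ f := by
      apply (J S).uliftYonedaEquiv.{u+1}.injective
      rw [(J S).uliftYonedaEquiv_comp.{u+1}, (J S).uliftYonedaEquiv_comp.{u+1}]
      exact hxy
    have sq := hf.rep.isPullback (a ≫ f)
    have hiso : IsIso (hf.rep.snd (a ≫ f)).left := hf.property_snd (a ≫ f)
    have : IsIso (hf.rep.snd (a ≫ f)) := by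
      have : IsIso ((Over.forget S).map (hf.rep.snd (a ≫ f))) := hiso
      exact isIso_of_reflects_iso _ (Over.forget S)
    have hm : Mono ((yon S).map (hf.rep.snd (a ≫ f))) := inferInstance
    have e1 : sq.lift a (𝟙 _) (by simp) = sq.lift b (𝟙 _) (by simp [hab]) := by
      rw [← cancel_mono ((yon S).map (hf.rep.snd (a ≫ f)))]
      simp only [IsPullback.lift_snd]
    have := congrArg (· ≫ hf.rep.fst (a ≫ f)) e1
    simpa only [IsPullback.lift_fst] using this
  have hsurj : Sheaf.IsLocallySurjective f := by
    refine Presheaf.isLocallySurjective_of_surjective _ _ (fun X y => ?_)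
    obtain ⟨g, rfl⟩ := (J S).uliftYonedaEquiv.{u+1}.surjective y
    have sq := hf.rep.isPullback g
    have hiso : IsIso (hf.rep.snd g).left := hf.property_snd g
    have : IsIso (hf.rep.snd g) := by
      have : IsIso ((Over.forget S).map (hf.rep.snd g)) := hiso
      exact isIso_of_reflects_iso _ (Over.forget S)
    refine ⟨(J S).uliftYonedaEquiv.{u+1} ((yon S).map (inv (hf.rep.snd g)) ≫ hf.rep.fst g), ?_⟩
    change f.hom.app X _ = _
    rw [← (J S).uliftYonedaEquiv_comp.{u+1}, Category.assoc, sq.w, ← Category.assoc,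
      ← Functor.map_comp, IsIso.inv_hom_id, CategoryTheory.Functor.map_id, Category.id_comp]
  exact (Sheaf.isLocallyBijective_iff_isIso f).1 ⟨hinj, hsurj⟩

end Groth.Agent.Lib.Helper3

namespace Groth.Agent.Lib.Helper3

variable {S : Scheme.{u}}

open AlgSp

/-- A morphism representable by open immersions that is surjective on points is an isomorphism. -/
theorem isIso_of_repWith_isOpenImmersion_of_isSurjectiveMor {F G : Sp S} (f : F ⟶ G)
    (hf : RepWith @IsOpenImmersion f) (hs : IsSurjectiveMor f) : IsIso f := by
  have hs' : RepWith @Surjective f := (Groth.Agent.S9906.repWith_surjective_iff f hf.rep).2 hs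
  apply isIso_of_repWith_isomorphisms
  rw [isomorphisms_eq_isOpenImmersion_inf_surjective]
  exact repWith_inf hf hs'

/-- A morphism whose image on points lies in an open subspace factors through it. -/
theorem exists_factor_of_range_subset {F G H : Sp S} (j : H ⟶ G) (hj : RepWith @IsOpenImmersion j)
    (f : F ⟶ G) (h : Set.range (Points.map f) ⊆ Set.range (Points.map j)) :
    ∃ g : F ⟶ H, g ≫ j = f := by
  have sq := IsPullback.of_hasPullback f j
  have h1 : RepWith @IsOpenImmersion (pullback.fst f j) := MorphismProperty.of_isPullback sq.flip hj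
  have h2 : IsSurjectiveMor (pullback.fst f j) := by
    intro y
    obtain ⟨x, hx⟩ := h ⟨y, rfl⟩
    obtain ⟨z, hz1, -⟩ := Points.exists_of_isPullback sq y x hx.symm
    exact ⟨z, hz1⟩
  have := isIso_of_repWith_isOpenImmersion_of_isSurjectiveMor _ h1 h2
  refine ⟨inv (pullback.fst f j) ≫ pullback.snd f j, ?_⟩
  rw [Category.assoc, ← sq.w, IsIso.inv_hom_id_assoc]

end Groth.Agent.Lib.Helper3
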