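import Groth.Agent.Lib.Helper3.AlgSpOpenSubsp
import Groth.Agent.Lib.Helper3.AlgSpOpenSub

set_option autoImplicit false
universe u
open CategoryTheory CategoryTheory.Limits AlgebraicGeometry Opposite MorphismProperty

namespace Groth.Agent.Lib.Helper3

theorem isPullback_of_comp_mono {C : Type*} [Category C] {P A B X Y : C} {fst : P ⟶ A}
    {snd : P ⟶ B} {f : A ⟶ X} {g : B ⟶ X} (j : X ⟶ Y) [Mono j]
    (h : IsPullback fst snd (f ≫ j) (g ≫ j)) : IsPullback fst snd f g := by
  refine IsPullback.mk' ?_ (fun T φ φ' h1 h2 => h.hom_ext h1 h2) ?_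
  · rw [← cancel_mono j, Category.assoc, Category.assoc, h.w]
  · intro T a b hab
    exact ⟨h.lift a b (by rw [← Category.assoc, hab, Category.assoc]), h.lift_fst _ _ _,
      h.lift_snd _ _ _⟩

variable {S : Scheme.{u}}

open AlgSp

/-- If `h_R = h_U ×_F h_U` for a representable etale map `h_U ⟶ F`, then `R ⇉ U` is an etale
equivalence relation. -/
theorem isEtaleEqvRel_of_isPullback {F : Sp S} {R U : Over S} (s t : R ⟶ U)
    (a : (yon S).obj U ⟶ F) (ha : RepWith @Etale a)
    (sq : IsPullback ((yon S).map t) ((yon S).map s) a a) : IsEtaleEqvRel s t := by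
  have key : ∀ (T : Over S) (x y : T ⟶ U),
      (∃ r : T ⟶ R, r ≫ t = x ∧ r ≫ s = y) ↔ (yon S).map x ≫ a = (yon S).map y ≫ a := by
    intro T x y
    constructor
    · rintro ⟨r, rfl, rfl⟩
      rw [Functor.map_comp, Functor.map_comp, Category.assoc, Category.assoc, sq.w]
    · intro h
      obtain ⟨r, hr⟩ := (yon S).map_surjective (sq.lift _ _ h)
      refine ⟨r, (yon S).map_injective ?_, (yon S).map_injective ?_⟩
      · rw [Functor.map_comp, hr, sq.lift_fst]
      · rw [Functor.map_comp, hr, sq.lift_snd]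
  refine ⟨⟨fun T r r' h1 h2 => ?_, fun T => ⟨fun x => ?_, fun {x y} h => ?_, fun {x y z} h1 h2 => ?_⟩⟩,
    ?_, ?_⟩
  · apply (yon S).map_injective
    apply sq.hom_ext
    · rw [← Functor.map_comp, ← Functor.map_comp, h1]
    · rw [← Functor.map_comp, ← Functor.map_comp, h2]
  · exact (key T x x).2 rfl
  · exact (key T y x).2 ((key T x y).1 h).symm
  · exact (key T x z).2 (((key T x y).1 h1).trans ((key T y z).1 h2))
  · exact (repWith_yon_map_iff _ _).1 (MorphismProperty.of_isPullback sq ha)
  · exact (repWith_yon_map_iff _ _).1 (MorphismProperty.of_isPullback sq.flip ha)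

theorem range_map_eq_range_ofPt {F : Sp S} {U : Over S} (a : (yon S).obj U ⟶ F) :
    Set.range (Points.map a) = Set.range (Points.ofPt a) := by
  ext x
  constructor
  · rintro ⟨z, rfl⟩
    obtain ⟨u, rfl⟩ := (Points.schemeHomeo U).surjective z
    exact ⟨u, Points.ofPt_eq_map_ofScheme a u⟩
  · rintro ⟨u, rfl⟩
    exact ⟨_, (Points.ofPt_eq_map_ofScheme a u).symm⟩

/-- A representable etale map from a scheme factors through the open subspace with the same
image, via a surjective etale map. -/
theorem exists_factor_surjective_etale {X X' : Sp S} {U : Over S}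
    (a : (yon S).obj U ⟶ X) (ha : RepWith @Etale a)
    (j : X' ⟶ X) (hj : RepWith @IsOpenImmersion j) [Mono j]
    (himage : Set.range (Points.map j) = Set.range (Points.ofPt a)) :
    ∃ a' : (yon S).obj U ⟶ X', a' ≫ j = a ∧ RepWith @Etale a' ∧ RepWith @Surjective a' ∧
      ∀ (R : Over S) (s t : R ⟶ U), IsPullback ((yon S).map t) ((yon S).map s) a a →
        IsPresentation s t a' := by
  obtain ⟨a', ha'⟩ := exists_factor_of_range_subset j hj a (by
    rw [himage, range_map_eq_range_ofPt])
  have sq : IsPullback (𝟙 ((yon S).obj U)) a' a j :=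
    IsPullback.of_horiz_isIso_mono ⟨by rw [Category.id_comp, ha']⟩
  have hae : RepWith @Etale a' := MorphismProperty.of_isPullback sq ha
  have has : RepWith @Surjective a' := by
    rw [S9906.repWith_surjective_iff a' hae.1]
    intro y
    have : Points.map j y ∈ Set.range (Points.map a) := by
      rw [range_map_eq_range_ofPt, ← himage]
      exact ⟨y, rfl⟩
    obtain ⟨z, hz⟩ := this
    obtain ⟨w, -, hw⟩ := Points.exists_of_isPullback sq z y hz
    exact ⟨w, hw⟩
  refine ⟨a', ha', hae, has, fun R s t sqR => ?_⟩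
  have sqR' : IsPullback ((yon S).map t) ((yon S).map s) a' a' := by
    apply isPullback_of_comp_mono j
    rw [ha']
    exact sqR
  exact ⟨isEtaleEqvRel_of_isPullback s t a ha sqR, hae, has, sqR'⟩

end Groth.Agent.Lib.Helper3
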