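import Groth.Agent.Lib.Helper3.AlgSpLocSrc
import Groth.Agent.Lib.Helper3.AlgSpOpenSubsp2
import Groth.Agent.Lib.Helper3.AlgSpFpqcLocal
import Groth.Agent.Lib.Helper3.AlgSpQC
import Groth.Agent.S9928
import Groth.Prelude.Def_AlgSpDec

set_option autoImplicit false
universe u
open CategoryTheory CategoryTheory.Limits AlgebraicGeometry Opposite MorphismProperty

namespace Groth.Agent.Lib.Helper3

variable {S : Scheme.{u}}

open AlgSp

/-- The neighbourhood form of "`P` at a point". -/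
abbrev NbhdQ (P : MorphismProperty Scheme.{u}) :
    ∀ (U V : Scheme.{u}), (U ⟶ V) → ↥U → Prop :=
  fun U _ h u => ∃ W : U.Opens, u ∈ W ∧ P (W.ι ≫ h)

/-- A point of `X` lifts along a surjective chart. -/
theorem exists_ofPt_eq {X : Sp S} {U : Over S} (a : (yon S).obj U ⟶ X)
    (has : RepWith @Surjective a) (x : Points X) : ∃ u : ↥U.left, Points.ofPt a u = x := by
  obtain ⟨z, rfl⟩ := (S9906.repWith_surjective_iff a has.rep).1 has x
  have : Points.map a z ∈ Set.range (Points.map a) := ⟨z, rfl⟩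
  rw [range_map_eq_range_ofPt] at this
  exact this

variable {P : MorphismProperty Scheme.{u}} (hP : IsEtLocal P)
include hP

theorem hasAtMor_of_locP {X Y : Sp S} (hX : IsAlgSpace X) (hY : IsAlgSpace Y) (f : X ⟶ Y)
    (hf : LocP P f) (x : Points X) : HasAtMor (NbhdQ P) f x := by
  obtain ⟨V, b, hbe, hbs⟩ := hY.atlas
  obtain ⟨U, u, k, -, -, hae, has, -, hk⟩ := exists_chart_over hX hY f b hbe
  obtain ⟨u₀, hu₀⟩ := exists_ofPt_eq _ (has hbs) x
  refine ⟨U, V, _, b, k, u₀, hae, hbe, hk, hu₀, ⊤, trivial, ?_⟩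
  exact hP.comp_mem _ _ (hP.etale_le _ inferInstance) (hf _ _ k hae hbe hk)

theorem locP_of_forall_hasAtMor [IsZariskiLocalAtSource P] {X Y : Sp S} (hX : IsAlgSpace X)
    (hY : IsAlgSpace Y) (f : X ⟶ Y) (H : ∀ x : Points X, HasAtMor (NbhdQ P) f x) :
    LocP P f := by
  obtain ⟨U₀, a₀, ha₀e, ha₀s⟩ := hX.atlas
  choose U V a b h u hae hbe w hx W hu hPW using fun i : ↥U₀.left => H (Points.ofPt a₀ i)
  let UW : ↥U₀.left → Over S := fun i => Over.mk ((W i).ι ≫ (U i).hom)
  let jW : ∀ i, UW i ⟶ U i := fun i => Over.homMk (W i).ι rfl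
  have hjW : ∀ i, RepWith @Etale ((yon S).map (jW i)) := fun i =>
    (repWith_yon_map_iff _ _).2 (inferInstanceAs (Etale (W i).ι))
  have hge : ∀ i, RepWith @Etale ((yon S).map (jW i) ≫ a i) := fun i =>
    MorphismProperty.comp_mem _ _ _ (hjW i) (hae i)
  refine ((isLocalOnSource_etCover_locP hP) (fun i => (yon S).obj (UW i))
    (fun i => (yon S).map (jW i) ≫ a i) hX (fun i => IsAlgSpace.yon_obj _) ⟨?_, ?_⟩ f hY).2 ?_
  · intro i
    exact isEtaleMor_of_repWith_etale (hge i)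
  · intro x
    obtain ⟨i, rfl⟩ := exists_ofPt_eq a₀ ha₀s x
    refine ⟨i, ?_⟩
    rw [range_map_eq_range_ofPt]
    refine ⟨⟨u i, hu i⟩, ?_⟩
    rw [Points.ofPt_yon_map_comp]
    exact hx i
  · intro i
    have hid : RepWith @Etale (𝟙 ((yon S).obj (UW i))) := repWith_id _ _
    have hids : RepWith @Surjective (𝟙 ((yon S).obj (UW i))) := repWith_id _ _
    refine locP_of_chart hP _ (𝟙 _) hid hids (b i) (hbe i) (jW i ≫ h i) ?_ (hPW i)
    rw [Category.id_comp, Category.assoc, w i, Functor.map_comp, Category.assoc]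

end Groth.Agent.Lib.Helper3
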