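import Groth.Agent.Lib.Helper3.IntegralDim
import Groth.Agent.Lib.Helper3.AlgSpEtaleDim
import Groth.Agent.Lib.Helper3.AlgSpHasAtMor
import Groth.Agent.Lib.Helper3.AlgSpPoints
import Groth.Prelude.Def_AlgSpDec

set_option autoImplicit false
universe u
open CategoryTheory CategoryTheory.Limits AlgebraicGeometry
open AlgSp

namespace Groth.Agent.Lib.Helper3

variable {S : Scheme.{u}}

/-- Through every point of an etale chart there is an etale chart with affine source. -/
theorem exists_affine_chart_through_chart {X : Sp S} {V₀ : Over S} (b₀ : (yon S).obj V₀ ⟶ X)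
    (hbe : RepWith @Etale b₀) (v₀ : ↥V₀.left) :
    ∃ (V : Over S) (b : (yon S).obj V ⟶ X) (v : ↥V.left),
      IsAffine V.left ∧ RepWith @Etale b ∧ Points.ofPt b v = Points.ofPt b₀ v₀ := by
  obtain ⟨W₀, hW₀, huW⟩ : ∃ W₀ : V₀.left.Opens, IsAffineOpen W₀ ∧ v₀ ∈ W₀ := by
    obtain ⟨_, ⟨W, hW, rfl⟩, huW, -⟩ := (V₀.left.isBasis_affineOpens).exists_subset_of_mem_open
      (Set.mem_univ v₀) isOpen_univ
    exact ⟨W, hW, huW⟩
  refine ⟨Over.mk (W₀.ι ≫ V₀.hom), chartRestrict b₀ W₀, (⟨v₀, huW⟩ : ↥W₀), hW₀,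
    chartRestrict_etale b₀ hbe W₀, ?_⟩
  rw [ofPt_chartRestrict]
  rfl

/-- Through every point of an algebraic space there is an etale chart with affine source. -/
theorem exists_affine_chart_through {X : Sp S} (hX : IsAlgSpace X) (x : Points X) :
    ∃ (V : Over S) (b : (yon S).obj V ⟶ X) (v : ↥V.left),
      IsAffine V.left ∧ RepWith @Etale b ∧ Points.ofPt b v = x := by
  obtain ⟨V₀, b₀, hbe, hbs⟩ := hX.atlas
  obtain ⟨v₀, hv₀⟩ := exists_ofPt_eq b₀ hbs x
  obtain ⟨V, b, v, hV, hb, hv⟩ := exists_affine_chart_through_chart b₀ hbe v₀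
  exact ⟨V, b, v, hV, hb, hv.trans hv₀⟩

theorem le_dim_of_chart {X : Sp S} {U : Over S} (a : (yon S).obj U ⟶ X) (ha : RepWith @Etale a) :
    topologicalKrullDim ↥U.left ≤ AlgSp.dim X :=
  le_iSup_of_le U (le_iSup_of_le a (le_iSup_of_le ha le_rfl))

theorem ringKrullDim_stalk_le_topologicalKrullDim (X : Scheme.{u}) (x : X) :
    ringKrullDim (X.presheaf.stalk x) ≤ topologicalKrullDim X := by
  rw [topologicalKrullDim_eq_iSup_stalk]
  exact le_iSup (fun y : X => ringKrullDim (X.presheaf.stalk y)) x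

/-- For an integral morphism, `dim X ≤ dim Y`. -/
theorem dim_le_of_isIntegralMor {X Y : Sp S} (hY : IsAlgSpace Y) (f : X ⟶ Y)
    (hf : IsIntegralMor f) : AlgSp.dim X ≤ AlgSp.dim Y := by
  unfold AlgSp.dim
  refine iSup_le fun U => iSup_le fun a => iSup_le fun ha => ?_
  rw [topologicalKrullDim_eq_iSup_stalk]
  refine iSup_le fun u => ?_
  obtain ⟨V, b, v, hV, hbe, hv⟩ := exists_affine_chart_through hY (Points.map f (Points.ofPt a u))
  obtain ⟨W, i, fst, sq, hW, hi⟩ := hf hV b
  have hfe : RepWith @Etale fst := MorphismProperty.of_isPullback sq.flip hbe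
  obtain ⟨z, hz1, hz2⟩ := Points.exists_of_isPullback sq (Points.ofPt a u) (Points.ofScheme V v)
    (by rw [← hv, Points.ofPt_eq_map_ofScheme])
  obtain ⟨w, rfl⟩ := (Points.schemeHomeo W).surjective z
  have h1 : ringKrullDim ↥(U.left.presheaf.stalk u) = ringKrullDim ↥(W.left.presheaf.stalk w) :=
    ringKrullDim_stalk_eq_of_ofPt_eq a fst ha hfe u w
      (by rw [Points.ofPt_eq_map_ofScheme fst w]; exact hz1.symm)
  rw [h1]
  refine (ringKrullDim_stalk_le_topologicalKrullDim W.left w).trans ?_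
  refine (topologicalKrullDim_le_of_isIntegralHom_of_isAffine i.left).trans ?_
  exact le_dim_of_chart b hbe

/-- For an integral surjective morphism, `dim Y ≤ dim X`. -/
theorem dim_le_of_isIntegralMor_of_surjective {X Y : Sp S}
    (f : X ⟶ Y) (hf : IsIntegralMor f) (hs : Function.Surjective (Points.map f)) :
    AlgSp.dim Y ≤ AlgSp.dim X := by
  unfold AlgSp.dim
  refine iSup_le fun V₀ => iSup_le fun b₀ => iSup_le fun hb₀ => ?_
  rw [topologicalKrullDim_eq_iSup_stalk]
  refine iSup_le fun v₀ => ?_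
  obtain ⟨V, b, v, hV, hbe, hv⟩ := exists_affine_chart_through_chart b₀ hb₀ v₀
  obtain ⟨W, i, fst, sq, hW, hi⟩ := hf hV b
  have hfe : RepWith @Etale fst := MorphismProperty.of_isPullback sq.flip hbe
  have hsurj : Surjective i.left := by
    refine ⟨fun v' => ?_⟩
    obtain ⟨x', hx'⟩ := hs (Points.ofPt b v')
    obtain ⟨z, hz1, hz2⟩ := Points.exists_of_isPullback sq x' (Points.ofScheme V v')
      (by rw [hx', Points.ofPt_eq_map_ofScheme])
    obtain ⟨w, rfl⟩ := (Points.schemeHomeo W).surjective z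
    refine ⟨w, ?_⟩
    apply (Points.schemeHomeo V).injective
    rw [← Points.map_yon_map_apply]
    exact hz2
  have h1 : ringKrullDim ↥(V₀.left.presheaf.stalk v₀) = ringKrullDim ↥(V.left.presheaf.stalk v) :=
    ringKrullDim_stalk_eq_of_ofPt_eq b₀ b hb₀ hbe v₀ v hv.symm
  rw [h1]
  refine (ringKrullDim_stalk_le_topologicalKrullDim V.left v).trans ?_
  refine (topologicalKrullDim_le_of_isIntegralHom_of_surjective_of_isAffine i.left).trans ?_
  exact le_dim_of_chart fst hfe

end Groth.Agent.Lib.Helper3
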