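import Groth.Agent.Lib.Helper3.AlgSpDiag

set_option autoImplicit false
universe u
open CategoryTheory CategoryTheory.Limits AlgebraicGeometry MorphismProperty

namespace Groth.Agent.Lib.Helper3

section General
variable {D : Type*} [Category D]

/-- Fibre products over a jointly monic pair: `A ×_P B` is the locus in `A ×_X B` where the two
maps to `Y` agree. -/
theorem isPullback_of_jointly_mono [HasBinaryProducts D] {P X Y A B W₁ E : D} {fst : P ⟶ X}
    {snd : P ⟶ Y}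
    (hmono : ∀ {Z : D} (φ φ' : Z ⟶ P), φ ≫ fst = φ' ≫ fst → φ ≫ snd = φ' ≫ snd → φ = φ')
    {a : A ⟶ P} {b : B ⟶ P} {p₁ : W₁ ⟶ A} {q₁ : W₁ ⟶ B}
    (sq₁ : IsPullback p₁ q₁ (a ≫ fst) (b ≫ fst)) {e : E ⟶ Y} {k : E ⟶ W₁}
    (sq₂ : IsPullback e k (Limits.diag Y) (prod.lift (p₁ ≫ a ≫ snd) (q₁ ≫ b ≫ snd))) :
    IsPullback (k ≫ p₁) (k ≫ q₁) a b := by
  have h1 : e = k ≫ p₁ ≫ a ≫ snd := by
    have := sq₂.w =≫ prod.fst
    simpa only [Category.assoc, Limits.diag, prod.lift_fst, Category.comp_id] using this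
  have h2 : e = k ≫ q₁ ≫ b ≫ snd := by
    have := sq₂.w =≫ prod.snd
    simpa only [Category.assoc, Limits.diag, prod.lift_snd, Category.comp_id] using this
  refine IsPullback.mk' ?_ ?_ ?_
  · apply hmono
    · simp only [Category.assoc]
      rw [sq₁.w]
    · simp only [Category.assoc]
      rw [← h1, ← h2]
  · intro Z φ φ' hp hq
    have hk : φ ≫ k = φ' ≫ k := by
      apply sq₁.hom_ext
      · simpa only [Category.assoc] using hp
      · simpa only [Category.assoc] using hq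
    apply sq₂.hom_ext
    · rw [h1, ← Category.assoc, ← Category.assoc, hk]
      simp only [Category.assoc]
    · exact hk
  · intro Z z₁ z₂ hz
    have hz' : z₁ ≫ a ≫ fst = z₂ ≫ b ≫ fst := by
      rw [← Category.assoc, ← Category.assoc, hz]
    have hz'' : z₁ ≫ a ≫ snd = z₂ ≫ b ≫ snd := by
      rw [← Category.assoc, ← Category.assoc, hz]
    let l₁ := sq₁.lift z₁ z₂ hz'
    have hl : (z₁ ≫ a ≫ snd) ≫ Limits.diag Y =
        l₁ ≫ prod.lift (p₁ ≫ a ≫ snd) (q₁ ≫ b ≫ snd) := by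
      apply Limits.prod.hom_ext
      · simp only [Category.assoc, Limits.diag, prod.lift_fst, Category.comp_id]
        rw [← Category.assoc l₁, sq₁.lift_fst]
      · simp only [Category.assoc, Limits.diag, prod.lift_snd, Category.comp_id]
        rw [← Category.assoc l₁, sq₁.lift_snd, hz'']
    refine ⟨sq₂.lift _ l₁ hl, ?_, ?_⟩
    · rw [← Category.assoc, sq₂.lift_snd, sq₁.lift_fst]
    · rw [← Category.assoc, sq₂.lift_snd, sq₁.lift_snd]

/-- The induced map between fibre products `A ×_H B ⟶ X ×_H Y` has `W` when `A ⟶ X` and `B ⟶ Y`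
do. -/
theorem lift_mem_of_isPullback [HasPullbacks D] (W : MorphismProperty D)
    [W.IsStableUnderBaseChange] [W.IsStableUnderComposition] {H X Y P A B E : D} {f : X ⟶ H}
    {g : Y ⟶ H} {fst : P ⟶ X} {snd : P ⟶ Y} (sq : IsPullback fst snd f g) {p : A ⟶ X} {q : B ⟶ Y}
    {w₁ : E ⟶ A} {w₂ : E ⟶ B} (sqE : IsPullback w₁ w₂ (p ≫ f) (q ≫ g)) (hp : W p) (hq : W q)
    (hw : (w₁ ≫ p) ≫ f = (w₂ ≫ q) ≫ g) : W (sq.lift (w₁ ≫ p) (w₂ ≫ q) hw) := by
  have key : sq.lift (w₁ ≫ p) (w₂ ≫ q) hw = sqE.isoPullback.hom ≫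
      pullback.map (p ≫ f) (q ≫ g) f g p q (𝟙 H) ((Category.comp_id _).trans rfl)
        ((Category.comp_id _).trans rfl) ≫ sq.isoPullback.inv := by
    apply sq.hom_ext
    · rw [sq.lift_fst]
      simp only [Category.assoc, IsPullback.isoPullback_inv_fst]
      erw [pullback.lift_fst]
      rw [IsPullback.isoPullback_hom_fst_assoc]
    · rw [sq.lift_snd]
      simp only [Category.assoc, IsPullback.isoPullback_inv_snd]
      erw [pullback.lift_snd]
      rw [IsPullback.isoPullback_hom_snd_assoc]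
  rw [key, W.cancel_left_of_respectsIso, W.cancel_right_of_respectsIso]
  exact W.pullbackMap hp hq rfl rfl

end General

variable {S : Scheme.{u}}
open AlgSp

/-- If `P ⟶ X`, `P ⟶ Y` are jointly monic and `X`, `Y` have representable diagonals, then so does
`P`. -/
theorem representable_diag_of_jointly_mono {P X Y : Sp S} {fst : P ⟶ X} {snd : P ⟶ Y}
    (hmono : ∀ {Z : Sp S} (φ φ' : Z ⟶ P), φ ≫ fst = φ' ≫ fst → φ ≫ snd = φ' ≫ snd → φ = φ')
    (hX : Representable (Limits.diag X)) (hY : Representable (Limits.diag Y)) :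
    Representable (Limits.diag P) := by
  refine Functor.relativelyRepresentable.diag_iff.2 ?_
  intro T a T' b
  obtain ⟨W₁, s₁, f₁, sq₁⟩ :=
    (Functor.relativelyRepresentable.of_diag hX (a ≫ fst)) (b ≫ fst)
  obtain ⟨E, k, e, sq₂⟩ := hY (prod.lift (f₁ ≫ a ≫ snd) ((yon S).map s₁ ≫ b ≫ snd))
  refine ⟨E, k ≫ s₁, (yon S).map k ≫ f₁, ?_⟩
  rw [Functor.map_comp]
  exact isPullback_of_jointly_mono hmono sq₁ sq₂

/-- A fibre product of algebraic spaces over a sheaf with representable diagonal is an algebraic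
space. -/
theorem isAlgSpace_of_isPullback {H X Y P : Sp S} (hH : Representable (Limits.diag H))
    (hX : IsAlgSpace X) (hY : IsAlgSpace Y) {f : X ⟶ H} {g : Y ⟶ H} {fst : P ⟶ X} {snd : P ⟶ Y}
    (h : IsPullback fst snd f g) : IsAlgSpace P := by
  refine ⟨representable_diag_of_jointly_mono (fun φ φ' h1 h2 => h.hom_ext h1 h2) hX.diag hY.diag, ?_⟩
  obtain ⟨U, p, hpe, hps⟩ := hX.atlas
  obtain ⟨V, q, hqe, hqs⟩ := hY.atlas
  obtain ⟨W, w₂, w₁, sqW⟩ := (Functor.relativelyRepresentable.of_diag hH (p ≫ f)) (q ≫ g)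
  have hw : (w₁ ≫ p) ≫ f = ((yon S).map w₂ ≫ q) ≫ g := by
    simpa only [Category.assoc] using sqW.w
  exact ⟨W, h.lift (w₁ ≫ p) ((yon S).map w₂ ≫ q) hw,
    lift_mem_of_isPullback (RepWith @Etale) h sqW hpe hqe hw,
    lift_mem_of_isPullback (RepWith @Surjective) h sqW hps hqs hw⟩

theorem isAlgSpace_of_isPullback' {H X Y P : Sp S} (hH : IsAlgSpace H)
    (hX : IsAlgSpace X) (hY : IsAlgSpace Y) {f : X ⟶ H} {g : Y ⟶ H} {fst : P ⟶ X} {snd : P ⟶ Y}
    (h : IsPullback fst snd f g) : IsAlgSpace P :=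
  isAlgSpace_of_isPullback hH.diag hX hY h

end Groth.Agent.Lib.Helper3
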