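import Groth.Agent.S4450
import Mathlib.Topology.NoetherianSpace
import Mathlib.Topology.Sober
import Mathlib.RingTheory.PowerSeries.Inverse
import Mathlib.AlgebraicGeometry.Noetherian
import Groth.Agent.Lib.Helper3.AlgSpChartPts
import Groth.Agent.Lib.Helper3.AlgSpHasAtMor
import Groth.Agent.Lib.Helper3.AlgSpLocSrc2
import Groth.Agent.Lib.Helper3.AlgSpQC
import Groth.Agent.Lib.Helper3.AlgSpFibre
import Groth.Agent.Lib.Helper3.AlgSpPoints
import Groth.Prelude.Def_AlgSp4
set_option autoImplicit false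
universe u
open CategoryTheory CategoryTheory.Limits AlgebraicGeometry TopologicalSpace AlgSp

namespace Groth.Agent.Lib.Helper3.DvrCl

/-- In a Noetherian quasi-sober space, a point in the closure of the image of a continuous map
is a specialization of the image of some point. -/
theorem exists_specializes_of_mem_closure_range {U V : Type*} [TopologicalSpace U]
    [TopologicalSpace V] [NoetherianSpace U] [QuasiSober U] (h : U → V) (hc : Continuous h)
    (v : V) (hv : v ∈ closure (Set.range h)) : ∃ ξ : U, h ξ ⤳ v := by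
  have hfin : (irreducibleComponents U).Finite := NoetherianSpace.finite_irreducibleComponents
  have hgen : ∀ C ∈ irreducibleComponents U, ∃ ξ : U, IsGenericPoint ξ C := by
    intro C hC
    exact QuasiSober.sober hC.1 (isClosed_of_mem_irreducibleComponents C hC)
  have hne : Nonempty U := by
    have : (closure (Set.range h)).Nonempty := ⟨v, hv⟩
    rw [closure_nonempty_iff] at this
    obtain ⟨_, x, rfl⟩ := this
    exact ⟨x⟩
  choose! g hg using hgen
  have hsub : Set.range h ⊆ ⋃ C ∈ irreducibleComponents U, closure {h (g C)} := by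
    rintro _ ⟨x, rfl⟩
    have hx : x ∈ ⋃₀ irreducibleComponents U := by rw [sUnion_irreducibleComponents]; trivial
    obtain ⟨C, hC, hxC⟩ := hx
    refine Set.mem_biUnion hC ?_
    have h1 : x ∈ closure {g C} := by rw [(hg C hC).def]; exact hxC
    have h2 := image_closure_subset_closure_image hc (Set.mem_image_of_mem h h1)
    simpa using h2
  have hcl : IsClosed (⋃ C ∈ irreducibleComponents U, closure {h (g C)}) :=
    hfin.isClosed_biUnion fun _ _ => isClosed_closure
  have := closure_minimal hsub hcl hv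
  obtain ⟨C, hC, hvC⟩ := Set.mem_iUnion₂.1 this
  exact ⟨g C, specializes_iff_mem_closure.2 hvC⟩

/-- A point in the closure of the image of a finite type morphism to a locally Noetherian scheme
is the image of the closed point of a discrete valuation ring whose generic point lifts. -/
theorem exists_dvr_of_mem_closure_range {U V : Scheme.{u}} [IsLocallyNoetherian V] (h : U ⟶ V)
    [LocallyOfFiniteType h] [CompactSpace U] (v : V) (hv : v ∈ closure (Set.range h.base)) :
    ∃ (A : Type u) (_ : CommRing A) (_ : IsDomain A) (_ : IsDiscreteValuationRing A)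
      (hA : Spec (CommRingCat.of A) ⟶ V) (xK : Spec (CommRingCat.of (FractionRing A)) ⟶ U),
      xK ≫ h = Spec.map (CommRingCat.ofHom (algebraMap A (FractionRing A))) ≫ hA ∧
      hA.base (IsLocalRing.closedPoint A) = v := by
  have hUn : IsLocallyNoetherian U := LocallyOfFiniteType.isLocallyNoetherian h
  have hUN : IsNoetherian U := {}
  obtain ⟨ξ, hξ⟩ := exists_specializes_of_mem_closure_range h.base h.continuous v hv
  by_cases hne : v = h.base ξ
  · -- power series over the residue field
    let k := U.residueField ξ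
    let A := PowerSeries k
    let c : CommRingCat.of k ⟶ CommRingCat.of A := CommRingCat.ofHom (PowerSeries.C (R := k))
    refine ⟨A, inferInstance, inferInstance, inferInstance,
      Spec.map c ≫ U.fromSpecResidueField ξ ≫ h,
      Spec.map (CommRingCat.ofHom (algebraMap A (FractionRing A))) ≫ Spec.map c ≫
        U.fromSpecResidueField ξ, ?_, ?_⟩
    · simp only [Category.assoc]
    · rw [hne]
      simp only [Scheme.Hom.comp_base, TopCat.hom_comp, ContinuousMap.comp_apply]
      congr 1
      exact U.fromSpecResidueField_apply ξ _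
  · obtain ⟨A, hA, hdvr, hcl, hcomm⟩ := Groth.Agent.S4450.result h ξ v hξ hne
    refine ⟨A, inferInstance, inferInstance, hdvr, hA,
      Spec.map (CommRingCat.ofHom
        ((FractionRing.algEquiv A (U.residueField ξ)).symm : U.residueField ξ →+* FractionRing A)) ≫
        U.fromSpecResidueField ξ, ?_, hcl⟩
    rw [Category.assoc, ← hcomm, ← Category.assoc, ← Spec.map_comp]
    congr 2
    ext a
    exact ((FractionRing.algEquiv A (U.residueField ξ)).symm.commutes a)

theorem exists_dvr_diagram (S : Scheme.{u}) {X Y : AlgSp.Space S} (f : X ⟶ Y)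
    (hft : AlgSp.IsFiniteTypeMor f.hom) (hY : AlgSp.IsLocNoethSp Y.obj) (y : AlgSp.Points Y.obj)
    (hy : y ∈ closure (Set.range (AlgSp.Points.map f.hom))) :
    ∃ (A : Type u) (_ : CommRing A) (_ : IsDomain A) (_ : IsDiscreteValuationRing A)
      (a : Spec (CommRingCat.of A) ⟶ S)
      (α : (AlgSp.yon S).obj (Over.mk a) ⟶ Y.obj)
      (κ : (AlgSp.yon S).obj (Over.mk (Spec.map (CommRingCat.ofHom (algebraMap A (FractionRing A))) ≫ a)) ⟶ X.obj),
      κ ≫ f.hom = (AlgSp.yon S).map (Over.homMk (Spec.map (CommRingCat.ofHom (algebraMap A (FractionRing A))))) ≫ α ∧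
      AlgSp.Points.map α (AlgSp.Points.schemeEquiv (Over.mk a) (IsLocalRing.closedPoint A)) = y := by
  obtain ⟨hlft, hqc⟩ := hft
  obtain ⟨V, q, hqe, hqs, hV⟩ := hY
  obtain ⟨v, rfl⟩ := exists_ofPt_eq q hqs y
  obtain ⟨V₀, hV₀aff, hvV₀⟩ : ∃ V₀ : V.left.Opens, IsAffineOpen V₀ ∧ v ∈ V₀ := by
    obtain ⟨_, ⟨W, hW, rfl⟩, hvW, -⟩ := (V.left.isBasis_affineOpens).exists_subset_of_mem_open
      (Set.mem_univ v) isOpen_univ
    exact ⟨W, hW, hvW⟩
  let V₀' : Over S := Over.mk (V₀.ι ≫ V.hom)
  let ι₀ : V₀' ⟶ V := Over.homMk V₀.ι rfl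
  have hι₀ : Etale ι₀.left := inferInstanceAs (Etale V₀.ι)
  have hq₀e : RepWith @Etale ((yon S).map ι₀ ≫ q) :=
    (RepWith @Etale).comp_mem _ _ ((repWith_yon_map_iff @Etale ι₀).2 hι₀) hqe
  set q₀ := (yon S).map ι₀ ≫ q with hq₀
  have sqZ := IsPullback.of_hasPullback f.hom q₀
  have hZ : IsAlgSpace (pullback f.hom q₀) :=
    isAlgSpace_of_isPullback' Y.property X.property (IsAlgSpace.yon_obj V₀') sqZ
  have hV₀c : CompactSpace ↥V₀'.left := isCompact_iff_compactSpace.mp hV₀aff.isCompact
  have hZqc : IsQuasiCompactSp (pullback f.hom q₀) :=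
    hqc (IsAlgSpace.yon_obj V₀') (isQuasiCompactSp_yon hV₀c) q₀ _ _ sqZ
  obtain ⟨U, a, hae, has, hUc⟩ := hZqc
  obtain ⟨h, hh⟩ := (yon S).map_surjective (a ≫ pullback.snd f.hom q₀)
  have hfe : RepWith @Etale (pullback.fst f.hom q₀) := MorphismProperty.of_isPullback sqZ.flip hq₀e
  have hae' : RepWith @Etale (a ≫ pullback.fst f.hom q₀) := (RepWith @Etale).comp_mem _ _ hae hfe
  have hcomm : (a ≫ pullback.fst f.hom q₀) ≫ f.hom = (yon S).map h ≫ q₀ := by
    rw [hh, Category.assoc, Category.assoc, pullback.condition]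
  have hhlft : LocallyOfFiniteType h.left := hlft _ _ h hae' hq₀e hcomm
  have hV₀n : IsLocallyNoetherian V₀'.left := inferInstanceAs (IsLocallyNoetherian (V₀ : Scheme.{u}))
  let v₀ : ↥V₀'.left := ⟨v, hvV₀⟩
  have hv₀ : Points.ofPt q₀ v₀ = Points.ofPt q v := Points.ofPt_yon_map_comp ι₀ q v₀
  have hrange : Set.range h.left.base = Points.ofPt q₀ ⁻¹' Set.range (Points.map f.hom) := by
    ext t
    constructor
    · rintro ⟨u₁, rfl⟩
      refine ⟨Points.ofPt (a ≫ pullback.fst f.hom q₀) u₁, ?_⟩
      rw [Points.map_ofPt, hcomm]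
      exact Points.ofPt_yon_map_comp h q₀ u₁
    · rintro ⟨x, hx⟩
      have hxy : Points.map f.hom x = Points.map q₀ (Points.ofScheme V₀' t) := by
        rw [hx, ← Points.ofPt_eq_map_ofScheme]
      obtain ⟨z, -, hz⟩ := Points.exists_of_isPullback sqZ x (Points.ofScheme V₀' t) hxy
      obtain ⟨u₁, rfl⟩ := exists_ofPt_eq a has z
      refine ⟨u₁, ?_⟩
      apply (Points.schemeEquiv V₀').injective
      change Points.ofScheme V₀' (h.left u₁) = Points.ofScheme V₀' t
      rw [← hz, Points.map_ofPt, ← hh]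
      have := Points.ofPt_yon_map_comp h (𝟙 ((yon S).obj V₀')) u₁
      rw [Category.comp_id] at this
      exact this.symm
  have hcl : v₀ ∈ closure (Set.range h.left.base) := by
    rw [hrange, ← (isOpenMap_ofPt q₀ hq₀e).preimage_closure_eq_closure_preimage
      (Points.continuous_ofPt q₀)]
    change Points.ofPt q₀ v₀ ∈ closure _
    rw [hv₀]
    exact hy
  have hUc' : CompactSpace ↥U.left := hUc
  obtain ⟨A, iA, iD, iDVR, hA, xK, hcommA, hcp⟩ := exists_dvr_of_mem_closure_range h.left v₀ hcl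
  let a' : Spec (CommRingCat.of A) ⟶ S := hA ≫ V₀'.hom
  let hA' : Over.mk a' ⟶ V₀' := Over.homMk hA rfl
  let xK' : Over.mk (Spec.map (CommRingCat.ofHom (algebraMap A (FractionRing A))) ≫ a') ⟶ U :=
    Over.homMk xK (by
      change xK ≫ U.hom = Spec.map _ ≫ hA ≫ V₀'.hom
      calc xK ≫ U.hom = xK ≫ h.left ≫ V₀'.hom := by rw [Over.w h]
        _ = (xK ≫ h.left) ≫ V₀'.hom := (Category.assoc _ _ _).symm
        _ = (Spec.map _ ≫ hA) ≫ V₀'.hom := by rw [hcommA]
        _ = _ := Category.assoc _ _ _)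
  refine ⟨A, iA, iD, iDVR, a', (yon S).map hA' ≫ q₀,
    (yon S).map xK' ≫ a ≫ pullback.fst f.hom q₀, ?_, ?_⟩
  · have e1 : xK' ≫ h = (Over.homMk (Spec.map (CommRingCat.ofHom (algebraMap A (FractionRing A)))) :
        Over.mk (Spec.map (CommRingCat.ofHom (algebraMap A (FractionRing A))) ≫ a') ⟶ Over.mk a') ≫ hA' := by
      apply Over.OverMorphism.ext
      exact hcommA
    calc ((yon S).map xK' ≫ a ≫ pullback.fst f.hom q₀) ≫ f.hom
        = (yon S).map xK' ≫ (a ≫ pullback.fst f.hom q₀) ≫ f.hom := by simp only [Category.assoc]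
      _ = (yon S).map xK' ≫ (yon S).map h ≫ q₀ := by rw [hcomm]
      _ = (yon S).map (xK' ≫ h) ≫ q₀ := by rw [Functor.map_comp, Category.assoc]
      _ = _ := by rw [e1, Functor.map_comp, Category.assoc]
  · change Points.map _ (Points.ofScheme _ _) = _
    rw [← Points.ofPt_eq_map_ofScheme, Points.ofPt_yon_map_comp, ← hv₀]
    congr 1

end Groth.Agent.Lib.Helper3.DvrCl
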