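import Groth.Agent.Lib.Helper3.EtaleDim

set_option autoImplicit false
universe u
open CategoryTheory CategoryTheory.Limits AlgebraicGeometry

namespace Groth.Agent.Lib.Helper3

/-- For a locally quasi-finite morphism the dimension of the local ring does not grow. -/
theorem ringKrullDim_stalk_le_of_locallyQuasiFinite {A B : Scheme.{u}} (f : A ⟶ B)
    [LocallyQuasiFinite f] (x : A) :
    ringKrullDim (A.presheaf.stalk x) ≤ ringKrullDim (B.presheaf.stalk (f x)) := by
  have hqf : (f.stalkMap x).hom.QuasiFinite := f.quasiFiniteAt x
  algebraize [(f.stalkMap x).hom]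
  have hloc : IsLocalHom (algebraMap (B.presheaf.stalk (f x)) (A.presheaf.stalk x)) := by
    change IsLocalHom (f.stalkMap x).hom
    infer_instance
  have h1 := height_le_height_under_of_quasiFinite (R := B.presheaf.stalk (f x))
    (IsLocalRing.maximalIdeal (A.presheaf.stalk x))
  have h2 : (IsLocalRing.maximalIdeal (A.presheaf.stalk x)).under (B.presheaf.stalk (f x)) =
      IsLocalRing.maximalIdeal (B.presheaf.stalk (f x)) :=
    IsLocalRing.maximalIdeal_comap _
  rw [h2] at h1
  rw [← IsLocalRing.maximalIdeal_height_eq_ringKrullDim,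
    ← IsLocalRing.maximalIdeal_height_eq_ringKrullDim]
  exact_mod_cast h1

end Groth.Agent.Lib.Helper3
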