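import Groth.Agent.Lib.Helper3.AlgSpLocP2

set_option autoImplicit false
universe u
open CategoryTheory CategoryTheory.Limits AlgebraicGeometry Opposite MorphismProperty

namespace Groth.Agent.Lib.Helper3

variable {S : Scheme.{u}}

open AlgSp

/-- Given an etale chart `b` of the target, there is a chart of the source lying over it; it is
surjective onto `X ×_Y V`. -/
theorem exists_chart_over {X Y : Sp S} (hX : IsAlgSpace X) (hY : IsAlgSpace Y) (f : X ⟶ Y)
    {V : Over S} (b : (yon S).obj V ⟶ Y) (hbe : RepWith @Etale b) :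
    ∃ (U : Over S) (u : (yon S).obj U ⟶ pullback f b) (h : U ⟶ V),
      RepWith @Etale u ∧ RepWith @Surjective u ∧
      RepWith @Etale (u ≫ pullback.fst f b) ∧
      (RepWith @Surjective b → RepWith @Surjective (u ≫ pullback.fst f b)) ∧
      (yon S).map h = u ≫ pullback.snd f b ∧
      (u ≫ pullback.fst f b) ≫ f = (yon S).map h ≫ b := by
  have sq := IsPullback.of_hasPullback f b
  have hXV : IsAlgSpace (pullback f b) :=
    isAlgSpace_of_isPullback' hY hX (IsAlgSpace.yon_obj V) sq
  obtain ⟨U, u, hue, hus⟩ := hXV.atlas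
  obtain ⟨h, hh⟩ := (yon S).map_surjective (u ≫ pullback.snd f b)
  have hfe : RepWith @Etale (pullback.fst f b) := MorphismProperty.of_isPullback sq.flip hbe
  refine ⟨U, u, h, hue, hus, MorphismProperty.comp_mem _ _ _ hue hfe, fun hbs => ?_, hh, ?_⟩
  · have hfs : RepWith @Surjective (pullback.fst f b) := MorphismProperty.of_isPullback sq.flip hbs
    exact MorphismProperty.comp_mem _ _ _ hus hfs
  · rw [hh, Category.assoc, Category.assoc, pullback.condition]

variable {P : MorphismProperty Scheme.{u}} (hP : IsEtLocal P)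
include hP

/-- `LocP P` can be checked after precomposing with a surjective etale chart of the source. -/
theorem locP_of_source_cover {X Y : Sp S} (hY : IsAlgSpace Y) (f : X ⟶ Y) {U : Over S}
    (φ : (yon S).obj U ⟶ X) (hφe : RepWith @Etale φ) (hφs : RepWith @Surjective φ)
    (h : LocP P (φ ≫ f)) : LocP P f := by
  obtain ⟨V, b, hbe, hbs⟩ := hY.atlas
  have sq := hbe.rep.isPullback (φ ≫ f)
  obtain ⟨k, hk⟩ := (yon S).map_surjective (hbe.rep.fst (φ ≫ f))
  rw [← hk] at sq
  have hse : Etale (hbe.rep.snd (φ ≫ f)).left := hbe.property_snd _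
  have hss : Surjective (hbe.rep.snd (φ ≫ f)).left := hbs.property _ _ _ sq
  have hae : RepWith @Etale ((yon S).map (hbe.rep.snd (φ ≫ f))) := (repWith_yon_map_iff _ _).2 hse
  have has : RepWith @Surjective ((yon S).map (hbe.rep.snd (φ ≫ f))) :=
    (repWith_yon_map_iff _ _).2 hss
  have hk' : P k.left := h _ b k hae hbe sq.w.symm
  refine locP_of_chart hP f ((yon S).map (hbe.rep.snd (φ ≫ f)) ≫ φ)
    (MorphismProperty.comp_mem _ _ _ hae hφe) (MorphismProperty.comp_mem _ _ _ has hφs) b hbe k ?_ hk'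
  rw [Category.assoc]
  exact sq.w.symm

/-- `LocP P` can be checked after base change along a surjective etale chart of the target. -/
theorem locP_of_target_cover {X Y : Sp S} (hX : IsAlgSpace X) (hY : IsAlgSpace Y) (f : X ⟶ Y)
    {V : Over S} (p : (yon S).obj V ⟶ Y) (hpe : RepWith @Etale p) (hps : RepWith @Surjective p)
    {Q : Sp S} (fst : Q ⟶ X) (snd : Q ⟶ (yon S).obj V) (sq : IsPullback fst snd f p)
    (h : LocP P snd) : LocP P f := by
  have hQ : IsAlgSpace Q := isAlgSpace_of_isPullback' hY hX (IsAlgSpace.yon_obj V) sq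
  obtain ⟨U, u, hue, hus⟩ := hQ.atlas
  obtain ⟨k, hk⟩ := (yon S).map_surjective (u ≫ snd)
  have hfe : RepWith @Etale fst := MorphismProperty.of_isPullback sq.flip hpe
  have hfs : RepWith @Surjective fst := MorphismProperty.of_isPullback sq.flip hps
  have hk' : P k.left := h u (𝟙 _) k hue (repWith_id _ V) (by rw [hk, Category.comp_id])
  refine locP_of_chart hP f (u ≫ fst) (MorphismProperty.comp_mem _ _ _ hue hfe)
    (MorphismProperty.comp_mem _ _ _ hus hfs) p hpe k ?_ hk'
  rw [hk, Category.assoc, Category.assoc, sq.w]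

/-- `LocP P` is stable under composition. -/
theorem locP_comp {X Y Z : Sp S} (hX : IsAlgSpace X) (hY : IsAlgSpace Y) (hZ : IsAlgSpace Z)
    (f : X ⟶ Y) (g : Y ⟶ Z) (hf : LocP P f) (hg : LocP P g) : LocP P (f ≫ g) := by
  obtain ⟨W, c, hce, hcs⟩ := hZ.atlas
  obtain ⟨V, v, l, -, -, hbe, hbs, -, hl⟩ := exists_chart_over hY hZ g c hce
  obtain ⟨U, u, h, -, -, hae, has, -, hh⟩ := exists_chart_over hX hY f _ hbe
  have h1 : P h.left := hf _ _ h hae hbe hh
  have h2 : P l.left := hg _ _ l hbe hce hl
  refine locP_of_chart hP (f ≫ g) _ hae (has (hbs hcs)) c hce (h ≫ l) ?_ (hP.comp_mem _ _ h1 h2)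
  rw [← Category.assoc, hh, Category.assoc, hl, Functor.map_comp, Category.assoc]

end Groth.Agent.Lib.Helper3
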