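import Groth.Agent.Lib.Helper3.ResTrdeg
import Groth.Agent.Lib.Helper3.AlgSpChartPts
import Groth.Agent.Lib.Helper3.AlgSpLocP3
import Groth.Agent.Lib.Helper3.AlgSpHasAtMor
import Groth.Prelude.Def_AlgSpDec

set_option autoImplicit false
universe u
open CategoryTheory CategoryTheory.Limits AlgebraicGeometry
open AlgSp

namespace Groth.Agent.Lib.Helper3

/-- In a commutative square of schemes with etale vertical maps the transcendence degrees of the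
residue field extensions of the horizontal maps agree. -/
theorem resTrdeg_eq_of_etale_square {W V U₁ V₁ : Scheme.{u}} (k : W ⟶ V) (q : V ⟶ V₁) (p : W ⟶ U₁)
    (h : U₁ ⟶ V₁) [Etale p] [Etale q] (comm : k ≫ q = p ≫ h) (w : W) :
    Dual3.resTrdeg h (p w) = Dual3.resTrdeg k w := by
  have h1 := resTrdeg_comp k q w
  have h2 := resTrdeg_comp p h w
  rw [resTrdeg_eq_zero_of_etale q, zero_add] at h1
  rw [resTrdeg_eq_zero_of_etale p, add_zero] at h2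
  rw [← h1, ← h2, comm]

variable {S : Scheme.{u}}

theorem ofPt_map_of_comm {X Y : Sp S} (f : X ⟶ Y) {U V : Over S} (a : (yon S).obj U ⟶ X)
    (b : (yon S).obj V ⟶ Y) (h : U ⟶ V) (w : a ≫ f = (yon S).map h ≫ b) (u : ↥U.left) :
    Points.ofPt b (h.left u) = Points.map f (Points.ofPt a u) := by
  rw [← Points.ofPt_yon_map_comp, ← w, Points.map_ofPt]

/-- The transcendence degree of the residue field extension at a point does not depend on the
chart diagram. -/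
theorem resTrdeg_eq_of_charts {X Y : Sp S} (f : X ⟶ Y) {U₁ V₁ U₂ V₂ : Over S}
    (a₁ : (yon S).obj U₁ ⟶ X) (b₁ : (yon S).obj V₁ ⟶ Y) (h₁ : U₁ ⟶ V₁)
    (a₂ : (yon S).obj U₂ ⟶ X) (b₂ : (yon S).obj V₂ ⟶ Y) (h₂ : U₂ ⟶ V₂)
    (ha₁ : RepWith @Etale a₁) (hb₁ : RepWith @Etale b₁) (ha₂ : RepWith @Etale a₂)
    (hb₂ : RepWith @Etale b₂) (w₁ : a₁ ≫ f = (yon S).map h₁ ≫ b₁)
    (w₂ : a₂ ≫ f = (yon S).map h₂ ≫ b₂) (u₁ : ↥U₁.left) (u₂ : ↥U₂.left)
    (h : Points.ofPt a₁ u₁ = Points.ofPt a₂ u₂) :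
    Dual3.resTrdeg h₁.left u₁ = Dual3.resTrdeg h₂.left u₂ := by
  obtain ⟨W, pU₁, pU₂, sqU⟩ := exists_pullback_charts a₁ ha₁.1 a₂
  obtain ⟨w, rfl, rfl⟩ := exists_of_ofPt_eq_of_isPullback sqU u₁ u₂ h
  obtain ⟨V, pV₁, pV₂, sqV⟩ := exists_pullback_charts b₁ hb₁.1 b₂
  have hpU₁ : Etale pU₁.left := ha₂.2 a₁ ((yon S).map pU₂) pU₁ sqU.flip
  have hpU₂ : Etale pU₂.left := ha₁.2 a₂ ((yon S).map pU₁) pU₂ sqU
  have hpV₁ : Etale pV₁.left := hb₂.2 b₁ ((yon S).map pV₂) pV₁ sqV.flip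
  have hpV₂ : Etale pV₂.left := hb₁.2 b₂ ((yon S).map pV₁) pV₂ sqV
  have comm : (yon S).map (pU₁ ≫ h₁) ≫ b₁ = (yon S).map (pU₂ ≫ h₂) ≫ b₂ := by
    rw [Functor.map_comp, Functor.map_comp, Category.assoc, Category.assoc, ← w₁, ← w₂,
      ← Category.assoc, ← Category.assoc, sqU.w]
  obtain ⟨k, hk⟩ := (yon S).map_surjective (sqV.lift _ _ comm)
  have hk1 : k ≫ pV₁ = pU₁ ≫ h₁ := by
    apply (yon S).map_injective
    rw [Functor.map_comp, hk, sqV.lift_fst]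
  have hk2 : k ≫ pV₂ = pU₂ ≫ h₂ := by
    apply (yon S).map_injective
    rw [Functor.map_comp, hk, sqV.lift_snd]
  have e1 : k.left ≫ pV₁.left = pU₁.left ≫ h₁.left := by
    rw [← Over.comp_left, hk1, Over.comp_left]
  have e2 : k.left ≫ pV₂.left = pU₂.left ≫ h₂.left := by
    rw [← Over.comp_left, hk2, Over.comp_left]
  rw [resTrdeg_eq_of_etale_square k.left pV₁.left pU₁.left h₁.left e1 w,
    resTrdeg_eq_of_etale_square k.left pV₂.left pU₂.left h₂.left e2 w]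

/-- Compatible chart diagrams for a composable pair through a given point. -/
theorem exists_chart_triple {X Y Z : Sp S} (hX : IsAlgSpace X) (hY : IsAlgSpace Y)
    (hZ : IsAlgSpace Z) (f : X ⟶ Y) (g : Y ⟶ Z) (x : Points X) :
    ∃ (U V W : Over S) (a : (yon S).obj U ⟶ X) (b : (yon S).obj V ⟶ Y) (c : (yon S).obj W ⟶ Z)
      (h : U ⟶ V) (k : V ⟶ W) (u : ↥U.left),
      RepWith @Etale a ∧ RepWith @Etale b ∧ RepWith @Etale c ∧
      a ≫ f = (yon S).map h ≫ b ∧ b ≫ g = (yon S).map k ≫ c ∧ Points.ofPt a u = x := by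
  obtain ⟨W, c, hce, hcs⟩ := hZ.atlas
  obtain ⟨V, v, k, -, -, hbe, hbs, -, hk⟩ := exists_chart_over hY hZ g c hce
  obtain ⟨U, u', h, -, -, hae, has, -, hh⟩ := exists_chart_over hX hY f _ hbe
  obtain ⟨u, hu⟩ := exists_ofPt_eq _ (has (hbs hcs)) x
  exact ⟨U, V, W, _, _, c, h, k, u, hae, hbe, hce, hh, hk, hu⟩

end Groth.Agent.Lib.Helper3
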