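import Groth.Agent.Lib.Helper3.AlgSpOpen
import Groth.Agent.S9910

set_option autoImplicit false
universe u
open CategoryTheory CategoryTheory.Limits AlgebraicGeometry Opposite MorphismProperty

namespace Groth.Agent.Lib.Helper3

variable {S : Scheme.{u}}

open AlgSp

/-- A chart diagram of a morphism of algebraic spaces with both charts surjective: atlas `V ⟶ Y`,
atlas `U ⟶ X ×_Y V`. -/
theorem exists_chart_diagram {X Y : Sp S} (hX : IsAlgSpace X) (hY : IsAlgSpace Y) (f : X ⟶ Y) :
    ∃ (U V : Over S) (v : (yon S).obj V ⟶ Y) (u : (yon S).obj U ⟶ pullback f v) (h : U ⟶ V),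
      RepWith @Etale v ∧ RepWith @Surjective v ∧ RepWith @Etale u ∧ RepWith @Surjective u ∧
      RepWith @Etale (u ≫ pullback.fst f v) ∧ RepWith @Surjective (u ≫ pullback.fst f v) ∧
      (yon S).map h = u ≫ pullback.snd f v ∧
      (u ≫ pullback.fst f v) ≫ f = (yon S).map h ≫ v := by
  obtain ⟨V, v, hve, hvs⟩ := hY.atlas
  have sq := IsPullback.of_hasPullback f v
  have hXV : IsAlgSpace (pullback f v) :=
    isAlgSpace_of_isPullback' hY hX (IsAlgSpace.yon_obj V) sq
  obtain ⟨U, u, hue, hus⟩ := hXV.atlas
  obtain ⟨h, hh⟩ := (yon S).map_surjective (u ≫ pullback.snd f v)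
  have hfe : RepWith @Etale (pullback.fst f v) := MorphismProperty.of_isPullback sq.flip hve
  have hfs : RepWith @Surjective (pullback.fst f v) := MorphismProperty.of_isPullback sq.flip hvs
  refine ⟨U, V, v, u, h, hve, hvs, hue, hus, MorphismProperty.comp_mem _ _ _ hue hfe,
    MorphismProperty.comp_mem _ _ _ hus hfs, hh, ?_⟩
  rw [hh, Category.assoc, Category.assoc, pullback.condition]

/-- A flat morphism locally of finite presentation between algebraic spaces is universally open. -/
theorem isUnivOpenMor_of_flat_lfp {X Y : Sp S} (hX : IsAlgSpace X) (hY : IsAlgSpace Y)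
    (f : X ⟶ Y) (hfl : LocP @Flat f) (hfp : LocP @LocallyOfFinitePresentation f) :
    IsUnivOpenMor f := by
  obtain ⟨U, V, v, u, h, hve, hvs, hue, hus, hae, has, hh, hcomm⟩ := exists_chart_diagram hX hY f
  have h1 : Flat h.left := hfl _ _ h hae hve hcomm
  have h2 : LocallyOfFinitePresentation h.left := hfp _ _ h hae hve hcomm
  have h3 : UniversallyOpen h.left := inferInstance
  have h4 : IsUnivOpenMor ((yon S).map h) :=
    isUnivOpenMor_of_repWith ((repWith_yon_map_iff _ h).2 h3)
  rw [hh] at h4
  have h5 : IsUnivOpenMor (pullback.snd f v) := isUnivOpenMor_of_comp_surjective u _ hus h4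
  exact Groth.Agent.S9910.isUnivOpenMor_of_etale_cover f V v hve hvs _ _
    (IsPullback.of_hasPullback f v) h5

end Groth.Agent.Lib.Helper3
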