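import Groth.Agent.Lib.Helper3.EtSrcLocal5
import Mathlib.AlgebraicGeometry.Morphisms.QuasiFinite

set_option autoImplicit false
universe u
open CategoryTheory CategoryTheory.Limits AlgebraicGeometry MorphismProperty

namespace Groth.Agent.Lib.Helper3

/-- Being locally quasi-finite and locally of finite type is etale local on the source. -/
theorem locallyQuasiFinite_of_etale_surjective_comp {U' U V : Scheme.{u}} (π : U' ⟶ U)
    (g : U ⟶ V) [Etale π] [Surjective π] (h1 : LocallyOfFiniteType (π ≫ g))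
    (h2 : LocallyQuasiFinite (π ≫ g)) : LocallyQuasiFinite g ∧ LocallyOfFiniteType g := by
  have hg : LocallyOfFiniteType g := locallyOfFiniteType_of_etale_surjective_comp π g h1
  refine ⟨?_, hg⟩
  rw [locallyQuasiFinite_iff_isDiscrete_preimage_singleton]
  intro v
  have hd : _root_.IsDiscrete ((π ≫ g) ⁻¹' {v}) := (π ≫ g).isDiscrete_preimage_singleton v
  rw [isDiscrete_iff_forall_mem_exists_isOpen] at hd ⊢
  intro u hu
  obtain ⟨u', rfl⟩ := π.surjective u
  have hu' : u' ∈ (π ≫ g) ⁻¹' {v} := by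
    simpa [Scheme.Hom.comp_apply] using hu
  obtain ⟨O, hO, hOs⟩ := hd u' hu'
  refine ⟨π '' O, π.isOpenMap O hO, ?_⟩
  ext x
  constructor
  · rintro ⟨⟨y, hy, rfl⟩, hx⟩
    have : y ∈ O ∩ (π ≫ g) ⁻¹' {v} := ⟨hy, by simpa [Scheme.Hom.comp_apply] using hx⟩
    rw [hOs] at this
    rw [Set.mem_singleton_iff] at this ⊢
    rw [this]
  · intro hx
    rw [Set.mem_singleton_iff] at hx
    subst hx
    have : u' ∈ O ∩ (π ≫ g) ⁻¹' {v} := by rw [hOs]; rfl
    exact ⟨⟨u', this.1, rfl⟩, hu⟩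

end Groth.Agent.Lib.Helper3
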