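import Groth.Agent.Lib.Helper3.EtSrcLocalUnram
import Groth.Agent.Lib.Helper3.EtSrcLocalLQF
import Groth.Agent.Lib.Helper3.AlgSpChart

set_option autoImplicit false
universe u
open CategoryTheory CategoryTheory.Limits AlgebraicGeometry Opposite MorphismProperty

namespace Groth.Agent.Lib.Helper3

/-- A property of morphisms of schemes which is stable under composition and base change, holds
for etale morphisms and is etale local on the source. -/
structure IsEtLocal (P : MorphismProperty Scheme.{u}) : Prop where
  stableComp : P.IsStableUnderComposition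
  stableBC : P.IsStableUnderBaseChange
  etale_le : ∀ {X Y : Scheme.{u}} (f : X ⟶ Y), Etale f → P f
  of_comp : ∀ {U' U V : Scheme.{u}} (π : U' ⟶ U) (g : U ⟶ V), Etale π → Surjective π →
    P (π ≫ g) → P g

namespace IsEtLocal

variable {P : MorphismProperty Scheme.{u}} (hP : IsEtLocal P)
include hP

theorem comp_mem {X Y Z : Scheme.{u}} (f : X ⟶ Y) (g : Y ⟶ Z) (hf : P f) (hg : P g) :
    P (f ≫ g) :=
  have := hP.stableComp
  P.comp_mem f g hf hg

theorem of_isPullback {X Y X' Y' : Scheme.{u}} {f : X ⟶ Y} {g : Y' ⟶ Y} {fst : X' ⟶ X}
    {f' : X' ⟶ Y'} (sq : IsPullback fst f' f g) (hf : P f) : P f' :=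
  have := hP.stableBC
  P.of_isPullback sq hf

/-- Cancellation of an etale morphism on the right. -/
theorem of_postcomp_etale {X Y Z : Scheme.{u}} (a : X ⟶ Y) (b : Y ⟶ Z) [Etale b]
    (h : P (a ≫ b)) : P a := by
  let s : X ⟶ pullback (a ≫ b) b := pullback.lift (𝟙 X) a (by simp)
  have hs1 : s ≫ pullback.fst (a ≫ b) b = 𝟙 X := pullback.lift_fst _ _ _
  have hs2 : s ≫ pullback.snd (a ≫ b) b = a := pullback.lift_snd _ _ _
  have hse : Etale s := by
    have : Etale (s ≫ pullback.fst (a ≫ b) b) := by rw [hs1]; infer_instance
    exact MorphismProperty.of_postcomp (W := @Etale) (W' := @Etale) s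
      (pullback.fst (a ≫ b) b) inferInstance this
  have hsnd : P (pullback.snd (a ≫ b) b) :=
    hP.of_isPullback (IsPullback.of_hasPullback (a ≫ b) b) h
  rw [← hs2]
  exact hP.comp_mem _ _ (hP.etale_le s hse) hsnd

/-- Etale locality on the target. -/
theorem of_isPullback_etale_surjective {X Y X' Y' : Scheme.{u}} {f : X ⟶ Y} {g : Y' ⟶ Y}
    {fst : X' ⟶ X} {f' : X' ⟶ Y'} (sq : IsPullback fst f' f g) [Etale g] [Surjective g]
    (hf' : P f') : P f := by
  have h1 : Etale fst := MorphismProperty.of_isPullback (P := @Etale) sq.flip inferInstance
  have h2 : Surjective fst := MorphismProperty.of_isPullback (P := @Surjective) sq.flip inferInstance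
  refine hP.of_comp fst f h1 h2 ?_
  rw [sq.w]
  exact hP.comp_mem _ _ hf' (hP.etale_le g inferInstance)

end IsEtLocal

theorem isEtLocal_locallyOfFiniteType : IsEtLocal @LocallyOfFiniteType.{u} where
  stableComp := inferInstance
  stableBC := inferInstance
  etale_le f hf := by have : Etale f := hf; infer_instance
  of_comp π g h1 h2 h := by
    have : Etale π := h1
    have : Surjective π := h2
    exact locallyOfFiniteType_of_etale_surjective_comp π g h

theorem isEtLocal_locallyOfFinitePresentation : IsEtLocal @LocallyOfFinitePresentation.{u} where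
  stableComp := inferInstance
  stableBC := inferInstance
  etale_le f hf := by have : Etale f := hf; infer_instance
  of_comp π g h1 h2 h := by
    have : Etale π := h1
    have : Surjective π := h2
    exact locallyOfFinitePresentation_of_etale_surjective_comp π g h

theorem isEtLocal_flat : IsEtLocal @Flat.{u} where
  stableComp := inferInstance
  stableBC := inferInstance
  etale_le f hf := by have : Etale f := hf; infer_instance
  of_comp π g h1 h2 h := by
    have : Etale π := h1
    have : Surjective π := h2
    exact flat_of_flat_surjective_comp π g h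

theorem isEtLocal_etale : IsEtLocal @Etale.{u} where
  stableComp := inferInstance
  stableBC := inferInstance
  etale_le f hf := hf
  of_comp π g h1 h2 h := by
    have : Etale π := h1
    have : Surjective π := h2
    exact etale_of_etale_surjective_comp π g h

theorem isEtLocal_unramified :
    IsEtLocal (@LocallyOfFiniteType ⊓ @FormallyUnramified : MorphismProperty Scheme.{u}) where
  stableComp := inferInstance
  stableBC := inferInstance
  etale_le f hf := by
    have : Etale f := hf
    exact ⟨inferInstance, inferInstance⟩
  of_comp π g h1 h2 h := by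
    have : Etale π := h1
    have : Surjective π := h2
    exact unramified_of_etale_surjective_comp π g h

theorem locallyQuasiFinite_of_unramified {X Y : Scheme.{u}} (f : X ⟶ Y) [LocallyOfFiniteType f]
    [FormallyUnramified f] : LocallyQuasiFinite f := by
  rw [HasRingHomProperty.iff_appLE (P := @LocallyQuasiFinite)]
  intro U V e
  have h1 := HasRingHomProperty.appLE (P := @LocallyOfFiniteType) f inferInstance U V e
  have h2 := HasRingHomProperty.appLE (P := @FormallyUnramified) f inferInstance U V e
  algebraize [(f.appLE U V e).hom]
  change Algebra.QuasiFinite _ _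
  infer_instance

theorem isEtLocal_locallyQuasiFinite :
    IsEtLocal (@LocallyQuasiFinite ⊓ @LocallyOfFiniteType : MorphismProperty Scheme.{u}) where
  stableComp := inferInstance
  stableBC := inferInstance
  etale_le f hf := by
    have : Etale f := hf
    exact ⟨locallyQuasiFinite_of_unramified f, inferInstance⟩
  of_comp π g h1 h2 h := by
    have : Etale π := h1
    have : Surjective π := h2
    exact locallyQuasiFinite_of_etale_surjective_comp π g h.2 h.1

end Groth.Agent.Lib.Helper3
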