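import Groth.Agent.Lib.Helper3.FpqcDescAffine
import Mathlib.AlgebraicGeometry.Morphisms.Descent
import Mathlib.AlgebraicGeometry.Morphisms.FlatDescent

set_option autoImplicit false

universe u
open CategoryTheory CategoryTheory.Limits AlgebraicGeometry Opposite AlgSp MorphismProperty

namespace Groth.Agent.Lib.Helper3.FpqcDesc

open Groth.Agent.Lib.Helper3 Groth.Agent.Lib.Helper3.AffDesc

/-- affineness of a scheme descends along a faithfully flat morphism of affine schemes. -/
theorem isAffine_of_fpqc_affine_cover {R T : CommRingCat.{u}} (φ : R ⟶ T) {Y : Scheme.{u}}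
    (g : Y ⟶ Spec R) (hφ : (@Surjective ⊓ @Flat : MorphismProperty Scheme.{u}) (Spec.map φ))
    (h : IsAffineHom (pullback.fst (Spec.map φ) g)) : IsAffine Y := by
  obtain ⟨hf1, hf2⟩ := hφ
  have hf1' : Surjective (Spec.map φ) := hf1
  have hf2' : Flat (Spec.map φ) := hf2
  let S : Scheme.{u} := Spec R
  let Z : Over S := Over.mk (𝟙 S)
  let V : Over S := Over.mk (Spec.map φ)
  let Yo : Over S := Over.mk g
  let q : V ⟶ Z := Over.homMk (Spec.map φ) (by simp [V, Z])
  let gZ : Yo ⟶ Z := Over.homMk g (by simp [Yo, Z])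
  let W : Over S := pullback gZ q
  let p₁ : W ⟶ Yo := pullback.fst gZ q
  let w : W ⟶ V := pullback.snd gZ q
  have sqW : IsPullback p₁ w gZ q := IsPullback.of_hasPullback _ _
  have sqWL : IsPullback p₁.left w.left g (Spec.map φ) := sqW.map (Over.forget S)
  have hw : IsAffineHom w.left := by
    have e := sqWL.flip.isoPullback_hom_fst
    have : IsAffineHom (sqWL.flip.isoPullback.hom ≫ pullback.fst (Spec.map φ) g) := by
      infer_instance
    rwa [e] at this
  have hVaff : IsAffine V.left := inferInstanceAs (IsAffine (Spec T))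
  have hZaff : IsAffine Z.left := inferInstanceAs (IsAffine (Spec R))
  have hWaff : IsAffine W.left := isAffine_of_isAffineHom w.left
  have hq1 : Flat q.left := hf2'
  have hq3 : Surjective q.left := hf1'
  obtain ⟨W₀, i, c, e, hW₀, -, -, -⟩ := exists_affine_of_fpqc_cover q w (IsAlgSpace.yon_obj Yo)
    ((yon S).map gZ) ((yon S).map p₁) (sqW.map (yon S))
  let e₀ : W₀ ≅ Yo := (yon S).preimageIso e
  have : IsIso e₀.hom.left := inferInstanceAs (IsIso ((Over.forget S).map e₀.hom))
  exact IsAffine.of_isIso e₀.inv.left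

/-- affine morphisms satisfy fpqc descent. -/
instance isAffineHom_descendsAlong_fpqc :
    MorphismProperty.DescendsAlong @IsAffineHom
      (@Surjective ⊓ @Flat ⊓ @QuasiCompact : MorphismProperty Scheme.{u}) := by
  apply IsZariskiLocalAtTarget.descendsAlong_inf_quasiCompact
  · rw [inf_comm]
    exact inf_le_inf le_rfl (IsLocalIso.le_of_isZariskiLocalAtSource _)
  intro R T Y φ g hφ h
  have : IsAffine Y := isAffine_of_fpqc_affine_cover φ g hφ h
  exact (HasAffineProperty.iff_of_isAffine (P := @IsAffineHom)).2 this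

/-- properties of the form `affineAnd Q` with `Q` codescending along faithfully flat ring maps
satisfy fpqc descent. -/
theorem descendsAlong_of_affineAnd_fpqc {P : MorphismProperty Scheme.{u}}
    {Q : ∀ {R S : Type u} [CommRing R] [CommRing S], (R →+* S) → Prop}
    (hP : HasAffineProperty P (affineAnd Q)) (hQ : RingHom.RespectsIso Q)
    (hQQ' : RingHom.CodescendsAlong Q RingHom.FaithfullyFlat) [P.IsStableUnderBaseChange] :
    P.DescendsAlong (@Surjective ⊓ @Flat ⊓ @QuasiCompact : MorphismProperty Scheme.{u}) := by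
  have H₂ : ∀ {R S : CommRingCat.{u}} {f : R ⟶ S},
      (@Surjective ⊓ @Flat : MorphismProperty Scheme.{u}) (Spec.map f) →
      RingHom.FaithfullyFlat f.hom := by
    intro R S f ⟨hf₁, hf₂⟩
    rw [RingHom.FaithfullyFlat.iff_flat_and_comap_surjective]
    have : Surjective (Spec.map f) := hf₁
    refine ⟨?_, (Spec.map f).surjective⟩
    rwa [HasRingHomProperty.Spec_iff (P := @Flat)] at hf₂
  apply IsZariskiLocalAtTarget.descendsAlong_inf_quasiCompact
  · rw [inf_comm]
    exact inf_le_inf le_rfl (IsLocalIso.le_of_isZariskiLocalAtSource _)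
  introv h hf
  have : IsAffine Y := by
    apply isAffine_of_fpqc_affine_cover φ g h
    exact AlgebraicGeometry.HasAffineProperty.affineAnd_le_isAffineHom P inferInstance _ hf
  wlog hY : ∃ S, Y = Spec S generalizing Y
  · rw [← P.cancel_left_of_respectsIso Y.isoSpec.inv]
    have heq : pullback.fst (Spec.map φ) (Y.isoSpec.inv ≫ g) =
        pullback.map _ _ _ _ (𝟙 _) (Y.isoSpec.inv) (𝟙 _) (by simp) (by simp) ≫
          pullback.fst (Spec.map φ) g := (pullback.lift_fst _ _ _).symm
    refine this _ ?_ inferInstance ⟨_, rfl⟩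
    rwa [heq, P.cancel_left_of_respectsIso]
  obtain ⟨Y, rfl⟩ := hY
  apply of_pullback_fst_Spec_of_codescendsAlong _ _ hQQ' H₂ _ h hf
  simp [HasAffineProperty.SpecMap_iff_of_affineAnd hP hQ]

/-- closed immersions satisfy fpqc descent. -/
instance isClosedImmersion_descendsAlong_fpqc :
    MorphismProperty.DescendsAlong @IsClosedImmersion
      (@Surjective ⊓ @Flat ⊓ @QuasiCompact : MorphismProperty Scheme.{u}) :=
  descendsAlong_of_affineAnd_fpqc (P := @IsClosedImmersion)
    (Q := fun f => Function.Surjective f) IsClosedImmersion.hasAffineProperty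
    RingHom.surjective_respectsIso RingHom.FaithfullyFlat.codescendsAlong_surjective

end Groth.Agent.Lib.Helper3.FpqcDesc
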