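import Groth.Agent.Lib.Helper3.EtSrcLocal4

set_option autoImplicit false
universe u
open CategoryTheory CategoryTheory.Limits AlgebraicGeometry MorphismProperty

namespace Groth.Agent.Lib.Helper3

/-- Cancellation for morphisms locally of finite presentation. -/
theorem locallyOfFinitePresentation_of_comp {X Y Z : Scheme.{u}} (f : X ⟶ Y) (g : Y ⟶ Z)
    (h : LocallyOfFinitePresentation (f ≫ g)) (hg : LocallyOfFiniteType g) :
    LocallyOfFinitePresentation f := by
  wlog hZ : IsAffine Z generalizing X Y Z
  · rw [IsZariskiLocalAtTarget.iff_of_iSup_eq_top (P := @LocallyOfFinitePresentation) _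
      (g.iSup_preimage_eq_top (iSup_affineOpens_eq_top Z))]
    intro U
    have H := IsZariskiLocalAtTarget.restrict h U.1
    rw [morphismRestrict_comp] at H
    exact this _ _ H inferInstance inferInstance
  wlog hY : IsAffine Y generalizing X Y
  · rw [IsZariskiLocalAtTarget.iff_of_iSup_eq_top (P := @LocallyOfFinitePresentation) _
      (iSup_affineOpens_eq_top Y)]
    intro U
    have H := HasRingHomProperty.comp_of_isOpenImmersion @LocallyOfFinitePresentation
      (f ⁻¹ᵁ U.1).ι (f ≫ g) h
    rw [← morphismRestrict_ι_assoc] at H
    exact this (f ∣_ U.1) (U.1.ι ≫ g) H inferInstance inferInstance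
  wlog hX : IsAffine X generalizing X
  · rw [IsZariskiLocalAtSource.iff_of_iSup_eq_top (P := @LocallyOfFinitePresentation) _
      (iSup_affineOpens_eq_top X)]
    intro U
    have H := HasRingHomProperty.comp_of_isOpenImmersion @LocallyOfFinitePresentation
      U.1.ι (f ≫ g) h
    rw [← Category.assoc] at H
    exact this (U.1.ι ≫ f) H inferInstance
  rw [HasRingHomProperty.iff_of_isAffine (P := @LocallyOfFinitePresentation)] at h ⊢
  rw [HasRingHomProperty.iff_of_isAffine (P := @LocallyOfFiniteType)] at hg
  rw [Scheme.Hom.comp_appTop] at h
  exact RingHom.FinitePresentation.of_comp_finiteType _ h hg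

/-- Being locally of finite type is etale local on the source. -/
theorem locallyOfFiniteType_of_etale_surjective_comp {U' U V : Scheme.{u}} (π : U' ⟶ U)
    (g : U ⟶ V) [Etale π] [Surjective π] (h : LocallyOfFiniteType (π ≫ g)) :
    LocallyOfFiniteType g := by
  refine of_etale_surjective_comp @LocallyOfFiniteType ?_ ?_ ?_ π g h
  · intro X Y f hf
    have : Etale f := hf
    infer_instance
  · intro X Y Z a b hab _
    exact locallyOfFiniteType_of_comp a b
  · intro R R' α hα
    have : LocallyOfFinitePresentation (Spec.map α) :=
      (HasRingHomProperty.Spec_iff (P := @LocallyOfFinitePresentation)).2 hα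
    infer_instance

/-- Being locally of finite presentation is etale local on the source. -/
theorem locallyOfFinitePresentation_of_etale_surjective_comp {U' U V : Scheme.{u}} (π : U' ⟶ U)
    (g : U ⟶ V) [Etale π] [Surjective π] (h : LocallyOfFinitePresentation (π ≫ g)) :
    LocallyOfFinitePresentation g := by
  refine of_etale_surjective_comp @LocallyOfFinitePresentation ?_ ?_ ?_ π g h
  · intro X Y f hf
    have : Etale f := hf
    infer_instance
  · intro X Y Z a b hab hb
    have : LocallyOfFinitePresentation b := hb
    exact locallyOfFinitePresentation_of_comp a b hab inferInstance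
  · intro R R' α hα
    exact (HasRingHomProperty.Spec_iff (P := @LocallyOfFinitePresentation)).2 hα

end Groth.Agent.Lib.Helper3
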