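import Groth.Agent.Lib.Helper3.SchemeDim
import Groth.Agent.Lib.Helper3.AlgSpChartPts
import Groth.Prelude.Def_Flat

set_option autoImplicit false
universe u
open CategoryTheory CategoryTheory.Limits AlgebraicGeometry
open AlgSp

namespace Groth.Agent.Lib.Helper3

/-- The Krull dimension of an open subset of a scheme is the supremum of the dimensions of the
local rings at its points. -/
theorem topologicalKrullDim_opens_eq_iSup_stalk (X : Scheme.{u}) (O : X.Opens) :
    topologicalKrullDim (O : Set X) = ⨆ x : O, ringKrullDim (X.presheaf.stalk x.1) := by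
  have h := topologicalKrullDim_eq_iSup_stalk O.toScheme
  have h' : topologicalKrullDim (O : Set X) = topologicalKrullDim O.toScheme := rfl
  rw [h', h]
  exact iSup_congr fun x => ringKrullDim_stalk_eq_of_etale O.ι x

/-- The local dimension of a scheme at a point is invariant under etale morphisms. -/
theorem localDim_eq_of_etale {A B : Scheme.{u}} (g : A ⟶ B) [Etale g] (w : A) :
    FlatMor.localDim A w = FlatMor.localDim B (g w) := by
  unfold FlatMor.localDim
  apply le_antisymm
  · refine le_iInf fun U' => ?_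
    refine (iInf_le _ (⟨g ⁻¹ᵁ U'.1, U'.2⟩ : {W' : TopologicalSpace.Opens A // w ∈ W'})).trans ?_
    rw [topologicalKrullDim_opens_eq_iSup_stalk, topologicalKrullDim_opens_eq_iSup_stalk]
    refine iSup_le fun x => ?_
    rw [ringKrullDim_stalk_eq_of_etale g x.1]
    exact le_iSup (fun y : U'.1 => ringKrullDim (B.presheaf.stalk y.1)) ⟨g x.1, x.2⟩
  · refine le_iInf fun W' => ?_
    have hopen : IsOpen (g '' (W'.1 : Set A)) := g.isOpenMap _ W'.1.2
    refine (iInf_le _ (⟨⟨g '' (W'.1 : Set A), hopen⟩, ⟨w, W'.2, rfl⟩⟩ :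
      {U' : TopologicalSpace.Opens B // g w ∈ U'})).trans ?_
    rw [topologicalKrullDim_opens_eq_iSup_stalk, topologicalKrullDim_opens_eq_iSup_stalk]
    refine iSup_le fun y => ?_
    obtain ⟨x, hx, hxy⟩ := y.2
    rw [← hxy, ← ringKrullDim_stalk_eq_of_etale g x]
    exact le_iSup (fun y : W'.1 => ringKrullDim (A.presheaf.stalk y.1)) ⟨x, hx⟩

variable {S : Scheme.{u}}

/-- Points of two etale charts over the same point of the space have the same local dimension. -/
theorem localDim_eq_of_ofPt_eq {X : Sp S} {U U' : Over S} (a : (yon S).obj U ⟶ X)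
    (a' : (yon S).obj U' ⟶ X) (ha : RepWith @Etale a) (ha' : RepWith @Etale a') (u : ↥U.left)
    (u' : ↥U'.left) (h : Points.ofPt a u = Points.ofPt a' u') :
    FlatMor.localDim ↥U.left u = FlatMor.localDim ↥U'.left u' := by
  obtain ⟨W, pU, pU', sq⟩ := exists_pullback_charts a ha.1 a'
  obtain ⟨w, rfl, rfl⟩ := exists_of_ofPt_eq_of_isPullback sq u u' h
  have h1 : Etale pU.left := ha'.2 a ((yon S).map pU') pU sq.flip
  have h2 : Etale pU'.left := ha.2 a' ((yon S).map pU) pU' sq
  rw [← localDim_eq_of_etale pU.left w, ← localDim_eq_of_etale pU'.left w]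

end Groth.Agent.Lib.Helper3
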