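import Mathlib.CategoryTheory.Monoidal.Cartesian.Grp
set_option autoImplicit false
universe v u
open CategoryTheory MonoidalCategory CartesianMonoidalCategory MonObj GrpObj

namespace Groth.Agent.Lib.Helper3.SubGrp

variable {C : Type u} [Category.{v} C] [CartesianMonoidalCategory C]

/-- A subobject of a group object closed under unit, multiplication and inverse is a group
object, and the inclusion is a homomorphism. -/
theorem exists_grpObj_of_mono {G H : C} [GrpObj G] (j : H ⟶ G) [Mono j]
    (e : 𝟙_ C ⟶ H) (he : e ≫ j = η[G]) (m : H ⊗ H ⟶ H) (hm : m ≫ j = (j ⊗ₘ j) ≫ μ[G])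
    (v : H ⟶ H) (hv : v ≫ j = j ≫ ι[G]) :
    ∃ _ : GrpObj H, IsMonHom j := by
  let M : MonObj H :=
    { one := e
      mul := m
      one_mul := by
        rw [← cancel_mono j, Category.assoc, hm, ← Category.assoc, ← tensorHom_id,
          tensorHom_comp_tensorHom, he, Category.id_comp]
        rw [show (η[G] ⊗ₘ j) = (𝟙_ C ◁ j) ≫ (η[G] ▷ G) from by
          rw [← id_tensorHom, ← tensorHom_id, tensorHom_comp_tensorHom, Category.id_comp,
            Category.comp_id]]
        rw [Category.assoc, MonObj.one_mul, leftUnitor_naturality]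
      mul_one := by
        rw [← cancel_mono j, Category.assoc, hm, ← Category.assoc, ← id_tensorHom,
          tensorHom_comp_tensorHom, he, Category.id_comp]
        rw [show (j ⊗ₘ η[G]) = (j ▷ 𝟙_ C) ≫ (G ◁ η[G]) from by
          rw [← id_tensorHom, ← tensorHom_id, tensorHom_comp_tensorHom, Category.id_comp,
            Category.comp_id]]
        rw [Category.assoc, MonObj.mul_one, rightUnitor_naturality]
      mul_assoc := by
        rw [← cancel_mono j]
        simp only [Category.assoc]
        rw [hm, ← tensorHom_id, ← Category.assoc, tensorHom_comp_tensorHom, hm, Category.id_comp]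
        rw [← id_tensorHom, ← Category.assoc (𝟙 H ⊗ₘ m), tensorHom_comp_tensorHom, hm,
          Category.id_comp]
        rw [show ((j ⊗ₘ j) ≫ μ[G] ⊗ₘ j) = ((j ⊗ₘ j) ⊗ₘ j) ≫ (μ[G] ▷ G) from by
          rw [← tensorHom_id, tensorHom_comp_tensorHom, Category.comp_id]]
        rw [show (j ⊗ₘ (j ⊗ₘ j) ≫ μ[G]) = (j ⊗ₘ (j ⊗ₘ j)) ≫ (G ◁ μ[G]) from by
          rw [← id_tensorHom, tensorHom_comp_tensorHom, Category.comp_id]]
        rw [Category.assoc, MonObj.mul_assoc, ← Category.assoc, associator_naturality]
        simp only [Category.assoc] }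
  let GG : GrpObj H :=
    { M with
      inv := v
      left_inv := by
        change lift v (𝟙 H) ≫ m = toUnit H ≫ e
        rw [← cancel_mono j, Category.assoc, hm, ← Category.assoc, lift_map, hv,
          Category.id_comp, Category.assoc, he]
        rw [show lift (j ≫ ι[G]) j = j ≫ lift ι[G] (𝟙 G) from by
          rw [comp_lift, Category.comp_id]]
        rw [Category.assoc, GrpObj.left_inv, ← Category.assoc, toUnit_unique (j ≫ toUnit G)]
      right_inv := by
        change lift (𝟙 H) v ≫ m = toUnit H ≫ e
        rw [← cancel_mono j, Category.assoc, hm, ← Category.assoc, lift_map, hv,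
          Category.id_comp, Category.assoc, he]
        rw [show lift j (j ≫ ι[G]) = j ≫ lift (𝟙 G) ι[G] from by
          rw [comp_lift, Category.comp_id]]
        rw [Category.assoc, GrpObj.right_inv, ← Category.assoc, toUnit_unique (j ≫ toUnit G)] }
  exact ⟨GG, ⟨he, hm⟩⟩

end Groth.Agent.Lib.Helper3.SubGrp
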