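import Groth.Agent.S4372
import Groth.Agent.Lib.Helper12.EtaleReduced
import Groth.Agent.Lib.Helper29.DivFactor
set_option autoImplicit false
universe u
open CategoryTheory CategoryTheory.Limits AlgebraicGeometry Topology TopologicalSpace

namespace Groth.Agent.Lib.Helper3.RedInd

/-- A scheme etale over a reduced scheme is reduced. -/
theorem isReduced_of_etale {X Y : Scheme.{u}} (f : X ⟶ Y) [Etale f] [IsReduced Y] : IsReduced X := by
  let 𝒰 : X.OpenCover := (Y.affineCover.pullback₁ f).bind (fun i => Scheme.affineCover _)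
  have : ∀ i, IsReduced (𝒰.X i) := by
    intro i
    let g : 𝒰.X i ⟶ Y.affineCover.X i.1 :=
      (Scheme.affineCover _).f i.2 ≫ pullback.snd f (Y.affineCover.f i.1)
    have h0 : Etale (pullback.snd f (Y.affineCover.f i.1)) := MorphismProperty.pullback_snd _ _ ‹_›
    have h00 : Etale ((Scheme.affineCover (pullback f (Y.affineCover.f i.1))).f i.2) := inferInstance
    have hg : Etale g := MorphismProperty.comp_mem _ _ _ h00 h0
    have hA : IsReduced (Y.affineCover.X i.1) := isReduced_of_isOpenImmersion (Y.affineCover.f i.1)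
    have hW : IsAffine (𝒰.X i) := by
      show IsAffine ((Scheme.affineCover _).X i.2)
      infer_instance
    have hU : IsAffine (Y.affineCover.X i.1) := inferInstance
    have h1 : RingHom.Etale g.appTop.hom := (HasRingHomProperty.iff_of_isAffine (P := @Etale)).1 hg
    algebraize [g.appTop.hom]
    have : _root_.IsReduced Γ(𝒰.X i, ⊤) :=
      Groth.Agent.Lib.Helper12.isReduced_of_etale Γ(Y.affineCover.X i.1, ⊤) Γ(𝒰.X i, ⊤)
    exact isReduced_of_isAffine_isReduced _
  exact IsReduced.of_openCover _ 𝒰

/-- The kernel of a closed immersion with reduced source is the vanishing ideal of its range. -/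
theorem ker_eq_vanishingIdeal {P R : Scheme.{u}} (j : P ⟶ R) [IsClosedImmersion j] [IsReduced P] :
    j.ker = Scheme.IdealSheafData.vanishingIdeal ⟨Set.range j, j.isClosedEmbedding.isClosed_range⟩ := by
  have h1 : IsReduced j.ker.subscheme := isReduced_of_isOpenImmersion (inv j.toImage)
  have h2 := Groth.Agent.Lib.Helper29.DivFactor.radical_eq_self_of_isReduced j.ker
  rw [← h2, ← Scheme.IdealSheafData.vanishingIdeal_support]
  congr 1
  ext x
  rw [Scheme.Hom.support_ker]
  simp [j.isClosedEmbedding.isClosed_range.closure_eq]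

/-- Two reduced closed subschemes with the same underlying set are isomorphic. -/
theorem exists_iso_of_range_eq {P₁ P₂ R : Scheme.{u}} (j₁ : P₁ ⟶ R) (j₂ : P₂ ⟶ R)
    [IsClosedImmersion j₁] [IsClosedImmersion j₂] [IsReduced P₁] [IsReduced P₂]
    (h : Set.range j₁ = Set.range j₂) : ∃ e : P₁ ≅ P₂, e.hom ≫ j₂ = j₁ := by
  have hk : j₂.ker = j₁.ker := by
    rw [ker_eq_vanishingIdeal, ker_eq_vanishingIdeal]
    congr 1
    exact TopologicalSpace.Closeds.ext h.symm
  have := IsClosedImmersion.isIso_lift j₂ j₁ hk
  exact ⟨asIso (IsClosedImmersion.lift j₂ j₁ hk.le), IsClosedImmersion.lift_fac _ _ _⟩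

end Groth.Agent.Lib.Helper3.RedInd
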