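import Mathlib
import Groth.Agent.Lib.Helper22.SchGeomRed
import Groth.Agent.Lib.Helper4.RedSubscheme
import Groth.Agent.Lib.Helper3.RedInd
import Groth.Agent.S9344
set_option autoImplicit false
set_option linter.style.haveILetI false
universe u
open CategoryTheory CategoryTheory.Limits AlgebraicGeometry TopologicalSpace

namespace Groth.Agent.Lib.Helper3.RedSub


/-- kernel of a morphism from a reduced scheme is the vanishing ideal of the closure of its range. -/
theorem ker_eq_vanishingIdeal_closure {W R : Scheme.{u}} (x : W ⟶ R) [IsReduced W] :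
    x.ker = Scheme.IdealSheafData.vanishingIdeal (.closure (Set.range x)) := by
  rw [← Scheme.IdealSheafData.map_bot, ← Scheme.nilradical_eq_bot,
    ← Scheme.IdealSheafData.vanishingIdeal_top, Scheme.IdealSheafData.map_vanishingIdeal]
  congr 2
  simp

/-- Lifting through a closed immersion with reduced source: a morphism from a reduced scheme
whose range lies in the range of `j` factors through `j`. -/
theorem exists_lift_of_range_subset {F R W : Scheme.{u}} (j : F ⟶ R) [IsClosedImmersion j]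
    [IsReduced F] (x : W ⟶ R) [IsReduced W] (h : Set.range x ⊆ Set.range j) :
    ∃ x' : W ⟶ F, x' ≫ j = x := by
  have hk : j.ker ≤ x.ker := by
    rw [Groth.Agent.Lib.Helper3.RedInd.ker_eq_vanishingIdeal, ker_eq_vanishingIdeal_closure]
    apply Scheme.IdealSheafData.vanishingIdeal_antimono
    rw [Closeds.closure_le]
    exact h
  exact ⟨IsClosedImmersion.lift j x hk, IsClosedImmersion.lift_fac _ _ _⟩

/-- Lifting to the reduced induced subscheme on a closed set. -/
theorem exists_lift_subscheme {R W : Scheme.{u}} (C : Closeds R) (x : W ⟶ R) [IsReduced W]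
    (h : Set.range x ⊆ (C : Set R)) :
    ∃ x' : W ⟶ (Scheme.IdealSheafData.vanishingIdeal C).subscheme,
      x' ≫ (Scheme.IdealSheafData.vanishingIdeal C).subschemeι = x := by
  haveI := Groth.Agent.Lib.Helper4.RedSubscheme.isReduced_subscheme_vanishingIdeal C
  apply exists_lift_of_range_subset
  rw [Groth.Agent.Lib.Helper4.RedSubscheme.range_subschemeι_vanishingIdeal]
  exact h



/-- affine piece -/
theorem isReduced_pullback_affine {k : Type u} [Field k] [PerfectField k] {X V : Scheme.{u}}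
    [IsAffine V] (f : X ⟶ Spec (CommRingCat.of k)) (h : V ⟶ Spec (CommRingCat.of k))
    [IsReduced X] [IsReduced V] : IsReduced (pullback f h) := by
  let φ : CommRingCat.of k ⟶ Γ(V, ⊤) := (Scheme.ΓSpecIso (CommRingCat.of k)).inv ≫ h.appTop
  letI : Algebra k Γ(V, ⊤) := φ.hom.toAlgebra
  have hh : h = V.isoSpec.hom ≫ Spec.map φ := by
    have h1 := Scheme.toSpecΓ_naturality h
    have h2 : h = V.toSpecΓ ≫ Spec.map h.appTop ≫ Spec.map (Scheme.ΓSpecIso (CommRingCat.of k)).inv := by
      rw [← Category.assoc, ← h1, Category.assoc, toSpecΓ_SpecMap_ΓSpecIso_inv, Category.comp_id]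
    rw [h2]
    simp only [φ, Spec.map_comp]
    rfl
  haveI : _root_.IsReduced Γ(V, ⊤) := inferInstance
  haveI : Algebra.IsGeometricallyReduced k Γ(V, ⊤) :=
    Groth.Agent.Lib.Helper22.GeomRed.isGeometricallyReduced_of_perfectField
  have h3 : IsReduced (pullback f (Spec.map (CommRingCat.ofHom (algebraMap k Γ(V, ⊤))))) :=
    Groth.Agent.Lib.Helper22.SchGeomRed.isReduced_pullback_specMap f
  have h4 : Spec.map (CommRingCat.ofHom (algebraMap k Γ(V, ⊤))) = Spec.map φ := rfl
  rw [h4] at h3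
  let m : pullback f h ⟶ pullback f (Spec.map φ) :=
    pullback.map f h f (Spec.map φ) (𝟙 X) V.isoSpec.hom (𝟙 _) (by simp) (by rw [Category.comp_id]; exact hh)
  haveI : IsIso m := by
    dsimp only [m]
    infer_instance
  exact isReduced_of_isOpenImmersion m

/-- Product of reduced schemes over a perfect field is reduced. -/
theorem isReduced_pullback_Spec {k : Type u} [Field k] [PerfectField k] {X Y : Scheme.{u}}
    (f : X ⟶ Spec (CommRingCat.of k)) (g : Y ⟶ Spec (CommRingCat.of k))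
    [IsReduced X] [IsReduced Y] : IsReduced (pullback f g) := by
  have : ∀ i, IsReduced ((Scheme.Pullback.openCoverOfRight Y.affineCover f g).X i) := by
    intro i
    haveI : IsReduced (Y.affineCover.X i) := isReduced_of_isOpenImmersion (Y.affineCover.f i)
    change IsReduced (pullback f (Y.affineCover.f i ≫ g))
    exact isReduced_pullback_affine f _
  exact IsReduced.of_openCover _ (Scheme.Pullback.openCoverOfRight Y.affineCover f g)

/-- Version with base only isomorphic to `Spec k`. -/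
theorem isReduced_pullback_of_iso {k : Type u} [Field k] [PerfectField k] {X Y U : Scheme.{u}}
    (e : U ≅ Spec (CommRingCat.of k)) (f : X ⟶ U) (g : Y ⟶ U)
    [IsReduced X] [IsReduced Y] : IsReduced (pullback f g) := by
  have h3 := isReduced_pullback_Spec (f ≫ e.hom) (g ≫ e.hom)
  let m : pullback f g ⟶ pullback (f ≫ e.hom) (g ≫ e.hom) :=
    pullback.map f g (f ≫ e.hom) (g ≫ e.hom) (𝟙 X) (𝟙 Y) e.hom (by simp) (by simp)
  haveI : IsIso m := by
    dsimp only [m]
    infer_instance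
  exact isReduced_of_isOpenImmersion m



/-- fibre products of dominant morphisms over a base over which everything is universally open -/
theorem isDominant_pullback_map {A₁ A₂ B₁ B₂ U : Scheme.{u}} (a₁ : A₁ ⟶ U) (a₂ : A₂ ⟶ U)
    (b₁ : B₁ ⟶ U) (b₂ : B₂ ⟶ U) (u₁ : A₁ ⟶ B₁) (u₂ : A₂ ⟶ B₂) (h₁ : a₁ ≫ 𝟙 U = u₁ ≫ b₁)
    (h₂ : a₂ ≫ 𝟙 U = u₂ ≫ b₂) [IsDominant u₁] [IsDominant u₂] [UniversallyOpen a₂]
    [UniversallyOpen b₁] :
    IsDominant (pullback.map a₁ a₂ b₁ b₂ u₁ u₂ (𝟙 U) h₁ h₂) := by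
  have e₁ : a₁ = u₁ ≫ b₁ := by rw [← h₁, Category.comp_id]
  have e₂ : a₂ = u₂ ≫ b₂ := by rw [← h₂, Category.comp_id]
  have hid : a₂ ≫ 𝟙 U = 𝟙 A₂ ≫ a₂ := by rw [Category.comp_id, Category.id_comp]
  have hid' : b₁ ≫ 𝟙 U = 𝟙 B₁ ≫ b₁ := by rw [Category.comp_id, Category.id_comp]
  let m₁ := pullback.map a₁ a₂ b₁ a₂ u₁ (𝟙 A₂) (𝟙 U) h₁ hid
  let m₂ := pullback.map b₁ a₂ b₁ b₂ (𝟙 B₁) u₂ (𝟙 U) hid' h₂
  have m₁f : m₁ ≫ pullback.fst b₁ a₂ = pullback.fst a₁ a₂ ≫ u₁ := pullback.lift_fst _ _ _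
  have m₁s : m₁ ≫ pullback.snd b₁ a₂ = pullback.snd a₁ a₂ ≫ 𝟙 A₂ := pullback.lift_snd _ _ _
  have m₂f : m₂ ≫ pullback.fst b₁ b₂ = pullback.fst b₁ a₂ ≫ 𝟙 B₁ := pullback.lift_fst _ _ _
  have m₂s : m₂ ≫ pullback.snd b₁ b₂ = pullback.snd b₁ a₂ ≫ u₂ := pullback.lift_snd _ _ _
  have hm : pullback.map a₁ a₂ b₁ b₂ u₁ u₂ (𝟙 U) h₁ h₂ = m₁ ≫ m₂ := by
    apply pullback.hom_ext
    · rw [Category.assoc, m₂f, Category.comp_id, m₁f]
      exact pullback.lift_fst _ _ _
    · rw [Category.assoc, m₂s, reassoc_of% m₁s]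
      exact pullback.lift_snd _ _ _
  have sq1 : IsPullback (pullback.fst a₁ a₂) m₁ u₁ (pullback.fst b₁ a₂) := by
    refine IsPullback.of_bot (v₂₁ := pullback.snd b₁ a₂) (v₂₂ := b₁) (h₃₁ := a₂) ?_ ?_
      (IsPullback.of_hasPullback b₁ a₂)
    · rw [m₁s, Category.comp_id, ← e₁]
      exact IsPullback.of_hasPullback a₁ a₂
    · exact m₁f.symm
  have sq2 : IsPullback (pullback.snd b₁ a₂) m₂ u₂ (pullback.snd b₁ b₂) := by
    refine IsPullback.of_bot (v₂₁ := pullback.fst b₁ b₂) (v₂₂ := b₂) (h₃₁ := b₁) ?_ ?_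
      (IsPullback.of_hasPullback b₁ b₂).flip
    · rw [m₂f, Category.comp_id, ← e₂]
      exact (IsPullback.of_hasPullback b₁ a₂).flip
    · exact m₂s.symm
  have : IsDominant m₁ :=
    Groth.Agent.S9344.result u₁ (pullback.fst b₁ a₂) (pullback.fst a₁ a₂) m₁ sq1
      (pullback.fst b₁ a₂).isOpenMap
  have : IsDominant m₂ :=
    Groth.Agent.S9344.result u₂ (pullback.snd b₁ b₂) (pullback.snd b₁ a₂) m₂ sq2
      (pullback.snd b₁ b₂).isOpenMap
  rw [hm]
  infer_instance

theorem universallyOpen_of_iso_Spec_field {X U : Scheme.{u}} (k : Type u) [Field k]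
    (eU : U ≅ Spec (CommRingCat.of k)) (f : X ⟶ U) : UniversallyOpen f := by
  have h : UniversallyOpen (f ≫ eU.hom) := inferInstance
  have : f = (f ≫ eU.hom) ≫ eU.inv := by rw [Category.assoc, eU.hom_inv_id, Category.comp_id]
  rw [this]
  infer_instance

/-- image of closure argument -/
theorem range_subset_closure_of_dominant {W P R : Scheme.{u}} (l : W ⟶ P) [IsDominant l]
    (x : P ⟶ R) (D : Set R) (h : Set.range (l ≫ x) ⊆ D) : Set.range x ⊆ closure D := by
  have h1 : Set.range x = x '' (closure (Set.range l)) := by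
    rw [l.denseRange.closure_range, Set.image_univ]
  rw [h1]
  refine (image_closure_subset_closure_image x.continuous).trans (closure_mono ?_)
  rw [← Set.range_comp]
  rintro _ ⟨w, rfl⟩
  exact h ⟨w, by simp⟩

end Groth.Agent.Lib.Helper3.RedSub
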