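import Mathlib
import Groth.Agent.Lib.Helper3.RedSub
set_option autoImplicit false
set_option linter.style.haveILetI false
universe u
open CategoryTheory CategoryTheory.Limits MonoidalCategory CartesianMonoidalCategory MonObj GrpObj AlgebraicGeometry

namespace Groth.Agent.Lib.Helper3.RedGrp

open Groth.Agent.Lib.Helper3.RedSub

theorem exists_over_lift_of_reduced {X : Scheme.{u}} {W F G : Over X} (j : F ⟶ G)
    [IsClosedImmersion j.left] [Surjective j.left] [IsReduced F.left] (hW : IsReduced W.left)
    (x : W ⟶ G) : ∃ x' : W ⟶ F, x' ≫ j = x := by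
  obtain ⟨x', hx'⟩ := exists_lift_of_range_subset j.left x.left (by
    rw [Set.range_eq_univ.mpr j.left.surjective]
    exact Set.subset_univ _)
  refine ⟨Over.homMk x' ?_, ?_⟩
  · rw [← Over.w j, reassoc_of% hx', Over.w x]
  · ext
    exact hx'

theorem mainGrp (k : Type u) [Field k] [PerfectField k]
    (G F : Over (Spec (CommRingCat.of k))) [GrpObj G] (j : F ⟶ G) [IsClosedImmersion j.left]
    [Surjective j.left] [IsReduced F.left] :
    (∃ m : F ⊗ F ⟶ F, m ≫ j = MonoidalCategory.tensorHom j j ≫ μ[G]) ∧
      (∃ i : F ⟶ F, i ≫ j = j ≫ ι[G]) ∧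
      (∃ e : 𝟙_ (Over (Spec (CommRingCat.of k))) ⟶ F, e ≫ j = η[G]) := by
  refine ⟨?_, ?_, ?_⟩
  · apply exists_over_lift_of_reduced j
    change IsReduced (pullback F.hom F.hom)
    exact isReduced_pullback_Spec F.hom F.hom
  · exact exists_over_lift_of_reduced j inferInstance _
  · apply exists_over_lift_of_reduced j
    change IsReduced (Spec (CommRingCat.of k))
    infer_instance

end Groth.Agent.Lib.Helper3.RedGrp
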