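import Mathlib.AlgebraicGeometry.Morphisms.Immersion
import Mathlib.AlgebraicGeometry.Morphisms.SchemeTheoreticallyDominant
import Mathlib.AlgebraicGeometry.Morphisms.FlatDescent
set_option autoImplicit false
universe u
open CategoryTheory CategoryTheory.Limits AlgebraicGeometry Opposite MorphismProperty

namespace Groth.Agent.Lib.Helper3.ImmDesc

/-- The morphism to the scheme-theoretic image of a quasi-compact morphism is scheme-theoretically
dominant. -/
theorem isSchemeTheoreticallyDominant_toImage {X Y : Scheme.{u}} (f : X ⟶ Y) [QuasiCompact f] :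
    IsSchemeTheoreticallyDominant f.toImage := by
  rw [isSchemeTheoreticallyDominant_iff]
  have hι : IsAffineHom f.imageι := inferInstance
  let 𝒱 : Y.affineOpens → f.image.affineOpens := fun U =>
    ⟨f.imageι ⁻¹ᵁ U.1, U.2.preimage f.imageι⟩
  refine Scheme.IdealSheafData.ext_of_iSup_eq_top 𝒱 ?_ ?_
  · rw [eq_top_iff]
    intro x _
    obtain ⟨_, ⟨U, hU, rfl⟩, hxU, -⟩ :=
      Y.isBasis_affineOpens.exists_subset_of_mem_open (Set.mem_univ (f.imageι x)) isOpen_univ
    exact TopologicalSpace.Opens.mem_iSup.2 ⟨⟨U, hU⟩, hxU⟩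
  · intro U
    simp only [Scheme.Hom.ker_apply, Scheme.IdealSheafData.ideal_bot, Pi.bot_apply]
    exact (RingHom.injective_iff_ker_eq_bot _).1 (f.toImage_app_injective U)

end Groth.Agent.Lib.Helper3.ImmDesc

namespace Groth.Agent.Lib.Helper3.ImmDesc

/-- A quasi-compact, scheme-theoretically dominant immersion is an open immersion. -/
theorem isOpenImmersion_of_dominant_immersion {X Y : Scheme.{u}} (f : X ⟶ Y) [QuasiCompact f]
    [IsImmersion f] [IsSchemeTheoreticallyDominant f] : IsOpenImmersion f := by
  have h1 : IsIso f.imageι := by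
    rw [Scheme.Hom.imageι, Scheme.isIso_subschemeι_iff_eq_bot]
    exact f.ker_eq_bot
  rw [← f.toImage_imageι]
  infer_instance

/-- **fpqc descent of quasi-compact immersions.** -/
theorem isImmersion_of_isPullback {X Z V E : Scheme.{u}} {f : X ⟶ Z} {q : V ⟶ Z} {w : E ⟶ V}
    {c : E ⟶ X} (sq : IsPullback c w f q) [QuasiCompact f] [Flat q] [Surjective q]
    [QuasiCompact q] [IsImmersion w] : IsImmersion f := by
  have hdom := isSchemeTheoreticallyDominant_toImage f
  let w₀ : E ⟶ pullback f.imageι q := pullback.lift (c ≫ f.toImage) w (by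
    rw [Category.assoc, f.toImage_imageι]; exact sq.w)
  have hw₀1 : w₀ ≫ pullback.fst f.imageι q = c ≫ f.toImage := pullback.lift_fst _ _ _
  have hw₀2 : w₀ ≫ pullback.snd f.imageι q = w := pullback.lift_snd _ _ _
  have sq₀ : IsPullback w₀ c (pullback.fst f.imageι q) f.toImage := by
    refine IsPullback.of_right ?_ hw₀1 (IsPullback.of_hasPullback f.imageι q).flip
    rw [hw₀2, f.toImage_imageι]
    exact sq.flip
  have h1 : IsSchemeTheoreticallyDominant w₀ := IsSchemeTheoreticallyDominant.of_isPullback sq₀.flip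
  have h2 : IsImmersion w₀ := by
    have : IsImmersion (w₀ ≫ pullback.snd f.imageι q) := by rw [hw₀2]; infer_instance
    exact IsImmersion.of_comp w₀ (pullback.snd f.imageι q)
  have h3 : QuasiCompact w₀ := MorphismProperty.of_isPullback (P := @QuasiCompact) sq₀.flip inferInstance
  have h4 : IsOpenImmersion w₀ := isOpenImmersion_of_dominant_immersion w₀
  have hq : (@Surjective ⊓ @Flat ⊓ @QuasiCompact : MorphismProperty Scheme.{u})
      (pullback.fst f.imageι q) := ⟨⟨inferInstance, inferInstance⟩, inferInstance⟩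
  have h5 : IsOpenImmersion f.toImage :=
    of_isPullback_of_descendsAlong (P := @IsOpenImmersion) sq₀ hq h4
  rw [← f.toImage_imageι]
  infer_instance

end Groth.Agent.Lib.Helper3.ImmDesc

namespace Groth.Agent.Lib.Helper3.ImmDesc

/-- quasi-compactness descends along surjective quasi-compact morphisms. -/
theorem quasiCompact_of_isPullback {A X Y Z : Scheme.{u}} {fst : A ⟶ X} {snd : A ⟶ Y} {f : X ⟶ Z}
    {g : Y ⟶ Z} (h : IsPullback fst snd f g) [Surjective f] [QuasiCompact f] [QuasiCompact fst] :
    QuasiCompact g := by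
  have hs : Surjective snd := MorphismProperty.of_isPullback (P := @Surjective) h inferInstance
  rw [quasiCompact_iff_forall_isAffineOpen]
  intro U hU
  have h1 : IsCompact (f ⁻¹ᵁ U : Set X) := f.isCompact_preimage hU.isCompact
  have h2 : IsCompact (fst ⁻¹ᵁ (f ⁻¹ᵁ U) : Set A) :=
    fst.isCompact_preimage h1
  have h3 : (g ⁻¹ᵁ U : Set Y) = snd '' (fst ⁻¹ᵁ (f ⁻¹ᵁ U) : Set A) := by
    ext y
    constructor
    · intro hy
      obtain ⟨a, rfl⟩ := snd.surjective y
      refine ⟨a, ?_, rfl⟩
      change f (fst a) ∈ U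
      rw [← Scheme.Hom.comp_apply, h.w, Scheme.Hom.comp_apply]
      exact hy
    · rintro ⟨a, ha, rfl⟩
      change g (snd a) ∈ U
      rw [← Scheme.Hom.comp_apply, ← h.w, Scheme.Hom.comp_apply]
      exact ha
  rw [h3]
  exact h2.image snd.continuous

instance quasiCompact_descendsAlong_fpqc :
    MorphismProperty.DescendsAlong @QuasiCompact
      (@Surjective ⊓ @Flat ⊓ @QuasiCompact : MorphismProperty Scheme.{u}) where
  of_isPullback {A X Y Z fst snd f g} h hf hfst := by
    have : Surjective f := hf.1.1
    have : QuasiCompact f := hf.2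
    have : QuasiCompact fst := hfst
    exact quasiCompact_of_isPullback h

instance immersion_quasiCompact_descendsAlong_fpqc :
    MorphismProperty.DescendsAlong (@IsImmersion ⊓ @QuasiCompact)
      (@Surjective ⊓ @Flat ⊓ @QuasiCompact : MorphismProperty Scheme.{u}) where
  of_isPullback {A X Y Z fst snd f g} h hf hfst := by
    have : Surjective f := hf.1.1
    have : Flat f := hf.1.2
    have : QuasiCompact f := hf.2
    have : QuasiCompact fst := hfst.2
    have : IsImmersion fst := hfst.1
    have hg : QuasiCompact g := quasiCompact_of_isPullback h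
    exact ⟨isImmersion_of_isPullback h.flip, hg⟩

end Groth.Agent.Lib.Helper3.ImmDesc
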