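import Groth.Agent.Lib.Helper3.AlgSpQC4

set_option autoImplicit false
universe u
open CategoryTheory CategoryTheory.Limits AlgebraicGeometry Opposite MorphismProperty

namespace Groth.Agent.Lib.Helper3

variable {S : Scheme.{u}}

open AlgSp

/-- Version of `exists_compact_open_of_isCompact` for a chart that is merely open on points. -/
theorem exists_compact_open_of_isCompact' {F : Sp S} {U : Over S} (p : (yon S).obj U ⟶ F)
    (hp : IsOpenMap (Points.map p)) (K : Set (Points F)) (hK : IsCompact K)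
    (hKp : K ⊆ Set.range (Points.map p)) :
    ∃ W : U.left.Opens, IsCompact (W : Set ↥U.left) ∧
      K ⊆ Points.map p '' (Points.schemeHomeo U '' (W : Set ↥U.left)) := by
  let O : U.left.affineCover.I₀ → Set (Points F) := fun i =>
    Points.map p '' (Points.schemeHomeo U '' Set.range (U.left.affineCover.f i))
  have hO : ∀ i, IsOpen (O i) := fun i =>
    hp _ ((Points.schemeHomeo U).isOpenMap _
      (U.left.affineCover.f i).isOpenEmbedding.isOpen_range)
  have hcov : K ⊆ ⋃ i, O i := by
    intro x hx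
    obtain ⟨z, rfl⟩ := hKp hx
    obtain ⟨u, rfl⟩ := (Points.schemeHomeo U).surjective z
    obtain ⟨i, y, rfl⟩ := U.left.affineCover.exists_eq u
    exact Set.mem_iUnion.2 ⟨i, _, ⟨_, ⟨y, rfl⟩, rfl⟩, rfl⟩
  obtain ⟨t, ht⟩ := hK.elim_finite_subcover O hO hcov
  refine ⟨⨆ i ∈ t, (U.left.affineCover.f i).opensRange, ?_, ?_⟩
  · have : ((⨆ i ∈ t, (U.left.affineCover.f i).opensRange : U.left.Opens) : Set ↥U.left) =
        ⋃ i ∈ t, Set.range (U.left.affineCover.f i) := by
      simp
    rw [this]
    exact t.isCompact_biUnion fun i _ => isCompact_range (U.left.affineCover.f i).continuous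
  · intro x hx
    obtain ⟨i, hi, hxi⟩ := Set.mem_iUnion₂.1 (ht hx)
    obtain ⟨z, ⟨u, hu, rfl⟩, rfl⟩ := hxi
    refine ⟨_, ⟨u, ?_, rfl⟩, rfl⟩
    simp only [TopologicalSpace.Opens.coe_iSup, Set.mem_iUnion]
    exact ⟨i, hi, hu⟩

/-- A compact space of points that is the open image of a scheme is the image of a quasi-compact
scheme. -/
theorem exists_compact_scheme_surjective {F : Sp S} [CompactSpace (Points F)] {U : Over S}
    (p : (yon S).obj U ⟶ F) (hp : IsOpenMap (Points.map p)) (hs : IsSurjectiveMor p) :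
    ∃ (M : Over S) (j : M ⟶ U), CompactSpace ↥M.left ∧ IsSurjectiveMor ((yon S).map j ≫ p) := by
  obtain ⟨W, hWc, hW⟩ := exists_compact_open_of_isCompact' p hp Set.univ isCompact_univ
    (by rw [Function.Surjective.range_eq hs])
  let M : Over S := Over.mk (W.ι ≫ U.hom)
  let j : M ⟶ U := Over.homMk W.ι rfl
  refine ⟨M, j, isCompact_iff_compactSpace.1 hWc, ?_⟩
  intro x
  obtain ⟨z, ⟨u, hu, rfl⟩, rfl⟩ := hW (Set.mem_univ x)
  refine ⟨Points.schemeHomeo M ⟨u, hu⟩, ?_⟩
  rw [Points.map_comp]
  congr 1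
  exact Points.map_yon_map_apply j (⟨u, hu⟩ : W)

/-- Base changes of `f` along maps factoring through `g` are base changes of `f'`. -/
theorem isQuasiCompactSp_of_isPullback_comp {F G G' F' : Sp S} {f : F ⟶ G} {g : G' ⟶ G}
    {fst : F' ⟶ F} {f' : F' ⟶ G'} (sq : IsPullback fst f' f g) (hf' : IsQuasiCompactMor f')
    {M : Sp S} (hM : IsAlgSpace M) (hMq : IsQuasiCompactSp M) (m' : M ⟶ G') {P : Sp S}
    {fst₀ : P ⟶ F} {snd₀ : P ⟶ M} (sq₀ : IsPullback fst₀ snd₀ f (m' ≫ g)) :
    IsQuasiCompactSp P := by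
  have hw : fst₀ ≫ f = (snd₀ ≫ m') ≫ g := by simpa only [Category.assoc] using sq₀.w
  have sq₁ : IsPullback (sq.lift fst₀ (snd₀ ≫ m') hw) snd₀ f' m' := by
    refine IsPullback.of_right ?_ (sq.lift_snd _ _ _) sq
    rw [sq.lift_fst]
    exact sq₀
  exact hf' hM hMq m' _ _ sq₁

/-- An etale morphism from an algebraic space is universally open (on points). -/
theorem isUnivOpenMor_of_isEtaleMor {F G : Sp S} (hF : IsAlgSpace F) {g : F ⟶ G}
    (hg : IsEtaleMor g) : IsUnivOpenMor g := by
  intro Z Z' _ k fst snd sq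
  obtain ⟨U, u, hue, hus⟩ := hF.atlas
  have hug : RepWith @Etale (u ≫ g) := hg u hue
  have sqN := IsPullback.of_hasPullback u fst
  have sqP := sqN.paste_vert sq
  have hN : RepWith @Etale (pullback.snd u fst ≫ snd) := MorphismProperty.of_isPullback sqP hug
  have hopen : IsOpenMap (Points.map (pullback.snd u fst ≫ snd)) := isOpenMap_map_of_etale hN
  have hsurj : IsSurjectiveMor (pullback.snd u fst) :=
    isSurjectiveMor_snd_of_isPullback sqN (isSurjectiveMor_of_repWith hus)
  intro Ω hΩ
  have : Points.map snd '' Ω =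
      Points.map (pullback.snd u fst ≫ snd) '' (Points.map (pullback.snd u fst) ⁻¹' Ω) := by
    ext y
    constructor
    · rintro ⟨z, hz, rfl⟩
      obtain ⟨n, rfl⟩ := hsurj z
      exact ⟨n, hz, Points.map_comp _ _ n⟩
    · rintro ⟨n, hn, rfl⟩
      exact ⟨_, hn, (Points.map_comp _ _ n).symm⟩
  rw [this]
  exact hopen _ (hΩ.preimage (Points.continuous_map _))

/-- Quasi-compactness of a morphism of algebraic spaces descends along a universally open
surjective base change. -/
theorem isQuasiCompactMor_of_univOpen_surjective_base_change {X Y Y' X' : Sp S}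
    (hX : IsAlgSpace X) (hY : IsAlgSpace Y) (hY' : IsAlgSpace Y')
    {f : X ⟶ Y} {g : Y' ⟶ Y} {fst : X' ⟶ X} {f' : X' ⟶ Y'} (sq : IsPullback fst f' f g)
    (hg : IsUnivOpenMor g) (hgs : IsSurjectiveMor g) (hf' : IsQuasiCompactMor f') :
    IsQuasiCompactMor f := by
  refine isQuasiCompactMor_of_forall_exists_surjective hX hY.diag f ?_
  intro T hT hqc k
  have : CompactSpace (Points T) := compactSpace_points_of_isQuasiCompactSp hqc
  -- N = T ×_Y Y'
  have sqN := IsPullback.of_hasPullback k g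
  have hN : IsAlgSpace (pullback k g) := isAlgSpace_of_isPullback' hY hT hY' sqN
  have hopen : IsOpenMap (Points.map (pullback.fst k g)) := hg hT k _ _ sqN.flip
  have hsurj : IsSurjectiveMor (pullback.fst k g) := isSurjectiveMor_fst_of_isPullback sqN hgs
  obtain ⟨N₀, c, hce, hcs⟩ := hN.atlas
  have hopen' : IsOpenMap (Points.map (c ≫ pullback.fst k g)) := by
    have : Points.map (c ≫ pullback.fst k g) = Points.map (pullback.fst k g) ∘ Points.map c := by
      funext x; exact Points.map_comp _ _ x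
    rw [this]
    exact hopen.comp (isOpenMap_map_of_etale hce)
  have hsurj' : IsSurjectiveMor (c ≫ pullback.fst k g) :=
    isSurjectiveMor_comp (isSurjectiveMor_of_repWith hcs) hsurj
  obtain ⟨M, j, hMc, hMs⟩ := exists_compact_scheme_surjective _ hopen' hsurj'
  refine ⟨(yon S).obj M, (yon S).map j ≫ c ≫ pullback.fst k g, hMs, ?_⟩
  intro P fst₀ snd₀ sq₀
  refine isQuasiCompactSp_of_isPullback_comp sq hf' (IsAlgSpace.yon_obj M)
    (isQuasiCompactSp_yon hMc) ((yon S).map j ≫ c ≫ pullback.snd k g) (fst₀ := fst₀)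
    (snd₀ := snd₀) ?_
  have : ((yon S).map j ≫ c ≫ pullback.snd k g) ≫ g =
      ((yon S).map j ≫ c ≫ pullback.fst k g) ≫ k := by
    simp only [Category.assoc, pullback.condition]
  rw [this]
  exact sq₀

end Groth.Agent.Lib.Helper3
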