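import Groth.Agent.Lib.Helper3.AlgSpChart
import Groth.Prelude.Def_AlgSpCov

set_option autoImplicit false
universe u
open CategoryTheory CategoryTheory.Limits AlgebraicGeometry Opposite MorphismProperty

namespace Groth.Agent.Lib.Helper3

variable {S : Scheme.{u}}

open AlgSp

theorem isOpenMap_of_jointly_surjective {F G : Sp S} (f : F ⟶ G) {ι : Type*} (Fi : ι → Sp S)
    (gi : ∀ i, Fi i ⟶ F) (hs : ∀ x : Points F, ∃ i, x ∈ Set.range (Points.map (gi i)))
    (h : ∀ i, IsOpenMap (Points.map (gi i ≫ f))) : IsOpenMap (Points.map f) := by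
  intro O hO
  have : Points.map f '' O = ⋃ i, Points.map (gi i ≫ f) '' (Points.map (gi i) ⁻¹' O) := by
    ext y
    constructor
    · rintro ⟨x, hx, rfl⟩
      obtain ⟨i, n, rfl⟩ := hs x
      exact Set.mem_iUnion.2 ⟨i, n, hx, Points.map_comp _ _ n⟩
    · intro hy
      obtain ⟨i, n, hn, rfl⟩ := Set.mem_iUnion.1 hy
      exact ⟨_, hn, (Points.map_comp _ _ n).symm⟩
  rw [this]
  exact isOpen_iUnion fun i => h i _ (hO.preimage (Points.continuous_map _))

theorem isOpenMor_of_isUnivOpenMor {F G : Sp S} (hG : IsAlgSpace G) {f : F ⟶ G}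
    (h : IsUnivOpenMor f) : IsOpenMap (Points.map f) :=
  h hG (𝟙 _) (𝟙 _) f IsPullback.of_id_fst

theorem isUnivOpenMor_comp {F G H : Sp S} {f : F ⟶ G} {g : G ⟶ H} (hG : IsAlgSpace G)
    (hH : Representable (Limits.diag H)) (hf : IsUnivOpenMor f) (hg : IsUnivOpenMor g) :
    IsUnivOpenMor (f ≫ g) := by
  intro Z Z' hZ k a b sq
  have sqG := IsPullback.of_hasPullback g k
  have hG' : IsAlgSpace (pullback g k) := isAlgSpace_of_isPullback hH hG hZ sqG
  have hcG : IsOpenMap (Points.map (pullback.snd g k)) := hg hZ k _ _ sqG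
  let l : Z' ⟶ pullback g k := pullback.lift (a ≫ f) b (by simpa only [Category.assoc] using sq.w)
  have hl : l ≫ pullback.snd g k = b := pullback.lift_snd _ _ _
  have sqL : IsPullback a l f (pullback.fst g k) := by
    refine IsPullback.of_bot ?_ (pullback.lift_fst _ _ _).symm sqG
    rw [hl]
    exact sq
  have hcl : IsOpenMap (Points.map l) := hf hG' _ _ _ sqL
  have : Points.map b = Points.map (pullback.snd g k) ∘ Points.map l := by
    funext x
    rw [← hl]
    exact Points.map_comp _ _ x
  change IsOpenMap (Points.map b)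
  rw [this]
  exact hcG.comp hcl

/-- Universal openness can be checked on a jointly surjective family over the source. -/
theorem isUnivOpenMor_of_jointly_surjective {F G : Sp S} (f : F ⟶ G) {ι : Type*} (Fi : ι → Sp S)
    (gi : ∀ i, Fi i ⟶ F) (hs : ∀ x : Points F, ∃ i, x ∈ Set.range (Points.map (gi i)))
    (h : ∀ i, IsUnivOpenMor (gi i ≫ f)) : IsUnivOpenMor f := by
  intro T T' hT k a b sq
  refine isOpenMap_of_jointly_surjective b (fun i => pullback (gi i) a)
    (fun i => pullback.snd (gi i) a) ?_ ?_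
  · intro x'
    obtain ⟨i, n, hn⟩ := hs (Points.map a x')
    obtain ⟨z, -, hz⟩ := Points.exists_of_isPullback (IsPullback.of_hasPullback (gi i) a) n x' hn
    exact ⟨i, z, hz⟩
  · intro i
    exact h i hT k _ _ ((IsPullback.of_hasPullback (gi i) a).paste_vert sq)

end Groth.Agent.Lib.Helper3
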