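import Groth.Agent.Lib.Helper3.AlgSpOpenSubsp2
import Groth.Agent.Lib.Helper3.AlgSpFpqcLocal
import Groth.Agent.Lib.Helper3.AlgSpChart
import Groth.Agent.Lib.Helper3.AlgSpQC5
import Groth.Agent.Lib.Helper3.AlgSpSrcLocal
import Groth.Agent.S9928
import Groth.Agent.S9937

set_option autoImplicit false
universe u
open CategoryTheory CategoryTheory.Limits AlgebraicGeometry Opposite MorphismProperty

namespace Groth.Agent.Lib.Helper3

variable {S : Scheme.{u}}

open AlgSp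

theorem isOpenImmersion_le_etale : @IsOpenImmersion ≤ (@Etale : MorphismProperty Scheme.{u}) :=
  fun _ _ k hk => by
    have : IsOpenImmersion k := hk
    exact inferInstanceAs (Etale k)

theorem mono_of_repWith_isOpenImmersion {X Y : Sp S} (j : X ⟶ Y)
    (hj : RepWith @IsOpenImmersion j) : Mono j :=
  Groth.Agent.S9928.mono_of_repWith @IsOpenImmersion
    (fun g hg => by have : IsOpenImmersion g := hg; infer_instance) j hj

/-- The properties of a class `Q` of morphisms of sheaves used for "largest open" arguments. -/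
structure IsOpenCovProp (Q : MorphismProperty (Sp S)) : Prop where
  of_openImm : ∀ ⦃X Y : Sp S⦄ (j : X ⟶ Y), IsAlgSpace X → IsAlgSpace Y →
    RepWith @IsOpenImmersion j → Q j
  precomp : ∀ ⦃X Y Z : Sp S⦄ (j : X ⟶ Y) (g : Y ⟶ Z), RepWith @IsOpenImmersion j → Q g → Q (j ≫ g)
  cancel : ∀ ⦃X Y Z : Sp S⦄ (g' : X ⟶ Y) (j : Y ⟶ Z), RepWith @IsOpenImmersion j →
    Q (g' ≫ j) → Q g'
  isOpen_range : ∀ ⦃X Y : Sp S⦄ (g : X ⟶ Y), IsAlgSpace X → IsAlgSpace Y → Q g →
    IsOpen (Set.range (Points.map g))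

theorem isOpenCovProp_isEtaleMor : IsOpenCovProp (IsEtaleMor (S := S)) where
  of_openImm _ _ j _ _ hj := isEtaleMor_of_repWith_etale (repWith_mono isOpenImmersion_le_etale hj)
  precomp _ _ _ j g hj hg := fun U φ hφ => by
    rw [← Category.assoc]
    exact hg (φ ≫ j) (MorphismProperty.comp_mem _ _ _ hφ (repWith_mono isOpenImmersion_le_etale hj))
  cancel _ _ _ g' j hj h := fun U φ hφ => by
    have := mono_of_repWith_isOpenImmersion j hj
    have h1 : RepWith @Etale (φ ≫ g' ≫ j) := h φ hφ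
    have sq : IsPullback (𝟙 _) (φ ≫ g') (φ ≫ g' ≫ j) j :=
      IsPullback.of_horiz_isIso_mono ⟨by rw [Category.id_comp, Category.assoc]⟩
    exact MorphismProperty.of_isPullback sq h1
  isOpen_range _ _ g hX hY hg :=
    (isOpenMor_of_isUnivOpenMor hY (isUnivOpenMor_of_isEtaleMor hX hg)).isOpen_range

theorem locP_of_openImm {P : MorphismProperty Scheme.{u}} (hle : @Etale ≤ P) {X Y : Sp S}
    (j : X ⟶ Y) (hj : RepWith @IsOpenImmersion j) : LocP P j :=
  locP_mono hle (locP_of_repWith isEtLocal_etale j (repWith_mono isOpenImmersion_le_etale hj))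

theorem locP_precomp_openImm {P : MorphismProperty Scheme.{u}} {X Y Z : Sp S}
    (j : X ⟶ Y) (g : Y ⟶ Z) (hj : RepWith @IsOpenImmersion j) (hg : LocP P g) :
    LocP P (j ≫ g) := by
  intro U V a b h ha hb w
  exact hg (a ≫ j) b h
    (MorphismProperty.comp_mem _ _ _ ha (repWith_mono isOpenImmersion_le_etale hj)) hb
    (by rw [Category.assoc, w])

theorem locP_cancel_openImm {P : MorphismProperty Scheme.{u}} {X Y Z : Sp S}
    (g' : X ⟶ Y) (j : Y ⟶ Z) (hj : RepWith @IsOpenImmersion j) (hg : LocP P (g' ≫ j)) :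
    LocP P g' := by
  intro U V a b h ha hb w
  exact hg a (b ≫ j) h ha
    (MorphismProperty.comp_mem _ _ _ hb (repWith_mono isOpenImmersion_le_etale hj))
    (by rw [← Category.assoc, w, Category.assoc])

theorem isOpenCovProp_locP {P : MorphismProperty Scheme.{u}} (hle : @Etale ≤ P)
    (hfl : P ≤ (@Flat ⊓ @LocallyOfFinitePresentation : MorphismProperty Scheme.{u})) :
    IsOpenCovProp (LocP (S := S) P) where
  of_openImm _ _ j _ _ hj := locP_of_openImm hle j hj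
  precomp _ _ _ j g hj hg := locP_precomp_openImm j g hj hg
  cancel _ _ _ g' j hj h := locP_cancel_openImm g' j hj h
  isOpen_range _ _ g hX hY hg :=
    (isOpenMor_of_isUnivOpenMor hY (isUnivOpenMor_of_flat_lfp hX hY g
      (locP_mono (fun _ _ k hk => (hfl k hk).1) hg)
      (locP_mono (fun _ _ k hk => (hfl k hk).2) hg))).isOpen_range

theorem isOpenCovProp_fppf : IsOpenCovProp (S := S)
    (fun _ _ f => LocP @Flat f ∧ LocP @LocallyOfFinitePresentation f) where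
  of_openImm _ _ j _ _ hj :=
    ⟨locP_of_openImm (fun _ _ k hk => by have : Etale k := hk; exact inferInstanceAs (Flat k)) j hj,
      locP_of_openImm (fun _ _ k hk => by
        have : Etale k := hk; exact inferInstanceAs (LocallyOfFinitePresentation k)) j hj⟩
  precomp _ _ _ j g hj hg :=
    ⟨locP_precomp_openImm j g hj hg.1, locP_precomp_openImm j g hj hg.2⟩
  cancel _ _ _ g' j hj h := ⟨locP_cancel_openImm g' j hj h.1, locP_cancel_openImm g' j hj h.2⟩
  isOpen_range _ _ g hX hY hg :=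
    (isOpenMor_of_isUnivOpenMor hY (isUnivOpenMor_of_flat_lfp hX hY g hg.1 hg.2)).isOpen_range

/-- Two-member families. -/
def optFam (A B : Sp S) : Option PUnit.{u+1} → Sp S
  | none => A
  | some _ => B

def optHom {A B C : Sp S} (a : A ⟶ C) (b : B ⟶ C) : ∀ o, optFam A B o ⟶ C
  | none => a
  | some _ => b

def optMap {A B A' B' : Sp S} (a : A ⟶ A') (b : B ⟶ B') : ∀ o, optFam A B o ⟶ optFam A' B' o
  | none => a
  | some _ => b

theorem repWith_isOpenImmersion_id (X : Sp S) : RepWith @IsOpenImmersion (𝟙 X) :=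
  Groth.Agent.S9937.repWith_of_isIso @IsOpenImmersion
    (fun g hg => by have : IsIso g := hg; infer_instance) (𝟙 X)

variable {Q P : MorphismProperty (Sp S)}

/-- A property local on the base for `Q`-coverings is stable under base change along `Q`. -/
theorem prop_of_isPullback_of_isLocalOnBase (hQ : IsOpenCovProp Q)
    (hP : IsLocalOnBase (fun _ _ Y g => IsCover Q Y g) P)
    {X₀ W₀ X₂ W₂ : Sp S} (hX₀ : IsAlgSpace X₀) (hW₀ : IsAlgSpace W₀) (hX₂ : IsAlgSpace X₂)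
    (hW₂ : IsAlgSpace W₂) (f₀ : X₀ ⟶ W₀) (h : W₂ ⟶ W₀) (q : X₂ ⟶ X₀) (f₂ : X₂ ⟶ W₂)
    (sq : IsPullback q f₂ f₀ h) (hh : Q h) (hf₀ : P f₀) : P f₂ := by
  have key := hP (optFam W₀ W₂) (optHom (𝟙 _) h) hW₀
    (by rintro (_ | _); exacts [hW₀, hW₂])
    ⟨by rintro (_ | _); exacts [hQ.of_openImm (𝟙 _) hW₀ hW₀ (repWith_isOpenImmersion_id _), hh],
      fun x => ⟨none, x, Points.map_id x⟩⟩ f₀ hX₀ (optFam X₀ X₂) (optMap f₀ f₂) (optHom (𝟙 _) q)
    (by rintro (_ | _); exacts [hX₀, hX₂])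
    (by rintro (_ | _); exacts [IsPullback.of_id_fst, sq])
  exact key.1 hf₀ (some PUnit.unit)

/-- Lifting points through a factorisation over a monomorphism. -/
theorem exists_map_eq_of_comp_mono {A B C : Sp S} (g' : A ⟶ B) (j : B ⟶ C) [Mono j]
    (w : Points B) (y : Points A) (h : Points.map (g' ≫ j) y = Points.map j w) :
    ∃ z, Points.map g' z = w := by
  have sq : IsPullback (𝟙 A) g' (g' ≫ j) j :=
    IsPullback.of_horiz_isIso_mono ⟨by rw [Category.id_comp]⟩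
  obtain ⟨z, -, hz⟩ := Points.exists_of_isPullback sq y w h
  exact ⟨z, hz⟩

/-- `f` has `P` over the open subspaces with image `V`. -/
def HasPOver (P : MorphismProperty (Sp S)) {X Y : Sp S} (f : X ⟶ Y) (V : Set (Points Y)) : Prop :=
  ∀ (W₁ X₁ : Sp S), IsAlgSpace W₁ → IsAlgSpace X₁ → ∀ (j₁ : W₁ ⟶ Y) (j₁' : X₁ ⟶ X) (f₁ : X₁ ⟶ W₁),
    RepWith @IsOpenImmersion j₁ → Set.range (Points.map j₁) = V → IsPullback j₁' f₁ f j₁ → P f₁

/-- A union of opens over which `f` has `P` is again such an open. -/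
theorem hasPOver_sUnion (hQ : IsOpenCovProp Q)
    (hP : IsLocalOnBase (fun _ _ Y g => IsCover Q Y g) P) {X Y : Sp S}
    (hY : IsAlgSpace Y) (f : X ⟶ Y) (𝒱 : Set (Set (Points Y)))
    (hopen : ∀ V ∈ 𝒱, IsOpen V) (hgood : ∀ V ∈ 𝒱, HasPOver P f V) : HasPOver P f (⋃₀ 𝒱) := by
  intro W₀ X₀ hW₀ hX₀ j₀ j₀' f₀ hj₀ hrange sq₀
  have := mono_of_repWith_isOpenImmersion j₀ hj₀
  obtain ⟨U, a, hae, has⟩ := hY.atlas
  have hsurj := surjective_map_of_repWith has
  let ι : Type u := {u : ↥U.left // Points.ofPt a u ∈ ⋃₀ 𝒱}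
  have hch : ∀ i : ι, ∃ V ∈ 𝒱, Points.ofPt a i.1 ∈ V := fun i => Set.mem_sUnion.1 i.2
  choose V hV𝒱 hVmem using hch
  have hfac : ∀ i : ι, ∃ k : openSub Y (V i) ⟶ W₀, k ≫ j₀ = openSubι Y (V i) := fun i =>
    exists_factor_of_range_subset j₀ hj₀ (openSubι Y (V i)) (by
      rw [range_map_openSubι, hrange]
      exact Set.subset_sUnion_of_mem (hV𝒱 i))
  choose k hk using hfac
  have hWi : ∀ i, IsAlgSpace (openSub Y (V i)) := fun i =>
    isAlgSpace_openSub hY (V i) (hopen _ (hV𝒱 i))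
  have hki : ∀ i, RepWith @IsOpenImmersion (k i) := fun i => by
    have sq : IsPullback (𝟙 _) (k i) (openSubι Y (V i)) j₀ :=
      IsPullback.of_horiz_isIso_mono ⟨by rw [Category.id_comp, hk]⟩
    exact MorphismProperty.of_isPullback sq
      (repWith_isOpenImmersion_openSubι Y (V i) (hopen _ (hV𝒱 i)))
  have hXi : ∀ i, IsAlgSpace (pullback f₀ (k i)) := fun i =>
    isAlgSpace_of_isPullback' hW₀ hX₀ (hWi i) (IsPullback.of_hasPullback f₀ (k i))
  have key := hP (fun i => openSub Y (V i)) k hW₀ hWi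
    ⟨fun i => hQ.of_openImm (k i) (hWi i) hW₀ (hki i), fun w => ?_⟩ f₀ hX₀
    (fun i => pullback f₀ (k i)) (fun i => pullback.snd f₀ (k i)) (fun i => pullback.fst f₀ (k i))
    hXi (fun i => IsPullback.of_hasPullback f₀ (k i))
  · refine key.2 fun i => ?_
    refine hgood (V i) (hV𝒱 i) (openSub Y (V i)) (pullback f₀ (k i)) (hWi i) (hXi i)
      (openSubι Y (V i)) (pullback.fst f₀ (k i) ≫ j₀') (pullback.snd f₀ (k i))
      (repWith_isOpenImmersion_openSubι Y (V i) (hopen _ (hV𝒱 i))) (range_map_openSubι Y (V i)) ?_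
    rw [← hk i]
    exact (IsPullback.of_hasPullback f₀ (k i)).paste_horiz sq₀
  · have hw : Points.map j₀ w ∈ ⋃₀ 𝒱 := by
      rw [← hrange]
      exact ⟨w, rfl⟩
    obtain ⟨z, hz⟩ := hsurj (Points.map j₀ w)
    obtain ⟨u, rfl⟩ := (Points.schemeHomeo U).surjective z
    have hu : Points.ofPt a u = Points.map j₀ w := by
      rw [Points.ofPt_eq_map_ofScheme]
      exact hz
    let i : ι := ⟨u, by rw [hu]; exact hw⟩
    refine ⟨i, ?_⟩
    have h1 : Points.map j₀ w ∈ Set.range (Points.map (openSubι Y (V i))) := by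
      rw [range_map_openSubι, ← hu]
      exact hVmem i
    obtain ⟨v, hv⟩ := h1
    exact exists_map_eq_of_comp_mono (k i) j₀ w v (by rw [hk, hv])

/-- If the base change of `f` along a `Q`-morphism `g` has `P`, then `f` has `P` over the image
of `g`. -/
theorem hasPOver_range (hQ : IsOpenCovProp Q)
    (hP : IsLocalOnBase (fun _ _ Y g => IsCover Q Y g) P) {X Y Y' X' : Sp S}
    (hX' : IsAlgSpace X') (hY' : IsAlgSpace Y')
    (f : X ⟶ Y) (g : Y' ⟶ Y) (g' : X' ⟶ X) (f' : X' ⟶ Y') (hg : Q g)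
    (sq : IsPullback g' f' f g) (hf' : P f') : HasPOver P f (Set.range (Points.map g)) := by
  intro W₁ X₁ hW₁ hX₁ j₁ j₁' f₁ hj₁ hrange sq₁
  have := mono_of_repWith_isOpenImmersion j₁ hj₁
  obtain ⟨g₁, hg₁⟩ := exists_factor_of_range_subset j₁ hj₁ g (by rw [hrange])
  have hQg₁ : Q g₁ := hQ.cancel g₁ j₁ hj₁ (by rw [hg₁]; exact hg)
  have hw : g' ≫ f = (f' ≫ g₁) ≫ j₁ := by rw [Category.assoc, hg₁, sq.w]
  have sq' : IsPullback (sq₁.lift g' (f' ≫ g₁) hw) f' f₁ g₁ := by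
    refine IsPullback.of_right ?_ (sq₁.lift_snd _ _ _) sq₁
    rw [sq₁.lift_fst, hg₁]
    exact sq
  have key := hP (fun _ : PUnit.{u+1} => Y') (fun _ => g₁) hW₁ (fun _ => hY')
    ⟨fun _ => hQg₁, fun w => ?_⟩ f₁ hX₁ (fun _ => X') (fun _ => f')
    (fun _ => sq₁.lift g' (f' ≫ g₁) hw) (fun _ => hX') (fun _ => sq')
  · exact key.2 fun _ => hf'
  · have h1 : Points.map j₁ w ∈ Set.range (Points.map g) := by
      rw [← hrange]
      exact ⟨w, rfl⟩
    obtain ⟨y, hy⟩ := h1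
    exact ⟨PUnit.unit, exists_map_eq_of_comp_mono g₁ j₁ w y (by rw [hg₁, hy])⟩

theorem hasPOver_mono_space {X Y : Sp S} (f : X ⟶ Y) {V V' : Set (Points Y)} (h : V = V')
    (hV : HasPOver P f V) : HasPOver P f V' := h ▸ hV

/-- Compatibility of the largest open with base change along a `Q`-morphism. -/
theorem largest_open_preimage (hQ : IsOpenCovProp Q)
    (hP : IsLocalOnBase (fun _ _ Y g => IsCover Q Y g) P) {X Y Y' X' : Sp S}
    (hX : IsAlgSpace X) (hY : IsAlgSpace Y) (hX' : IsAlgSpace X') (hY' : IsAlgSpace Y')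
    (f : X ⟶ Y) (g : Y' ⟶ Y) (g' : X' ⟶ X) (f' : X' ⟶ Y') (hg : Q g)
    (sq : IsPullback g' f' f g) (W : Set (Points Y)) (hWo : IsOpen W) (hW : HasPOver P f W)
    (hWmax : ∀ V, IsOpen V → HasPOver P f V → V ⊆ W)
    (W' : Set (Points Y')) (hW'o : IsOpen W') (hW' : HasPOver P f' W')
    (hW'max : ∀ V', IsOpen V' → HasPOver P f' V' → V' ⊆ W') :
    W' = Points.map g ⁻¹' W := by
  apply Set.Subset.antisymm
  · -- `g (W') ⊆ W`
    have hj := repWith_isOpenImmersion_openSubι Y' W' hW'o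
    have hA := isAlgSpace_openSub hY' W' hW'o
    have sqj := IsPullback.of_hasPullback f' (openSubι Y' W')
    have hB := isAlgSpace_of_isPullback' hY' hX' hA sqj
    have h1 : P (pullback.snd f' (openSubι Y' W')) :=
      hW' _ _ hA hB (openSubι Y' W') (pullback.fst _ _) (pullback.snd _ _) hj
        (range_map_openSubι Y' W') sqj
    have h2 := hasPOver_range hQ hP hB hA f (openSubι Y' W' ≫ g)
      (pullback.fst f' (openSubι Y' W') ≫ g') (pullback.snd f' (openSubι Y' W'))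
      (hQ.precomp _ _ hj hg) (sqj.paste_horiz sq) h1
    have h3 := hWmax _ (hQ.isOpen_range _ hA hY (hQ.precomp _ _ hj hg)) h2
    intro y hy
    rw [← range_map_openSubι Y' W'] at hy
    obtain ⟨z, rfl⟩ := hy
    apply h3
    exact ⟨z, Points.map_comp _ _ z⟩
  · apply hW'max _ (hWo.preimage (Points.continuous_map g))
    intro W₂ X₂ hW₂ hX₂ j₂ j₂' f₂ hj₂ hrange₂ sq₂
    have hj₀ := repWith_isOpenImmersion_openSubι Y W hWo
    have := mono_of_repWith_isOpenImmersion _ hj₀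
    have hW₀ := isAlgSpace_openSub hY W hWo
    have sq₀ := IsPullback.of_hasPullback f (openSubι Y W)
    have hX₀ := isAlgSpace_of_isPullback' hY hX hW₀ sq₀
    have hPf₀ : P (pullback.snd f (openSubι Y W)) :=
      hW _ _ hW₀ hX₀ (openSubι Y W) (pullback.fst _ _) (pullback.snd _ _) hj₀
        (range_map_openSubι Y W) sq₀
    obtain ⟨h, hh⟩ := exists_factor_of_range_subset (openSubι Y W) hj₀ (j₂ ≫ g) (by
      rw [range_map_openSubι]
      rintro _ ⟨z, rfl⟩
      rw [Points.map_comp]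
      have : Points.map j₂ z ∈ Points.map g ⁻¹' W := by
        rw [← hrange₂]
        exact ⟨z, rfl⟩
      exact this)
    have hQh : Q h := hQ.cancel h _ hj₀ (by rw [hh]; exact hQ.precomp _ _ hj₂ hg)
    have hw : (j₂' ≫ g') ≫ f = (f₂ ≫ h) ≫ openSubι Y W := by
      rw [Category.assoc, Category.assoc, hh, sq.w, ← Category.assoc, sq₂.w, Category.assoc]
    have sq' : IsPullback (sq₀.lift (j₂' ≫ g') (f₂ ≫ h) hw) f₂ (pullback.snd f (openSubι Y W)) h := by
      refine IsPullback.of_right ?_ (sq₀.lift_snd _ _ _) sq₀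
      rw [sq₀.lift_fst, hh]
      exact sq₂.paste_horiz sq
    exact prop_of_isPullback_of_isLocalOnBase hQ hP hX₀ hW₀ hX₂ hW₂ _ h _ f₂ sq' hQh hPf₀

theorem hasPOver_iff_space {X Y : Space S} (f : X ⟶ Y) (V : Set (Points Y.obj)) :
    HasPOver P f.hom V ↔ ∀ (W₁ X₁ : Space S) (j₁ : W₁ ⟶ Y) (j₁' : X₁ ⟶ X) (f₁ : X₁ ⟶ W₁),
      RepWith @IsOpenImmersion j₁.hom → Set.range (Points.map j₁.hom) = V →
      IsPullback j₁'.hom f₁.hom f.hom j₁.hom → P f₁.hom :=
  ⟨fun h W₁ X₁ j₁ j₁' f₁ => h W₁.obj X₁.obj W₁.property X₁.property j₁.hom j₁'.hom f₁.hom,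
    fun h W₁ X₁ hW₁ hX₁ j₁ j₁' f₁ => h ⟨W₁, hW₁⟩ ⟨X₁, hX₁⟩ (ObjectProperty.homMk j₁)
      (ObjectProperty.homMk j₁') (ObjectProperty.homMk f₁)⟩

/-- The largest open over which `f` has `P`, for `P` local on the base for `Q`-coverings. -/
theorem exists_largest_open (hQ : IsOpenCovProp Q)
    (hP : IsLocalOnBase (fun _ _ Y g => IsCover Q Y g) P) {X Y : Space S} (f : X ⟶ Y) :
    ∃ W : TopologicalSpace.Opens (Points Y.obj),
      (∀ (W₀ X₀ : Space S) (j₀ : W₀ ⟶ Y) (j₀' : X₀ ⟶ X) (f₀ : X₀ ⟶ W₀),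
        RepWith @IsOpenImmersion j₀.hom →
        Set.range (Points.map j₀.hom) = (W : Set (Points Y.obj)) →
        IsPullback j₀'.hom f₀.hom f.hom j₀.hom → P f₀.hom) ∧
      (∀ V : TopologicalSpace.Opens (Points Y.obj),
        (∀ (W₁ X₁ : Space S) (j₁ : W₁ ⟶ Y) (j₁' : X₁ ⟶ X) (f₁ : X₁ ⟶ W₁),
        RepWith @IsOpenImmersion j₁.hom →
        Set.range (Points.map j₁.hom) = (V : Set (Points Y.obj)) →
        IsPullback j₁'.hom f₁.hom f.hom j₁.hom → P f₁.hom) → V ≤ W) ∧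
      (∀ (Y' X' : Space S) (g : Y' ⟶ Y) (g' : X' ⟶ X) (f' : X' ⟶ Y'),
        Q g.hom → IsPullback g'.hom f'.hom f.hom g.hom → P f'.hom →
        Set.range (Points.map g.hom) ⊆ (W : Set (Points Y.obj))) ∧
      (∀ (Y' X' : Space S) (g : Y' ⟶ Y) (g' : X' ⟶ X) (f' : X' ⟶ Y'),
        Q g.hom → IsPullback g'.hom f'.hom f.hom g.hom →
        ∀ W' : TopologicalSpace.Opens (Points Y'.obj),
          (∀ (W₂ X₂ : Space S) (j₂ : W₂ ⟶ Y') (j₂' : X₂ ⟶ X') (f₂ : X₂ ⟶ W₂),
        RepWith @IsOpenImmersion j₂.hom →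
        Set.range (Points.map j₂.hom) = (W' : Set (Points Y'.obj)) →
        IsPullback j₂'.hom f₂.hom f'.hom j₂.hom → P f₂.hom) →
          (∀ V' : TopologicalSpace.Opens (Points Y'.obj),
            (∀ (W₃ X₃ : Space S) (j₃ : W₃ ⟶ Y') (j₃' : X₃ ⟶ X') (f₃ : X₃ ⟶ W₃),
        RepWith @IsOpenImmersion j₃.hom →
        Set.range (Points.map j₃.hom) = (V' : Set (Points Y'.obj)) →
        IsPullback j₃'.hom f₃.hom f'.hom j₃.hom → P f₃.hom) → V' ≤ W') →
          (W' : Set (Points Y'.obj)) = Points.map g.hom ⁻¹' (W : Set (Points Y.obj))) := by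
  let 𝒱 : Set (Set (Points Y.obj)) := {V | IsOpen V ∧ HasPOver P f.hom V}
  have hWo : IsOpen (⋃₀ 𝒱) := isOpen_sUnion fun V hV => hV.1
  have hWgood : HasPOver P f.hom (⋃₀ 𝒱) :=
    hasPOver_sUnion hQ hP Y.property f.hom 𝒱 (fun V hV => hV.1) (fun V hV => hV.2)
  have hWmax : ∀ V, IsOpen V → HasPOver P f.hom V → V ⊆ ⋃₀ 𝒱 :=
    fun V h1 h2 => Set.subset_sUnion_of_mem ⟨h1, h2⟩
  refine ⟨⟨⋃₀ 𝒱, hWo⟩, (hasPOver_iff_space f _).1 hWgood, ?_, ?_, ?_⟩
  · intro V hV
    exact hWmax V V.isOpen ((hasPOver_iff_space f V).2 hV)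
  · intro Y' X' g g' f' hg sq hf'
    exact hWmax _ (hQ.isOpen_range g.hom Y'.property Y.property hg)
      (hasPOver_range hQ hP X'.property Y'.property f.hom g.hom g'.hom f'.hom hg sq hf')
  · intro Y' X' g g' f' hg sq W' hW' hW'max
    exact largest_open_preimage hQ hP X.property Y.property X'.property Y'.property f.hom g.hom
      g'.hom f'.hom hg sq (⋃₀ 𝒱) hWo hWgood hWmax W' W'.isOpen ((hasPOver_iff_space f' W').2 hW')
      (fun V' hV'o hV' => hW'max ⟨V', hV'o⟩ ((hasPOver_iff_space f' V').1 hV'))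

end Groth.Agent.Lib.Helper3
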