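import Groth.Agent.Lib.Helper3.AlgSpHasAtMor
import Groth.Agent.Lib.Helper3.AlgSpLargestOpen

set_option autoImplicit false
universe u
open CategoryTheory CategoryTheory.Limits AlgebraicGeometry Opposite MorphismProperty

namespace Groth.Agent.Lib.Helper3

variable {S : Scheme.{u}}

open AlgSp

variable {P : MorphismProperty Scheme.{u}} (hP : IsEtLocal P)
include hP

/-- From a chart diagram with `P` on a neighbourhood of `u`, an open subspace through `x` on which
`f` has `P`. -/
theorem exists_open_subspace_of_hasAtMor {X Y : Sp S} (hX : IsAlgSpace X) (f : X ⟶ Y)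
    (x : Points X) (H : HasAtMor (NbhdQ P) f x) :
    ∃ (X' : Sp S) (_ : IsAlgSpace X') (j : X' ⟶ X), RepWith @IsOpenImmersion j ∧
      x ∈ Set.range (Points.map j) ∧ LocP P (j ≫ f) := by
  obtain ⟨U, V, a, b, h, u, hae, hbe, w, hx, W, hu, hPW⟩ := H
  let UW : Over S := Over.mk (W.ι ≫ U.hom)
  let jW : UW ⟶ U := Over.homMk W.ι rfl
  have hjW : RepWith @Etale ((yon S).map jW) :=
    (repWith_yon_map_iff _ _).2 (inferInstanceAs (Etale W.ι))
  have hge : RepWith @Etale ((yon S).map jW ≫ a) := MorphismProperty.comp_mem _ _ _ hjW hae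
  set Ω : Set (Points X) := Set.range (Points.ofPt ((yon S).map jW ≫ a)) with hΩdef
  have hΩ : IsOpen Ω := by
    rw [hΩdef, ← range_map_eq_range_ofPt]
    exact (isOpenMap_map_of_etale hge).isOpen_range
  have hj := repWith_isOpenImmersion_openSubι X Ω hΩ
  obtain ⟨a', ha', ha'e, ha's, -⟩ := exists_factor_surjective_etale ((yon S).map jW ≫ a) hge
    (openSubι X Ω) hj (range_map_openSubι X Ω)
  refine ⟨openSub X Ω, isAlgSpace_openSub hX Ω hΩ, openSubι X Ω, hj, ?_, ?_⟩
  · rw [range_map_openSubι]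
    refine ⟨⟨u, hu⟩, ?_⟩
    rw [Points.ofPt_yon_map_comp]
    exact hx
  · refine locP_of_chart hP _ a' ha'e ha's b hbe (jW ≫ h) ?_ hPW
    rw [← Category.assoc, ha', Category.assoc, w, Functor.map_comp, Category.assoc]

/-- From an open subspace through `x` on which `f` has `P`, a chart diagram at `x`. -/
theorem hasAtMor_of_open_subspace {X Y X' : Sp S} (hX' : IsAlgSpace X') (hY : IsAlgSpace Y)
    (f : X ⟶ Y) (x : Points X) (j : X' ⟶ X) (hj : RepWith @IsOpenImmersion j)
    (hx : x ∈ Set.range (Points.map j)) (hloc : LocP P (j ≫ f)) : HasAtMor (NbhdQ P) f x := by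
  obtain ⟨x', rfl⟩ := hx
  obtain ⟨U, V, a, b, h, u, hae, hbe, w, hx, W, hu, hPW⟩ :=
    hasAtMor_of_locP hP hX' hY (j ≫ f) hloc x'
  have hje : RepWith @Etale j := MorphismProperty.relative_monotone
    (fun _ _ k hk => isOpenImmersion_le_etale _ hk) _ hj
  refine ⟨U, V, a ≫ j, b, h, u, MorphismProperty.comp_mem _ _ _ hae hje, hbe, ?_, ?_, W, hu, hPW⟩
  · rw [Category.assoc, w]
  · rw [← Points.map_ofPt, hx]

end Groth.Agent.Lib.Helper3
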