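import Groth.Agent.Lib.Helper3.AlgSpLocP3

set_option autoImplicit false
universe u
open CategoryTheory CategoryTheory.Limits AlgebraicGeometry Opposite MorphismProperty

namespace Groth.Agent.Lib.Helper3

variable {S : Scheme.{u}}

open AlgSp

/-- A morphism of schemes between two etale charts of a sheaf, compatible with the charts, is
etale. -/
theorem etale_of_repWith_comp {U W : Over S} {X : Sp S} (a : (yon S).obj U ⟶ X)
    (c : (yon S).obj W ⟶ X) (ha : RepWith @Etale a) (hc : RepWith @Etale c) (ψ : U ⟶ W)
    (hψ : (yon S).map ψ ≫ c = a) : Etale ψ.left := by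
  -- `T = W ×_X U`
  have sq := hc.rep.isPullback a
  have hse : Etale (hc.rep.snd a).left := hc.property_snd a
  obtain ⟨τ, hτ⟩ := (yon S).map_surjective (hc.rep.fst a)
  rw [← hτ] at sq
  have hτe : Etale τ.left := ha.property c _ _ sq.flip
  obtain ⟨s, hs⟩ := (yon S).map_surjective (sq.lift ((yon S).map ψ) (𝟙 _) (by rw [hψ, Category.id_comp]))
  have hs1 : s ≫ τ = ψ := by
    apply (yon S).map_injective
    rw [Functor.map_comp, hs, sq.lift_fst]
  have hs2 : s ≫ hc.rep.snd a = 𝟙 U := by
    apply (yon S).map_injective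
    rw [Functor.map_comp, hs, sq.lift_snd, CategoryTheory.Functor.map_id]
  have hse' : Etale s.left := by
    have : Etale (s.left ≫ (hc.rep.snd a).left) := by
      rw [← Over.comp_left, hs2]
      exact inferInstanceAs (Etale (𝟙 U.left))
    exact MorphismProperty.of_postcomp (W := @Etale) (W' := @Etale) s.left (hc.rep.snd a).left
      hse this
  rw [← hs1, Over.comp_left]
  infer_instance

variable {P : MorphismProperty Scheme.{u}} (hP : IsEtLocal P)
include hP

/-- A representable morphism with property `P` has `P` etale locally on source and target. -/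
theorem locP_of_repWith {X Y : Sp S} (f : X ⟶ Y) (hf : RepWith P f) : LocP P f := by
  intro U V a b h ha hb w
  have sq := hf.rep.isPullback b
  have hj : P (hf.rep.snd b).left := hf.property_snd b
  have hpe : RepWith @Etale (hf.rep.fst b) := MorphismProperty.of_isPullback sq.flip hb
  obtain ⟨ψ, hψ⟩ := (yon S).map_surjective (sq.lift a ((yon S).map h) w)
  have h1 : (yon S).map ψ ≫ hf.rep.fst b = a := by rw [hψ, sq.lift_fst]
  have h2 : ψ ≫ hf.rep.snd b = h := by
    apply (yon S).map_injective
    rw [Functor.map_comp, hψ, sq.lift_snd]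
  have hψe : Etale ψ.left := etale_of_repWith_comp a _ ha hpe ψ h1
  rw [← h2, Over.comp_left]
  exact hP.comp_mem _ _ (hP.etale_le _ hψe) hj

/-- Base change of `LocP P` along a morphism from a scheme factoring through an atlas. -/
theorem locP_of_isPullback_chart {X Y : Sp S} (hX : IsAlgSpace X) (hY : IsAlgSpace Y) (f : X ⟶ Y)
    (hf : LocP P f) {W V' : Over S} (c : (yon S).obj W ⟶ Y) (hce : RepWith @Etale c)
    (l : V' ⟶ W) {Q : Sp S} (fstQ : Q ⟶ X) (q : Q ⟶ (yon S).obj V')
    (sqQ : IsPullback fstQ q f ((yon S).map l ≫ c)) : LocP P q := by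
  obtain ⟨U, u, h, hue, hus, hae, -, hh, hcomm⟩ := exists_chart_over hX hY f c hce
  have hPh : P h.left := hf _ _ h hae hce hcomm
  -- `Q ⟶ X ×_Y W`
  have hw : fstQ ≫ f = (q ≫ (yon S).map l) ≫ c := by rw [sqQ.w, Category.assoc]
  let m : Q ⟶ pullback f c := pullback.lift fstQ (q ≫ (yon S).map l) hw
  have hm1 : m ≫ pullback.fst f c = fstQ := pullback.lift_fst _ _ _
  have hm2 : m ≫ pullback.snd f c = q ≫ (yon S).map l := pullback.lift_snd _ _ _
  have sqM : IsPullback m q (pullback.snd f c) ((yon S).map l) := by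
    refine IsPullback.of_right ?_ hm2 (IsPullback.of_hasPullback f c)
    rw [hm1]
    exact sqQ
  -- `T = U ×_W V'`
  have sqT : IsPullback ((yon S).map (pullback.fst h l)) ((yon S).map (pullback.snd h l))
      ((yon S).map h) ((yon S).map l) := (IsPullback.of_hasPullback h l).map (yon S)
  have hw2 : ((yon S).map (pullback.fst h l) ≫ u) ≫ pullback.snd f c =
      (yon S).map (pullback.snd h l) ≫ (yon S).map l := by
    rw [Category.assoc, ← hh, sqT.w]
  let t : (yon S).obj (pullback h l) ⟶ Q := sqM.lift _ _ hw2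
  have ht1 : t ≫ m = (yon S).map (pullback.fst h l) ≫ u := sqM.lift_fst _ _ _
  have ht2 : t ≫ q = (yon S).map (pullback.snd h l) := sqM.lift_snd _ _ _
  have sqU : IsPullback ((yon S).map (pullback.fst h l)) t u m := by
    refine IsPullback.of_bot ?_ ht1.symm sqM
    rw [ht2, ← hh]
    exact sqT
  have hte : RepWith @Etale t := MorphismProperty.of_isPullback sqU hue
  have hts : RepWith @Surjective t := MorphismProperty.of_isPullback sqU hus
  have hPt : P (pullback.snd h l).left := by
    have sq3 : IsPullback (pullback.fst h l).left (pullback.snd h l).left h.left l.left :=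
      (IsPullback.of_hasPullback h l).map (Over.forget S)
    exact hP.of_isPullback sq3 hPh
  exact locP_of_chart hP q t hte hts (𝟙 _) (repWith_id _ V') (pullback.snd h l)
    (by rw [ht2, Category.comp_id]) hPt

/-- `LocP P` is stable under base change along morphisms of algebraic spaces. -/
theorem locP_of_isPullback {X Y Y' X' : Sp S} (hX : IsAlgSpace X) (hY : IsAlgSpace Y)
    (hY' : IsAlgSpace Y') (hX' : IsAlgSpace X') (f : X ⟶ Y) (g : Y' ⟶ Y) (fst : X' ⟶ X)
    (f' : X' ⟶ Y') (sq : IsPullback fst f' f g) (hf : LocP P f) : LocP P f' := by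
  obtain ⟨W, c, hce, hcs⟩ := hY.atlas
  obtain ⟨V', v, l, -, -, hbe, hbs, -, hl⟩ := exists_chart_over hY' hY g c hce
  have sqA := IsPullback.of_hasPullback f' (v ≫ pullback.fst g c)
  have sqB := sqA.paste_horiz sq
  rw [hl] at sqB
  have hq : LocP P (pullback.snd f' (v ≫ pullback.fst g c)) :=
    locP_of_isPullback_chart hP hX hY f hf c hce l _ _ sqB
  exact locP_of_target_cover hP hX' hY' f' _ hbe (hbs hcs) _ _ sqA hq

/-- For a representable morphism of algebraic spaces, `LocP P` implies `RepWith P`. -/
theorem repWith_of_locP {X Y : Sp S} (hX : IsAlgSpace X) (hY : IsAlgSpace Y) (f : X ⟶ Y)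
    (hrep : Representable f) (hf : LocP P f) : RepWith P f := by
  refine ⟨hrep, fun T V g fst snd sq => ?_⟩
  change P snd.left
  have h1 : LocP P ((yon S).map snd) :=
    locP_of_isPullback hP hX hY (IsAlgSpace.yon_obj T) (IsAlgSpace.yon_obj V) f g fst _ sq hf
  exact locP_yon_map h1

end Groth.Agent.Lib.Helper3
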