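import Groth.Agent.Lib.Helper3.AlgSpBC

set_option autoImplicit false
universe u
open CategoryTheory CategoryTheory.Limits AlgebraicGeometry MorphismProperty

namespace Groth.Agent.Lib.Helper3

variable {S : Scheme.{u}}

/-- Two represented pullbacks of the same cospan have isomorphic projections. -/
theorem prop_of_isPullback_of_isPullback (P : MorphismProperty Scheme.{u}) [P.RespectsIso]
    {F G : AlgSp.Sp S} {f : F ⟶ G} {T V₁ V₂ : Over S} {g : (AlgSp.yon S).obj T ⟶ G}
    {fst₁ : (AlgSp.yon S).obj V₁ ⟶ F} {snd₁ : V₁ ⟶ T} {fst₂ : (AlgSp.yon S).obj V₂ ⟶ F}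
    {snd₂ : V₂ ⟶ T} (sq₁ : IsPullback fst₁ ((AlgSp.yon S).map snd₁) f g)
    (sq₂ : IsPullback fst₂ ((AlgSp.yon S).map snd₂) f g) (h : P snd₁.left) : P snd₂.left := by
  let e := sq₂.isoIsPullback _ _ sq₁
  have he : e.hom ≫ (AlgSp.yon S).map snd₁ = (AlgSp.yon S).map snd₂ :=
    IsPullback.isoIsPullback_hom_snd _ _ sq₂ sq₁
  let e' : V₂ ≅ V₁ := (AlgSp.yon S).preimageIso e
  have he' : e'.hom ≫ snd₁ = snd₂ := by
    apply (AlgSp.yon S).map_injective
    rw [Functor.map_comp, ← he]
    congr 1
    exact (AlgSp.yon S).map_preimage e.hom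
  have : snd₂.left = ((Over.forget S).mapIso e').hom ≫ snd₁.left := by
    rw [← he']; rfl
  rw [this]
  exact (P.cancel_left_of_respectsIso ((Over.forget S).mapIso e').hom snd₁.left).2 h

/-- To check `RepWith P f` for a Zariski-local `P` it suffices to exhibit, for every affine test
scheme, one represented pullback with `P`. -/
theorem repWith_of_forall_affine (P : MorphismProperty Scheme.{u}) [IsZariskiLocalAtTarget P]
    {F G : AlgSp.Sp S} (f : F ⟶ G) (hf : AlgSp.Representable f)
    (h : ∀ ⦃T : Over S⦄, IsAffine T.left → ∀ (k : (AlgSp.yon S).obj T ⟶ G),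
      ∃ (V : Over S) (fst : (AlgSp.yon S).obj V ⟶ F) (snd : V ⟶ T),
        IsPullback fst ((AlgSp.yon S).map snd) f k ∧ P snd.left) :
    AlgSp.RepWith P f := by
  refine ⟨hf, fun T E k e ι sqE => ?_⟩
  change P ι.left
  rw [IsZariskiLocalAtTarget.iff_of_openCover (P := P) T.left.affineCover]
  intro i
  let Ti : Over S := Over.mk (T.left.affineCover.f i ≫ T.hom)
  let incl : Ti ⟶ T := Over.homMk (T.left.affineCover.f i)
  have hTi : IsAffine Ti.left := by
    change IsAffine (T.left.affineCover.X i)
    infer_instance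
  obtain ⟨V, fst', snd', sq', hP⟩ := h hTi ((AlgSp.yon S).map incl ≫ k)
  have sq'' := Groth.Agent.S9884.isPullback_base_change sqE incl
  have h1 : P (pullback.snd ι incl).left := prop_of_isPullback_of_isPullback P sq' sq'' hP
  have sqL : IsPullback (pullback.fst ι incl).left (pullback.snd ι incl).left ι.left
      (T.left.affineCover.f i) :=
    (IsPullback.of_hasPullback ι incl).map (Over.forget S)
  have e := sqL.isoPullback_hom_snd
  change P (pullback.snd ι.left (T.left.affineCover.f i))
  rw [← P.cancel_left_of_respectsIso sqL.isoPullback.hom, e]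
  exact h1

end Groth.Agent.Lib.Helper3
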