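import Groth.Agent.Lib.Helper3.AlgSpUC2
import Groth.Agent.Lib.Helper3.AlgSpLocal
import Groth.Agent.Lib.Helper3.FppfLocal2
import Groth.Agent.S9922
import Groth.Agent.S9900

set_option autoImplicit false
universe u
open CategoryTheory CategoryTheory.Limits AlgebraicGeometry Opposite MorphismProperty

namespace Groth.Agent.Lib.Helper3

variable {S : Scheme.{u}}

open AlgSp

theorem repWith_quasiCompact_of_isQuasiCompactMor {F G : Sp S} (f : F ⟶ G)
    (hf : Representable f) (h : IsQuasiCompactMor f) : RepWith @QuasiCompact f := by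
  refine repWith_of_forall_affine @QuasiCompact f hf ?_
  intro T hT k
  refine ⟨_, hf.fst k, hf.snd k, hf.isPullback k, ?_⟩
  have hqc : IsQuasiCompactSp ((yon S).obj (hf.pullback k)) :=
    h (IsAlgSpace.yon_obj T) (isQuasiCompactSp_yon (inferInstance : CompactSpace ↥T.left))
      k _ _ (hf.isPullback k)
  have hc : CompactSpace ↥(hf.pullback k).left := compactSpace_of_isQuasiCompactSp_yon hqc
  have : IsAffine ((Over.forget S).obj T) := hT
  exact (HasAffineProperty.iff_of_isAffine (P := @QuasiCompact)).2 hc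

theorem isQuasiCompactMor_of_repWith_quasiCompact {F G : Sp S} (f : F ⟶ G)
    (h : RepWith @QuasiCompact f) : IsQuasiCompactMor f :=
  Groth.Agent.S9936.isQuasiCompactMor_of_repWith @QuasiCompact
    (fun k hk hB => by
      have : QuasiCompact k := hk
      exact QuasiCompact.compactSpace_of_compactSpace k) _ h

theorem isQuasiCompactMor_of_surjective_comp {X Y Z : Sp S} (hY : IsAlgSpace Y)
    (hZ : IsAlgSpace Z) (f : X ⟶ Y) (q : Y ⟶ Z) (hf : IsSurjectiveMor f)
    (hp : IsQuasiCompactMor (f ≫ q)) : IsQuasiCompactMor q := by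
  intro T T' hT hqc k a b sq
  have hT' : IsAlgSpace T' := isAlgSpace_of_isPullback' hZ hY hT sq
  have sqX := IsPullback.of_hasPullback f a
  have sqP := sqX.paste_vert sq
  have hX' : IsQuasiCompactSp (pullback f a) := hp hT hqc k _ _ sqP
  exact isQuasiCompactSp_of_isSurjectiveMor (pullback.snd f a)
    (isSurjectiveMor_snd_of_isPullback sqX hf) hX' hT'

theorem isUnivClosedMor_comp {F G H : Sp S} {f : F ⟶ G} {g : G ⟶ H} (hG : IsAlgSpace G)
    (hH : Representable (Limits.diag H)) (hf : IsUnivClosedMor f) (hg : IsUnivClosedMor g) :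
    IsUnivClosedMor (f ≫ g) := by
  intro Z Z' hZ k a b sq
  have sqG := IsPullback.of_hasPullback g k
  have hG' : IsAlgSpace (pullback g k) := isAlgSpace_of_isPullback hH hG hZ sqG
  have hcG : IsClosedMap (Points.map (pullback.snd g k)) := hg hZ k _ _ sqG
  let l : Z' ⟶ pullback g k := pullback.lift (a ≫ f) b (by simpa only [Category.assoc] using sq.w)
  have hl : l ≫ pullback.snd g k = b := pullback.lift_snd _ _ _
  have sqL : IsPullback a l f (pullback.fst g k) := by
    refine IsPullback.of_bot ?_ (pullback.lift_fst _ _ _).symm sqG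
    rw [hl]
    exact sq
  have hcl : IsClosedMap (Points.map l) := hf hG' _ _ _ sqL
  have : Points.map b = Points.map (pullback.snd g k) ∘ Points.map l := by
    funext x
    rw [← hl]
    exact Points.map_comp _ _ x
  change IsClosedMap (Points.map b)
  rw [this]
  exact hcG.comp hcl

theorem isUnivClosedMor_of_surjective_comp {X Y Z : Sp S} (f : X ⟶ Y) (q : Y ⟶ Z)
    (hf : IsSurjectiveMor f) (hp : IsUnivClosedMor (f ≫ q)) : IsUnivClosedMor q := by
  intro T T' hT k a b sq
  have sqX := IsPullback.of_hasPullback f a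
  have sqP := sqX.paste_vert sq
  have hcl : IsClosedMap (Points.map (pullback.snd f a ≫ b)) := hp hT k _ _ sqP
  have hsurj : IsSurjectiveMor (pullback.snd f a) := isSurjectiveMor_snd_of_isPullback sqX hf
  intro Ω hΩ
  have : Points.map b '' Ω =
      Points.map (pullback.snd f a ≫ b) '' (Points.map (pullback.snd f a) ⁻¹' Ω) := by
    ext y
    constructor
    · rintro ⟨z, hz, rfl⟩
      obtain ⟨n, rfl⟩ := hsurj z
      exact ⟨n, hz, Points.map_comp _ _ n⟩
    · rintro ⟨n, hn, rfl⟩
      exact ⟨_, hn, (Points.map_comp _ _ n).symm⟩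
  rw [this]
  exact hcl _ (hΩ.preimage (Points.continuous_map _))

section Triangle

variable {X Y B : Sp S} (f : X ⟶ Y) (q : Y ⟶ B)

/-- `1 × f : X ×_B X ⟶ X ×_B Y`. -/
noncomputable def mapOne : pullback (f ≫ q) (f ≫ q) ⟶ pullback (f ≫ q) q :=
  pullback.map (f ≫ q) (f ≫ q) (f ≫ q) q (𝟙 X) f (𝟙 B) (by simp) (by simp)

/-- `f × 1 : X ×_B Y ⟶ Y ×_B Y`. -/
noncomputable def mapTwo : pullback (f ≫ q) q ⟶ pullback q q :=
  pullback.map (f ≫ q) q q q f (𝟙 Y) (𝟙 B) (by simp) (by simp)

set_option backward.isDefEq.respectTransparency false in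
theorem isPullback_mapOne :
    IsPullback (pullback.snd (f ≫ q) (f ≫ q)) (mapOne f q) f (pullback.snd (f ≫ q) q) := by
  have right := IsPullback.of_hasPullback (f ≫ q) q
  have big : IsPullback (mapOne f q ≫ pullback.fst (f ≫ q) q) (pullback.snd (f ≫ q) (f ≫ q))
      (f ≫ q) (f ≫ q) := by
    have : mapOne f q ≫ pullback.fst (f ≫ q) q = pullback.fst (f ≫ q) (f ≫ q) := by
      simp [mapOne]
    rw [this]
    exact IsPullback.of_hasPullback _ _
  have := IsPullback.of_right big (by simp [mapOne]) right
  exact this.flip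

set_option backward.isDefEq.respectTransparency false in
theorem isPullback_mapTwo :
    IsPullback (pullback.fst (f ≫ q) q) (mapTwo f q) f (pullback.fst q q) := by
  have right := (IsPullback.of_hasPullback q q).flip
  have big : IsPullback (mapTwo f q ≫ pullback.snd q q) (pullback.fst (f ≫ q) q) q (f ≫ q) := by
    have : mapTwo f q ≫ pullback.snd q q = pullback.snd (f ≫ q) q := by
      simp [mapTwo]
    rw [this]
    exact (IsPullback.of_hasPullback _ _).flip
  have := IsPullback.of_right big (by simp [mapTwo]) right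
  exact this.flip

set_option backward.isDefEq.respectTransparency false in
theorem diagonal_comp_maps :
    pullback.diagonal (f ≫ q) ≫ mapOne f q ≫ mapTwo f q = f ≫ pullback.diagonal q := by
  apply pullback.hom_ext <;> simp [mapOne, mapTwo]

end Triangle

end Groth.Agent.Lib.Helper3
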