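import Groth.Agent.Lib.Helper3.AlgSpFpqcLocal
import Groth.Agent.Lib.Helper3.AlgSpQC5
import Groth.Agent.Lib.Helper3.AlgSpUC3
import Groth.Agent.S9903
import Groth.Agent.S9904
import Groth.Agent.S9922
import Groth.Agent.S9924
import Groth.Agent.S9936

set_option autoImplicit false
universe u
open CategoryTheory CategoryTheory.Limits AlgebraicGeometry Opposite MorphismProperty

namespace Groth.Agent.Lib.Helper3

variable {S : Scheme.{u}}

open AlgSp

/-- `LocP P` can be tested after base change to affine schemes over the target. -/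
theorem locP_of_forall_affine {P : MorphismProperty Scheme.{u}} (hP : IsEtLocal P)
    [IsZariskiLocalAtTarget P] {X Y : Sp S} (hX : IsAlgSpace X) (hY : IsAlgSpace Y) (f : X ⟶ Y)
    (h : ∀ (Z : Over S), IsAffine Z.left → ∀ (g : (yon S).obj Z ⟶ Y) (Q : Sp S) (fst : Q ⟶ X)
      (snd : Q ⟶ (yon S).obj Z), IsPullback fst snd f g → LocP P snd) : LocP P f := by
  have := hP.stableBC
  obtain ⟨V, b, hbe, hbs⟩ := hY.atlas
  obtain ⟨U, u, h₀, hue, hus, hae, has, hh, hcomm⟩ := exists_chart_over hX hY f b hbe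
  refine locP_of_chart hP f _ hae (has hbs) b hbe h₀ hcomm ?_
  rw [IsZariskiLocalAtTarget.iff_of_openCover (P := P) V.left.affineCover]
  intro k
  let Zo : Over S := Over.mk (V.left.affineCover.f k ≫ V.hom)
  let ιo : Zo ⟶ V := Over.homMk (V.left.affineCover.f k) rfl
  have hZo : IsAffine Zo.left := inferInstanceAs (IsAffine (V.left.affineCover.X k))
  have sqQ := IsPullback.of_hasPullback f ((yon S).map ιo ≫ b)
  have hq := h Zo hZo _ _ _ _ sqQ
  obtain ⟨t, hte, -, ht2, -⟩ := exists_chart_base_change f b u h₀ hue hus hh ιo _ _ sqQ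
  have hPt : P (pullback.snd h₀ ιo).left :=
    hq t (𝟙 _) _ hte (repWith_id _ Zo) (by rw [ht2, Category.comp_id])
  have sq3 : IsPullback (pullback.fst h₀ ιo).left (pullback.snd h₀ ιo).left h₀.left ιo.left :=
    (IsPullback.of_hasPullback h₀ ιo).map (Over.forget S)
  change P (pullback.snd h₀.left (V.left.affineCover.f k))
  exact prop_fst_of_isPullback sq3.flip
    (IsPullback.of_hasPullback h₀.left (V.left.affineCover.f k)).flip hPt

theorem isSeparatedMor_comp {X Y Z : Sp S} {f : X ⟶ Y} {g : Y ⟶ Z} (hf : IsSeparatedMor f)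
    (hg : IsSeparatedMor g) : IsSeparatedMor (f ≫ g) := by
  have h1 : (RepWith (S := S) @IsClosedImmersion).diagonal f := hf
  have h2 : (RepWith (S := S) @IsClosedImmersion).diagonal g := hg
  exact MorphismProperty.comp_mem (RepWith (S := S) @IsClosedImmersion).diagonal f g h1 h2

theorem isProperMor_of_isPullback {X Y Y' X' : Sp S} (hX : IsAlgSpace X) (hY : IsAlgSpace Y)
    (hY' : IsAlgSpace Y') (hX' : IsAlgSpace X') {f : X ⟶ Y} {g : Y' ⟶ Y} {fst : X' ⟶ X}
    {f' : X' ⟶ Y'} (sq : IsPullback fst f' f g) (hf : IsProperMor f) : IsProperMor f' :=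
  ⟨repWith_diagonal_of_isPullback _ sq hf.1,
    ⟨locP_of_isPullback isEtLocal_locallyOfFiniteType hX hY hY' hX' f g fst f' sq hf.2.1.1,
      isQuasiCompactMor_of_isPullback sq hf.2.1.2⟩,
    isUnivClosedMor_of_isPullback sq hf.2.2⟩

theorem isProperMor_comp {X Y Z : Sp S} (hX : IsAlgSpace X) (hY : IsAlgSpace Y)
    (hZ : IsAlgSpace Z) {f : X ⟶ Y} {g : Y ⟶ Z} (hf : IsProperMor f) (hg : IsProperMor g) :
    IsProperMor (f ≫ g) :=
  ⟨isSeparatedMor_comp hf.1 hg.1,
    ⟨locP_comp isEtLocal_locallyOfFiniteType hX hY hZ f g hf.2.1.1 hg.2.1.1,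
      isQuasiCompactMor_comp hY hZ.diag hf.2.1.2 hg.2.1.2⟩,
    isUnivClosedMor_comp hY hZ.diag hf.2.2 hg.2.2⟩

theorem isProperMor_of_repWith_isClosedImmersion {X Y : Sp S} (i : X ⟶ Y)
    (hi : RepWith @IsClosedImmersion i) : IsProperMor i := by
  have hmono : Mono i := Groth.Agent.S9928.mono_of_repWith @IsClosedImmersion
    (fun g hg => by have : IsClosedImmersion g := hg; infer_instance) i hi
  refine ⟨Groth.Agent.S9937.isSeparatedMor_of_mono i, ⟨?_, ?_⟩, ?_⟩
  · refine locP_of_repWith isEtLocal_locallyOfFiniteType i (repWith_mono ?_ hi)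
    intro A B k hk
    have : IsClosedImmersion k := hk
    exact inferInstanceAs (LocallyOfFiniteType k)
  · exact Groth.Agent.S9936.isQuasiCompactMor_of_repWith @IsClosedImmersion (fun g hg hB => by
      have : IsClosedImmersion g := hg
      exact QuasiCompact.compactSpace_of_compactSpace g) i hi
  · refine Groth.Agent.S9922.isUnivClosedMor_of_repWith (repWith_mono ?_ hi)
    intro A B k hk
    have : IsClosedImmersion k := hk
    exact inferInstanceAs (UniversallyClosed k)

theorem isProperMor_iff_affine {X Y : Space S} (f : X ⟶ Y) :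
    IsProperMor f.hom ↔
      ∀ (Z : Over S), IsAffine Z.left → ∀ (g : (yon S).obj Z ⟶ Y.obj) (P : Sp S)
        (fst : P ⟶ X.obj) (snd : P ⟶ (yon S).obj Z), IsPullback fst snd f.hom g →
        IsProperMor snd := by
  constructor
  · intro hf Z hZ g P fst snd sq
    exact isProperMor_of_isPullback X.property Y.property (IsAlgSpace.yon_obj Z)
      (isAlgSpace_of_isPullback' Y.property X.property (IsAlgSpace.yon_obj Z) sq) sq hf
  · intro h
    refine ⟨?_, ⟨?_, ?_⟩, ?_⟩
    · exact (Groth.Agent.S9903.result f).1.2 fun Z hZ g P fst snd sq => (h Z hZ g P fst snd sq).1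
    · exact locP_of_forall_affine isEtLocal_locallyOfFiniteType X.property Y.property f.hom
        fun Z hZ g P fst snd sq => (h Z hZ g P fst snd sq).2.1.1
    · refine isQuasiCompactMor_of_forall_affine X.property Y.property.diag f.hom ?_
      intro Z hZ g P fst snd sq
      have hq := (h Z hZ g P fst snd sq).2.1.2
      exact hq (IsAlgSpace.yon_obj Z) (isQuasiCompactSp_yon inferInstance) (𝟙 _) (𝟙 _) snd
        IsPullback.of_id_fst
    · rw [Groth.Agent.S9923.isUnivClosedMor_iff_affine]
      intro Z hZ g P fst snd sq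
      exact (h Z hZ g P fst snd sq).2.2 (IsAlgSpace.yon_obj Z) (𝟙 _) (𝟙 _) snd
        IsPullback.of_id_fst

theorem isProperMor_of_etale_cover {X Y : Space S} (f : X ⟶ Y) (V : Over S)
    (p : (yon S).obj V ⟶ Y.obj) (hp : RepWith @Etale p) (hps : RepWith @Surjective p)
    {P : Sp S} (fst : P ⟶ X.obj) (snd : P ⟶ (yon S).obj V) (sq : IsPullback fst snd f.hom p)
    (h : IsProperMor snd) : IsProperMor f.hom := by
  refine ⟨(Groth.Agent.S9904.result f V p hp hps fst snd sq).1 h.1, ⟨?_, ?_⟩, ?_⟩
  · exact locP_of_target_cover isEtLocal_locallyOfFiniteType X.property Y.property f.hom p hp hps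
      fst snd sq h.2.1.1
  · refine isQuasiCompactMor_of_univOpen_surjective_base_change X.property Y.property
      (IsAlgSpace.yon_obj V) sq ?_ (isSurjectiveMor_of_repWith hps) h.2.1.2
    exact isUnivOpenMor_of_isEtaleMor (IsAlgSpace.yon_obj V) (isEtaleMor_of_repWith_etale hp)
  · exact Groth.Agent.S9924.isUnivClosedMor_of_etale_cover f.hom V p hp hps fst snd sq h.2.2

end Groth.Agent.Lib.Helper3
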