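import Groth.Agent.Lib.Helper3.AlgSpDiag
import Groth.Prelude.Def_AlgSp3

set_option autoImplicit false
universe u
open CategoryTheory CategoryTheory.Limits AlgebraicGeometry MorphismProperty

namespace Groth.Agent.Lib.Helper3

section cat

variable {C D : Type*} [Category C] [Category D] (F : C ⥤ D) [F.Full] [F.Faithful]
  [HasPullbacks C] [PreservesLimitsOfShape WalkingCospan F] [HasPullbacks D]

/-- For a relatively representable `a` and `g : F T ⟶ X ×_Y X`, the pullback of the diagonal of `a`
along `g` is represented by the pullback of the diagonal of `V ⟶ T` (the base change of `a`) along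
the pair of sections defined by `g`. -/
theorem exists_isPullback_diagonal {X Y : D} (a : X ⟶ Y) (ha : F.relativelyRepresentable a)
    {T : C} (g : F.obj T ⟶ pullback a a) :
    ∃ (V : C) (sndV : V ⟶ T) (fstV : F.obj V ⟶ X)
      (_ : IsPullback fstV (F.map sndV) a ((g ≫ pullback.fst a a) ≫ a))
      (σ : T ⟶ pullback sndV sndV),
      IsPullback (F.map (pullback.snd (pullback.diagonal sndV) σ) ≫ g ≫ pullback.fst a a)
        (F.map (pullback.snd (pullback.diagonal sndV) σ)) (pullback.diagonal a) g := by
  have hx : (g ≫ pullback.fst a a) ≫ a = (g ≫ pullback.snd a a) ≫ a := by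
    simp only [Category.assoc, pullback.condition]
  obtain ⟨V, sndV, fstV, sqV⟩ := ha ((g ≫ pullback.fst a a) ≫ a)
  have hw₁ : (g ≫ pullback.fst a a) ≫ a = 𝟙 (F.obj T) ≫ (g ≫ pullback.fst a a) ≫ a := by simp
  have hw₂ : (g ≫ pullback.snd a a) ≫ a = 𝟙 (F.obj T) ≫ (g ≫ pullback.fst a a) ≫ a := by
    simp [hx]
  obtain ⟨s₁, hs₁⟩ := F.map_surjective (sqV.lift (g ≫ pullback.fst a a) (𝟙 _) hw₁)
  obtain ⟨s₂, hs₂⟩ := F.map_surjective (sqV.lift (g ≫ pullback.snd a a) (𝟙 _) hw₂)
  have hs₁f : F.map s₁ ≫ fstV = g ≫ pullback.fst a a := by rw [hs₁, sqV.lift_fst]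
  have hs₂f : F.map s₂ ≫ fstV = g ≫ pullback.snd a a := by rw [hs₂, sqV.lift_fst]
  have hs₁s : F.map s₁ ≫ F.map sndV = 𝟙 _ := by rw [hs₁, sqV.lift_snd]
  have hs₂s : F.map s₂ ≫ F.map sndV = 𝟙 _ := by rw [hs₂, sqV.lift_snd]
  have hs₁' : s₁ ≫ sndV = 𝟙 T := F.map_injective (by rw [F.map_comp, hs₁s, F.map_id])
  have hs₂' : s₂ ≫ sndV = 𝟙 T := F.map_injective (by rw [F.map_comp, hs₂s, F.map_id])
  let σ : T ⟶ pullback sndV sndV := pullback.lift s₁ s₂ (by rw [hs₁', hs₂'])
  have sqE := (IsPullback.of_hasPullback (pullback.diagonal sndV) σ).map F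
  have sqK := (IsPullback.of_hasPullback sndV sndV).map F
  -- first projection of E is determined by the second
  have hfst : pullback.fst (pullback.diagonal sndV) σ = pullback.snd (pullback.diagonal sndV) σ ≫ s₁ := by
    have := (pullback.condition (f := pullback.diagonal sndV) (g := σ)) =≫ pullback.fst sndV sndV
    simpa only [Category.assoc, pullback.diagonal_fst, Category.comp_id, σ, pullback.lift_fst]
      using this
  have hfst' : pullback.fst (pullback.diagonal sndV) σ = pullback.snd (pullback.diagonal sndV) σ ≫ s₂ := by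
    have := (pullback.condition (f := pullback.diagonal sndV) (g := σ)) =≫ pullback.snd sndV sndV
    simpa only [Category.assoc, pullback.diagonal_snd, Category.comp_id, σ, pullback.lift_snd]
      using this
  have hι : F.map (pullback.snd (pullback.diagonal sndV) σ) ≫ g ≫ pullback.fst a a =
      F.map (pullback.snd (pullback.diagonal sndV) σ) ≫ g ≫ pullback.snd a a := by
    rw [← hs₁f, ← hs₂f, ← Category.assoc, ← Category.assoc, ← F.map_comp, ← F.map_comp,
      ← hfst, ← hfst']
  refine ⟨V, sndV, fstV, sqV, σ, ?_⟩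
  refine IsPullback.mk' ?_ ?_ ?_
  · apply pullback.hom_ext
    · simp only [Category.assoc, pullback.diagonal_fst, Category.comp_id]
    · simp only [Category.assoc, pullback.diagonal_snd, Category.comp_id, hι]
  · intro Z φ φ' _ h
    apply sqE.hom_ext
    · rw [hfst, F.map_comp, ← Category.assoc, ← Category.assoc, h]
    · exact h
  · intro Z z t hzt
    have h1 : z = t ≫ g ≫ pullback.fst a a := by
      have := hzt =≫ pullback.fst a a
      simpa only [Category.assoc, pullback.diagonal_fst, Category.comp_id] using this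
    have h2 : z = t ≫ g ≫ pullback.snd a a := by
      have := hzt =≫ pullback.snd a a
      simpa only [Category.assoc, pullback.diagonal_snd, Category.comp_id] using this
    have ht : t ≫ F.map s₁ = t ≫ F.map s₂ := by
      apply sqV.hom_ext
      · rw [Category.assoc, Category.assoc, hs₁f, hs₂f, ← h1, ← h2]
      · rw [Category.assoc, Category.assoc, hs₁s, hs₂s]
    have hw : (t ≫ F.map s₁) ≫ F.map (pullback.diagonal sndV) = t ≫ F.map σ := by
      apply sqK.hom_ext
      · simp only [Category.assoc, ← F.map_comp, pullback.diagonal_fst, Category.comp_id, σ,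
          pullback.lift_fst]
      · simp only [Category.assoc, ← F.map_comp, pullback.diagonal_snd, Category.comp_id, σ,
          pullback.lift_snd, ht]
    refine ⟨sqE.lift _ _ hw, ?_, sqE.lift_snd _ _ hw⟩
    rw [← Category.assoc, sqE.lift_snd, ← h1]

end cat

variable {S : Scheme.{u}}

/-- If the base changes of `f` to schemes have diagonals in `P`, the diagonal of `f` is
representable with `P`. -/
theorem repWith_diagonal_of_repWith {P Q : MorphismProperty Scheme.{u}}
    [P.IsStableUnderBaseChange]
    (hQ : ∀ ⦃A B : Scheme.{u}⦄ (g : A ⟶ B), Q g → P (pullback.diagonal g)) {X Y : AlgSp.Sp S}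
    (f : X ⟶ Y) (hf : AlgSp.RepWith Q f) : AlgSp.RepWith P (pullback.diagonal f) := by
  have : P.RespectsIso := MorphismProperty.IsStableUnderBaseChange.respectsIso
  refine MorphismProperty.relative.of_exists (fun T g => ?_)
  obtain ⟨V, sndV, fstV, sqV, σ, sq⟩ := exists_isPullback_diagonal (AlgSp.yon S) f hf.rep g
  refine ⟨_, _, _, sq, ?_⟩
  change P (pullback.snd (pullback.diagonal sndV) σ).left
  have h1 : P (pullback.diagonal sndV.left) := hQ _ (hf.property _ _ _ sqV)
  have h2 : P (pullback.diagonal sndV).left := by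
    have := AlgSp.diagonal_forget_map sndV
    change pullback.diagonal sndV.left = (pullback.diagonal sndV).left ≫ _ at this
    rw [this, P.cancel_right_of_respectsIso] at h1
    exact h1
  exact P.of_isPullback
    ((IsPullback.of_hasPullback (pullback.diagonal sndV) σ).map (Over.forget S)) h2

/-- Diagonal-type properties of morphisms of sheaves are stable under base change. -/
theorem repWith_diagonal_of_isPullback (P : MorphismProperty Scheme.{u}) {F G F' G' : AlgSp.Sp S}
    {f : F ⟶ G} {g' : G' ⟶ G} {fst : F' ⟶ F} {snd : F' ⟶ G'} (sq : IsPullback fst snd f g')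
    (h : AlgSp.RepWith P (pullback.diagonal f)) : AlgSp.RepWith P (pullback.diagonal snd) := by
  have h' : (AlgSp.RepWith (S := S) P).diagonal f := h
  exact MorphismProperty.of_isPullback (P := (AlgSp.RepWith (S := S) P).diagonal) sq h'

end Groth.Agent.Lib.Helper3
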