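import Groth.Agent.Lib.Helper3.AlgSpLocBase
import Groth.Agent.Lib.Helper3.AlgSpSep
import Groth.Agent.Lib.Helper3.AlgSpInj
import Groth.Agent.Lib.Helper3.AlgSpOpenSub

set_option autoImplicit false
universe u
open CategoryTheory CategoryTheory.Limits AlgebraicGeometry Opposite MorphismProperty

namespace Groth.Agent.Lib.Helper3

variable {S : Scheme.{u}}

open AlgSp

/-- Cancellation for `LocP`: if `P` can be cancelled against `Q` for schemes, then also for
algebraic spaces. -/
theorem locP_of_postcomp {P Q : MorphismProperty Scheme.{u}} (hP : IsEtLocal P)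
    (hPQ : ∀ {A B C : Scheme.{u}} (f : A ⟶ B) (g : B ⟶ C), P (f ≫ g) → Q g → P f)
    {X Y Z : Sp S} (hX : IsAlgSpace X) (hY : IsAlgSpace Y) (hZ : IsAlgSpace Z)
    (f : X ⟶ Y) (g : Y ⟶ Z) (hfg : LocP P (f ≫ g)) (hg : LocP Q g) : LocP P f := by
  obtain ⟨W, c, hce, hcs⟩ := hZ.atlas
  obtain ⟨V, v, l, -, -, hbe, hbs, -, hl⟩ := exists_chart_over hY hZ g c hce
  obtain ⟨U, u, h, -, -, hae, has, -, hh⟩ := exists_chart_over hX hY f _ hbe
  have h2 : Q l.left := hg _ _ l hbe hce hl
  have h1 : P (h ≫ l).left := hfg _ _ (h ≫ l) hae hce (by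
    rw [← Category.assoc, hh, Category.assoc, hl, Functor.map_comp, Category.assoc])
  exact locP_of_chart hP f _ hae (has (hbs hcs)) _ hbe h hh (hPQ _ _ h1 h2)

theorem isEtaleMor_id (X : Sp S) : IsEtaleMor (𝟙 X) := fun U φ hφ => by
  rwa [Category.comp_id]

/-- The diagonal of an unramified morphism of algebraic spaces is an open immersion. -/
theorem repWith_isOpenImmersion_diagonal_of_locP_unramified {X Y : Sp S} (hX : IsAlgSpace X)
    (hY : IsAlgSpace Y) (f : X ⟶ Y)
    (hf : LocP (@LocallyOfFiniteType ⊓ @FormallyUnramified) f) :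
    RepWith @IsOpenImmersion (pullback.diagonal f) := by
  have hXX : IsAlgSpace (pullback f f) :=
    isAlgSpace_of_isPullback' hY hX hX (IsPullback.of_hasPullback f f)
  have hsnd : LocP (@LocallyOfFiniteType ⊓ @FormallyUnramified) (pullback.snd f f) :=
    locP_of_isPullback isEtLocal_unramified hX hY hX hXX f f _ _ (IsPullback.of_hasPullback f f) hf
  have hid : LocP @Etale (pullback.diagonal f ≫ pullback.snd f f) := by
    rw [pullback.diagonal_snd]
    exact locP_etale_of_isEtaleMor (isEtaleMor_id X)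
  have hΔ : LocP @Etale (pullback.diagonal f) :=
    locP_of_postcomp isEtLocal_etale
      (fun a b hab hb => MorphismProperty.of_postcomp (W := @Etale)
        (W' := @LocallyOfFiniteType ⊓ @FormallyUnramified) a b hb hab)
      hX hXX hX _ _ hid hsnd
  have hrep := Groth.Agent.S9900.repWith_diagonal_lft_mono hX f
  have hΔe : RepWith @Etale (pullback.diagonal f) :=
    repWith_of_locP isEtLocal_etale hX hXX _ hrep.rep hΔ
  refine repWith_mono ?_ (repWith_inf hΔe hrep)
  rintro A B k ⟨hk1, -, hk3⟩
  have : Etale k := hk1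
  have : Mono k := hk3
  exact IsOpenImmersion.of_flat_of_mono k

/-- A morphism of algebraic spaces, locally of finite type, whose diagonal is an open immersion is
unramified. -/
theorem locP_unramified_of_diagonal {X Y : Sp S} (hX : IsAlgSpace X) (hY : IsAlgSpace Y)
    (f : X ⟶ Y) (hf : LocP @LocallyOfFiniteType f)
    (hΔ : RepWith @IsOpenImmersion (pullback.diagonal f)) :
    LocP (@LocallyOfFiniteType ⊓ @FormallyUnramified) f := by
  obtain ⟨V, b, hbe, hbs⟩ := hY.atlas
  obtain ⟨U, u, h, hue, hus, hae, has, hh, hcomm⟩ := exists_chart_over hX hY f b hbe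
  refine locP_of_chart isEtLocal_unramified f _ hae (has hbs) b hbe h hcomm ⟨hf _ _ h hae hbe hcomm, ?_⟩
  have h1 : (RepWith (S := S) @IsOpenImmersion).diagonal (pullback.snd f b) :=
    repWith_diagonal_of_isPullback _ (IsPullback.of_hasPullback f b) hΔ
  have h2 : (RepWith (S := S) @IsOpenImmersion).diagonal u :=
    repWith_diagonal_of_repWith (P := @IsOpenImmersion) (Q := @Etale)
      (fun A B g hg => by
        have : Etale g := hg
        infer_instance) u hue
  have h3 : (RepWith (S := S) @IsOpenImmersion).diagonal (u ≫ pullback.snd f b) :=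
    MorphismProperty.comp_mem _ _ _ h2 h1
  rw [← hh] at h3
  have h4 : IsOpenImmersion (pullback.diagonal h.left) :=
    (repWith_diagonal_yon_map_iff @IsOpenImmersion h).1 h3
  infer_instance

end Groth.Agent.Lib.Helper3
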