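import Groth.Agent.Lib.Helper3.AlgSpChartPts
import Groth.Agent.Lib.Helper3.AlgSpHasAtMor
import Mathlib.AlgebraicGeometry.Morphisms.Immersion

set_option autoImplicit false
universe u
open CategoryTheory CategoryTheory.Limits AlgebraicGeometry Opposite Topology
open AlgSp

namespace Groth.Agent.Lib.Helper3

variable {S : Scheme.{u}}

/-- Points of a represented base change along a chart. -/
theorem exists_of_isPullback_chart {F X : Sp S} {i : F ⟶ X} {U V : Over S}
    {a : (yon S).obj U ⟶ X} {fst : (yon S).obj V ⟶ F} {snd : V ⟶ U}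
    (sq : IsPullback fst ((yon S).map snd) i a) (z : Points F) (u : ↥U.left)
    (h : Points.map i z = Points.ofPt a u) :
    ∃ v : ↥V.left, Points.ofPt fst v = z ∧ snd.left v = u := by
  obtain ⟨q, hq1, hq2⟩ := Points.exists_of_isPullback sq z (Points.ofScheme U u)
    (by rw [h, Points.ofPt_eq_map_ofScheme])
  obtain ⟨v, rfl⟩ := (Points.schemeHomeo V).surjective q
  refine ⟨v, ?_, ?_⟩
  · rw [Points.ofPt_eq_map_ofScheme]
    exact hq1
  · apply (Points.schemeHomeo U).injective
    rw [← Points.map_yon_map_apply]
    exact hq2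

theorem map_ofPt_of_isPullback_chart {F X : Sp S} {i : F ⟶ X} {U V : Over S}
    {a : (yon S).obj U ⟶ X} {fst : (yon S).obj V ⟶ F} {snd : V ⟶ U}
    (sq : IsPullback fst ((yon S).map snd) i a) (v : ↥V.left) :
    Points.map i (Points.ofPt fst v) = Points.ofPt a (snd.left v) := by
  rw [Points.map_ofPt, sq.w, Points.ofPt_yon_map_comp]

/-- An immersion of algebraic spaces induces an embedding with locally closed range on points. -/
theorem isEmbedding_map_of_immersion {Z X : Sp S} (hX : IsAlgSpace X) (i : Z ⟶ X)
    (hi : RepWith @IsImmersion i) :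
    IsEmbedding (Points.map i) ∧ IsLocallyClosed (Set.range (Points.map i)) := by
  obtain ⟨U, a, hae, has⟩ := hX.atlas
  have sqa := hi.1.isPullback a
  have him : IsImmersion (hi.1.snd a).left := hi.2 a _ _ sqa
  have hfe : RepWith @Etale (hi.1.fst a) := MorphismProperty.of_isPullback sqa.flip hae
  have hfs : RepWith @Surjective (hi.1.fst a) := MorphismProperty.of_isPullback sqa.flip has
  have hemb : IsEmbedding (hi.1.snd a).left := (hi.1.snd a).left.isEmbedding
  have hinj : Function.Injective (Points.map i) := by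
    intro z₁ z₂ h12
    obtain ⟨ζ₁, rfl⟩ := exists_ofPt_eq _ hfs z₁
    obtain ⟨ζ₂, rfl, h2⟩ := exists_of_isPullback_chart sqa z₂ ((hi.1.snd a).left ζ₁)
      (by rw [← h12, map_ofPt_of_isPullback_chart sqa])
    rw [hemb.injective h2]
  refine ⟨⟨⟨le_antisymm (continuous_iff_le_induced.1 (Points.continuous_map i)) ?_⟩, hinj⟩, ?_⟩
  · intro W hW
    rw [isOpen_induced_iff]
    have hWU : IsOpen (Points.ofPt (hi.1.fst a) ⁻¹' W) := hW.preimage (Points.continuous_ofPt _)
    obtain ⟨W', hW', hWW'⟩ := hemb.isInducing.isOpen_iff.1 hWU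
    refine ⟨Points.ofPt a '' W', isOpenMap_ofPt a hae _ hW', ?_⟩
    ext z
    constructor
    · rintro ⟨u', hu', hz⟩
      obtain ⟨ζ, rfl, hζ⟩ := exists_of_isPullback_chart sqa z u' hz.symm
      have : ζ ∈ (hi.1.snd a).left ⁻¹' W' := by
        rw [Set.mem_preimage, hζ]
        exact hu'
      rw [hWW'] at this
      exact this
    · intro hz
      obtain ⟨ζ, rfl⟩ := exists_ofPt_eq _ hfs z
      have : ζ ∈ (hi.1.snd a).left ⁻¹' W' := by
        rw [hWW']
        exact hz
      exact ⟨_, this, (map_ofPt_of_isPullback_chart sqa ζ).symm⟩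
  · rw [isLocallyClosed_iff_isOpen_coborder]
    have hpre : Points.ofPt a ⁻¹' (coborder (Set.range (Points.map i))) =
        coborder (Set.range (hi.1.snd a).left) := by
      rw [← coborder_preimage (isOpenMap_ofPt a hae) (Points.continuous_ofPt a)]
      congr 1
      have := Points.ofPt_preimage_image sqa Set.univ
      rw [Set.image_univ, Set.preimage_univ, Set.image_univ] at this
      exact this
    have hop : IsOpen (Points.ofPt a ⁻¹' (coborder (Set.range (Points.map i)))) := by
      rw [hpre]
      exact him.isLocallyClosed_range.isOpen_coborder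
    have hsurj : Function.Surjective (Points.ofPt a) := fun x => exists_ofPt_eq a has x
    rw [← Set.image_preimage_eq (coborder (Set.range (Points.map i))) hsurj]
    exact isOpenMap_ofPt a hae _ hop

end Groth.Agent.Lib.Helper3
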