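import Mathlib
set_option autoImplicit false
universe u
open CategoryTheory CategoryTheory.Limits AlgebraicGeometry

namespace Groth.Agent.Lib.Helper3

/-- Quasi-finiteness at a point, read in the scheme-theoretic fibre over any name of the image. -/
theorem quasiFiniteAt_iff_exists_fiber_pt {X Y : Scheme.{u}} (g : X ⟶ Y) [LocallyOfFiniteType g]
    (x : X) (y : Y) (hy : g x = y) :
    g.QuasiFiniteAt x ↔ ∃ z : g.fiber y, g.fiberι y z = x ∧ IsOpen ({z} : Set (g.fiber y)) := by
  subst hy
  rw [Scheme.Hom.quasiFiniteAt_iff_isOpen_singleton_asFiber]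
  constructor
  · intro h
    exact ⟨g.asFiber x, g.fiberι_asFiber x, h⟩
  · rintro ⟨z, hz, ho⟩
    have : z = g.asFiber x :=
      (g.fiberι (g x)).isEmbedding.injective (by rw [hz, g.fiberι_asFiber])
    rwa [this] at ho

/-- Quasi-finiteness at a point descends along an arbitrary base change. -/
theorem quasiFiniteAt_of_isPullback {A X Y Z : Scheme.{u}} {fst : A ⟶ X} {snd : A ⟶ Y}
    {f : X ⟶ Z} {g : Y ⟶ Z} (sq : IsPullback fst snd f g) [LocallyOfFiniteType g] (a : A)
    (ha : fst.QuasiFiniteAt a) : g.QuasiFiniteAt (snd a) := by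
  have : LocallyOfFiniteType fst := MorphismProperty.of_isPullback sq.flip inferInstance
  set x := fst a with hx
  have sqF := isPullback_fiberToSpecResidueField_of_isPullback sq.flip x
  set φ := pullback.map fst (X.fromSpecResidueField x) g (Z.fromSpecResidueField (f x)) snd
    (Spec.map (f.residueFieldMap x)) f sq.flip.w.symm (by simp) with hφ
  have : UniversallyOpen φ := MorphismProperty.of_isPullback sqF.flip inferInstance
  obtain ⟨z₀, hz₀, ho⟩ := (quasiFiniteAt_iff_exists_fiber_pt fst a x rfl).1 ha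
  have hgx : g (snd a) = f x := by
    rw [← Scheme.Hom.comp_apply, ← sq.w, Scheme.Hom.comp_apply]
  rw [quasiFiniteAt_iff_exists_fiber_pt g (snd a) (f x) hgx]
  refine ⟨φ z₀, ?_, ?_⟩
  · have h1 : φ ≫ g.fiberι (f x) = fst.fiberι x ≫ snd := pullback.lift_fst _ _ _
    calc g.fiberι (f x) (φ z₀) = (φ ≫ g.fiberι (f x)) z₀ := rfl
      _ = (fst.fiberι x ≫ snd) z₀ := congr($(h1) z₀)
      _ = snd (fst.fiberι x z₀) := rfl
      _ = snd a := by rw [hz₀]
  · have := φ.isOpenMap _ ho
    have e : (⇑φ '' {z₀} : Set ↥(pullback g (Z.fromSpecResidueField (f x)))) = {φ z₀} :=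
      Set.image_singleton
    exact Eq.mp (congrArg IsOpen e) this

end Groth.Agent.Lib.Helper3
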