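import Mathlib
import Groth.Agent.Lib.lead.QFRelDim
import Groth.Agent.Lib.Helper3.QuasiFiniteAtBC
import Groth.Agent.Lib.Helper3.AlgSpLocalDim
import Groth.Agent.Lib.Helper3.AlgSpImmersionPts
set_option autoImplicit false
universe u
open CategoryTheory CategoryTheory.Limits AlgebraicGeometry

namespace Groth.Agent.Lib.Helper3

open AlgSp

variable {S : Scheme.{u}}

/-- The fibre of a chart diagram of `f` over a scheme-valued point `y` of the target is a chart of the
fibre sheaf. -/
theorem exists_fibre_chart {X Y F : Sp S} {K : Over S} (f : X ⟶ Y) (y : (yon S).obj K ⟶ Y)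
    (p : F ⟶ X) (q : F ⟶ (yon S).obj K) (sq : IsPullback p q f y)
    {U V : Over S} (a : (yon S).obj U ⟶ X) (b : (yon S).obj V ⟶ Y) (h : U ⟶ V)
    (e : a ≫ f = (yon S).map h ≫ b) (hb : Representable b) :
    ∃ (G K' : Over S) (g₁ : G ⟶ U) (g₂ : G ⟶ K') (pV : K' ⟶ V) (pK : K' ⟶ K)
      (ψ : (yon S).obj G ⟶ F),
      IsPullback g₁ g₂ h pV ∧ IsPullback ((yon S).map pV) ((yon S).map pK) b y ∧
      IsPullback ((yon S).map g₁) ψ a p ∧ ψ ≫ q = (yon S).map (g₂ ≫ pK) := by
  obtain ⟨K', pV, pK, sqK⟩ := exists_pullback_charts b hb y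
  have sqG0 := IsPullback.of_hasPullback h pV
  have sqG := sqG0.map (yon S)
  have outer := sqG.paste_vert sqK
  rw [← e] at outer
  have hw : ((yon S).map (pullback.fst h pV) ≫ a) ≫ f =
      ((yon S).map (pullback.snd h pV) ≫ (yon S).map pK) ≫ y := by
    rw [Category.assoc, outer.w]
  let ψ : (yon S).obj (pullback h pV) ⟶ F := sq.lift _ _ hw
  have hψ1 : ψ ≫ p = (yon S).map (pullback.fst h pV) ≫ a := sq.lift_fst _ _ _
  have hψ2 : ψ ≫ q = (yon S).map (pullback.snd h pV) ≫ (yon S).map pK := sq.lift_snd _ _ _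
  refine ⟨pullback h pV, K', pullback.fst h pV, pullback.snd h pV, pV, pK, ψ, sqG0, sqK, ?_, ?_⟩
  · refine (IsPullback.of_right ?_ hψ1 sq.flip).flip
    rw [hψ2]
    exact outer.flip
  · rw [hψ2, Functor.map_comp]

/-- If the fibre of `f` over a field-valued point has local dimension `0` at a point `z`, then every
chart of `f` through the image of `z` is quasi-finite there. -/
theorem quasiFiniteAt_of_fibre_localDim_zero {X Y F : Sp S} (f : X ⟶ Y)
    (k : Type u) [Field k] (str : Spec (.of k) ⟶ S)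
    (y : (yon S).obj (Over.mk str) ⟶ Y) (p : F ⟶ X) (q : F ⟶ (yon S).obj (Over.mk str))
    (sq : IsPullback p q f y) (z : Points F)
    (hz : HasAt (fun U u => FlatMor.localDim ↥U u = 0) F z)
    {U V : Over S} (a : (yon S).obj U ⟶ X) (b : (yon S).obj V ⟶ Y) (h : U ⟶ V)
    (e : a ≫ f = (yon S).map h ≫ b) (ha : RepWith @Etale a) (hb : RepWith @Etale b)
    [LocallyOfFiniteType h.left] (u : ↥U.left) (hu : Points.ofPt a u = Points.map p z) :
    h.left.QuasiFiniteAt u := by
  obtain ⟨G, K', g₁, g₂, pV, pK, ψ, sqG, sqK, top, hψq⟩ :=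
    exists_fibre_chart f y p q sq a b h e hb.1
  have hψe : RepWith @Etale ψ := MorphismProperty.of_isPullback top ha
  have hpKe : Etale pK.left := hb.2 y ((yon S).map pV) pK sqK
  obtain ⟨g', hg'z, hg'u⟩ := exists_of_isPullback_chart top.flip z u hu.symm
  -- local dimension zero at `g'`
  obtain ⟨T, c, t, hce, hct, ht0⟩ := hz
  have hd : FlatMor.localDim ↥G.left g' = 0 := by
    rw [localDim_eq_of_ofPt_eq ψ c hψe hce g' t (by rw [hg'z, hct])]
    exact ht0
  have sqG' : IsPullback g₁.left g₂.left h.left pV.left := sqG.map (Over.forget S)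
  have : LocallyOfFiniteType g₂.left := MorphismProperty.of_isPullback sqG' inferInstance
  have : LocallyOfFiniteType (g₂.left ≫ pK.left) := inferInstance
  have : IsLocallyNoetherian (Over.mk str).left :=
    (inferInstance : IsLocallyNoetherian (Spec (CommRingCat.of k)))
  have : IsLocallyNoetherian G.left :=
    LocallyOfFiniteType.isLocallyNoetherian (g₂.left ≫ pK.left)
  have ho : IsOpen ({g'} : Set ↥G.left) :=
    Groth.Agent.Lib.lead.QFRelDim.isOpen_singleton_of_localDim_eq_zero G.left g' hd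
  have hq : g₂.left.QuasiFiniteAt g' := by
    rw [Groth.Agent.Lib.lead.QFCodim.quasiFiniteAt_iff_exists_open]
    exact ⟨{g'}, ho, by ext w; simp⟩
  have := quasiFiniteAt_of_isPullback sqG'.flip g' hq
  rwa [hg'u] at this

end Groth.Agent.Lib.Helper3
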