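import Groth.Agent.Lib.Helper3.NoethDescent
import Groth.Agent.Lib.Helper3.AlgSpChartPts
import Mathlib.AlgebraicGeometry.Noetherian

set_option autoImplicit false
universe u
open CategoryTheory CategoryTheory.Limits AlgebraicGeometry Opposite
open AlgSp

namespace Groth.Agent.Lib.Helper3

/-- Every scheme etale over a locally Noetherian sheaf is locally Noetherian. -/
theorem isLocallyNoetherian_of_isLocNoethSp {S : Scheme.{u}} {X : Sp S} (hX : IsLocNoethSp X)
    {U : Over S} (a : (yon S).obj U ⟶ X) (ha : RepWith @Etale a) :
    IsLocallyNoetherian U.left := by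
  obtain ⟨V, b, hbe, hbs, hV⟩ := hX
  obtain ⟨W, pU, pV, sq⟩ := exists_pullback_charts a ha.1 b
  have hpV : Etale pV.left := ha.2 b ((yon S).map pU) pV sq
  have hpU : Etale pU.left := hbe.2 a ((yon S).map pV) pU sq.flip
  have hpUs : Surjective pU.left := hbs.2 a ((yon S).map pV) pU sq.flip
  have : IsLocallyNoetherian V.left := hV
  have hWn : IsLocallyNoetherian W.left := LocallyOfFiniteType.isLocallyNoetherian pV.left
  exact isLocallyNoetherian_of_flat_lfp_surjective pU.left

end Groth.Agent.Lib.Helper3
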