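import Groth.Agent.Lib.Helper3.AlgSpEtNbhdLift
import Mathlib.AlgebraicGeometry.Morphisms.FormallyUnramified

set_option autoImplicit false
universe u
open CategoryTheory CategoryTheory.Limits AlgebraicGeometry Opposite

namespace Groth.Agent.Lib.Helper3

variable {S : Scheme.{u}}

open AlgSp

set_option backward.isDefEq.respectTransparency.types false in
/-- A section of an etale morphism is an open immersion. -/
theorem isOpenImmersion_of_section_of_etale {R B : Scheme.{u}} (π : R ⟶ B) [Etale π] (δ : B ⟶ R)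
    (h : δ ≫ π = 𝟙 B) : IsOpenImmersion δ := by
  have hpost : MorphismProperty.HasOfPostcompProperty @IsOpenImmersion
      (@LocallyOfFiniteType ⊓ @FormallyUnramified) := by
    rw [MorphismProperty.hasOfPostcompProperty_iff_le_diagonal]
    intro X Y f ⟨hft, hfu⟩
    exact inferInstanceAs <| IsOpenImmersion (pullback.diagonal f)
  refine MorphismProperty.of_postcomp (W := @IsOpenImmersion)
    (W' := @LocallyOfFiniteType ⊓ @FormallyUnramified) δ π ⟨inferInstance, inferInstance⟩ ?_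
  rw [h]
  infer_instance

variable {X : Sp S}

/-- A geometric point of an algebraic space has an etale neighbourhood. -/
theorem nonempty_etNbhd (hX : IsAlgSpace X) (p : FieldPt X) (hp : p.IsGeometric) :
    Nonempty (EtNbhd p) := by
  obtain ⟨V, a, hae, has⟩ := hX.atlas
  obtain ⟨u, hu⟩ := (Groth.Agent.S9906.repWith_surjective_iff a has.1).1 has (Points.mk p)
  obtain ⟨ubar, h1, -⟩ := exists_lift_geometric_point (IsAlgSpace.yon_obj V) hX a
    (isEtaleMor_of_repWith _ hae) p hp u hu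
  obtain ⟨ū, rfl⟩ := (yon S).map_surjective ubar
  exact ⟨⟨EtOver.mk a hae, ⟨ū, h1⟩⟩⟩

/-- Two etale neighbourhoods are dominated by a third one. -/
theorem etNbhd_cone_objs (p : FieldPt X) (N₁ N₂ : EtNbhd p) :
    ∃ (W : EtNbhd p) (_ : W ⟶ N₁) (_ : W ⟶ N₂), True := by
  obtain ⟨E₁, u₁, h₁⟩ := N₁
  obtain ⟨E₂, u₂, h₂⟩ := N₂
  obtain ⟨W, pU, pT, sq⟩ := exists_pullback_charts E₁.obj.hom E₁.property.1 E₂.obj.hom
  have hpU : Etale pU.left := E₂.property.2 E₁.obj.hom ((yon S).map pT) pU sq.flip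
  have hW : RepWith @Etale ((yon S).map pU ≫ E₁.obj.hom) :=
    (RepWith @Etale).comp_mem _ _ ((repWith_yon_map_iff _ pU).2 hpU) E₁.property
  obtain ⟨u₃, hu₃⟩ := (yon S).map_surjective
    (sq.lift ((yon S).map u₁) ((yon S).map u₂) (by rw [h₁, h₂]))
  have hu₃1 : u₃ ≫ pU = u₁ :=
    (yon S).map_injective (by rw [Functor.map_comp, hu₃, sq.lift_fst])
  have hu₃2 : u₃ ≫ pT = u₂ :=
    (yon S).map_injective (by rw [Functor.map_comp, hu₃, sq.lift_snd])
  refine ⟨⟨EtOver.mk _ hW, ⟨u₃, ?_⟩⟩, ⟨EtOver.homMk pU rfl, Subtype.ext hu₃1⟩,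
    ⟨EtOver.homMk pT sq.w.symm, Subtype.ext hu₃2⟩, trivial⟩
  change (yon S).map u₃ ≫ (yon S).map pU ≫ E₁.obj.hom = p.toHom
  rw [← Category.assoc, ← Functor.map_comp, hu₃1]
  exact h₁

/-- Two parallel morphisms of etale neighbourhoods are equalised by a further neighbourhood. -/
theorem etNbhd_cone_maps (p : FieldPt X) {N₁ N₂ : EtNbhd p} (f f' : N₁ ⟶ N₂) :
    ∃ (W : EtNbhd p) (h : W ⟶ N₁), h ≫ f = h ≫ f' := by
  obtain ⟨E₁, u₁, h₁⟩ := N₁
  obtain ⟨E₂, u₂, h₂⟩ := N₂
  obtain ⟨f, hf⟩ := f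
  obtain ⟨f', hf'⟩ := f'
  have hf1 : u₁ ≫ f.hom.left = u₂ := congrArg Subtype.val hf
  have hf'1 : u₁ ≫ f'.hom.left = u₂ := congrArg Subtype.val hf'
  -- `R = E₂ ×_X E₂`
  obtain ⟨R, pr₁, pr₂, sq⟩ := exists_pullback_charts E₂.obj.hom E₂.property.1 E₂.obj.hom
  have hpr₁ : Etale pr₁.left := E₂.property.2 E₂.obj.hom ((yon S).map pr₂) pr₁ sq.flip
  obtain ⟨δ, hδ⟩ := (yon S).map_surjective (sq.lift (𝟙 _) (𝟙 _) rfl)
  have hδ1 : δ ≫ pr₁ = 𝟙 _ :=
    (yon S).map_injective (by rw [Functor.map_comp, hδ, sq.lift_fst, (yon S).map_id])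
  have hδ2 : δ ≫ pr₂ = 𝟙 _ :=
    (yon S).map_injective (by rw [Functor.map_comp, hδ, sq.lift_snd, (yon S).map_id])
  have hδo : IsOpenImmersion δ.left :=
    isOpenImmersion_of_section_of_etale pr₁.left δ.left (by rw [← Over.comp_left, hδ1]; rfl)
  obtain ⟨m, hm⟩ := (yon S).map_surjective (sq.lift ((yon S).map f.hom.left)
    ((yon S).map f'.hom.left) (by rw [EtOver.w f, EtOver.w f']))
  have hm1 : m ≫ pr₁ = f.hom.left :=
    (yon S).map_injective (by rw [Functor.map_comp, hm, sq.lift_fst])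
  have hm2 : m ≫ pr₂ = f'.hom.left :=
    (yon S).map_injective (by rw [Functor.map_comp, hm, sq.lift_snd])
  -- the open subscheme where `f` and `f'` agree
  let O : E₁.obj.left.left.Opens := m.left ⁻¹ᵁ δ.left.opensRange
  let AO : Over S := Over.mk (O.ι ≫ E₁.obj.left.hom)
  let ι : AO ⟶ E₁.obj.left := Over.homMk O.ι rfl
  have hrange : Set.range (O.ι ≫ m.left) ⊆ Set.range δ.left := by
    rintro _ ⟨x, rfl⟩
    have hx : O.ι x ∈ (O : Set ↥E₁.obj.left.left) := by
      have := Set.mem_range_self (f := O.ι) x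
      rwa [Scheme.Opens.range_ι] at this
    rw [Scheme.Hom.comp_apply]
    exact hx
  have hh : IsOpenImmersion.lift δ.left (O.ι ≫ m.left) hrange ≫ δ.left = O.ι ≫ m.left :=
    IsOpenImmersion.lift_fac _ _ _
  have heq : ι ≫ f.hom.left = ι ≫ f'.hom.left := by
    ext
    change O.ι ≫ f.hom.left.left = O.ι ≫ f'.hom.left.left
    rw [← hm1, ← hm2, Over.comp_left, Over.comp_left, ← Category.assoc, ← Category.assoc, ← hh,
      Category.assoc, Category.assoc, ← Over.comp_left, ← Over.comp_left, hδ1, hδ2]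
  -- the lift of `u₁`
  have hum : u₁ ≫ m = u₂ ≫ δ := by
    apply (yon S).map_injective
    apply sq.hom_ext
    · rw [← Functor.map_comp, ← Functor.map_comp, Category.assoc, Category.assoc, hm1, hδ1, hf1,
        Category.comp_id]
    · rw [← Functor.map_comp, ← Functor.map_comp, Category.assoc, Category.assoc, hm2, hδ2, hf'1,
        Category.comp_id]
  have huml : u₁.left ≫ m.left = u₂.left ≫ δ.left := by
    rw [← Over.comp_left, ← Over.comp_left, hum]
  have hrange2 : Set.range u₁.left ⊆ Set.range O.ι := by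
    rw [Scheme.Opens.range_ι]
    rintro _ ⟨s, rfl⟩
    change m.left (u₁.left s) ∈ Set.range δ.left
    refine ⟨u₂.left s, ?_⟩
    rw [← Scheme.Hom.comp_apply, ← Scheme.Hom.comp_apply, huml]
  have hu₃l : IsOpenImmersion.lift O.ι u₁.left hrange2 ≫ O.ι = u₁.left :=
    IsOpenImmersion.lift_fac _ _ _
  let u₃ : p.pt ⟶ AO := Over.homMk (IsOpenImmersion.lift O.ι u₁.left hrange2) (by
    change IsOpenImmersion.lift O.ι u₁.left hrange2 ≫ O.ι ≫ E₁.obj.left.hom = p.pt.hom
    rw [← Category.assoc, hu₃l]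
    exact Over.w u₁)
  have hu₃ : u₃ ≫ ι = u₁ := by
    ext
    exact hu₃l
  have hι : Etale ι.left := (inferInstance : Etale O.ι)
  have hW : RepWith @Etale ((yon S).map ι ≫ E₁.obj.hom) :=
    (RepWith @Etale).comp_mem _ _ ((repWith_yon_map_iff _ ι).2 hι) E₁.property
  refine ⟨⟨EtOver.mk _ hW, ⟨u₃, ?_⟩⟩, ⟨EtOver.homMk ι rfl, Subtype.ext hu₃⟩, ?_⟩
  · change (yon S).map u₃ ≫ (yon S).map ι ≫ E₁.obj.hom = p.toHom
    rw [← Category.assoc, ← Functor.map_comp, hu₃]
    exact h₁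
  · apply Subtype.ext
    apply EtOver.hom_ext
    exact heq

/-- The etale neighbourhoods of a geometric point of an algebraic space form a cofiltered
category. -/
theorem isCofiltered_etNbhd (hX : IsAlgSpace X) (p : FieldPt X) (hp : p.IsGeometric) :
    IsCofiltered (EtNbhd p) :=
  { cone_objs := etNbhd_cone_objs p
    cone_maps := fun _ _ f f' => etNbhd_cone_maps p f f'
    nonempty := nonempty_etNbhd hX p hp }

end Groth.Agent.Lib.Helper3
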