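import Groth.Agent.Lib.Helper3.AlgSpQC5
import Mathlib.AlgebraicGeometry.Morphisms.QuasiSeparated

set_option autoImplicit false
universe u
open CategoryTheory CategoryTheory.Limits AlgebraicGeometry Opposite MorphismProperty

namespace Groth.Agent.Lib.Helper3

variable {S : Scheme.{u}}

open AlgSp

/-- The terminal sheaf has representable diagonal. -/
theorem representable_diag_terminal : Representable (Limits.diag (⊤_ (Sp S))) := by
  have : IsIso (Limits.diag (⊤_ (Sp S))) := by
    refine ⟨prod.fst, ?_, ?_⟩
    · simp only [Limits.diag, prod.lift_fst]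
    · apply Limits.prod.hom_ext <;> apply Subsingleton.elim
  exact Functor.relativelyRepresentable.of_isIso _ _

/-- Binary products of algebraic spaces are algebraic spaces. -/
theorem isAlgSpace_prod {X T : Sp S} (hX : IsAlgSpace X) (hT : IsAlgSpace T) :
    IsAlgSpace (X ⨯ T) :=
  isAlgSpace_of_isPullback representable_diag_terminal hX hT
    (IsPullback.of_hasBinaryProduct' (X := X) (Y := T))

/-- Over a quasi-separated base, the product of quasi-compact sheaves is quasi-compact. -/
theorem isQuasiCompactSp_prod [QuasiSeparatedSpace ↥S] {X T : Sp S} (hX : IsQuasiCompactSp X)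
    (hT : IsQuasiCompactSp T) : IsQuasiCompactSp (X ⨯ T) := by
  obtain ⟨U, p, hpe, hps, hU⟩ := hX
  obtain ⟨V, q, hqe, hqs, hV⟩ := hT
  refine ⟨U ⨯ V, prodComparison (yon S) U V ≫ prod.map p q,
    repWith_prodComparison_prod_map @Etale p q hpe hqe,
    repWith_prodComparison_prod_map @Surjective p q hps hqs, ?_⟩
  have : CompactSpace ↥U.left := hU
  have : CompactSpace ↥V.left := hV
  have : CompactSpace ↥(pullback U.hom V.hom) := inferInstance
  exact (Over.prodLeftIsoPullback U V).hom.homeomorph.symm.compactSpace

/-- Over a quasi-separated base, every morphism from a quasi-compact algebraic space to an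
algebraic space quasi-separated over the base is quasi-compact. -/
theorem isQuasiCompactMor_of_isQuasiCompactSp_of_isQuasiSeparatedSp [QuasiSeparatedSpace ↥S]
    {X Y : Sp S} (hX : IsAlgSpace X) (f : X ⟶ Y) (hXq : IsQuasiCompactSp X)
    (hYs : IsQuasiSeparatedSp Y) : IsQuasiCompactMor f := by
  intro T T' hT hqc k a b sq
  have sqD := isPullback_diag_of_isPullback sq
  have hl : RepWith @QuasiCompact (prod.lift a b) := MorphismProperty.of_isPullback sqD hYs
  have hl' := Groth.Agent.S9936.isQuasiCompactMor_of_repWith @QuasiCompact
    (fun k hk hB => by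
      have : QuasiCompact k := hk
      exact QuasiCompact.compactSpace_of_compactSpace k) _ hl
  exact hl' (isAlgSpace_prod hX hT) (isQuasiCompactSp_prod hXq hqc) (𝟙 _) _ _
    (IsPullback.of_id_fst)

end Groth.Agent.Lib.Helper3
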