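import Groth.Agent.Lib.Helper3.AlgSpHasAtMor
import Mathlib.AlgebraicGeometry.Properties

set_option autoImplicit false
universe u
open CategoryTheory CategoryTheory.Limits AlgebraicGeometry Opposite MorphismProperty

namespace Groth.Agent.Lib.Helper3

variable {S : Scheme.{u}}

open AlgSp

/-- For a surjective morphism `f : X ⟶ Y`, an atlas `U` of `X` and an etale chart `V` of `Y`,
there is a scheme `W` etale over `U` with a surjective morphism `W ⟶ V` covering `f`. -/
theorem exists_chart_surjective {X Y : Sp S} (hY : IsAlgSpace Y) (f : X ⟶ Y)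
    (hs : IsSurjectiveMor f) {U : Over S} (a : (yon S).obj U ⟶ X) (hae : RepWith @Etale a)
    (has : RepWith @Surjective a) {V : Over S} (b : (yon S).obj V ⟶ Y) (hbe : RepWith @Etale b) :
    ∃ (W : Over S) (c : W ⟶ U) (k : W ⟶ V), Etale c.left ∧ Surjective k.left ∧
      RepWith @Etale ((yon S).map c ≫ a) ∧ ((yon S).map c ≫ a) ≫ f = (yon S).map k ≫ b := by
  obtain ⟨W, u, k, hue, hus, hce, hcs, hk, hw⟩ :=
    exists_chart_over (IsAlgSpace.yon_obj U) hY (a ≫ f) b hbe
  obtain ⟨c, hc⟩ := (yon S).map_surjective (u ≫ pullback.fst (a ≫ f) b)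
  have hcet : Etale c.left := (repWith_yon_map_iff _ _).1 (hc ▸ hce)
  have hks : Surjective k.left := by
    refine ⟨fun v => ?_⟩
    obtain ⟨x, hx⟩ := hs (Points.map b (Points.schemeHomeo V v))
    obtain ⟨u₀, hu₀⟩ := exists_ofPt_eq a has x
    have hu₀' : Points.map a (Points.schemeHomeo U u₀) = x := by
      rw [← hu₀]; exact (Points.ofPt_eq_map_ofScheme a u₀).symm
    obtain ⟨z, hz1, hz2⟩ := Points.exists_of_isPullback
      (IsPullback.of_hasPullback (a ≫ f) b) (Points.schemeHomeo U u₀)
      (Points.schemeHomeo V v) (by rw [Points.map_comp, hu₀', hx])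
    obtain ⟨w, hw0⟩ := exists_ofPt_eq u hus z
    have hw0' : Points.map u (Points.schemeHomeo W w) = z := by
      rw [← hw0]; exact (Points.ofPt_eq_map_ofScheme u w).symm
    refine ⟨w, ?_⟩
    apply (Points.schemeHomeo V).injective
    rw [← Points.map_yon_map_apply, hk, Points.map_comp, hw0', hz2]
  refine ⟨W, c, k, hcet, hks, ?_, ?_⟩
  · rw [hc]
    exact MorphismProperty.comp_mem _ _ _ hce hae
  · rw [hc, Category.assoc]
    exact hw

/-- Reducedness descends along flat surjective morphisms of schemes. -/
theorem isReduced_of_flat_surjective {W V : Scheme.{u}} (h : W ⟶ V) [Flat h] [Surjective h]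
    [IsReduced W] : IsReduced V := by
  have : ∀ v : V, _root_.IsReduced (V.presheaf.stalk v) := by
    intro v
    obtain ⟨w, rfl⟩ := h.surjective v
    have h2 : (h.stalkMap w).hom.Flat := Flat.stalkMap h w
    have h3 : (h.stalkMap w).hom.FaithfullyFlat := by
      algebraize [(h.stalkMap w).hom]
      have : IsLocalHom (algebraMap (V.presheaf.stalk (h w)) (W.presheaf.stalk w)) := by
        rw [RingHom.algebraMap_toAlgebra]
        infer_instance
      exact Module.FaithfullyFlat.of_flat_of_isLocalHom
    exact isReduced_of_injective (h.stalkMap w).hom h3.injective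
  exact isReduced_of_isReduced_stalk V

end Groth.Agent.Lib.Helper3
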