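import Groth.Agent.Lib.Helper3.AlgSpQC2
import Groth.Agent.Lib.Helper3.AlgSpFibre

set_option autoImplicit false
universe u
open CategoryTheory CategoryTheory.Limits AlgebraicGeometry Opposite MorphismProperty

namespace Groth.Agent.Lib.Helper3

variable {S : Scheme.{u}}

open AlgSp

/-- Surjectivity on points is stable under base change. -/
theorem isSurjectiveMor_snd_of_isPullback {F G H P : Sp S} {f : F ⟶ G} {g : H ⟶ G} {fst : P ⟶ F}
    {snd : P ⟶ H} (sq : IsPullback fst snd f g) (hf : IsSurjectiveMor f) : IsSurjectiveMor snd := by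
  intro y
  obtain ⟨x, hx⟩ := hf (Points.map g y)
  obtain ⟨z, -, hz⟩ := Points.exists_of_isPullback sq x y hx
  exact ⟨z, hz⟩

theorem isSurjectiveMor_fst_of_isPullback {F G H P : Sp S} {f : F ⟶ G} {g : H ⟶ G} {fst : P ⟶ F}
    {snd : P ⟶ H} (sq : IsPullback fst snd f g) (hg : IsSurjectiveMor g) : IsSurjectiveMor fst :=
  isSurjectiveMor_snd_of_isPullback sq.flip hg

theorem isQuasiCompactSp_iff_compactSpace {F : Sp S} (hF : IsAlgSpace F) :
    IsQuasiCompactSp F ↔ CompactSpace (Points F) :=
  ⟨compactSpace_points_of_isQuasiCompactSp, fun _ => isQuasiCompactSp_of_compactSpace_points hF⟩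

/-- The target of a surjective morphism from a quasi-compact sheaf to an algebraic space is
quasi-compact. -/
theorem isQuasiCompactSp_of_isSurjectiveMor {F G : Sp S} (f : F ⟶ G) (hf : IsSurjectiveMor f)
    (hF : IsQuasiCompactSp F) (hG : IsAlgSpace G) : IsQuasiCompactSp G := by
  have hc : CompactSpace (Points F) := compactSpace_points_of_isQuasiCompactSp hF
  have : CompactSpace (Points G) := by
    refine ⟨?_⟩
    rw [← Function.Surjective.range_eq hf]
    exact isCompact_range (Points.continuous_map f)
  exact isQuasiCompactSp_of_compactSpace_points hG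

theorem isSurjectiveMor_comp {F G H : Sp S} {f : F ⟶ G} {g : G ⟶ H} (hf : IsSurjectiveMor f)
    (hg : IsSurjectiveMor g) : IsSurjectiveMor (f ≫ g) := by
  intro z
  obtain ⟨y, rfl⟩ := hg z
  obtain ⟨x, rfl⟩ := hf y
  exact ⟨x, Points.map_comp f g x⟩

/-- Quasi-compact morphisms are stable under base change (along maps of algebraic spaces). -/
theorem isQuasiCompactMor_of_isPullback {F G G' F' : Sp S} {f : F ⟶ G} {g : G' ⟶ G}
    {fst : F' ⟶ F} {f' : F' ⟶ G'} (sq : IsPullback fst f' f g) (hf : IsQuasiCompactMor f) :
    IsQuasiCompactMor f' := by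
  intro Z Z' hZ hqc k a b sq'
  exact hf hZ hqc (k ≫ g) (a ≫ fst) b (sq'.paste_horiz sq)

/-- Quasi-compact morphisms are stable under composition, provided the middle object is an
algebraic space and the target has representable diagonal (so that base changes of the middle
object stay algebraic spaces). -/
theorem isQuasiCompactMor_comp {F G H : Sp S} {f : F ⟶ G} {g : G ⟶ H} (hG : IsAlgSpace G)
    (hH : Representable (Limits.diag H)) (hf : IsQuasiCompactMor f) (hg : IsQuasiCompactMor g) :
    IsQuasiCompactMor (f ≫ g) := by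
  intro Z Z' hZ hqc k a b sq
  -- middle pullback
  have sqG := IsPullback.of_hasPullback g k
  have hG' : IsAlgSpace (pullback g k) := isAlgSpace_of_isPullback hH hG hZ sqG
  have hqG : IsQuasiCompactSp (pullback g k) := hg hZ hqc k _ _ sqG
  let l : Z' ⟶ pullback g k := pullback.lift (a ≫ f) b (by simpa only [Category.assoc] using sq.w)
  have sqL : IsPullback a l f (pullback.fst g k) := by
    refine IsPullback.of_bot ?_ (pullback.lift_fst _ _ _).symm sqG
    have : l ≫ pullback.snd g k = b := pullback.lift_snd _ _ _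
    rw [this]
    exact sq
  exact hf hG' hqG _ _ _ sqL

end Groth.Agent.Lib.Helper3
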