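import Groth.Agent.Lib.Helper3.AlgSpLocP4

set_option autoImplicit false
universe u
open CategoryTheory CategoryTheory.Limits AlgebraicGeometry Opposite MorphismProperty

namespace Groth.Agent.Lib.Helper3

variable {S : Scheme.{u}}

open AlgSp

theorem locP_mono {P Q : MorphismProperty Scheme.{u}} (h : P ≤ Q) {X Y : Sp S} {f : X ⟶ Y}
    (hf : LocP P f) : LocP Q f :=
  fun _ _ a b k ha hb w => h _ (hf a b k ha hb w)

theorem locP_inf {P Q : MorphismProperty Scheme.{u}} {X Y : Sp S} {f : X ⟶ Y}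
    (hP : LocP P f) (hQ : LocP Q f) : LocP (P ⊓ Q) f :=
  fun _ _ a b k ha hb w => ⟨hP a b k ha hb w, hQ a b k ha hb w⟩

/-- An etale morphism of sheaves is etale on all chart diagrams. -/
theorem locP_etale_of_isEtaleMor {X Y : Sp S} {f : X ⟶ Y} (hf : IsEtaleMor f) :
    LocP @Etale f := by
  intro U V a b h ha hb w
  exact etale_of_repWith_comp (a ≫ f) b (hf a ha) hb h w.symm

/-- For algebraic spaces, etale on chart diagrams implies etale. -/
theorem isEtaleMor_of_locP_etale {X Y : Sp S} (hX : IsAlgSpace X) (hY : IsAlgSpace Y) {f : X ⟶ Y}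
    (hf : LocP @Etale f) : IsEtaleMor f := by
  intro U φ hφ
  have h1 : LocP @Etale φ := locP_of_repWith isEtLocal_etale φ hφ
  have h2 : LocP @Etale (φ ≫ f) :=
    locP_comp isEtLocal_etale (IsAlgSpace.yon_obj U) hX hY φ f h1 hf
  exact repWith_of_locP isEtLocal_etale (IsAlgSpace.yon_obj U) hY (φ ≫ f)
    (hY.representable_from_yon _) h2

theorem isEtaleMor_iff_locP_etale {X Y : Sp S} (hX : IsAlgSpace X) (hY : IsAlgSpace Y)
    {f : X ⟶ Y} : IsEtaleMor f ↔ LocP @Etale f :=
  ⟨locP_etale_of_isEtaleMor, isEtaleMor_of_locP_etale hX hY⟩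

end Groth.Agent.Lib.Helper3
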