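import Groth.Agent.Lib.Helper3.AlgSpInj
import Groth.Agent.S9883
import Mathlib.AlgebraicGeometry.Morphisms.LocalFlatDescent
import Mathlib.CategoryTheory.Sites.LocallyBijective

set_option autoImplicit false
universe u
open CategoryTheory CategoryTheory.Limits AlgebraicGeometry Opposite MorphismProperty

namespace Groth.Agent.Lib.Helper3

theorem isPullback_comp_mono {D : Type*} [Category D] {P X Y Z Z' : D} {fst : P ⟶ X}
    {snd : P ⟶ Y} {f : X ⟶ Z} {g : Y ⟶ Z} (i : Z ⟶ Z') [Mono i]
    (h : IsPullback fst snd f g) : IsPullback fst snd (f ≫ i) (g ≫ i) := by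
  refine IsPullback.mk' ?_ ?_ ?_
  · rw [← Category.assoc, h.w, Category.assoc]
  · intro T φ φ' h1 h2
    exact h.hom_ext h1 h2
  · intro T a b hab
    have : a ≫ f = b ≫ g := by
      rw [← cancel_mono i]
      simpa only [Category.assoc] using hab
    exact ⟨h.lift a b this, h.lift_fst _ _ _, h.lift_snd _ _ _⟩

/-- A morphism of schemes to the spectrum of a field whose base change along itself is etale, is
etale (when the source is nonempty this uses fpqc descent along an affine open). -/
theorem etale_of_isPullback_self {k : Type u} [Field k] {U R : Scheme.{u}}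
    (φ₀ : U ⟶ Spec (CommRingCat.of k)) (a b : R ⟶ U) (sq : IsPullback a b φ₀ φ₀) [Etale b]
    (u₀ : ↥U) : Etale φ₀ := by
  let j := U.affineCover.f (U.affineCover.idx u₀)
  obtain ⟨x₀, hx₀⟩ := U.affineCover.covers u₀
  have hsurj : Surjective (j ≫ φ₀) := ⟨fun y => ⟨x₀, Subsingleton.elim _ _⟩⟩
  have hflat : Flat (j ≫ φ₀) := inferInstance
  have hqc : QuasiCompact (j ≫ φ₀) := inferInstance
  have sq1 := (IsPullback.of_hasPullback b j).flip
  have pasted := sq1.paste_vert sq.flip
  have hp₂ : Etale (pullback.snd b j) := inferInstance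
  exact of_isPullback_of_descendsAlong (P := @Etale)
    (Q := @Surjective ⊓ @Flat ⊓ @QuasiCompact) pasted ⟨⟨hsurj, hflat⟩, hqc⟩ hp₂

variable {S : Scheme.{u}}

open AlgSp

theorem isLocallyInjective_of_mono {F G : Sp S} (f : F ⟶ G) [Mono f] :
    Sheaf.IsLocallyInjective f := by
  rw [Sheaf.isLocallyInjective_iff_injective]
  intro X x y hxy
  obtain ⟨a, rfl⟩ := (J S).uliftYonedaEquiv.{u+1}.surjective x
  obtain ⟨b, rfl⟩ := (J S).uliftYonedaEquiv.{u+1}.surjective y
  congr 1
  rw [← cancel_mono f]
  apply (J S).uliftYonedaEquiv.{u+1}.injective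
  rw [(J S).uliftYonedaEquiv_comp.{u+1}, (J S).uliftYonedaEquiv_comp.{u+1}]
  exact hxy

/-- A monomorphism from an algebraic space with a point to the spectrum of a field is an
isomorphism. -/
theorem isIso_of_mono_to_field {Z : Sp S} (hZ : IsAlgSpace Z) {k : Type u} [Field k]
    (str : Spec (CommRingCat.of k) ⟶ S) (f : Z ⟶ (yon S).obj (Over.mk str)) [Mono f]
    (hne : Nonempty (Points Z)) : IsIso f := by
  obtain ⟨U, u, hue, hus⟩ := hZ.atlas
  obtain ⟨z⟩ := hne
  obtain ⟨w, -⟩ := surjective_map_of_repWith hus z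
  let u₀ : ↥U.left := (Points.schemeHomeo U).symm w
  have sqR := hue.rep.isPullback u
  have hsnd : Etale (hue.rep.snd u).left := hue.property_snd u
  obtain ⟨fst', hfst'⟩ := (yon S).map_surjective (hue.rep.fst u)
  rw [← hfst'] at sqR
  have sqR' := isPullback_comp_mono f sqR
  obtain ⟨φ, hφ⟩ := (yon S).map_surjective (u ≫ f)
  rw [← hφ] at sqR'
  have e : fst' ≫ φ = hue.rep.snd u ≫ φ := by
    apply (yon S).map_injective
    rw [Functor.map_comp, Functor.map_comp]
    exact sqR'.w
  have sqO : IsPullback fst' (hue.rep.snd u) φ φ := IsPullback.of_map (yon S) e sqR'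
  have sq3 : IsPullback fst'.left (hue.rep.snd u).left φ.left φ.left := sqO.map (Over.forget S)
  have hφe : Etale φ.left := etale_of_isPullback_self (k := k) φ.left _ _ sq3 u₀
  have hφs : Surjective φ.left := by
    refine ⟨fun y => ⟨u₀, ?_⟩⟩
    have : Subsingleton ↥(Over.mk str).left := by
      change Subsingleton ↥(Spec (CommRingCat.of k))
      infer_instance
    exact Subsingleton.elim _ _
  have hle : RepWith @Etale ((yon S).map φ) := (repWith_yon_map_iff _ φ).2 hφe
  have hls : RepWith @Surjective ((yon S).map φ) := (repWith_yon_map_iff _ φ).2 hφs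
  have hloc : Sheaf.IsLocallySurjective ((yon S).map φ) :=
    Groth.Agent.S9883.isLocallySurjective_of_etale_surjective _ hle hls
  have hlocf : Sheaf.IsLocallySurjective f := by
    rw [hφ] at hloc
    exact Presheaf.isLocallySurjective_of_isLocallySurjective_fac (J S)
      (f₁ := u.hom) (f₂ := f.hom) (f₃ := (u ≫ f).hom) rfl
  have hinj := isLocallyInjective_of_mono f
  exact (Sheaf.isLocallyBijective_iff_isIso f).1 ⟨hinj, hlocf⟩

end Groth.Agent.Lib.Helper3
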