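import Groth.Agent.Lib.Helper3.AlgSpUnram
import Groth.Agent.Lib.Helper3.AlgSpMonoField

set_option autoImplicit false
universe u
open CategoryTheory CategoryTheory.Limits AlgebraicGeometry Opposite MorphismProperty

namespace Groth.Agent.Lib.Helper3

variable {S : Scheme.{u}}

open AlgSp

/-- An etale universally injective morphism of algebraic spaces is a monomorphism. -/
theorem mono_of_isEtaleMor_of_isUnivInjectiveMor {X Y : Sp S} (hX : IsAlgSpace X)
    (hY : IsAlgSpace Y) (f : X ⟶ Y) (het : IsEtaleMor f) (hinj : IsUnivInjectiveMor f) :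
    Mono f := by
  have h1 : LocP (@LocallyOfFiniteType ⊓ @FormallyUnramified) f :=
    locP_mono (fun _ _ k hk => isEtLocal_unramified.etale_le k hk) (locP_etale_of_isEtaleMor het)
  have hΔ := repWith_isOpenImmersion_diagonal_of_locP_unramified hX hY f h1
  have hs := isSurjectiveMor_diagonal_of_isUnivInjectiveMor hinj
  have := isIso_of_repWith_isOpenImmersion_of_isSurjectiveMor _ hΔ hs
  exact (pullback.isIso_diagonal_iff f).1 this

/-- To prove `RepWith P f` it suffices to exhibit one represented pullback with `P` for every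
test scheme. -/
theorem repWith_of_forall (P : MorphismProperty Scheme.{u}) [P.RespectsIso] {F G : Sp S}
    (f : F ⟶ G)
    (h : ∀ (T : Over S) (k : (yon S).obj T ⟶ G), ∃ (V : Over S) (fst : (yon S).obj V ⟶ F)
      (snd : V ⟶ T), IsPullback fst ((yon S).map snd) f k ∧ P snd.left) : RepWith P f := by
  refine ⟨fun T k => ?_, fun T E k e ι sqE => ?_⟩
  · obtain ⟨V, fst, snd, sq, -⟩ := h T k
    exact ⟨V, snd, fst, sq⟩
  · obtain ⟨V, fst, snd, sq, hP⟩ := h T k
    exact prop_of_isPullback_of_isPullback P sq sqE hP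

/-- A monomorphism from an algebraic space to a scheme which is etale is (represented by) an open
immersion: the source is the open subscheme given by the image of an atlas. -/
theorem exists_isOpenImmersion_of_etale_mono {P₀ : Sp S} (hP₀ : IsAlgSpace P₀) {T : Over S}
    (pr : P₀ ⟶ (yon S).obj T) (het : IsEtaleMor pr) [Mono pr] :
    ∃ (V : Over S) (j : V ⟶ T) (e : (yon S).obj V ⟶ P₀), IsIso e ∧ e ≫ pr = (yon S).map j ∧
      IsOpenImmersion j.left := by
  obtain ⟨U, u, hue, hus⟩ := hP₀.atlas
  obtain ⟨a, ha⟩ := (yon S).map_surjective (u ≫ pr)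
  have hae : Etale a.left := by
    have := het u hue
    rw [← ha] at this
    exact (repWith_yon_map_iff _ _).1 this
  let T' : T.left.Opens := ⟨Set.range a.left, a.left.isOpenMap.isOpen_range⟩
  let V : Over S := Over.mk (T'.ι ≫ T.hom)
  let j : V ⟶ T := Over.homMk T'.ι rfl
  have hj : RepWith @IsOpenImmersion ((yon S).map j) :=
    (repWith_yon_map_iff _ _).2 (inferInstanceAs (IsOpenImmersion T'.ι))
  -- factor `pr` through `T'`
  have hrange : Set.range (Points.map pr) ⊆ Set.range (Points.map ((yon S).map j)) := by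
    rintro _ ⟨x, rfl⟩
    obtain ⟨w, rfl⟩ := surjective_map_of_repWith hus x
    obtain ⟨w', rfl⟩ := (Points.schemeHomeo U).surjective w
    rw [← Points.map_comp, ← ha, Points.map_yon_map_apply]
    have hmem : a.left w' ∈ T' := ⟨w', rfl⟩
    refine ⟨Points.schemeHomeo V ⟨a.left w', hmem⟩, ?_⟩
    rw [Points.map_yon_map_apply]
    rfl
  obtain ⟨φ, hφ⟩ := exists_factor_of_range_subset _ hj pr hrange
  have hφm : Mono φ := mono_of_mono_fac hφ
  -- `u ≫ φ` is etale surjective
  obtain ⟨a', ha'⟩ := (yon S).map_surjective (u ≫ φ)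
  have haa : a' ≫ j = a := by
    apply (yon S).map_injective
    rw [Functor.map_comp, ha', Category.assoc, hφ, ha]
  have haa' : a'.left ≫ T'.ι = a.left := by
    rw [← haa]; rfl
  have ha'e : Etale a'.left := by
    have : Etale (a'.left ≫ T'.ι) := by rw [haa']; exact hae
    exact MorphismProperty.of_postcomp (W := @Etale) (W' := @IsOpenImmersion) a'.left T'.ι
      inferInstance this
  have ha's : Surjective a'.left := by
    refine ⟨fun y => ?_⟩
    obtain ⟨w, hw⟩ := y.2
    refine ⟨w, ?_⟩
    apply T'.ι.isOpenEmbedding.injective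
    rw [← Scheme.Hom.comp_apply, haa']
    exact hw
  have hls : Sheaf.IsLocallySurjective ((yon S).map a') :=
    Groth.Agent.S9883.isLocallySurjective_of_etale_surjective _
      ((repWith_yon_map_iff _ _).2 ha'e) ((repWith_yon_map_iff _ _).2 ha's)
  have hφs : Sheaf.IsLocallySurjective φ := by
    rw [ha'] at hls
    exact Presheaf.isLocallySurjective_of_isLocallySurjective_fac (J S) (f₁ := u.hom)
      (f₂ := φ.hom) (f₃ := (u ≫ φ).hom) rfl
  have hφi : IsIso φ :=
    (Sheaf.isLocallyBijective_iff_isIso φ).1 ⟨isLocallyInjective_of_mono φ, hφs⟩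
  refine ⟨V, j, inv φ, inferInstance, ?_, inferInstanceAs (IsOpenImmersion T'.ι)⟩
  rw [← hφ, IsIso.inv_hom_id_assoc]

/-- Base change of an etale morphism of algebraic spaces is etale. -/
theorem isEtaleMor_of_isPullback {X Y Y' X' : Sp S} (hX : IsAlgSpace X) (hY : IsAlgSpace Y)
    (hY' : IsAlgSpace Y') (hX' : IsAlgSpace X') (f : X ⟶ Y) (g : Y' ⟶ Y) (fst : X' ⟶ X)
    (f' : X' ⟶ Y') (sq : IsPullback fst f' f g) (hf : IsEtaleMor f) : IsEtaleMor f' := by
  rw [isEtaleMor_iff_locP_etale hX' hY']
  exact locP_of_isPullback isEtLocal_etale hX hY hY' hX' f g fst f' sq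
    ((isEtaleMor_iff_locP_etale hX hY).1 hf)

/-- An etale monomorphism of algebraic spaces is an open immersion. -/
theorem repWith_isOpenImmersion_of_etale_mono {X Y : Sp S} (hX : IsAlgSpace X) (hY : IsAlgSpace Y)
    (f : X ⟶ Y) (het : IsEtaleMor f) [Mono f] : RepWith @IsOpenImmersion f := by
  refine repWith_of_forall _ f fun T k => ?_
  have sq := IsPullback.of_hasPullback f k
  have hP₀ : IsAlgSpace (pullback f k) := isAlgSpace_of_isPullback' hY hX (IsAlgSpace.yon_obj T) sq
  have hpr : IsEtaleMor (pullback.snd f k) :=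
    isEtaleMor_of_isPullback hX hY (IsAlgSpace.yon_obj T) hP₀ f k _ _ sq het
  obtain ⟨V, j, e, he, hej, hj⟩ := exists_isOpenImmersion_of_etale_mono hP₀ _ hpr
  refine ⟨V, e ≫ pullback.fst f k, j, ?_, hj⟩
  have h1 : IsPullback e ((yon S).map j) (pullback.snd f k) (𝟙 _) :=
    IsPullback.of_horiz_isIso ⟨by rw [hej, Category.comp_id]⟩
  have := h1.paste_horiz sq
  rwa [Category.id_comp] at this

/-- An etale universally injective morphism of algebraic spaces is an open immersion. -/
theorem repWith_isOpenImmersion_of_etale_univInjective {X Y : Sp S} (hX : IsAlgSpace X)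
    (hY : IsAlgSpace Y) (f : X ⟶ Y) (het : IsEtaleMor f) (hinj : IsUnivInjectiveMor f) :
    RepWith @IsOpenImmersion f :=
  have := mono_of_isEtaleMor_of_isUnivInjectiveMor hX hY f het hinj
  repWith_isOpenImmersion_of_etale_mono hX hY f het

end Groth.Agent.Lib.Helper3
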