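import Groth.Agent.Lib.Helper3.AlgSpLocSrc2
import Groth.Agent.Lib.Helper3.AlgSpEtMono

set_option autoImplicit false
universe u
open CategoryTheory CategoryTheory.Limits AlgebraicGeometry Opposite MorphismProperty

namespace Groth.Agent.Lib.Helper3

variable {S : Scheme.{u}}

open AlgSp

/-- Covering sieves of the big fppf site are jointly surjective on underlying points. -/
theorem exists_mem_sieve_of_mem_J {T : Over S} (R : Sieve T) (hR : R ∈ AlgSp.J S T)
    (t : ↥T.left) : ∃ (T' : Over S) (g : T' ⟶ T) (t' : ↥T'.left), R g ∧ g.left t' = t := by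
  change R ∈ (Scheme.fppfTopology.over S) T at hR
  have : Scheme.fppfPrecoverage.{u}.HasIsos :=
    ⟨fun f _ => f.singleton_mem_fppfPrecoverage⟩
  have : Scheme.fppfPrecoverage.{u}.HasPullbacks := by
    unfold Scheme.fppfPrecoverage; infer_instance
  rw [GrothendieckTopology.mem_over_iff,
    Precoverage.mem_toGrothendieck_iff_of_isStableUnderComposition] at hR
  obtain ⟨R₀, hR₀, hle⟩ := hR
  have hjs : R₀ ∈ Scheme.jointlySurjectivePrecoverage T.left := hR₀.1
  rw [Presieve.mem_comap_jointlySurjectivePrecoverage_iff] at hjs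
  obtain ⟨Y, g₀, hg₀, t', ht'⟩ := hjs t
  have h1 := hle _ _ hg₀
  rw [Sieve.overEquiv_iff] at h1
  exact ⟨_, _, t', h1, ht'⟩

/-- A square of sheaves is a pullback square as soon as it is so on sections. -/
theorem isPullback_of_sections {A B C D : Sp S} (t : A ⟶ B) (l : A ⟶ C) (r : B ⟶ D) (b : C ⟶ D)
    (w : t ≫ r = l ≫ b)
    (hinj : ∀ (V : (Over S)ᵒᵖ) (x y : A.obj.obj V), t.hom.app V x = t.hom.app V y →
      l.hom.app V x = l.hom.app V y → x = y)
    (hex : ∀ (V : (Over S)ᵒᵖ) (x₂ : B.obj.obj V) (x₃ : C.obj.obj V),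
      r.hom.app V x₂ = b.hom.app V x₃ → ∃ x₁, t.hom.app V x₁ = x₂ ∧ l.hom.app V x₁ = x₃) :
    IsPullback t l r b := by
  refine IsPullback.of_map (sheafToPresheaf _ _) w ?_
  refine IsPullback.of_forall_isPullback_app fun V => ?_
  rw [Types.isPullback_iff]
  refine ⟨?_, fun x y h => hinj V x y h.1 h.2, fun x₂ x₃ h => hex V x₂ x₃ h⟩
  have := congrArg (fun φ => φ.hom.app V) w
  exact this

/-- The subfunctor of `X` of sections all of whose points land in `W`. -/
def openSubfunctor (X : Sp S) (W : Set (Points X)) : Subfunctor X.obj where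
  obj T := {x | ∀ t : ↥T.unop.left, Points.ofPt ((AlgSp.J S).uliftYonedaEquiv.{u+1}.symm x) t ∈ W}
  map := by
    intro T T' φ x hx t'
    change Points.ofPt ((AlgSp.J S).uliftYonedaEquiv.{u+1}.symm (X.obj.map φ x)) t' ∈ W
    rw [(AlgSp.J S).uliftYonedaEquiv_symm_map, Points.ofPt_yon_map_comp]
    exact hx _

theorem mem_openSubfunctor_iff (X : Sp S) (W : Set (Points X)) {T : Over S}
    (g : (yon S).obj T ⟶ X) :
    (AlgSp.J S).uliftYonedaEquiv.{u+1} g ∈ (openSubfunctor X W).obj (op T) ↔
      ∀ t : ↥T.left, Points.ofPt g t ∈ W := by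
  change (∀ t : ↥T.left, Points.ofPt ((AlgSp.J S).uliftYonedaEquiv.{u+1}.symm
    ((AlgSp.J S).uliftYonedaEquiv.{u+1} g)) t ∈ W) ↔ _
  rw [Equiv.symm_apply_apply]

theorem openSubfunctor_isSheaf (X : Sp S) (W : Set (Points X)) :
    Presheaf.IsSheaf (AlgSp.J S) (openSubfunctor X W).toFunctor := by
  rw [isSheaf_iff_isSheaf_of_type]
  rw [Subfunctor.isSheaf_iff _ ((isSheaf_iff_isSheaf_of_type _ _).1 X.property)]
  intro U s hs t
  obtain ⟨T', g, t', hg, rfl⟩ := exists_mem_sieve_of_mem_J _ hs t
  have : X.obj.map g.op s ∈ (openSubfunctor X W).obj (op T') := hg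
  have := this t'
  rw [(AlgSp.J S).uliftYonedaEquiv_symm_map, Points.ofPt_yon_map_comp] at this
  exact this

/-- The subsheaf of `X` of sections all of whose points land in `W`. -/
def openSub (X : Sp S) (W : Set (Points X)) : Sp S :=
  ⟨(openSubfunctor X W).toFunctor, openSubfunctor_isSheaf X W⟩

/-- The inclusion of the subsheaf `openSub X W`. -/
def openSubι (X : Sp S) (W : Set (Points X)) : openSub X W ⟶ X := ⟨(openSubfunctor X W).ι⟩

theorem openSubι_app_injective (X : Sp S) (W : Set (Points X)) (V : (Over S)ᵒᵖ) :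
    Function.Injective ((openSubι X W).hom.app V) := fun _ _ h => Subtype.ext h

instance (X : Sp S) (W : Set (Points X)) : Mono (openSubι X W) :=
  (sheafToPresheaf _ _).mono_of_mono_map (inferInstanceAs (Mono (openSubfunctor X W).ι))

/-- A morphism factors through `openSub X W` when all its sections land in the subfunctor. -/
def openSubLift {X : Sp S} {W : Set (Points X)} {F : Sp S} (f : F ⟶ X)
    (h : ∀ (V : (Over S)ᵒᵖ) (x : F.obj.obj V), f.hom.app V x ∈ (openSubfunctor X W).obj V) :
    F ⟶ openSub X W :=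
  ⟨Subfunctor.lift f.hom (by rintro V _ ⟨x, rfl⟩; exact h V x)⟩

@[simp]
theorem openSubLift_ι {X : Sp S} {W : Set (Points X)} {F : Sp S} (f : F ⟶ X)
    (h : ∀ (V : (Over S)ᵒᵖ) (x : F.obj.obj V), f.hom.app V x ∈ (openSubfunctor X W).obj V) :
    openSubLift f h ≫ openSubι X W = f := rfl

theorem app_mem_openSubfunctor_iff {X : Sp S} {W : Set (Points X)} {T : Over S}
    (g : (yon S).obj T ⟶ X) (V : Over S) (φ : V ⟶ T) :
    g.hom.app (op V) ⟨φ⟩ ∈ (openSubfunctor X W).obj (op V) ↔
      ∀ v : ↥V.left, Points.ofPt g (φ.left v) ∈ W := by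
  rw [← (AlgSp.J S).map_uliftYonedaEquiv.{u+1}, (AlgSp.J S).uliftYonedaEquiv_naturality.{u+1},
    mem_openSubfunctor_iff]
  simp only [Points.ofPt_yon_map_comp]

theorem app_mem_openSubfunctor_of_forall {X : Sp S} {W : Set (Points X)} {T : Over S}
    (g : (yon S).obj T ⟶ X) (h : ∀ t, Points.ofPt g t ∈ W) (V : (Over S)ᵒᵖ)
    (x : ((yon S).obj T).obj.obj V) : g.hom.app V x ∈ (openSubfunctor X W).obj V := by
  induction V using Opposite.rec with
  | op V =>
    obtain ⟨φ⟩ := x
    exact (app_mem_openSubfunctor_iff g V φ).2 fun v => h _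

/-- The pullback of `openSub X W ⟶ X` along `k : h_T ⟶ X` is the open subscheme `|k|⁻¹ W`. -/
theorem exists_isPullback_openSubι (X : Sp S) (W : Set (Points X)) (hW : IsOpen W) {T : Over S}
    (k : (yon S).obj T ⟶ X) :
    ∃ (V : Over S) (fst : (yon S).obj V ⟶ openSub X W) (snd : V ⟶ T),
      IsPullback fst ((yon S).map snd) (openSubι X W) k ∧ IsOpenImmersion snd.left ∧
      Set.range snd.left = Points.ofPt k ⁻¹' W := by
  let O : T.left.Opens := ⟨Points.ofPt k ⁻¹' W, hW.preimage (Points.continuous_ofPt k)⟩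
  let V : Over S := Over.mk (O.ι ≫ T.hom)
  let i : V ⟶ T := Over.homMk O.ι rfl
  have hi : ∀ v : ↥V.left, Points.ofPt ((yon S).map i ≫ k) v ∈ W := by
    intro v
    rw [Points.ofPt_yon_map_comp]
    have : i.left v ∈ O := by
      change O.ι v ∈ O
      exact v.2
    exact this
  refine ⟨V, openSubLift ((yon S).map i ≫ k) (app_mem_openSubfunctor_of_forall _ hi), i, ?_,
    inferInstanceAs (IsOpenImmersion O.ι), ?_⟩
  · refine isPullback_of_sections _ _ _ _ (openSubLift_ι _ _) ?_ ?_
    · intro V' x y _ h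
      induction V' using Opposite.rec with
      | op V' =>
        obtain ⟨φ⟩ := x
        obtain ⟨ψ⟩ := y
        have h' : φ ≫ i = ψ ≫ i := congrArg ULift.down h
        have h'' : φ.left ≫ O.ι = ψ.left ≫ O.ι := congrArg CommaMorphism.left h'
        congr 1
        apply Over.OverMorphism.ext
        exact (cancel_mono O.ι).1 h''
    · intro V' x₂ x₃ h
      induction V' using Opposite.rec with
      | op V' =>
        obtain ⟨ψ⟩ := x₃
        have h2 : k.hom.app (op V') ⟨ψ⟩ ∈ (openSubfunctor X W).obj (op V') := by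
          rw [← h]
          exact x₂.2
        rw [app_mem_openSubfunctor_iff] at h2
        have hr : Set.range ψ.left ⊆ Set.range O.ι := by
          rintro _ ⟨v, rfl⟩
          rw [Scheme.Opens.range_ι]
          exact h2 v
        let φ₀ : V'.left ⟶ V.left := IsOpenImmersion.lift O.ι ψ.left hr
        have hφ₀ : φ₀ ≫ O.ι = ψ.left := IsOpenImmersion.lift_fac _ _ _
        let φ : V' ⟶ V := Over.homMk φ₀ (by
          change φ₀ ≫ O.ι ≫ T.hom = V'.hom
          rw [← Category.assoc, hφ₀]
          exact Over.w ψ)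
        have hφ : φ ≫ i = ψ := Over.OverMorphism.ext hφ₀
        refine ⟨⟨φ⟩, ?_, ?_⟩
        · apply openSubι_app_injective
          rw [h]
          change ((yon S).map i ≫ k).hom.app (op V') ⟨φ⟩ = _
          change k.hom.app (op V') ⟨φ ≫ i⟩ = _
          rw [hφ]
        · change (⟨φ ≫ i⟩ : ULift _) = _
          rw [hφ]
  · change Set.range O.ι = _
    rw [Scheme.Opens.range_ι]
    rfl

theorem repWith_isOpenImmersion_openSubι (X : Sp S) (W : Set (Points X)) (hW : IsOpen W) :
    RepWith @IsOpenImmersion (openSubι X W) := by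
  refine repWith_of_forall _ _ fun T k => ?_
  obtain ⟨V, fst, snd, sq, h, -⟩ := exists_isPullback_openSubι X W hW k
  exact ⟨V, fst, snd, sq, h⟩

/-- The source of a representable monomorphism into an algebraic space is an algebraic space. -/
theorem isAlgSpace_of_mono_representable {X' X : Sp S} (hX : IsAlgSpace X) (j : X' ⟶ X) [Mono j]
    (hj : Representable j) : IsAlgSpace X' := by
  refine ⟨representable_diag_of_jointly_mono (fst := j) (snd := j)
    (fun φ φ' h _ => (cancel_mono j).1 h) hX.diag hX.diag, ?_⟩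
  obtain ⟨U, p, hpe, hps⟩ := hX.atlas
  obtain ⟨U', snd, fst, sq⟩ := hj p
  exact ⟨U', fst, MorphismProperty.of_isPullback sq.flip hpe,
    MorphismProperty.of_isPullback sq.flip hps⟩

theorem isAlgSpace_openSub {X : Sp S} (hX : IsAlgSpace X) (W : Set (Points X)) (hW : IsOpen W) :
    IsAlgSpace (openSub X W) :=
  isAlgSpace_of_mono_representable hX (openSubι X W) (repWith_isOpenImmersion_openSubι X W hW).1

theorem range_map_openSubι (X : Sp S) (W : Set (Points X)) :
    Set.range (Points.map (openSubι X W)) = W := by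
  apply Set.Subset.antisymm
  · rintro _ ⟨y, rfl⟩
    obtain ⟨K, _, str, b, rfl⟩ := Points.exists_hom y
    rw [Points.map_mk_fieldPtOfHom, S9906.mk_fieldPtOfHom_eq_ofPt]
    have h1 : (b ≫ openSubι X W).hom.app (op (Over.mk str)) ⟨𝟙 _⟩ ∈
        (openSubfunctor X W).obj (op (Over.mk str)) :=
      (b.hom.app (op (Over.mk str)) ⟨𝟙 _⟩).2
    rw [app_mem_openSubfunctor_iff] at h1
    exact h1 _
  · intro x hx
    obtain ⟨K, _, str, a, rfl⟩ := Points.exists_hom x
    rw [S9906.mk_fieldPtOfHom_eq_ofPt] at hx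
    have h : ∀ t : ↥(Over.mk str).left, Points.ofPt a t ∈ W := by
      intro t
      have : Subsingleton ↥(Over.mk str).left := by
        change Subsingleton ↥(Spec (CommRingCat.of K))
        infer_instance
      have : t = IsLocalRing.closedPoint K := Subsingleton.elim _ _
      rw [this]
      exact hx
    refine ⟨Points.mk (fieldPtOfHom K str (openSubLift a (app_mem_openSubfunctor_of_forall a h))), ?_⟩
    rw [Points.map_mk_fieldPtOfHom, openSubLift_ι]

end Groth.Agent.Lib.Helper3
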