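import Mathlib
import Groth.Agent.Lib.Helper3.AlgSpLargestOpen
import Groth.Agent.Lib.Helper3.AlgSpOpenSub
import Groth.Agent.Lib.Helper3.AlgSpChartPts
set_option autoImplicit false
universe u
open CategoryTheory CategoryTheory.Limits AlgebraicGeometry TopologicalSpace Opposite

namespace Groth.Agent.Lib.Helper3

open AlgSp Functor.relativelyRepresentable

variable {S : Scheme.{u}}

/-- A jointly surjective family of open immersions generates a covering sieve of the big fppf
site. -/
theorem generate_ofArrows_mem_J {T : Over S} {κ : Type*} (P : κ → Over S) (g : ∀ i, P i ⟶ T)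
    (hopen : ∀ i, IsOpenImmersion (g i).left)
    (hsurj : ∀ t : ↥T.left, ∃ i, t ∈ Set.range (g i).left) :
    Sieve.generate (Presieve.ofArrows P g) ∈ AlgSp.J S T := by
  change _ ∈ (Scheme.fppfTopology.over S) T
  rw [GrothendieckTopology.mem_over_iff]
  have h0 : Presieve.ofArrows (fun i => (P i).left) (fun i => (g i).left) ∈
      Scheme.fppfPrecoverage T.left := by
    unfold Scheme.fppfPrecoverage
    rw [Scheme.ofArrows_mem_precoverage_iff]
    exact ⟨hsurj, fun i => ⟨inferInstance, inferInstance⟩⟩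
  refine GrothendieckTopology.superset_covering _ ?_
    (Precoverage.generate_mem_toGrothendieck h0)
  rw [Sieve.generate_le_iff]
  rintro W _ ⟨i⟩
  rw [Sieve.overEquiv_iff]
  have e : (Over.homMk (g i).left : Over.mk ((g i).left ≫ T.hom) ⟶ T) =
      (Over.isoMk (Iso.refl _) (by simp) : Over.mk ((g i).left ≫ T.hom) ≅ P i).hom ≫ g i := by
    ext; simp
  rw [e]
  exact Sieve.downward_closed _ (Sieve.le_generate _ _ _ (Presieve.ofArrows.mk i)) _

namespace ZarGlue

variable {F : Sp S} {ι : Type u} {U : ι → Over S}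
  (a : ∀ i, (yon S).obj (U i) ⟶ F) (ha : ∀ i, RepWith @IsOpenImmersion (a i))

include ha in
theorem mono_a (i : ι) : Mono (a i) := mono_of_repWith_isOpenImmersion (a i) (ha i)

theorem fst'_self_eq_snd (i : ι) : (ha i).rep.fst' (a i) = (ha i).rep.snd (a i) := by
  have := mono_a a ha i
  apply (yon S).map_injective
  rw [← cancel_mono (a i), ((ha i).rep.isPullback' (a i)).w]

theorem isIso_fst'_self (i : ι) : IsIso ((ha i).rep.fst' (a i)) := by
  have := mono_a a ha i
  have := ((ha i).rep.isPullback' (a i)).isIso_fst_of_mono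
  exact (Functor.FullyFaithful.ofFullyFaithful (yon S)).isIso_of_isIso_map _

theorem isOpenImmersion_fst' (i j : ι) : IsOpenImmersion ((ha i).rep.fst' (a j)).left :=
  (ha j).property _ _ _ ((ha i).1.isPullback' (a j)).flip

set_option backward.isDefEq.respectTransparency false in
/-- The glue data in `Over S`. -/
noncomputable def glueDataOver : CategoryTheory.GlueData (Over S) where
  J := ι
  U := U
  V := fun (i, j) ↦ (ha i).rep.pullback (a j)
  f i j := (ha i).rep.fst' (a j)
  f_mono i j := by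
    have := isOpenImmersion_fst' a ha i j
    have : Mono ((Over.forget S).map ((ha i).rep.fst' (a j))) :=
      inferInstanceAs (Mono ((ha i).rep.fst' (a j)).left)
    exact (Over.forget S).mono_of_mono_map this
  f_id i := isIso_fst'_self a ha i
  t i j := (ha i).rep.symmetry (ha j).rep
  t_id i := by
    apply (ha i).rep.hom_ext' <;> simp [fst'_self_eq_snd a ha i]
  t' i j k := lift₃ _ _ _ (pullback₃.p₂ _ _ _) (pullback₃.p₃ _ _ _) (pullback₃.p₁ _ _ _)
    (by simp) (by simp)
  t_fac i j k := (ha j).rep.hom_ext' (by simp) (by simp)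
  cocycle i j k := pullback₃.hom_ext (by simp) (by simp) (by simp)

/-- The glue data of schemes obtained by forgetting the structure morphisms. -/
noncomputable def glueData : Scheme.GlueData where
  toGlueData := (glueDataOver a ha).mapGlueData (Over.forget S)
  f_open i j := isOpenImmersion_fst' a ha i j

/-- The structure morphism of the glued scheme. -/
noncomputable def gluedHom : (glueData a ha).glued ⟶ S :=
  Multicoequalizer.desc (glueData a ha).diagram S (fun i => (U i).hom) (by
    rintro ⟨i, j⟩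
    have h1 : ((glueDataOver a ha).f i j).left ≫ (U i).hom = ((glueDataOver a ha).V (i, j)).hom :=
      Over.w _
    have h2 : ((glueDataOver a ha).f j i).left ≫ (U j).hom = ((glueDataOver a ha).V (j, i)).hom :=
      Over.w _
    have h3 : ((glueDataOver a ha).t i j).left ≫ ((glueDataOver a ha).V (j, i)).hom =
      ((glueDataOver a ha).V (i, j)).hom := Over.w _
    change ((glueDataOver a ha).f i j).left ≫ (U i).hom =
      (((glueDataOver a ha).t i j).left ≫ ((glueDataOver a ha).f j i).left) ≫ (U j).hom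
    rw [Category.assoc, h1, h2, h3])

/-- The glued scheme as an object over `S`. -/
noncomputable def glued : Over S := Over.mk (gluedHom a ha)

theorem ι_gluedHom (i : ι) : (glueData a ha).ι i ≫ gluedHom a ha = (U i).hom :=
  Multicoequalizer.π_desc _ _ _ _ _

/-- The inclusion of a chart into the glued scheme. -/
noncomputable def toGlued (i : ι) : U i ⟶ glued a ha :=
  Over.homMk ((glueData a ha).ι i) (ι_gluedHom a ha i)

instance (i : ι) : IsOpenImmersion (toGlued a ha i).left :=
  inferInstanceAs (IsOpenImmersion ((glueData a ha).ι i))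

theorem fst'_toGlued (i j : ι) :
    (ha i).rep.fst' (a j) ≫ toGlued a ha i = (ha i).rep.snd (a j) ≫ toGlued a ha j := by
  ext
  have h := (glueData a ha).glue_condition i j
  have h1 : (glueData a ha).t i j ≫ (glueData a ha).f j i = ((ha i).rep.snd (a j)).left := by
    change ((ha i).rep.symmetry (ha j).rep).left ≫ ((ha j).rep.fst' (a i)).left = _
    rw [← Over.comp_left, symmetry_fst]
  rw [← Category.assoc, h1] at h
  exact h.symm

theorem exists_lift_of_toGlued_eq {Z : Over S} {i j : ι} (gi : Z ⟶ U i) (gj : Z ⟶ U j)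
    (h : gi ≫ toGlued a ha i = gj ≫ toGlued a ha j) :
    ∃ φ : Z ⟶ (ha i).rep.pullback (a j),
      φ ≫ (ha i).rep.fst' (a j) = gi ∧ φ ≫ (ha i).rep.snd (a j) = gj := by
  have h' : gi.left ≫ (glueData a ha).ι i = gj.left ≫ (glueData a ha).ι j :=
    congrArg (fun k => k.left) h
  obtain ⟨φ0, h1, h2⟩ := PullbackCone.IsLimit.lift' ((glueData a ha).vPullbackConeIsLimit i j)
    gi.left gj.left h'
  obtain ⟨φ, hφ⟩ : ∃ φ : Z.left ⟶ ((ha i).rep.pullback (a j)).left, φ = φ0 := ⟨φ0, rfl⟩
  subst hφ
  have h1' : φ ≫ ((ha i).rep.fst' (a j)).left = gi.left := h1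
  have h2' : φ ≫ ((ha i).rep.snd (a j)).left = gj.left := by
    have e : (glueData a ha).t i j ≫ (glueData a ha).f j i = ((ha i).rep.snd (a j)).left := by
      change ((ha i).rep.symmetry (ha j).rep).left ≫ ((ha j).rep.fst' (a i)).left = _
      rw [← Over.comp_left, symmetry_fst]
    rw [← e]; exact h2
  refine ⟨Over.homMk φ ?_, ?_, ?_⟩
  · rw [← Over.w ((ha i).rep.fst' (a j)), ← Category.assoc, h1', Over.w]
  · ext; exact h1'
  · ext; exact h2'

theorem yon_map_comp_eq_of_toGlued_eq {Z : Over S} {i j : ι} (gi : Z ⟶ U i) (gj : Z ⟶ U j)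
    (h : gi ≫ toGlued a ha i = gj ≫ toGlued a ha j) :
    (yon S).map gi ≫ a i = (yon S).map gj ≫ a j := by
  obtain ⟨φ, rfl, rfl⟩ := exists_lift_of_toGlued_eq a ha gi gj h
  rw [Functor.map_comp, Functor.map_comp, Category.assoc, Category.assoc,
    ((ha i).rep.isPullback' (a j)).w]

theorem toGlued_jointly_surjective (t : ↥(glued a ha).left) :
    ∃ i, t ∈ Set.range (toGlued a ha i).left := by
  obtain ⟨i, y, hy⟩ := (glueData a ha).ι_jointly_surjective t
  exact ⟨i, y, hy⟩

theorem toGlued_mem_J :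
    Sieve.generate (Presieve.ofArrows U (toGlued a ha)) ∈ AlgSp.J S (glued a ha) :=
  generate_ofArrows_mem_J U (toGlued a ha) (fun i => inferInstance)
    (toGlued_jointly_surjective a ha)

theorem exists_desc : ∃ b : (yon S).obj (glued a ha) ⟶ F,
    ∀ i, (yon S).map (toGlued a ha i) ≫ b = a i := by
  have hF : Presieve.IsSheaf (AlgSp.J S) F.obj := (isSheaf_iff_isSheaf_of_type _ _).1 F.property
  have h1 := (Presieve.isSheafFor_iff_generate _).2 (hF _ (toGlued_mem_J a ha))
  rw [Presieve.isSheafFor_arrows_iff] at h1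
  obtain ⟨s, hs, -⟩ := h1 (fun i => (AlgSp.J S).uliftYonedaEquiv.{u+1} (a i)) (by
    intro i j Z gi gj h
    rw [(AlgSp.J S).uliftYonedaEquiv_naturality, (AlgSp.J S).uliftYonedaEquiv_naturality]
    exact congrArg _ (yon_map_comp_eq_of_toGlued_eq a ha gi gj h))
  refine ⟨(AlgSp.J S).uliftYonedaEquiv.{u+1}.symm s, fun i => ?_⟩
  apply (AlgSp.J S).uliftYonedaEquiv.{u+1}.injective
  rw [← hs i, (AlgSp.J S).uliftYonedaEquiv_symm_naturality_left, Equiv.apply_symm_apply]

variable {a ha}

theorem eq_of_comp_desc_eq (b : (yon S).obj (glued a ha) ⟶ F)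
    (hb : ∀ i, (yon S).map (toGlued a ha i) ≫ b = a i) {T : Over S} (α β : T ⟶ glued a ha)
    (h : (yon S).map α ≫ b = (yon S).map β ≫ b) : α = β := by
  ext1
  refine Scheme.hom_ext_of_forall _ _ fun t => ?_
  obtain ⟨i, hi⟩ := toGlued_jointly_surjective a ha (α.left t)
  obtain ⟨j, hj⟩ := toGlued_jointly_surjective a ha (β.left t)
  let W : T.left.Opens := α.left ⁻¹ᵁ (toGlued a ha i).left.opensRange ⊓
    β.left ⁻¹ᵁ (toGlued a ha j).left.opensRange
  refine ⟨W, ⟨hi, hj⟩, ?_⟩
  have hWi : Set.range (W.ι ≫ α.left) ⊆ Set.range (toGlued a ha i).left := by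
    rintro _ ⟨w, rfl⟩
    exact w.2.1
  have hWj : Set.range (W.ι ≫ β.left) ⊆ Set.range (toGlued a ha j).left := by
    rintro _ ⟨w, rfl⟩
    exact w.2.2
  let Z : Over S := Over.mk (W.ι ≫ T.hom)
  let wι : Z ⟶ T := Over.homMk W.ι rfl
  let gi : Z ⟶ U i := Over.homMk (IsOpenImmersion.lift (toGlued a ha i).left (W.ι ≫ α.left) hWi) (by
    have := Over.w (toGlued a ha i)
    rw [← this, ← Category.assoc, IsOpenImmersion.lift_fac, Category.assoc]
    change W.ι ≫ α.left ≫ (glued a ha).hom = W.ι ≫ T.hom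
    rw [Over.w])
  let gj : Z ⟶ U j := Over.homMk (IsOpenImmersion.lift (toGlued a ha j).left (W.ι ≫ β.left) hWj) (by
    have := Over.w (toGlued a ha j)
    rw [← this, ← Category.assoc, IsOpenImmersion.lift_fac, Category.assoc]
    change W.ι ≫ β.left ≫ (glued a ha).hom = W.ι ≫ T.hom
    rw [Over.w])
  have hgi : gi ≫ toGlued a ha i = wι ≫ α := by
    ext1; exact IsOpenImmersion.lift_fac _ _ _
  have hgj : gj ≫ toGlued a ha j = wι ≫ β := by
    ext1; exact IsOpenImmersion.lift_fac _ _ _
  have key : (yon S).map gi ≫ a i = (yon S).map gj ≫ a j := by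
    rw [← hb i, ← hb j, ← Category.assoc, ← Category.assoc, ← Functor.map_comp,
      ← Functor.map_comp, hgi, hgj, Functor.map_comp, Functor.map_comp, Category.assoc,
      Category.assoc, h]
  have e : gi ≫ toGlued a ha i = gj ≫ toGlued a ha j := by
    rw [← (ha i).rep.lift'_fst gi gj key, Category.assoc, fst'_toGlued, ← Category.assoc,
      (ha i).rep.lift'_snd gi gj key]
  have e' : wι ≫ α = wι ≫ β := by rw [← hgi, ← hgj, e]
  exact congrArg (fun k => k.left) e'

theorem isIso_desc (hs : ∀ x : Points F, ∃ (i : ι) (u : ↥(U i).left), Points.ofPt (a i) u = x)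
    (b : (yon S).obj (glued a ha) ⟶ F)
    (hb : ∀ i, (yon S).map (toGlued a ha i) ≫ b = a i) : IsIso b := by
  have hinj : Sheaf.IsLocallyInjective b := by
    rw [Sheaf.isLocallyInjective_iff_injective]
    intro X x y hxy
    obtain ⟨α', rfl⟩ := (J S).uliftYonedaEquiv.{u+1}.surjective x
    obtain ⟨β', rfl⟩ := (J S).uliftYonedaEquiv.{u+1}.surjective y
    obtain ⟨α, rfl⟩ := (yon S).map_surjective α'
    obtain ⟨β, rfl⟩ := (yon S).map_surjective β'
    congr 2
    apply eq_of_comp_desc_eq b hb
    apply (J S).uliftYonedaEquiv.{u+1}.injective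
    rw [(J S).uliftYonedaEquiv_comp.{u+1}, (J S).uliftYonedaEquiv_comp.{u+1}]
    exact hxy
  have hsurj : Sheaf.IsLocallySurjective b := by
    constructor
    intro T s
    obtain ⟨s', rfl⟩ := (J S).uliftYonedaEquiv.{u+1}.surjective s
    refine (J S).superset_covering ?_ (generate_ofArrows_mem_J
      (fun i => (ha i).rep.pullback s') (fun i => (ha i).rep.snd s')
      (fun i => (ha i).property_snd s') ?_)
    · rw [Sieve.generate_le_iff]
      rintro W _ ⟨i⟩
      refine ⟨(J S).uliftYonedaEquiv.{u+1}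
        ((yon S).map ((ha i).rep.fst' s' ≫ toGlued a ha i)), ?_⟩
      change b.hom.app _ _ = _
      rw [← (J S).uliftYonedaEquiv_comp.{u+1}, (J S).uliftYonedaEquiv_naturality,
        Functor.map_comp, Category.assoc, hb i, ((ha i).rep.isPullback' s').w]
    · intro t
      obtain ⟨i, u, hu⟩ := hs (Points.ofPt s' t)
      obtain ⟨w, -, hw⟩ := exists_of_ofPt_eq_of_isPullback ((ha i).rep.isPullback' s') u t hu
      exact ⟨i, w, hw⟩
  exact (Sheaf.isLocallyBijective_iff_isIso b).1 ⟨hinj, hsurj⟩

end ZarGlue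

/-- **Zariski-local representability** : a sheaf covered by representable open subfunctors is
representable. -/
theorem exists_iso_yon_of_openCover {F : Sp S} {ι : Type u} {U : ι → Over S}
    (a : ∀ i, (yon S).obj (U i) ⟶ F) (ha : ∀ i, RepWith @IsOpenImmersion (a i))
    (hs : ∀ x : Points F, ∃ (i : ι) (u : ↥(U i).left), Points.ofPt (a i) u = x) :
    ∃ (G : Over S) (e : (yon S).obj G ≅ F) (j : ∀ i, U i ⟶ G),
      (∀ i, (yon S).map (j i) ≫ e.hom = a i) ∧ (∀ i, IsOpenImmersion (j i).left) ∧
      ∀ g : ↥G.left, ∃ i, g ∈ Set.range (j i).left := by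
  obtain ⟨b, hb⟩ := ZarGlue.exists_desc a ha
  have := ZarGlue.isIso_desc hs b hb
  exact ⟨ZarGlue.glued a ha, asIso b, ZarGlue.toGlued a ha, hb, fun i => inferInstance,
    ZarGlue.toGlued_jointly_surjective a ha⟩

end Groth.Agent.Lib.Helper3
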