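import Mathlib
import Groth.Agent.Lib.Helper3.ZarGlue
import Groth.Agent.Lib.Helper3.AlgSpOpenSubsp
set_option autoImplicit false
universe u w
open CategoryTheory CategoryTheory.Limits AlgebraicGeometry TopologicalSpace Opposite

namespace Groth.Agent.Lib.Helper3

open AlgSp

variable {S : Scheme.{u}}

/-- A jointly surjective family of flat morphisms locally of finite presentation generates a
covering sieve of the big fppf site. -/
theorem generate_ofArrows_mem_J_of_fppf {T : Over S} {κ : Type*} (P : κ → Over S)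
    (g : ∀ i, P i ⟶ T) (hfl : ∀ i, Flat (g i).left)
    (hfp : ∀ i, LocallyOfFinitePresentation (g i).left)
    (hsurj : ∀ t : ↥T.left, ∃ i, t ∈ Set.range (g i).left) :
    Sieve.generate (Presieve.ofArrows P g) ∈ AlgSp.J S T := by
  change _ ∈ (Scheme.fppfTopology.over S) T
  rw [GrothendieckTopology.mem_over_iff]
  have h0 : Presieve.ofArrows (fun i => (P i).left) (fun i => (g i).left) ∈
      Scheme.fppfPrecoverage T.left := by
    unfold Scheme.fppfPrecoverage
    rw [Scheme.ofArrows_mem_precoverage_iff]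
    exact ⟨hsurj, fun i => ⟨hfl i, hfp i⟩⟩
  refine GrothendieckTopology.superset_covering _ ?_
    (Precoverage.generate_mem_toGrothendieck h0)
  rw [Sieve.generate_le_iff]
  rintro W _ ⟨i⟩
  rw [Sieve.overEquiv_iff]
  have e : (Over.homMk (g i).left : Over.mk ((g i).left ≫ T.hom) ⟶ T) =
      (Over.isoMk (Iso.refl _) (by simp) : Over.mk ((g i).left ≫ T.hom) ≅ P i).hom ≫ g i := by
    ext; simp
  rw [e]
  exact Sieve.downward_closed _ (Sieve.le_generate _ _ _ (Presieve.ofArrows.mk i)) _

/-- Every covering sieve of the big fppf site contains a jointly surjective family of flat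
morphisms locally of finite presentation. -/
theorem exists_fppf_family_of_mem_J {T : Over S} (R : Sieve T) (hR : R ∈ AlgSp.J S T) :
    ∃ (κ : Type (u + 1)) (P : κ → Over S) (g : ∀ k, P k ⟶ T), (∀ k, R (g k)) ∧
      (∀ k, Flat (g k).left) ∧ (∀ k, LocallyOfFinitePresentation (g k).left) ∧
      ∀ t : ↥T.left, ∃ k, t ∈ Set.range (g k).left := by
  change R ∈ (Scheme.fppfTopology.over S) T at hR
  have : Scheme.fppfPrecoverage.{u}.HasIsos :=
    ⟨fun f _ => f.singleton_mem_fppfPrecoverage⟩
  have : Scheme.fppfPrecoverage.{u}.HasPullbacks := by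
    unfold Scheme.fppfPrecoverage; infer_instance
  rw [GrothendieckTopology.mem_over_iff,
    Precoverage.mem_toGrothendieck_iff_of_isStableUnderComposition] at hR
  obtain ⟨R₀, hR₀, hle⟩ := hR
  have hjs : R₀ ∈ Scheme.jointlySurjectivePrecoverage T.left := hR₀.1
  rw [Presieve.mem_comap_jointlySurjectivePrecoverage_iff] at hjs
  refine ⟨Σ (Y : Scheme.{u}), {f : Y ⟶ T.left // R₀ f}, fun k => Over.mk (k.2.1 ≫ T.hom),
    fun k => Over.homMk k.2.1 rfl, fun k => ?_, fun k => ?_, fun k => ?_, fun t => ?_⟩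
  · have h1 := hle _ _ k.2.2
    rw [Sieve.overEquiv_iff] at h1
    exact h1
  · exact (hR₀.2 k.2.2).1
  · exact (hR₀.2 k.2.2).2
  · obtain ⟨Y, g₀, hg₀, t', ht'⟩ := hjs t
    exact ⟨⟨Y, g₀, hg₀⟩, t', ht'⟩

theorem exists_left_preimage_pullback {A B T : Over S} (f : A ⟶ T) (g : B ⟶ T) (a : ↥A.left)
    (b : ↥B.left) (h : f.left a = g.left b) :
    ∃ z : ↥(pullback f g).left, (pullback.fst f g).left z = a ∧ (pullback.snd f g).left z = b := by
  have sq : IsPullback (pullback.fst f g).left (pullback.snd f g).left f.left g.left :=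
    (IsPullback.of_hasPullback f g).map (Over.forget S)
  obtain ⟨z₀, hz1, hz2⟩ := Scheme.Pullback.exists_preimage_pullback a b h
  refine ⟨sq.isoPullback.inv z₀, ?_, ?_⟩
  · rw [← Scheme.Hom.comp_apply, sq.isoPullback_inv_fst]; exact hz1
  · rw [← Scheme.Hom.comp_apply, sq.isoPullback_inv_snd]; exact hz2

namespace SpCoprod

variable {ι : Type w} {F : ι → Sp S} (c : Cofan F) (hc : IsColimit c)

/-- The subfunctor of the coproduct of sections coming from a single summand. -/
def unionRange : Subfunctor c.pt.obj where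
  obj T := {s | ∃ (i : ι) (x : (F i).obj.obj T), (c.inj i).hom.app T x = s}
  map := by
    rintro T T' φ _ ⟨i, x, rfl⟩
    exact ⟨i, (F i).obj.map φ x, (NatTrans.naturality_apply (c.inj i).hom φ x)⟩

include hc in
/-- Sections of a coproduct of sheaves locally come from a single summand. -/
theorem sieve_mem (T : Over S) (s : c.pt.obj.obj (op T)) :
    (unionRange c).sieveOfSection s ∈ AlgSp.J S T := by
  have hsh : Presieve.IsSheaf (AlgSp.J S) ((unionRange c).sheafify (AlgSp.J S)).toFunctor :=
    (unionRange c).sheafify_isSheaf ((isSheaf_iff_isSheaf_of_type _ _).1 c.pt.property)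
  let I : Sp S := ⟨((unionRange c).sheafify (AlgSp.J S)).toFunctor,
    (isSheaf_iff_isSheaf_of_type _ _).2 hsh⟩
  let incl : I ⟶ c.pt := ⟨((unionRange c).sheafify (AlgSp.J S)).ι⟩
  let k : ∀ i, F i ⟶ I := fun i => ⟨Subfunctor.lift (c.inj i).hom (by
    rintro T _ ⟨x, rfl⟩
    exact (unionRange c).le_sheafify (AlgSp.J S) _ ⟨i, x, rfl⟩)⟩
  let r : c.pt ⟶ I := Cofan.IsColimit.desc hc k
  have hr : r ≫ incl = 𝟙 _ := by
    refine Cofan.IsColimit.hom_ext hc _ _ fun i => ?_
    rw [Cofan.IsColimit.fac_assoc, Category.comp_id]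
    rfl
  have h1 : incl.hom.app (op T) (r.hom.app (op T) s) = s := by
    have := congrArg (fun φ => φ.hom.app (op T) s) hr
    exact this
  have h2 := (r.hom.app (op T) s).2
  rw [← h1]
  exact h2

include hc in
theorem mono_inj [HasColimitsOfSize.{w, w} (Sp S)] (i : ι) : Mono (c.inj i) := by
  have : MonoCoprod (Sp S) := inferInstance
  exact MonoCoprod.mono_inj F c hc i

include hc in
theorem inj_app_injective [HasColimitsOfSize.{w, w} (Sp S)] (i : ι) (T : (Over S)ᵒᵖ) :
    Function.Injective ((c.inj i).hom.app T) := by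
  have := mono_inj c hc i
  have h1 : Mono (c.inj i).hom := (Sheaf.Hom.mono_iff_presheaf_mono _ _ _).1 this
  have h2 : Mono ((c.inj i).hom.app T) := inferInstance
  exact (mono_iff_injective _).1 h2

/-- The base `S` as an object over itself represents the terminal sheaf. -/
noncomputable def isTerminalYonBase : IsTerminal ((yon S).obj (Over.mk (𝟙 S))) :=
  IsTerminal.isTerminalObj (yon S) _ Over.mkIdTerminal

/-- The scheme `S ⨿ S` over `S`. -/
noncomputable abbrev twoS (S : Scheme.{u}) : Over S := Over.mk (coprod.desc (𝟙 S) (𝟙 S))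

noncomputable def twoInl (S : Scheme.{u}) : Over.mk (𝟙 S) ⟶ twoS S := Over.homMk coprod.inl (by change coprod.inl ≫ coprod.desc (𝟙 S) (𝟙 S) = 𝟙 S; exact coprod.inl_desc _ _)

noncomputable def twoInr (S : Scheme.{u}) : Over.mk (𝟙 S) ⟶ twoS S := Over.homMk coprod.inr (by change coprod.inr ≫ coprod.desc (𝟙 S) (𝟙 S) = 𝟙 S; exact coprod.inr_desc _ _)

theorem isEmpty_of_twoInl_eq_twoInr {T : Over S} (a b : T ⟶ Over.mk (𝟙 S))
    (h : a ≫ twoInl S = b ≫ twoInr S) : IsEmpty ↥T.left := by
  constructor
  intro t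
  have h1 : a.left ≫ coprod.inl = b.left ≫ coprod.inr := congrArg (fun k => k.left) h
  have h2 := congr($(h1) t)
  rw [Scheme.Hom.comp_apply, Scheme.Hom.comp_apply] at h2
  exact inl_ne_inr _ _ _ _ h2

include hc in
/-- Distinct summands of a coproduct of sheaves are disjoint. -/
theorem isEmpty_of_inj_eq_inj {i j : ι} (hij : i ≠ j) {T : Over S}
    (x : (F i).obj.obj (op T)) (y : (F j).obj.obj (op T))
    (h : (c.inj i).hom.app (op T) x = (c.inj j).hom.app (op T) y) : IsEmpty ↥T.left := by
  classical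
  let m : c.pt ⟶ (yon S).obj (twoS S) := Cofan.IsColimit.desc hc (fun k =>
    if k = i then isTerminalYonBase.from (F k) ≫ (yon S).map (twoInl S)
    else isTerminalYonBase.from (F k) ≫ (yon S).map (twoInr S))
  have hmi : c.inj i ≫ m = isTerminalYonBase.from (F i) ≫ (yon S).map (twoInl S) := by
    rw [Cofan.IsColimit.fac, if_pos rfl]
  have hmj : c.inj j ≫ m = isTerminalYonBase.from (F j) ≫ (yon S).map (twoInr S) := by
    rw [Cofan.IsColimit.fac, if_neg (Ne.symm hij)]
  have h1 := congrArg (m.hom.app (op T)) h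
  have e1 : m.hom.app (op T) ((c.inj i).hom.app (op T) x) =
      ((yon S).map (twoInl S)).hom.app (op T) ((isTerminalYonBase.from (F i)).hom.app (op T) x) :=
    congrArg (fun φ => φ.hom.app (op T) x) hmi
  have e2 : m.hom.app (op T) ((c.inj j).hom.app (op T) y) =
      ((yon S).map (twoInr S)).hom.app (op T) ((isTerminalYonBase.from (F j)).hom.app (op T) y) :=
    congrArg (fun φ => φ.hom.app (op T) y) hmj
  rw [e1, e2] at h1
  exact isEmpty_of_twoInl_eq_twoInr
    ((isTerminalYonBase.from (F i)).hom.app (op T) x).down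
    ((isTerminalYonBase.from (F j)).hom.app (op T) y).down (congrArg ULift.down h1)

include hc in
/-- A section of the coproduct which locally comes from the `i`-th summand comes from it. -/
theorem mem_range_of_locally [HasColimitsOfSize.{w, w} (Sp S)] (i : ι) {T : Over S}
    (s : c.pt.obj.obj (op T)) (R : Sieve T) (hR : R ∈ AlgSp.J S T)
    (h : ∀ ⦃T' : Over S⦄ (g : T' ⟶ T), R g →
      ∃ x : (F i).obj.obj (op T'), (c.inj i).hom.app (op T') x = c.pt.obj.map g.op s) :
    ∃ x : (F i).obj.obj (op T), (c.inj i).hom.app (op T) x = s := by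
  have hinj := inj_app_injective c hc i
  have hFi : Presieve.IsSheaf (AlgSp.J S) (F i).obj :=
    (isSheaf_iff_isSheaf_of_type _ _).1 (F i).property
  have hcp : Presieve.IsSheaf (AlgSp.J S) c.pt.obj :=
    (isSheaf_iff_isSheaf_of_type _ _).1 c.pt.property
  choose x hx using h
  let fam : Presieve.FamilyOfElements (F i).obj R.arrows := fun T' g hg => x g hg
  have hcompat : fam.Compatible := by
    intro Y₁ Y₂ Z g₁ g₂ f₁ f₂ h₁ h₂ e
    apply hinj
    change (c.inj i).hom.app (op Z) ((F i).obj.map g₁.op (x f₁ h₁)) =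
      (c.inj i).hom.app (op Z) ((F i).obj.map g₂.op (x f₂ h₂))
    rw [NatTrans.naturality_apply, NatTrans.naturality_apply, hx, hx,
      ← Functor.map_comp_apply, ← Functor.map_comp_apply, ← op_comp, ← op_comp, e]
  obtain ⟨y, hy, -⟩ := hFi R hR fam hcompat
  refine ⟨y, ?_⟩
  refine (hcp R hR).isSeparatedFor.ext fun T' g hg => ?_
  rw [← NatTrans.naturality_apply, hy g hg]
  exact hx g hg

include hc in
/-- A section of a coproduct of sheaves over a scheme `T` decomposes `T` into pairwise disjoint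
open subschemes over each of which the section comes from a single summand. -/
theorem exists_decomposition [HasColimitsOfSize.{w, w} (Sp S)] (T : Over S)
    (s : c.pt.obj.obj (op T)) :
    ∃ V : ι → T.left.Opens, (∀ i j, i ≠ j → Disjoint (V i) (V j)) ∧ (⨆ i, V i = ⊤) ∧
      ∀ i, ∃ x : (F i).obj.obj (op (Over.mk ((V i).ι ≫ T.hom))),
        (c.inj i).hom.app _ x =
          c.pt.obj.map (Over.homMk (V i).ι rfl : Over.mk ((V i).ι ≫ T.hom) ⟶ T).op s := by
  classical
  obtain ⟨κ, P, g, hgR, hfl, hfp, hsurj⟩ :=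
    exists_fppf_family_of_mem_J _ (sieve_mem c hc T s)
  choose idx x hx using hgR
  have hopen : ∀ k, IsOpen (Set.range (g k).left) := fun k =>
    have := hfl k
    have := hfp k
    (g k).left.isOpenMap.isOpen_range
  let V : ι → T.left.Opens := fun i =>
    ⟨⋃ k ∈ {k | idx k = i}, Set.range (g k).left, isOpen_biUnion fun k _ => hopen k⟩
  have hmemV : ∀ i (t : ↥T.left), t ∈ V i ↔ ∃ k, idx k = i ∧ t ∈ Set.range (g k).left := by
    intro i t
    change t ∈ ⋃ k ∈ {k | idx k = i}, Set.range (g k).left ↔ _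
    simp only [Set.mem_iUnion, Set.mem_ofPred_eq, exists_prop]
  have hdisj : ∀ i j, i ≠ j → Disjoint (V i) (V j) := by
    intro i j hij
    rw [disjoint_iff]
    ext t
    simp only [Opens.coe_inf, Set.mem_inter_iff, SetLike.mem_coe, Opens.coe_bot,
      Set.mem_empty_iff_false, iff_false, not_and]
    intro hti htj
    obtain ⟨k, hk, y, hy⟩ := (hmemV i t).1 hti
    obtain ⟨l, hl, y', hy'⟩ := (hmemV j t).1 htj
    obtain ⟨z, -, -⟩ := exists_left_preimage_pullback (g k) (g l) y y' (hy.trans hy'.symm)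
    have hemp : IsEmpty ↥(pullback (g k) (g l)).left := by
      refine isEmpty_of_inj_eq_inj c hc (i := idx k) (j := idx l) (by rw [hk, hl]; exact hij)
        ((F (idx k)).obj.map (pullback.fst (g k) (g l)).op (x k))
        ((F (idx l)).obj.map (pullback.snd (g k) (g l)).op (x l)) ?_
      rw [NatTrans.naturality_apply, NatTrans.naturality_apply, hx, hx,
        ← Functor.map_comp_apply, ← Functor.map_comp_apply, ← op_comp, ← op_comp,
        pullback.condition]
    exact hemp.false z
  refine ⟨V, hdisj, ?_, fun i => ?_⟩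
  · rw [eq_top_iff]
    intro t _
    obtain ⟨k, hk⟩ := hsurj t
    exact Opens.mem_iSup.2 ⟨idx k, (hmemV _ t).2 ⟨k, rfl, hk⟩⟩
  · let Wi : Over S := Over.mk ((V i).ι ≫ T.hom)
    let incl : Wi ⟶ T := Over.homMk (V i).ι rfl
    refine mem_range_of_locally c hc i _
      (Sieve.generate (Presieve.ofArrows (fun k : {k // idx k = i} => pullback (g k.1) incl)
        (fun k => pullback.snd (g k.1) incl))) ?_ ?_
    · refine generate_ofArrows_mem_J_of_fppf _ _ (fun k => ?_) (fun k => ?_) (fun w => ?_)
      · have sq : IsPullback (pullback.fst (g k.1) incl).left (pullback.snd (g k.1) incl).left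
          (g k.1).left incl.left := (IsPullback.of_hasPullback (g k.1) incl).map (Over.forget S)
        exact MorphismProperty.of_isPullback sq (hfl k.1)
      · have sq : IsPullback (pullback.fst (g k.1) incl).left (pullback.snd (g k.1) incl).left
          (g k.1).left incl.left := (IsPullback.of_hasPullback (g k.1) incl).map (Over.forget S)
        exact MorphismProperty.of_isPullback sq (hfp k.1)
      · obtain ⟨k, hk, y, hy⟩ := (hmemV i ((V i).ι w)).1 w.2
        obtain ⟨z, -, hz⟩ := exists_left_preimage_pullback (g k) incl y w hy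
        exact ⟨⟨k, hk⟩, z, hz⟩
    · rintro T' g' ⟨T'', a, _, ⟨k⟩, rfl⟩
      obtain ⟨k, hk⟩ := k
      subst hk
      refine ⟨(F (idx k)).obj.map (a ≫ pullback.fst (g k) incl).op (x k), ?_⟩
      rw [NatTrans.naturality_apply, hx, ← Functor.map_comp_apply, ← Functor.map_comp_apply,
        ← op_comp, ← op_comp, Category.assoc, pullback.condition, Category.assoc]

include hc in
/-- The coprojections of a coproduct of sheaves are representable by open and closed
immersions; more precisely every base change to a scheme is an open and closed subscheme. -/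
theorem exists_isPullback_inj [HasColimitsOfSize.{w, w} (Sp S)] (i : ι) {T : Over S}
    (s' : (yon S).obj T ⟶ c.pt) :
    ∃ (V : T.left.Opens) (fst : (yon S).obj (Over.mk (V.ι ≫ T.hom)) ⟶ F i),
      IsPullback fst ((yon S).map (Over.homMk V.ι rfl : Over.mk (V.ι ≫ T.hom) ⟶ T)) (c.inj i) s' ∧
      IsClosed (V : Set ↥T.left) := by
  classical
  obtain ⟨s, rfl⟩ := (AlgSp.J S).uliftYonedaEquiv.{u+1}.symm.surjective s'
  obtain ⟨V, hdisj, hcov, hx⟩ := exists_decomposition c hc T s
  choose x hx using hx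
  have hinj := inj_app_injective c hc i
  refine ⟨V i, (AlgSp.J S).uliftYonedaEquiv.{u+1}.symm (x i), ?_, ?_⟩
  · refine isPullback_of_sections _ _ _ _ ?_ ?_ ?_
    · rw [(AlgSp.J S).uliftYonedaEquiv_symm_naturality_right,
        (AlgSp.J S).uliftYonedaEquiv_symm_naturality_left, hx]
    · rintro W ⟨a₀⟩ ⟨b₀⟩ - h2
      obtain ⟨a, rfl⟩ : ∃ a : W.unop ⟶ Over.mk ((V i).ι ≫ T.hom), a = a₀ := ⟨a₀, rfl⟩
      obtain ⟨b, rfl⟩ : ∃ b : W.unop ⟶ Over.mk ((V i).ι ≫ T.hom), b = b₀ := ⟨b₀, rfl⟩
      have h2' : a ≫ (Over.homMk (V i).ι rfl : Over.mk ((V i).ι ≫ T.hom) ⟶ T) =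
          b ≫ (Over.homMk (V i).ι rfl : Over.mk ((V i).ι ≫ T.hom) ⟶ T) :=
        congrArg ULift.down h2
      have h3 : a.left ≫ (V i).ι = b.left ≫ (V i).ι := congrArg (fun k => k.left) h2'
      have h4 : a = b := Over.OverMorphism.ext ((cancel_mono (V i).ι).1 h3)
      rw [h4]
    · rintro ⟨W⟩ x₂ ⟨v₀⟩ h
      obtain ⟨v, rfl⟩ : ∃ v : W ⟶ T, v = v₀ := ⟨v₀, rfl⟩
      have h' : (c.inj i).hom.app (op W) x₂ = c.pt.obj.map v.op s := by
        rw [h]; rfl
      have hsub : Set.range v.left ⊆ ((V i).ι).opensRange := by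
        rintro _ ⟨p, rfl⟩
        rw [Scheme.Opens.opensRange_ι]
        by_contra hp
        have hp' : v.left p ∈ (⊤ : T.left.Opens) := trivial
        rw [← hcov] at hp'
        obtain ⟨j, hj⟩ := Opens.mem_iSup.1 hp'
        have hij : i ≠ j := by rintro rfl; exact hp hj
        let N : W.left.Opens := v.left ⁻¹ᵁ (V j)
        let N' : Over S := Over.mk (N.ι ≫ W.hom)
        let n : N' ⟶ W := Over.homMk N.ι rfl
        have hNsub : Set.range (N.ι ≫ v.left) ⊆ Set.range (V j).ι := by
          rintro _ ⟨q, rfl⟩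
          rw [Scheme.Opens.range_ι]
          exact q.2
        let l : N' ⟶ Over.mk ((V j).ι ≫ T.hom) :=
          Over.homMk (IsOpenImmersion.lift (V j).ι (N.ι ≫ v.left) hNsub) (by
            change _ ≫ (V j).ι ≫ T.hom = N.ι ≫ W.hom
            rw [← Category.assoc, IsOpenImmersion.lift_fac, Category.assoc, Over.w])
        have hl : l ≫ (Over.homMk (V j).ι rfl : Over.mk ((V j).ι ≫ T.hom) ⟶ T) = n ≫ v := by
          ext1
          exact IsOpenImmersion.lift_fac _ _ _
        have hemp : IsEmpty ↥N'.left := by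
          refine isEmpty_of_inj_eq_inj c hc hij ((F i).obj.map n.op x₂)
            ((F j).obj.map l.op (x j)) ?_
          rw [NatTrans.naturality_apply, NatTrans.naturality_apply, hx, h',
            ← Functor.map_comp_apply, ← Functor.map_comp_apply, ← op_comp, ← op_comp, hl]
        exact hemp.false ⟨p, hj⟩
      let v' : W ⟶ Over.mk ((V i).ι ≫ T.hom) :=
        Over.homMk (IsOpenImmersion.lift (V i).ι v.left hsub) (by
          change _ ≫ (V i).ι ≫ T.hom = W.hom
          rw [← Category.assoc, IsOpenImmersion.lift_fac, Over.w])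
      have hv' : v' ≫ (Over.homMk (V i).ι rfl : Over.mk ((V i).ι ≫ T.hom) ⟶ T) = v := by
        ext1
        exact IsOpenImmersion.lift_fac _ _ _
      refine ⟨⟨v'⟩, ?_, ?_⟩
      · apply hinj
        rw [h']
        have e1 : ((AlgSp.J S).uliftYonedaEquiv.{u+1}.symm (x i)).hom.app (op W) ⟨v'⟩ =
            (F i).obj.map v'.op (x i) := rfl
        rw [e1, NatTrans.naturality_apply, hx, ← Functor.map_comp_apply, ← op_comp, hv']
      · change (⟨v' ≫ _⟩ : ULift _) = ⟨v⟩
        rw [hv']
  · have hcompl : ((V i : Set ↥T.left))ᶜ = ⋃ j ∈ {j | j ≠ i}, (V j : Set ↥T.left) := by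
      ext t
      simp only [Set.mem_compl_iff, SetLike.mem_coe, Set.mem_iUnion, Set.mem_ofPred_eq, exists_prop]
      constructor
      · intro ht
        have ht' : t ∈ (⊤ : T.left.Opens) := trivial
        rw [← hcov] at ht'
        obtain ⟨j, hj⟩ := Opens.mem_iSup.1 ht'
        exact ⟨j, by rintro rfl; exact ht hj, hj⟩
      · rintro ⟨j, hji, hj⟩ hti
        have := (hdisj j i hji).le_bot ⟨hj, hti⟩
        exact this
    rw [← isOpen_compl_iff, hcompl]
    exact isOpen_biUnion fun j _ => (V j).2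

include hc in
theorem repWith_inj [HasColimitsOfSize.{w, w} (Sp S)] (i : ι) :
    RepWith (@IsOpenImmersion ⊓ @IsClosedImmersion) (c.inj i) := by
  refine MorphismProperty.relative.of_exists fun T s' => ?_
  obtain ⟨V, fst, sq, hV⟩ := exists_isPullback_inj c hc i s'
  refine ⟨_, fst, _, sq, ?_, ?_⟩
  · exact inferInstanceAs (IsOpenImmersion V.ι)
  · change IsClosedImmersion V.ι
    exact IsClosedImmersion.of_isPreimmersion _ (by rw [Scheme.Opens.range_ι]; exact hV)

include hc in
theorem repWith_isOpenImmersion_inj [HasColimitsOfSize.{w, w} (Sp S)] (i : ι) :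
    RepWith @IsOpenImmersion (c.inj i) :=
  repWith_mono (fun _ _ _ h => h.1) (repWith_inj c hc i)

end SpCoprod

end Groth.Agent.Lib.Helper3
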