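import Groth.Agent.Lib.Helper3.AlgSpMonoSingleton

set_option autoImplicit false
universe u
open CategoryTheory CategoryTheory.Limits AlgebraicGeometry Opposite

namespace Groth.Agent.Lib.Helper3

variable {S : Scheme.{u}}

open AlgSp

/-- Locally surjective morphisms of sheaves are stable under base change. -/
theorem isLocallySurjective_of_isPullback {P X Y Z : Sp S} {fst : P ⟶ X} {snd : P ⟶ Y}
    {f : X ⟶ Z} {g : Y ⟶ Z} (sq : IsPullback fst snd f g) (hf : Sheaf.IsLocallySurjective f) :
    Sheaf.IsLocallySurjective snd := by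
  constructor
  intro U s
  obtain ⟨y, rfl⟩ := (J S).uliftYonedaEquiv.{u+1}.surjective s
  have hmem := Presheaf.imageSieve_mem (J S) f.hom ((J S).uliftYonedaEquiv.{u+1} (y ≫ g))
  refine (J S).superset_covering ?_ hmem
  intro T' h hh
  obtain ⟨s', hs'⟩ := hh
  obtain ⟨x, rfl⟩ := (J S).uliftYonedaEquiv.{u+1}.surjective s'
  have hw : x ≫ f = (yon S).map h ≫ y ≫ g := by
    apply (J S).uliftYonedaEquiv.{u+1}.injective
    rw [(J S).uliftYonedaEquiv_comp.{u+1}]
    rw [(J S).uliftYonedaEquiv_naturality.{u+1} (y ≫ g) h] at hs'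
    exact hs'
  have hw' : x ≫ f = ((yon S).map h ≫ y) ≫ g := by rw [Category.assoc]; exact hw
  exact Groth.Agent.S9885.imageSieve_of_isPullback snd y (sq.lift x ((yon S).map h ≫ y) hw') h
    (sq.lift_snd _ _ _)

/-- Base change along an epimorphism of sheaves reflects isomorphisms. -/
theorem isIso_of_isPullback_of_isLocallySurjective {A' P' C P : Sp S} {g' : A' ⟶ P'}
    {q' : A' ⟶ C} {q : P' ⟶ P} {g : C ⟶ P} (sq : IsPullback g' q' q g) [IsIso g']
    (hq : Sheaf.IsLocallySurjective q) : IsIso g := by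
  have hfac : (inv g' ≫ q') ≫ g = q := by
    rw [Category.assoc, ← sq.w, IsIso.inv_hom_id_assoc]
  have hsurj : Sheaf.IsLocallySurjective g :=
    Presheaf.isLocallySurjective_of_isLocallySurjective_fac (J S)
      (f₁ := (inv g' ≫ q').hom) (f₂ := g.hom) (f₃ := q.hom)
      (congrArg (fun k => k.hom) hfac)
  have hmono : Mono g := by
    refine ⟨fun {W} h₁ h₂ h12 => ?_⟩
    have sqW := IsPullback.of_hasPullback q (h₁ ≫ g)
    have hπ : Sheaf.IsLocallySurjective (pullback.snd q (h₁ ≫ g)) :=
      isLocallySurjective_of_isPullback sqW hq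
    have : Epi (pullback.snd q (h₁ ≫ g)) := inferInstance
    rw [← cancel_epi (pullback.snd q (h₁ ≫ g))]
    have w₁ : pullback.fst q (h₁ ≫ g) ≫ q = (pullback.snd q (h₁ ≫ g) ≫ h₁) ≫ g := by
      rw [Category.assoc]; exact pullback.condition
    have w₂ : pullback.fst q (h₁ ≫ g) ≫ q = (pullback.snd q (h₁ ≫ g) ≫ h₂) ≫ g := by
      rw [Category.assoc, ← h12]; exact pullback.condition
    have e : sq.lift _ _ w₁ = sq.lift _ _ w₂ := by
      rw [← cancel_mono g']
      rw [sq.lift_fst, sq.lift_fst]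
    have := congrArg (fun k => k ≫ q') e
    simpa only [sq.lift_snd] using this
  exact (Sheaf.isLocallyBijective_iff_isIso g).1 ⟨isLocallyInjective_of_mono g, hsurj⟩

end Groth.Agent.Lib.Helper3
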