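import Groth.Agent.Lib.Helper3.AlgSpQC3
import Mathlib.AlgebraicGeometry.Morphisms.Descent

set_option autoImplicit false
universe u
open CategoryTheory CategoryTheory.Limits AlgebraicGeometry Opposite MorphismProperty

namespace Groth.Agent.Lib.Helper3

variable {S : Scheme.{u}}

open AlgSp

/-- A quasi-compact sheaf has an etale surjective chart from an affine scheme. -/
theorem exists_affine_chart_of_isQuasiCompactSp {F : Sp S} (hF : IsQuasiCompactSp F) :
    EtaleLocally IsAffine F := by
  obtain ⟨W, p, hpe, hps, hW⟩ := hF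
  obtain ⟨M, m, hms, hme, hMa⟩ :=
    Scheme.exists_hom_isAffine_of_isZariskiLocalAtSource @Etale W.left
  let M' : Over S := Over.mk (m ≫ W.hom)
  let j : M' ⟶ W := Over.homMk m rfl
  have hje : RepWith @Etale ((yon S).map j) := (repWith_yon_map_iff _ j).2 hme
  have hjs : RepWith @Surjective ((yon S).map j) := (repWith_yon_map_iff _ j).2 hms
  exact ⟨M', (yon S).map j ≫ p, MorphismProperty.comp_mem _ _ _ hje hpe,
    MorphismProperty.comp_mem _ _ _ hjs hps, hMa⟩

theorem isSurjectiveMor_of_repWith {F G : Sp S} {f : F ⟶ G} (hf : RepWith @Surjective f) :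
    IsSurjectiveMor f := surjective_map_of_repWith hf

/-- Criterion for quasi-compactness of a morphism of algebraic spaces: it suffices to find, for
each quasi-compact algebraic space `T` over the target, a surjection `M ⟶ T` such that the base
change to `M` is a quasi-compact sheaf. -/
theorem isQuasiCompactMor_of_forall_exists_surjective {F G : Sp S} (hF : IsAlgSpace F)
    (hG : Representable (Limits.diag G)) (f : F ⟶ G)
    (h : ∀ ⦃T : Sp S⦄, IsAlgSpace T → IsQuasiCompactSp T → ∀ (k : T ⟶ G),
      ∃ (M : Sp S) (m : M ⟶ T), IsSurjectiveMor m ∧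
        ∀ (P : Sp S) (fst : P ⟶ F) (snd : P ⟶ M), IsPullback fst snd f (m ≫ k) →
          IsQuasiCompactSp P) :
    IsQuasiCompactMor f := by
  intro T T' hT hqc k a b sq
  obtain ⟨M, m, hm, hP⟩ := h hT hqc k
  have hT' : IsAlgSpace T' := isAlgSpace_of_isPullback hG hF hT sq
  have sqM := IsPullback.of_hasPullback b m
  have hPq : IsQuasiCompactSp (pullback b m) :=
    hP _ (pullback.fst b m ≫ a) (pullback.snd b m) (sqM.paste_horiz sq)
  exact isQuasiCompactSp_of_isSurjectiveMor (pullback.fst b m)
    (isSurjectiveMor_fst_of_isPullback sqM hm) hPq hT'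

/-- A morphism of algebraic spaces is quasi-compact as soon as its base changes to affine schemes
are quasi-compact. -/
theorem isQuasiCompactMor_of_forall_affine {F G : Sp S} (hF : IsAlgSpace F)
    (hG : Representable (Limits.diag G)) (f : F ⟶ G)
    (h : ∀ (Z : Over S), IsAffine Z.left → ∀ (g : (yon S).obj Z ⟶ G) (P : Sp S)
      (fst : P ⟶ F) (snd : P ⟶ (yon S).obj Z), IsPullback fst snd f g → IsQuasiCompactSp P) :
    IsQuasiCompactMor f := by
  refine isQuasiCompactMor_of_forall_exists_surjective hF hG f ?_
  intro T hT hqc k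
  obtain ⟨M, m, -, hms, hMa⟩ := exists_affine_chart_of_isQuasiCompactSp hqc
  exact ⟨_, m, isSurjectiveMor_of_repWith hms, fun P fst snd sq => h M hMa _ P fst snd sq⟩

end Groth.Agent.Lib.Helper3
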