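import Groth.Agent.Lib.Helper3.AlgSpFpqcLocal
import Groth.Agent.Lib.Helper3.AlgSpQC4
import Groth.Agent.Lib.Helper3.AlgSpLocP4
import Groth.Agent.Lib.Helper3.AlgSpFibre

set_option autoImplicit false
universe u
open CategoryTheory CategoryTheory.Limits AlgebraicGeometry Opposite

namespace Groth.Agent.Lib.Helper3

variable {S : Scheme.{u}}

open AlgSp

/-- A surjective morphism `h_φ` of representable sheaves has surjective underlying map. -/
theorem surjective_of_isSurjectiveMor_yon_map {T T' : Over S} (φ : T ⟶ T')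
    (h : IsSurjectiveMor ((yon S).map φ)) : Function.Surjective φ.left := by
  intro t'
  obtain ⟨x, hx⟩ := h (Points.schemeHomeo T' t')
  obtain ⟨t, rfl⟩ := (Points.schemeHomeo T).surjective x
  rw [Points.map_yon_map_apply] at hx
  exact ⟨t, (Points.schemeHomeo T').injective hx⟩

/-- A quasi-compact, flat, surjective morphism of algebraic spaces is an fpqc covering. -/
theorem isFpqcCover_single {X Y : Sp S} (hX : IsAlgSpace X) (hY : IsAlgSpace Y) (f : X ⟶ Y)
    (hqc : IsQuasiCompactMor f) (hflat : LocP @Flat f) (hsurj : IsSurjectiveMor f) :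
    IsFpqcCover (fun _ : PUnit.{u+1} => X) (fun _ => f) := by
  refine ⟨fun _ => hflat, fun Z hZ h => ?_⟩
  have sq := IsPullback.of_hasPullback f h
  have hZa : IsAlgSpace ((yon S).obj Z) := IsAlgSpace.yon_obj _
  have hPa : IsAlgSpace (pullback f h) := isAlgSpace_of_isPullback' hY hX hZa sq
  have hZc : CompactSpace ↥Z.left := inferInstance
  have hPq : IsQuasiCompactSp (pullback f h) := hqc hZa (isQuasiCompactSp_yon hZc) h _ _ sq
  obtain ⟨W, a, hae, has, hWa⟩ := exists_affine_chart_of_isQuasiCompactSp hPq
  obtain ⟨c, hc⟩ := (yon S).map_surjective (a ≫ pullback.snd f h)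
  have hsnd : LocP @Flat (pullback.snd f h) :=
    locP_of_isPullback isEtLocal_flat hX hY hZa hPa f h _ _ sq hflat
  have hcflat : Flat c.left := by
    refine hsnd a (𝟙 _) c hae (repWith_id _ Z) ?_
    rw [Category.comp_id, hc]
  have hcs : Function.Surjective c.left := by
    apply surjective_of_isSurjectiveMor_yon_map
    rw [hc]
    exact isSurjectiveMor_comp (isSurjectiveMor_of_repWith has)
      (isSurjectiveMor_snd_of_isPullback sq hsurj)
  refine ⟨1, fun _ => W, fun _ => c, fun _ => hWa, fun _ => hcflat, fun z => ⟨0, hcs z⟩,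
    fun _ => ⟨PUnit.unit, a ≫ pullback.fst f h, ?_⟩⟩
  rw [Category.assoc, pullback.condition, ← Category.assoc, ← hc]

/-- A quasi-compact, flat, surjective monomorphism of algebraic spaces is an isomorphism. -/
theorem isIso_of_qc_flat_surjective_mono {X Y : Sp S} (hX : IsAlgSpace X) (hY : IsAlgSpace Y)
    (f : X ⟶ Y) (hqc : IsQuasiCompactMor f) (hflat : LocP @Flat f) (hsurj : IsSurjectiveMor f)
    [Mono f] : IsIso f := by
  have hcov := isFpqcCover_single hX hY f hqc hflat hsurj
  have sq := IsPullback.of_hasPullback f f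
  have hPa : IsAlgSpace (pullback f f) := isAlgSpace_of_isPullback' hY hX hX sq
  have key := isLocalOnBase_fpqc_isomorphisms (S := S) (fun _ : PUnit.{u+1} => X) (fun _ => f) hY
    (fun _ => hX) hcov f hX (fun _ => pullback f f) (fun _ => pullback.snd f f)
    (fun _ => pullback.fst f f) (fun _ => hPa) (fun _ => sq)
  exact key.2 fun _ => (inferInstance : IsIso (pullback.snd f f))

end Groth.Agent.Lib.Helper3
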