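import Mathlib.AlgebraicGeometry.ZariskisMainTheorem
import Mathlib.AlgebraicGeometry.QuasiAffine

set_option autoImplicit false

universe u
open CategoryTheory CategoryTheory.Limits AlgebraicGeometry Opposite

namespace Groth.Agent.Lib.Helper3.QAffDesc

/-- quasi-compact opens of a scheme immersed in an affine scheme are quasi-affine. -/
theorem isQuasiAffine_of_isImmersion {X Y : Scheme.{u}} (g : X ⟶ Y) (hY : IsAffine Y)
    (hg : IsImmersion g) (V₀ : Scheme.{u}) (i : V₀ ⟶ X) (hi : IsOpenImmersion i)
    (hc : CompactSpace V₀) : V₀.IsQuasiAffine :=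
  Scheme.IsQuasiAffine.of_isImmersion (i ≫ g)

/-- quasi-compact opens of a scheme separated and locally quasi-finite over an affine scheme are
quasi-affine (Zariski's main theorem). -/
theorem isQuasiAffine_of_lqf {X Y : Scheme.{u}} (g : X ⟶ Y) (hY : IsAffine Y)
    (hg : (@IsSeparated ⊓ @LocallyQuasiFinite ⊓ @LocallyOfFiniteType : MorphismProperty Scheme.{u}) g)
    (V₀ : Scheme.{u}) (i : V₀ ⟶ X) (hi : IsOpenImmersion i)
    (hc : CompactSpace V₀) : V₀.IsQuasiAffine := by
  obtain ⟨⟨h1, h2⟩, h3⟩ := hg
  have h1' : IsSeparated g := h1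
  have h2' : LocallyQuasiFinite g := h2
  have h3' : LocallyOfFiniteType g := h3
  let f := i ≫ g
  have : IsSeparated f := inferInstance
  have : LocallyQuasiFinite f := inferInstance
  have : LocallyOfFiniteType f := inferInstance
  have : QuasiCompact f := inferInstance
  have : IsOpenImmersion f.toNormalization := inferInstance
  have : IsAffineHom f.fromNormalization := inferInstance
  have : IsAffine f.normalization := isAffine_of_isAffineHom f.fromNormalization
  exact Scheme.IsQuasiAffine.of_isImmersion f.toNormalization

end Groth.Agent.Lib.Helper3.QAffDesc
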