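import Groth.Agent.Lib.Helper3.QAffDescGen
import Groth.Agent.Lib.Helper3.QAffDescZMT

set_option autoImplicit false

universe u v
open CategoryTheory CategoryTheory.Limits AlgebraicGeometry Opposite AlgSp

namespace Groth.Agent.Lib.Helper3.QAffDesc

open Groth.Agent.Lib.Helper3.AffDesc Groth.Agent.Lib.Helper3

/-- The pullback of the diagonal along `(g₁, g₂)` is the equalizer of `g₁` and `g₂`. -/
theorem isPullback_diag_of_equalizer {C : Type u} [Category.{v} C] [HasBinaryProducts C]
    {F A Q : C} (g₁ g₂ : A ⟶ F) (y : Q ⟶ A) [Mono y] (h : y ≫ g₁ = y ≫ g₂)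
    (hl : ∀ {Q' : C} (y' : Q' ⟶ A), y' ≫ g₁ = y' ≫ g₂ → ∃ l : Q' ⟶ Q, l ≫ y = y') :
    IsPullback (y ≫ g₁) y (Limits.diag F) (prod.lift g₁ g₂) := by
  have key : ∀ s : PullbackCone (Limits.diag F) (prod.lift g₁ g₂),
      s.fst = s.snd ≫ g₁ ∧ s.snd ≫ g₁ = s.snd ≫ g₂ := by
    intro s
    have h1 := congrArg (fun k => k ≫ prod.fst) s.condition
    have h2 := congrArg (fun k => k ≫ prod.snd) s.condition
    simp only [Category.assoc, prod.lift_fst, prod.lift_snd, Limits.diag] at h1 h2
    rw [Category.comp_id] at h1 h2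
    exact ⟨h1, h1.symm.trans h2⟩
  refine ⟨⟨?_⟩, ⟨PullbackCone.IsLimit.mk _ (fun s => (hl s.snd (key s).2).choose) ?_ ?_ ?_⟩⟩
  · apply prod.hom_ext
    · simp only [Limits.diag, Category.assoc, prod.lift_fst, Category.comp_id]
    · simp only [Limits.diag, Category.assoc, prod.lift_snd, Category.comp_id, h]
  · intro s
    rw [← Category.assoc, (hl s.snd (key s).2).choose_spec, (key s).1]
  · intro s
    exact (hl s.snd (key s).2).choose_spec
  · intro s m _ hm
    rw [← cancel_mono y, hm, (hl s.snd (key s).2).choose_spec]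

variable {S : Scheme.{u}}

/-- separated, locally quasi-finite and locally of finite type. -/
abbrev Plqf : MorphismProperty Scheme.{u} :=
  @IsSeparated ⊓ @LocallyQuasiFinite ⊓ @LocallyOfFiniteType

theorem plqf_of_mono {X Y : Scheme.{u}} (m : X ⟶ Y) [Mono m] [LocallyOfFiniteType m] : Plqf m :=
  ⟨⟨inferInstance, inferInstance⟩, inferInstance⟩

theorem yon_prod_hom_ext {Q' : Sp S} {U₁ U₂ : Over S} (α β : Q' ⟶ (yon S).obj (U₁ ⨯ U₂))
    (h1 : α ≫ (yon S).map prod.fst = β ≫ (yon S).map prod.fst)
    (h2 : α ≫ (yon S).map prod.snd = β ≫ (yon S).map prod.snd) : α = β := by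
  rw [← cancel_mono (prodComparison (yon S) U₁ U₂)]
  apply prod.hom_ext
  · simp only [Category.assoc, prodComparison_fst, h1]
  · simp only [Category.assoc, prodComparison_snd, h2]

/-- A sheaf with a representable étale surjective chart from a scheme has representable
diagonal. -/
theorem representable_diag_of_atlas {F : Sp S} {U : Over S} (p : (yon S).obj U ⟶ F)
    (hpe : RepWith @Etale p) (hps : RepWith @Surjective p) : Representable (Limits.diag F) := by
  intro T g
  set a := g ≫ prod.fst with ha
  set b := g ≫ prod.snd with hb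
  have hg : g = prod.lift a b := by
    apply prod.hom_ext
    · rw [prod.lift_fst]
    · rw [prod.lift_snd]
  -- charts
  let Ua := hpe.rep.pullback a
  let sa : Ua ⟶ T := hpe.rep.snd a
  let a' : Ua ⟶ U := hpe.rep.fst' a
  have sqa : IsPullback ((yon S).map a') ((yon S).map sa) p a := hpe.rep.isPullback' a
  have hsae : Etale sa.left := hpe.property_snd a
  have hsas : Surjective sa.left := hps.property a _ _ sqa
  let Ub := hpe.rep.pullback b
  let sb : Ub ⟶ T := hpe.rep.snd b
  let b' : Ub ⟶ U := hpe.rep.fst' b
  have sqb : IsPullback ((yon S).map b') ((yon S).map sb) p b := hpe.rep.isPullback' b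
  have hsbe : Etale sb.left := hpe.property_snd b
  have hsbs : Surjective sb.left := hps.property b _ _ sqb
  let T' : Over S := pullback sa sb
  let f₁ : T' ⟶ Ua := pullback.fst sa sb
  let f₂ : T' ⟶ Ub := pullback.snd sa sb
  have sqT : IsPullback f₁ f₂ sa sb := IsPullback.of_hasPullback _ _
  have sqTL : IsPullback f₁.left f₂.left sa.left sb.left := sqT.map (Over.forget S)
  have hf₁e : Etale f₁.left := MorphismProperty.of_isPullback sqTL.flip hsbe
  have hf₁s : Surjective f₁.left := MorphismProperty.of_isPullback sqTL.flip hsbs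
  let q : T' ⟶ T := f₁ ≫ sa
  have hqe : Etale q.left := by
    change Etale (f₁.left ≫ sa.left)
    infer_instance
  have hqs : Surjective q.left := by
    change Surjective (f₁.left ≫ sa.left)
    infer_instance
  let a'' : T' ⟶ U := f₁ ≫ a'
  let b'' : T' ⟶ U := f₂ ≫ b'
  have hqa : (yon S).map q ≫ a = (yon S).map a'' ≫ p := by
    change (yon S).map (f₁ ≫ sa) ≫ a = (yon S).map (f₁ ≫ a') ≫ p
    rw [CategoryTheory.Functor.map_comp, CategoryTheory.Functor.map_comp, Category.assoc,
      Category.assoc, sqa.w]
  have hqb : (yon S).map q ≫ b = (yon S).map b'' ≫ p := by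
    change (yon S).map (f₁ ≫ sa) ≫ b = (yon S).map (f₂ ≫ b') ≫ p
    rw [sqT.w, CategoryTheory.Functor.map_comp, CategoryTheory.Functor.map_comp, Category.assoc,
      Category.assoc, sqb.w]
  -- the relation
  let R := hpe.rep.pullback p
  let r₁ : R ⟶ U := hpe.rep.fst' p
  let r₂ : R ⟶ U := hpe.rep.snd p
  have kp : IsPullback ((yon S).map r₁) ((yon S).map r₂) p p := hpe.rep.isPullback' p
  have hr₂e : Etale r₂.left := hpe.property_snd p
  let m : R ⟶ U ⨯ U := prod.lift r₁ r₂
  have hm_mono : Mono m := by
    constructor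
    intro Q₀ α β hαβ
    apply (yon S).map_injective
    apply kp.hom_ext
    · rw [← CategoryTheory.Functor.map_comp, ← CategoryTheory.Functor.map_comp]
      congr 1
      have := congrArg (fun k => k ≫ prod.fst) hαβ
      simp only [Category.assoc] at this
      rw [prod.lift_fst] at this
      exact this
    · rw [← CategoryTheory.Functor.map_comp, ← CategoryTheory.Functor.map_comp]
      congr 1
      have := congrArg (fun k => k ≫ prod.snd) hαβ
      simp only [Category.assoc] at this
      rw [prod.lift_snd] at this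
      exact this
  have hm_monoL : Mono m.left := inferInstance
  have hm_lft : LocallyOfFiniteType m.left := by
    have h1 : m.left ≫ (prod.snd : U ⨯ U ⟶ U).left = r₂.left := by
      rw [← Over.comp_left, prod.lift_snd]
    have h2 : LocallyOfFiniteType (m.left ≫ (prod.snd : U ⨯ U ⟶ U).left) := by
      rw [h1]; infer_instance
    exact locallyOfFiniteType_of_comp m.left (prod.snd : U ⨯ U ⟶ U).left
  have hmP : Plqf m.left := plqf_of_mono m.left
  let E' : Over S := pullback (prod.lift a'' b'') m
  let w : E' ⟶ T' := pullback.fst _ _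
  let sE : E' ⟶ R := pullback.snd _ _
  have sqE : IsPullback w sE (prod.lift a'' b'') m := IsPullback.of_hasPullback _ _
  have sqEL : IsPullback w.left sE.left (prod.lift a'' b'').left m.left := sqE.map (Over.forget S)
  have hwP : Plqf w.left := MorphismProperty.of_isPullback sqEL.flip hmP
  have hw_mono : Mono w := inferInstance
  have hyw_mono : Mono ((yon S).map w) := inferInstance
  have hwa : w ≫ a'' = sE ≫ r₁ := by
    have := congrArg (fun k => k ≫ prod.fst) sqE.w
    simp only [Category.assoc] at this
    rw [prod.lift_fst, prod.lift_fst] at this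
    exact this
  have hwb : w ≫ b'' = sE ≫ r₂ := by
    have := congrArg (fun k => k ≫ prod.snd) sqE.w
    simp only [Category.assoc] at this
    rw [prod.lift_snd, prod.lift_snd] at this
    exact this
  have sqEy := sqE.map (yon S)
  have sq6 : IsPullback ((yon S).map w ≫ ((yon S).map q ≫ a)) ((yon S).map w) (Limits.diag F)
      (prod.lift ((yon S).map q ≫ a) ((yon S).map q ≫ b)) := by
    refine isPullback_diag_of_equalizer _ _ _ ?_ ?_
    · rw [hqa, hqb, ← CategoryTheory.Functor.map_comp_assoc, ← CategoryTheory.Functor.map_comp_assoc,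
        hwa, hwb, CategoryTheory.Functor.map_comp, CategoryTheory.Functor.map_comp, Category.assoc,
        Category.assoc, kp.w]
    · intro Q' y' hy'
      rw [hqa, hqb, ← Category.assoc, ← Category.assoc] at hy'
      refine ⟨sqEy.lift y' (kp.lift _ _ hy') ?_, sqEy.lift_fst _ _ _⟩
      apply yon_prod_hom_ext
      · rw [Category.assoc, Category.assoc, ← CategoryTheory.Functor.map_comp,
          ← CategoryTheory.Functor.map_comp, prod.lift_fst, prod.lift_fst, kp.lift_fst]
      · rw [Category.assoc, Category.assoc, ← CategoryTheory.Functor.map_comp,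
          ← CategoryTheory.Functor.map_comp, prod.lift_snd, prod.lift_snd, kp.lift_snd]
  have hqg : prod.lift ((yon S).map q ≫ a) ((yon S).map q ≫ b) = (yon S).map q ≫ g := by
    rw [hg]
    apply prod.hom_ext <;> simp
  rw [hqg] at sq6
  have t := IsPullback.of_hasPullback (Limits.diag F) g
  have sq7 := IsPullback.of_right' sq6 t
  have hq1 : Flat q.left := inferInstance
  have hq2 : LocallyOfFinitePresentation q.left := inferInstance
  have hrep : Representable (pullback.snd (Limits.diag F) g) :=
    representable_of_cover Plqf (fun g hY hg => isQuasiAffine_of_lqf g hY hg) q w hwP _ _ sq7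
  obtain ⟨G, i, fst', sqG⟩ := hrep (𝟙 _)
  have hiso : IsIso fst' := sqG.isIso_fst_of_isIso
  refine ⟨G, i, fst' ≫ pullback.fst (Limits.diag F) g, ?_⟩
  refine IsPullback.of_iso t (asIso fst').symm (Iso.refl _) (Iso.refl _) (Iso.refl _) ?_ ?_ ?_ ?_
  · simp
  · simp only [Iso.refl_hom, Category.comp_id, Iso.symm_hom, asIso_inv]
    rw [IsIso.eq_inv_comp, sqG.w, Category.comp_id]
  · simp
  · simp

end Groth.Agent.Lib.Helper3.QAffDesc
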