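import Mathlib
import Groth.Agent.Lib.Helper3.ZarGlue
set_option autoImplicit false
universe u
open CategoryTheory CategoryTheory.Limits AlgebraicGeometry TopologicalSpace Opposite

namespace Groth.Agent.Lib.Helper3

open AlgSp

variable {S : Scheme.{u}}

/-- A base change of `f` to a scheme is representable as soon as it is so over the members of an
open covering of the scheme. -/
theorem exists_isPullback_of_openCover {X Y : Sp S} (f : X ⟶ Y) {T : Over S}
    (g : (yon S).obj T ⟶ Y) {κ : Type u} (Tk : κ → Over S) (j : ∀ k, Tk k ⟶ T)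
    (hj : ∀ k, IsOpenImmersion (j k).left)
    (hcov : ∀ t : ↥T.left, ∃ k, t ∈ Set.range (j k).left)
    (h : ∀ k, ∃ (W : Over S) (i : W ⟶ Tk k) (fst : (yon S).obj W ⟶ X),
      IsPullback fst ((yon S).map i) f ((yon S).map (j k) ≫ g)) :
    ∃ (W : Over S) (i : W ⟶ T) (fst : (yon S).obj W ⟶ X),
      IsPullback fst ((yon S).map i) f g := by
  choose W i fst sq using h
  have hw : ∀ k, fst k ≫ f = (yon S).map (i k ≫ j k) ≫ g := fun k => by
    rw [(sq k).w, Functor.map_comp, Category.assoc]
  let a : ∀ k, (yon S).obj (W k) ⟶ pullback f g := fun k =>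
    pullback.lift (fst k) ((yon S).map (i k ≫ j k)) (hw k)
  have sqL : ∀ k, IsPullback (a k) ((yon S).map (i k)) (pullback.snd f g) ((yon S).map (j k)) := by
    intro k
    refine IsPullback.of_right ?_ ?_ (IsPullback.of_hasPullback f g)
    · rw [pullback.lift_fst]; exact sq k
    · rw [pullback.lift_snd, Functor.map_comp]
  have ha : ∀ k, RepWith @IsOpenImmersion (a k) := fun k =>
    MorphismProperty.of_isPullback (sqL k).flip ((repWith_yon_map_iff _ _).2 (hj k))
  have hs : ∀ x : Points (pullback f g), ∃ (k : κ) (u : ↥(W k).left), Points.ofPt (a k) u = x := by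
    intro x
    obtain ⟨t, ht⟩ := (Points.schemeHomeo T).surjective (Points.map (pullback.snd f g) x)
    obtain ⟨k, t', rfl⟩ := hcov t
    rw [← Points.map_yon_map_apply] at ht
    obtain ⟨z, -, hz⟩ := Points.exists_of_isPullback (sqL k).flip _ _ ht
    obtain ⟨u, rfl⟩ := (Points.schemeHomeo (W k)).surjective z
    exact ⟨k, u, by rw [Points.ofPt_eq_map_ofScheme]; exact hz⟩
  obtain ⟨G, e, -, -, -, -⟩ := exists_iso_yon_of_openCover a ha hs
  obtain ⟨p, hp⟩ := (yon S).map_surjective (e.hom ≫ pullback.snd f g)
  refine ⟨G, p, e.hom ≫ pullback.fst f g, ?_⟩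
  rw [hp]
  exact IsPullback.of_iso (IsPullback.of_hasPullback f g) e.symm (Iso.refl _) (Iso.refl _)
    (Iso.refl _) (by simp) (by simp) (by simp) (by simp)

/-- A morphism of sheaves is representable as soon as its base changes to affine schemes are
representable. -/
theorem representable_of_affine {X Y : Sp S} (f : X ⟶ Y)
    (h : ∀ ⦃Z : Over S⦄, IsAffine Z.left → ∀ (g : (yon S).obj Z ⟶ Y),
      ∃ (W : Over S) (i : W ⟶ Z) (fst : (yon S).obj W ⟶ X), IsPullback fst ((yon S).map i) f g) :
    Representable f := by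
  intro T g
  refine exists_isPullback_of_openCover f g (κ := T.left.affineOpens)
    (fun W => Over.mk (W.1.ι ≫ T.hom)) (fun W => Over.homMk W.1.ι rfl)
    (fun W => inferInstanceAs (IsOpenImmersion W.1.ι)) ?_ ?_
  · intro t
    obtain ⟨N, hN, htN⟩ := exists_isAffineOpen_mem_and_subset (x := t) (U := ⊤) trivial
    exact ⟨⟨N, hN⟩, ⟨t, htN.1⟩, rfl⟩
  · intro W
    exact h (Z := Over.mk (W.1.ι ≫ T.hom)) W.2 _

/-- For `P` Zariski local on the target, a representable morphism whose base changes to affine
schemes have `P` is representable with `P`. -/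
theorem repWith_of_affine (P : MorphismProperty Scheme.{u}) [IsZariskiLocalAtTarget P]
    {X Y : Sp S} (f : X ⟶ Y) (hf : Representable f)
    (h : ∀ ⦃Z : Over S⦄, IsAffine Z.left → ∀ (g : (yon S).obj Z ⟶ Y),
      ∃ (W : Over S) (i : W ⟶ Z) (fst : (yon S).obj W ⟶ X),
        IsPullback fst ((yon S).map i) f g ∧ P i.left) :
    RepWith P f := by
  have : P.RespectsIso := inferInstance
  refine ⟨hf, ?_⟩
  intro U V g fst snd sq
  change P snd.left
  refine IsZariskiLocalAtTarget.of_openCover U.left.affineCover fun k => ?_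
  let Z : Over S := Over.mk (U.left.affineCover.f k ≫ U.hom)
  let j : Z ⟶ U := Over.homMk (U.left.affineCover.f k) rfl
  have sq1 := IsPullback.of_hasPullback snd j
  have sq2 : IsPullback (pullback.fst snd j).left (pullback.snd snd j).left snd.left
      (U.left.affineCover.f k) := sq1.map (Over.forget S)
  have sq3 : IsPullback ((yon S).map (pullback.fst snd j) ≫ fst) ((yon S).map (pullback.snd snd j))
      f ((yon S).map j ≫ g) := (sq1.map (yon S)).paste_horiz sq
  obtain ⟨W, i, fstW, sqW, hi⟩ := h (Z := Z)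
    (inferInstanceAs (IsAffine (U.left.affineCover.X k))) ((yon S).map j ≫ g)
  have h4 : P (pullback.snd snd j).left := prop_of_isPullback_of_isPullback P sqW sq3 hi
  have e := sq2.isoPullback_hom_snd
  have h5 : P (sq2.isoPullback.hom ≫ pullback.snd snd.left (U.left.affineCover.f k)) := by
    rw [e]; exact h4
  exact (P.cancel_left_of_respectsIso _ _).1 h5

end Groth.Agent.Lib.Helper3
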