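import Groth.Agent.Lib.Helper3.QAffDescRep
import Groth.Agent.Lib.Helper3.AlgSpRepLocal
import Groth.Agent.S9885

set_option autoImplicit false

universe u
open CategoryTheory CategoryTheory.Limits AlgebraicGeometry Opposite AlgSp

namespace Groth.Agent.Lib.Helper3.QAffDesc

open Groth.Agent.Lib.Helper3.AffDesc Groth.Agent.Lib.Helper3

/-- A universally open surjective morphism to a quasi-compact scheme is refined by one from an
affine scheme (through a disjoint union of open immersions). -/
theorem exists_affine_open_cover {Y Z : Scheme.{u}} [CompactSpace ↥Z] (g : Y ⟶ Z)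
    [UniversallyOpen g] [Surjective g] :
    ∃ (V : Scheme.{u}) (j : V ⟶ Y), IsAffine V ∧ Etale j ∧ Surjective (j ≫ g) := by
  classical
  have key : ∀ z : ↥Z, ∃ (U : Y.Opens), IsAffineOpen U ∧ z ∈ g '' (U : Set ↥Y) := by
    intro z
    obtain ⟨y, rfl⟩ := g.surjective z
    obtain ⟨_, ⟨U, hU, rfl⟩, hyU, -⟩ := (Y.isBasis_affineOpens).exists_subset_of_mem_open
      (Set.mem_univ y) isOpen_univ
    exact ⟨U, hU, y, hyU, rfl⟩
  choose U hU hzU using key
  have hopen : ∀ z : ↥Z, IsOpen (g '' (U z : Set ↥Y)) := fun z => g.isOpenMap _ (U z).isOpen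
  obtain ⟨t, ht⟩ := isCompact_univ.elim_finite_subcover
    (fun z : ↥Z => g '' (U z : Set ↥Y)) hopen (fun z _ => Set.mem_iUnion.2 ⟨z, hzU z⟩)
  let W : (↥t) → Scheme.{u} := fun i => (U i.1 : Scheme.{u})
  have hWaff : ∀ i, IsAffine (W i) := fun i => hU i.1
  let j : (∐ W) ⟶ Y := Sigma.desc (fun i => (U i.1).ι)
  have hj : Etale j := IsZariskiLocalAtSource.sigmaDesc (P := @Etale) (fun i => inferInstance)
  refine ⟨∐ W, j, inferInstance, hj, ⟨fun z => ?_⟩⟩
  have hz := ht (Set.mem_univ z)
  simp only [Set.mem_iUnion] at hz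
  obtain ⟨z₀, hz₀, y, hy, rfl⟩ := hz
  refine ⟨(Sigma.ι W ⟨z₀, hz₀⟩) ⟨y, hy⟩, ?_⟩
  rw [Scheme.Hom.comp_apply, ← Scheme.Hom.comp_apply (Sigma.ι W ⟨z₀, hz₀⟩) j]
  have : Sigma.ι W ⟨z₀, hz₀⟩ ≫ j = (U z₀).ι := Sigma.ι_desc _ _
  rw [this]
  rfl

variable {S : Scheme.{u}}

theorem isLocallySurjective_yon_map_of_fppf {V Z : Over S} (q : V ⟶ Z) [Flat q.left]
    [LocallyOfFinitePresentation q.left] [Surjective q.left] :
    Sheaf.IsLocallySurjective ((yon S).map q) :=
  Groth.Agent.S9885.result S _ _ _ ((repWith_yon_map_iff _ q).2 inferInstance)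
    ((repWith_yon_map_iff _ q).2 inferInstance) ((repWith_yon_map_iff _ q).2 inferInstance)

/-- **Effective fppf descent for schemes whose quasi-compact opens over affines are quasi-affine**
(e.g. separated locally quasi-finite morphisms, immersions). -/
theorem representable_of_cover (P : MorphismProperty Scheme.{u}) [P.IsStableUnderBaseChange]
    (hP : ∀ {X Y : Scheme.{u}} (g : X ⟶ Y), IsAffine Y → P g → ∀ (V₀ : Scheme.{u}) (i : V₀ ⟶ X),
      IsOpenImmersion i → CompactSpace V₀ → V₀.IsQuasiAffine)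
    {T T' E' : Over S} (q : T' ⟶ T) [Flat q.left] [LocallyOfFinitePresentation q.left]
    [Surjective q.left] (w : E' ⟶ T') (hw : P w.left)
    {E : Sp S} (e : E ⟶ (yon S).obj T) (fst : (yon S).obj E' ⟶ E)
    (sq : IsPullback fst ((yon S).map w) e ((yon S).map q)) : Representable e := by
  apply representable_of_affine
  intro Z hZ g
  obtain ⟨g₀, rfl⟩ := (yon S).map_surjective g
  -- base change of the cover
  let T'Z : Over S := pullback g₀ q
  let pZ : T'Z ⟶ Z := pullback.fst g₀ q
  let gT' : T'Z ⟶ T' := pullback.snd g₀ q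
  have sqZ : IsPullback pZ gT' g₀ q := IsPullback.of_hasPullback _ _
  have sqZL : IsPullback pZ.left gT'.left g₀.left q.left := sqZ.map (Over.forget S)
  have h1 : Flat pZ.left := MorphismProperty.of_isPullback sqZL.flip inferInstance
  have h2 : LocallyOfFinitePresentation pZ.left :=
    MorphismProperty.of_isPullback sqZL.flip inferInstance
  have h3 : Surjective pZ.left := MorphismProperty.of_isPullback sqZL.flip inferInstance
  have h4 : UniversallyOpen pZ.left := inferInstance
  obtain ⟨V'₀, j, hV'aff, hje, hjs⟩ := exists_affine_open_cover pZ.left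
  let V' : Over S := Over.mk (j ≫ T'Z.hom)
  let jO : V' ⟶ T'Z := Over.homMk j rfl
  let q' : V' ⟶ Z := jO ≫ pZ
  have hq'1 : Flat q'.left := by
    change Flat (j ≫ pZ.left)
    infer_instance
  have hq'2 : LocallyOfFinitePresentation q'.left := by
    change LocallyOfFinitePresentation (j ≫ pZ.left)
    infer_instance
  have hq'3 : Surjective q'.left := hjs
  have hq'4 : UniversallyOpen q'.left := inferInstance
  have hV'aff' : IsAffine V'.left := hV'aff
  -- base change of `E'`
  let W : Over S := pullback w (jO ≫ gT')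
  let fstW : W ⟶ E' := pullback.fst _ _
  let w' : W ⟶ V' := pullback.snd _ _
  have sqW : IsPullback fstW w' w (jO ≫ gT') := IsPullback.of_hasPullback _ _
  have sqWL : IsPullback fstW.left w'.left w.left (jO ≫ gT').left := sqW.map (Over.forget S)
  have hw' : P w'.left := MorphismProperty.of_isPullback sqWL hw
  have hcomm : (jO ≫ gT') ≫ q = q' ≫ g₀ := by
    change (jO ≫ gT') ≫ q = (jO ≫ pZ) ≫ g₀
    rw [Category.assoc, Category.assoc, sqZ.w]
  have sq6 : IsPullback ((yon S).map fstW ≫ fst) ((yon S).map w') e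
      ((yon S).map q' ≫ (yon S).map g₀) := by
    rw [← CategoryTheory.Functor.map_comp, ← hcomm, CategoryTheory.Functor.map_comp]
    exact (sqW.map (yon S)).paste_horiz sq
  have t := IsPullback.of_hasPullback e ((yon S).map g₀)
  have sq7 := IsPullback.of_right' sq6 t
  have hq' : Sheaf.IsLocallySurjective ((yon S).map q') := isLocallySurjective_yon_map_of_fppf q'
  obtain ⟨G, ⟨ε⟩⟩ := exists_rep_of_cover q' w' hq' (hP w'.left hV'aff' hw')
    (pullback.snd e ((yon S).map g₀)) _ sq7
  obtain ⟨i, hi⟩ := (yon S).map_surjective (ε.hom ≫ pullback.snd e ((yon S).map g₀))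
  refine ⟨G, i, ε.hom ≫ pullback.fst e ((yon S).map g₀), ?_⟩
  refine IsPullback.of_iso t ε.symm (Iso.refl _) (Iso.refl _) (Iso.refl _) ?_ ?_ ?_ ?_
  · simp
  · simp only [Iso.refl_hom, Category.comp_id, Iso.symm_hom]
    rw [hi, Iso.inv_hom_id_assoc]
  · simp
  · simp

end Groth.Agent.Lib.Helper3.QAffDesc
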