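import Groth.Agent.Lib.Helper3.AlgSpFpqc2
import Groth.Agent.Lib.Helper3.AlgSpQC4
import Groth.Agent.Lib.lead.UnivSubtrAffine
set_option autoImplicit false
universe u
open CategoryTheory CategoryTheory.Limits AlgebraicGeometry Opposite MorphismProperty Topology

namespace Groth.Agent.Lib.Helper3.SpUC

open AlgSp Groth.Agent.Lib.lead.UnivClosedAffine Groth.Agent.Lib.lead.UnivSubtrAffine
open Groth.Agent.Lib.Helper3

variable {S : Scheme.{u}} {B : Type u} [CommRing B] (sB : Spec (CommRingCat.of B) ⟶ S)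

/-- `Spec B` over `S` -/
noncomputable abbrev V0 : Over S := Over.mk sB

/-- `Spec C` over `S`, for a `B`-algebra `C` -/
noncomputable abbrev TC (C : Type u) [CommRing C] [Algebra B C] : Over S :=
  Over.mk (Spec.map (CommRingCat.ofHom (algebraMap B C)) ≫ sB)

/-- `Spec C → Spec B` over `S` -/
noncomputable def cC (C : Type u) [CommRing C] [Algebra B C] : TC sB C ⟶ V0 sB :=
  Over.homMk (Spec.map (CommRingCat.ofHom (algebraMap B C))) rfl

/-- `Spec C' → Spec C` over `S` for a `B`-algebra map -/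
noncomputable def cAlg {C C' : Type u} [CommRing C] [Algebra B C] [CommRing C'] [Algebra B C']
    (α : C →ₐ[B] C') : TC sB C' ⟶ TC sB C :=
  Over.homMk (Spec.map (CommRingCat.ofHom α.toRingHom)) (by
    change Spec.map _ ≫ Spec.map _ ≫ sB = Spec.map _ ≫ sB
    rw [← Category.assoc, ← Spec.map_comp]
    congr 2
    ext x
    exact α.commutes x)

theorem cAlg_cC {C C' : Type u} [CommRing C] [Algebra B C] [CommRing C'] [Algebra B C']
    (α : C →ₐ[B] C') : cAlg sB α ≫ cC sB C = cC sB C' := by
  apply Over.OverMorphism.ext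
  change Spec.map _ ≫ Spec.map _ = Spec.map _
  rw [← Spec.map_comp]
  congr 1
  ext x
  exact α.commutes x

section
variable {U : Over S} (g : U ⟶ V0 sB)

/-- the base change `U_C` as an object over `S` -/
noncomputable abbrev UC (C : Type u) [CommRing C] [Algebra B C] : Over S :=
  Over.mk (pullback.snd g.left (Spec.map (CommRingCat.ofHom (algebraMap B C))) ≫ (TC sB C).hom)

noncomputable def uFst (C : Type u) [CommRing C] [Algebra B C] : UC sB g C ⟶ U :=
  Over.homMk (pullback.fst g.left (Spec.map (CommRingCat.ofHom (algebraMap B C)))) (by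
    have hg : g.left ≫ sB = U.hom := Over.w g
    change pullback.fst _ _ ≫ U.hom = pullback.snd _ _ ≫ Spec.map _ ≫ sB
    rw [← hg, ← Category.assoc, pullback.condition, Category.assoc])

noncomputable def uSnd (C : Type u) [CommRing C] [Algebra B C] : UC sB g C ⟶ TC sB C :=
  Over.homMk (pullback.snd g.left (Spec.map (CommRingCat.ofHom (algebraMap B C)))) rfl

theorem isPullback_UC (C : Type u) [CommRing C] [Algebra B C] :
    IsPullback (uFst sB g C) (uSnd sB g C) g (cC sB C) := by
  refine IsPullback.of_map (Over.forget S) ?_ ?_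
  · ext
    exact pullback.condition
  · exact IsPullback.of_hasPullback _ _

/-- the transition map `U_{C'} → U_C` over `S` -/
noncomputable def aTo {C C' : Type u} [CommRing C] [Algebra B C] [CommRing C'] [Algebra B C']
    (α : C →ₐ[B] C') : UC sB g C' ⟶ UC sB g C :=
  Over.homMk (aT g.left α) (by
    change aT g.left α ≫ pullback.snd _ _ ≫ (TC sB C).hom = pullback.snd _ _ ≫ (TC sB C').hom
    rw [← Category.assoc, aT_snd, Category.assoc]
    congr 1
    exact Over.w (cAlg sB α))

theorem aTo_uFst {C C' : Type u} [CommRing C] [Algebra B C] [CommRing C'] [Algebra B C']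
    (α : C →ₐ[B] C') : aTo sB g α ≫ uFst sB g C = uFst sB g C' := by
  apply Over.OverMorphism.ext
  exact aT_fst α

theorem aTo_uSnd {C C' : Type u} [CommRing C] [Algebra B C] [CommRing C'] [Algebra B C']
    (α : C →ₐ[B] C') : aTo sB g α ≫ uSnd sB g C = uSnd sB g C' ≫ cAlg sB α := by
  apply Over.OverMorphism.ext
  exact aT_snd α

end


section core

variable {X₀ : Sp S} (f₀ : X₀ ⟶ (yon S).obj (V0 sB)) {U : Over S} (π : (yon S).obj U ⟶ X₀)
  (g : U ⟶ V0 sB) (hg : (yon S).map g = π ≫ f₀)

section onepiece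
variable {C : Type u} [CommRing C] [Algebra B C] {P : Sp S} {fst : P ⟶ X₀}
  {snd : P ⟶ (yon S).obj (TC sB C)} (sq : IsPullback fst snd f₀ ((yon S).map (cC sB C)))

include hg in
theorem piC_w : ((yon S).map (uFst sB g C) ≫ π) ≫ f₀ =
    (yon S).map (uSnd sB g C) ≫ (yon S).map (cC sB C) := by
  rw [Category.assoc, ← hg, ← Functor.map_comp, ← Functor.map_comp, (isPullback_UC sB g C).w]

/-- the chart `U_C → X_C` -/
noncomputable def piC : (yon S).obj (UC sB g C) ⟶ P :=
  sq.lift ((yon S).map (uFst sB g C) ≫ π) ((yon S).map (uSnd sB g C)) (piC_w sB f₀ π g hg)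

theorem piC_fst : piC sB f₀ π g hg sq ≫ fst = (yon S).map (uFst sB g C) ≫ π := sq.lift_fst _ _ _

theorem piC_snd : piC sB f₀ π g hg sq ≫ snd = (yon S).map (uSnd sB g C) := sq.lift_snd _ _ _

theorem isPullback_piC :
    IsPullback ((yon S).map (uFst sB g C)) (piC sB f₀ π g hg sq) π fst := by
  have s : IsPullback (piC sB f₀ π g hg sq ≫ snd) ((yon S).map (uFst sB g C))
      ((yon S).map (cC sB C)) (π ≫ f₀) := by
    rw [piC_snd, ← hg]
    exact ((isPullback_UC sB g C).map (yon S)).flip
  exact (IsPullback.of_right s (piC_fst sB f₀ π g hg sq) sq.flip).flip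

end onepiece

section twopieces
variable {C C' : Type u} [CommRing C] [Algebra B C] [CommRing C'] [Algebra B C']
  (α : C →ₐ[B] C')
  {P : Sp S} {fst : P ⟶ X₀} {snd : P ⟶ (yon S).obj (TC sB C)}
  (sq : IsPullback fst snd f₀ ((yon S).map (cC sB C)))
  {P' : Sp S} {fst' : P' ⟶ X₀} {snd' : P' ⟶ (yon S).obj (TC sB C')}
  (sq' : IsPullback fst' snd' f₀ ((yon S).map (cC sB C')))

include sq' in
theorem aSp_w : fst' ≫ f₀ = (snd' ≫ (yon S).map (cAlg sB α)) ≫ (yon S).map (cC sB C) := by
  rw [Category.assoc, ← Functor.map_comp, cAlg_cC, sq'.w]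

/-- the transition map `X_{C'} → X_C` -/
noncomputable def aSp : P' ⟶ P := sq.lift fst' (snd' ≫ (yon S).map (cAlg sB α)) (aSp_w sB f₀ α sq')

theorem aSp_fst : aSp sB f₀ α sq sq' ≫ fst = fst' := sq.lift_fst _ _ _

theorem aSp_snd : aSp sB f₀ α sq sq' ≫ snd = snd' ≫ (yon S).map (cAlg sB α) := sq.lift_snd _ _ _

theorem isPullback_aSp :
    IsPullback (aSp sB f₀ α sq sq') snd' snd ((yon S).map (cAlg sB α)) := by
  have s : IsPullback snd' (aSp sB f₀ α sq sq' ≫ fst)
      ((yon S).map (cAlg sB α) ≫ (yon S).map (cC sB C)) f₀ := by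
    rw [aSp_fst, ← Functor.map_comp, cAlg_cC]
    exact sq'.flip
  exact (IsPullback.of_bot s (aSp_snd sB f₀ α sq sq').symm sq.flip).flip

theorem aTo_piC : (yon S).map (aTo sB g α) ≫ piC sB f₀ π g hg sq =
    piC sB f₀ π g hg sq' ≫ aSp sB f₀ α sq sq' := by
  apply sq.hom_ext
  · rw [Category.assoc, piC_fst, Category.assoc, aSp_fst, piC_fst, ← Category.assoc,
      ← Functor.map_comp, aTo_uFst]
  · rw [Category.assoc, piC_snd, Category.assoc, aSp_snd, ← Category.assoc, piC_snd,
      ← Functor.map_comp, ← Functor.map_comp, aTo_uSnd]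

theorem isPullback_aTo_piC :
    IsPullback ((yon S).map (aTo sB g α)) (piC sB f₀ π g hg sq') (piC sB f₀ π g hg sq)
      (aSp sB f₀ α sq sq') := by
  have s : IsPullback ((yon S).map (aTo sB g α) ≫ (yon S).map (uFst sB g C))
      (piC sB f₀ π g hg sq') π (aSp sB f₀ α sq sq' ≫ fst) := by
    rw [aSp_fst, ← Functor.map_comp, aTo_uFst]
    exact isPullback_piC sB f₀ π g hg sq'
  exact IsPullback.of_right s (aTo_piC sB f₀ π g hg α sq sq') (isPullback_piC sB f₀ π g hg sq)

end twopieces

theorem ofPt_yon_map {T T' : Over S} (φ : T ⟶ T') (u : ↥T.left) :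
    Points.ofPt ((yon S).map φ) u = Points.schemeHomeo T' (φ.left u) := by
  rw [Points.ofPt_eq_map_ofScheme]
  exact Points.map_yon_map_apply φ u

theorem ofPt_surjective {F : Sp S} {T : Over S} (a : (yon S).obj T ⟶ F)
    (ha : RepWith @Surjective a) : Function.Surjective (Points.ofPt a) := by
  rw [Points.ofPt_eq]
  exact (surjective_map_of_repWith ha).comp (Points.schemeHomeo T).surjective

theorem isOpenMap_ofPt {F : Sp S} {T : Over S} (a : (yon S).obj T ⟶ F)
    (ha : RepWith @Etale a) : IsOpenMap (Points.ofPt a) := by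
  rw [Points.ofPt_eq]
  exact (isOpenMap_map_of_etale ha).comp (Points.schemeHomeo T).isOpenMap

theorem ofPt_comp_yon_map {F : Sp S} {T T' : Over S} (φ : T ⟶ T') (a : (yon S).obj T' ⟶ F)
    (u : ↥T.left) : Points.ofPt ((yon S).map φ ≫ a) u = Points.ofPt a (φ.left u) := by
  rw [← Points.map_ofPt, ofPt_yon_map, Points.ofPt_eq_map_ofScheme]
  rfl

include hg in
/-- the core closedness statement: closedness after base change to polynomial rings implies
closedness after any affine base change -/
theorem core (hπe : RepWith @Etale π) (hπs : RepWith @Surjective π) [QuasiCompact g.left]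
    (Htest : ∀ (n : Type u) [Finite n] [Nonempty n] (P : Sp S) (fst : P ⟶ X₀)
      (snd : P ⟶ (yon S).obj (TC sB (MvPolynomial n B))),
      IsPullback fst snd f₀ ((yon S).map (cC sB (MvPolynomial n B))) →
        IsClosedMap (Points.map snd))
    (B' : Type u) [CommRing B'] [Algebra B B'] {P' : Sp S} {fst' : P' ⟶ X₀}
    {snd' : P' ⟶ (yon S).obj (TC sB B')}
    (sq' : IsPullback fst' snd' f₀ ((yon S).map (cC sB B'))) :
    IsClosedMap (Points.map snd') := by
  apply isClosedMap_of_forall_compl_image_mem_nhds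
  intro Z hZ t ht
  let pt : Spec (CommRingCat.of B') := (Points.schemeHomeo (TC sB B')).symm t
  have hpt : Points.schemeHomeo (TC sB B') pt = t := Homeomorph.apply_symm_apply _ t
  have hπ'e : RepWith @Etale (piC sB f₀ π g hg sq') :=
    MorphismProperty.of_isPullback (isPullback_piC sB f₀ π g hg sq') hπe
  have hπ's : RepWith @Surjective (piC sB f₀ π g hg sq') :=
    MorphismProperty.of_isPullback (isPullback_piC sB f₀ π g hg sq') hπs
  have hFπ : ∀ u : ↥(UC sB g B').left, Points.map snd' (Points.ofPt (piC sB f₀ π g hg sq') u) =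
      Points.schemeHomeo (TC sB B') ((uSnd sB g B').left u) := by
    intro u
    rw [Points.map_ofPt, piC_snd, ofPt_yon_map]
  let W : Set ↥(PB B' g.left) := Points.ofPt (piC sB f₀ π g hg sq') ⁻¹' Zᶜ
  have hW : IsOpen W := hZ.isOpen_compl.preimage (Points.continuous_ofPt _)
  have hfibW : (pullback.snd g.left (Spec.map (CommRingCat.ofHom (algebraMap B B')))).base ⁻¹' {pt}
      ⊆ W := by
    intro u hu hzu
    apply ht
    refine ⟨Points.ofPt (piC sB f₀ π g hg sq') u, hzu, ?_⟩
    rw [hFπ, ← hpt]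
    congr 1
  obtain ⟨n, hfin, hne, α, O'U, hO'U, hsub, hfib⟩ := exists_test g.left B' pt W hW hfibW
  have sq : IsPullback (pullback.fst f₀ ((yon S).map (cC sB (MvPolynomial n B))))
      (pullback.snd f₀ ((yon S).map (cC sB (MvPolynomial n B)))) f₀ _ :=
    IsPullback.of_hasPullback _ _
  have hπCe : RepWith @Etale (piC sB f₀ π g hg sq) :=
    MorphismProperty.of_isPullback (isPullback_piC sB f₀ π g hg sq) hπe
  let O' : Set (Points (pullback f₀ ((yon S).map (cC sB (MvPolynomial n B))))) :=
    Points.ofPt (piC sB f₀ π g hg sq) '' O'U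
  have hO' : IsOpen O' := isOpenMap_ofPt _ hπCe _ hO'U
  have hcompat : ∀ u : ↥(UC sB g B').left,
      Points.map (aSp sB f₀ α sq sq') (Points.ofPt (piC sB f₀ π g hg sq') u) =
        Points.ofPt (piC sB f₀ π g hg sq) ((aT g.left α).base u) := by
    intro u
    rw [Points.map_ofPt, ← aTo_piC, ofPt_comp_yon_map]
    rfl
  refine compl_image_mem_nhds (Points.map snd')
    (Points.map (pullback.snd f₀ ((yon S).map (cC sB (MvPolynomial n B)))))
    (Points.map ((yon S).map (cAlg sB α))) (Points.map (aSp sB f₀ α sq sq'))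
    (Points.continuous_map _) (fun z => ?_) (fun t z' e => ?_) (Htest n _ _ _ sq) Z O' hO' t
    (fun z hzt => ?_) (fun z hzZ hcon => ?_)
  · rw [← Points.map_comp, ← Points.map_comp, aSp_snd]
  · obtain ⟨z, hz1, hz2⟩ := Points.exists_of_isPullback (isPullback_aSp sB f₀ α sq sq') z' t e
    exact ⟨z, hz1, hz2⟩
  · obtain ⟨u, rfl⟩ := ofPt_surjective _ hπ's z
    rw [hcompat]
    refine ⟨_, hfib ?_, rfl⟩
    change (uSnd sB g B').left u = pt
    apply (Points.schemeHomeo (TC sB B')).injective
    rw [← hFπ, hzt, hpt]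
  · obtain ⟨w, hw, hwz⟩ := hcon
    have hwz' : Points.map (piC sB f₀ π g hg sq) (Points.schemeHomeo _ w) =
        Points.map (aSp sB f₀ α sq sq') z := by
      rw [← hwz, Points.ofPt_eq_map_ofScheme]
      rfl
    obtain ⟨y, hy1, hy2⟩ := Points.exists_of_isPullback
      (isPullback_aTo_piC sB f₀ π g hg α sq sq') (Points.schemeHomeo _ w) z hwz'
    obtain ⟨u, rfl⟩ := (Points.schemeHomeo (UC sB g B')).surjective y
    rw [Points.map_yon_map_apply] at hy1
    have hu : (aT g.left α).base u = w := (Points.schemeHomeo _).injective hy1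
    have huW : u ∈ W := hsub (show (aT g.left α).base u ∈ O'U from hu ▸ hw)
    apply huW
    rw [Points.ofPt_eq_map_ofScheme]
    change Points.map _ (Points.schemeHomeo _ u) ∈ Z
    rw [hy2]
    exact hzZ

end core

end Groth.Agent.Lib.Helper3.SpUC
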