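import Groth.Agent.Lib.Helper3.AlgSpMonoPt
import Groth.Agent.Lib.Helper3.AlgSpLocal
import Groth.Agent.Lib.Helper3.AlgSpOpenSub
import Groth.Agent.Lib.Helper3.AlgSpChartPts
import Groth.Agent.S9928

set_option autoImplicit false
universe u
open CategoryTheory CategoryTheory.Limits AlgebraicGeometry Opposite

namespace Groth.Agent.Lib.Helper3

variable {S : Scheme.{u}}

open AlgSp

theorem isPullback_of_comp_mono' {D : Type*} [Category D] {P X Y Z Z' : D} {fst : P ⟶ X}
    {snd : P ⟶ Y} {f : X ⟶ Z} {g : Y ⟶ Z} (i : Z ⟶ Z') [Mono i]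
    (h : IsPullback fst snd (f ≫ i) (g ≫ i)) : IsPullback fst snd f g := by
  refine IsPullback.mk' ?_ ?_ ?_
  · rw [← cancel_mono i, Category.assoc, Category.assoc, h.w]
  · intro T φ φ' h1 h2
    exact h.hom_ext h1 h2
  · intro T a b hab
    have : a ≫ f ≫ i = b ≫ g ≫ i := by rw [← Category.assoc, hab, Category.assoc]
    exact ⟨h.lift a b this, h.lift_fst _ _ _, h.lift_snd _ _ _⟩

/-- To check `RepWith P f` for a Zariski-local `P` it suffices to exhibit, for every test scheme,
an open cover over the members of which some represented pullback has `P`. -/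
theorem repWith_of_forall_openCover (P : MorphismProperty Scheme.{u}) [IsZariskiLocalAtTarget P]
    {F G : Sp S} (f : F ⟶ G) (hf : Representable f)
    (h : ∀ ⦃T : Over S⦄ (k : (yon S).obj T ⟶ G), ∃ 𝒰 : T.left.OpenCover, ∀ i : 𝒰.I₀,
      ∃ (V : Over S) (fst : (yon S).obj V ⟶ F) (snd : V ⟶ Over.mk (𝒰.f i ≫ T.hom)),
        IsPullback fst ((yon S).map snd) f
          ((yon S).map (Over.homMk (𝒰.f i) rfl : Over.mk (𝒰.f i ≫ T.hom) ⟶ T) ≫ k) ∧
        P snd.left) :
    RepWith P f := by
  refine ⟨hf, fun T E k e ι sqE => ?_⟩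
  change P ι.left
  obtain ⟨𝒰, h𝒰⟩ := h k
  rw [IsZariskiLocalAtTarget.iff_of_openCover (P := P) 𝒰]
  intro i
  let Ti : Over S := Over.mk (𝒰.f i ≫ T.hom)
  let incl : Ti ⟶ T := Over.homMk (𝒰.f i)
  obtain ⟨V, fst', snd', sq', hP⟩ := h𝒰 i
  have sq'' := Groth.Agent.S9884.isPullback_base_change sqE incl
  have h1 : P (pullback.snd ι incl).left := prop_of_isPullback_of_isPullback P sq' sq'' hP
  have sqL : IsPullback (pullback.fst ι incl).left (pullback.snd ι incl).left ι.left (𝒰.f i) :=
    (IsPullback.of_hasPullback ι incl).map (Over.forget S)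
  have e := sqL.isoPullback_hom_snd
  change P (pullback.snd ι.left (𝒰.f i))
  rw [← P.cancel_left_of_respectsIso sqL.isoPullback.hom, e]
  exact h1

/-- A monomorphism of sheaves is injective on points. -/
theorem Points.map_injective_of_mono {F G : Sp S} (f : F ⟶ G) [Mono f] :
    Function.Injective (Points.map f) := by
  intro x y hxy
  obtain ⟨K, _, strK, a, rfl⟩ := Points.exists_hom x
  obtain ⟨L, _, strL, b, rfl⟩ := Points.exists_hom y
  rw [Points.map_mk_fieldPtOfHom, Points.map_mk_fieldPtOfHom, mk_fieldPtOfHom_eq_iff] at hxy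
  obtain ⟨Ω, _, w, c, d, h⟩ := hxy
  rw [mk_fieldPtOfHom_eq_iff]
  refine ⟨Ω, inferInstance, w, c, d, ?_⟩
  rw [← cancel_mono f]
  simpa only [Category.assoc] using h

theorem mono_of_repWith_isOpenImmersion {F G : Sp S} (j : F ⟶ G)
    (hj : RepWith @IsOpenImmersion j) : Mono j :=
  Groth.Agent.S9928.mono_of_repWith @IsOpenImmersion
    (fun g hg => by have : IsOpenImmersion g := hg; infer_instance) j hj

/-- If the point of a monomorphic field-valued point `g` of `X` lies in the image of a
monomorphism `j : Xl ⟶ X` from a decent algebraic space, then `g` factors through `j` by a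
representable quasi-compact morphism. -/
theorem exists_factor_qc_of_mem_range {X Xl : Sp S} (hX : IsAlgSpace X)
    (j : Xl ⟶ X) [Mono j] (hd : IsDecent Xl) (g : FieldPt X) [Mono g.toHom]
    (hx : Points.mk g ∈ Set.range (Points.map j)) :
    ∃ gl : (yon S).obj g.pt ⟶ Xl, gl ≫ j = g.toHom ∧ RepWith @QuasiCompact gl := by
  obtain ⟨xl, hxl⟩ := hx
  obtain ⟨p', hp', hp'm, hp'q⟩ := hd xl
  have hmono : Mono (p'.map j).toHom := by
    rw [FieldPt.toHom_map]; exact @mono_comp _ _ _ _ _ _ hp'm _ inferInstance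
  have hmk : Points.mk (p'.map j) = Points.mk g := by
    rw [← Points.map_mk, hp', hxl]
  obtain ⟨c, hc⟩ := exists_factor_of_mono_fieldPt hX (p'.map j) g hmk
  refine ⟨(yon S).map c ≫ p'.toHom, ?_, ?_⟩
  · have e : (p'.map j).toHom = p'.toHom ≫ j := FieldPt.toHom_map j p'
    rw [Category.assoc]
    exact (congrArg (fun t => (yon S).map c ≫ t) e).symm.trans hc
  · refine (RepWith @QuasiCompact).comp_mem _ _ ?_ hp'q
    rw [repWith_yon_map_iff]
    exact quasiCompact_of_field (K := g.K) c.left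

/-- A morphism of schemes with empty source is quasi-compact. -/
theorem quasiCompact_of_isEmpty {A B : Scheme.{u}} (f : A ⟶ B) [IsEmpty ↥A] : QuasiCompact f := by
  refine ⟨fun U _ _ => ?_⟩
  have : (f ⁻¹' U) = ∅ := Set.eq_empty_of_isEmpty _
  rw [this]; exact isCompact_empty

end Groth.Agent.Lib.Helper3
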