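import Mathlib
import Groth.Agent.Lib.Helper4.GrpdAffOpen

set_option autoImplicit false
universe u

namespace Groth.Agent.Lib.Helper3.QFAff

open CategoryTheory CategoryTheory.Limits AlgebraicGeometry TopologicalSpace
open Groth.Agent.Lib.Helper4

/-- finitely many points lie in a quasi-compact open -/
theorem exists_isCompact_open_of_finite {X : Scheme.{u}} (E : Set X) (hE : E.Finite) :
    ∃ V : X.Opens, IsCompact (V : Set X) ∧ E ⊆ V := by
  induction E, hE using Set.Finite.induction_on with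
  | empty => exact ⟨⊥, by simp, Set.empty_subset _⟩
  | @insert x E hxE hEfin ih =>
    obtain ⟨V, hV, hEV⟩ := ih
    obtain ⟨W, hW, hxW, -⟩ := exists_isAffineOpen_mem_and_subset (x := x) (U := ⊤) trivial
    refine ⟨V ⊔ W, hV.union hW.isCompact, Set.insert_subset (Or.inr hxW) ?_⟩
    exact hEV.trans (fun y hy => Or.inl hy)

/-- **Finite sets of points of a scheme separated and locally quasi-finite over an affine scheme
lie in an affine open.** -/
theorem exists_isAffineOpen_of_finite {X A : Scheme.{u}} [IsAffine A] (f : X ⟶ A)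
    [IsSeparated f] [LocallyQuasiFinite f] [LocallyOfFiniteType f] (E : Set X) (hE : E.Finite) :
    ∃ V : X.Opens, IsAffineOpen V ∧ E ⊆ V := by
  obtain ⟨X₁, hX₁, hEX₁⟩ := exists_isCompact_open_of_finite E hE
  let f₁ : (X₁ : Scheme.{u}) ⟶ A := X₁.ι ≫ f
  haveI : CompactSpace ↥(X₁ : Scheme.{u}) := isCompact_iff_compactSpace.mp hX₁
  haveI : QuasiCompact f₁ := inferInstance
  haveI : IsSeparated f₁ := inferInstance
  haveI : LocallyQuasiFinite f₁ := inferInstance
  haveI : LocallyOfFiniteType f₁ := inferInstance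
  haveI : IsOpenImmersion f₁.toNormalization := inferInstance
  haveI : IsAffineHom f₁.fromNormalization := inferInstance
  haveI : IsAffine f₁.normalization := isAffine_of_isAffineHom f₁.fromNormalization
  let E₁ : Set ↥(X₁ : Scheme.{u}) := X₁.ι ⁻¹' E
  have hE₁ : E₁.Finite := hE.preimage X₁.ι.isOpenEmbedding.injective.injOn
  obtain ⟨g, hg1, hg2⟩ := GrpdAffOpen.exists_basicOpen_of_finite (Y := f₁.normalization)
    (f₁.toNormalization '' E₁) (hE₁.image _) f₁.toNormalization.opensRange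
    (by rintro _ ⟨x, -, rfl⟩; exact ⟨x, rfl⟩)
  let V₁ : (X₁ : Scheme.{u}).Opens := f₁.toNormalization ⁻¹ᵁ f₁.normalization.basicOpen g
  have hV₁ : IsAffineOpen V₁ :=
    ((isAffineOpen_top f₁.normalization).basicOpen g).preimage_of_isOpenImmersion
      f₁.toNormalization hg2
  refine ⟨X₁.ι ''ᵁ V₁, hV₁.image_of_isOpenImmersion X₁.ι, ?_⟩
  intro x hx
  have hx₁ : x ∈ X₁ := hEX₁ hx
  refine ⟨⟨x, hx₁⟩, ?_, rfl⟩
  exact hg1 ⟨⟨x, hx₁⟩, hx, rfl⟩

end Groth.Agent.Lib.Helper3.QFAff
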