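import Mathlib

set_option autoImplicit false
universe u

namespace Groth.Agent.Lib.Helper3.GQ

open Matrix

section Bas

variable {A : Type u} [CommRing A] {n r : ℕ}

/-- Over the target of `φ`, the columns of `X` form a basis of the image of the idempotent `E`
(matrix formulation). -/
def Bas {L : Type*} [CommRing L] (E : Matrix (Fin n) (Fin n) A) (X : Matrix (Fin n) (Fin r) A)
    (φ : A →+* L) : Prop :=
  ∃ Y : Matrix (Fin r) (Fin n) L, X.map φ * Y = E.map φ ∧ Y * X.map φ = 1

theorem Bas.comp {L L' : Type*} [CommRing L] [CommRing L'] {E : Matrix (Fin n) (Fin n) A}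
    {X : Matrix (Fin n) (Fin r) A} {φ : A →+* L} (h : Bas E X φ) (ψ : L →+* L') :
    Bas E X (ψ.comp φ) := by
  obtain ⟨Y, h1, h2⟩ := h
  have hX : X.map (ψ.comp φ) = (X.map φ).map ψ := by ext; simp
  have hE : E.map (ψ.comp φ) = (E.map φ).map ψ := by ext; simp
  refine ⟨Y.map ψ, ?_, ?_⟩
  · rw [hX, hE, ← Matrix.map_mul, h1]
  · rw [hX, ← Matrix.map_mul, h2, Matrix.map_one ψ (map_zero ψ) (map_one ψ)]

theorem Bas.of_comp_field {K K' : Type*} [Field K] [Field K'] {E : Matrix (Fin n) (Fin n) A}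
    {X : Matrix (Fin n) (Fin r) A} (φ : A →+* K) (ψ : K →+* K') (h : Bas E X (ψ.comp φ)) :
    Bas E X φ := by
  obtain ⟨Y, h1, h2⟩ := h
  letI := ψ.toAlgebra
  have hinj : LinearMap.ker (Algebra.linearMap K K') = ⊥ :=
    LinearMap.ker_eq_bot.2 (RingHom.injective ψ)
  obtain ⟨π, hπ⟩ := LinearMap.exists_leftInverse_of_injective (Algebra.linearMap K K') hinj
  have hπ1 : ∀ k : K, π (ψ k) = k := fun k => by
    have := LinearMap.congr_fun hπ k
    simp only [LinearMap.comp_apply, Algebra.linearMap_apply, LinearMap.id_apply] at this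
    exact this
  have hπmul : ∀ (c : K) (y : K'), π (ψ c * y) = c * π y := fun c y => by
    have : ψ c * y = c • y := by rw [Algebra.smul_def]; rfl
    rw [this, map_smul, smul_eq_mul]
  have hπmul' : ∀ (c : K) (y : K'), π (y * ψ c) = π y * c := fun c y => by
    rw [mul_comm, hπmul, mul_comm]
  refine ⟨Y.map π, ?_, ?_⟩
  · ext i j
    have := congrFun (congrFun h1 i) j
    simp only [Matrix.mul_apply, Matrix.map_apply, RingHom.comp_apply] at this ⊢
    rw [← hπ1 (φ (E i j)), ← this, map_sum]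
    exact Finset.sum_congr rfl fun k _ => (hπmul _ _).symm
  · ext i j
    have := congrFun (congrFun h2 i) j
    simp only [Matrix.mul_apply, Matrix.map_apply, RingHom.comp_apply] at this ⊢
    have h3 : π ((1 : Matrix (Fin r) (Fin r) K') i j) = (1 : Matrix (Fin r) (Fin r) K) i j := by
      by_cases hij : i = j
      · subst hij; simp only [Matrix.one_apply_eq]; rw [← map_one ψ, hπ1]
      · simp only [Matrix.one_apply_ne hij, map_zero]
    rw [← h3, ← this, map_sum]
    exact Finset.sum_congr rfl fun k _ => (hπmul' _ _).symm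

end Bas

section LG

variable {C A : Type u} [CommRing C] [CommRing A] [Algebra C A] [Algebra.IsIntegral C A]

theorem exists_notMem_of_forall_prime (p : Ideal C) [p.IsPrime] (𝔟 : Ideal A)
    (h : ∀ q : Ideal A, q.IsPrime → q.comap (algebraMap C A) = p → ¬ 𝔟 ≤ q) :
    ∃ c : C, c ∉ p ∧ algebraMap C A c ∈ 𝔟 := by
  by_contra hcon
  push Not at hcon
  have hle : 𝔟.comap (algebraMap C A) ≤ p := by
    intro c hc
    by_contra hcp
    exact hcon c hcp hc
  obtain ⟨Q, hQ, hQp, hQc⟩ := Ideal.exists_ideal_over_prime_of_isIntegral p 𝔟 hle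
  exact h Q hQp hQc hQ

end LG

section Frac

variable {A : Type u} [CommRing A]

/-- The map to the residue field `Frac (A/q)`. -/
noncomputable def toFrac (q : Ideal A) [q.IsPrime] : A →+* FractionRing (A ⧸ q) :=
  (algebraMap (A ⧸ q) (FractionRing (A ⧸ q))).comp (Ideal.Quotient.mk q)

theorem toFrac_eq_zero_iff (q : Ideal A) [q.IsPrime] (a : A) : toFrac q a = 0 ↔ a ∈ q := by
  unfold toFrac
  rw [RingHom.comp_apply, map_eq_zero_iff _ (IsFractionRing.injective (A ⧸ q) _),
    Ideal.Quotient.eq_zero_iff_mem]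

theorem clear_denoms (q : Ideal A) [q.IsPrime] {m k : ℕ}
    (Y : Matrix (Fin m) (Fin k) (FractionRing (A ⧸ q))) :
    ∃ d : A, d ∉ q ∧ ∃ Y' : Matrix (Fin m) (Fin k) A, Y'.map (toFrac q) = toFrac q d • Y := by
  obtain ⟨b, hb⟩ := IsLocalization.exist_integer_multiples_of_finite (nonZeroDivisors (A ⧸ q))
    (fun ij : Fin m × Fin k => Y ij.1 ij.2)
  obtain ⟨d, hd⟩ := Ideal.Quotient.mk_surjective (b : A ⧸ q)
  have hdq : d ∉ q := by
    intro hdq
    have : (b : A ⧸ q) = 0 := by rw [← hd]; exact Ideal.Quotient.eq_zero_iff_mem.2 hdq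
    exact nonZeroDivisors.coe_ne_zero b this
  choose a' ha' using hb
  choose a ha using fun ij => Ideal.Quotient.mk_surjective (a' ij)
  refine ⟨d, hdq, Matrix.of fun i j => a (i, j), ?_⟩
  ext i j
  simp only [Matrix.map_apply, Matrix.of_apply, Matrix.smul_apply, smul_eq_mul]
  unfold toFrac
  rw [RingHom.comp_apply, RingHom.comp_apply, ha, ha', hd, Algebra.smul_def]

end Frac

section Key

variable {C A : Type u} [CommRing C] [CommRing A] [Algebra C A] [Algebra.IsIntegral C A]
  {n r : ℕ}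

theorem exists_left_inverse (p : Ideal C) [p.IsPrime] (E : Matrix (Fin n) (Fin n) A)
    (X : Matrix (Fin n) (Fin r) A)
    (hB : ∀ (q : Ideal A) [q.IsPrime], q.comap (algebraMap C A) = p → Bas E X (toFrac q)) :
    ∃ c : C, c ∉ p ∧ ∃ Y : Matrix (Fin r) (Fin n) A,
      Y * X = algebraMap C A c • (1 : Matrix (Fin r) (Fin r) A) := by
  let 𝔟 : Ideal A :=
    { carrier := {a | ∃ Y : Matrix (Fin r) (Fin n) A, Y * X = a • (1 : Matrix (Fin r) (Fin r) A)}
      add_mem' := by
        rintro a b ⟨Y, hY⟩ ⟨Y', hY'⟩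
        exact ⟨Y + Y', by rw [Matrix.add_mul, hY, hY', add_smul]⟩
      zero_mem' := ⟨0, by rw [Matrix.zero_mul, zero_smul]⟩
      smul_mem' := by
        rintro c a ⟨Y, hY⟩
        exact ⟨c • Y, by rw [Matrix.smul_mul, hY, smul_smul, smul_eq_mul]⟩ }
  obtain ⟨c, hc, Y, hY⟩ := exists_notMem_of_forall_prime p 𝔟 (by
    intro q hq hqp hle
    haveI := hq
    obtain ⟨Ybar, -, h2⟩ := hB q hqp
    obtain ⟨d, hd, Y'', hY''⟩ := clear_denoms q Ybar
    set U := Y'' * X with hU
    have hUmap : U.map (toFrac q) = toFrac q d • (1 : Matrix (Fin r) (Fin r) _) := by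
      rw [hU, Matrix.map_mul, hY'', Matrix.smul_mul, h2]
    have hmem : U.det ∈ 𝔟 := ⟨U.adjugate * Y'', by rw [Matrix.mul_assoc, ← hU, Matrix.adjugate_mul]⟩
    have hnot : U.det ∉ q := by
      intro hq'
      have h0 : toFrac q U.det = 0 := (toFrac_eq_zero_iff q _).2 hq'
      rw [RingHom.map_det, RingHom.mapMatrix_apply, hUmap, Matrix.det_smul, Matrix.det_one,
        mul_one] at h0
      by_cases hr : Fintype.card (Fin r) = 0
      · rw [hr, pow_zero] at h0; exact one_ne_zero h0
      · exact hd ((toFrac_eq_zero_iff q d).1 (pow_eq_zero_iff hr |>.1 h0))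
    exact hnot (hle hmem))
  exact ⟨c, hc, Y, hY⟩

theorem exists_key (p : Ideal C) [p.IsPrime] (E : Matrix (Fin n) (Fin n) A)
    (X : Matrix (Fin n) (Fin r) A) (hEE : E * E = E) (hEX : E * X = X)
    (hB : ∀ (q : Ideal A) [q.IsPrime], q.comap (algebraMap C A) = p → Bas E X (toFrac q)) :
    ∃ c : C, c ∉ p ∧ ∃ Y : Matrix (Fin r) (Fin n) A,
      X * Y = algebraMap C A c • E ∧ Y * X = algebraMap C A c • (1 : Matrix (Fin r) (Fin r) A) := by
  obtain ⟨c, hc, Y₀, hY₀⟩ := exists_left_inverse p E X hB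
  set s := algebraMap C A c with hs
  set Y₁ := Y₀ * E with hY₁
  have hY₁X : Y₁ * X = s • (1 : Matrix (Fin r) (Fin r) A) := by
    rw [hY₁, Matrix.mul_assoc, hEX, hY₀]
  have hY₁E : Y₁ * E = Y₁ := by rw [hY₁, Matrix.mul_assoc, hEE]
  set G := s • E - X * Y₁ with hG
  have hGG : G * G = s • G := by
    have e1 : (s • E) * (s • E) = (s * s) • E := by
      rw [Matrix.smul_mul, Matrix.mul_smul, hEE, smul_smul]
    have e2 : (s • E) * (X * Y₁) = s • (X * Y₁) := by
      rw [Matrix.smul_mul, ← Matrix.mul_assoc, hEX]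
    have e3 : (X * Y₁) * (s • E) = s • (X * Y₁) := by
      rw [Matrix.mul_smul, Matrix.mul_assoc, hY₁E]
    have e4 : (X * Y₁) * (X * Y₁) = s • (X * Y₁) := by
      rw [Matrix.mul_assoc, ← Matrix.mul_assoc Y₁, hY₁X, Matrix.smul_mul, Matrix.one_mul,
        Matrix.mul_smul]
    rw [hG, Matrix.sub_mul, Matrix.mul_sub, Matrix.mul_sub, e1, e2, e3, e4, smul_sub, smul_smul]
    abel
  let 𝔠 : Ideal A :=
    { carrier := {a | a • G = 0}
      add_mem' := by
        intro a b ha hb
        show (a + b) • G = 0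
        rw [add_smul, ha, hb, add_zero]
      zero_mem' := zero_smul _ _
      smul_mem' := by
        intro c a ha
        show (c • a) • G = 0
        rw [smul_eq_mul, mul_smul, ha, smul_zero] }
  obtain ⟨c', hc', hc'G⟩ := exists_notMem_of_forall_prime p 𝔠 (by
    intro q hq hqp hle
    haveI := hq
    obtain ⟨Ybar, h1, h2⟩ := hB q hqp
    have hsq : s ∉ q := by
      intro hsq
      have : c ∈ q.comap (algebraMap C A) := hsq
      rw [hqp] at this
      exact hc this
    have hsbar : toFrac q s ≠ 0 := fun h => hsq ((toFrac_eq_zero_iff q s).1 h)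
    have m1 : Y₁.map (toFrac q) * X.map (toFrac q) =
        toFrac q s • (1 : Matrix (Fin r) (Fin r) _) := by
      rw [← Matrix.map_mul, hY₁X]
      ext i j
      by_cases hij : i = j
      · subst hij; simp
      · simp [Matrix.one_apply_ne hij]
    have m2 : Y₁.map (toFrac q) * E.map (toFrac q) = Y₁.map (toFrac q) := by
      rw [← Matrix.map_mul, hY₁E]
    have m3 : Y₁.map (toFrac q) = toFrac q s • Ybar := by
      rw [← m2, ← h1, ← Matrix.mul_assoc, m1, Matrix.smul_mul, Matrix.one_mul]
    have hGmap : G.map (toFrac q) = 0 := by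
      have : G.map (toFrac q) =
          toFrac q s • E.map (toFrac q) - X.map (toFrac q) * Y₁.map (toFrac q) := by
        have hXY : (X * Y₁).map (toFrac q) = X.map (toFrac q) * Y₁.map (toFrac q) :=
          Matrix.map_mul
        rw [← hXY]
        ext i j
        rw [hG]
        simp only [Matrix.map_apply, Matrix.sub_apply, Matrix.smul_apply, smul_eq_mul, map_sub,
          map_mul]
      rw [this, m3, Matrix.mul_smul, h1, sub_self]
    set H := G - s • (1 : Matrix (Fin n) (Fin n) A) with hH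
    have hGH : G * H = 0 := by
      rw [hH, Matrix.mul_sub, hGG, Matrix.mul_smul, Matrix.mul_one, sub_self]
    have hHmap : H.map (toFrac q) = (-(toFrac q s)) • (1 : Matrix (Fin n) (Fin n) _) := by
      ext i j
      have := congrFun (congrFun hGmap i) j
      simp only [Matrix.map_apply, Matrix.zero_apply] at this
      by_cases hij : i = j
      · subst hij; simp [hH, this]
      · simp [hH, this, Matrix.one_apply_ne hij]
    have hmem : H.det ∈ 𝔠 := by
      show H.det • G = 0
      have := congrArg (fun M => M * H.adjugate) hGH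
      simp only [Matrix.zero_mul] at this
      rw [Matrix.mul_assoc, Matrix.mul_adjugate, Matrix.mul_smul, Matrix.mul_one] at this
      exact this
    have hnot : H.det ∉ q := by
      intro hq'
      have h0 : toFrac q H.det = 0 := (toFrac_eq_zero_iff q _).2 hq'
      rw [RingHom.map_det, RingHom.mapMatrix_apply, hHmap, Matrix.det_smul, Matrix.det_one,
        mul_one] at h0
      by_cases hn : Fintype.card (Fin n) = 0
      · rw [hn, pow_zero] at h0; exact one_ne_zero h0
      · exact hsbar (neg_eq_zero.1 (pow_eq_zero_iff hn |>.1 h0))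
    exact hnot (hle hmem))
  have hc'G' : algebraMap C A c' • G = 0 := hc'G
  refine ⟨c' * c, ?_, algebraMap C A c' • Y₁, ?_, ?_⟩
  · intro h
    rcases (Ideal.IsPrime.mem_or_mem ‹p.IsPrime› h) with h | h
    · exact hc' h
    · exact hc h
  · rw [Matrix.mul_smul, map_mul, ← hs]
    have : X * Y₁ = s • E - G := by rw [hG]; abel
    rw [this, smul_sub, hc'G', sub_zero, smul_smul]
  · rw [Matrix.smul_mul, hY₁X, smul_smul, map_mul]

end Key

end Groth.Agent.Lib.Helper3.GQ
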