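import Mathlib
import Groth.Agent.Lib.Helper3.GQMat

set_option autoImplicit false
universe u

namespace Groth.Agent.Lib.Helper3.GQ

open Matrix

/-- A finite dual basis of `B` as a module over `A` through the ring map `f` (no `Algebra`
instances involved). -/
structure RDual {A B : Type u} [CommRing A] [CommRing B] (f : A →+* B) (n : ℕ) where
  p : Fin n → B
  ι : Fin n → B → A
  ι_add : ∀ j x y, ι j (x + y) = ι j x + ι j y
  ι_smul : ∀ j a x, ι j (f a * x) = a * ι j x
  repr : ∀ x, ∑ j, f (ι j x) * p j = x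

namespace RDual

variable {A B : Type u} [CommRing A] [CommRing B] {f : A →+* B} {n : ℕ} (D : RDual f n)

theorem ι_zero (j : Fin n) : D.ι j 0 = 0 := by
  have := D.ι_add j 0 0
  rw [add_zero] at this
  exact left_eq_add.1 this

theorem ι_sum {κ : Type*} (s : Finset κ) (g : κ → B) (j : Fin n) :
    D.ι j (∑ i ∈ s, g i) = ∑ i ∈ s, D.ι j (g i) := by
  classical
  induction s using Finset.induction_on with
  | empty => simp [D.ι_zero]
  | insert a s ha ih => rw [Finset.sum_insert ha, Finset.sum_insert ha, D.ι_add, ih]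

/-- coordinates -/
def coord (x : B) : Fin n → A := fun j => D.ι j x

/-- the idempotent matrix -/
def E : Matrix (Fin n) (Fin n) A := Matrix.of fun j k => D.ι j (D.p k)

theorem coord_injective : Function.Injective D.coord := by
  intro x y h
  rw [← D.repr x, ← D.repr y]
  refine Finset.sum_congr rfl fun j _ => ?_
  have := congrFun h j
  simp only [coord] at this
  rw [this]

theorem coord_add (x y : B) : D.coord (x + y) = D.coord x + D.coord y := by
  ext j; exact D.ι_add j x y

theorem coord_smul (a : A) (x : B) : D.coord (f a * x) = a • D.coord x := by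
  ext j; exact D.ι_smul j a x

theorem coord_zero : D.coord 0 = 0 := by
  ext j; exact D.ι_zero j

theorem coord_sum {κ : Type*} (s : Finset κ) (g : κ → B) :
    D.coord (∑ i ∈ s, g i) = ∑ i ∈ s, D.coord (g i) := by
  ext j
  rw [Finset.sum_apply]
  exact D.ι_sum s g j

/-- Expansion of `ι'` of an element through the dual basis `D`. -/
theorem ι_expand (ι' : B → A) (h_add : ∀ x y, ι' (x + y) = ι' x + ι' y)
    (h_smul : ∀ a x, ι' (f a * x) = a * ι' x) (x : B) :
    ι' x = ∑ j, D.ι j x * ι' (D.p j) := by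
  have h0 : ι' 0 = 0 := by
    have := h_add 0 0
    rw [add_zero] at this
    exact left_eq_add.1 this
  have hsum : ∀ (s : Finset (Fin n)) (g : Fin n → B), ι' (∑ i ∈ s, g i) = ∑ i ∈ s, ι' (g i) := by
    classical
    intro s g
    induction s using Finset.induction_on with
    | empty => simp [h0]
    | insert a s ha ih => rw [Finset.sum_insert ha, Finset.sum_insert ha, h_add, ih]
  conv_lhs => rw [← D.repr x, hsum]
  exact Finset.sum_congr rfl fun j _ => h_smul _ _

theorem E_mulVec_coord (x : B) : D.E *ᵥ D.coord x = D.coord x := by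
  ext j
  simp only [Matrix.mulVec, dotProduct, E, Matrix.of_apply, coord]
  rw [D.ι_expand (D.ι j) (D.ι_add j) (D.ι_smul j) x]
  exact Finset.sum_congr rfl fun k _ => mul_comm _ _

theorem E_mul_E : D.E * D.E = D.E := by
  ext j l
  have := congrFun (D.E_mulVec_coord (D.p l)) j
  simpa [Matrix.mul_apply, Matrix.mulVec, dotProduct, E, coord] using this

theorem E_col_eq (l : Fin n) : (fun k => D.E k l) = D.coord (D.p l) := rfl

end RDual

section Trans

variable {A B P : Type u} [CommRing A] [CommRing B] [CommRing P]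
  (σ τ : A →+* B) (p0 p1 γ : B →+* P) {n r : ℕ}
  (D : RDual σ n) (D1 D2 : RDual p1 n)
  (hD1p : ∀ k, D1.p k = p0 (D.p k)) (hD1ι : ∀ j b, D1.ι j (p0 b) = τ (D.ι j b))
  (hD2p : ∀ k, D2.p k = γ (D.p k)) (hD2ι : ∀ j b, D2.ι j (γ b) = σ (D.ι j b))
  (H3 : ∀ a, γ (τ a) = p0 (τ a))

include hD1p hD1ι hD2p hD2ι H3 in
/-- Translation: if the columns `coord (τ x_j)` give a basis over `ρ ∘ τ` then also over `ρ ∘ σ`. -/
theorem bas_translate {K : Type*} [Field K] (ρ : B →+* K) (x : Fin r → A)
    (h : Bas D.E (Matrix.of fun k j => D.coord (τ (x j)) k) (ρ.comp τ)) :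
    Bas D.E (Matrix.of fun k j => D.coord (τ (x j)) k) (ρ.comp σ) := by
  set X : Matrix (Fin n) (Fin r) A := Matrix.of fun k j => D.coord (τ (x j)) k with hX
  let T : Matrix (Fin n) (Fin n) B := Matrix.of fun k l => D2.ι k (D1.p l)
  let T' : Matrix (Fin n) (Fin n) B := Matrix.of fun l k => D1.ι l (D2.p k)
  let y : Fin r → P := fun j => p0 (τ (x j))
  have hX1 : ∀ l j, D1.ι l (y j) = (X.map τ) l j := by
    intro l j
    simp only [y, hD1ι, Matrix.map_apply, hX, Matrix.of_apply, RDual.coord]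
  have hX2 : ∀ k j, D2.ι k (y j) = (X.map σ) k j := by
    intro k j
    simp only [y, ← H3, hD2ι, Matrix.map_apply, hX, Matrix.of_apply, RDual.coord]
  have hTX : T * X.map τ = X.map σ := by
    ext k j
    rw [← hX2, Matrix.mul_apply]
    rw [D1.ι_expand (D2.ι k) (D2.ι_add k) (D2.ι_smul k) (y j)]
    refine Finset.sum_congr rfl fun l _ => ?_
    rw [← hX1, mul_comm]
    rfl
  have hT'X : T' * X.map σ = X.map τ := by
    ext l j
    rw [← hX1, Matrix.mul_apply]
    rw [D2.ι_expand (D1.ι l) (D1.ι_add l) (D1.ι_smul l) (y j)]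
    refine Finset.sum_congr rfl fun k _ => ?_
    rw [← hX2, mul_comm]
    rfl
  have hT'T : T' * T = D.E.map τ := by
    ext l l'
    rw [Matrix.mul_apply, Matrix.map_apply]
    have : D.E l l' = D.ι l (D.p l') := rfl
    rw [this, ← hD1ι, ← hD1p]
    rw [D2.ι_expand (D1.ι l) (D1.ι_add l) (D1.ι_smul l) (D1.p l')]
    refine Finset.sum_congr rfl fun k _ => ?_
    simp only [T, T', Matrix.of_apply, mul_comm]
  have hTT' : T * T' = D.E.map σ := by
    ext k k'
    rw [Matrix.mul_apply, Matrix.map_apply]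
    have : D.E k k' = D.ι k (D.p k') := rfl
    rw [this, ← hD2ι, ← hD2p]
    rw [D1.ι_expand (D2.ι k) (D2.ι_add k) (D2.ι_smul k) (D2.p k')]
    refine Finset.sum_congr rfl fun l _ => ?_
    simp only [T, T', Matrix.of_apply, mul_comm]
  obtain ⟨Y, h1, h2⟩ := h
  have c1 : X.map (ρ.comp τ) = (X.map τ).map ρ := by ext; simp
  have c2 : X.map (ρ.comp σ) = (X.map σ).map ρ := by ext; simp
  have c3 : D.E.map (ρ.comp τ) = (D.E.map τ).map ρ := by ext; simp
  have c4 : D.E.map (ρ.comp σ) = (D.E.map σ).map ρ := by ext; simp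
  rw [c1, c3] at h1
  rw [c1] at h2
  refine ⟨Y * T'.map ρ, ?_, ?_⟩
  · rw [c2, c4, ← hTX, Matrix.map_mul, Matrix.mul_assoc, ← Matrix.mul_assoc _ Y, h1,
      ← Matrix.map_mul, ← Matrix.map_mul, ← hT'T, ← Matrix.mul_assoc, ← Matrix.mul_assoc, hTT',
      Matrix.mul_assoc, hTT', ← Matrix.map_mul, D.E_mul_E]
  · rw [c2, Matrix.mul_assoc, ← Matrix.map_mul, hT'X, h2]

end Trans

end Groth.Agent.Lib.Helper3.GQ
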