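import Mathlib
import Groth.Agent.Lib.Helper3.GQDual
import Groth.Agent.Lib.Helper4.ProjCharpoly

set_option autoImplicit false
universe u

namespace Groth.Agent.Lib.Helper3.GQ

open CategoryTheory CategoryTheory.Limits
open Groth.Agent.Lib.Helper4.ProjCharpoly

/-- From helper4's `DualBasis` to the instance-free `RDual`. -/
def RDual.ofDualBasis {A B : Type u} [CommRing A] [CommRing B] (f : A →+* B) {n : ℕ}
    (D : letI := f.toAlgebra; DualBasis A B n) : RDual f n :=
  letI := f.toAlgebra
  { p := D.p
    ι := fun j x => D.ι j x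
    ι_add := fun j x y => map_add (D.ι j) x y
    ι_smul := fun j a x => by
      have : f a * x = a • x := by rw [Algebra.smul_def]; rfl
      rw [this, map_smul, smul_eq_mul]
    repr := fun x => by
      have := D.repr x
      simp only [Algebra.smul_def] at this
      exact this }

theorem RDual.exists_baseChange {A B A' P : CommRingCat.{u}} (σ : A ⟶ B) (φ : A ⟶ A')
    (ψ : B ⟶ P) (ρ : A' ⟶ P) (h : IsPushout σ φ ψ ρ) {n : ℕ} (D : RDual σ.hom n) :
    ∃ D' : RDual ρ.hom n, (∀ k, D'.p k = ψ.hom (D.p k)) ∧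
      (∀ j b, D'.ι j (ψ.hom b) = φ.hom (D.ι j b)) := by
  letI := σ.hom.toAlgebra; letI := φ.hom.toAlgebra; letI := ρ.hom.toAlgebra
  letI := ψ.hom.toAlgebra
  letI := (ρ.hom.comp φ.hom).toAlgebra
  haveI : IsScalarTower A A' P := IsScalarTower.of_algebraMap_eq' rfl
  haveI : IsScalarTower A B P :=
    IsScalarTower.of_algebraMap_eq fun x ↦ (congr($(h.w).hom x)).symm
  haveI : Algebra.IsPushout A B A' P := CommRingCat.isPushout_iff_isPushout.mp h
  haveI : Algebra.IsPushout A A' B P := Algebra.IsPushout.symm ‹_›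
  have hbc : IsBaseChange A' (IsScalarTower.toAlgHom A B P).toLinearMap :=
    (Algebra.IsPushout.out : IsBaseChange A' (IsScalarTower.toAlgHom A B P).toLinearMap)
  let ιlin : Fin n → (B →ₗ[A] A) := fun j =>
    { toFun := D.ι j
      map_add' := D.ι_add j
      map_smul' := fun a x => by
        have : a • x = σ.hom a * x := by rw [Algebra.smul_def]; rfl
        rw [this, D.ι_smul]; rfl }
  let ι' : Fin n → (P →ₗ[A'] A') := fun j => hbc.lift ((Algebra.linearMap A A') ∘ₗ ιlin j)
  have hι' : ∀ j (x : B), ι' j (ψ.hom x) = φ.hom (D.ι j x) := by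
    intro j x
    exact hbc.lift_eq ((Algebra.linearMap A A') ∘ₗ ιlin j) x
  refine ⟨⟨fun k => ψ.hom (D.p k), fun j y => ι' j y, fun j x y => map_add (ι' j) x y,
    fun j a y => ?_, fun y => ?_⟩, fun k => rfl, hι'⟩
  · have : ρ.hom a * y = a • y := by rw [Algebra.smul_def]; rfl
    rw [this, map_smul, smul_eq_mul]
  · induction y using hbc.inductionOn with
    | zero => simp
    | tmul x =>
      show ∑ j, ρ.hom (ι' j (ψ.hom x)) * ψ.hom (D.p j) = ψ.hom x
      conv_rhs => rw [← D.repr x, map_sum]
      refine Finset.sum_congr rfl fun j _ => ?_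
      rw [hι', map_mul]
      congr 1
      exact (congr($(h.w).hom (D.ι j x))).symm
    | smul a y hy =>
      have e : ∀ z : P, a • z = ρ.hom a * z := fun z => by rw [Algebra.smul_def]; rfl
      conv_rhs => rw [← hy, e, Finset.mul_sum]
      refine Finset.sum_congr rfl fun j _ => ?_
      rw [map_smul, smul_eq_mul, map_mul]
      ring
    | add y z hy hz =>
      conv_rhs => rw [← hy, ← hz, ← Finset.sum_add_distrib]
      refine Finset.sum_congr rfl fun j _ => ?_
      rw [map_add, map_add, add_mul]

end Groth.Agent.Lib.Helper3.GQ
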