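import Mathlib
import Groth.Agent.Lib.Helper3.GQMat

set_option autoImplicit false
universe u

namespace Groth.Agent.Lib.Helper3.GQ

open Matrix

variable {A : Type u} [CommRing A] {n : ℕ}

/-- Choice of a basis among a spanning family, matrix form. -/
theorem exists_bas_of_span {K : Type u} [Field K] (E : Matrix (Fin n) (Fin n) A)
    (v : A → (Fin n → A)) (hEv : ∀ a, E *ᵥ v a = v a)
    (hspan : ∀ l, (fun k => E k l) ∈ Submodule.span A (Set.range v)) (φ : A →+* K) :
    ∃ (r : ℕ) (x : Fin r → A), Bas E (Matrix.of fun k j => v (x j) k) φ := by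
  classical
  let w : A → (Fin n → K) := fun a => φ ∘ v a
  obtain ⟨κ, a, -, hsp, hli⟩ := exists_linearIndependent' K w
  haveI : Finite κ := hli.finite
  obtain ⟨r, ⟨e⟩⟩ : ∃ r : ℕ, Nonempty (Fin r ≃ κ) := by
    obtain ⟨r, ⟨e⟩⟩ := Finite.exists_equiv_fin κ
    exact ⟨r, ⟨e.symm⟩⟩
  let x : Fin r → A := fun j => a (e j)
  refine ⟨r, x, ?_⟩
  set X : Matrix (Fin n) (Fin r) A := Matrix.of fun k j => v (x j) k with hX
  set Xb : Matrix (Fin n) (Fin r) K := X.map φ with hXb
  set Eb : Matrix (Fin n) (Fin n) K := E.map φ with hEb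
  have hcol : ∀ j, Xb.col j = w (x j) := by
    intro j; ext k; simp [hXb, hX, Matrix.col, w]
  have hli' : LinearIndependent K Xb.col := by
    have h1 : LinearIndependent K ((w ∘ a) ∘ e) := hli.comp e e.injective
    have : Xb.col = (w ∘ a) ∘ e := by
      funext j; rw [hcol]; rfl
    rw [this]; exact h1
  have hinj : Function.Injective Xb.mulVec := Matrix.mulVec_injective_iff.2 hli'
  have hker : LinearMap.ker (Matrix.toLin' Xb) = ⊥ := by
    rw [LinearMap.ker_eq_bot]
    intro c c' h
    apply hinj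
    simpa [Matrix.toLin'_apply] using h
  obtain ⟨g, hg⟩ := LinearMap.exists_leftInverse_of_injective (Matrix.toLin' Xb) hker
  set Y₀ : Matrix (Fin r) (Fin n) K := LinearMap.toMatrix' g with hY₀
  have hY₀X : Y₀ * Xb = 1 := by
    rw [hY₀, ← LinearMap.toMatrix'_toLin' Xb, ← LinearMap.toMatrix'_comp, hg,
      LinearMap.toMatrix'_id]
  -- `E X = X`
  have hEX : E * X = X := by
    ext k j
    have := congrFun (hEv (x j)) k
    simpa [Matrix.mul_apply, Matrix.mulVec, dotProduct, hX] using this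
  have hEXb : Eb * Xb = Xb := by
    rw [hEb, hXb, ← Matrix.map_mul, hEX]
  -- semilinear image of the span
  have hΦ : ∀ u ∈ Submodule.span A (Set.range v),
      (φ ∘ u : Fin n → K) ∈ Submodule.span K (Set.range w) := by
    intro u hu
    induction hu using Submodule.span_induction with
    | mem u hu =>
      obtain ⟨a0, rfl⟩ := hu
      exact Submodule.subset_span ⟨a0, rfl⟩
    | zero =>
      have : (φ ∘ (0 : Fin n → A) : Fin n → K) = 0 := by ext k; simp
      rw [this]; exact Submodule.zero_mem _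
    | add u u' _ _ hu hu' =>
      have : (φ ∘ (u + u') : Fin n → K) = φ ∘ u + φ ∘ u' := by ext k; simp
      rw [this]; exact Submodule.add_mem _ hu hu'
    | smul c u _ hu =>
      have : (φ ∘ (c • u) : Fin n → K) = φ c • (φ ∘ u : Fin n → K) := by ext k; simp
      rw [this]; exact Submodule.smul_mem _ _ hu
  have hspan' : Submodule.span K (Set.range w) = Submodule.span K (Set.range Xb.col) := by
    rw [← hsp]
    congr 1
    ext y
    constructor
    · rintro ⟨i, rfl⟩
      refine ⟨e.symm i, ?_⟩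
      rw [hcol]; simp [x]
    · rintro ⟨j, rfl⟩
      exact ⟨e j, by rw [hcol]; rfl⟩
  have hZ : ∀ l, ∃ z : Fin r → K, ∑ j, z j • Xb.col j = fun k => Eb k l := by
    intro l
    have h1 := hΦ _ (hspan l)
    rw [hspan', Submodule.mem_span_range_iff_exists_fun] at h1
    obtain ⟨z, hz⟩ := h1
    refine ⟨z, ?_⟩
    rw [hz]; ext k; simp [hEb]
  choose z hz using hZ
  set Z : Matrix (Fin r) (Fin n) K := Matrix.of fun j l => z l j with hZdef
  have hXZ : Xb * Z = Eb := by
    ext k l
    have := congrFun (hz l) k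
    simp only [Finset.sum_apply, Pi.smul_apply, smul_eq_mul, Matrix.col] at this
    rw [Matrix.mul_apply, ← this]
    refine Finset.sum_congr rfl fun j _ => ?_
    simp [hZdef, mul_comm]
  refine ⟨Y₀ * Eb, ?_, ?_⟩
  · show Xb * (Y₀ * Eb) = Eb
    rw [← hXZ, ← Matrix.mul_assoc, ← Matrix.mul_assoc, Matrix.mul_assoc Xb Y₀ Xb, hY₀X,
      Matrix.mul_one]
  · show Y₀ * Eb * Xb = 1
    rw [Matrix.mul_assoc, hEXb, hY₀X]

end Groth.Agent.Lib.Helper3.GQ
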