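import Mathlib
import Groth.Agent.Lib.Helper3.GQMat
import Groth.Agent.Lib.Helper3.GQChoose
import Groth.Agent.Lib.Helper3.GQDual

set_option autoImplicit false
universe u

namespace Groth.Agent.Lib.Helper3.GQ

open Matrix

theorem exists_frac_lift {A : Type u} [CommRing A] (q : Ideal A) [q.IsPrime] {K : Type*} [Field K]
    (g : A →+* K) (hker : RingHom.ker g = q) :
    ∃ ψ : FractionRing (A ⧸ q) →+* K, ψ.comp (toFrac q) = g := by
  let g' : A ⧸ q →+* K := Ideal.Quotient.lift q g (fun a ha => by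
    rw [← hker] at ha; exact ha)
  have hinj : Function.Injective g' := by
    rw [injective_iff_map_eq_zero]
    intro z hz
    obtain ⟨a, rfl⟩ := Ideal.Quotient.mk_surjective z
    rw [Ideal.Quotient.lift_mk] at hz
    rw [Ideal.Quotient.eq_zero_iff_mem, ← hker]
    exact hz
  refine ⟨IsFractionRing.lift hinj, ?_⟩
  ext a
  simp only [toFrac, RingHom.comp_apply, IsFractionRing.lift_algebraMap]
  exact Ideal.Quotient.lift_mk q g _

section Local

variable {A B P : Type u} [CommRing A] [CommRing B] [CommRing P]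
  (σ τ : A →+* B) (ε : B →+* A) (p0 p1 γ : B →+* P)
  (hεσ : ∀ a, ε (σ a) = a) (hετ : ∀ a, ε (τ a) = a)
  (H1 : ∀ a, p0 (σ a) = p1 (τ a)) (H2 : ∀ a, γ (σ a) = p1 (σ a)) (H3 : ∀ a, γ (τ a) = p0 (τ a))
  {n : ℕ} (D : RDual σ n) (D1 D2 : RDual p1 n)
  (hD1p : ∀ k, D1.p k = p0 (D.p k)) (hD1ι : ∀ j b, D1.ι j (p0 b) = τ (D.ι j b))
  (hD2p : ∀ k, D2.p k = γ (D.p k)) (hD2ι : ∀ j b, D2.ι j (γ b) = σ (D.ι j b))
  (hsurj : ∀ b : B, b ∈ AddSubmonoid.closure {b | ∃ a a', b = τ a * σ a'})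
  (hint : Algebra.IsIntegral (RingHom.eqLocus σ τ) A)
  (horb : ∀ (q q' : Ideal A) [q.IsPrime] [q'.IsPrime],
    q.comap (algebraMap (RingHom.eqLocus σ τ) A) = q'.comap (algebraMap (RingHom.eqLocus σ τ) A) →
      ∃ 𝔯 : Ideal B, 𝔯.IsPrime ∧ 𝔯.comap τ = q ∧ 𝔯.comap σ = q')

include hsurj in
theorem coord_p_mem_span (l : Fin n) :
    (fun k => D.E k l) ∈ Submodule.span A (Set.range fun a => D.coord (τ a)) := by
  rw [D.E_col_eq]
  have key : ∀ b ∈ AddSubmonoid.closure {b | ∃ a a', b = τ a * σ a'},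
      D.coord b ∈ Submodule.span A (Set.range fun a => D.coord (τ a)) := by
    intro b hb
    induction hb using AddSubmonoid.closure_induction with
    | mem b hb =>
      obtain ⟨a, a', rfl⟩ := hb
      rw [mul_comm, D.coord_smul]
      exact Submodule.smul_mem _ _ (Submodule.subset_span ⟨a, rfl⟩)
    | zero => rw [D.coord_zero]; exact Submodule.zero_mem _
    | add x y _ _ hx hy => rw [D.coord_add]; exact Submodule.add_mem _ hx hy
  exact key _ (hsurj (D.p l))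

include hD1p hD1ι hD2p hD2ι H3 hsurj hint horb in
theorem exists_local_key (p : Ideal (RingHom.eqLocus σ τ)) [p.IsPrime] :
    ∃ (r : ℕ) (x : Fin r → A) (c : RingHom.eqLocus σ τ), c ∉ p ∧
      ∃ Y : Matrix (Fin r) (Fin n) A,
        (Matrix.of fun k j => D.coord (τ (x j)) k) * Y = (c : A) • D.E ∧
        Y * (Matrix.of fun k j => D.coord (τ (x j)) k) = (c : A) • (1 : Matrix (Fin r) (Fin r) A) := by
  haveI := hint
  -- a prime over `p`
  obtain ⟨q, -, hq, hqp⟩ := Ideal.exists_ideal_over_prime_of_isIntegral p (⊥ : Ideal A) (by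
    intro c hc
    have h0 : (c : A) = 0 := hc
    have : c = 0 := Subtype.ext h0
    rw [this]; exact Ideal.zero_mem _)
  haveI := hq
  obtain ⟨r, x, hBq⟩ := exists_bas_of_span D.E (fun a => D.coord (τ a))
    (fun a => D.E_mulVec_coord (τ a)) (coord_p_mem_span σ τ D hsurj) (toFrac q)
  refine ⟨r, x, ?_⟩
  set X : Matrix (Fin n) (Fin r) A := Matrix.of fun k j => D.coord (τ (x j)) k with hX
  have hEX : D.E * X = X := by
    ext k j
    have := congrFun (D.E_mulVec_coord (τ (x j))) k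
    simpa [Matrix.mul_apply, Matrix.mulVec, dotProduct, hX] using this
  have hB : ∀ (q' : Ideal A) [q'.IsPrime],
      q'.comap (algebraMap (RingHom.eqLocus σ τ) A) = p → Bas D.E X (toFrac q') := by
    intro q' hq' hq'p
    obtain ⟨𝔯, h𝔯, h𝔯τ, h𝔯σ⟩ := horb q q' (hqp.trans hq'p.symm)
    haveI := h𝔯
    have hk1 : RingHom.ker ((toFrac 𝔯).comp τ) = q := by
      ext a
      rw [RingHom.mem_ker, RingHom.comp_apply, toFrac_eq_zero_iff, ← h𝔯τ]
      rfl
    have hk2 : RingHom.ker ((toFrac 𝔯).comp σ) = q' := by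
      ext a
      rw [RingHom.mem_ker, RingHom.comp_apply, toFrac_eq_zero_iff, ← h𝔯σ]
      rfl
    obtain ⟨ψ, hψ⟩ := exists_frac_lift q ((toFrac 𝔯).comp τ) hk1
    obtain ⟨ψ', hψ'⟩ := exists_frac_lift q' ((toFrac 𝔯).comp σ) hk2
    have b1 : Bas D.E X ((toFrac 𝔯).comp τ) := by
      rw [← hψ]; exact hBq.comp ψ
    have b2 : Bas D.E X ((toFrac 𝔯).comp σ) :=
      bas_translate σ τ p0 p1 γ D D1 D2 hD1p hD1ι hD2p hD2ι H3 (toFrac 𝔯) x b1
    rw [← hψ'] at b2
    exact Bas.of_comp_field (toFrac q') ψ' b2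
  obtain ⟨c, hc, Y, hY1, hY2⟩ := exists_key p D.E X D.E_mul_E hEX hB
  exact ⟨c, hc, Y, hY1, hY2⟩

end Local

end Groth.Agent.Lib.Helper3.GQ
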