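import Mathlib
import Groth.Agent.Lib.Helper3.GQLocal

set_option autoImplicit false
universe u

namespace Groth.Agent.Lib.Helper3.GQ

open Matrix

section Global

variable {A B P : Type u} [CommRing A] [CommRing B] [CommRing P]
  (σ τ : A →+* B) (ε : B →+* A) (p0 p1 γ : B →+* P)
  (hεσ : ∀ a, ε (σ a) = a) (hετ : ∀ a, ε (τ a) = a)
  (H1 : ∀ a, p0 (σ a) = p1 (τ a)) (H2 : ∀ a, γ (σ a) = p1 (σ a)) (H3 : ∀ a, γ (τ a) = p0 (τ a))
  {n : ℕ} (D : RDual σ n) (D1 D2 : RDual p1 n)
  (hD1p : ∀ k, D1.p k = p0 (D.p k)) (hD1ι : ∀ j b, D1.ι j (p0 b) = τ (D.ι j b))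
  (hD2p : ∀ k, D2.p k = γ (D.p k)) (hD2ι : ∀ j b, D2.ι j (γ b) = σ (D.ι j b))
  (hsurj : ∀ b : B, b ∈ AddSubmonoid.closure {b | ∃ a a', b = τ a * σ a'})
  (hint : Algebra.IsIntegral (RingHom.eqLocus σ τ) A)
  (horb : ∀ (q q' : Ideal A) [q.IsPrime] [q'.IsPrime],
    q.comap (algebraMap (RingHom.eqLocus σ τ) A) = q'.comap (algebraMap (RingHom.eqLocus σ τ) A) →
      ∃ 𝔯 : Ideal B, 𝔯.IsPrime ∧ 𝔯.comap τ = q ∧ 𝔯.comap σ = q')

include hεσ hετ H1 H2 H3 hD1p hD1ι hD2p hD2ι hsurj hint horb in
theorem exists_local_dual (p : Ideal (RingHom.eqLocus σ τ)) [p.IsPrime] :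
    ∃ c : RingHom.eqLocus σ τ, c ∉ p ∧ ∃ (r : ℕ) (x : Fin r → A)
      (lam : Fin r → (A →ₗ[RingHom.eqLocus σ τ] RingHom.eqLocus σ τ)),
      (∀ a, ((c * c : RingHom.eqLocus σ τ) : A) * a =
        ∑ j, ((lam j a : RingHom.eqLocus σ τ) : A) * x j) ∧
      (∀ w : Fin r → A, ∑ j, τ (x j) * σ (w j) = 0 → ∀ j, (c : A) * w j = 0) := by
  obtain ⟨r, x, c, hc, Y, hXY, hYX⟩ :=
    exists_local_key σ τ p0 p1 γ H3 D D1 D2 hD1p hD1ι hD2p hD2ι hsurj hint horb p
  refine ⟨c, hc, r, x, ?_⟩
  set s : A := (c : A) with hs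
  have hsc : σ s = τ s := c.2
  set X : Matrix (Fin n) (Fin r) A := Matrix.of fun k j => D.coord (τ (x j)) k with hX
  have hXw : ∀ w : Fin r → A, X *ᵥ w = D.coord (∑ j, σ (w j) * τ (x j)) := by
    intro w
    rw [D.coord_sum]
    ext k
    simp only [Matrix.mulVec, dotProduct, hX, Matrix.of_apply, Finset.sum_apply, D.coord_smul,
      Pi.smul_apply, smul_eq_mul]
    exact Finset.sum_congr rfl fun j _ => mul_comm _ _
  let rr : A → Fin r → A := fun a => Y *ᵥ D.coord (τ a)
  have claim1 : ∀ a, τ (s * a) = ∑ j, σ (rr a j) * τ (x j) := by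
    intro a
    apply D.coord_injective
    rw [← hXw, Matrix.mulVec_mulVec, hXY, Matrix.smul_mulVec, D.E_mulVec_coord, ← D.coord_smul,
      hsc, ← map_mul]
  have claim2 : ∀ a j, σ (s * rr a j) = τ (s * rr a j) := by
    intro a j
    let d : Fin r → B := fun j => σ (rr a j) - τ (rr a j)
    let y : Fin r → P := fun j => p0 (τ (x j))
    have e1 : γ (τ (s * a)) = ∑ j, p1 (σ (rr a j)) * y j := by
      rw [claim1, map_sum]
      refine Finset.sum_congr rfl fun j _ => ?_
      rw [map_mul, H2, H3]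
    have e2 : p0 (τ (s * a)) = ∑ j, p1 (τ (rr a j)) * y j := by
      rw [claim1, map_sum]
      refine Finset.sum_congr rfl fun j _ => ?_
      rw [map_mul, H1]
    have e3 : ∑ j, p1 (d j) * y j = 0 := by
      have : ∑ j, p1 (d j) * y j =
          ∑ j, p1 (σ (rr a j)) * y j - ∑ j, p1 (τ (rr a j)) * y j := by
        rw [← Finset.sum_sub_distrib]
        refine Finset.sum_congr rfl fun j _ => ?_
        simp only [d, map_sub, sub_mul]
      rw [this, ← e1, ← e2, H3, sub_self]
    have e4 : (X.map σ) *ᵥ d = 0 := by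
      have h0 := congrArg D2.coord e3
      rw [D2.coord_sum, D2.coord_zero] at h0
      ext k
      have h1 := congrFun h0 k
      simp only [Finset.sum_apply, D2.coord_smul, Pi.smul_apply, smul_eq_mul, Pi.zero_apply] at h1
      simp only [Matrix.mulVec, dotProduct, Matrix.map_apply, hX, Matrix.of_apply, Pi.zero_apply]
      rw [← h1]
      refine Finset.sum_congr rfl fun j _ => ?_
      have : D2.coord (y j) k = σ (D.coord (τ (x j)) k) := by
        simp only [y, RDual.coord, ← H3, hD2ι]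
      rw [this, mul_comm]
    have e5 : σ s • d = 0 := by
      have h0 := congrArg (fun v => (Y.map σ) *ᵥ v) e4
      simp only [Matrix.mulVec_mulVec, Matrix.mulVec_zero] at h0
      rw [← Matrix.map_mul, hYX] at h0
      have : ((s • (1 : Matrix (Fin r) (Fin r) A)).map σ) = σ s • (1 : Matrix (Fin r) (Fin r) B) := by
        ext i j
        by_cases hij : i = j
        · subst hij; simp
        · simp [Matrix.one_apply_ne hij]
      rw [this, Matrix.smul_mulVec, Matrix.one_mulVec] at h0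
      exact h0
    have e6 := congrFun e5 j
    simp only [Pi.smul_apply, smul_eq_mul, Pi.zero_apply, d, mul_sub, sub_eq_zero] at e6
    rw [map_mul, map_mul, e6, hsc]
  have claim3 : ∀ a, s * a = ∑ j, rr a j * x j := by
    intro a
    have := congrArg ε (claim1 a)
    rw [hετ, map_sum] at this
    rw [this]
    refine Finset.sum_congr rfl fun j _ => ?_
    rw [map_mul, hεσ, hετ]
  have rr_add : ∀ a a', rr (a + a') = rr a + rr a' := by
    intro a a'
    simp only [rr, map_add, D.coord_add, Matrix.mulVec_add]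
  have rr_smul : ∀ (c' : RingHom.eqLocus σ τ) (a : A), rr ((c' : A) * a) = (c' : A) • rr a := by
    intro c' a
    have h1 : τ ((c' : A) * a) = σ (c' : A) * τ a := by
      rw [map_mul]; congr 1; exact c'.2.symm
    simp only [rr, h1, D.coord_smul, Matrix.mulVec_smul]
  let lam : Fin r → (A →ₗ[RingHom.eqLocus σ τ] RingHom.eqLocus σ τ) := fun j =>
    { toFun := fun a => ⟨s * rr a j, claim2 a j⟩
      map_add' := by
        intro a a'
        apply Subtype.ext
        simp only [rr_add, Pi.add_apply, mul_add]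
        rfl
      map_smul' := by
        intro c' a
        apply Subtype.ext
        show s * rr ((c' : A) * a) j = (c' : A) * (s * rr a j)
        rw [rr_smul]
        simp only [Pi.smul_apply, smul_eq_mul]
        ring }
  refine ⟨lam, ?_, ?_⟩
  · intro a
    show (s * s) * a = ∑ j, (s * rr a j) * x j
    rw [mul_assoc, claim3 a, Finset.mul_sum]
    exact Finset.sum_congr rfl fun j _ => by ring
  · intro w hw j
    have h1 : X *ᵥ w = 0 := by
      rw [hXw]
      have : ∑ j, σ (w j) * τ (x j) = 0 := by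
        rw [← hw]; exact Finset.sum_congr rfl fun j _ => mul_comm _ _
      rw [this, D.coord_zero]
    have h2 := congrArg (fun v => Y *ᵥ v) h1
    simp only [Matrix.mulVec_mulVec, Matrix.mulVec_zero, hYX, Matrix.smul_mulVec,
      Matrix.one_mulVec] at h2
    have := congrFun h2 j
    simpa using this

end Global

end Groth.Agent.Lib.Helper3.GQ
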