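import Mathlib
import Groth.Agent.Lib.Helper3.GQGlobal

set_option autoImplicit false
universe u

namespace Groth.Agent.Lib.Helper3.GQ

open Matrix TensorProduct

theorem ideal_eq_top_of_forall_prime {C : Type u} [CommRing C] (T : Ideal C)
    (h : ∀ p : Ideal C, p.IsPrime → ∃ c ∈ T, c ∉ p) : T = ⊤ := by
  by_contra hT
  obtain ⟨M, hM, hTM⟩ := Ideal.exists_le_maximal T hT
  obtain ⟨c, hcT, hcM⟩ := h M hM.isPrime
  exact hcM (hTM hcT)

section Final

variable {A B P : Type u} [CommRing A] [CommRing B] [CommRing P]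
  (σ τ : A →+* B) (ε : B →+* A) (p0 p1 γ : B →+* P)
  (hεσ : ∀ a, ε (σ a) = a) (hετ : ∀ a, ε (τ a) = a)
  (H1 : ∀ a, p0 (σ a) = p1 (τ a)) (H2 : ∀ a, γ (σ a) = p1 (σ a)) (H3 : ∀ a, γ (τ a) = p0 (τ a))
  {n : ℕ} (D : RDual σ n) (D1 D2 : RDual p1 n)
  (hD1p : ∀ k, D1.p k = p0 (D.p k)) (hD1ι : ∀ j b, D1.ι j (p0 b) = τ (D.ι j b))
  (hD2p : ∀ k, D2.p k = γ (D.p k)) (hD2ι : ∀ j b, D2.ι j (γ b) = σ (D.ι j b))
  (hsurj : ∀ b : B, b ∈ AddSubmonoid.closure {b | ∃ a a', b = τ a * σ a'})
  (hint : Algebra.IsIntegral (RingHom.eqLocus σ τ) A)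
  (horb : ∀ (q q' : Ideal A) [q.IsPrime] [q'.IsPrime],
    q.comap (algebraMap (RingHom.eqLocus σ τ) A) = q'.comap (algebraMap (RingHom.eqLocus σ τ) A) →
      ∃ 𝔯 : Ideal B, 𝔯.IsPrime ∧ 𝔯.comap τ = q ∧ 𝔯.comap σ = q')

include hεσ hετ H1 H2 H3 hD1p hD1ι hD2p hD2ι hsurj hint horb in
theorem finite_projective :
    Module.Finite (RingHom.eqLocus σ τ) A ∧ Module.Projective (RingHom.eqLocus σ τ) A := by
  classical
  let T : Ideal (RingHom.eqLocus σ τ) :=
    { carrier := {t | ∃ (ι : Type) (_ : Fintype ι) (x : ι → A)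
        (lam : ι → (A →ₗ[RingHom.eqLocus σ τ] RingHom.eqLocus σ τ)),
        ∀ a, (t : A) * a = ∑ i, ((lam i a : RingHom.eqLocus σ τ) : A) * x i}
      add_mem' := by
        rintro t t' ⟨ι, _, x, lam, h⟩ ⟨ι', _, x', lam', h'⟩
        refine ⟨ι ⊕ ι', inferInstance, Sum.elim x x', Sum.elim lam lam', fun a => ?_⟩
        rw [Fintype.sum_sum_type]
        simp only [Sum.elim_inl, Sum.elim_inr]
        rw [← h, ← h']
        show ((t : A) + (t' : A)) * a = _
        ring
      zero_mem' := by
        refine ⟨Fin 0, inferInstance, fun _ => 0, fun _ => 0, fun a => ?_⟩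
        simp
      smul_mem' := by
        rintro c' t ⟨ι, _, x, lam, h⟩
        refine ⟨ι, inferInstance, x, fun i => c' • lam i, fun a => ?_⟩
        show ((c' : A) * (t : A)) * a = _
        rw [mul_assoc, h, Finset.mul_sum]
        refine Finset.sum_congr rfl fun i _ => ?_
        show _ = ((c' : A) * ((lam i a : RingHom.eqLocus σ τ) : A)) * x i
        ring }
  have hT : T = ⊤ := by
    apply ideal_eq_top_of_forall_prime
    intro p hp
    haveI := hp
    obtain ⟨c, hc, r, x, lam, h1, -⟩ := exists_local_dual σ τ ε p0 p1 γ hεσ hετ H1 H2 H3 D D1 D2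
      hD1p hD1ι hD2p hD2ι hsurj hint horb p
    refine ⟨c * c, ⟨Fin r, inferInstance, x, lam, h1⟩, ?_⟩
    intro hcc
    rcases Ideal.IsPrime.mem_or_mem hp hcc with h | h <;> exact hc h
  have h1T : (1 : RingHom.eqLocus σ τ) ∈ T := by rw [hT]; trivial
  obtain ⟨ι, _, x, lam, h⟩ := h1T
  let f : (ι → RingHom.eqLocus σ τ) →ₗ[RingHom.eqLocus σ τ] A :=
    Fintype.linearCombination (RingHom.eqLocus σ τ) x
  let g : A →ₗ[RingHom.eqLocus σ τ] (ι → RingHom.eqLocus σ τ) := LinearMap.pi lam
  have hfg : f.comp g = LinearMap.id := by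
    ext a
    simp only [LinearMap.comp_apply, LinearMap.id_apply, f, g, Fintype.linearCombination_apply,
      LinearMap.pi_apply]
    have := h a
    simp only [OneMemClass.coe_one, one_mul] at this
    conv_rhs => rw [this]
    rfl
  refine ⟨?_, ?_⟩
  · refine Module.Finite.of_surjective f (fun a => ⟨g a, ?_⟩)
    exact LinearMap.congr_fun hfg a
  · exact Module.Projective.of_split g f hfg

include hεσ hετ H1 H2 H3 hD1p hD1ι hD2p hD2ι hsurj hint horb in
theorem tensor_bijective (ψ : A ⊗[RingHom.eqLocus σ τ] A →+ B)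
    (hψ : ∀ a a', ψ (a ⊗ₜ a') = τ a * σ a') : Function.Bijective ψ := by
  classical
  constructor
  · rw [injective_iff_map_eq_zero]
    intro z hz
    let Ann : Ideal (RingHom.eqLocus σ τ) :=
      { carrier := {t | t • z = 0}
        add_mem' := by
          intro t t' ht ht'
          show (t + t') • z = 0
          rw [add_smul, ht, ht', add_zero]
        zero_mem' := zero_smul _ _
        smul_mem' := by
          intro c' t ht
          show (c' • t) • z = 0
          rw [smul_assoc, ht, smul_zero] }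
    have hAnn : Ann = ⊤ := by
      apply ideal_eq_top_of_forall_prime
      intro p hp
      haveI := hp
      obtain ⟨c, hc, r, x, lam, h1, h2⟩ := exists_local_dual σ τ ε p0 p1 γ hεσ hετ H1 H2 H3 D D1
        D2 hD1p hD1ι hD2p hD2ι hsurj hint horb p
      refine ⟨c * c * c, ?_, ?_⟩
      · show (c * c * c) • z = 0
        obtain ⟨S, hS⟩ := TensorProduct.exists_finset z
        -- `w j`
        let w : Fin r → A := fun j => ∑ m ∈ S, ((lam j m.1 : RingHom.eqLocus σ τ) : A) * m.2
        have e1 : (c * c) • z = ∑ j, x j ⊗ₜ[RingHom.eqLocus σ τ] w j := by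
          rw [hS, Finset.smul_sum]
          have : ∀ m ∈ S, (c * c) • (m.1 ⊗ₜ[RingHom.eqLocus σ τ] m.2) =
              ∑ j, x j ⊗ₜ[RingHom.eqLocus σ τ]
                (((lam j m.1 : RingHom.eqLocus σ τ) : A) * m.2) := by
            intro m _
            rw [TensorProduct.smul_tmul']
            have : (c * c) • m.1 = ((c * c : RingHom.eqLocus σ τ) : A) * m.1 := rfl
            rw [this, h1, TensorProduct.sum_tmul]
            refine Finset.sum_congr rfl fun j _ => ?_
            have e : ((lam j m.1 : RingHom.eqLocus σ τ) : A) * x j = (lam j m.1) • x j := rfl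
            rw [e, TensorProduct.smul_tmul]
            rfl
          rw [Finset.sum_congr rfl this, Finset.sum_comm]
          refine Finset.sum_congr rfl fun j _ => ?_
          rw [← TensorProduct.tmul_sum]
        have e2 : ψ ((c * c) • z) = 0 := by
          rw [hS, Finset.smul_sum, map_sum]
          have : ∀ m ∈ S, ψ ((c * c) • (m.1 ⊗ₜ[RingHom.eqLocus σ τ] m.2)) =
              τ ((c * c : RingHom.eqLocus σ τ) : A) * ψ (m.1 ⊗ₜ[RingHom.eqLocus σ τ] m.2) := by
            intro m _
            rw [TensorProduct.smul_tmul']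
            have : (c * c) • m.1 = ((c * c : RingHom.eqLocus σ τ) : A) * m.1 := rfl
            rw [this, hψ, hψ, map_mul, mul_assoc]
          rw [Finset.sum_congr rfl this, ← Finset.mul_sum, ← map_sum, ← hS, hz, mul_zero]
        have e3 : ∑ j, τ (x j) * σ (w j) = 0 := by
          rw [← e2, e1, map_sum]
          exact Finset.sum_congr rfl fun j _ => (hψ _ _).symm
        have e4 := h2 w e3
        have : (c * c * c) • z = c • ((c * c) • z) := by
          rw [smul_smul]; congr 1; ring
        rw [this, e1, Finset.smul_sum]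
        refine Finset.sum_eq_zero fun j _ => ?_
        rw [← TensorProduct.tmul_smul]
        have : c • w j = (c : A) * w j := rfl
        rw [this, e4, TensorProduct.tmul_zero]
      · intro hccc
        rcases Ideal.IsPrime.mem_or_mem hp hccc with h | h
        · rcases Ideal.IsPrime.mem_or_mem hp h with h | h <;> exact hc h
        · exact hc h
    have h1 : (1 : RingHom.eqLocus σ τ) ∈ Ann := by rw [hAnn]; trivial
    have : (1 : RingHom.eqLocus σ τ) • z = 0 := h1
    rwa [one_smul] at this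
  · intro b
    have key : ∀ b ∈ AddSubmonoid.closure {b | ∃ a a', b = τ a * σ a'}, ∃ z, ψ z = b := by
      intro b hb
      induction hb using AddSubmonoid.closure_induction with
      | mem b hb =>
        obtain ⟨a, a', rfl⟩ := hb
        exact ⟨a ⊗ₜ a', hψ a a'⟩
      | zero => exact ⟨0, map_zero ψ⟩
      | add x y _ _ hx hy =>
        obtain ⟨z, rfl⟩ := hx
        obtain ⟨z', rfl⟩ := hy
        exact ⟨z + z', map_add ψ z z'⟩
    exact key b (hsurj b)

end Final

end Groth.Agent.Lib.Helper3.GQ
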