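import Mathlib
import Groth.Prelude.Def_Grpd

set_option autoImplicit false
universe u

namespace Groth.Agent.Lib.Helper3.GQ

open CategoryTheory CategoryTheory.Limits AlgebraicGeometry

theorem closure_le_addClosure {A B : Type u} [CommRing A] [CommRing B] (σ τ : A →+* B) :
    ∀ b ∈ Subring.closure (Set.range τ ∪ Set.range σ),
      b ∈ AddSubmonoid.closure {b | ∃ a a', b = τ a * σ a'} := by
  set M := AddSubmonoid.closure {b | ∃ a a', b = τ a * σ a'} with hM
  have hneg : ∀ b ∈ M, -b ∈ M := by
    intro b hb
    induction hb using AddSubmonoid.closure_induction with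
    | mem b hb =>
      obtain ⟨a, a', rfl⟩ := hb
      exact AddSubmonoid.subset_closure ⟨-a, a', by rw [map_neg, neg_mul]⟩
    | zero => rw [neg_zero]; exact M.zero_mem
    | add x y _ _ hx hy => rw [neg_add]; exact M.add_mem hx hy
  have hmul : ∀ b ∈ M, ∀ b' ∈ M, b * b' ∈ M := by
    intro b hb b' hb'
    induction hb using AddSubmonoid.closure_induction with
    | mem b hb =>
      obtain ⟨a, a', rfl⟩ := hb
      induction hb' using AddSubmonoid.closure_induction with
      | mem b' hb' =>
        obtain ⟨a₂, a₂', rfl⟩ := hb'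
        exact AddSubmonoid.subset_closure ⟨a * a₂, a' * a₂', by rw [map_mul, map_mul]; ring⟩
      | zero => rw [mul_zero]; exact M.zero_mem
      | add x y _ _ hx hy => rw [mul_add]; exact M.add_mem hx hy
    | zero => rw [zero_mul]; exact M.zero_mem
    | add x y _ _ hx hy => rw [add_mul]; exact M.add_mem hx hy
  intro b hb
  induction hb using Subring.closure_induction with
  | mem b hb =>
    rcases hb with ⟨a, rfl⟩ | ⟨a, rfl⟩
    · exact AddSubmonoid.subset_closure ⟨a, 1, by rw [map_one, mul_one]⟩
    · exact AddSubmonoid.subset_closure ⟨1, a, by rw [map_one, one_mul]⟩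
  | zero => exact M.zero_mem
  | one => exact AddSubmonoid.subset_closure ⟨1, 1, by rw [map_one, map_one, mul_one]⟩
  | add x y _ _ hx hy => exact M.add_mem hx hy
  | neg x _ hx => exact hneg x hx
  | mul x y _ _ hx hy => exact hmul x hx y hy

variable {S : Scheme.{u}} (G : Grpd.GroupoidScheme S)

theorem j_fst : G.j ≫ pullback.fst G.pU G.pU = G.t := by
  unfold Grpd.GroupoidScheme.j; rw [pullback.lift_fst]

theorem j_snd : G.j ≫ pullback.snd G.pU G.pU = G.s := by
  unfold Grpd.GroupoidScheme.j; rw [pullback.lift_snd]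

variable [IsAffine G.U] [IsAffine G.R] [IsFinite G.s] [Mono G.j]

theorem mem_closure_of_mono (b : Γ(G.R, ⊤)) :
    b ∈ AddSubmonoid.closure {b | ∃ a a', b = G.t.appTop.hom a * G.s.appTop.hom a'} := by
  let ζ : G.U ⟶ Spec (CommRingCat.of (ULift.{u} ℤ)) := specULiftZIsTerminal.from G.U
  let k : G.R ⟶ pullback ζ ζ := pullback.lift G.t G.s (specULiftZIsTerminal.hom_ext _ _)
  have hk1 : k ≫ pullback.fst ζ ζ = G.t := pullback.lift_fst _ _ _
  have hk2 : k ≫ pullback.snd ζ ζ = G.s := pullback.lift_snd _ _ _
  haveI : Mono k := by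
    refine ⟨fun {T} a b hab => ?_⟩
    have h1 : a ≫ G.t = b ≫ G.t := by rw [← hk1, ← Category.assoc, hab, Category.assoc]
    have h2 : a ≫ G.s = b ≫ G.s := by rw [← hk2, ← Category.assoc, hab, Category.assoc]
    rw [← cancel_mono G.j]
    apply pullback.hom_ext
    · rw [Category.assoc, Category.assoc, j_fst, h1]
    · rw [Category.assoc, Category.assoc, j_snd, h2]
  haveI : IsFinite (k ≫ pullback.snd ζ ζ) := by rw [hk2]; infer_instance
  haveI : IsFinite k := IsFinite.of_comp k (pullback.snd ζ ζ)
  haveI : IsClosedImmersion k := (IsClosedImmersion.iff_isFinite_and_mono k).2 ⟨inferInstance, inferInstance⟩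
  haveI : IsAffine (pullback ζ ζ) := inferInstance
  have hsurj : Function.Surjective k.appTop.hom :=
    (IsClosedImmersion.isAffine_surjective_of_isAffine (f := k)).2
  have po := isPushout_appTop_of_isPullback (IsPullback.of_hasPullback ζ ζ)
  have hcl := CommRingCat.closure_range_union_range_eq_top_of_isPushout po
  obtain ⟨v, rfl⟩ := hsurj b
  have hv : v ∈ Subring.closure (Set.range (pullback.fst ζ ζ).appTop.hom ∪
      Set.range (pullback.snd ζ ζ).appTop.hom) := by
    have : v ∈ (⊤ : Subring _) := trivial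
    rw [← hcl] at this
    exact this
  apply closure_le_addClosure
  have hmap : Subring.map k.appTop.hom (Subring.closure (Set.range (pullback.fst ζ ζ).appTop.hom ∪
      Set.range (pullback.snd ζ ζ).appTop.hom)) ≤
      Subring.closure (Set.range G.t.appTop.hom ∪ Set.range G.s.appTop.hom) := by
    rw [RingHom.map_closure, Set.image_union]
    apply Subring.closure_mono
    apply Set.union_subset_union
    · rintro _ ⟨_, ⟨a, rfl⟩, rfl⟩
      refine ⟨a, ?_⟩
      have := congr($(congrArg Scheme.Hom.appTop hk1).hom a)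
      rw [Scheme.Hom.comp_appTop] at this
      exact this.symm
    · rintro _ ⟨_, ⟨a, rfl⟩, rfl⟩
      refine ⟨a, ?_⟩
      have := congr($(congrArg Scheme.Hom.appTop hk2).hom a)
      rw [Scheme.Hom.comp_appTop] at this
      exact this.symm
  exact hmap ⟨v, hv, rfl⟩

end Groth.Agent.Lib.Helper3.GQ
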