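import Mathlib
import Groth.Agent.Lib.Helper4.GrpdAffOpen
import Groth.Agent.Lib.Helper4.GrpdIntegral
import Groth.Agent.Lib.Helper4.InvBasis
import Groth.Agent.Lib.lead.GenFiniteSep

set_option autoImplicit false
universe u

namespace Groth.Agent.Lib.Helper3.GQ

open CategoryTheory CategoryTheory.Limits AlgebraicGeometry
open Groth.Agent.Lib.Helper4 Groth.Agent.Lib.Helper4.ProjCharpoly Groth.Agent.Lib.Helper4.ProjNorm

section NrmIndep

variable {A B : Type*} [CommRing A] [CommRing B] [Algebra A B] {n : ℕ}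

theorem mat_sub_one (D : DualBasis A B n) (b : B) : mat D (b - 1) = mat D b - mat D 1 := by
  have := mat_add D (b - 1) 1
  rw [sub_add_cancel] at this
  rw [this, add_sub_cancel_right]

/-- The norm does not depend on the dual basis. -/
theorem nrm_indep (D D' : DualBasis A B n) (b : B) : nrm D b = nrm D' b := by
  let X : Matrix (Fin n) (Fin n) A := Matrix.of fun j k => D.ι j (D'.p k)
  let Y : Matrix (Fin n) (Fin n) A := Matrix.of fun j k => D'.ι j ((b - 1) * D.p k)
  have h1 : X * Y = mat D (b - 1) := by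
    ext j l
    simp only [Matrix.mul_apply, X, Y, Matrix.of_apply, mat]
    conv_rhs => rw [← D'.repr ((b - 1) * D.p l), map_sum]
    refine Finset.sum_congr rfl fun k _ => ?_
    rw [map_smul, smul_eq_mul, mul_comm]
  have h2 : Y * X = mat D' (b - 1) := by
    ext j l
    simp only [Matrix.mul_apply, X, Y, Matrix.of_apply, mat]
    have h3 : (b - 1) * D'.p l = ∑ k, D.ι k (D'.p l) • ((b - 1) * D.p k) := by
      conv_lhs => rw [← D.repr (D'.p l), Finset.mul_sum]
      refine Finset.sum_congr rfl fun k _ => ?_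
      rw [mul_smul_comm]
    conv_rhs => rw [h3, map_sum]
    refine Finset.sum_congr rfl fun k _ => ?_
    rw [map_smul, smul_eq_mul, mul_comm]
  have e1 : (1 : Matrix (Fin n) (Fin n) A) - mat D 1 + mat D b = 1 + X * Y := by
    rw [h1, mat_sub_one]; abel
  have e2 : (1 : Matrix (Fin n) (Fin n) A) - mat D' 1 + mat D' b = 1 + Y * X := by
    rw [h2, mat_sub_one]; abel
  unfold nrm
  rw [e1, e2, Matrix.det_one_add_mul_comm]

end NrmIndep

variable {S : Scheme.{u}} (G : Grpd.GroupoidScheme S)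

theorem t_toQuot : G.t ≫ G.toQuot = G.s ≫ G.toQuot := by
  unfold Grpd.GroupoidScheme.toQuot
  rw [← Category.assoc, ← Category.assoc, Scheme.toSpecΓ_naturality, Scheme.toSpecΓ_naturality,
    Category.assoc, Category.assoc, ← Spec.map_comp, ← Spec.map_comp]
  congr 2
  ext c
  exact c.2.symm

theorem toQuot_t_eq (r : G.R) : G.toQuot (G.t r) = G.toQuot (G.s r) := by
  rw [← Scheme.Hom.comp_apply, ← Scheme.Hom.comp_apply, t_toQuot]

theorem mem_basicOpen_iff {X : Scheme.{u}} (a : Γ(X, ⊤)) (x : X) :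
    x ∈ X.basicOpen a ↔ a ∉ (X.toSpecΓ x).asIdeal := by
  rw [← Scheme.toSpecΓ_preimage_basicOpen]
  rfl

theorem toQuot_asIdeal (u : G.U) :
    (G.toQuot u).asIdeal = (G.U.toSpecΓ u).asIdeal.comap G.invariants.subtype := rfl

variable [IsAffine G.U] [IsAffine G.R] [IsFinite G.s] [Flat G.s] [LocallyOfFinitePresentation G.s]

theorem isIntegralHom_toQuot : IsIntegralHom G.toQuot := by
  unfold Grpd.GroupoidScheme.toQuot
  haveI : IsIntegralHom (Spec.map (CommRingCat.ofHom G.invariants.subtype)) := by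
    rw [IsIntegralHom.SpecMap_iff]
    have := GrpdIntegral.main S G
    exact fun a => this.isIntegral a
  infer_instance

/-- The norm of `t♯ f` is an invariant function. -/
theorem nrm_mem_invariants {n : ℕ}
    (D : letI := G.s.appTop.hom.toAlgebra; DualBasis Γ(G.U, ⊤) Γ(G.R, ⊤) n) (f : Γ(G.U, ⊤)) :
    (letI := G.s.appTop.hom.toAlgebra; nrm D (G.t.appTop.hom f)) ∈ G.invariants := by
  letI alg := G.s.appTop.hom.toAlgebra
  have sq1 := isPushout_appTop_of_isPullback (IsPullback.of_hasPullback G.s G.t)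
  have sq2 := isPushout_appTop_of_isPullback (GrpdInvariant.isPullback_c G)
  obtain ⟨D1, hD1⟩ := GrpdAffOpen.exists_nrm_of_isPushout _ _ _ _ sq1 D
  obtain ⟨D2, hD2⟩ := GrpdAffOpen.exists_nrm_of_isPushout _ _ _ _ sq2 D
  have e3 : (pullback.fst G.s G.t).appTop.hom (G.t.appTop.hom f) =
      G.c.appTop.hom (G.t.appTop.hom f) := (InvBasis.app_eq (NormBC.c_t G) f).symm
  show G.s.appTop.hom (nrm D (G.t.appTop.hom f)) = G.t.appTop.hom (nrm D (G.t.appTop.hom f))
  rw [← hD1, ← hD2, e3]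
  letI := (pullback.snd G.s G.t).appTop.hom.toAlgebra
  exact nrm_indep D2 D1 _

/-- Two points of `U` with the same image in `M = Spec C` are related by a point of `R`. -/
theorem exists_of_toQuot_eq (u₀ u₁ : G.U) (h : G.toQuot u₀ = G.toQuot u₁) :
    ∃ r : G.R, G.t r = u₀ ∧ G.s r = u₁ := by
  classical
  by_contra hno
  push Not at hno
  haveI := isIntegralHom_toQuot G
  let O₁ : Set G.U := G.t '' (G.s ⁻¹' {u₁})
  have hO₁fin : O₁.Finite := (G.s.finite_preimage_singleton u₁).image _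
  have hu₀ : u₀ ∉ O₁ := by
    rintro ⟨r, hr, hr'⟩
    exact hno r hr' hr
  have hO₁q : ∀ o ∈ O₁, G.toQuot o = G.toQuot u₁ := by
    rintro _ ⟨r, hr, rfl⟩
    rw [toQuot_t_eq, hr]
  let O : G.U.Opens := ⟨(closure {u₀})ᶜ, isClosed_closure.isOpen_compl⟩
  have hO₁O : O₁ ⊆ O := by
    intro o ho hcl
    have hsp : u₀ ⤳ o := specializes_iff_mem_closure.2 hcl
    have := Groth.Agent.Lib.lead.GenFiniteSep.eq_of_specializes_of_isIntegralHom G.toQuot hsp
      (h.trans (hO₁q o ho).symm)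
    exact hu₀ (this ▸ ho)
  obtain ⟨f, hQf, hfO⟩ := GrpdAffOpen.exists_basicOpen_of_finite O₁ hO₁fin O hO₁O
  have hu₀f : u₀ ∉ G.U.basicOpen f := fun hmem => hfO hmem (subset_closure rfl)
  letI alg := G.s.appTop.hom.toAlgebra
  obtain ⟨n, ⟨D⟩⟩ := GrpdAffOpen.exists_dualBasis_of_finite_flat G.s
  set N : Γ(G.U, ⊤) := nrm D (G.t.appTop.hom f) with hN
  have hNinv : N ∈ G.invariants := nrm_mem_invariants G D f
  have hNiff := fun y => GrpdAffOpen.mem_basicOpen_nrm_iff G.s D (G.t.appTop.hom f) y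
  have hpre : G.R.basicOpen (G.t.appTop.hom f) = G.t ⁻¹ᵁ (G.U.basicOpen f) :=
    (Scheme.preimage_basicOpen_top G.t f).symm
  have h1 : u₁ ∈ G.U.basicOpen N := by
    rw [hN, hNiff]
    intro x hx
    rw [hpre]
    exact hQf ⟨x, hx, rfl⟩
  have h0 : u₀ ∉ G.U.basicOpen N := by
    rw [hN, hNiff]
    intro hall
    have := hall (G.e u₀) (GrpdInvOpen.pt_e_s G u₀)
    rw [hpre] at this
    have h' : G.t (G.e u₀) ∈ G.U.basicOpen f := this
    rw [GrpdInvOpen.pt_e_t] at h'
    exact hu₀f h'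
  rw [mem_basicOpen_iff] at h0 h1
  have e0 : (⟨N, hNinv⟩ : G.invariants) ∈ (G.toQuot u₀).asIdeal ↔ N ∈ (G.U.toSpecΓ u₀).asIdeal :=
    Iff.rfl
  have e1 : (⟨N, hNinv⟩ : G.invariants) ∈ (G.toQuot u₁).asIdeal ↔ N ∈ (G.U.toSpecΓ u₁).asIdeal :=
    Iff.rfl
  rw [← e1, ← h] at h1
  exact h1 (e0.2 (not_not.1 h0))

end Groth.Agent.Lib.Helper3.GQ
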