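import Mathlib
import Groth.Agent.Lib.Helper3.GQFinal
import Groth.Agent.Lib.Helper3.GQOrbit
import Groth.Agent.Lib.Helper3.GQBC
import Groth.Agent.Lib.Helper3.GQMono

set_option autoImplicit false
universe u

namespace Groth.Agent.Lib.Helper3.GQ

open CategoryTheory CategoryTheory.Limits AlgebraicGeometry TensorProduct
open Groth.Agent.Lib.Helper4

variable {S : Scheme.{u}} (G : Grpd.GroupoidScheme S) [IsAffine G.U] [IsAffine G.R]
  [IsFinite G.s] [Flat G.s] [LocallyOfFinitePresentation G.s]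

/-- Orbits, in terms of prime ideals. -/
theorem exists_prime_of_comap_eq (q q' : Ideal Γ(G.U, ⊤)) [hq : q.IsPrime] [hq' : q'.IsPrime]
    (h : q.comap (algebraMap G.invariants Γ(G.U, ⊤)) = q'.comap (algebraMap G.invariants Γ(G.U, ⊤))) :
    ∃ 𝔯 : Ideal Γ(G.R, ⊤), 𝔯.IsPrime ∧ 𝔯.comap G.t.appTop.hom = q ∧ 𝔯.comap G.s.appTop.hom = q' := by
  obtain ⟨u₀, hu₀⟩ := G.U.toSpecΓ.homeomorph.surjective ⟨q, hq⟩
  obtain ⟨u₁, hu₁⟩ := G.U.toSpecΓ.homeomorph.surjective ⟨q', hq'⟩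
  have hu₀' : (G.U.toSpecΓ u₀).asIdeal = q := congrArg PrimeSpectrum.asIdeal hu₀
  have hu₁' : (G.U.toSpecΓ u₁).asIdeal = q' := congrArg PrimeSpectrum.asIdeal hu₁
  have hquot : G.toQuot u₀ = G.toQuot u₁ := by
    apply PrimeSpectrum.ext
    rw [toQuot_asIdeal, toQuot_asIdeal, hu₀', hu₁']
    exact h
  obtain ⟨r, hr0, hr1⟩ := exists_of_toQuot_eq G u₀ u₁ hquot
  refine ⟨(G.R.toSpecΓ r).asIdeal, (G.R.toSpecΓ r).isPrime, ?_, ?_⟩
  · rw [← hu₀', ← hr0]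
    have := congrArg (fun f : G.R ⟶ Spec Γ(G.U, ⊤) => (f r).asIdeal) (Scheme.toSpecΓ_naturality G.t)
    exact this.symm
  · rw [← hu₁', ← hr1]
    have := congrArg (fun f : G.R ⟶ Spec Γ(G.U, ⊤) => (f r).asIdeal) (Scheme.toSpecΓ_naturality G.s)
    exact this.symm

variable [Mono G.j]

theorem alg_main :
    Module.Finite G.invariants Γ(G.U, ⊤) ∧ Module.Projective G.invariants Γ(G.U, ⊤) ∧
      ∀ ψ : Γ(G.U, ⊤) ⊗[G.invariants] Γ(G.U, ⊤) →+ Γ(G.R, ⊤),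
        (∀ a a', ψ (a ⊗ₜ a') = G.t.appTop.hom a * G.s.appTop.hom a') → Function.Bijective ψ := by
  have sq1 := isPushout_appTop_of_isPullback (IsPullback.of_hasPullback G.s G.t)
  have sq2 := isPushout_appTop_of_isPullback (GrpdInvariant.isPullback_c G)
  have H1 : ∀ a, (pullback.fst G.s G.t).appTop.hom (G.s.appTop.hom a) =
      (pullback.snd G.s G.t).appTop.hom (G.t.appTop.hom a) := InvBasis.app_eq pullback.condition
  have H2 : ∀ a, G.c.appTop.hom (G.s.appTop.hom a) =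
      (pullback.snd G.s G.t).appTop.hom (G.s.appTop.hom a) := InvBasis.app_eq (GrpdInvariant.c_s G)
  have H3 : ∀ a, G.c.appTop.hom (G.t.appTop.hom a) =
      (pullback.fst G.s G.t).appTop.hom (G.t.appTop.hom a) := InvBasis.app_eq (NormBC.c_t G)
  have hεσ : ∀ a, G.e.appTop.hom (G.s.appTop.hom a) = a := InvBasis.app_eq_id G.e_s
  have hετ : ∀ a, G.e.appTop.hom (G.t.appTop.hom a) = a := InvBasis.app_eq_id G.e_t
  obtain ⟨n, ⟨D0⟩⟩ := GrpdIntegral.exists_dualBasis_of_finite_flat G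
  let D : RDual G.s.appTop.hom n := RDual.ofDualBasis G.s.appTop.hom D0
  obtain ⟨D1, hD1p, hD1ι⟩ := RDual.exists_baseChange _ _ _ _ sq1 D
  obtain ⟨D2, hD2p, hD2ι⟩ := RDual.exists_baseChange _ _ _ _ sq2 D
  have hsurj := mem_closure_of_mono G
  have hint : Algebra.IsIntegral (RingHom.eqLocus G.s.appTop.hom G.t.appTop.hom) Γ(G.U, ⊤) :=
    GrpdIntegral.main S G
  have horb : ∀ (q q' : Ideal Γ(G.U, ⊤)) [q.IsPrime] [q'.IsPrime],
      q.comap (algebraMap (RingHom.eqLocus G.s.appTop.hom G.t.appTop.hom) Γ(G.U, ⊤)) =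
        q'.comap (algebraMap (RingHom.eqLocus G.s.appTop.hom G.t.appTop.hom) Γ(G.U, ⊤)) →
      ∃ 𝔯 : Ideal Γ(G.R, ⊤), 𝔯.IsPrime ∧ 𝔯.comap G.t.appTop.hom = q ∧
        𝔯.comap G.s.appTop.hom = q' := fun q q' _ _ h => exists_prime_of_comap_eq G q q' h
  have fp := finite_projective G.s.appTop.hom G.t.appTop.hom G.e.appTop.hom
    (pullback.fst G.s G.t).appTop.hom (pullback.snd G.s G.t).appTop.hom G.c.appTop.hom
    hεσ hετ H1 H2 H3 D D1 D2 hD1p hD1ι hD2p hD2ι hsurj hint horb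
  refine ⟨fp.1, fp.2, fun ψ hψ => ?_⟩
  exact tensor_bijective G.s.appTop.hom G.t.appTop.hom G.e.appTop.hom
    (pullback.fst G.s G.t).appTop.hom (pullback.snd G.s G.t).appTop.hom G.c.appTop.hom
    hεσ hετ H1 H2 H3 D D1 D2 hD1p hD1ι hD2p hD2ι hsurj hint horb ψ hψ

end Groth.Agent.Lib.Helper3.GQ
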