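import Mathlib
import Groth.Agent.Lib.Helper3.GQAlgMain

set_option autoImplicit false
universe u

namespace Groth.Agent.Lib.Helper3.GQ

open CategoryTheory CategoryTheory.Limits AlgebraicGeometry TensorProduct
open Groth.Agent.Lib.Helper4

variable {S : Scheme.{u}} (G : Grpd.GroupoidScheme S) [IsAffine G.U] [IsAffine G.R]
  [IsFinite G.s] [Flat G.s] [LocallyOfFinitePresentation G.s] [Mono G.j]

theorem toQuot_props :
    IsFinite G.toQuot ∧ Flat G.toQuot ∧ LocallyOfFinitePresentation G.toQuot := by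
  obtain ⟨hfin, hproj, -⟩ := alg_main G
  haveI := hfin
  haveI := hproj
  haveI : Module.FinitePresentation G.invariants Γ(G.U, ⊤) :=
    Module.finitePresentation_of_projective _ _
  have h1 : IsFinite (Spec.map (CommRingCat.ofHom G.invariants.subtype)) := by
    rw [IsFinite.SpecMap_iff]
    show (algebraMap G.invariants Γ(G.U, ⊤)).Finite
    rw [RingHom.finite_algebraMap]
    infer_instance
  have h2 : Flat (Spec.map (CommRingCat.ofHom G.invariants.subtype)) := by
    rw [Flat.SpecMap_iff]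
    show (algebraMap G.invariants Γ(G.U, ⊤)).Flat
    rw [RingHom.flat_algebraMap_iff]
    infer_instance
  have h3 : LocallyOfFinitePresentation (Spec.map (CommRingCat.ofHom G.invariants.subtype)) := by
    rw [LocallyOfFinitePresentation.SpecMap_iff]
    show (algebraMap G.invariants Γ(G.U, ⊤)).FinitePresentation
    rw [RingHom.finitePresentation_algebraMap]
    infer_instance
  unfold Grpd.GroupoidScheme.toQuot
  exact ⟨inferInstance, inferInstance, inferInstance⟩

theorem isPullback_toQuot : IsPullback G.t G.s G.toQuot G.toQuot := by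
  obtain ⟨-, -, hψ⟩ := alg_main G
  letI algB : Algebra G.invariants Γ(G.R, ⊤) :=
    (G.t.appTop.hom.comp G.invariants.subtype).toAlgebra
  let f : Γ(G.U, ⊤) →ₐ[G.invariants] Γ(G.R, ⊤) :=
    { G.t.appTop.hom with commutes' := fun c => rfl }
  let g : Γ(G.U, ⊤) →ₐ[G.invariants] Γ(G.R, ⊤) :=
    { G.s.appTop.hom with commutes' := fun c => c.2 }
  let ψ : Γ(G.U, ⊤) ⊗[G.invariants] Γ(G.U, ⊤) →ₐ[G.invariants] Γ(G.R, ⊤) :=
    Algebra.TensorProduct.productMap f g
  have hψt : ∀ a a', ψ (a ⊗ₜ a') = G.t.appTop.hom a * G.s.appTop.hom a' := fun a a' =>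
    Algebra.TensorProduct.productMap_apply_tmul f g a a'
  have hbij : Function.Bijective ψ := hψ (ψ : _ →+ _) hψt
  let e : CommRingCat.of (Γ(G.U, ⊤) ⊗[G.invariants] Γ(G.U, ⊤)) ≅ Γ(G.R, ⊤) :=
    (RingEquiv.ofBijective (ψ : _ →+* _) hbij).toCommRingCatIso
  have po := CommRingCat.isPushout_tensorProduct G.invariants Γ(G.U, ⊤) Γ(G.U, ⊤)
  have po' : IsPushout (CommRingCat.ofHom G.invariants.subtype)
      (CommRingCat.ofHom G.invariants.subtype) G.t.appTop G.s.appTop := by
    refine po.of_iso (Iso.refl _) (Iso.refl _) (Iso.refl _) e ?_ ?_ ?_ ?_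
    · rfl
    · rfl
    · ext a
      show ψ (a ⊗ₜ 1) = G.t.appTop.hom a
      rw [hψt, map_one, mul_one]
    · ext a
      show ψ (1 ⊗ₜ a) = G.s.appTop.hom a
      rw [hψt, map_one, one_mul]
  have pb := isPullback_SpecMap_of_isPushout _ _ _ _ po'
  refine pb.of_iso' (asIso G.R.toSpecΓ) (asIso G.U.toSpecΓ) (asIso G.U.toSpecΓ) (Iso.refl _)
    ?_ ?_ ?_ ?_
  · exact (Scheme.toSpecΓ_naturality G.t).symm
  · exact (Scheme.toSpecΓ_naturality G.s).symm
  · simp only [asIso_hom, Iso.refl_hom, Category.comp_id]; rfl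
  · simp only [asIso_hom, Iso.refl_hom, Category.comp_id]; rfl

theorem main :
    (IsFinite G.toQuot ∧ Flat G.toQuot ∧ LocallyOfFinitePresentation G.toQuot) ∧
      ∃ φ : G.R ≅ pullback G.toQuot G.toQuot,
        φ.hom ≫ pullback.fst G.toQuot G.toQuot = G.t ∧
          φ.hom ≫ pullback.snd G.toQuot G.toQuot = G.s := by
  refine ⟨toQuot_props G, ?_⟩
  have pb := isPullback_toQuot G
  exact ⟨pb.isoPullback, pb.isoPullback_hom_fst, pb.isoPullback_hom_snd⟩

end Groth.Agent.Lib.Helper3.GQ
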