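import Mathlib
import Groth.Agent.Lib.Helper3.GQMain
import Groth.Agent.Lib.Helper4.QuotIff

set_option autoImplicit false
universe u

namespace Groth.Agent.Lib.Helper3.GQ

open CategoryTheory CategoryTheory.Limits AlgebraicGeometry
open Groth.Agent.Lib.Helper4

variable {S : Scheme.{u}} (G : Grpd.GroupoidScheme S) [IsAffine G.U] [IsAffine G.R]
  [IsFinite G.s] [Flat G.s] [LocallyOfFinitePresentation G.s] [Mono G.j]

theorem surjective_toQuot : Surjective G.toQuot := by
  haveI := isIntegralHom_toQuot G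
  unfold Grpd.GroupoidScheme.toQuot
  haveI : Surjective (Spec.map (CommRingCat.ofHom G.invariants.subtype)) := by
    constructor
    intro x
    have hint : Algebra.IsIntegral G.invariants Γ(G.U, ⊤) := GrpdIntegral.main S G
    obtain ⟨Q, -, hQ, hQc⟩ := Ideal.exists_ideal_over_prime_of_isIntegral x.asIdeal
      (⊥ : Ideal Γ(G.U, ⊤)) (by
        intro c hc
        have h0 : (c : Γ(G.U, ⊤)) = 0 := hc
        have : c = 0 := Subtype.ext h0
        rw [this]; exact Ideal.zero_mem _)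
    exact ⟨⟨Q, hQ⟩, PrimeSpectrum.ext hQc⟩
  infer_instance

theorem main7488 :
    ∃! m : Spec (CommRingCat.of G.invariants) ⟶ S, ∃ h : G.toQuot ≫ m = G.pU,
      QuotSh.IsQuotient Scheme.fppfPrecoverage
        (Over.homMk G.s G.s_over : Over.mk G.pR ⟶ Over.mk G.pU)
        (Over.homMk G.t G.t_over : Over.mk G.pR ⟶ Over.mk G.pU)
        (Over.homMk G.toQuot h : Over.mk G.pU ⟶ Over.mk m) := by
  obtain ⟨hfin, hflat, hlfp⟩ := toQuot_props G
  haveI := hfin
  haveI := hflat
  haveI := hlfp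
  haveI := surjective_toQuot G
  have pb := isPullback_toQuot G
  haveI : EffectiveEpi G.toQuot := inferInstance
  have hcoeq : ∀ {Z : Scheme.{u}} (g₁ g₂ : Z ⟶ G.U), g₁ ≫ G.toQuot = g₂ ≫ G.toQuot →
      g₁ ≫ G.pU = g₂ ≫ G.pU := by
    intro Z g₁ g₂ h
    obtain ⟨ρ, h1, h2⟩ := pb.exists_lift g₁ g₂ h
    rw [← h1, ← h2, Category.assoc, Category.assoc, G.t_over, G.s_over]
  let m : Spec (CommRingCat.of G.invariants) ⟶ S := EffectiveEpi.desc G.toQuot G.pU hcoeq
  have hm : G.toQuot ≫ m = G.pU := EffectiveEpi.fac G.toQuot G.pU hcoeq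
  refine ⟨m, ⟨hm, ?_⟩, ?_⟩
  · refine QuotIff.isQuotient_of_isKernelPair _ _ _ _ ?_ ?_
    · refine IsPullback.of_map (Over.forget S) ?_ ?_
      · ext
        exact (t_toQuot G).symm
      · exact pb.flip
    · rw [EpiRep.epi_repMap_iff_generate]
      exact Precoverage.generate_mem_toGrothendieck
        (Scheme.Hom.singleton_mem_fppfPrecoverage G.toQuot)
  · rintro m' ⟨hm', -⟩
    haveI : Epi G.toQuot := inferInstance
    rw [← cancel_epi G.toQuot, hm', hm]

end Groth.Agent.Lib.Helper3.GQ
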