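import Mathlib
import Groth.Prelude.Def_Grpd
import Groth.Prelude.Def_AlgSp

set_option autoImplicit false
universe u

namespace Groth.Agent.Lib.Helper3.GQ

open CategoryTheory CategoryTheory.Limits AlgebraicGeometry

section OfRel

variable {S U R : Scheme.{u}} (pU : U ⟶ S) (s t : R ⟶ U) (hst : s ≫ pU = t ≫ pU)
  (hmono : ∀ {T : Scheme.{u}} (α β : T ⟶ R), α ≫ s = β ≫ s → α ≫ t = β ≫ t → α = β)
  (e : U ⟶ R) (e_s : e ≫ s = 𝟙 U) (e_t : e ≫ t = 𝟙 U)
  (i : R ⟶ R) (i_s : i ≫ s = t) (i_t : i ≫ t = s)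
  (c : pullback s t ⟶ R) (c_s : c ≫ s = pullback.snd s t ≫ s)
  (c_t : c ≫ t = pullback.fst s t ≫ t)

include c_s in
theorem ofRel_lc_s {T : Scheme.{u}} (α β : T ⟶ R) (h : α ≫ s = β ≫ t) :
    (pullback.lift α β h ≫ c) ≫ s = β ≫ s := by
  rw [Category.assoc, c_s, pullback.lift_snd_assoc]

include c_t in
theorem ofRel_lc_t {T : Scheme.{u}} (α β : T ⟶ R) (h : α ≫ s = β ≫ t) :
    (pullback.lift α β h ≫ c) ≫ t = α ≫ t := by
  rw [Category.assoc, c_t, pullback.lift_fst_assoc]

/-- A groupoid scheme from an equivalence relation `(t, s) : R → U ×_S U` (jointly monic) with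
given identity, inverse and composition. -/
noncomputable def ofRel : Grpd.GroupoidScheme S where
  U := U
  R := R
  pU := pU
  pR := s ≫ pU
  s := s
  t := t
  e := e
  i := i
  c := c
  s_over := rfl
  t_over := hst.symm
  comp_s := fun α β h => ofRel_lc_s s t c c_s α β h
  comp_t := fun α β h => ofRel_lc_t s t c c_t α β h
  assoc := by
    intro T α β γ h₁ h₂
    apply hmono
    · rw [ofRel_lc_s s t c c_s, ofRel_lc_s s t c c_s, ofRel_lc_s s t c c_s]
    · rw [ofRel_lc_t s t c c_t, ofRel_lc_t s t c c_t, ofRel_lc_t s t c c_t]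
  e_s := e_s
  e_t := e_t
  comp_e := by
    intro T α
    apply hmono
    · rw [ofRel_lc_s s t c c_s, Category.assoc, Category.assoc, e_s, Category.comp_id]
    · rw [ofRel_lc_t s t c c_t]
  e_comp := by
    intro T α
    apply hmono
    · rw [ofRel_lc_s s t c c_s]
    · rw [ofRel_lc_t s t c c_t, Category.assoc, Category.assoc, e_t, Category.comp_id]
  i_s := i_s
  i_t := i_t
  comp_i := by
    intro T α
    apply hmono
    · rw [ofRel_lc_s s t c c_s, Category.assoc, i_s, Category.assoc, Category.assoc, e_s,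
        Category.comp_id]
    · rw [ofRel_lc_t s t c c_t, Category.assoc, Category.assoc, e_t, Category.comp_id]
  i_comp := by
    intro T α
    apply hmono
    · rw [ofRel_lc_s s t c c_s, Category.assoc, Category.assoc, e_s, Category.comp_id]
    · rw [ofRel_lc_t s t c c_t, Category.assoc, i_t, Category.assoc, Category.assoc, e_t,
        Category.comp_id]

end OfRel

section OfEqvRel

variable {S : Scheme.{u}} {R U : Over S} (s t : R ⟶ U) (h : AlgSp.IsEqvRel s t)

include h in
theorem eqvRel_hmono {T : Scheme.{u}} (α β : T ⟶ R.left) (h1 : α ≫ s.left = β ≫ s.left)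
    (h2 : α ≫ t.left = β ≫ t.left) : α = β := by
  have hβ : β ≫ R.hom = α ≫ R.hom := by
    rw [← Over.w s, ← Category.assoc, ← Category.assoc, h1]
  let α' : Over.mk (α ≫ R.hom) ⟶ R := Over.homMk α rfl
  let β' : Over.mk (α ≫ R.hom) ⟶ R := Over.homMk β hβ
  have := h.injective (Over.mk (α ≫ R.hom)) α' β' (by ext; exact h2) (by ext; exact h1)
  exact congrArg (fun k => k.left) this

include h in
theorem eqvRel_exists_e : ∃ e : U.left ⟶ R.left, e ≫ s.left = 𝟙 _ ∧ e ≫ t.left = 𝟙 _ := by
  obtain ⟨r, h1, h2⟩ := (h.equivalence U).refl (𝟙 U)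
  exact ⟨r.left, congrArg (fun k => k.left) h2, congrArg (fun k => k.left) h1⟩

include h in
theorem eqvRel_exists_i : ∃ i : R.left ⟶ R.left, i ≫ s.left = t.left ∧ i ≫ t.left = s.left := by
  have h0 : ∃ r : R ⟶ R, r ≫ t = t ∧ r ≫ s = s := ⟨𝟙 R, Category.id_comp _, Category.id_comp _⟩
  obtain ⟨r, h1, h2⟩ := (h.equivalence R).symm h0
  exact ⟨r.left, congrArg (fun k => k.left) h2, congrArg (fun k => k.left) h1⟩

include h in
theorem eqvRel_exists_c : ∃ c : pullback s.left t.left ⟶ R.left,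
    c ≫ s.left = pullback.snd s.left t.left ≫ s.left ∧
    c ≫ t.left = pullback.fst s.left t.left ≫ t.left := by
  let P : Over S := Over.mk (pullback.fst s.left t.left ≫ R.hom)
  let f : P ⟶ R := Over.homMk (pullback.fst s.left t.left) rfl
  have hg : pullback.snd s.left t.left ≫ R.hom = pullback.fst s.left t.left ≫ R.hom := by
    calc pullback.snd s.left t.left ≫ R.hom
        = pullback.snd s.left t.left ≫ t.left ≫ U.hom := by rw [Over.w t]
      _ = pullback.fst s.left t.left ≫ s.left ≫ U.hom := by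
          rw [← Category.assoc, ← pullback.condition, Category.assoc]
      _ = pullback.fst s.left t.left ≫ R.hom := by rw [Over.w s]
  let g : P ⟶ R := Over.homMk (pullback.snd s.left t.left) hg
  have hfg : f ≫ s = g ≫ t := by
    ext
    exact pullback.condition
  have h1 : ∃ r : P ⟶ R, r ≫ t = f ≫ t ∧ r ≫ s = f ≫ s := ⟨f, rfl, rfl⟩
  have h2 : ∃ r : P ⟶ R, r ≫ t = f ≫ s ∧ r ≫ s = g ≫ s := ⟨g, hfg.symm, rfl⟩
  obtain ⟨r, hr1, hr2⟩ := (h.equivalence P).trans h1 h2
  exact ⟨r.left, congrArg (fun k => k.left) hr2, congrArg (fun k => k.left) hr1⟩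

/-- The groupoid scheme attached to an equivalence relation. -/
noncomputable def ofEqvRel : Grpd.GroupoidScheme S :=
  ofRel U.hom s.left t.left ((Over.w s).trans (Over.w t).symm)
    (fun α β h1 h2 => eqvRel_hmono s t h α β h1 h2)
    (eqvRel_exists_e s t h).choose (eqvRel_exists_e s t h).choose_spec.1
    (eqvRel_exists_e s t h).choose_spec.2
    (eqvRel_exists_i s t h).choose (eqvRel_exists_i s t h).choose_spec.1
    (eqvRel_exists_i s t h).choose_spec.2
    (eqvRel_exists_c s t h).choose (eqvRel_exists_c s t h).choose_spec.1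
    (eqvRel_exists_c s t h).choose_spec.2

@[simp] theorem ofEqvRel_U : (ofEqvRel s t h).U = U.left := rfl
@[simp] theorem ofEqvRel_R : (ofEqvRel s t h).R = R.left := rfl
@[simp] theorem ofEqvRel_s : (ofEqvRel s t h).s = s.left := rfl
@[simp] theorem ofEqvRel_t : (ofEqvRel s t h).t = t.left := rfl
@[simp] theorem ofEqvRel_pU : (ofEqvRel s t h).pU = U.hom := rfl

instance ofEqvRel_mono_j : Mono (ofEqvRel s t h).j := by
  refine ⟨fun {T} α β hαβ => ?_⟩
  have h1 := congrArg (fun k => k ≫ pullback.fst _ _) hαβ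
  have h2 := congrArg (fun k => k ≫ pullback.snd _ _) hαβ
  simp only [Category.assoc, Grpd.GroupoidScheme.j, pullback.lift_fst, pullback.lift_snd] at h1 h2
  exact eqvRel_hmono s t h α β h2 h1

end OfEqvRel

end Groth.Agent.Lib.Helper3.GQ
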