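import Mathlib
import Groth.Agent.Lib.Helper3.GQRel
import Groth.Agent.Lib.Helper3.GQQuot

set_option autoImplicit false
universe u

namespace Groth.Agent.Lib.Helper3.GQ

open CategoryTheory CategoryTheory.Limits AlgebraicGeometry

variable {S : Scheme.{u}} {R U : Over S} (s t : R ⟶ U)

/-- The quotient of an affine scheme by a finite locally free equivalence relation (SGA3 V 4.1),
in the language of equivalence relations in `Over S`. -/
theorem exists_affine_quotient (h : AlgSp.IsEqvRel s t) [IsAffine U.left] [IsAffine R.left]
    [IsFinite s.left] [Flat s.left] [LocallyOfFinitePresentation s.left] :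
    ∃ (M : Over S) (q : U ⟶ M), IsAffine M.left ∧ IsFinite q.left ∧ Flat q.left ∧
      LocallyOfFinitePresentation q.left ∧ Surjective q.left ∧ IsPullback t s q q := by
  let G := ofEqvRel s t h
  haveI : IsAffine G.U := inferInstanceAs (IsAffine U.left)
  haveI : IsAffine G.R := inferInstanceAs (IsAffine R.left)
  haveI : IsFinite G.s := inferInstanceAs (IsFinite s.left)
  haveI : Flat G.s := inferInstanceAs (Flat s.left)
  haveI : LocallyOfFinitePresentation G.s := inferInstanceAs (LocallyOfFinitePresentation s.left)
  haveI : Mono G.j := ofEqvRel_mono_j s t h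
  obtain ⟨hfin, hflat, hlfp⟩ := toQuot_props G
  have hsurj := surjective_toQuot G
  have pb := isPullback_toQuot G
  obtain ⟨m, ⟨hm, -⟩, -⟩ := main7488 G
  have hm' : G.toQuot ≫ m = U.hom := hm
  let M : Over S := Over.mk m
  let q : U ⟶ M := Over.homMk (U := U) (V := M) G.toQuot hm'
  refine ⟨M, q, ?_, hfin, hflat, hlfp, hsurj, ?_⟩
  · exact inferInstanceAs (IsAffine (Spec (CommRingCat.of G.invariants)))
  · refine IsPullback.of_map (Over.forget S) ?_ pb
    ext
    exact pb.w

end Groth.Agent.Lib.Helper3.GQ
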