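import Groth.Agent.Lib.Helper3.QAffDescGen
import Groth.Agent.Lib.Helper3.AffDescAffine
import Mathlib.AlgebraicGeometry.Morphisms.Descent
import Mathlib.AlgebraicGeometry.Morphisms.FlatDescent

set_option autoImplicit false

universe u
open CategoryTheory CategoryTheory.Limits AlgebraicGeometry Opposite AlgSp MorphismProperty

namespace Groth.Agent.Lib.Helper3.DescImm

open Groth.Agent.Lib.Helper3 Groth.Agent.Lib.Helper3.QAffDesc Groth.Agent.Lib.Helper3.AffDesc

/-- fppf covers -/
abbrev Pfppf : MorphismProperty Scheme.{u} := @Surjective ⊓ @Flat ⊓ @LocallyOfFinitePresentation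

/-- affineness of a scheme descends along an fppf cover of an affine base. -/
theorem isAffine_of_fppf_cover {R : CommRingCat.{u}} {X Y : Scheme.{u}} (f : X ⟶ Spec R)
    (g : Y ⟶ Spec R) (hf : Pfppf f) (h : IsAffineHom (pullback.fst f g)) : IsAffine Y := by
  obtain ⟨⟨hf1, hf2⟩, hf3⟩ := hf
  have hf1' : Surjective f := hf1
  have hf2' : Flat f := hf2
  have hf3' : LocallyOfFinitePresentation f := hf3
  have : UniversallyOpen f := inferInstance
  obtain ⟨V₀, j, hV₀, hje, hjs⟩ := exists_affine_open_cover f
  let S : Scheme.{u} := Spec R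
  let Z : Over S := Over.mk (𝟙 S)
  let V : Over S := Over.mk (j ≫ f)
  let Yo : Over S := Over.mk g
  let q : V ⟶ Z := Over.homMk (j ≫ f) (by simp [V, Z])
  let gZ : Yo ⟶ Z := Over.homMk g (by simp [Yo, Z])
  let W : Over S := pullback gZ q
  let p₁ : W ⟶ Yo := pullback.fst gZ q
  let w : W ⟶ V := pullback.snd gZ q
  have sqW : IsPullback p₁ w gZ q := IsPullback.of_hasPullback _ _
  have sqWL : IsPullback p₁.left w.left g (j ≫ f) := sqW.map (Over.forget S)
  -- `w.left` is affine
  have hw : IsAffineHom w.left := by
    -- `w.left` is a base change of `pullback.fst f g` along `j`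
    have sq1 : IsPullback (pullback.fst f g) (pullback.snd f g) f g := IsPullback.of_hasPullback _ _
    let l : W.left ⟶ pullback f g := sq1.lift (w.left ≫ j) p₁.left (by
      rw [Category.assoc]; exact sqWL.w.symm)
    have hl1 : l ≫ pullback.fst f g = w.left ≫ j := sq1.lift_fst _ _ _
    have hl2 : l ≫ pullback.snd f g = p₁.left := sq1.lift_snd _ _ _
    have sq2 : IsPullback l w.left (pullback.fst f g) j := by
      refine IsPullback.of_right ?_ hl1 sq1.flip
      rw [hl2]
      exact sqWL
    exact MorphismProperty.of_isPullback sq2 h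
  have hVaff : IsAffine V.left := hV₀
  have hZaff : IsAffine Z.left := inferInstanceAs (IsAffine (Spec R))
  have hWaff : IsAffine W.left := isAffine_of_isAffineHom w.left
  have hq1 : Flat q.left := by
    change Flat (j ≫ f); infer_instance
  have hq2 : LocallyOfFinitePresentation q.left := by
    change LocallyOfFinitePresentation (j ≫ f); infer_instance
  have hq3 : Surjective q.left := hjs
  have hq : Sheaf.IsLocallySurjective ((yon S).map q) := isLocallySurjective_yon_map_of_fppf q
  obtain ⟨W₀, i, c, e, hW₀, -, -, -⟩ := exists_affine_of_cover q w hq ((yon S).map gZ)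
    ((yon S).map p₁) (sqW.map (yon S))
  let e₀ : W₀ ≅ Yo := (yon S).preimageIso e
  have : IsIso e₀.hom.left := inferInstanceAs (IsIso ((Over.forget S).map e₀.hom))
  exact IsAffine.of_isIso e₀.inv.left

/-- affine morphisms descend along fppf covers. -/
instance isAffineHom_descendsAlong_fppf :
    MorphismProperty.DescendsAlong @IsAffineHom (Pfppf.{u}) := by
  apply IsZariskiLocalAtTarget.descendsAlong
  intro R X Y f g hf h
  have : IsAffine Y := isAffine_of_fppf_cover f g hf h
  exact (HasAffineProperty.iff_of_isAffine (P := @IsAffineHom)).2 this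

/-- closed immersions descend along quasi-compact fppf covers. -/
theorem isClosedImmersion_descendsAlong_fppf_qc :
    MorphismProperty.DescendsAlong @IsClosedImmersion (Pfppf.{u} ⊓ @QuasiCompact) := by
  refine HasAffineProperty.descendsAlong_of_affineAnd (P := @IsClosedImmersion) (P' := Pfppf)
    (Q := fun f => Function.Surjective f) (Q' := RingHom.FaithfullyFlat) ?_ ?_
    IsClosedImmersion.hasAffineProperty RingHom.surjective_respectsIso
    RingHom.FaithfullyFlat.codescendsAlong_surjective
  · rintro X Y f ⟨hf1, hf2⟩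
    have : MorphismProperty.ContainsIdentities (@LocallyOfFinitePresentation) :=
      ⟨fun X => inferInstance⟩
    exact ⟨⟨hf2, IsLocalIso.le_of_isZariskiLocalAtSource @Flat _ _ _ hf1⟩,
      IsLocalIso.le_of_isZariskiLocalAtSource @LocallyOfFinitePresentation _ _ _ hf1⟩
  · intro R S f hf
    obtain ⟨⟨hf1, hf2⟩, hf3⟩ := hf
    rw [RingHom.FaithfullyFlat.iff_flat_and_comap_surjective]
    have hf1' : Surjective (Spec.map f) := hf1
    refine ⟨?_, (Spec.map f).surjective⟩
    rwa [HasRingHomProperty.Spec_iff (P := @Flat)] at hf2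

/-- closed immersions descend along fppf covers. -/
instance isClosedImmersion_descendsAlong_fppf :
    MorphismProperty.DescendsAlong @IsClosedImmersion (Pfppf.{u}) := by
  have := isClosedImmersion_descendsAlong_fppf_qc.{u}
  apply IsZariskiLocalAtTarget.descendsAlong
  rintro R X Y f g ⟨⟨h₁, h₂⟩, h₃⟩ H
  have h₁' : Surjective f := h₁
  have h₂' : Flat f := h₂
  have h₃' : LocallyOfFinitePresentation f := h₃
  obtain ⟨V : X.Opens, hV, e⟩ := f.isOpenMap.exists_opens_image_eq_of_prespectralSpace
    f.continuous (by simp) isOpen_univ isCompact_univ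
  refine MorphismProperty.of_isPullback_of_descendsAlong (Q := Pfppf.{u} ⊓ @QuasiCompact)
    (.paste_vert (.of_hasPullback V.ι _) (.of_hasPullback f g)) ⟨⟨⟨?_, ?_⟩, ?_⟩,
      (quasiCompact_iff_compactSpace _).mpr (isCompact_iff_compactSpace.mp hV)⟩ ?_
  · exact ⟨fun x ↦ have ⟨y, hyV, e⟩ := e.ge (Set.mem_univ x); ⟨⟨y, hyV⟩, e⟩⟩
  · infer_instance
  · infer_instance
  · exact IsZariskiLocalAtTarget.of_isPullback (.flip <| .of_hasPullback _ _) H

/-- immersions descend along fppf covers. -/
instance isImmersion_descendsAlong_fppf :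
    MorphismProperty.DescendsAlong @IsImmersion (Pfppf.{u}) := by
  apply MorphismProperty.DescendsAlong.mk'
  intro X Y Z f g _ hf hg
  have hf0 := hf
  obtain ⟨⟨h₁, h₂⟩, h₃⟩ := hf
  have h₁' : Surjective f := h₁
  have h₂' : Flat f := h₂
  have h₃' : LocallyOfFinitePresentation f := h₃
  have hg' : IsImmersion (pullback.fst f g) := hg
  have hopen : IsOpenMap f.base := f.isOpenMap
  have hqm : Topology.IsQuotientMap f.base := hopen.isQuotientMap f.continuous f.surjective
  have hcob : IsOpen (coborder (Set.range g.base)) := by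
    rw [← hqm.isOpen_preimage, ← coborder_preimage hopen f.continuous,
      ← Scheme.Pullback.range_fst]
    exact (pullback.fst f g).isLocallyClosed_range.isOpen_coborder
  let U : Z.Opens := ⟨coborder (Set.range g.base), hcob⟩
  have hsub : Set.range g.base ⊆ Set.range U.ι.base := by
    simpa [U] using subset_coborder
  let g₁ : Y ⟶ U := IsOpenImmersion.lift U.ι g hsub
  have hg₁ : g₁ ≫ U.ι = g := IsOpenImmersion.lift_fac _ _ _
  have hcl : IsClosed (Set.range g₁.base) := by
    convert! isClosed_preimage_val_coborder (s := Set.range g.base)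
    apply Set.image_injective.mpr U.ι.isEmbedding.injective
    rw [← Set.range_comp, ← TopCat.coe_comp, ← Scheme.Hom.comp_base, hg₁]
    exact (Set.image_preimage_eq_of_subset (by simpa using! subset_coborder)).symm
  let f' := pullback.snd f U.ι
  have hf' : Pfppf f' := MorphismProperty.pullback_snd _ _ hf0
  suffices IsClosedImmersion g₁ by rw [← hg₁]; infer_instance
  refine MorphismProperty.of_pullback_fst_of_descendsAlong (P := @IsClosedImmersion)
    (Q := Pfppf) (f := f') hf' ?_
  have him : IsImmersion (pullback.fst f' g₁) := by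
    have : IsImmersion (pullback.fst f (g₁ ≫ U.ι)) := by
      rwa [hg₁]
    have : IsImmersion (pullback.fst f' g₁ ≫ pullback.fst f U.ι) := by
      rw [← pullbackLeftPullbackSndIso_hom_fst]
      infer_instance
    exact .of_comp _ (pullback.fst _ _)
  refine IsClosedImmersion.of_isPreimmersion _ ?_
  rw [Scheme.Pullback.range_fst]
  exact hcl.preimage f'.continuous

end Groth.Agent.Lib.Helper3.DescImm
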