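import Groth.Agent.Lib.Helper3.QAffDescRep

set_option autoImplicit false

universe u
open CategoryTheory CategoryTheory.Limits AlgebraicGeometry Opposite AlgSp MorphismProperty

namespace Groth.Agent.Lib.Helper3.QAffDesc

variable {S : Scheme.{u}}

/-- transport a pullback square of sheaves with representable corners to a pullback square of
schemes. -/
theorem exists_square_of_iso {Z V W G : Over S} (q : V ⟶ Z) (w : W ⟶ V)
    {F : Sp S} (f : F ⟶ (yon S).obj Z) (fst : (yon S).obj W ⟶ F)
    (sq : IsPullback fst ((yon S).map w) f ((yon S).map q)) (e : (yon S).obj G ≅ F) :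
    ∃ (i : G ⟶ Z) (c : W ⟶ G), e.hom ≫ f = (yon S).map i ∧ (yon S).map c ≫ e.hom = fst ∧
      IsPullback c w i q := by
  obtain ⟨i, hi⟩ := (yon S).map_surjective (e.hom ≫ f)
  obtain ⟨c, hc⟩ := (yon S).map_surjective (fst ≫ e.inv)
  refine ⟨i, c, hi.symm, by rw [hc, Category.assoc, Iso.inv_hom_id, Category.comp_id], ?_⟩
  have sqy : IsPullback ((yon S).map c) ((yon S).map w) ((yon S).map i) ((yon S).map q) := by
    refine IsPullback.of_iso sq (Iso.refl _) e.symm (Iso.refl _) (Iso.refl _) ?_ ?_ ?_ ?_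
    · simp [hc]
    · simp
    · simp [hi]
    · simp
  have comm : c ≫ i = w ≫ q := by
    apply (yon S).map_injective
    rw [CategoryTheory.Functor.map_comp, CategoryTheory.Functor.map_comp]
    exact sqy.w
  exact IsPullback.of_map (yon S) comm sqy

/-- variant of `exists_rep_of_cover` giving the descended scheme together with its pullback square. -/
theorem exists_rep_square_of_cover {Z V W : Over S} [IsAffine Z.left] [IsAffine V.left]
    (q : V ⟶ Z) (w : W ⟶ V) [Flat q.left] [UniversallyOpen q.left] [Surjective q.left]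
    (hq : Sheaf.IsLocallySurjective ((yon S).map q))
    (hW : ∀ (V₀ : Scheme.{u}) (i : V₀ ⟶ W.left), IsOpenImmersion i → CompactSpace V₀ →
      V₀.IsQuasiAffine)
    {F : Sp S} (f : F ⟶ (yon S).obj Z) (fst : (yon S).obj W ⟶ F)
    (sq : IsPullback fst ((yon S).map w) f ((yon S).map q)) :
    ∃ (W₀ : Over S) (i : W₀ ⟶ Z) (c : W ⟶ W₀) (e : (yon S).obj W₀ ≅ F),
      e.hom ≫ f = (yon S).map i ∧ (yon S).map c ≫ e.hom = fst ∧ IsPullback c w i q := by
  obtain ⟨G, ⟨e⟩⟩ := exists_rep_of_cover q w hq hW f fst sq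
  obtain ⟨i, c, h1, h2, h3⟩ := exists_square_of_iso q w f fst sq e
  exact ⟨G, i, c, e, h1, h2, h3⟩

end Groth.Agent.Lib.Helper3.QAffDesc
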