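import Groth.Agent.Lib.Helper3.QAffDescGen
import Groth.Agent.Lib.Helper3.QAffDescSquare
import Groth.Agent.Lib.Helper3.DescImm
import Groth.Agent.Lib.Helper3.AlgSpRepLocal

set_option autoImplicit false

universe u
open CategoryTheory CategoryTheory.Limits AlgebraicGeometry Opposite AlgSp MorphismProperty

namespace Groth.Agent.Lib.Helper3.FppfLoc

open Groth.Agent.Lib.Helper3 Groth.Agent.Lib.Helper3.QAffDesc Groth.Agent.Lib.Helper3.DescImm

variable {S : Scheme.{u}}

/-- factor a flat lfp morphism through its (open) image. -/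
theorem exists_factor_image {T' T : Over S} (q : T' ⟶ T) [Flat q.left]
    [LocallyOfFinitePresentation q.left] :
    ∃ (O : Over S) (j : O ⟶ T) (q' : T' ⟶ O), IsOpenImmersion j.left ∧ q' ≫ j = q ∧
      Flat q'.left ∧ LocallyOfFinitePresentation q'.left ∧ Surjective q'.left ∧
      Set.range j.left = Set.range q.left := by
  have hopen : IsOpenMap q.left.base := q.left.isOpenMap
  let O₀ : T.left.Opens := ⟨Set.range q.left, hopen.isOpen_range⟩
  let O : Over S := Over.mk (O₀.ι ≫ T.hom)
  let j : O ⟶ T := Over.homMk O₀.ι rfl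
  have hsub : Set.range q.left.base ⊆ Set.range O₀.ι.base := by
    simp [O₀]
  let q₀ : T'.left ⟶ O₀ := IsOpenImmersion.lift O₀.ι q.left hsub
  have hq₀ : q₀ ≫ O₀.ι = q.left := IsOpenImmersion.lift_fac _ _ _
  let q' : T' ⟶ O := Over.homMk q₀ (by
    change q₀ ≫ O₀.ι ≫ T.hom = T'.hom
    rw [← Category.assoc, hq₀]; exact Over.w q)
  have hj : IsOpenImmersion j.left := inferInstanceAs (IsOpenImmersion O₀.ι)
  have hfac : q' ≫ j = q := by
    ext; exact hq₀
  have sqP : IsPullback (𝟙 T'.left) q₀ q.left O₀.ι :=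
    IsPullback.of_horiz_isIso_mono ⟨by rw [Category.id_comp, hq₀]⟩
  refine ⟨O, j, q', hj, hfac, ?_, ?_, ⟨?_⟩, ?_⟩
  · exact MorphismProperty.of_isPullback (P := @Flat) sqP inferInstance
  · exact MorphismProperty.of_isPullback (P := @LocallyOfFinitePresentation) sqP inferInstance
  · rintro ⟨x, ⟨y, hy⟩⟩
    refine ⟨y, ?_⟩
    apply O₀.ι.injective
    change (q₀ ≫ O₀.ι) y = _
    rw [hq₀]
    exact hy
  · change Set.range O₀.ι = _
    simp [O₀]

/-- **Representability is fppf local on the base** for morphisms whose quasi-compact opens over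
affines are quasi-affine. -/
theorem exists_isPullback_of_fppf_family (P : MorphismProperty Scheme.{u})
    [P.IsStableUnderBaseChange]
    (hP : ∀ {X Y : Scheme.{u}} (g : X ⟶ Y), IsAffine Y → P g → ∀ (V₀ : Scheme.{u}) (i : V₀ ⟶ X),
      IsOpenImmersion i → CompactSpace V₀ → V₀.IsQuasiAffine)
    {X Y : Sp S} (f : X ⟶ Y) {T : Over S} (g : (yon S).obj T ⟶ Y) {κ : Type*}
    (T' : κ → Over S) (q : ∀ k, T' k ⟶ T) (hqf : ∀ k, Flat (q k).left)
    (hqp : ∀ k, LocallyOfFinitePresentation (q k).left)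
    (hcov : ∀ t : ↥T.left, ∃ k, t ∈ Set.range (q k).left)
    (E' : κ → Over S) (w : ∀ k, E' k ⟶ T' k) (hw : ∀ k, P (w k).left)
    (fst : ∀ k, (yon S).obj (E' k) ⟶ X)
    (sq : ∀ k, IsPullback (fst k) ((yon S).map (w k)) f ((yon S).map (q k) ≫ g)) :
    ∃ (W : Over S) (i : W ⟶ T) (fst₀ : (yon S).obj W ⟶ X),
      IsPullback fst₀ ((yon S).map i) f g := by
  choose O j q' hj hfac hq'f hq'p hq's hrange using fun k => exists_factor_image (q k)
  choose kt hkt using hcov
  refine exists_isPullback_of_openCover f g (κ := ↥T.left) (fun t => O (kt t)) (fun t => j (kt t))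
    (fun t => hj (kt t)) (fun t => ⟨t, by rw [hrange]; exact hkt t⟩) (fun t => ?_)
  set k := kt t with hk
  -- the base change of `f` to `O k`
  let e := pullback.snd f ((yon S).map (j k) ≫ g)
  have hcomm : fst k ≫ f = (yon S).map (w k ≫ q' k) ≫ (yon S).map (j k) ≫ g := by
    rw [(sq k).w, ← hfac k, CategoryTheory.Functor.map_comp, CategoryTheory.Functor.map_comp]
    simp only [Category.assoc]
  let fst' : (yon S).obj (E' k) ⟶ pullback f ((yon S).map (j k) ≫ g) :=
    pullback.lift (fst k) ((yon S).map (w k ≫ q' k)) hcomm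
  have sq' : IsPullback fst' ((yon S).map (w k)) e ((yon S).map (q' k)) := by
    refine IsPullback.of_right ?_ ?_ (IsPullback.of_hasPullback f ((yon S).map (j k) ≫ g))
    · rw [pullback.lift_fst, ← Category.assoc, ← CategoryTheory.Functor.map_comp, hfac k]
      exact sq k
    · rw [pullback.lift_snd, CategoryTheory.Functor.map_comp]
  have := hq'f k
  have := hq'p k
  have := hq's k
  have hrep : Representable e := representable_of_cover P hP (q' k) (w k) (hw k) e fst' sq'
  obtain ⟨W, i, fstW, sqW⟩ := hrep (𝟙 ((yon S).obj (O k)))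
  refine ⟨W, i, fstW ≫ pullback.fst f ((yon S).map (j k) ≫ g), ?_⟩
  have := sqW.paste_horiz (IsPullback.of_hasPullback f ((yon S).map (j k) ≫ g))
  rwa [Category.id_comp] at this

/-- Properties that are Zariski local on the target and descend along fppf covers can be checked
fppf locally on the base, for a representable base change. -/
theorem prop_of_fppf_family (P : MorphismProperty Scheme.{u}) [IsZariskiLocalAtTarget P]
    [P.DescendsAlong Pfppf.{u}]
    {X Y : Sp S} (f : X ⟶ Y) {T : Over S} (g : (yon S).obj T ⟶ Y) {κ : Type*}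
    (T' : κ → Over S) (q : ∀ k, T' k ⟶ T) (hqf : ∀ k, Flat (q k).left)
    (hqp : ∀ k, LocallyOfFinitePresentation (q k).left)
    (hcov : ∀ t : ↥T.left, ∃ k, t ∈ Set.range (q k).left)
    (E' : κ → Over S) (w : ∀ k, E' k ⟶ T' k) (hw : ∀ k, P (w k).left)
    (fst : ∀ k, (yon S).obj (E' k) ⟶ X)
    (sq : ∀ k, IsPullback (fst k) ((yon S).map (w k)) f ((yon S).map (q k) ≫ g))
    {W : Over S} (i : W ⟶ T) (fst₀ : (yon S).obj W ⟶ X)
    (sq₀ : IsPullback fst₀ ((yon S).map i) f g) : P i.left := by
  let U : κ → T.left.Opens := fun k => ⟨Set.range (q k).left, (q k).left.isOpenMap.isOpen_range⟩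
  have hU : iSup U = ⊤ := by
    rw [eq_top_iff]
    intro t _
    obtain ⟨k, hk⟩ := hcov t
    exact TopologicalSpace.Opens.mem_iSup.2 ⟨k, hk⟩
  refine IsZariskiLocalAtTarget.of_iSup_eq_top U hU fun k => ?_
  -- the scheme-level pullback square
  have hcomm : fst k ≫ f = (yon S).map (w k ≫ q k) ≫ g := by
    rw [(sq k).w, CategoryTheory.Functor.map_comp, Category.assoc]
  obtain ⟨c, hc⟩ := (yon S).map_surjective (sq₀.lift (fst k) ((yon S).map (w k ≫ q k)) hcomm)
  have sqy : IsPullback ((yon S).map c) ((yon S).map (w k)) ((yon S).map i) ((yon S).map (q k)) := by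
    refine IsPullback.of_right ?_ ?_ sq₀
    · rw [hc, sq₀.lift_fst]; exact sq k
    · rw [hc, sq₀.lift_snd, CategoryTheory.Functor.map_comp]
  have comm : c ≫ i = w k ≫ q k := by
    apply (yon S).map_injective
    rw [CategoryTheory.Functor.map_comp, CategoryTheory.Functor.map_comp]
    exact sqy.w
  have sqS : IsPullback c (w k) i (q k) := IsPullback.of_map (yon S) comm sqy
  have sqL : IsPullback c.left (w k).left i.left (q k).left := sqS.map (Over.forget S)
  -- factor through the image
  have hsub : Set.range (q k).left.base ⊆ Set.range (U k).ι.base := by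
    simp [U]
  let q₀ : (T' k).left ⟶ U k := IsOpenImmersion.lift (U k).ι (q k).left hsub
  have hq₀ : q₀ ≫ (U k).ι = (q k).left := IsOpenImmersion.lift_fac _ _ _
  have sqP : IsPullback (𝟙 (T' k).left) q₀ (q k).left (U k).ι :=
    IsPullback.of_horiz_isIso_mono ⟨by rw [Category.id_comp, hq₀]⟩
  have := hqf k
  have := hqp k
  have hq₀f : Flat q₀ := MorphismProperty.of_isPullback (P := @Flat) sqP inferInstance
  have hq₀p : LocallyOfFinitePresentation q₀ :=
    MorphismProperty.of_isPullback (P := @LocallyOfFinitePresentation) sqP inferInstance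
  have hq₀s : Surjective q₀ := ⟨by
    rintro ⟨x, ⟨y, hy⟩⟩
    refine ⟨y, ?_⟩
    apply (U k).ι.injective
    change (q₀ ≫ (U k).ι) y = _
    rw [hq₀]
    exact hy⟩
  have hres := isPullback_morphismRestrict i.left (U k)
  let c' : (E' k).left ⟶ i.left ⁻¹ᵁ U k := hres.lift ((w k).left ≫ q₀) c.left (by
    rw [Category.assoc, hq₀, sqL.w])
  have hc'1 : c' ≫ (i.left ∣_ U k) = (w k).left ≫ q₀ := hres.lift_fst _ _ _
  have hc'2 : c' ≫ (i.left ⁻¹ᵁ U k).ι = c.left := hres.lift_snd _ _ _
  have sqR : IsPullback c' (w k).left (i.left ∣_ U k) q₀ := by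
    refine IsPullback.of_right ?_ hc'1 hres.flip
    rw [hc'2, hq₀]
    exact sqL
  exact MorphismProperty.of_isPullback_of_descendsAlong (Q := Pfppf.{u}) sqR.flip
    ⟨⟨hq₀s, hq₀f⟩, hq₀p⟩ (hw k)

end Groth.Agent.Lib.Helper3.FppfLoc
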