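import Groth.Agent.Lib.Helper3.AffDescCore
import Mathlib.AlgebraicGeometry.PullbackCarrier

set_option autoImplicit false

universe u
open CategoryTheory CategoryTheory.Limits AlgebraicGeometry Opposite AlgSp

namespace Groth.Agent.Lib.Helper3.QAffDesc

open Groth.Agent.Lib.Helper3.AffDesc

variable {S : Scheme.{u}}

/-- saturation: in a cartesian square of sheaves over a map of schemes `π`, the (range of the)
pulled back object `W ⟶ G₁` is stable under the equivalence relation `G₁ ×_{G₀} G₁`. -/
theorem mem_range_of_isPullback {G₀ G₁ W : Over S} (π : G₁ ⟶ G₀) (j : W ⟶ G₁)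
    [IsOpenImmersion j.left]
    {F : Sp S} (u : F ⟶ (yon S).obj G₀) (fst : (yon S).obj W ⟶ F)
    (sq : IsPullback fst ((yon S).map j) u ((yon S).map π))
    (x y : G₁.left) (hxy : π.left x = π.left y) (hy : y ∈ Set.range j.left) :
    x ∈ Set.range j.left := by
  obtain ⟨t, ht1, ht2⟩ := Scheme.Pullback.exists_preimage_pullback (f := π.left) (g := π.left)
    y x hxy.symm
  let T := pullback π.left π.left
  let a₀ : Spec (T.residueField t) ⟶ G₁.left := T.fromSpecResidueField t ≫ pullback.fst _ _
  let b₀ : Spec (T.residueField t) ⟶ G₁.left := T.fromSpecResidueField t ≫ pullback.snd _ _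
  have hab : a₀ ≫ π.left = b₀ ≫ π.left := by
    simp only [a₀, b₀, Category.assoc, pullback.condition]
  have hra : Set.range a₀ ⊆ Set.range j.left := by
    rintro _ ⟨s, rfl⟩
    have : a₀ s = y := by
      simp only [a₀, Scheme.Hom.comp_apply, Scheme.fromSpecResidueField_apply]
      exact ht1
    rw [this]; exact hy
  let a' := IsOpenImmersion.lift j.left a₀ hra
  have ha' : a' ≫ j.left = a₀ := IsOpenImmersion.lift_fac _ _ _
  let TK : Over S := Over.mk (a₀ ≫ G₁.hom)
  let a : TK ⟶ G₁ := Over.homMk a₀ rfl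
  have hbO : b₀ ≫ G₁.hom = a₀ ≫ G₁.hom := by
    rw [← Over.w π, ← Category.assoc, ← hab, Category.assoc]
  let b : TK ⟶ G₁ := Over.homMk b₀ hbO
  have haW : a' ≫ W.hom = a₀ ≫ G₁.hom := by
    rw [← Over.w j, ← Category.assoc, ha']
  let aW : TK ⟶ W := Over.homMk a' haW
  have hcomm : ((yon S).map aW ≫ fst) ≫ u = (yon S).map b ≫ (yon S).map π := by
    rw [Category.assoc, sq.w, ← Functor.map_comp, ← Functor.map_comp, ← Functor.map_comp]
    congr 1
    apply Over.OverMorphism.ext
    change (a' ≫ j.left) ≫ π.left = b₀ ≫ π.left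
    rw [ha', hab]
  obtain ⟨b', hb'⟩ := (yon S).map_surjective (sq.lift _ _ hcomm)
  have hb'j : b' ≫ j = b := (yon S).map_injective (by rw [Functor.map_comp, hb', sq.lift_snd])
  have hb'j' : b'.left ≫ j.left = b₀ := congrArg (fun k => k.left) hb'j
  obtain ⟨s⟩ : Nonempty (Spec (T.residueField t)) := inferInstance
  refine ⟨b'.left s, ?_⟩
  rw [← Scheme.Hom.comp_apply, hb'j']
  simp only [b₀, Scheme.Hom.comp_apply]
  rw [Scheme.fromSpecResidueField_apply t s]
  exact ht2

/-- Descent of open immersions along an open cover `π` which is an epimorphism of sheaves. -/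
theorem exists_open_of_cover {G₀ G₁ W : Over S} (π : G₁ ⟶ G₀) (j : W ⟶ G₁)
    [IsOpenImmersion j.left] (hπo : IsOpenMap π.left)
    (hπ : Sheaf.IsLocallySurjective ((yon S).map π))
    {F : Sp S} (u : F ⟶ (yon S).obj G₀) (fst : (yon S).obj W ⟶ F)
    (sq : IsPullback fst ((yon S).map j) u ((yon S).map π)) :
    ∃ (O : Over S) (o : O ⟶ G₀) (k : W ⟶ O) (e : (yon S).obj O ≅ F), IsOpenImmersion o.left ∧
      Set.range o.left = π.left '' Set.range j.left ∧
      e.hom ≫ u = (yon S).map o ∧ (yon S).map k ≫ e.hom = fst ∧ IsPullback k j o π := by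
  let O' : G₀.left.Opens := ⟨π.left '' Set.range j.left, hπo _ j.left.opensRange.isOpen⟩
  let O : Over S := Over.mk (O'.ι ≫ G₀.hom)
  let o : O ⟶ G₀ := Over.homMk O'.ι rfl
  have hro : Set.range o.left = π.left '' Set.range j.left := by
    change Set.range O'.ι = _
    rw [Scheme.Opens.range_ι]
    rfl
  have hrk : Set.range (j.left ≫ π.left) ⊆ Set.range O'.ι := by
    rw [Scheme.Opens.range_ι]
    rintro _ ⟨s, rfl⟩
    exact ⟨j.left s, ⟨s, rfl⟩, rfl⟩
  let k₀ : W.left ⟶ O.left := IsOpenImmersion.lift O'.ι (j.left ≫ π.left) hrk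
  have hk₀ : k₀ ≫ O'.ι = j.left ≫ π.left := IsOpenImmersion.lift_fac _ _ _
  have hkO : k₀ ≫ O.hom = W.hom := by
    change k₀ ≫ O'.ι ≫ G₀.hom = W.hom
    rw [← Category.assoc, hk₀, Category.assoc, Over.w, Over.w]
  let k : W ⟶ O := Over.homMk k₀ hkO
  have hko : k ≫ o = j ≫ π := by
    apply Over.OverMorphism.ext
    exact hk₀
  have sqS : IsPullback k j o π := by
    refine IsPullback.of_map (Over.forget S) hko ?_
    refine IsOpenImmersion.isPullback k₀ j.left O'.ι π.left hk₀.symm ?_
    apply TopologicalSpace.Opens.ext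
    ext x
    constructor
    · intro hx
      have hx' : π.left x ∈ Set.range O'.ι := hx
      rw [Scheme.Opens.range_ι] at hx'
      obtain ⟨y, hy, hyx⟩ := hx'
      exact mem_range_of_isPullback π j u fst sq x y hyx.symm hy
    · rintro ⟨s, rfl⟩
      change π.left (j.left s) ∈ Set.range O'.ι
      rw [Scheme.Opens.range_ι]
      exact ⟨j.left s, ⟨s, rfl⟩, rfl⟩
  have sq₀ : IsPullback ((yon S).map k) ((yon S).map j) ((yon S).map o) ((yon S).map π) :=
    sqS.map (yon S)
  have hfst : Sheaf.IsLocallySurjective fst := isLocallySurjective_of_isPullback sq.flip hπ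
  have hepi : Epi fst := inferInstance
  have := IsRegularEpiCategory.regularEpiOfEpi fst
  have hEff : EffectiveEpi fst := inferInstance
  have hmono : Mono o := by
    have : Mono o.left := inferInstanceAs (Mono O'.ι)
    exact Over.mono_of_mono_left o
  have hmono' : Mono ((yon S).map o) := inferInstance
  have hdesc : ∀ {Z' : Sp S} (g₁ g₂ : Z' ⟶ (yon S).obj W), g₁ ≫ fst = g₂ ≫ fst →
      g₁ ≫ (yon S).map k = g₂ ≫ (yon S).map k := by
    intro Z' g₁ g₂ h
    rw [← cancel_mono ((yon S).map o), Category.assoc, Category.assoc,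
      ← CategoryTheory.Functor.map_comp, hko, CategoryTheory.Functor.map_comp, ← sq.w,
      reassoc_of% h]
  let v := EffectiveEpi.desc fst ((yon S).map k) hdesc
  have hv : fst ≫ v = (yon S).map k := EffectiveEpi.fac _ _ _
  have hvo : v ≫ (yon S).map o = u := by
    rw [← cancel_epi fst, ← Category.assoc, hv, ← CategoryTheory.Functor.map_comp, hko,
      CategoryTheory.Functor.map_comp, sq.w]
  have sqT : IsPullback fst (𝟙 _) v ((yon S).map k) := by
    refine IsPullback.of_bot ?_ ?_ sq₀
    · rw [Category.id_comp, hvo]; exact sq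
    · rw [hv, Category.id_comp]
  have hlock : Sheaf.IsLocallySurjective ((yon S).map k) :=
    isLocallySurjective_of_isPullback sq₀.flip hπ
  have hviso : IsIso v := isIso_of_isPullback_of_isLocallySurjective sqT.flip hlock
  refine ⟨O, o, k, (asIso v).symm, inferInstanceAs (IsOpenImmersion O'.ι), hro, ?_, ?_, sqS⟩
  · simp only [Iso.symm_hom, asIso_inv]
    rw [IsIso.inv_comp_eq, hvo]
  · simp only [Iso.symm_hom, asIso_inv]
    rw [IsIso.comp_inv_eq, hv]

end Groth.Agent.Lib.Helper3.QAffDesc
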