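import Groth.Agent.Lib.Helper3.QuotRelLift
import Groth.Agent.Lib.Helper3.QAffDescOpen
import Groth.Agent.Lib.Helper3.QAffDescGen
import Groth.Agent.Lib.Helper3.AlgSpRepLocal
import Groth.Agent.Lib.Helper3.AlgSpEpiDescent
import Groth.Agent.Lib.Helper3.FppfLocRep

set_option autoImplicit false

universe u
open CategoryTheory CategoryTheory.Limits AlgebraicGeometry Opposite AlgSp

namespace Groth.Agent.Lib.Helper3.QuotRel

open Groth.Agent.Lib.Helper3 Groth.Agent.Lib.Helper3.QAffDesc

variable {S : Scheme.{u}}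

/-- A morphism of sheaves whose base change along a locally surjective map from a scheme is an
open immersion of schemes is representable by open immersions. -/
theorem repWith_isOpenImmersion_of_chart {F' F : Sp S} (φ : F' ⟶ F) {U W : Over S}
    (π : (yon S).obj U ⟶ F) (hπ : Sheaf.IsLocallySurjective π) (j : W ⟶ U)
    [IsOpenImmersion j.left]
    (fst : (yon S).obj W ⟶ F') (sq : IsPullback fst ((yon S).map j) φ π) :
    RepWith @IsOpenImmersion φ := by
  have key : ∀ ⦃Z : Over S⦄, IsAffine Z.left → ∀ (a : (yon S).obj Z ⟶ F),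
      ∃ (O : Over S) (o : O ⟶ Z) (fst₀ : (yon S).obj O ⟶ F'),
        IsPullback fst₀ ((yon S).map o) φ a ∧ IsOpenImmersion o.left := by
    intro Z hZ a
    obtain ⟨V', q, a', hV', hqf, hqp, hqs, hqa⟩ := exists_affine_fppf_lift π hπ a
    -- base change of `j` along `a'`
    let W' : Over S := pullback j a'
    let j' : W' ⟶ V' := pullback.snd j a'
    have sqj : IsPullback (pullback.fst j a') j' j a' := IsPullback.of_hasPullback _ _
    have sqjL : IsPullback (pullback.fst j a').left j'.left j.left a'.left :=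
      sqj.map (Over.forget S)
    have hj' : IsOpenImmersion j'.left :=
      MorphismProperty.of_isPullback (P := @IsOpenImmersion) sqjL inferInstance
    have sq' : IsPullback ((yon S).map (pullback.fst j a') ≫ fst) ((yon S).map j') φ
        ((yon S).map q ≫ a) := by
      rw [hqa]
      exact (sqj.map (yon S)).paste_horiz sq
    have t := IsPullback.of_hasPullback φ a
    have sq'' := IsPullback.of_right' sq' t
    have hq : Sheaf.IsLocallySurjective ((yon S).map q) := isLocallySurjective_yon_map_of_fppf q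
    have hqo : IsOpenMap q.left := q.left.isOpenMap
    obtain ⟨O, o, k, e, ho, -, he1, -, -⟩ :=
      exists_open_of_cover q j' hqo hq (pullback.snd φ a) _ sq''
    refine ⟨O, o, e.hom ≫ pullback.fst φ a, ?_, ho⟩
    refine IsPullback.of_iso t e.symm (Iso.refl _) (Iso.refl _) (Iso.refl _) ?_ ?_ ?_ ?_
    · simp
    · simp only [Iso.refl_hom, Category.comp_id, Iso.symm_hom]
      rw [← he1, Iso.inv_hom_id_assoc]
    · simp
    · simp
  refine repWith_of_affine @IsOpenImmersion φ (representable_of_affine φ ?_) key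
  intro Z hZ a
  obtain ⟨O, o, fst₀, sq₀, -⟩ := key hZ a
  exact ⟨O, o, fst₀, sq₀⟩

/-- A mono `φ` whose base change along `π` has the same image as the mono `h_j` is, after
base change along `π`, the map `h_j`. -/
theorem exists_isPullback_of_epi_mono {F' F : Sp S} (φ : F' ⟶ F) [Mono φ] {U W : Over S}
    (π : (yon S).obj U ⟶ F) (j : W ⟶ U) [Mono j]
    {P : Sp S} (e : P ⟶ pullback φ π) (he : Sheaf.IsLocallySurjective e)
    (h : P ⟶ (yon S).obj W) (hh : Sheaf.IsLocallySurjective h)
    (hcomm : e ≫ pullback.snd φ π = h ≫ (yon S).map j) :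
    ∃ fst : (yon S).obj W ⟶ F', IsPullback fst ((yon S).map j) φ π := by
  have : Mono ((yon S).map j) := inferInstance
  let m := pullback.snd φ π
  have hm : Mono m := inferInstance
  let n₁ := pullback.fst m ((yon S).map j)
  let n₂ := pullback.snd m ((yon S).map j)
  have hn₁ : Mono n₁ := inferInstance
  have hn₂ : Mono n₂ := inferInstance
  let l : P ⟶ pullback m ((yon S).map j) := pullback.lift e h hcomm
  have hl1 : l ≫ n₁ = e := pullback.lift_fst _ _ _
  have hl2 : l ≫ n₂ = h := pullback.lift_snd _ _ _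
  have hs1 : Sheaf.IsLocallySurjective n₁ := by
    have : Sheaf.IsLocallySurjective (l ≫ n₁) := by rw [hl1]; exact he
    exact Presheaf.isLocallySurjective_of_isLocallySurjective_fac (J S)
      (f₁ := l.hom) (f₂ := n₁.hom) (f₃ := (l ≫ n₁).hom) rfl
  have hs2 : Sheaf.IsLocallySurjective n₂ := by
    have : Sheaf.IsLocallySurjective (l ≫ n₂) := by rw [hl2]; exact hh
    exact Presheaf.isLocallySurjective_of_isLocallySurjective_fac (J S)
      (f₁ := l.hom) (f₂ := n₂.hom) (f₃ := (l ≫ n₂).hom) rfl
  have hi1 : IsIso n₁ :=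
    (Sheaf.isLocallyBijective_iff_isIso n₁).1 ⟨isLocallyInjective_of_mono n₁, hs1⟩
  have hi2 : IsIso n₂ :=
    (Sheaf.isLocallyBijective_iff_isIso n₂).1 ⟨isLocallyInjective_of_mono n₂, hs2⟩
  let ι : (yon S).obj W ≅ pullback φ π := (asIso n₂).symm ≪≫ asIso n₁
  have hι : ι.hom ≫ m = (yon S).map j := by
    change (inv n₂ ≫ n₁) ≫ m = _
    rw [Category.assoc, IsIso.inv_comp_eq]
    exact pullback.condition
  refine ⟨ι.hom ≫ pullback.fst φ π, ?_⟩
  refine IsPullback.of_iso_pullback ⟨?_⟩ ι rfl hι
  rw [Category.assoc, pullback.condition, ← Category.assoc]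
  change (ι.hom ≫ m) ≫ π = _
  rw [hι]

/-- A map from the target of an epimorphism with the same kernel pair as the composite is a
monomorphism. -/
theorem mono_of_kernelPair {A F' F K : Sp S} (π' : A ⟶ F') (hπ' : Sheaf.IsLocallySurjective π')
    (φ : F' ⟶ F) (k₁ k₂ : K ⟶ A) (kp : IsPullback k₁ k₂ (π' ≫ φ) (π' ≫ φ))
    (hk : k₁ ≫ π' = k₂ ≫ π') : Mono φ := by
  refine ⟨fun {X} a b hab => ?_⟩
  -- lift `a` then `b` along `π'`
  obtain ⟨X₁, p₁, ρ₁, sq1⟩ : ∃ (X₁ : Sp S) (p₁ : X₁ ⟶ A) (ρ₁ : X₁ ⟶ X), IsPullback p₁ ρ₁ π' a :=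
    ⟨_, _, _, IsPullback.of_hasPullback π' a⟩
  have h1 : Sheaf.IsLocallySurjective ρ₁ := isLocallySurjective_of_isPullback sq1 hπ'
  obtain ⟨X₂, p₂, ρ₂, sq2⟩ : ∃ (X₂ : Sp S) (p₂ : X₂ ⟶ A) (ρ₂ : X₂ ⟶ X₁),
      IsPullback p₂ ρ₂ π' (ρ₁ ≫ b) := ⟨_, _, _, IsPullback.of_hasPullback π' (ρ₁ ≫ b)⟩
  have h2 : Sheaf.IsLocallySurjective ρ₂ := isLocallySurjective_of_isPullback sq2 hπ'
  have e1 : Epi ρ₁ := (Sheaf.isLocallySurjective_iff_epi _).1 h1
  have e2 : Epi ρ₂ := (Sheaf.isLocallySurjective_iff_epi _).1 h2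
  have ha' : (ρ₂ ≫ p₁) ≫ π' = (ρ₂ ≫ ρ₁) ≫ a := by
    rw [Category.assoc, sq1.w, Category.assoc]
  have hb' : p₂ ≫ π' = (ρ₂ ≫ ρ₁) ≫ b := by
    rw [sq2.w, Category.assoc]
  have hw : (ρ₂ ≫ p₁) ≫ π' ≫ φ = p₂ ≫ π' ≫ φ := by
    rw [← Category.assoc, ha', ← Category.assoc p₂, hb', Category.assoc, hab]
    simp only [Category.assoc]
  have e3 : (ρ₂ ≫ p₁) ≫ π' = p₂ ≫ π' := by
    rw [← kp.lift_fst (ρ₂ ≫ p₁) p₂ hw, Category.assoc, hk, ← Category.assoc, kp.lift_snd]
  rw [ha', hb'] at e3
  exact (cancel_epi (ρ₂ ≫ ρ₁)).1 e3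

section restrict

variable {R U R' U' : Over S} (s t : R ⟶ U) (g : U' ⟶ U) (s' t' : R' ⟶ U') (r : R' ⟶ R)

include r in
theorem restrict_comm (hsq : IsPullback (prod.lift t' s') r (prod.map g g) (prod.lift t s)) :
    t' ≫ g = r ≫ t ∧ s' ≫ g = r ≫ s := by
  have h1 := congrArg (fun k => k ≫ prod.fst) hsq.w
  have h2 := congrArg (fun k => k ≫ prod.snd) hsq.w
  simp only [Category.assoc, prod.map_fst, prod.map_snd, prod.lift_fst, prod.lift_snd,
    prod.lift_fst_assoc, prod.lift_snd_assoc] at h1 h2
  exact ⟨h1, h2⟩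

/-- the kernel pair of `h_g ≫ π` is the restriction of the kernel pair of `π`. -/
theorem isPullback_restrict
    (hsq : IsPullback (prod.lift t' s') r (prod.map g g) (prod.lift t s))
    {F : Sp S} (π : (yon S).obj U ⟶ F)
    (kp : IsPullback ((yon S).map t) ((yon S).map s) π π) :
    IsPullback ((yon S).map t') ((yon S).map s') ((yon S).map g ≫ π) ((yon S).map g ≫ π) := by
  obtain ⟨c1, c2⟩ := restrict_comm s t g s' t' r hsq
  have hw : (yon S).map t' ≫ (yon S).map g ≫ π = (yon S).map s' ≫ (yon S).map g ≫ π := by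
    rw [← Category.assoc, ← Category.assoc, ← CategoryTheory.Functor.map_comp,
      ← CategoryTheory.Functor.map_comp, c1, c2, CategoryTheory.Functor.map_comp,
      CategoryTheory.Functor.map_comp, Category.assoc, Category.assoc, kp.w]
  refine isPullback_of_sections _ _ _ _ hw ?_ ?_
  · intro V x y h1 h2
    induction V using Opposite.rec with
    | op V =>
      obtain ⟨x⟩ := x
      obtain ⟨y⟩ := y
      congr 1
      have e1 : x ≫ t' = y ≫ t' := congrArg ULift.down h1
      have e2 : x ≫ s' = y ≫ s' := congrArg ULift.down h2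
      refine hsq.hom_ext ?_ ?_
      · apply Limits.prod.hom_ext
        · rw [Category.assoc, Category.assoc, prod.lift_fst, e1]
        · rw [Category.assoc, Category.assoc, prod.lift_snd, e2]
      · apply (yon S).map_injective
        refine kp.hom_ext ?_ ?_
        · rw [← CategoryTheory.Functor.map_comp, ← CategoryTheory.Functor.map_comp,
            Category.assoc, Category.assoc, ← c1, ← Category.assoc, ← Category.assoc, e1]
        · rw [← CategoryTheory.Functor.map_comp, ← CategoryTheory.Functor.map_comp,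
            Category.assoc, Category.assoc, ← c2, ← Category.assoc, ← Category.assoc, e2]
  · intro V x₂ x₃ hx
    induction V using Opposite.rec with
    | op V =>
      obtain ⟨a⟩ := x₂
      obtain ⟨b⟩ := x₃
      have hab : (yon S).map a ≫ (yon S).map g ≫ π = (yon S).map b ≫ (yon S).map g ≫ π := by
        apply (J S).uliftYonedaEquiv.{u+1}.injective
        rw [(J S).uliftYonedaEquiv_comp.{u+1}, (J S).uliftYonedaEquiv_comp.{u+1},
          (J S).uliftYonedaEquiv_uliftYoneda_map.{u+1}, (J S).uliftYonedaEquiv_uliftYoneda_map.{u+1}]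
        exact hx
      have hab' : (yon S).map (a ≫ g) ≫ π = (yon S).map (b ≫ g) ≫ π := by
        rw [CategoryTheory.Functor.map_comp, CategoryTheory.Functor.map_comp, Category.assoc,
          Category.assoc]
        exact hab
      obtain ⟨ρ, hρ⟩ := (yon S).map_surjective (kp.lift _ _ hab')
      have hρ1 : ρ ≫ t = a ≫ g := by
        apply (yon S).map_injective
        rw [CategoryTheory.Functor.map_comp, hρ, kp.lift_fst]
      have hρ2 : ρ ≫ s = b ≫ g := by
        apply (yon S).map_injective
        rw [CategoryTheory.Functor.map_comp, hρ, kp.lift_snd]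
      have hcomm : prod.lift a b ≫ prod.map g g = ρ ≫ prod.lift t s := by
        apply Limits.prod.hom_ext
        · rw [Category.assoc, Category.assoc, prod.map_fst, prod.lift_fst, prod.lift_fst_assoc,
            hρ1]
        · rw [Category.assoc, Category.assoc, prod.map_snd, prod.lift_snd, prod.lift_snd_assoc,
            hρ2]
      refine ⟨⟨hsq.lift (prod.lift a b) ρ hcomm⟩, ?_, ?_⟩
      · change (⟨hsq.lift (prod.lift a b) ρ hcomm ≫ t'⟩ : ULift.{u+1} (V ⟶ U')) = ⟨a⟩
        congr 1
        have := congrArg (fun k => k ≫ prod.fst) (hsq.lift_fst (prod.lift a b) ρ hcomm)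
        simpa only [Category.assoc, prod.lift_fst] using this
      · change (⟨hsq.lift (prod.lift a b) ρ hcomm ≫ s'⟩ : ULift.{u+1} (V ⟶ U')) = ⟨b⟩
        congr 1
        have := congrArg (fun k => k ≫ prod.snd) (hsq.lift_fst (prod.lift a b) ρ hcomm)
        simpa only [Category.assoc, prod.lift_snd] using this

/-- The map of quotient sheaves induced by restricting an equivalence relation along a flat
morphism locally of finite presentation is representable by open immersions. -/
theorem repWith_isOpenImmersion_of_restrict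
    (hsq : IsPullback (prod.lift t' s') r (prod.map g g) (prod.lift t s))
    [Flat s.left] [LocallyOfFinitePresentation s.left]
    [Flat g.left] [LocallyOfFinitePresentation g.left]
    {F F' : Sp S} (π : (yon S).obj U ⟶ F) (hπ : Sheaf.IsLocallySurjective π)
    (kp : IsPullback ((yon S).map t) ((yon S).map s) π π)
    (π' : (yon S).obj U' ⟶ F') (hπ' : Sheaf.IsLocallySurjective π')
    (hcoeq' : (yon S).map s' ≫ π' = (yon S).map t' ≫ π')
    (φ : F' ⟶ F) (hφ : π' ≫ φ = (yon S).map g ≫ π) : RepWith @IsOpenImmersion φ := by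
  have kp' := isPullback_restrict s t g s' t' r hsq π kp
  rw [← hφ] at kp'
  have hmono : Mono φ := mono_of_kernelPair π' hπ' φ _ _ kp' hcoeq'.symm
  let P : Over S := pullback g t
  let pf : P ⟶ U' := pullback.fst g t
  let ps : P ⟶ R := pullback.snd g t
  have sqP : IsPullback pf ps g t := IsPullback.of_hasPullback _ _
  have sqPL : IsPullback pf.left ps.left g.left t.left := sqP.map (Over.forget S)
  have hps1 : Flat ps.left := MorphismProperty.of_isPullback (P := @Flat) sqPL inferInstance
  have hps2 : LocallyOfFinitePresentation ps.left :=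
    MorphismProperty.of_isPullback (P := @LocallyOfFinitePresentation) sqPL inferInstance
  have h1 : Flat (ps ≫ s).left := by
    rw [Over.comp_left]; infer_instance
  have h2 : LocallyOfFinitePresentation (ps ≫ s).left := by
    rw [Over.comp_left]; infer_instance
  obtain ⟨W, j, h, hj, hfac, hhf, hhp, hhs, -⟩ := FppfLoc.exists_factor_image (ps ≫ s)
  have big : IsPullback ((yon S).map ps ≫ (yon S).map s) ((yon S).map pf) π (π' ≫ φ) := by
    rw [hφ]
    exact (sqP.map (yon S)).flip.paste_horiz kp.flip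
  have hcomm0 : ((yon S).map pf ≫ π') ≫ φ = ((yon S).map ps ≫ (yon S).map s) ≫ π := by
    rw [Category.assoc]; exact big.w.symm
  let e : (yon S).obj P ⟶ pullback φ π :=
    pullback.lift ((yon S).map pf ≫ π') ((yon S).map ps ≫ (yon S).map s) hcomm0
  have left : IsPullback e ((yon S).map pf) (pullback.fst φ π) π' := by
    refine IsPullback.of_right ?_ (pullback.lift_fst _ _ _) (IsPullback.of_hasPullback φ π).flip
    rw [pullback.lift_snd]
    exact big
  have he : Sheaf.IsLocallySurjective e := isLocallySurjective_of_isPullback left.flip hπ'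
  have hh : Sheaf.IsLocallySurjective ((yon S).map h) := isLocallySurjective_yon_map_of_fppf h
  have hcomm : e ≫ pullback.snd φ π = (yon S).map h ≫ (yon S).map j := by
    rw [pullback.lift_snd, ← CategoryTheory.Functor.map_comp, ← CategoryTheory.Functor.map_comp,
      hfac]
  have hjm : Mono j := by
    have h1 : Mono j.left := inferInstance
    have h2 : Mono ((Over.forget S).map j) := h1
    exact (Over.forget S).mono_of_mono_map h2
  obtain ⟨fst, sq⟩ := exists_isPullback_of_epi_mono φ π j e he ((yon S).map h) hh hcomm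
  exact repWith_isOpenImmersion_of_chart φ π hπ j fst sq

end restrict

end Groth.Agent.Lib.Helper3.QuotRel
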