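import Groth.Agent.Lib.Helper3.QuotRelMain
import Groth.Agent.Lib.Helper3.AlgSpEpiDescent

set_option autoImplicit false

universe u
open CategoryTheory CategoryTheory.Limits AlgebraicGeometry Opposite AlgSp

namespace Groth.Agent.Lib.Helper3.QuotRel

open Groth.Agent.Lib.Helper3

variable {S : Scheme.{u}} {R U Ro Zo : Over S} (s t : R ⟶ U) (iO : Zo ⟶ U) (kO : Ro ⟶ R)
  (s'O t'O : Ro ⟶ Zo)

/-- the restriction of an equivalence relation to an invariant subobject: the relation. -/
theorem rel_restrict_iff [Mono iO] (hs : IsPullback kO s'O s iO) (ht : IsPullback kO t'O t iO)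
    {T : Over S} (a b : T ⟶ Zo) :
    (∃ r : T ⟶ Ro, r ≫ t'O = a ∧ r ≫ s'O = b) ↔
      (∃ r₀ : T ⟶ R, r₀ ≫ t = a ≫ iO ∧ r₀ ≫ s = b ≫ iO) := by
  constructor
  · rintro ⟨r, rfl, rfl⟩
    refine ⟨r ≫ kO, ?_, ?_⟩
    · rw [Category.assoc, Category.assoc, ht.w]
    · rw [Category.assoc, Category.assoc, hs.w]
  · rintro ⟨r₀, h1, h2⟩
    refine ⟨hs.lift r₀ b h2, ?_, hs.lift_snd _ _ _⟩
    rw [← cancel_mono iO, Category.assoc, ← ht.w, ← Category.assoc, hs.lift_fst, h1]

include s t iO kO in
/-- the restriction of an étale equivalence relation to an invariant subobject is an étale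
equivalence relation. -/
theorem isEtaleEqvRel_restrict [Mono iO] (h : IsEtaleEqvRel s t)
    (hs : IsPullback kO s'O s iO) (ht : IsPullback kO t'O t iO) : IsEtaleEqvRel s'O t'O := by
  have hk : Mono kO := by
    refine ⟨fun {W} a b hab => ?_⟩
    refine hs.hom_ext hab ?_
    rw [← cancel_mono iO, Category.assoc, Category.assoc, ← hs.w, ← Category.assoc,
      ← Category.assoc, hab]
  refine ⟨⟨?_, ?_⟩, ?_, ?_⟩
  · intro T r r' h1 h2
    rw [← cancel_mono kO]
    apply h.injective T
    · rw [Category.assoc, Category.assoc, ht.w, ← Category.assoc, ← Category.assoc, h1]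
    · rw [Category.assoc, Category.assoc, hs.w, ← Category.assoc, ← Category.assoc, h2]
  · intro T
    have hE := h.equivalence T
    refine ⟨?_, ?_, ?_⟩
    · intro a
      rw [rel_restrict_iff s t iO kO s'O t'O hs ht]
      exact hE.refl _
    · intro a b hab
      rw [rel_restrict_iff s t iO kO s'O t'O hs ht] at hab ⊢
      exact hE.symm hab
    · intro a b c hab hbc
      rw [rel_restrict_iff s t iO kO s'O t'O hs ht] at hab hbc ⊢
      exact hE.trans hab hbc
  · have sqL : IsPullback kO.left s'O.left s.left iO.left := hs.map (Over.forget S)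
    exact MorphismProperty.of_isPullback (P := @Etale) sqL h.etale_left
  · have sqL : IsPullback kO.left t'O.left t.left iO.left := ht.map (Over.forget S)
    exact MorphismProperty.of_isPullback (P := @Etale) sqL h.etale_right

/-- The quotient of an invariant subobject is the pullback of the subobject of the quotient. -/
theorem isPullback_of_invariant [Mono iO]
    (hs : IsPullback kO s'O s iO) (ht : IsPullback kO t'O t iO)
    {F Z : Sp S} (p : (yon S).obj U ⟶ F)
    (kp : IsPullback ((yon S).map t) ((yon S).map s) p p)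
    (π : (yon S).obj Zo ⟶ Z) (hπ : Sheaf.IsLocallySurjective π)
    (hcoeq : (yon S).map s'O ≫ π = (yon S).map t'O ≫ π)
    (i : Z ⟶ F) (hi : π ≫ i = (yon S).map iO ≫ p) :
    IsPullback π ((yon S).map iO) i p := by
  -- the comparison map
  let c : (yon S).obj Zo ⟶ pullback i p := pullback.lift π ((yon S).map iO) hi
  have hc1 : c ≫ pullback.fst i p = π := pullback.lift_fst _ _ _
  have hc2 : c ≫ pullback.snd i p = (yon S).map iO := pullback.lift_snd _ _ _
  have hmono : Mono c := by
    have : Mono ((yon S).map iO) := inferInstance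
    have : Mono (c ≫ pullback.snd i p) := by rw [hc2]; infer_instance
    exact mono_of_mono c (pullback.snd i p)
  -- big rectangle
  have big : IsPullback ((yon S).map kO ≫ (yon S).map s) ((yon S).map t'O) p
      ((yon S).map iO ≫ p) := (ht.map (yon S)).paste_horiz kp.flip
  rw [← hi] at big
  have hw : ((yon S).map s'O ≫ c) ≫ pullback.fst i p = (yon S).map t'O ≫ π := by
    rw [Category.assoc, hc1, hcoeq]
  have hw2 : ((yon S).map s'O ≫ c) ≫ pullback.snd i p = (yon S).map kO ≫ (yon S).map s := by
    rw [Category.assoc, hc2, ← CategoryTheory.Functor.map_comp, ← CategoryTheory.Functor.map_comp,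
      hs.w]
  have left : IsPullback ((yon S).map s'O ≫ c) ((yon S).map t'O) (pullback.fst i p) π := by
    refine IsPullback.of_right ?_ hw (IsPullback.of_hasPullback i p).flip
    rw [hw2]
    exact big
  have hsurj' : Sheaf.IsLocallySurjective ((yon S).map s'O ≫ c) :=
    isLocallySurjective_of_isPullback left.flip hπ
  have hsurj : Sheaf.IsLocallySurjective c :=
    Presheaf.isLocallySurjective_of_isLocallySurjective_fac (J S)
      (f₁ := ((yon S).map s'O).hom) (f₂ := c.hom) (f₃ := ((yon S).map s'O ≫ c).hom) rfl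
  have hiso : IsIso c :=
    (Sheaf.isLocallyBijective_iff_isIso c).1 ⟨isLocallyInjective_of_mono c, hsurj⟩
  exact IsPullback.of_iso_pullback ⟨hi⟩ (asIso c) hc1 hc2

end Groth.Agent.Lib.Helper3.QuotRel
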