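import Mathlib
import Groth.Agent.Lib.Helper3.GQRelQuot
import Groth.Agent.Lib.Helper3.QuotRelOpen
import Groth.Agent.Lib.Helper3.QuotRelSub

set_option autoImplicit false
universe u

namespace Groth.Agent.Lib.Helper3.GQ

open CategoryTheory CategoryTheory.Limits AlgebraicGeometry Opposite AlgSp
open Groth.Agent.Lib.Helper3 Groth.Agent.Lib.Helper3.QuotRel

variable {S : Scheme.{u}}

/-- Descent of a map along a locally surjective map with a kernel pair. -/
theorem exists_desc_of_kernelPair {A B K F : Sp S} (π : A ⟶ B)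
    (hπ : Sheaf.IsLocallySurjective π) (k₁ k₂ : K ⟶ A) (kp : IsPullback k₁ k₂ π π)
    (φ : A ⟶ F) (hφ : k₁ ≫ φ = k₂ ≫ φ) : ∃ b : B ⟶ F, π ≫ b = φ := by
  have hepi : Epi π := inferInstance
  have := IsRegularEpiCategory.regularEpiOfEpi π
  have hEff : EffectiveEpi π := inferInstance
  have hdesc : ∀ {Z' : Sp S} (g₁ g₂ : Z' ⟶ A), g₁ ≫ π = g₂ ≫ π → g₁ ≫ φ = g₂ ≫ φ := by
    intro Z' g₁ g₂ h
    have h1 : kp.lift g₁ g₂ h ≫ k₁ = g₁ := kp.lift_fst _ _ _
    have h2 : kp.lift g₁ g₂ h ≫ k₂ = g₂ := kp.lift_snd _ _ _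
    calc g₁ ≫ φ = (kp.lift g₁ g₂ h ≫ k₁) ≫ φ := by rw [h1]
      _ = (kp.lift g₁ g₂ h ≫ k₂) ≫ φ := by rw [Category.assoc, Category.assoc, hφ]
      _ = g₂ ≫ φ := by rw [h2]
  exact ⟨EffectiveEpi.desc π φ hdesc, EffectiveEpi.fac π φ hdesc⟩

section Restrict

variable {R U Ro Zo : Over S} (s t : R ⟶ U) (iO : Zo ⟶ U) (kO : Ro ⟶ R) (s'O t'O : Ro ⟶ Zo)

include s t iO kO in
/-- the restriction of an equivalence relation to an invariant subobject is an equivalence
relation. -/
theorem isEqvRel_restrict [Mono iO] (h : IsEqvRel s t)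
    (hs : IsPullback kO s'O s iO) (ht : IsPullback kO t'O t iO) : IsEqvRel s'O t'O := by
  have hk : Mono kO := by
    refine ⟨fun {W} a b hab => ?_⟩
    refine hs.hom_ext hab ?_
    rw [← cancel_mono iO, Category.assoc, Category.assoc, ← hs.w, ← Category.assoc,
      ← Category.assoc, hab]
  refine ⟨?_, ?_⟩
  · intro T r r' h1 h2
    rw [← cancel_mono kO]
    apply h.injective T
    · rw [Category.assoc, Category.assoc, ht.w, ← Category.assoc, ← Category.assoc, h1]
    · rw [Category.assoc, Category.assoc, hs.w, ← Category.assoc, ← Category.assoc, h2]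
  · intro T
    have hE := h.equivalence T
    refine ⟨?_, ?_, ?_⟩
    · intro a
      rw [rel_restrict_iff s t iO kO s'O t'O hs ht]
      exact hE.refl _
    · intro a b hab
      rw [rel_restrict_iff s t iO kO s'O t'O hs ht] at hab ⊢
      exact hE.symm hab
    · intro a b c hab hbc
      rw [rel_restrict_iff s t iO kO s'O t'O hs ht] at hab hbc ⊢
      exact hE.trans hab hbc

end Restrict

section OpenQuot

variable {R U : Over S} (s t : R ⟶ U)

/-- **Key lemma.** For a finite locally free equivalence relation on `U` with quotient sheaf map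
`p : h_U ⟶ F` (kernel pair `R`), an invariant affine open `W ⊆ U` has an affine quotient scheme
`M` which is an open subfunctor of `F`. -/
theorem exists_open_quotient (h : IsEqvRel s t) [IsFinite s.left] [Flat s.left]
    [LocallyOfFinitePresentation s.left]
    {F : Sp S} (p : (yon S).obj U ⟶ F)
    (kp : IsPullback ((yon S).map t) ((yon S).map s) p p)
    (hp : Sheaf.IsLocallySurjective p)
    (W : U.left.Opens) (hW : IsAffineOpen W) (hinv : s.left ⁻¹ᵁ W = t.left ⁻¹ᵁ W) :
    ∃ (M : Over S) (q : Over.mk (W.ι ≫ U.hom) ⟶ M) (b : (yon S).obj M ⟶ F),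
      IsAffine M.left ∧ IsFinite q.left ∧ Flat q.left ∧ LocallyOfFinitePresentation q.left ∧
      Surjective q.left ∧ RepWith @IsOpenImmersion b ∧
      IsPullback ((yon S).map q) ((yon S).map (Over.homMk W.ι rfl : Over.mk (W.ι ≫ U.hom) ⟶ U))
        b p := by
  let Zo : Over S := Over.mk (W.ι ≫ U.hom)
  let iO : Zo ⟶ U := Over.homMk W.ι rfl
  let RW : R.left.Opens := s.left ⁻¹ᵁ W
  let Ro : Over S := Over.mk (RW.ι ≫ R.hom)
  let kO : Ro ⟶ R := Over.homMk RW.ι rfl
  have hrs : Set.range (RW.ι ≫ s.left) ⊆ Set.range W.ι := by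
    rintro _ ⟨x, rfl⟩
    rw [Scheme.Opens.range_ι]
    exact x.2
  have hrt : Set.range (RW.ι ≫ t.left) ⊆ Set.range W.ι := by
    rintro _ ⟨x, rfl⟩
    rw [Scheme.Opens.range_ι]
    have hx0 : RW.ι x ∈ s.left ⁻¹ᵁ W := x.2
    have hx : RW.ι x ∈ t.left ⁻¹ᵁ W := hinv ▸ hx0
    exact hx
  let s' : (RW : Scheme.{u}) ⟶ (W : Scheme.{u}) := IsOpenImmersion.lift W.ι (RW.ι ≫ s.left) hrs
  let t' : (RW : Scheme.{u}) ⟶ (W : Scheme.{u}) := IsOpenImmersion.lift W.ι (RW.ι ≫ t.left) hrt
  have hs'fac : s' ≫ W.ι = RW.ι ≫ s.left := IsOpenImmersion.lift_fac _ _ _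
  have ht'fac : t' ≫ W.ι = RW.ι ≫ t.left := IsOpenImmersion.lift_fac _ _ _
  have pbs : IsPullback s' RW.ι W.ι s.left :=
    IsOpenImmersion.isPullback s' RW.ι W.ι s.left hs'fac.symm (by
      rw [Scheme.Opens.opensRange_ι, Scheme.Opens.opensRange_ι])
  have pbt : IsPullback t' RW.ι W.ι t.left :=
    IsOpenImmersion.isPullback t' RW.ι W.ι t.left ht'fac.symm (by
      rw [Scheme.Opens.opensRange_ι, Scheme.Opens.opensRange_ι]
      exact hinv.symm)
  let s'O : Ro ⟶ Zo := Over.homMk s' (by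
    show s' ≫ W.ι ≫ U.hom = RW.ι ≫ R.hom
    rw [← Category.assoc, hs'fac, Category.assoc, Over.w s])
  let t'O : Ro ⟶ Zo := Over.homMk t' (by
    show t' ≫ W.ι ≫ U.hom = RW.ι ≫ R.hom
    rw [← Category.assoc, ht'fac, Category.assoc, Over.w t])
  have hs : IsPullback kO s'O s iO := by
    refine IsPullback.of_map (Over.forget S) ?_ pbs.flip
    ext
    exact hs'fac.symm
  have ht : IsPullback kO t'O t iO := by
    refine IsPullback.of_map (Over.forget S) ?_ pbt.flip
    ext
    exact ht'fac.symm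
  haveI : Mono iO := by
    have : Mono ((Over.forget S).map iO) := inferInstanceAs (Mono W.ι)
    exact (Over.forget S).mono_of_mono_map this
  have hE' : IsEqvRel s'O t'O := isEqvRel_restrict s t iO kO s'O t'O h hs ht
  haveI : IsAffine Zo.left := hW
  haveI : IsAffineHom s.left := inferInstance
  haveI : IsAffine Ro.left := hW.preimage s.left
  haveI : IsFinite s'O.left := MorphismProperty.of_isPullback (P := @IsFinite) pbs.flip inferInstance
  haveI : Flat s'O.left := MorphismProperty.of_isPullback (P := @Flat) pbs.flip inferInstance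
  haveI : LocallyOfFinitePresentation s'O.left :=
    MorphismProperty.of_isPullback (P := @LocallyOfFinitePresentation) pbs.flip inferInstance
  obtain ⟨M, q, hMaff, hqfin, hqflat, hqlfp, hqsurj, hqpb⟩ := exists_affine_quotient s'O t'O hE'
  have hq : Sheaf.IsLocallySurjective ((yon S).map q) :=
    QAffDesc.isLocallySurjective_yon_map_of_fppf q
  have kpq : IsPullback ((yon S).map t'O) ((yon S).map s'O) ((yon S).map q) ((yon S).map q) :=
    hqpb.map (yon S)
  have hφ : (yon S).map t'O ≫ ((yon S).map iO ≫ p) = (yon S).map s'O ≫ ((yon S).map iO ≫ p) := by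
    rw [← Category.assoc, ← Category.assoc, ← Functor.map_comp, ← Functor.map_comp, ← ht.w,
      ← hs.w, Functor.map_comp, Functor.map_comp, Category.assoc, Category.assoc, kp.w]
  obtain ⟨b, hb⟩ := exists_desc_of_kernelPair ((yon S).map q) hq _ _ kpq ((yon S).map iO ≫ p) hφ
  have sq : IsPullback ((yon S).map q) ((yon S).map iO) b p :=
    isPullback_of_invariant s t iO kO s'O t'O hs ht p kp ((yon S).map q) hq
      (by rw [← Functor.map_comp, ← Functor.map_comp, hqpb.w]) b hb
  haveI : IsOpenImmersion iO.left := inferInstanceAs (IsOpenImmersion W.ι)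
  have hbopen : RepWith @IsOpenImmersion b :=
    repWith_isOpenImmersion_of_chart b p hp iO ((yon S).map q) sq
  exact ⟨M, q, b, hMaff, hqfin, hqflat, hqlfp, hqsurj, hbopen, sq⟩

end OpenQuot

end Groth.Agent.Lib.Helper3.GQ
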