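import Groth.Agent.Lib.Helper3.AlgSpFpqc

set_option autoImplicit false
universe u
open CategoryTheory CategoryTheory.Limits AlgebraicGeometry Opposite MorphismProperty

namespace Groth.Agent.Lib.Helper3

variable {S : Scheme.{u}}

open AlgSp

/-- The refinement part of an fpqc covering. -/
def HasStdRefinement {ι : Type u} {Y : Sp S} (Yi : ι → Sp S) (g : ∀ i, Yi i ⟶ Y) : Prop :=
  ∀ (Z : Over S), IsAffine Z.left → ∀ (h : (yon S).obj Z ⟶ Y),
    ∃ (m : ℕ) (W : Fin m → Over S) (c : ∀ j, W j ⟶ Z),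
      (∀ j, IsAffine (W j).left) ∧ (∀ j, Flat (c j).left) ∧
      (∀ z : ↥Z.left, ∃ j, z ∈ Set.range (c j).left) ∧
      ∀ j, ∃ (i : _) (l : (yon S).obj (W j) ⟶ Yi i), l ≫ g i = (yon S).map (c j) ≫ h

theorem IsFpqcCover.hasStdRefinement {ι : Type u} {Y : Sp S} {Yi : ι → Sp S}
    {g : ∀ i, Yi i ⟶ Y} (h : IsFpqcCover Yi g) : HasStdRefinement Yi g := h.2

section

variable {ι : Type u} {X Y : Sp S} {Yi : ι → Sp S} {g : ∀ i, Yi i ⟶ Y} {f : X ⟶ Y}
  {Xi : ι → Sp S} {p : ∀ i, Xi i ⟶ Yi i} {q : ∀ i, Xi i ⟶ X}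

/-- The base change of `f` to an affine scheme is covered, in the standard fpqc sense, by base
changes of the `p i`. -/
theorem exists_stdFpqc_squares (hcov : HasStdRefinement Yi g)
    (sq : ∀ i, IsPullback (q i) (p i) f (g i)) {Z : Over S} (hZ : IsAffine Z.left)
    (h : (yon S).obj Z ⟶ Y) {P₀ : Sp S} {fst : P₀ ⟶ X} {snd : P₀ ⟶ (yon S).obj Z}
    (sqZ : IsPullback fst snd f h) :
    ∃ (m : ℕ) (W : Fin m → Over S) (c : ∀ j, W j ⟶ Z), StdFpqc Z W c ∧
      ∀ j, ∃ (i : ι) (l : (yon S).obj (W j) ⟶ Yi i)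
        (lift : pullback snd ((yon S).map (c j)) ⟶ Xi i),
        IsPullback lift (pullback.snd snd ((yon S).map (c j))) (p i) l := by
  obtain ⟨m, W, c, hW, hfl, hsurj, hl⟩ := hcov Z hZ h
  refine ⟨m, W, c, ⟨hW, hfl, hsurj⟩, fun j => ?_⟩
  obtain ⟨i, l, hl⟩ := hl j
  have big := (IsPullback.of_hasPullback snd ((yon S).map (c j))).paste_horiz sqZ
  rw [← hl] at big
  have hw : (pullback.fst snd ((yon S).map (c j)) ≫ fst) ≫ f =
      (pullback.snd snd ((yon S).map (c j)) ≫ l) ≫ g i := by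
    simpa only [Category.assoc] using big.w
  refine ⟨i, l, (sq i).lift _ _ hw, ?_⟩
  refine IsPullback.of_right ?_ ((sq i).lift_snd _ _ _) (sq i)
  rw [(sq i).lift_fst]
  exact big

theorem isQuasiCompactMor_of_stdRefinement (hX : IsAlgSpace X) (hY : IsAlgSpace Y)
    (hcov : HasStdRefinement Yi g) (sq : ∀ i, IsPullback (q i) (p i) f (g i))
    (hp : ∀ i, IsQuasiCompactMor (p i)) : IsQuasiCompactMor f := by
  refine isQuasiCompactMor_of_forall_affine hX hY.diag f ?_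
  intro Z hZ h P₀ fst snd sqZ
  have hP₀ : IsAlgSpace P₀ := isAlgSpace_of_isPullback' hY hX (IsAlgSpace.yon_obj Z) sqZ
  obtain ⟨m, W, c, hc, hj⟩ := exists_stdFpqc_squares hcov sq hZ h sqZ
  have : CompactSpace (Points P₀) := by
    refine hc.compactSpace (fun j => IsPullback.of_hasPullback snd ((yon S).map (c j))) ?_
    intro j
    obtain ⟨i, l, lift, sqj⟩ := hj j
    have := hc.affine j
    exact compactSpace_points_of_isQuasiCompactSp
      (hp i (IsAlgSpace.yon_obj (W j))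
        (isQuasiCompactSp_yon (inferInstance : CompactSpace ↥(W j).left)) l _ _ sqj)
  exact isQuasiCompactSp_of_compactSpace_points hP₀

theorem isUnivClosedMor_of_stdRefinement
    (hcov : HasStdRefinement Yi g) (sq : ∀ i, IsPullback (q i) (p i) f (g i))
    (hp : ∀ i, IsUnivClosedMor (p i)) : IsUnivClosedMor f := by
  rw [Groth.Agent.S9923.isUnivClosedMor_iff_affine]
  intro Z hZ h P₀ fst snd sqZ
  obtain ⟨m, W, c, hc, hj⟩ := exists_stdFpqc_squares hcov sq hZ h sqZ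
  refine hc.isClosedMap (fun j => IsPullback.of_hasPullback snd ((yon S).map (c j))) ?_
  intro j
  obtain ⟨i, l, lift, sqj⟩ := hj j
  exact hp i (IsAlgSpace.yon_obj (W j)) l _ _ sqj

theorem isUnivOpenMor_of_stdRefinement
    (hcov : HasStdRefinement Yi g) (sq : ∀ i, IsPullback (q i) (p i) f (g i))
    (hp : ∀ i, IsUnivOpenMor (p i)) : IsUnivOpenMor f := by
  rw [Groth.Agent.S9909.isUnivOpenMor_iff_affine]
  intro Z hZ h P₀ fst snd sqZ
  obtain ⟨m, W, c, hc, hj⟩ := exists_stdFpqc_squares hcov sq hZ h sqZ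
  refine hc.isOpenMap (fun j => IsPullback.of_hasPullback snd ((yon S).map (c j))) ?_
  intro j
  obtain ⟨i, l, lift, sqj⟩ := hj j
  exact hp i (IsAlgSpace.yon_obj (W j)) l _ _ sqj

end

end Groth.Agent.Lib.Helper3
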