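import Groth.Agent.Lib.Helper3.FpqcDescAffine
import Groth.Agent.Lib.Helper3.AlgSpRepLocal
import Groth.Agent.Lib.Helper3.AlgSpLocal
import Groth.Agent.Lib.Helper3.AlgSpFpqc2

set_option autoImplicit false

universe u
open CategoryTheory CategoryTheory.Limits AlgebraicGeometry Opposite AlgSp

namespace Groth.Agent.Lib.Helper3.FpqcDesc

open Groth.Agent.Lib.Helper3 Groth.Agent.Lib.Helper3.AffDesc

variable {S : Scheme.{u}}

/-- finite disjoint unions of affine schemes over a base. -/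
theorem exists_coprod_affine {Z : Over S} {m : ℕ} (W : Fin m → Over S) (c : ∀ j, W j ⟶ Z)
    (hW : ∀ j, IsAffine (W j).left) :
    ∃ (V : Over S) (q : V ⟶ Z) (ι : ∀ j, W j ⟶ V), IsAffine V.left ∧
      (∀ j, IsOpenImmersion (ι j).left) ∧ (∀ j, ι j ≫ q = c j) ∧
      (∀ v : ↥V.left, ∃ j, v ∈ Set.range (ι j).left) ∧
      ((∀ j, Flat (c j).left) → Flat q.left) := by
  let W₀ : Fin m → Scheme.{u} := fun j => (W j).left
  let q₀ : (∐ W₀) ⟶ Z.left := Sigma.desc (fun j => (c j).left)
  let V : Over S := Over.mk (q₀ ≫ Z.hom)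
  let q : V ⟶ Z := Over.homMk q₀ rfl
  have hι : ∀ j, Sigma.ι W₀ j ≫ V.hom = (W j).hom := by
    intro j
    change Sigma.ι W₀ j ≫ q₀ ≫ Z.hom = (W j).hom
    rw [← Category.assoc, Sigma.ι_desc, Over.w]
  let ι : ∀ j, W j ⟶ V := fun j => Over.homMk (Sigma.ι W₀ j) (hι j)
  have : ∀ j, IsAffine (W₀ j) := hW
  refine ⟨V, q, ι, inferInstanceAs (IsAffine (∐ W₀)), fun j => inferInstanceAs
    (IsOpenImmersion (Sigma.ι W₀ j)), fun j => ?_, fun v => ?_, fun hc => ?_⟩
  · ext
    exact Sigma.ι_desc _ _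
  · obtain ⟨j, y, hy⟩ := (sigmaOpenCover W₀).exists_eq v
    exact ⟨j, y, hy⟩
  · exact IsZariskiLocalAtSource.sigmaDesc (P := @Flat) (fun j => hc j)

/-- a property Zariski local on the target can be checked on represented base changes over an
open cover. -/
theorem prop_of_openCover_pieces (P : MorphismProperty Scheme.{u}) [IsZariskiLocalAtTarget P]
    {X Y : Sp S} (f : X ⟶ Y) {T : Over S} (g : (yon S).obj T ⟶ Y) {E : Over S} (w : E ⟶ T)
    (fstE : (yon S).obj E ⟶ X) (sqE : IsPullback fstE ((yon S).map w) f g)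
    {κ : Type*} (Tk : κ → Over S) (jk : ∀ k, Tk k ⟶ T) (hj : ∀ k, IsOpenImmersion (jk k).left)
    (hcov : ∀ t : ↥T.left, ∃ k, t ∈ Set.range (jk k).left)
    (Ek : κ → Over S) (wk : ∀ k, Ek k ⟶ Tk k) (fstk : ∀ k, (yon S).obj (Ek k) ⟶ X)
    (sqk : ∀ k, IsPullback (fstk k) ((yon S).map (wk k)) f ((yon S).map (jk k) ≫ g))
    (hP : ∀ k, P (wk k).left) : P w.left := by
  have : P.RespectsIso := inferInstance
  let 𝒰 : T.left.OpenCover := Scheme.Cover.mkOfCovers κ (fun k => (Tk k).left)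
    (fun k => (jk k).left) (fun t => by
      obtain ⟨k, y, hy⟩ := hcov t
      exact ⟨k, y, hy⟩) hj
  refine IsZariskiLocalAtTarget.of_openCover 𝒰 fun k => ?_
  have sq1 := IsPullback.of_hasPullback w (jk k)
  have sq2 : IsPullback (pullback.fst w (jk k)).left (pullback.snd w (jk k)).left w.left
      (jk k).left := sq1.map (Over.forget S)
  have sq3 : IsPullback ((yon S).map (pullback.fst w (jk k)) ≫ fstE)
      ((yon S).map (pullback.snd w (jk k))) f ((yon S).map (jk k) ≫ g) :=
    (sq1.map (yon S)).paste_horiz sqE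
  have h4 : P (pullback.snd w (jk k)).left := prop_of_isPullback_of_isPullback P (sqk k) sq3 (hP k)
  have e := sq2.isoPullback_hom_snd
  have h5 : P (sq2.isoPullback.hom ≫ pullback.snd w.left (jk k).left) := by
    rw [e]; exact h4
  exact (P.cancel_left_of_respectsIso _ _).1 h5

/-- **The fpqc descent square**: for a morphism whose base changes along a covering with standard
fpqc refinements are affine, the base change to an affine scheme is an affine scheme, obtained by
descent along a faithfully flat morphism of affine schemes. -/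
theorem exists_fpqc_descent_square {ι : Type u} {Y : Sp S} (Yi : ι → Sp S) (g : ∀ i, Yi i ⟶ Y)
    (hY : IsAlgSpace Y) (hcov : HasStdRefinement Yi g)
    {X : Sp S} (f : X ⟶ Y) (hX : IsAlgSpace X) (Xi : ι → Sp S) (p : ∀ i, Xi i ⟶ Yi i)
    (qq : ∀ i, Xi i ⟶ X) (sq : ∀ i, IsPullback (qq i) (p i) f (g i))
    (hp : ∀ i, IsAffineMor (p i)) {Z : Over S} (hZ : IsAffine Z.left) (z : (yon S).obj Z ⟶ Y) :
    ∃ (W₀ V E : Over S) (i : W₀ ⟶ Z) (fst₀ : (yon S).obj W₀ ⟶ X) (q : V ⟶ Z) (w : E ⟶ V)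
      (c : E ⟶ W₀),
      IsPullback fst₀ ((yon S).map i) f z ∧ IsAffine W₀.left ∧ IsAffine V.left ∧ IsAffine E.left ∧
      Flat q.left ∧ Surjective q.left ∧ IsPullback c w i q ∧
      ∀ (P : MorphismProperty Scheme.{u}) [IsZariskiLocalAtTarget P],
        (∀ (i : ι) (T : Over S) (l : (yon S).obj T ⟶ Yi i) (E' : Over S) (w' : E' ⟶ T)
          (fst' : (yon S).obj E' ⟶ Xi i), IsAffine T.left →
          IsPullback fst' ((yon S).map w') (p i) l → P w'.left) → P w.left := by
  obtain ⟨m, W, c, hWa, hcf, hcs, hl⟩ := hcov Z hZ z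
  choose ij l hl using hl
  choose Ej wj fstj sqj hEj using fun j => hp (ij j) (hWa j) (l j)
  have sqE : ∀ j, IsPullback (fstj j ≫ qq (ij j)) ((yon S).map (wj j)) f
      ((yon S).map (c j) ≫ z) := by
    intro j
    rw [← hl j]
    exact (sqj j).paste_horiz (sq (ij j))
  obtain ⟨V, q, ι', hV, hι, hιq, hιcov, hqflat⟩ := exists_coprod_affine W c hWa
  have hqf : Flat q.left := hqflat hcf
  have hqs : Surjective q.left := ⟨fun z' => by
    obtain ⟨j, y, hy⟩ := hcs z'
    refine ⟨(ι' j).left y, ?_⟩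
    rw [← Scheme.Hom.comp_apply, ← Over.comp_left, hιq]
    exact hy⟩
  have sqE' : ∀ k : ULift.{u} (Fin m), IsPullback (fstj k.down ≫ qq (ij k.down))
      ((yon S).map (wj k.down)) f ((yon S).map (ι' k.down) ≫ (yon S).map q ≫ z) := by
    intro k
    rw [← Category.assoc, ← CategoryTheory.Functor.map_comp, hιq]
    exact sqE k.down
  obtain ⟨E, w, fstE, sqEV⟩ := exists_isPullback_of_openCover f ((yon S).map q ≫ z)
    (κ := ULift.{u} (Fin m)) (fun k => W k.down) (fun k => ι' k.down) (fun k => hι k.down)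
    (fun t => by
      obtain ⟨j, hj⟩ := hιcov t
      exact ⟨⟨j⟩, hj⟩)
    (fun k => ⟨Ej k.down, wj k.down, fstj k.down ≫ qq (ij k.down), sqE' k⟩)
  have htransfer : ∀ (P : MorphismProperty Scheme.{u}) [IsZariskiLocalAtTarget P],
      (∀ j, P (wj j).left) → P w.left := by
    intro P _ h
    exact prop_of_openCover_pieces P f ((yon S).map q ≫ z) w fstE sqEV
      (fun k : ULift.{u} (Fin m) => W k.down) (fun k => ι' k.down) (fun k => hι k.down)
      (fun t => by
        obtain ⟨j, hj⟩ := hιcov t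
        exact ⟨⟨j⟩, hj⟩)
      (fun k => Ej k.down) (fun k => wj k.down) (fun k => fstj k.down ≫ qq (ij k.down)) sqE'
      (fun k => h k.down)
  have hEaff : IsAffine E.left := by
    have : IsAffineHom w.left := htransfer @IsAffineHom (fun j => by
      have := hEj j
      have := hWa j
      infer_instance)
    exact isAffine_of_isAffineHom w.left
  have hF : IsAlgSpace (pullback f z) :=
    isAlgSpace_of_isPullback' hY hX (IsAlgSpace.yon_obj Z) (IsPullback.of_hasPullback f z)
  have t := IsPullback.of_hasPullback f z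
  have sqF := IsPullback.of_right' sqEV t
  obtain ⟨W₀, i, c₀, e, hW₀, he1, he2, sqS⟩ :=
    exists_affine_of_fpqc_cover q w hF (pullback.snd f z) _ sqF
  refine ⟨W₀, V, E, i, e.hom ≫ pullback.fst f z, q, w, c₀, ?_, hW₀, hV, hEaff, hqf, hqs, sqS, ?_⟩
  · refine IsPullback.of_iso t e.symm (Iso.refl _) (Iso.refl _) (Iso.refl _) ?_ ?_ ?_ ?_
    · simp
    · simp only [Iso.refl_hom, Category.comp_id, Iso.symm_hom]
      rw [← he1, Iso.inv_hom_id_assoc]
    · simp
    · simp
  · intro P _ hP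
    exact htransfer P (fun j => hP (ij j) (W j) (l j) (Ej j) (wj j) (fstj j) (hWa j) (sqj j))

end Groth.Agent.Lib.Helper3.FpqcDesc
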