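import Groth.Agent.Lib.Helper3.AffDescCore
import Groth.Agent.Lib.Helper3.AlgSpOpenSubsp

set_option autoImplicit false

universe u
open CategoryTheory CategoryTheory.Limits AlgebraicGeometry Opposite AlgSp

namespace Groth.Agent.Lib.Helper3.QuotRel

open Groth.Agent.Lib.Helper3.AffDesc

variable {S : Scheme.{u}} {R U : Over S} (s t : R ⟶ U)

/-- the relation on `T`-points. -/
def relQ (T : Over S) : ULift.{u+1} (T ⟶ U) → ULift.{u+1} (T ⟶ U) → Prop :=
  fun a b => ∃ r : T ⟶ R, r ≫ t = a.down ∧ r ≫ s = b.down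

/-- the presheaf quotient `T ↦ U(T)/R(T)`. -/
def Q : (Over S)ᵒᵖ ⥤ Type (u+1) where
  obj T := Quot (relQ s t T.unop)
  map {T T'} f := ↾(Quot.map (fun a => (⟨f.unop ≫ a.down⟩ : ULift.{u+1} (T'.unop ⟶ U))) (by
    rintro a b ⟨r, h1, h2⟩
    exact ⟨f.unop ≫ r, by simp [h1], by simp [h2]⟩))
  map_id T := by
    ext x
    induction x using Quot.ind with
    | mk a => simp [Quot.map]
  map_comp f g := by
    ext x
    induction x using Quot.ind with
    | mk a => simp [Quot.map]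

/-- the projection to the presheaf quotient. -/
def toQ : ((yon S).obj U).obj ⟶ Q s t where
  app T := ↾(fun a => Quot.mk _ a)
  naturality T T' f := by
    ext a
    rfl

end Groth.Agent.Lib.Helper3.QuotRel

namespace Groth.Agent.Lib.Helper3.QuotRel

open Groth.Agent.Lib.Helper3.AffDesc

variable {S : Scheme.{u}} {R U : Over S} (s t : R ⟶ U)

/-- the sheafified quotient -/
noncomputable def G : Sp S := (presheafToSheaf (J S) (Type (u+1))).obj (Q s t)

/-- the map from `h_U` to the sheafified quotient. -/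
noncomputable def toG : (yon S).obj U ⟶ G s t := ⟨toQ s t ≫ toSheafify (J S) (Q s t)⟩

theorem toG_coeq : (yon S).map s ≫ toG s t = (yon S).map t ≫ toG s t := by
  apply Sheaf.hom_ext
  ext T r
  change (toSheafify (J S) (Q s t)).app T (Quot.mk _ ⟨r.down ≫ s⟩) =
    (toSheafify (J S) (Q s t)).app T (Quot.mk _ ⟨r.down ≫ t⟩)
  congr 1
  exact (Quot.sound ⟨r.down, rfl, rfl⟩).symm

variable {s t}

theorem relQ_equivalence (h : IsEqvRel s t) (T : Over S) : Equivalence (relQ s t T) := by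
  have e := h.equivalence T
  refine ⟨fun a => e.refl a.down, fun {a b} hab => e.symm hab, fun {a b c} hab hbc => e.trans hab hbc⟩

/-- **Effectivity**: two `T`-points of `U` with the same image in any weak coequalizer of
`h_s, h_t` are related by a `T`-point of `R`. -/
theorem exists_rel_of_eq (h : IsEqvRel s t) {F : Sp S} (π : (yon S).obj U ⟶ F)
    (hπ : ∃ φ' : F ⟶ G s t, π ≫ φ' = toG s t) {T : Over S} (a b : T ⟶ U)
    (hab : (yon S).map a ≫ π = (yon S).map b ≫ π) : ∃ r : T ⟶ R, r ≫ t = a ∧ r ≫ s = b := by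
  obtain ⟨φ', hφ'⟩ := hπ
  have h1 : (yon S).map a ≫ toG s t = (yon S).map b ≫ toG s t := by
    rw [← hφ', ← Category.assoc, hab, Category.assoc]
  -- evaluate at the identity
  have h2 : (toSheafify (J S) (Q s t)).app (op T) (Quot.mk _ ⟨a⟩) =
      (toSheafify (J S) (Q s t)).app (op T) (Quot.mk _ ⟨b⟩) := by
    have := congrArg (fun k => k.hom.app (op T) ⟨𝟙 T⟩) h1
    have ea : ((yon S).map a).hom.app (op T) ⟨𝟙 T⟩ = ⟨a⟩ := by
      change (⟨𝟙 T ≫ a⟩ : ULift.{u+1} (T ⟶ U)) = ⟨a⟩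
      rw [Category.id_comp]
    have eb : ((yon S).map b).hom.app (op T) ⟨𝟙 T⟩ = ⟨b⟩ := by
      change (⟨𝟙 T ≫ b⟩ : ULift.{u+1} (T ⟶ U)) = ⟨b⟩
      rw [Category.id_comp]
    change (toSheafify (J S) (Q s t)).app (op T) (Quot.mk _ (((yon S).map a).hom.app (op T) ⟨𝟙 T⟩)) =
      (toSheafify (J S) (Q s t)).app (op T) (Quot.mk _ (((yon S).map b).hom.app (op T) ⟨𝟙 T⟩)) at this
    rw [ea, eb] at this
    exact this
  have h3 := Presheaf.equalizerSieve_mem (J S) (toSheafify (J S) (Q s t))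
    (X := op T) (Quot.mk _ ⟨a⟩) (Quot.mk _ ⟨b⟩) h2
  set Sv := Presheaf.equalizerSieve (F := Q s t) (X := op T) (Quot.mk _ ⟨a⟩) (Quot.mk _ ⟨b⟩)
    with hSv
  have hrel : ∀ ⦃T' : Over S⦄ (f : T' ⟶ T), Sv f → ∃ r : T' ⟶ R, r ≫ t = f ≫ a ∧ r ≫ s = f ≫ b := by
    intro T' f hf
    have hf' : (Quot.mk (relQ s t T') ⟨f ≫ a⟩ : Quot (relQ s t T')) = Quot.mk _ ⟨f ≫ b⟩ := hf
    have := Quot.eqvGen_exact hf'
    rw [(relQ_equivalence h T').eqvGen_iff] at this
    exact this
  choose rf hrf1 hrf2 using hrel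
  have hR : Presieve.IsSheaf (J S) ((yon S).obj R).obj :=
    (isSheaf_iff_isSheaf_of_type _ _).1 ((yon S).obj R).property
  have hU : Presieve.IsSheaf (J S) ((yon S).obj U).obj :=
    (isSheaf_iff_isSheaf_of_type _ _).1 ((yon S).obj U).property
  let x : Presieve.FamilyOfElements ((yon S).obj R).obj Sv.arrows := fun T' f hf => ⟨rf f hf⟩
  have hx : x.Compatible := by
    rw [Presieve.compatible_iff_sieveCompatible]
    intro Y Z' f g hf
    change (⟨rf (g ≫ f) _⟩ : ULift.{u+1} (Z' ⟶ R)) = ⟨g ≫ rf f hf⟩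
    congr 1
    apply h.injective
    · rw [hrf1, Category.assoc, Category.assoc, hrf1]
    · rw [hrf2, Category.assoc, Category.assoc, hrf2]
  obtain ⟨r, hr, -⟩ := hR Sv h3 x hx
  have hr' : ∀ ⦃T' : Over S⦄ (f : T' ⟶ T) (hf : Sv f), f ≫ r.down = rf f hf := by
    intro T' f hf
    have := hr f hf
    exact congrArg ULift.down this
  refine ⟨r.down, ?_, ?_⟩
  · have : (⟨r.down ≫ t⟩ : ULift.{u+1} (T ⟶ U)) = ⟨a⟩ := by
      refine (hU Sv h3).isSeparatedFor.ext fun T' f hf => ?_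
      change (⟨f ≫ r.down ≫ t⟩ : ULift.{u+1} (T' ⟶ U)) = ⟨f ≫ a⟩
      rw [← Category.assoc, hr' f hf, hrf1]
    exact congrArg ULift.down this
  · have : (⟨r.down ≫ s⟩ : ULift.{u+1} (T ⟶ U)) = ⟨b⟩ := by
      refine (hU Sv h3).isSeparatedFor.ext fun T' f hf => ?_
      change (⟨f ≫ r.down ≫ s⟩ : ULift.{u+1} (T' ⟶ U)) = ⟨f ≫ b⟩
      rw [← Category.assoc, hr' f hf, hrf2]
    exact congrArg ULift.down this

/-- the kernel pair of a (weak) coequalizer of an equivalence relation is the relation. -/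
theorem isPullback_of_isEqvRel (h : IsEqvRel s t) {F : Sp S} (π : (yon S).obj U ⟶ F)
    (hcoeq : (yon S).map s ≫ π = (yon S).map t ≫ π)
    (hπ : ∃ φ' : F ⟶ G s t, π ≫ φ' = toG s t) :
    IsPullback ((yon S).map t) ((yon S).map s) π π := by
  refine Groth.Agent.Lib.Helper3.isPullback_of_sections _ _ _ _ hcoeq.symm ?_ ?_
  · intro V x y h1 h2
    induction V using Opposite.rec with
    | op V =>
      obtain ⟨x⟩ := x
      obtain ⟨y⟩ := y
      congr 1
      exact h.injective V x y (congrArg ULift.down h1) (congrArg ULift.down h2)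
  · intro V x₂ x₃ hx
    induction V using Opposite.rec with
    | op V =>
      obtain ⟨a⟩ := x₂
      obtain ⟨b⟩ := x₃
      have hab : (yon S).map a ≫ π = (yon S).map b ≫ π := by
        apply (J S).uliftYonedaEquiv.{u+1}.injective
        rw [(J S).uliftYonedaEquiv_comp.{u+1}, (J S).uliftYonedaEquiv_comp.{u+1},
          (J S).uliftYonedaEquiv_uliftYoneda_map.{u+1}, (J S).uliftYonedaEquiv_uliftYoneda_map.{u+1}]
        exact hx
      obtain ⟨r, hr1, hr2⟩ := exists_rel_of_eq h π hπ a b hab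
      refine ⟨⟨r⟩, ?_, ?_⟩
      · change (⟨r ≫ t⟩ : ULift.{u+1} (V ⟶ U)) = ⟨a⟩
        rw [hr1]
      · change (⟨r ≫ s⟩ : ULift.{u+1} (V ⟶ U)) = ⟨b⟩
        rw [hr2]

end Groth.Agent.Lib.Helper3.QuotRel
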