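import Groth.Agent.Lib.Helper3.AffDescCore
import Groth.Prelude.Def_QuotSh

set_option autoImplicit false

universe u
open CategoryTheory CategoryTheory.Limits AlgebraicGeometry Opposite AlgSp

namespace Groth.Agent.Lib.Helper3.QuotRel

variable {S : Scheme.{u}}

/-- the identification `rep V ≅ h_V`. -/
noncomputable abbrev repIso (V : Over S) :
    QuotSh.rep Scheme.fppfPrecoverage V ≅ (yon S).obj V :=
  QuotSh.repIsoUliftYoneda Scheme.fppfPrecoverage V

theorem repIso_naturality {V W : Over S} (g : V ⟶ W) :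
    (yon S).map g ≫ (repIso W).inv = (repIso V).inv ≫ QuotSh.repMap Scheme.fppfPrecoverage g :=
  (sheafificationNatIso (J S) (Type (u+1))).hom.naturality ((yon S).map g)

theorem repIso_naturality' {V W : Over S} (g : V ⟶ W) :
    QuotSh.repMap Scheme.fppfPrecoverage g ≫ (repIso W).hom = (repIso V).hom ≫ (yon S).map g := by
  rw [← Iso.inv_comp_eq, ← Category.assoc, ← repIso_naturality, Category.assoc, Iso.inv_hom_id,
    Category.comp_id]

variable {R U : Over S} (s t : R ⟶ U)

/-- the quotient map `h_U ⟶ U/R`. -/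
noncomputable abbrev quotMap : (yon S).obj U ⟶ QuotSh.quot Scheme.fppfPrecoverage s t :=
  (repIso U).inv ≫ QuotSh.quotπ Scheme.fppfPrecoverage s t

theorem quotMap_coeq : (yon S).map s ≫ quotMap s t = (yon S).map t ≫ quotMap s t := by
  rw [← Category.assoc, ← Category.assoc, repIso_naturality, repIso_naturality, Category.assoc,
    Category.assoc, QuotSh.quot_condition]

instance : Epi (quotMap s t) := by
  have : Epi (QuotSh.quotπ Scheme.fppfPrecoverage s t) := by
    unfold QuotSh.quotπ
    exact coequalizer.π_epi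
  infer_instance

theorem exists_desc_quotMap {G : Sp S} (φ : (yon S).obj U ⟶ G)
    (hφ : (yon S).map s ≫ φ = (yon S).map t ≫ φ) :
    ∃ φ' : QuotSh.quot Scheme.fppfPrecoverage s t ⟶ G, quotMap s t ≫ φ' = φ := by
  have h1 : QuotSh.repMap Scheme.fppfPrecoverage s ≫ (repIso U).hom ≫ φ =
      QuotSh.repMap Scheme.fppfPrecoverage t ≫ (repIso U).hom ≫ φ := by
    rw [← Category.assoc, ← Category.assoc, repIso_naturality', repIso_naturality', Category.assoc,
      Category.assoc, hφ]
  refine ⟨coequalizer.desc ((repIso U).hom ≫ φ) h1, ?_⟩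
  change ((repIso U).inv ≫ coequalizer.π _ _) ≫ coequalizer.desc ((repIso U).hom ≫ φ) h1 = φ
  rw [Category.assoc, coequalizer.π_desc, Iso.inv_hom_id_assoc]

end Groth.Agent.Lib.Helper3.QuotRel
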