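import Groth.Agent.Lib.Helper3.QuotRelProps
import Groth.Agent.Lib.Helper3.QuotRelKernel
import Groth.Agent.Lib.Helper3.QuotRelMap

set_option autoImplicit false

universe u
open CategoryTheory CategoryTheory.Limits AlgebraicGeometry Opposite AlgSp

namespace Groth.Agent.Lib.Helper3.QuotRel

open Groth.Agent.Lib.Helper3 Groth.Agent.Lib.Helper3.QAffDesc

variable {S : Scheme.{u}} {R U : Over S} (s t : R ⟶ U)

/-- The quotient of a scheme by an étale equivalence relation: presentation and algebraicity. -/
theorem isPresentation_and_isAlgSpace (h : IsEtaleEqvRel s t) :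
    IsPresentation s t (quotMap s t) ∧ IsAlgSpace (QuotSh.quot Scheme.fppfPrecoverage s t) := by
  have hE : IsEqvRel s t := h.toIsEqvRel
  have kp : IsPullback ((yon S).map t) ((yon S).map s) (quotMap s t) (quotMap s t) :=
    isPullback_of_isEqvRel hE _ (quotMap_coeq s t)
      (exists_desc_quotMap s t (toG s t) (toG_coeq s t))
  have hπ : Sheaf.IsLocallySurjective (quotMap s t) :=
    (Sheaf.isLocallySurjective_iff_epi _).2 inferInstance
  have hse : Etale s.left := h.etale_left
  have hlft : LocallyOfFiniteType (prod.lift t s).left := by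
    have h1 : (prod.lift t s).left ≫ (prod.snd : U ⨯ U ⟶ U).left = s.left := by
      rw [← Over.comp_left, prod.lift_snd]
    have h2 : LocallyOfFiniteType ((prod.lift t s).left ≫ (prod.snd : U ⨯ U ⟶ U).left) := by
      rw [h1]; infer_instance
    exact locallyOfFiniteType_of_comp (prod.lift t s).left (prod.snd : U ⨯ U ⟶ U).left
  have hdiag : Representable (Limits.diag (QuotSh.quot Scheme.fppfPrecoverage s t)) :=
    representable_diag_of_kernelPair (quotMap s t) hπ t s kp hlft
  have hrep : Representable (quotMap s t) :=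
    Functor.relativelyRepresentable.of_diag hdiag (quotMap s t)
  have hEt : RepWith @Etale (quotMap s t) :=
    repWith_of_kernelPair @Etale (quotMap s t) hπ hrep t s kp hse
  have hss : Surjective s.left := by
    obtain ⟨r, -, hr⟩ := (hE.equivalence U).refl (𝟙 U)
    refine ⟨fun u => ⟨r.left u, ?_⟩⟩
    rw [← Scheme.Hom.comp_apply, ← Over.comp_left, hr]
    rfl
  have hSurj : RepWith @Surjective (quotMap s t) :=
    repWith_of_kernelPair @Surjective (quotMap s t) hπ hrep t s kp hss
  exact ⟨⟨h, hEt, hSurj, kp⟩, ⟨hdiag, U, quotMap s t, hEt, hSurj⟩⟩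

end Groth.Agent.Lib.Helper3.QuotRel
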