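import Mathlib
import Groth.Agent.Lib.Helper3.GQOpenQuot
import Groth.Agent.Lib.Helper3.QuotRelMain
import Groth.Agent.Lib.Helper3.ZarGlue
import Groth.Agent.Lib.Helper3.AlgSpHasAtMor
import Groth.Agent.Lib.Helper3.FpqcDescSquare
import Groth.Agent.Lib.Helper3.SpUC

set_option autoImplicit false
universe u

namespace Groth.Agent.Lib.Helper3.GQ

open CategoryTheory CategoryTheory.Limits AlgebraicGeometry Opposite AlgSp
open Groth.Agent.Lib.Helper3 Groth.Agent.Lib.Helper3.QuotRel

variable {S : Scheme.{u}} {R U : Over S} (s t : R ⟶ U)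

/-- **Gluing of affine quotients**: a finite locally free equivalence relation on a scheme `U`
which is covered by invariant affine opens has a quotient scheme. -/
theorem exists_quotient_of_cover (h : IsEqvRel s t) [IsFinite s.left] [Flat s.left]
    [LocallyOfFinitePresentation s.left]
    (hcov : ∀ u : ↥U.left, ∃ W : U.left.Opens, IsAffineOpen W ∧ u ∈ W ∧
      s.left ⁻¹ᵁ W = t.left ⁻¹ᵁ W) :
    ∃ (M : Over S) (m : U ⟶ M), IsFinite m.left ∧ Flat m.left ∧
      LocallyOfFinitePresentation m.left ∧ Surjective m.left ∧ IsPullback t s m m := by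
  -- the quotient sheaf
  let F : Sp S := QuotSh.quot Scheme.fppfPrecoverage s t
  let p : (yon S).obj U ⟶ F := quotMap s t
  have kp : IsPullback ((yon S).map t) ((yon S).map s) p p :=
    isPullback_of_isEqvRel h _ (quotMap_coeq s t)
      (exists_desc_quotMap s t (toG s t) (toG_coeq s t))
  have hp : Sheaf.IsLocallySurjective p :=
    (Sheaf.isLocallySurjective_iff_epi _).2 inferInstance
  have hlft : LocallyOfFiniteType (prod.lift t s).left := by
    have h1 : (prod.lift t s).left ≫ (prod.snd : U ⨯ U ⟶ U).left = s.left := by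
      rw [← Over.comp_left, prod.lift_snd]
    have h2 : LocallyOfFiniteType ((prod.lift t s).left ≫ (prod.snd : U ⨯ U ⟶ U).left) := by
      rw [h1]; infer_instance
    exact locallyOfFiniteType_of_comp (prod.lift t s).left (prod.snd : U ⨯ U ⟶ U).left
  have hdiag : Representable (Limits.diag F) :=
    representable_diag_of_kernelPair p hp t s kp hlft
  have hrep : Representable p := Functor.relativelyRepresentable.of_diag hdiag p
  have hss : Surjective s.left := by
    obtain ⟨r, -, hr⟩ := (h.equivalence U).refl (𝟙 U)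
    refine ⟨fun u => ⟨r.left u, ?_⟩⟩
    rw [← Scheme.Hom.comp_apply, ← Over.comp_left, hr]
    rfl
  have hSurj : RepWith @Surjective p :=
    repWith_of_kernelPair @Surjective p hp hrep t s kp hss
  -- the charts
  choose W hWaff huW hWinv using hcov
  choose M q b hMaff hqfin hqflat hqlfp hqsurj hbopen sq using fun u : ↥U.left =>
    exists_open_quotient s t h p kp hp (W u) (hWaff u) (hWinv u)
  let iO : ∀ u : ↥U.left, Over.mk ((W u).ι ≫ U.hom) ⟶ U := fun u => Over.homMk (W u).ι rfl
  have hsurjpts : ∀ x : Points F, ∃ (u : ↥U.left) (y : ↥(M u).left), Points.ofPt (b u) y = x := by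
    intro x
    obtain ⟨u, rfl⟩ := exists_ofPt_eq p hSurj x
    let w : ↥(Over.mk ((W u).ι ≫ U.hom)).left := ⟨u, huW u⟩
    refine ⟨u, (q u).left w, ?_⟩
    rw [← SpUC.ofPt_comp_yon_map, (sq u).w, SpUC.ofPt_comp_yon_map]
    rfl
  obtain ⟨Gm, e, j, hj, hjopen, hjcov⟩ := exists_iso_yon_of_openCover b hbopen hsurjpts
  let m : U ⟶ Gm := (yon S).preimage (p ≫ e.inv)
  have hm : (yon S).map m = p ≫ e.inv := Functor.map_preimage _ _
  have hme : (yon S).map m ≫ e.hom = p := by rw [hm, Category.assoc, e.inv_hom_id, Category.comp_id]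
  -- the kernel pair
  have kpm : IsPullback ((yon S).map t) ((yon S).map s) ((yon S).map m) ((yon S).map m) := by
    refine IsPullback.of_iso kp (Iso.refl _) (Iso.refl _) (Iso.refl _) e.symm ?_ ?_ ?_ ?_
    · simp
    · simp
    · simp [hm]
    · simp [hm]
  have kpO : IsPullback t s m m := IsPullback.of_map_of_faithful (yon S) kpm
  -- the properties, checked on the cover
  have sqE : IsPullback (𝟙 ((yon S).obj U)) ((yon S).map m) p e.hom :=
    IsPullback.of_horiz_isIso ⟨by rw [Category.id_comp, hme]⟩
  have sqk : ∀ u, IsPullback ((yon S).map (iO u)) ((yon S).map (q u)) p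
      ((yon S).map (j u) ≫ e.hom) := by
    intro u
    rw [hj u]
    exact (sq u).flip
  have hP : ∀ (P : MorphismProperty Scheme.{u}) [IsZariskiLocalAtTarget P],
      (∀ u, P (q u).left) → P m.left := by
    intro P _ hPq
    exact FpqcDesc.prop_of_openCover_pieces P p e.hom m (𝟙 _) sqE M j hjopen hjcov
      (fun u => Over.mk ((W u).ι ≫ U.hom)) q (fun u => (yon S).map (iO u)) sqk hPq
  refine ⟨Gm, m, hP @IsFinite hqfin, hP @Flat hqflat, hP @LocallyOfFinitePresentation hqlfp,
    hP @Surjective hqsurj, kpO⟩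

end Groth.Agent.Lib.Helper3.GQ
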