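import Mathlib
import Groth.Agent.Lib.Helper3.GQOpenQuot
import Groth.Agent.Lib.Helper3.GQQuotGlue

set_option autoImplicit false
universe u

namespace Groth.Agent.Lib.Helper3.GQ

open CategoryTheory CategoryTheory.Limits AlgebraicGeometry Opposite AlgSp
open Groth.Agent.Lib.Helper3 Groth.Agent.Lib.Helper3.QuotRel

variable {S : Scheme.{u}}

section OpenQuot2

variable {R U : Over S} (s t : R ⟶ U)

/-- For a finite locally free equivalence relation on `U` with quotient sheaf map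
`p : h_U ⟶ F` (kernel pair `R`), an invariant open `W ⊆ U` covered by invariant affine opens
has a quotient scheme `M` which is an open subfunctor of `F`. -/
theorem exists_open_quotient_of_cover (h : IsEqvRel s t) [IsFinite s.left] [Flat s.left]
    [LocallyOfFinitePresentation s.left]
    {F : Sp S} (p : (yon S).obj U ⟶ F)
    (kp : IsPullback ((yon S).map t) ((yon S).map s) p p)
    (hp : Sheaf.IsLocallySurjective p)
    (W : U.left.Opens) (hinv : s.left ⁻¹ᵁ W = t.left ⁻¹ᵁ W)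
    (hcov : ∀ u ∈ W, ∃ W' : U.left.Opens, IsAffineOpen W' ∧ u ∈ W' ∧ W' ≤ W ∧
      s.left ⁻¹ᵁ W' = t.left ⁻¹ᵁ W') :
    ∃ (M : Over S) (q : Over.mk (W.ι ≫ U.hom) ⟶ M) (b : (yon S).obj M ⟶ F),
      IsFinite q.left ∧ Flat q.left ∧ LocallyOfFinitePresentation q.left ∧
      Surjective q.left ∧ RepWith @IsOpenImmersion b ∧
      IsPullback ((yon S).map q) ((yon S).map (Over.homMk W.ι rfl : Over.mk (W.ι ≫ U.hom) ⟶ U))
        b p := by
  let Zo : Over S := Over.mk (W.ι ≫ U.hom)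
  let iO : Zo ⟶ U := Over.homMk W.ι rfl
  let RW : R.left.Opens := s.left ⁻¹ᵁ W
  let Ro : Over S := Over.mk (RW.ι ≫ R.hom)
  let kO : Ro ⟶ R := Over.homMk RW.ι rfl
  have hrs : Set.range (RW.ι ≫ s.left) ⊆ Set.range W.ι := by
    rintro _ ⟨x, rfl⟩
    rw [Scheme.Opens.range_ι]
    exact x.2
  have hrt : Set.range (RW.ι ≫ t.left) ⊆ Set.range W.ι := by
    rintro _ ⟨x, rfl⟩
    rw [Scheme.Opens.range_ι]
    have hx0 : RW.ι x ∈ s.left ⁻¹ᵁ W := x.2
    have hx : RW.ι x ∈ t.left ⁻¹ᵁ W := hinv ▸ hx0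
    exact hx
  let s' : (RW : Scheme.{u}) ⟶ (W : Scheme.{u}) := IsOpenImmersion.lift W.ι (RW.ι ≫ s.left) hrs
  let t' : (RW : Scheme.{u}) ⟶ (W : Scheme.{u}) := IsOpenImmersion.lift W.ι (RW.ι ≫ t.left) hrt
  have hs'fac : s' ≫ W.ι = RW.ι ≫ s.left := IsOpenImmersion.lift_fac _ _ _
  have ht'fac : t' ≫ W.ι = RW.ι ≫ t.left := IsOpenImmersion.lift_fac _ _ _
  have pbs : IsPullback s' RW.ι W.ι s.left :=
    IsOpenImmersion.isPullback s' RW.ι W.ι s.left hs'fac.symm (by
      rw [Scheme.Opens.opensRange_ι, Scheme.Opens.opensRange_ι])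
  have pbt : IsPullback t' RW.ι W.ι t.left :=
    IsOpenImmersion.isPullback t' RW.ι W.ι t.left ht'fac.symm (by
      rw [Scheme.Opens.opensRange_ι, Scheme.Opens.opensRange_ι]
      exact hinv.symm)
  let s'O : Ro ⟶ Zo := Over.homMk s' (by
    show s' ≫ W.ι ≫ U.hom = RW.ι ≫ R.hom
    rw [← Category.assoc, hs'fac, Category.assoc, Over.w s])
  let t'O : Ro ⟶ Zo := Over.homMk t' (by
    show t' ≫ W.ι ≫ U.hom = RW.ι ≫ R.hom
    rw [← Category.assoc, ht'fac, Category.assoc, Over.w t])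
  have hs : IsPullback kO s'O s iO := by
    refine IsPullback.of_map (Over.forget S) ?_ pbs.flip
    ext
    exact hs'fac.symm
  have ht : IsPullback kO t'O t iO := by
    refine IsPullback.of_map (Over.forget S) ?_ pbt.flip
    ext
    exact ht'fac.symm
  haveI : Mono iO := by
    have : Mono ((Over.forget S).map iO) := inferInstanceAs (Mono W.ι)
    exact (Over.forget S).mono_of_mono_map this
  have hE' : IsEqvRel s'O t'O := isEqvRel_restrict s t iO kO s'O t'O h hs ht
  haveI : IsFinite s'O.left := MorphismProperty.of_isPullback (P := @IsFinite) pbs.flip inferInstance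
  haveI : Flat s'O.left := MorphismProperty.of_isPullback (P := @Flat) pbs.flip inferInstance
  haveI : LocallyOfFinitePresentation s'O.left :=
    MorphismProperty.of_isPullback (P := @LocallyOfFinitePresentation) pbs.flip inferInstance
  have hcov' : ∀ w : ↥Zo.left, ∃ W'' : Zo.left.Opens, IsAffineOpen W'' ∧ w ∈ W'' ∧
      s'O.left ⁻¹ᵁ W'' = t'O.left ⁻¹ᵁ W'' := by
    intro w
    obtain ⟨W', hW'aff, hwW', hW'W, hW'inv⟩ := hcov (W.ι w) w.2
    refine ⟨W.ι ⁻¹ᵁ W', hW'aff.preimage_of_isOpenImmersion W.ι ?_, hwW', ?_⟩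
    · rw [Scheme.Opens.opensRange_ι]
      exact hW'W
    · show s' ⁻¹ᵁ (W.ι ⁻¹ᵁ W') = t' ⁻¹ᵁ (W.ι ⁻¹ᵁ W')
      rw [← Scheme.Hom.comp_preimage, ← Scheme.Hom.comp_preimage, hs'fac, ht'fac,
        Scheme.Hom.comp_preimage, Scheme.Hom.comp_preimage, hW'inv]
  obtain ⟨M, q, hqfin, hqflat, hqlfp, hqsurj, hqpb⟩ :=
    exists_quotient_of_cover s'O t'O hE' hcov'
  have hq : Sheaf.IsLocallySurjective ((yon S).map q) :=
    QAffDesc.isLocallySurjective_yon_map_of_fppf q
  have kpq : IsPullback ((yon S).map t'O) ((yon S).map s'O) ((yon S).map q) ((yon S).map q) :=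
    hqpb.map (yon S)
  have hφ : (yon S).map t'O ≫ ((yon S).map iO ≫ p) = (yon S).map s'O ≫ ((yon S).map iO ≫ p) := by
    rw [← Category.assoc, ← Category.assoc, ← Functor.map_comp, ← Functor.map_comp, ← ht.w,
      ← hs.w, Functor.map_comp, Functor.map_comp, Category.assoc, Category.assoc, kp.w]
  obtain ⟨b, hb⟩ := exists_desc_of_kernelPair ((yon S).map q) hq _ _ kpq ((yon S).map iO ≫ p) hφ
  have sq : IsPullback ((yon S).map q) ((yon S).map iO) b p :=
    isPullback_of_invariant s t iO kO s'O t'O hs ht p kp ((yon S).map q) hq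
      (by rw [← Functor.map_comp, ← Functor.map_comp, hqpb.w]) b hb
  haveI : IsOpenImmersion iO.left := inferInstanceAs (IsOpenImmersion W.ι)
  have hbopen : RepWith @IsOpenImmersion b :=
    repWith_isOpenImmersion_of_chart b p hp iO ((yon S).map q) sq
  exact ⟨M, q, b, hqfin, hqflat, hqlfp, hqsurj, hbopen, sq⟩

end OpenQuot2

end Groth.Agent.Lib.Helper3.GQ
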