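import Mathlib

set_option autoImplicit false
universe u

namespace Groth.Agent.Lib.Helper3.MinPts

open AlgebraicGeometry CategoryTheory TopologicalSpace Opposite

/-- a section that is a non-unit at a point with zero-dimensional local ring vanishes
(up to a power) near that point, so its nonvanishing locus misses a neighbourhood. -/
theorem exists_open_disjoint_basicOpen {Y : Scheme.{u}} (x : Y)
    (hx : ringKrullDim (Y.presheaf.stalk x) = 0) {U : Y.Opens} (hxU : x ∈ U) (f : Γ(Y, U))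
    (hf : x ∉ Y.basicOpen f) :
    ∃ N : Y.Opens, x ∈ N ∧ N ⊓ Y.basicOpen f = ⊥ := by
  haveI : Ring.KrullDimLE 0 (Y.presheaf.stalk x) := by
    rw [Ring.krullDimLE_iff]
    exact hx.le
  have h1 : ¬ IsUnit (Y.presheaf.germ U x hxU f) := by
    rw [← Scheme.mem_basicOpen]
    exact hf
  have h2 : IsNilpotent (Y.presheaf.germ U x hxU f) :=
    Ring.KrullDimLE.isNilpotent_iff_mem_nonunits.2 h1
  obtain ⟨n, hn⟩ := h2
  have h3 : Y.presheaf.germ U x hxU (f ^ n) = Y.presheaf.germ U x hxU 0 := by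
    rw [map_pow, hn, map_zero]
  obtain ⟨W, hxW, iU, iV, hW⟩ := TopCat.Presheaf.germ_eq Y.presheaf x hxU hxU _ _ h3
  refine ⟨W, hxW, ?_⟩
  have h4 : Y.basicOpen (Y.presheaf.map iU.op (f ^ n)) = ⊥ := by
    have : Y.presheaf.map iU.op (f ^ n) = 0 := by
      rw [hW, map_zero]
    rw [this, Scheme.basicOpen_zero]
  have hn0 : 0 < n := by
    rcases Nat.eq_zero_or_pos n with rfl | h
    · rw [pow_zero] at hn
      exact absurd hn one_ne_zero
    · exact h
  rw [Scheme.basicOpen_res] at h4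
  have h5 : Y.basicOpen (f ^ n) = Y.basicOpen f := Scheme.basicOpen_pow Y f hn0
  rw [← h5]
  exact h4

/-- a point with zero-dimensional local ring can be separated from a quasi-compact open not
containing it (inside an affine open). -/
theorem exists_open_disjoint {Y : Scheme.{u}} (x : Y)
    (hx : ringKrullDim (Y.presheaf.stalk x) = 0) (W : Y.Opens) (hW : IsAffineOpen W) (hxW : x ∈ W)
    (K : Y.Opens) (hK : IsCompact ((K ⊓ W : Y.Opens) : Set Y)) (hxK : x ∉ K) :
    ∃ N : Y.Opens, x ∈ N ∧ N ≤ W ∧ N ⊓ K = ⊥ := by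
  have key : ∃ N : Y.Opens, x ∈ N ∧ (N : Set Y) ∩ ((K ⊓ W : Y.Opens) : Set Y) = ∅ := by
    refine hK.induction_on (p := fun A => ∃ N : Y.Opens, x ∈ N ∧ (N : Set Y) ∩ A = ∅)
      ⟨⊤, trivial, Set.inter_empty _⟩ ?_ ?_ ?_
    · rintro A B hAB ⟨N, hxN, hN⟩
      exact ⟨N, hxN, Set.subset_eq_empty (Set.inter_subset_inter_right _ hAB) hN⟩
    · rintro A B ⟨N, hxN, hN⟩ ⟨N', hxN', hN'⟩
      refine ⟨N ⊓ N', ⟨hxN, hxN'⟩, ?_⟩
      rw [Set.inter_union_distrib_left, Set.union_empty_iff]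
      constructor
      · exact Set.subset_eq_empty (Set.inter_subset_inter_left _ Set.inter_subset_left) hN
      · exact Set.subset_eq_empty (Set.inter_subset_inter_left _ Set.inter_subset_right) hN'
    · intro k hk
      obtain ⟨f, hf1, hf2⟩ := hW.exists_basicOpen_le (V := K ⊓ W) ⟨k, hk⟩ hk.2
      have hxf : x ∉ Y.basicOpen f := fun h => hxK (hf1 h).1
      obtain ⟨N, hxN, hN⟩ := exists_open_disjoint_basicOpen x hx hxW f hxf
      refine ⟨(Y.basicOpen f : Set Y), ?_, N, hxN, ?_⟩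
      · exact mem_nhdsWithin_of_mem_nhds ((Y.basicOpen f).2.mem_nhds hf2)
      · have := congrArg (fun O : Y.Opens => (O : Set Y)) hN
        simpa using this
  obtain ⟨N, hxN, hN⟩ := key
  refine ⟨N ⊓ W, ⟨hxN, hxW⟩, inf_le_right, ?_⟩
  ext y
  simp only [Opens.coe_inf, Set.mem_inter_iff, SetLike.mem_coe, Opens.coe_bot, Set.mem_empty_iff_false,
    iff_false, not_and]
  rintro ⟨hyN, hyW⟩ hyK
  have : y ∈ (N : Set Y) ∩ ((K ⊓ W : Y.Opens) : Set Y) := ⟨hyN, hyK, hyW⟩
  rw [hN] at this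
  exact this

/-- **Finitely many points with zero-dimensional local rings of a quasi-separated scheme lie in
a common affine open.** -/
theorem exists_isAffineOpen_of_finite {Y : Scheme.{u}} [QuasiSeparatedSpace Y] (E : Set Y)
    (hE : E.Finite) (hdim : ∀ e ∈ E, ringKrullDim (Y.presheaf.stalk e) = 0) :
    ∃ V : Y.Opens, IsAffineOpen V ∧ E ⊆ V := by
  induction E, hE using Set.Finite.induction_on with
  | empty => exact ⟨⊥, isAffineOpen_bot Y, Set.empty_subset _⟩
  | @insert x E hxE hEfin ih =>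
    obtain ⟨V, hV, hEV⟩ := ih (fun e he => hdim e (Set.mem_insert_of_mem _ he))
    by_cases hxV : x ∈ V
    · exact ⟨V, hV, Set.insert_subset hxV hEV⟩
    · obtain ⟨W, hW, hxW, -⟩ := exists_isAffineOpen_mem_and_subset (x := x) (U := ⊤) trivial
      have hK : IsCompact ((V ⊓ W : Y.Opens) : Set Y) :=
        QuasiSeparatedSpace.inter_isCompact _ _ V.2 hV.isCompact W.2 hW.isCompact
      obtain ⟨N, hxN, hNW, hNV⟩ :=
        exists_open_disjoint x (hdim x (Set.mem_insert _ _)) W hW hxW V hK hxV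
      obtain ⟨W', hW', hxW', hW'N⟩ := exists_isAffineOpen_mem_and_subset (x := x) (U := N) hxN
      have hdisj : Disjoint V W' := by
        rw [disjoint_iff, eq_bot_iff, ← hNV]
        exact le_inf (inf_le_right.trans hW'N) inf_le_left
      refine ⟨V ⊔ W', hV.sup_of_disjoint hW' hdisj, Set.insert_subset (Or.inr hxW') ?_⟩
      exact hEV.trans (fun y hy => Or.inl hy)

/-- every nonempty open subset of a scheme contains a point with zero-dimensional local ring. -/
theorem exists_mem_ringKrullDim_stalk_eq_zero {Y : Scheme.{u}} (O : Y.Opens)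
    (hO : (O : Set Y).Nonempty) : ∃ y ∈ O, ringKrullDim (Y.presheaf.stalk y) = 0 := by
  obtain ⟨y₀, hy₀⟩ := hO
  obtain ⟨W, hW, hyW, hWO⟩ := exists_isAffineOpen_mem_and_subset (x := y₀) (U := O) hy₀
  let p₀ := hW.primeIdealOf ⟨y₀, hyW⟩
  obtain ⟨p, hpmin, -⟩ := Ideal.exists_minimalPrimes_le (I := ⊥) (J := p₀.asIdeal) bot_le
  haveI : p.IsPrime := hpmin.1.1
  let y : PrimeSpectrum Γ(Y, W) := ⟨p, inferInstance⟩
  have hyW' : hW.fromSpec y ∈ W := by
    rw [← SetLike.mem_coe, ← hW.range_fromSpec]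
    exact ⟨y, rfl⟩
  refine ⟨hW.fromSpec y, hWO hyW', ?_⟩
  have h1 := @IsLocalization.AtPrime.ringKrullDim_eq_height _ _ y.asIdeal _
    (Y.presheaf.stalk (hW.fromSpec y)) _
    (TopCat.Presheaf.algebra_section_stalk Y.presheaf ⟨hW.fromSpec y, hyW'⟩)
    (hW.isLocalization_stalk' y hyW')
  have h2 : y.asIdeal.height = 0 := Ideal.height_eq_zero_iff.2 hpmin
  rw [h1, h2]
  rfl

end Groth.Agent.Lib.Helper3.MinPts
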