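import Mathlib
import Groth.Agent.Lib.Helper3.GQOpenQuot2
import Groth.Agent.Lib.Helper3.MinPts
import Groth.Agent.Lib.Helper3.AlgSpEtaleDim
import Groth.Agent.Lib.Helper3.AlgSpHasAtMor
import Groth.Agent.Lib.Helper3.SpUC
import Groth.Agent.Lib.Helper4.GrpdAffOpen
import Groth.Agent.S9885

set_option autoImplicit false
universe u

namespace Groth.Agent.Lib.Helper3.OpenSch

open CategoryTheory CategoryTheory.Limits AlgebraicGeometry Opposite AlgSp
open Groth.Agent.Lib.Helper3 Groth.Agent.Lib.Helper3.GQ Groth.Agent.Lib.Helper4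

variable {S : Scheme.{u}}

/-- the kernel pair of a map from a representable sheaf is an equivalence relation. -/
theorem isEqvRel_of_isPullback {F : Sp S} {R U : Over S} (s t : R ⟶ U)
    (a : (yon S).obj U ⟶ F)
    (sq : IsPullback ((yon S).map t) ((yon S).map s) a a) : IsEqvRel s t := by
  have key : ∀ (T : Over S) (x y : T ⟶ U),
      (∃ r : T ⟶ R, r ≫ t = x ∧ r ≫ s = y) ↔ (yon S).map x ≫ a = (yon S).map y ≫ a := by
    intro T x y
    constructor
    · rintro ⟨r, rfl, rfl⟩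
      rw [Functor.map_comp, Functor.map_comp, Category.assoc, Category.assoc, sq.w]
    · intro h
      obtain ⟨r, hr⟩ := (yon S).map_surjective (sq.lift _ _ h)
      refine ⟨r, (yon S).map_injective ?_, (yon S).map_injective ?_⟩
      · rw [Functor.map_comp, hr, sq.lift_fst]
      · rw [Functor.map_comp, hr, sq.lift_snd]
  refine ⟨fun T r r' h1 h2 => ?_, fun T => ⟨fun x => ?_, fun {x y} h => ?_, fun {x y z} h1 h2 => ?_⟩⟩
  · apply (yon S).map_injective
    apply sq.hom_ext
    · rw [← Functor.map_comp, ← Functor.map_comp, h1]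
    · rw [← Functor.map_comp, ← Functor.map_comp, h2]
  · exact (key T x x).2 rfl
  · exact (key T y x).2 ((key T x y).1 h).symm
  · exact (key T x z).2 (((key T x y).1 h1).trans ((key T y z).1 h2))

/-- the fibres of `|U| → |X|` for a representable finite map are finite. -/
theorem finite_setOf_ofPt_eq {X : Sp S} {U : Over S} (a : (yon S).obj U ⟶ X)
    (hf : RepWith @IsFinite a) (u : ↥U.left) :
    {u' : ↥U.left | Points.ofPt a u' = Points.ofPt a u}.Finite := by
  obtain ⟨R, t, s, kp⟩ := exists_pullback_charts a hf.1 a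
  haveI : IsFinite s.left := hf.2 a ((yon S).map t) s kp
  have hfin : (s.left ⁻¹' {u}).Finite := Scheme.Hom.finite_preimage_singleton s.left u
  refine (hfin.image t.left).subset ?_
  intro u' hu'
  obtain ⟨w, hw1, hw2⟩ := exists_of_ofPt_eq_of_isPullback kp u' u hu'
  exact ⟨w, hw2, hw1⟩

/-- **Core.** A representable finite locally free surjective map `h_U ⟶ X` from a scheme yields
an open subfunctor of `X` which is a scheme and contains the image of every point of `U` whose
fibre lies in an affine open. -/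
theorem exists_open_subscheme {X : Sp S} {U : Over S} (a : (yon S).obj U ⟶ X)
    (hf : RepWith @IsFinite a) (hfl : RepWith @Flat a)
    (hlfp : RepWith @LocallyOfFinitePresentation a) (hs : RepWith @Surjective a) :
    ∃ (M : Over S) (b : (yon S).obj M ⟶ X), RepWith @IsOpenImmersion b ∧
      ∀ u : ↥U.left, (∃ V : U.left.Opens, IsAffineOpen V ∧
        ∀ u' : ↥U.left, Points.ofPt a u' = Points.ofPt a u → u' ∈ V) →
        Points.ofPt a u ∈ Set.range (Points.ofPt b) := by
  obtain ⟨R, t, s, kp⟩ := exists_pullback_charts a hf.1 a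
  have h : IsEqvRel s t := isEqvRel_of_isPullback s t a kp
  haveI : IsFinite s.left := hf.2 a ((yon S).map t) s kp
  haveI : Flat s.left := hfl.2 a ((yon S).map t) s kp
  haveI : LocallyOfFinitePresentation s.left := hlfp.2 a ((yon S).map t) s kp
  have hp : Sheaf.IsLocallySurjective a := Groth.Agent.S9885.result S _ _ a hfl hlfp hs
  let 𝒲 : Set U.left.Opens := {W | IsAffineOpen W ∧ s.left ⁻¹ᵁ W = t.left ⁻¹ᵁ W}
  let Ω : U.left.Opens := sSup 𝒲
  have hinv : s.left ⁻¹ᵁ Ω = t.left ⁻¹ᵁ Ω := by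
    ext x
    show s.left x ∈ Ω ↔ t.left x ∈ Ω
    simp only [Ω, TopologicalSpace.Opens.mem_sSup]
    constructor
    · rintro ⟨W, hW, hx⟩
      have : x ∈ s.left ⁻¹ᵁ W := hx
      rw [hW.2] at this
      exact ⟨W, hW, this⟩
    · rintro ⟨W, hW, hx⟩
      have : x ∈ t.left ⁻¹ᵁ W := hx
      rw [← hW.2] at this
      exact ⟨W, hW, this⟩
  have hcov : ∀ u ∈ Ω, ∃ W' : U.left.Opens, IsAffineOpen W' ∧ u ∈ W' ∧ W' ≤ Ω ∧
      s.left ⁻¹ᵁ W' = t.left ⁻¹ᵁ W' := by
    intro u hu
    obtain ⟨W, hW, huW⟩ := TopologicalSpace.Opens.mem_sSup.1 hu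
    exact ⟨W, hW.1, huW, le_sSup hW, hW.2⟩
  obtain ⟨M, q, b, -, -, -, -, hbopen, sq⟩ :=
    exists_open_quotient_of_cover s t h a kp hp Ω hinv hcov
  refine ⟨M, b, hbopen, ?_⟩
  rintro u ⟨V, hV, hfib⟩
  let 𝒢 := ofEqvRel s t h
  haveI : IsFinite 𝒢.s := ‹IsFinite s.left›
  haveI : Flat 𝒢.s := ‹Flat s.left›
  haveI : LocallyOfFinitePresentation 𝒢.s := ‹LocallyOfFinitePresentation s.left›
  have hst : ∀ r : ↥R.left, Points.ofPt a (t.left r) = Points.ofPt a (s.left r) := by
    intro r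
    rw [← SpUC.ofPt_comp_yon_map, ← SpUC.ofPt_comp_yon_map, kp.w]
  obtain ⟨W, hWaff, huW, hWinv⟩ := GrpdAffOpen.main S 𝒢 u V hV (fun r hr => by
    apply hfib
    have hr' : s.left r = u := hr
    show Points.ofPt a (t.left r) = _
    rw [hst, hr'])
  have huΩ : u ∈ Ω := TopologicalSpace.Opens.mem_sSup.2 ⟨W, ⟨hWaff, hWinv⟩, huW⟩
  let iO : Over.mk (Ω.ι ≫ U.hom) ⟶ U := Over.homMk Ω.ι rfl
  refine ⟨q.left ⟨u, huΩ⟩, ?_⟩
  rw [← SpUC.ofPt_comp_yon_map, sq.w, SpUC.ofPt_comp_yon_map]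
  rfl

theorem etale_le_flat : (@Etale : MorphismProperty Scheme.{u}) ≤ @Flat := fun _ _ f hf => by
  haveI : Etale f := hf
  infer_instance

theorem etale_le_lfp : (@Etale : MorphismProperty Scheme.{u}) ≤ @LocallyOfFinitePresentation :=
  fun _ _ f hf => by
    haveI : Etale f := hf
    infer_instance

theorem repWith_mono' {P Q : MorphismProperty Scheme.{u}} (hPQ : P ≤ Q) {F G : Sp S} {f : F ⟶ G}
    (hf : RepWith P f) : RepWith Q f := by
  refine MorphismProperty.relative_monotone ?_ _ hf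
  intro A B g hg
  exact hPQ _ hg

theorem main10204 (X : AlgSp.Space S) {U : Over S}
    (a : (AlgSp.yon S).obj U ⟶ X.obj) (hf : AlgSp.RepWith @IsFinite a)
    (he : AlgSp.RepWith @Etale a)
    (hs : AlgSp.RepWith @Surjective a) [QuasiSeparatedSpace ↥U.left] :
    ∃ (X' : AlgSp.Space S) (j : X' ⟶ X), AlgSp.RepWith @IsOpenImmersion j.hom ∧
      X'.obj.obj.IsRepresentable ∧
      Dense (Set.range (AlgSp.Points.map j.hom)) ∧
      ∀ x : AlgSp.Points X.obj,
        AlgSp.HasAt (fun U u => ringKrullDim ↥(U.presheaf.stalk u) = 0) X.obj x →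
        x ∈ Set.range (AlgSp.Points.map j.hom) := by
  obtain ⟨M, b, hbopen, hb⟩ := exists_open_subscheme a hf (repWith_mono' etale_le_flat he)
    (repWith_mono' etale_le_lfp he) hs
  have key : ∀ u : ↥U.left, ringKrullDim (U.left.presheaf.stalk u) = 0 →
      Points.ofPt a u ∈ Set.range (Points.map b) := by
    intro u hu
    rw [range_map_eq_range_ofPt]
    apply hb u
    obtain ⟨V, hV, hEV⟩ := MinPts.exists_isAffineOpen_of_finite
      {u' : ↥U.left | Points.ofPt a u' = Points.ofPt a u} (finite_setOf_ofPt_eq a hf u)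
      (fun e he' => by
        rw [ringKrullDim_stalk_eq_of_ofPt_eq a a he he e u he']
        exact hu)
    exact ⟨V, hV, fun u' hu' => hEV hu'⟩
  refine ⟨⟨(yon S).obj M, IsAlgSpace.yon_obj M⟩, ObjectProperty.homMk b, hbopen,
    (representableByOfIso (Iso.refl _)).isRepresentable, ?_, ?_⟩
  · rw [dense_iff_inter_open]
    rintro O hO ⟨x, hx⟩
    obtain ⟨u₀, rfl⟩ := exists_ofPt_eq a hs x
    let O' : U.left.Opens := ⟨Points.ofPt a ⁻¹' O, (Points.continuous_ofPt a).isOpen_preimage O hO⟩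
    obtain ⟨y, hyO, hy⟩ := MinPts.exists_mem_ringKrullDim_stalk_eq_zero O' ⟨u₀, hx⟩
    exact ⟨Points.ofPt a y, hyO, key y hy⟩
  · rintro x ⟨U', a', u', ha', rfl, hdim⟩
    obtain ⟨u, hu⟩ := exists_ofPt_eq a hs (Points.ofPt a' u')
    rw [← hu]
    apply key
    rw [ringKrullDim_stalk_eq_of_ofPt_eq a a' he ha' u u' hu]
    exact hdim

end Groth.Agent.Lib.Helper3.OpenSch
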