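import Mathlib
import Groth.Agent.Lib.Helper3.OpenSch
import Groth.Agent.Lib.Helper3.AlgSpImmersionPts
import Groth.Agent.Lib.Helper3.AlgSpLargestOpen
import Groth.Prelude.Def_AlgSpMor5

set_option autoImplicit false
universe u

namespace Groth.Agent.Lib.Helper3.SchemLocus

open CategoryTheory CategoryTheory.Limits AlgebraicGeometry Opposite AlgSp
open Groth.Agent.Lib.Helper3 Groth.Agent.Lib.Helper3.GQ Groth.Agent.Lib.Helper4
open Groth.Agent.Lib.Helper3.OpenSch

variable {S : Scheme.{u}}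

theorem finLocFree_le_finite : (finLocFree : MorphismProperty Scheme.{u}) ≤ @IsFinite :=
  fun _ _ _ hg => hg.1

theorem finLocFree_le_flat : (finLocFree : MorphismProperty Scheme.{u}) ≤ @Flat :=
  fun _ _ _ hg => hg.2.1

theorem finLocFree_le_lfp :
    (finLocFree : MorphismProperty Scheme.{u}) ≤ @LocallyOfFinitePresentation :=
  fun _ _ _ hg => hg.2.2

theorem finite_le_universallyClosed :
    (@IsFinite : MorphismProperty Scheme.{u}) ≤ @UniversallyClosed := fun _ _ g hg => by
  haveI : IsFinite g := hg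
  infer_instance

/-- (⇐) of the schematic locus criterion. -/
theorem exists_open_subscheme_of_affine_fibre {X Y : Sp S} (f : X ⟶ Y)
    (hf : RepWith finLocFree f) (hs : RepWith @Surjective f) (y : Points Y)
    {U : Over S} (a : (yon S).obj U ⟶ X) [IsAffine U.left] (ha : RepWith @IsOpenImmersion a)
    (hfib : Points.map f ⁻¹' {y} ⊆ Set.range (Points.ofPt a)) :
    ∃ (M : Over S) (b : (yon S).obj M ⟶ Y), RepWith @IsOpenImmersion b ∧
      y ∈ Set.range (Points.ofPt b) := by
  have hfin : RepWith @IsFinite f := repWith_mono' finLocFree_le_finite hf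
  have hflat : RepWith @Flat f := repWith_mono' finLocFree_le_flat hf
  have hlfp : RepWith @LocallyOfFinitePresentation f := repWith_mono' finLocFree_le_lfp hf
  have huc : RepWith @UniversallyClosed f := repWith_mono' finite_le_universallyClosed hfin
  have hclosed := isClosedMap_map_of_repWith huc
  have haet : RepWith @Etale a := repWith_mono' isOpenImmersion_le_etale ha
  have hopen : IsOpen (Set.range (Points.ofPt a)) := (SpUC.isOpenMap_ofPt a haet).isOpen_range
  let Z : Set (Points X) := (Set.range (Points.ofPt a))ᶜ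
  let W : Set (Points Y) := (Points.map f '' Z)ᶜ
  have hW : IsOpen W := (hclosed _ hopen.isClosed_compl).isOpen_compl
  have hyW : y ∈ W := by
    rintro ⟨z, hz, rfl⟩
    exact hz (hfib rfl)
  obtain ⟨V, a₁, snd, sq, hsnd, hrange⟩ := exists_isPullback_openSubι Y W hW (a ≫ f)
  let j₁ := openSubι Y W
  -- the base change square
  have sq' : IsPullback a₁ ((yon S).map snd ≫ a) j₁ f := by
    let φ : (yon S).obj V ⟶ pullback j₁ f :=
      pullback.lift a₁ ((yon S).map snd ≫ a) (by rw [sq.w, Category.assoc])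
    have hφ1 : φ ≫ pullback.fst j₁ f = a₁ := pullback.lift_fst _ _ _
    have hφ2 : φ ≫ pullback.snd j₁ f = (yon S).map snd ≫ a := pullback.lift_snd _ _ _
    have top : IsPullback φ ((yon S).map snd) (pullback.snd j₁ f) a := by
      refine IsPullback.of_right ?_ hφ2 (IsPullback.of_hasPullback j₁ f)
      rw [hφ1]
      exact sq
    have hφopen : RepWith @IsOpenImmersion φ := MorphismProperty.of_isPullback top.flip ha
    have hφsurj : IsSurjectiveMor φ := by
      intro z
      have hx : Points.map (pullback.snd j₁ f) z ∈ Set.range (Points.ofPt a) := by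
        by_contra hn
        have h1 : Points.map f (Points.map (pullback.snd j₁ f) z) ∈ W := by
          rw [← Points.map_comp, ← pullback.condition, Points.map_comp]
          have h2 : Points.map j₁ (Points.map (pullback.fst j₁ f) z) ∈
              Set.range (Points.map (openSubι Y W)) := ⟨_, rfl⟩
          rw [range_map_openSubι] at h2
          exact h2
        exact h1 ⟨_, hn, rfl⟩
      obtain ⟨u, hu⟩ := hx
      obtain ⟨v, hv, -⟩ := Points.exists_of_isPullback top z (Points.ofScheme U u) (by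
        rw [← hu, Points.ofPt_eq_map_ofScheme])
      exact ⟨v, hv⟩
    haveI : IsIso φ := isIso_of_repWith_isOpenImmersion_of_isSurjectiveMor φ hφopen hφsurj
    have left : IsPullback φ ((yon S).map snd ≫ a) (pullback.snd j₁ f) (𝟙 X) :=
      IsPullback.of_horiz_isIso ⟨by rw [hφ2, Category.comp_id]⟩
    have := left.paste_horiz (IsPullback.of_hasPullback j₁ f)
    rw [hφ1, Category.id_comp] at this
    exact this
  have hfin₁ : RepWith @IsFinite a₁ := MorphismProperty.of_isPullback sq'.flip hfin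
  have hflat₁ : RepWith @Flat a₁ := MorphismProperty.of_isPullback sq'.flip hflat
  have hlfp₁ : RepWith @LocallyOfFinitePresentation a₁ :=
    MorphismProperty.of_isPullback sq'.flip hlfp
  have hs₁ : RepWith @Surjective a₁ := MorphismProperty.of_isPullback sq'.flip hs
  obtain ⟨M, b₁, hb₁, hb₁'⟩ := exists_open_subscheme a₁ hfin₁ hflat₁ hlfp₁ hs₁
  obtain ⟨y₁, hy₁⟩ : y ∈ Set.range (Points.map j₁) := by
    rw [range_map_openSubι]
    exact hyW
  obtain ⟨v, hv⟩ := exists_ofPt_eq a₁ hs₁ y₁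
  haveI : IsOpenImmersion snd.left := hsnd
  have hmem : Points.ofPt a₁ v ∈ Set.range (Points.ofPt b₁) := by
    apply hb₁'
    let E : Set ↥V.left := {v' | Points.ofPt a₁ v' = Points.ofPt a₁ v}
    have hE : E.Finite := finite_setOf_ofPt_eq a₁ hfin₁ v
    obtain ⟨g, hg1, hg2⟩ := GrpdAffOpen.exists_basicOpen_of_finite (Y := U.left)
      (snd.left '' E) (hE.image _) snd.left.opensRange (by rintro _ ⟨x, -, rfl⟩; exact ⟨x, rfl⟩)
    refine ⟨snd.left ⁻¹ᵁ U.left.basicOpen g,
      ((isAffineOpen_top U.left).basicOpen g).preimage_of_isOpenImmersion snd.left hg2, ?_⟩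
    intro v' hv'
    exact hg1 ⟨v', hv', rfl⟩
  obtain ⟨m, hm⟩ := hmem
  refine ⟨M, b₁ ≫ j₁, ?_, m, ?_⟩
  · exact MorphismProperty.comp_mem _ _ _ hb₁ (repWith_isOpenImmersion_openSubι Y W hW)
  · rw [← Points.map_ofPt, hm, hv, hy₁]

/-- (⇒) of the schematic locus criterion. -/
theorem exists_affine_of_mem_open_subscheme {X Y : Sp S} (f : X ⟶ Y)
    (hf : RepWith finLocFree f) (y : Points Y)
    {N : Over S} (b : (yon S).obj N ⟶ Y) (hb : RepWith @IsOpenImmersion b)
    (hy : y ∈ Set.range (Points.ofPt b)) :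
    ∃ (U : Over S) (a : (yon S).obj U ⟶ X), IsAffine U.left ∧ RepWith @IsOpenImmersion a ∧
      Points.map f ⁻¹' {y} ⊆ Set.range (Points.ofPt a) := by
  obtain ⟨n, rfl⟩ := hy
  obtain ⟨N₀, hN₀, hnN₀, -⟩ := exists_isAffineOpen_mem_and_subset (x := n) (U := ⊤) trivial
  let i₀ : Over.mk (N₀.ι ≫ N.hom) ⟶ N := Over.homMk N₀.ι rfl
  let b₀ : (yon S).obj (Over.mk (N₀.ι ≫ N.hom)) ⟶ Y := (yon S).map i₀ ≫ b
  have hi₀ : RepWith @IsOpenImmersion ((yon S).map i₀) :=
    (repWith_yon_map_iff _ _).2 (inferInstanceAs (IsOpenImmersion N₀.ι))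
  have hb₀ : RepWith @IsOpenImmersion b₀ := MorphismProperty.comp_mem _ _ _ hi₀ hb
  obtain ⟨U, g, a, sq⟩ := hf.1 b₀
  have hg : finLocFree g.left := hf.2 b₀ a g sq
  haveI : IsFinite g.left := hg.1
  haveI : IsAffine (Over.mk (N₀.ι ≫ N.hom)).left := hN₀
  have hU : IsAffine U.left := isAffine_of_isAffineHom g.left
  refine ⟨U, a, hU, MorphismProperty.of_isPullback sq.flip hb₀, ?_⟩
  intro x hx
  have hx' : Points.map f x = Points.ofPt b₀ ⟨n, hnN₀⟩ := by
    rw [SpUC.ofPt_comp_yon_map]
    exact hx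
  obtain ⟨v, hv, -⟩ := exists_of_isPullback_chart sq x ⟨n, hnN₀⟩ hx'
  exact ⟨v, hv⟩

theorem main10411 {X Y : AlgSp.Space S} (f : X ⟶ Y)
    (hf : AlgSp.IsFinLocFreeMor f.hom) (hs : AlgSp.RepWith @Surjective f.hom)
    (y : AlgSp.Points Y.obj) :
    (∃ (Y' : AlgSp.Space S) (j : Y' ⟶ Y), AlgSp.RepWith @IsOpenImmersion j.hom ∧
        Y'.obj.obj.IsRepresentable ∧ y ∈ Set.range (AlgSp.Points.map j.hom)) ↔
      ∃ (U : Over S) (a : (AlgSp.yon S).obj U ⟶ X.obj), IsAffine U.left ∧
        AlgSp.RepWith @IsOpenImmersion a ∧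
        AlgSp.Points.map f.hom ⁻¹' {y} ⊆ Set.range (AlgSp.Points.ofPt a) := by
  constructor
  · rintro ⟨Y', j, hj, hrep, hy⟩
    obtain ⟨N, ⟨r⟩⟩ := hrep.has_representation
    let e := isoOfRepresentableBy r
    have hb : RepWith @IsOpenImmersion (e.hom ≫ j.hom) :=
      (MorphismProperty.cancel_left_of_respectsIso _ e.hom j.hom).2 hj
    refine exists_affine_of_mem_open_subscheme f.hom hf y (e.hom ≫ j.hom) hb ?_
    rw [← range_map_eq_range_ofPt]
    obtain ⟨y', rfl⟩ := hy
    refine ⟨Points.map e.inv y', ?_⟩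
    rw [Points.map_comp, ← Points.map_comp e.inv, e.inv_hom_id, Points.map_id]
  · rintro ⟨U, a, hU, ha, hfib⟩
    haveI := hU
    obtain ⟨M, b, hb, hy⟩ := exists_open_subscheme_of_affine_fibre f.hom hf hs y a ha hfib
    refine ⟨⟨(yon S).obj M, IsAlgSpace.yon_obj M⟩, ObjectProperty.homMk b, hb,
      (representableByOfIso (Iso.refl _)).isRepresentable, ?_⟩
    rw [range_map_eq_range_ofPt]
    exact hy

end Groth.Agent.Lib.Helper3.SchemLocus
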