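import Mathlib
import Groth.Agent.Lib.Helper3.SchemLocus
import Groth.Agent.Lib.Helper3.QFAff

set_option autoImplicit false
universe u

namespace Groth.Agent.Lib.Helper3.Rep0418

open CategoryTheory CategoryTheory.Limits AlgebraicGeometry Opposite AlgSp
open Groth.Agent.Lib.Helper3

variable {S : Scheme.{u}}

/-- The point `x` of the sheaf `X` lies in the schematic locus. -/
def SchPt (X : Sp S) (x : Points X) : Prop :=
  ∃ (M : Over S) (b : (yon S).obj M ⟶ X), RepWith @IsOpenImmersion b ∧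
    x ∈ Set.range (Points.ofPt b)

theorem SchPt.map {X' X : Sp S} (j : X' ⟶ X) (hj : RepWith @IsOpenImmersion j) {x' : Points X'}
    (h : SchPt X' x') : SchPt X (Points.map j x') := by
  obtain ⟨M, b, hb, m, rfl⟩ := h
  exact ⟨M, b ≫ j, MorphismProperty.comp_mem _ _ _ hb hj, m, rfl⟩

theorem ofPt_eq_mk {F : Sp S} {N : Over S} (g : (yon S).obj N ⟶ F) (n : ↥N.left) :
    Points.ofPt g n = Points.mk (fieldPtOfHom (N.left.residueField n)
      (N.left.fromSpecResidueField n ≫ N.hom)
      ((yon S).map (Over.homMk (N.left.fromSpecResidueField n) rfl :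
        Over.mk (N.left.fromSpecResidueField n ≫ N.hom) ⟶ N) ≫ g)) := by
  rfl

theorem ofPt_closedPoint {F : Sp S} {N : Over S} (g : (yon S).obj N ⟶ F) {Ω : Type u} [Field Ω]
    {w : Spec (.of Ω) ⟶ S} (m : Over.mk w ⟶ N) :
    Points.ofPt g (m.left (IsLocalRing.closedPoint Ω)) =
      Points.mk (fieldPtOfHom Ω w ((yon S).map m ≫ g)) := by
  rw [Points.ofPt_eq_map_ofScheme, Points.ofScheme_apply_eq_mk N m.left (Over.w m), Points.map_mk]
  rfl

end Groth.Agent.Lib.Helper3.Rep0418
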