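import Mathlib

set_option autoImplicit false
universe u

namespace Groth.Agent.Lib.Helper3.Rep0418Alg

open Polynomial

variable {A : Type u} [CommRing A] (P : A[X])

/-- The quotient `P / (X - root)` over `AdjoinRoot P`. -/
noncomputable def quo : (AdjoinRoot P)[X] :=
  (P.map (AdjoinRoot.of P)) /ₘ (X - C (AdjoinRoot.root P))

theorem mul_quo : (X - C (AdjoinRoot.root P)) * quo P = P.map (AdjoinRoot.of P) :=
  mul_divByMonic_eq_iff_isRoot.2 (by
    rw [IsRoot, eval_map, AdjoinRoot.eval₂_root])

theorem natDegree_quo_le : (quo P).natDegree ≤ P.natDegree - 1 := by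
  rcases subsingleton_or_nontrivial (AdjoinRoot P) with hA | hA
  · rw [Subsingleton.elim (quo P) 0, natDegree_zero]
    exact Nat.zero_le _
  · rw [quo, natDegree_divByMonic _ (monic_X_sub_C _), natDegree_X_sub_C]
    exact Nat.sub_le_sub_right natDegree_map_le 1

theorem monic_quo (hP : P.Monic) : (quo P).Monic :=
  Monic.of_mul_monic_left (monic_X_sub_C (AdjoinRoot.root P)) (by
    rw [mul_quo]
    exact hP.map _)

/-- The second map `AdjoinRoot P → AdjoinRoot (quo P)`, sending the root to the new root. -/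
noncomputable def phi : AdjoinRoot P →+* AdjoinRoot (quo P) :=
  AdjoinRoot.lift ((AdjoinRoot.of (quo P)).comp (AdjoinRoot.of P)) (AdjoinRoot.root (quo P)) (by
    have h := congrArg (eval₂ (AdjoinRoot.of (quo P)) (AdjoinRoot.root (quo P))) (mul_quo P)
    rw [eval₂_mul, AdjoinRoot.eval₂_root, mul_zero, eval₂_map] at h
    exact h.symm)

theorem phi_comp_of :
    (phi P).comp (AdjoinRoot.of P) = (AdjoinRoot.of (quo P)).comp (AdjoinRoot.of P) := by
  ext a
  simp [phi]

theorem phi_root : phi P (AdjoinRoot.root P) = AdjoinRoot.root (quo P) := by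
  simp [phi]

theorem exists_lift {Ω : Type*} [Field Ω] (a₀ a₁ : AdjoinRoot P →+* Ω)
    (h : a₀.comp (AdjoinRoot.of P) = a₁.comp (AdjoinRoot.of P)) (hne : a₀ ≠ a₁) :
    ∃ b : AdjoinRoot (quo P) →+* Ω, b.comp (AdjoinRoot.of (quo P)) = a₀ ∧ b.comp (phi P) = a₁ := by
  have hroot : a₀ (AdjoinRoot.root P) ≠ a₁ (AdjoinRoot.root P) := by
    intro hr
    apply hne
    apply AdjoinRoot.ringHom_ext
    · exact h
    · exact hr
  have h0 : eval₂ a₀ (a₁ (AdjoinRoot.root P)) (quo P) = 0 := by
    have h1 := congrArg (eval₂ a₀ (a₁ (AdjoinRoot.root P))) (mul_quo P)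
    rw [eval₂_mul, eval₂_map, h, eval₂_sub, eval₂_X, eval₂_C] at h1
    have h2 : eval₂ (a₁.comp (AdjoinRoot.of P)) (a₁ (AdjoinRoot.root P)) P = 0 := by
      rw [← hom_eval₂, AdjoinRoot.eval₂_root, map_zero]
    rw [h2] at h1
    rcases mul_eq_zero.1 h1 with h3 | h3
    · exact absurd (sub_eq_zero.1 h3).symm hroot
    · exact h3
  refine ⟨AdjoinRoot.lift a₀ (a₁ (AdjoinRoot.root P)) h0, ?_, ?_⟩
  · exact RingHom.ext fun x => by simp
  · apply AdjoinRoot.ringHom_ext
    · ext a
      simp only [RingHom.comp_apply]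
      rw [show (phi P) (AdjoinRoot.of P a) = AdjoinRoot.of (quo P) (AdjoinRoot.of P a) from
        RingHom.congr_fun (phi_comp_of P) a, AdjoinRoot.lift_of]
      exact RingHom.congr_fun h a
    · simp only [RingHom.comp_apply]
      rw [phi_root, AdjoinRoot.lift_root]

/-- If `AdjoinRoot P` is nontrivial and `P` is monic then `P` has positive degree. -/
theorem one_le_natDegree (hP : P.Monic) [Nontrivial (AdjoinRoot P)] : 1 ≤ P.natDegree := by
  by_contra hlt
  have h0 : P.natDegree = 0 := by omega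
  have h1 : P = 1 := by
    rw [eq_C_of_natDegree_eq_zero h0]
    have : P.coeff 0 = 1 := by
      have := hP.coeff_natDegree
      rwa [h0] at this
    rw [this, C_1]
  have h2 : (1 : AdjoinRoot P) = 0 :=
    calc (1 : AdjoinRoot P) = AdjoinRoot.mk P 1 := (map_one _).symm
      _ = AdjoinRoot.mk P P := congrArg (AdjoinRoot.mk P) h1.symm
      _ = 0 := AdjoinRoot.mk_self
  exact one_ne_zero h2

open AlgebraicGeometry CategoryTheory

section scheme

variable (A' : CommRingCat.{u}) (Q : A'[X])

/-- The ring map `A → A[X]/(Q)` in `CommRingCat`. -/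
noncomputable abbrev ofHom : A' ⟶ CommRingCat.of (AdjoinRoot Q) :=
  CommRingCat.ofHom (AdjoinRoot.of Q)

theorem isFinite_specMap (hQ : Q.Monic) : IsFinite (Spec.map (ofHom A' Q)) := by
  rw [IsFinite.SpecMap_iff]
  change (AdjoinRoot.of Q).Finite
  have : Module.Finite A' (AdjoinRoot Q) := hQ.finite_adjoinRoot
  exact RingHom.finite_algebraMap.2 this

theorem flat_specMap (hQ : Q.Monic) : Flat (Spec.map (ofHom A' Q)) := by
  rw [Flat.SpecMap_iff]
  change (AdjoinRoot.of Q).Flat
  have : Module.Free A' (AdjoinRoot Q) := hQ.free_adjoinRoot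
  exact RingHom.flat_algebraMap_iff.2 inferInstance

theorem lfp_specMap : LocallyOfFinitePresentation (Spec.map (ofHom A' Q)) := by
  rw [HasRingHomProperty.Spec_iff (P := @LocallyOfFinitePresentation)]
  change (AdjoinRoot.of Q).FinitePresentation
  exact RingHom.finitePresentation_algebraMap.2 inferInstance

theorem of_injective {A : Type u} [CommRing A] (Q : A[X]) (hQ : Q.Monic) (hd : 1 ≤ Q.natDegree) :
    Function.Injective (AdjoinRoot.of Q) := by
  rw [injective_iff_map_eq_zero]
  intro a ha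
  let B := (AdjoinRoot.powerBasis' hQ).basis
  have hdim : 0 < (AdjoinRoot.powerBasis' hQ).dim := by
    rw [AdjoinRoot.powerBasis'_dim]; omega
  let i0 : Fin (AdjoinRoot.powerBasis' hQ).dim := ⟨0, hdim⟩
  have h1 : B i0 = 1 := by
    change (AdjoinRoot.powerBasis' hQ).basis i0 = 1
    rw [PowerBasis.basis_eq_pow]
    simp [i0]
  have h2 : a • B i0 = 0 := by
    rw [h1, Algebra.smul_def, mul_one]
    exact ha
  have h3 := congrArg (fun v => B.repr v i0) h2
  simpa using h3

theorem surjective_specMap (hQ : Q.Monic) (hd : 1 ≤ Q.natDegree) :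
    Surjective (Spec.map (ofHom A' Q)) := by
  constructor
  have : Module.Finite A' (AdjoinRoot Q) := hQ.finite_adjoinRoot
  have hint : (AdjoinRoot.of Q).IsIntegral := by
    have : Algebra.IsIntegral A' (AdjoinRoot Q) := inferInstance
    exact algebraMap_isIntegral_iff.2 this
  exact hint.comap_surjective (of_injective Q hQ hd)

end scheme

end Groth.Agent.Lib.Helper3.Rep0418Alg
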