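import Mathlib
import Groth.Agent.Lib.Helper3.Rep0418A
import Groth.Agent.Lib.Helper3.Rep0418Alg

set_option autoImplicit false
universe u

namespace Groth.Agent.Lib.Helper3.Rep0418

open CategoryTheory CategoryTheory.Limits AlgebraicGeometry Opposite AlgSp Polynomial
open Groth.Agent.Lib.Helper3 Groth.Agent.Lib.Helper3.Rep0418Alg

variable {S : Scheme.{u}}

section tower

variable (A : CommRingCat.{u}) (τ : Spec A ⟶ S) (P : A[X])

/-- `Spec A[X]/(P)` over `S`. -/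
noncomputable abbrev Tb : Over S := Over.mk (Spec.map (ofHom A P) ≫ τ)

/-- The projection `Spec A[X]/(P) ⟶ Spec A`. -/
noncomputable abbrev πb : Tb A τ P ⟶ Over.mk τ := Over.homMk (Spec.map (ofHom A P)) rfl

/-- The second level of the tower. -/
noncomputable abbrev A₁ : CommRingCat.{u} := CommRingCat.of (AdjoinRoot P)

noncomputable abbrev τ₁ : Spec (A₁ A P) ⟶ S := Spec.map (ofHom A P) ≫ τ

/-- The second projection `Spec A₁[X]/(P₁) ⟶ Spec A₁`, `root ↦ root₁`. -/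
noncomputable def φmap : Tb (A₁ A P) (τ₁ A τ P) (quo P) ⟶ Tb A τ P :=
  Over.homMk (Spec.map (CommRingCat.ofHom (phi P))) (by
    change Spec.map (CommRingCat.ofHom (phi P)) ≫ Spec.map (ofHom A P) ≫ τ =
      Spec.map (ofHom (A₁ A P) (quo P)) ≫ Spec.map (ofHom A P) ≫ τ
    rw [← Category.assoc, ← Category.assoc, ← Spec.map_comp, ← Spec.map_comp]
    congr 2
    ext a
    exact RingHom.congr_fun (phi_comp_of P) a)

theorem φmap_πb : φmap A τ P ≫ πb A τ P = πb (A₁ A P) (τ₁ A τ P) (quo P) ≫ πb A τ P := by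
  ext1
  change Spec.map (CommRingCat.ofHom (phi P)) ≫ Spec.map (ofHom A P) =
      Spec.map (ofHom (A₁ A P) (quo P)) ≫ Spec.map (ofHom A P)
  rw [← Spec.map_comp, ← Spec.map_comp]
  congr 1
  ext a
  exact RingHom.congr_fun (phi_comp_of P) a

theorem exists_beta {Ω : Type u} [Field Ω] {w : Spec (.of Ω) ⟶ S} (α₀ α₁ : Over.mk w ⟶ Tb A τ P)
    (h : α₀ ≫ πb A τ P = α₁ ≫ πb A τ P) (hne : α₀ ≠ α₁) :
    ∃ β : Over.mk w ⟶ Tb (A₁ A P) (τ₁ A τ P) (quo P),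
      β ≫ πb (A₁ A P) (τ₁ A τ P) (quo P) = α₀ ∧ β ≫ φmap A τ P = α₁ := by
  let a₀ : AdjoinRoot P →+* Ω := (Spec.preimage α₀.left).hom
  let a₁ : AdjoinRoot P →+* Ω := (Spec.preimage α₁.left).hom
  have ha₀ : Spec.map (CommRingCat.ofHom a₀) = α₀.left := Spec.map_preimage α₀.left
  have ha₁ : Spec.map (CommRingCat.ofHom a₁) = α₁.left := Spec.map_preimage α₁.left
  have h' : a₀.comp (AdjoinRoot.of P) = a₁.comp (AdjoinRoot.of P) := by
    have h1 : α₀.left ≫ Spec.map (ofHom A P) = α₁.left ≫ Spec.map (ofHom A P) :=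
      congrArg (fun k => k.left) h
    rw [← ha₀, ← ha₁, ← Spec.map_comp, ← Spec.map_comp] at h1
    have h2 := Spec.map_injective h1
    exact congrArg (fun k => k.hom) h2
  have hne' : a₀ ≠ a₁ := by
    intro hh
    apply hne
    ext1
    rw [← ha₀, ← ha₁, hh]
  obtain ⟨b, hb0, hb1⟩ := exists_lift P a₀ a₁ h' hne'
  have hw : Spec.map (CommRingCat.ofHom b) ≫ (Tb (A₁ A P) (τ₁ A τ P) (quo P)).hom = w := by
    change Spec.map (CommRingCat.ofHom b) ≫ Spec.map (ofHom (A₁ A P) (quo P)) ≫ τ₁ A τ P = w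
    rw [← Category.assoc, ← Spec.map_comp]
    have : ofHom (A₁ A P) (quo P) ≫ CommRingCat.ofHom b = CommRingCat.ofHom a₀ :=
      CommRingCat.hom_ext hb0
    rw [this, ha₀]
    exact Over.w α₀
  refine ⟨Over.homMk (Spec.map (CommRingCat.ofHom b)) hw, ?_, ?_⟩
  · ext1
    change Spec.map (CommRingCat.ofHom b) ≫ Spec.map (ofHom (A₁ A P) (quo P)) = α₀.left
    rw [← Spec.map_comp, ← ha₀]
    congr 1
    exact CommRingCat.hom_ext hb0
  · ext1
    change Spec.map (CommRingCat.ofHom b) ≫ Spec.map (CommRingCat.ofHom (phi P)) = α₁.left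
    rw [← Spec.map_comp, ← ha₁]
    congr 1
    exact CommRingCat.hom_ext hb1

variable {A τ P}

/-- The heart of the induction: a point `x₁` of `X₁ = X ×_T T̄` different from a schematic point
`x'` with the same image in `X` lifts to a schematic point of `X₁ ×_{T̄} T̄₁`. -/
theorem exists_schPt_lift {X : Sp S} (f : X ⟶ (yon S).obj (Over.mk τ)) {X₁ : Sp S} (p : X₁ ⟶ X)
    (q : X₁ ⟶ (yon S).obj (Tb A τ P)) (sq : IsPullback p q f ((yon S).map (πb A τ P)))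
    {X₁₁ : Sp S} (p₁₁ : X₁₁ ⟶ X₁)
    (q₁₁ : X₁₁ ⟶ (yon S).obj (Tb (A₁ A P) (τ₁ A τ P) (quo P)))
    (sq11 : IsPullback p₁₁ q₁₁ q ((yon S).map (πb (A₁ A P) (τ₁ A τ P) (quo P))))
    (x₁ x' : Points X₁) (hx : Points.map p x₁ = Points.map p x') (hne : x₁ ≠ x')
    (hs : SchPt X₁ x') :
    ∃ ξ : Points X₁₁, Points.map p₁₁ ξ = x₁ ∧ SchPt X₁₁ ξ := by
  -- the second map `X₁₁ ⟶ X₁`
  have hcomm : (p₁₁ ≫ p) ≫ f = (q₁₁ ≫ (yon S).map (φmap A τ P)) ≫ (yon S).map (πb A τ P) := by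
    rw [Category.assoc, sq.w, ← Category.assoc, sq11.w, Category.assoc, Category.assoc,
      ← Functor.map_comp, ← Functor.map_comp, φmap_πb]
  let m : X₁₁ ⟶ X₁ := sq.lift (p₁₁ ≫ p) (q₁₁ ≫ (yon S).map (φmap A τ P)) hcomm
  have hm1 : m ≫ p = p₁₁ ≫ p := sq.lift_fst _ _ _
  have hm2 : m ≫ q = q₁₁ ≫ (yon S).map (φmap A τ P) := sq.lift_snd _ _ _
  have sqm : IsPullback m q₁₁ q ((yon S).map (φmap A τ P)) := by
    refine IsPullback.of_right ?_ hm2 sq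
    rw [hm1, ← Functor.map_comp, φmap_πb, Functor.map_comp]
    exact sq11.paste_horiz sq
  obtain ⟨N', ν, hν, n', rfl⟩ := hs
  obtain ⟨g', hg'⟩ := (yon S).map_surjective (ν ≫ q)
  have sqS : IsPullback ((yon S).map (pullback.fst g' (φmap A τ P)))
      ((yon S).map (pullback.snd g' (φmap A τ P))) ((yon S).map g')
      ((yon S).map (φmap A τ P)) := (IsPullback.of_hasPullback g' (φmap A τ P)).map (yon S)
  have hw1 : ((yon S).map (pullback.fst g' (φmap A τ P)) ≫ ν) ≫ q =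
      (yon S).map (pullback.snd g' (φmap A τ P)) ≫ (yon S).map (φmap A τ P) := by
    rw [Category.assoc, ← hg', sqS.w]
  let ν₁ : (yon S).obj (pullback g' (φmap A τ P)) ⟶ X₁₁ := sqm.lift _ _ hw1
  have hν₁1 : ν₁ ≫ m = (yon S).map (pullback.fst g' (φmap A τ P)) ≫ ν := sqm.lift_fst _ _ _
  have hν₁2 : ν₁ ≫ q₁₁ = (yon S).map (pullback.snd g' (φmap A τ P)) := sqm.lift_snd _ _ _
  have sqν : IsPullback ((yon S).map (pullback.fst g' (φmap A τ P))) ν₁ ν m := by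
    refine IsPullback.of_bot ?_ hν₁1.symm sqm
    rw [hν₁2, ← hg']
    exact sqS
  have hν₁ : RepWith @IsOpenImmersion ν₁ := MorphismProperty.of_isPullback sqν hν
  -- field points
  obtain ⟨K₁, _, str₁, a₁, rfl⟩ := Points.exists_hom x₁
  rw [ofPt_eq_mk, Points.map_mk_fieldPtOfHom, Points.map_mk_fieldPtOfHom,
    mk_fieldPtOfHom_eq_iff] at hx
  obtain ⟨Ω, _, w, c, d, h⟩ := hx
  let r : Over.mk (N'.left.fromSpecResidueField n' ≫ N'.hom) ⟶ N' :=
    Over.homMk (N'.left.fromSpecResidueField n') rfl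
  obtain ⟨e₀, he₀⟩ : ∃ e₀ : (yon S).obj (Over.mk w) ⟶ X₁, e₀ = (yon S).map c ≫ a₁ := ⟨_, rfl⟩
  obtain ⟨e₁, he₁⟩ : ∃ e₁ : (yon S).obj (Over.mk w) ⟶ X₁, e₁ = (yon S).map (d ≫ r) ≫ ν :=
    ⟨_, rfl⟩
  have he : e₀ ≫ p = e₁ ≫ p := by
    rw [he₀, he₁, Category.assoc, h, Functor.map_comp]
    simp only [Category.assoc]
    rfl
  obtain ⟨α₀, hα₀⟩ := (yon S).map_surjective (e₀ ≫ q)
  obtain ⟨α₁, hα₁⟩ := (yon S).map_surjective (e₁ ≫ q)
  have hα : α₀ ≫ πb A τ P = α₁ ≫ πb A τ P := by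
    apply (yon S).map_injective
    rw [Functor.map_comp, Functor.map_comp]
    calc (yon S).map α₀ ≫ (yon S).map (πb A τ P) = e₀ ≫ q ≫ (yon S).map (πb A τ P) := by
          rw [hα₀, Category.assoc]
      _ = (e₀ ≫ p) ≫ f := by rw [← sq.w, Category.assoc]
      _ = (e₁ ≫ p) ≫ f := by rw [he]
      _ = e₁ ≫ q ≫ (yon S).map (πb A τ P) := by rw [Category.assoc, sq.w]
      _ = (yon S).map α₁ ≫ (yon S).map (πb A τ P) := by rw [hα₁, Category.assoc]
  have hx₁ : Points.mk (fieldPtOfHom K₁ str₁ a₁) = Points.mk (fieldPtOfHom Ω w e₀) := by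
    rw [he₀]
    exact (mk_fieldPtOfHom_comp c a₁).symm
  have hx' : Points.ofPt ν n' = Points.mk (fieldPtOfHom Ω w e₁) := by
    rw [ofPt_eq_mk, he₁, Functor.map_comp, Category.assoc]
    exact (mk_fieldPtOfHom_comp d _).symm
  have hαne : α₀ ≠ α₁ := by
    intro hh
    apply hne
    have : e₀ = e₁ := by
      apply sq.hom_ext he
      rw [← hα₀, ← hα₁, hh]
    rw [hx₁, hx', this]
  obtain ⟨β, hβ0, hβ1⟩ := exists_beta A τ P α₀ α₁ hα hαne
  have hζ : e₀ ≫ q = (yon S).map β ≫ (yon S).map (πb (A₁ A P) (τ₁ A τ P) (quo P)) := by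
    rw [← Functor.map_comp, hβ0, hα₀]
  let ζ : (yon S).obj (Over.mk w) ⟶ X₁₁ := sq11.lift e₀ ((yon S).map β) hζ
  have hζ1 : ζ ≫ p₁₁ = e₀ := sq11.lift_fst _ _ _
  have hζ2 : ζ ≫ q₁₁ = (yon S).map β := sq11.lift_snd _ _ _
  have hζm : ζ ≫ m = e₁ := by
    apply sq.hom_ext
    · rw [Category.assoc, hm1, ← Category.assoc, hζ1, he]
    · rw [Category.assoc, hm2, ← Category.assoc, hζ2, ← Functor.map_comp, hβ1, hα₁]
  let η : (yon S).obj (Over.mk w) ⟶ (yon S).obj (pullback g' (φmap A τ P)) :=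
    sqν.lift ((yon S).map (d ≫ r)) ζ (he₁.symm.trans hζm.symm)
  have hη : η ≫ ν₁ = ζ := sqν.lift_snd _ _ _
  obtain ⟨η₀, hη₀⟩ := (yon S).map_surjective η
  refine ⟨Points.ofPt ν₁ (η₀.left (IsLocalRing.closedPoint Ω)), ?_, _, ν₁, hν₁, _, rfl⟩
  rw [ofPt_closedPoint, hη₀, hη, Points.map_mk_fieldPtOfHom, hζ1, hx₁]

end tower

end Groth.Agent.Lib.Helper3.Rep0418
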