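import Mathlib
import Groth.Agent.Lib.Helper3.Rep0418B
import Groth.Agent.Lib.Helper3.ZarGlue
import Groth.Agent.Lib.Helper3.AlgSpZarDecent
import Groth.Agent.Lib.Helper3.AlgSpLocP4
import Groth.Agent.Lib.Helper3.AlgSpProper

set_option autoImplicit false
universe u

namespace Groth.Agent.Lib.Helper3.Rep0418

open CategoryTheory CategoryTheory.Limits AlgebraicGeometry Opposite AlgSp Polynomial
open Groth.Agent.Lib.Helper3 Groth.Agent.Lib.Helper3.Rep0418Alg
open Groth.Agent.Lib.Helper3.OpenSch Groth.Agent.Lib.Helper3.SchemLocus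

variable {S : Scheme.{u}}

/-- A small union of open subschemes of a sheaf is an open subscheme. -/
theorem exists_union_openSubscheme {X : Sp S} {ι : Type u} (M : ι → Over S)
    (b : ∀ i, (yon S).obj (M i) ⟶ X) (hb : ∀ i, RepWith @IsOpenImmersion (b i)) :
    ∃ (G : Over S) (μ : (yon S).obj G ⟶ X), RepWith @IsOpenImmersion μ ∧
      ∀ i, Set.range (Points.ofPt (b i)) ⊆ Set.range (Points.ofPt μ) := by
  let W : Set (Points X) := ⋃ i, Set.range (Points.ofPt (b i))
  have hW : IsOpen W := isOpen_iUnion fun i =>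
    (SpUC.isOpenMap_ofPt (b i) (repWith_mono' isOpenImmersion_le_etale (hb i))).isOpen_range
  let a : ∀ i, (yon S).obj (M i) ⟶ openSub X W := fun i =>
    openSubLift (b i) (app_mem_openSubfunctor_of_forall (b i)
      (fun t => Set.mem_iUnion.2 ⟨i, t, rfl⟩))
  have ha : ∀ i, a i ≫ openSubι X W = b i := fun i => rfl
  have hao : ∀ i, RepWith @IsOpenImmersion (a i) := fun i => by
    have sq : IsPullback (𝟙 ((yon S).obj (M i))) (a i) (b i) (openSubι X W) :=
      IsPullback.of_horiz_isIso_mono ⟨by rw [Category.id_comp, ha i]⟩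
    exact MorphismProperty.of_isPullback sq (hb i)
  have hs : ∀ y : Points (openSub X W), ∃ (i : ι) (u : ↥(M i).left), Points.ofPt (a i) u = y := by
    intro y
    have hy : Points.map (openSubι X W) y ∈ W :=
      (range_map_openSubι X W).subset ⟨y, rfl⟩
    obtain ⟨i, u, hu⟩ := Set.mem_iUnion.1 hy
    refine ⟨i, u, ?_⟩
    apply Points.map_injective_of_mono (openSubι X W)
    rw [Points.map_ofPt, ha i]
    exact hu
  obtain ⟨G, e, j, hj, -, -⟩ := exists_iso_yon_of_openCover a hao hs
  refine ⟨G, e.hom ≫ openSubι X W, ?_, ?_⟩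
  · exact MorphismProperty.RespectsIso.precomp _ e.hom _
      (repWith_isOpenImmersion_openSubι X W hW)
  · rintro i _ ⟨u, rfl⟩
    refine ⟨(j i).left u, ?_⟩
    rw [← SpUC.ofPt_comp_yon_map, ← Category.assoc, hj i, ha i]

/-- Fibres of a representable finite morphism to an algebraic space are finite, and are hit by the
fibre of a chart. -/
theorem finite_fibre {X₁ X : Sp S} (hX : IsAlgSpace X) (p : X₁ ⟶ X) (hp : RepWith @IsFinite p)
    (x : Points X) : (Points.map p ⁻¹' {x}).Finite := by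
  obtain ⟨W, c, hce, hcs⟩ := hX.atlas
  obtain ⟨w₀, rfl⟩ := exists_ofPt_eq c hcs x
  obtain ⟨U₁, g, a, sq⟩ := hp.1 c
  haveI : IsFinite g.left := hp.2 c a g sq
  have hfin : (g.left ⁻¹' {w₀}).Finite := Scheme.Hom.finite_preimage_singleton g.left w₀
  refine (hfin.image (Points.ofPt a)).subset ?_
  intro x₁ hx₁
  obtain ⟨v, hv1, hv2⟩ := exists_of_isPullback_chart sq x₁ w₀ hx₁
  exact ⟨v, hv2, hv1⟩

/-- A monomorphism which is representable by open immersions is separated. -/
theorem isSeparatedMor_of_openImm {M : Over S} {X : Sp S} (μ : (yon S).obj M ⟶ X)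
    (hμ : RepWith @IsOpenImmersion μ) : IsSeparatedMor μ := by
  refine repWith_diagonal_of_repWith (Q := @IsOpenImmersion) (P := @IsClosedImmersion) ?_ μ hμ
  intro A B g hg
  haveI : IsOpenImmersion g := hg
  infer_instance

section step

variable {A : CommRingCat.{u}} {τ : Spec A ⟶ S} {P : A[X]}

/-- Second half of the induction step: if all points of `X₁ = X ×_T T̄` over `x` are schematic
then so is `x`. -/
theorem schPt_of_forall_fibre (hP : P.Monic) (hd : 1 ≤ P.natDegree) {X : Sp S}
    (hX : IsAlgSpace X) (f : X ⟶ (yon S).obj (Over.mk τ))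
    (hqf : LocP (@LocallyQuasiFinite ⊓ @LocallyOfFiniteType) f) (hsep : IsSeparatedMor f)
    {X₁ : Sp S} (p : X₁ ⟶ X) (q : X₁ ⟶ (yon S).obj (Tb A τ P))
    (sq : IsPullback p q f ((yon S).map (πb A τ P))) (x : Points X)
    (h : ∀ x₁ : Points X₁, Points.map p x₁ = x → SchPt X₁ x₁) : SchPt X x := by
  have hπ : RepWith finLocFree ((yon S).map (πb A τ P)) :=
    (repWith_yon_map_iff _ _).2 ⟨isFinite_specMap A P hP, flat_specMap A P hP, lfp_specMap A P⟩
  have hπs : RepWith @Surjective ((yon S).map (πb A τ P)) :=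
    (repWith_yon_map_iff _ _).2 (surjective_specMap A P hP hd)
  have hp : RepWith finLocFree p := MorphismProperty.of_isPullback sq.flip hπ
  have hps : RepWith @Surjective p := MorphismProperty.of_isPullback sq.flip hπs
  have hX₁ : IsAlgSpace X₁ :=
    isAlgSpace_of_isPullback' (IsAlgSpace.yon_obj _) hX (IsAlgSpace.yon_obj _) sq
  have hq : LocP (@LocallyQuasiFinite ⊓ @LocallyOfFiniteType) q :=
    locP_of_isPullback isEtLocal_locallyQuasiFinite hX (IsAlgSpace.yon_obj _)
      (IsAlgSpace.yon_obj _) hX₁ f _ p q sq hqf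
  have hqsep : IsSeparatedMor q := by
    have := repWith_diagonal_of_isPullback @IsClosedImmersion sq hsep
    exact this
  -- the finite fibre
  have hfin : (Points.map p ⁻¹' {x}).Finite :=
    finite_fibre hX p (repWith_mono' finLocFree_le_finite hp) x
  -- choose schematic neighbourhoods
  haveI : Finite ↥(Points.map p ⁻¹' {x}) := hfin.to_subtype
  obtain ⟨n, ⟨e⟩⟩ := Finite.exists_equiv_fin ↥(Points.map p ⁻¹' {x})
  have hch : ∀ i : ULift.{u} (Fin n), SchPt X₁ (e.symm i.down).1 :=
    fun i => h _ (e.symm i.down).2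
  choose M b hb hmem using hch
  obtain ⟨G, μ, hμ, hsub⟩ := exists_union_openSubscheme M b hb
  have hFμ : Points.map p ⁻¹' {x} ⊆ Set.range (Points.ofPt μ) := by
    intro x₁ hx₁
    have h1 := hsub ⟨e ⟨x₁, hx₁⟩⟩ (hmem ⟨e ⟨x₁, hx₁⟩⟩)
    simpa using h1
  obtain ⟨gM, hgM⟩ := (yon S).map_surjective (μ ≫ q)
  have hμe : RepWith @Etale μ := repWith_mono' isOpenImmersion_le_etale hμ
  have hgqf : (@LocallyQuasiFinite ⊓ @LocallyOfFiniteType : MorphismProperty Scheme.{u}) gM.left :=
    hq μ (𝟙 _) gM hμe (repWith_id _ _) (by rw [hgM, Category.comp_id])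
  haveI : LocallyQuasiFinite gM.left := hgqf.1
  haveI : LocallyOfFiniteType gM.left := hgqf.2
  haveI : IsSeparated gM.left := by
    rw [← isSeparatedMor_yon_map_iff, hgM]
    exact isSeparatedMor_comp (isSeparatedMor_of_openImm μ hμ) hqsep
  haveI : Mono μ := mono_of_repWith_isOpenImmersion μ hμ
  have hinj : Function.Injective (Points.ofPt μ) := by
    rw [Points.ofPt_eq]
    exact (Points.map_injective_of_mono μ).comp (Points.schemeHomeo G).injective
  let E : Set ↥G.left := Points.ofPt μ ⁻¹' (Points.map p ⁻¹' {x})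
  have hE : E.Finite := hfin.preimage (Set.injOn_of_injective hinj)
  haveI : IsAffine (Tb A τ P).left := inferInstanceAs (IsAffine (Spec _))
  obtain ⟨V, hV, hEV⟩ := QFAff.exists_isAffineOpen_of_finite gM.left E hE
  let U : Over S := Over.mk (V.ι ≫ G.hom)
  let i : U ⟶ G := Over.homMk V.ι rfl
  haveI : IsAffine U.left := hV
  have hi : RepWith @IsOpenImmersion ((yon S).map i) :=
    (repWith_yon_map_iff _ _).2 (inferInstanceAs (IsOpenImmersion V.ι))
  have ha : RepWith @IsOpenImmersion ((yon S).map i ≫ μ) :=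
    MorphismProperty.comp_mem _ _ _ hi hμ
  refine exists_open_subscheme_of_affine_fibre p hp hps x ((yon S).map i ≫ μ) ha ?_
  intro x₁ hx₁
  obtain ⟨g, hg⟩ := hFμ hx₁
  have hgE : g ∈ E := by
    change Points.ofPt μ g ∈ Points.map p ⁻¹' {x}
    rw [hg]
    exact hx₁
  refine ⟨⟨g, hEV hgE⟩, ?_⟩
  rw [SpUC.ofPt_comp_yon_map]
  exact hg

end step

end Groth.Agent.Lib.Helper3.Rep0418
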