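import Mathlib
import Groth.Agent.Lib.Helper3.Rep0418C

set_option autoImplicit false
universe u

namespace Groth.Agent.Lib.Helper3.Rep0418

open CategoryTheory CategoryTheory.Limits AlgebraicGeometry Opposite AlgSp Polynomial
open Groth.Agent.Lib.Helper3 Groth.Agent.Lib.Helper3.Rep0418Alg
open Groth.Agent.Lib.Helper3.OpenSch Groth.Agent.Lib.Helper3.SchemLocus

variable {S : Scheme.{u}}

/-- A point of `X ×_T Spec A[X]/(P)` forces `A[X]/(P)` to be nontrivial. -/
theorem nontrivial_of_point {A : CommRingCat.{u}} {τ : Spec A ⟶ S} {P : A[X]} {X₁ : Sp S}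
    (q : X₁ ⟶ (yon S).obj (Tb A τ P)) (x' : Points X₁) : Nontrivial (AdjoinRoot P) := by
  obtain ⟨K, _, str, a, -⟩ := Points.exists_hom x'
  obtain ⟨α, -⟩ := (yon S).map_surjective (a ≫ q)
  let φ : AdjoinRoot P →+* K := (Spec.preimage α.left).hom
  exact φ.domain_nontrivial

/-- **The tower induction.** If some point of `X ×_T Spec A[X]/(P)` is schematic then so is its
image in `X`, for `X` separated and locally quasi-finite over `T = Spec A`. -/
theorem schPt_of_tower (n : ℕ) : ∀ (A : CommRingCat.{u}) (τ : Spec A ⟶ S) (P : A[X]),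
    P.Monic → P.natDegree ≤ n → ∀ (X : Sp S), IsAlgSpace X →
    ∀ (f : X ⟶ (yon S).obj (Over.mk τ)),
    LocP (@LocallyQuasiFinite ⊓ @LocallyOfFiniteType) f → IsSeparatedMor f →
    ∀ (X₁ : Sp S) (p : X₁ ⟶ X) (q : X₁ ⟶ (yon S).obj (Tb A τ P)),
    IsPullback p q f ((yon S).map (πb A τ P)) → ∀ x' : Points X₁, SchPt X₁ x' →
    SchPt X (Points.map p x') := by
  induction n with
  | zero =>
    intro A τ P hP hn X hX f hqf hsep X₁ p q sq x' hs
    haveI := nontrivial_of_point q x'
    have := one_le_natDegree P hP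
    omega
  | succ n ih =>
    intro A τ P hP hn X hX f hqf hsep X₁ p q sq x' hs
    haveI := nontrivial_of_point q x'
    have hd := one_le_natDegree P hP
    have hX₁ : IsAlgSpace X₁ :=
      isAlgSpace_of_isPullback' (IsAlgSpace.yon_obj _) hX (IsAlgSpace.yon_obj _) sq
    have hq : LocP (@LocallyQuasiFinite ⊓ @LocallyOfFiniteType) q :=
      locP_of_isPullback isEtLocal_locallyQuasiFinite hX (IsAlgSpace.yon_obj _)
        (IsAlgSpace.yon_obj _) hX₁ f _ p q sq hqf
    have hqsep : IsSeparatedMor q := repWith_diagonal_of_isPullback @IsClosedImmersion sq hsep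
    refine schPt_of_forall_fibre hP hd hX f hqf hsep p q sq _ fun x₁ hx₁ => ?_
    by_cases hne : x₁ = x'
    · rw [hne]; exact hs
    · have sq11 := IsPullback.of_hasPullback q
        ((yon S).map (πb (A₁ A P) (τ₁ A τ P) (quo P)))
      obtain ⟨ξ, hξ1, hξ2⟩ := exists_schPt_lift f p q sq _ _ sq11 x₁ x' hx₁ hne hs
      rw [← hξ1]
      exact ih (A₁ A P) (τ₁ A τ P) (quo P) (monic_quo P hP)
        ((natDegree_quo_le P).trans (by omega)) X₁ hX₁ q hq hqsep _ _ _ sq11 ξ hξ2

end Groth.Agent.Lib.Helper3.Rep0418
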