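import Mathlib
import Groth.Agent.Lib.Helper3.Rep0418Alg

set_option autoImplicit false
universe u

namespace Groth.Agent.Lib.Helper3.Rep0418

open CategoryTheory CategoryTheory.Limits AlgebraicGeometry Opposite Polynomial
open Groth.Agent.Lib.Helper3.Rep0418Alg

/-- Ring-level: an étale algebra is, near a prime, an open piece of a monogenic finite free
algebra. -/
theorem exists_standard_etale_ring (A B : Type u) [CommRing A] [CommRing B] [Algebra A B]
    [Algebra.Etale A B] (q : Ideal B) [q.IsPrime] :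
    ∃ (f : B) (_ : f ∉ q) (P : A[X]) (_ : P.Monic) (g : AdjoinRoot P)
      (e : Localization.Away f ≃ₐ[A] Localization.Away g), True := by
  haveI : Algebra.FinitePresentation A B := Algebra.Etale.finitePresentation
  haveI : Algebra.IsEtaleAt A q :=
    Algebra.FormallyEtale.comp A B (Localization.AtPrime q)
  obtain ⟨f, hf, hstd⟩ := Algebra.IsEtaleAt.exists_isStandardEtale (R := A) q
  let Pres : StandardEtalePresentation A (Localization.Away f) :=
    hstd.nonempty_standardEtalePresentation.some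
  exact ⟨f, hf, Pres.f, Pres.monic_f, AdjoinRoot.mk Pres.f Pres.g,
    Pres.equivRing.trans Pres.P.equivAwayAdjoinRoot, trivial⟩

/-- Scheme-level: an étale morphism to an affine scheme is, near a point, an open piece of a
monogenic finite free cover. -/
theorem exists_standard_etale_nbhd {A : CommRingCat.{u}} {U₁ : Scheme.{u}} (g₁ : U₁ ⟶ Spec A)
    [Etale g₁] (t' : U₁) :
    ∃ (P : A[X]) (_ : P.Monic) (T' : Scheme.{u}) (j : T' ⟶ U₁)
      (k : T' ⟶ Spec (CommRingCat.of (AdjoinRoot P))), IsAffine T' ∧ IsOpenImmersion j ∧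
      IsOpenImmersion k ∧ t' ∈ Set.range j ∧ j ≫ g₁ = k ≫ Spec.map (ofHom A P) := by
  obtain ⟨V, hV, ht'V, -⟩ := exists_isAffineOpen_mem_and_subset (x := t') (U := ⊤) trivial
  let ψ : A ⟶ Γ(U₁, V) := Spec.preimage (hV.fromSpec ≫ g₁)
  have hψ : Spec.map ψ = hV.fromSpec ≫ g₁ := Spec.map_preimage _
  have hE : Etale (Spec.map ψ) := by rw [hψ]; infer_instance
  have hψe : ψ.hom.Etale := (HasRingHomProperty.Spec_iff (P := @Etale)).1 hE
  letI : Algebra A Γ(U₁, V) := ψ.hom.toAlgebra
  haveI : Algebra.Etale A Γ(U₁, V) := RingHom.etale_algebraMap.1 hψe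
  let q : Ideal Γ(U₁, V) := (hV.primeIdealOf ⟨t', ht'V⟩).asIdeal
  obtain ⟨f, hf, P, hP, g, e, -⟩ := exists_standard_etale_ring A Γ(U₁, V) q
  let j₀ : Spec (CommRingCat.of (Localization.Away f)) ⟶ Spec Γ(U₁, V) :=
    Spec.map (CommRingCat.ofHom (algebraMap Γ(U₁, V) (Localization.Away f)))
  let k₀ : Spec (CommRingCat.of (Localization.Away f)) ⟶ Spec (CommRingCat.of (Localization.Away g)) :=
    Spec.map (CommRingCat.ofHom (e.symm.toAlgHom.toRingHom))
  let k₁ : Spec (CommRingCat.of (Localization.Away g)) ⟶ Spec (CommRingCat.of (AdjoinRoot P)) :=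
    Spec.map (CommRingCat.ofHom (algebraMap (AdjoinRoot P) (Localization.Away g)))
  haveI : IsIso k₀ := by
    have : IsIso (CommRingCat.ofHom (e.symm.toAlgHom.toRingHom)) :=
      inferInstanceAs (IsIso e.symm.toRingEquiv.toCommRingCatIso.hom)
    infer_instance
  refine ⟨P, hP, Spec (CommRingCat.of (Localization.Away f)), j₀ ≫ hV.fromSpec, k₀ ≫ k₁,
    inferInstance, inferInstance, inferInstance, ?_, ?_⟩
  · have hpt : hV.primeIdealOf ⟨t', ht'V⟩ ∈ Set.range j₀ := by
      have h1 : (hV.primeIdealOf ⟨t', ht'V⟩ : Spec Γ(U₁, V)) ∈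
          (PrimeSpectrum.basicOpen f : Set (PrimeSpectrum Γ(U₁, V))) := hf
      have h2 := Scheme.Hom.opensRange_localizationAway (R := Γ(U₁, V)) f
      have h3 : (hV.primeIdealOf ⟨t', ht'V⟩ : Spec Γ(U₁, V)) ∈ j₀.opensRange := by
        rw [h2]; exact h1
      exact h3
    obtain ⟨z, hz⟩ := hpt
    refine ⟨z, ?_⟩
    rw [Scheme.Hom.comp_apply, hz]
    exact hV.fromSpec_primeIdealOf ⟨t', ht'V⟩
  · rw [Category.assoc, ← hψ, Category.assoc]
    change Spec.map _ ≫ Spec.map _ = Spec.map _ ≫ Spec.map _ ≫ Spec.map _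
    rw [← Spec.map_comp, ← Spec.map_comp, ← Spec.map_comp]
    congr 1
    ext a
    change algebraMap Γ(U₁, V) (Localization.Away f) (algebraMap A Γ(U₁, V) a) =
      e.symm (algebraMap (AdjoinRoot P) (Localization.Away g) (AdjoinRoot.of P a))
    rw [← IsScalarTower.algebraMap_apply A Γ(U₁, V) (Localization.Away f)]
    have : algebraMap (AdjoinRoot P) (Localization.Away g) (AdjoinRoot.of P a) =
        algebraMap A (Localization.Away g) a := by
      rw [IsScalarTower.algebraMap_apply A (AdjoinRoot P) (Localization.Away g)]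
      rfl
    rw [this, AlgEquiv.commutes]

end Groth.Agent.Lib.Helper3.Rep0418
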