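import Mathlib
import Groth.Agent.Lib.Helper3.Rep0418D
import Groth.Agent.Lib.Helper3.Rep0418E

set_option autoImplicit false
universe u

namespace Groth.Agent.Lib.Helper3.Rep0418

open CategoryTheory CategoryTheory.Limits AlgebraicGeometry Opposite AlgSp Polynomial
open Groth.Agent.Lib.Helper3 Groth.Agent.Lib.Helper3.Rep0418Alg
open Groth.Agent.Lib.Helper3.OpenSch Groth.Agent.Lib.Helper3.SchemLocus

variable {S : Scheme.{u}}

theorem isClosedImmersion_le_isFinite :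
    (@IsClosedImmersion : MorphismProperty Scheme.{u}) ≤ @IsFinite := fun _ _ g hg => by
  haveI : IsClosedImmersion g := hg
  infer_instance

/-- Cancellation: if `a ≫ q'` has `P`, the diagonal of `q'` has `Q` and `Q ≤ P`, then `a` has
`P`. -/
theorem repWith_of_comp_of_diagonal {P Q : MorphismProperty Scheme.{u}}
    [P.IsStableUnderBaseChange] [P.IsStableUnderComposition] [Q.IsStableUnderBaseChange]
    (hQP : Q ≤ P) {F X' G : Sp S} (a : F ⟶ X') (q' : X' ⟶ G)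
    (hq' : RepWith Q (pullback.diagonal q')) (h : RepWith P (a ≫ q')) : RepWith P a := by
  have sqP := IsPullback.of_hasPullback (a ≫ q') q'
  have sqΓ := pullback_lift_diagonal_isPullback a q'
  have hΓ : RepWith Q (pullback.lift (𝟙 F) a (by simp) :
      F ⟶ pullback (a ≫ q') q') := MorphismProperty.of_isPullback sqΓ hq'
  have hsnd : RepWith P (pullback.snd (a ≫ q') q') :=
    MorphismProperty.of_isPullback sqP h
  have := MorphismProperty.comp_mem _ _ _ (repWith_mono' hQP hΓ) hsnd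
  rwa [pullback.lift_snd] at this

theorem etale_diagonal_openImm ⦃A B : Scheme.{u}⦄ (g : A ⟶ B) (hg : Etale g) :
    IsOpenImmersion (pullback.diagonal g) := by
  haveI : Etale g := hg
  infer_instance

/-- The sheaf-level part of the affine-base argument. -/
theorem schPt_of_local_data {A : CommRingCat.{u}} {τ : Spec A ⟶ S} {X : Sp S}
    (hX : IsAlgSpace X) (f : X ⟶ (yon S).obj (Over.mk τ))
    (hqf : LocP (@LocallyQuasiFinite ⊓ @LocallyOfFiniteType) f) (hsep : IsSeparatedMor f)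
    {U : Over S} (c : (yon S).obj U ⟶ X) (hce : RepWith @Etale c) (g₀ : U ⟶ Over.mk τ)
    (hg₀ : (yon S).map g₀ = c ≫ f) (P : A[X]) (hP : P.Monic) (T'o : Over S) [IsAffine T'o.left]
    (ε : T'o ⟶ Over.mk τ) [Etale ε.left] (κ : T'o ⟶ Tb A τ P) [IsOpenImmersion κ.left]
    (hκ : κ ≫ πb A τ P = ε) (Vo : Over S) (aTo : Vo ⟶ T'o) [IsFinite aTo.left] (aUo : Vo ⟶ U)
    [Etale aUo.left] (hcompat : aUo ≫ g₀ = aTo ≫ ε) (v' : ↥Vo.left) :
    SchPt X (Points.ofPt c (aUo.left v')) := by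
  have sq' := IsPullback.of_hasPullback f ((yon S).map ε)
  obtain ⟨X', pr, q', sq'⟩ : ∃ (X' : Sp S) (pr : X' ⟶ X) (q' : X' ⟶ (yon S).obj T'o),
      IsPullback pr q' f ((yon S).map ε) := ⟨_, _, _, sq'⟩
  have hX' : IsAlgSpace X' :=
    isAlgSpace_of_isPullback' (IsAlgSpace.yon_obj _) hX (IsAlgSpace.yon_obj _) sq'
  have hq'sep : IsSeparatedMor q' := repWith_diagonal_of_isPullback @IsClosedImmersion sq' hsep
  have hεe : RepWith @Etale ((yon S).map ε) := (repWith_yon_map_iff _ _).2 ‹Etale ε.left›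
  have hprd : RepWith @IsOpenImmersion (pullback.diagonal pr) :=
    repWith_diagonal_of_isPullback @IsOpenImmersion sq'.flip
      (repWith_diagonal_of_repWith etale_diagonal_openImm ((yon S).map ε) hεe)
  have hw : ((yon S).map aUo ≫ c) ≫ f = (yon S).map aTo ≫ (yon S).map ε := by
    rw [Category.assoc, ← hg₀, ← Functor.map_comp, ← Functor.map_comp, hcompat]
  obtain ⟨aV, haV1, haV2⟩ : ∃ aV : (yon S).obj Vo ⟶ X', aV ≫ pr = (yon S).map aUo ≫ c ∧
      aV ≫ q' = (yon S).map aTo := ⟨sq'.lift _ _ hw, sq'.lift_fst _ _ _, sq'.lift_snd _ _ _⟩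
  have haVfin : RepWith @IsFinite aV :=
    repWith_of_comp_of_diagonal isClosedImmersion_le_isFinite aV q' hq'sep (by
      rw [haV2]; exact (repWith_yon_map_iff _ _).2 ‹IsFinite aTo.left›)
  have haVe : RepWith @Etale aV :=
    repWith_of_comp_of_diagonal isOpenImmersion_le_etale aV pr hprd (by
      rw [haV1]
      exact MorphismProperty.comp_mem _ _ _
        ((repWith_yon_map_iff _ _).2 ‹Etale aUo.left›) hce)
  -- the open image of `aV`
  let Wset : Set (Points X') := Set.range (Points.ofPt aV)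
  have hWset : IsOpen Wset := (SpUC.isOpenMap_ofPt aV haVe).isOpen_range
  obtain ⟨a', ha'1, ha'e, ha's, -⟩ := exists_factor_surjective_etale aV haVe
    (openSubι X' Wset) (repWith_isOpenImmersion_openSubι X' Wset hWset)
    (range_map_openSubι X' Wset)
  have sqa : IsPullback (𝟙 ((yon S).obj Vo)) a' aV (openSubι X' Wset) :=
    IsPullback.of_horiz_isIso_mono ⟨by rw [Category.id_comp, ha'1]⟩
  have ha'fin : RepWith @IsFinite a' := MorphismProperty.of_isPullback sqa haVfin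
  obtain ⟨M, b, hb, hmem⟩ := exists_open_subscheme a' ha'fin (repWith_mono' etale_le_flat ha'e)
    (repWith_mono' etale_le_lfp ha'e) ha's
  haveI : IsAffine Vo.left := isAffine_of_isAffineHom aTo.left
  have hv' : Points.ofPt a' v' ∈ Set.range (Points.ofPt b) :=
    hmem v' ⟨⊤, isAffineOpen_top _, fun _ _ => trivial⟩
  have hs'' : SchPt X' (Points.ofPt aV v') := by
    obtain ⟨m, hm⟩ := hv'
    refine ⟨M, b ≫ openSubι X' Wset,
      MorphismProperty.comp_mem _ _ _ hb (repWith_isOpenImmersion_openSubι X' Wset hWset), m, ?_⟩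
    rw [← Points.map_ofPt, hm, Points.map_ofPt, ha'1]
  -- transfer to `X₁`
  have sq := IsPullback.of_hasPullback f ((yon S).map (πb A τ P))
  obtain ⟨X₁, p, q, sq⟩ : ∃ (X₁ : Sp S) (p : X₁ ⟶ X) (q : X₁ ⟶ (yon S).obj (Tb A τ P)),
      IsPullback p q f ((yon S).map (πb A τ P)) := ⟨_, _, _, sq⟩
  have hwj : pr ≫ f = (q' ≫ (yon S).map κ) ≫ (yon S).map (πb A τ P) := by
    rw [sq'.w, Category.assoc, ← Functor.map_comp, hκ]
  obtain ⟨jX, hjX1, hjX2⟩ : ∃ jX : X' ⟶ X₁, jX ≫ p = pr ∧ jX ≫ q = q' ≫ (yon S).map κ :=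
    ⟨sq.lift _ _ hwj, sq.lift_fst _ _ _, sq.lift_snd _ _ _⟩
  have sqj : IsPullback jX q' q ((yon S).map κ) := by
    refine IsPullback.of_right ?_ hjX2 sq
    rw [hjX1, ← Functor.map_comp, hκ]
    exact sq'
  have hjX : RepWith @IsOpenImmersion jX :=
    MorphismProperty.of_isPullback sqj.flip ((repWith_yon_map_iff _ _).2 ‹IsOpenImmersion κ.left›)
  have hs' : SchPt X₁ (Points.map jX (Points.ofPt aV v')) := hs''.map jX hjX
  have := schPt_of_tower P.natDegree A τ P hP le_rfl X hX f hqf hsep X₁ p q sq _ hs'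
  rw [← Points.map_comp, hjX1, Points.map_ofPt, haV1, SpUC.ofPt_comp_yon_map] at this
  exact this

/-- **Affine base.** An algebraic space separated and locally quasi-finite over an affine scheme
has all its points in the schematic locus. -/
theorem schPt_of_affine_base {A : CommRingCat.{u}} {τ : Spec A ⟶ S} {X : Sp S}
    (hX : IsAlgSpace X) (f : X ⟶ (yon S).obj (Over.mk τ))
    (hqf : LocP (@LocallyQuasiFinite ⊓ @LocallyOfFiniteType) f) (hsep : IsSeparatedMor f)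
    (x : Points X) : SchPt X x := by
  obtain ⟨W, c₀, hc₀e, hc₀s⟩ := hX.atlas
  obtain ⟨w₀, rfl⟩ := exists_ofPt_eq c₀ hc₀s x
  obtain ⟨U₀, hU₀, hw₀, -⟩ := exists_isAffineOpen_mem_and_subset (x := w₀) (U := ⊤) trivial
  obtain ⟨U, hUdef⟩ : ∃ U : Over S, U = Over.mk (U₀.ι ≫ W.hom) := ⟨_, rfl⟩
  subst hUdef
  let iU : Over.mk (U₀.ι ≫ W.hom) ⟶ W := Over.homMk U₀.ι rfl
  obtain ⟨c, hc⟩ : ∃ c, c = (yon S).map iU ≫ c₀ := ⟨_, rfl⟩
  have hce : RepWith @Etale c := by
    rw [hc]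
    exact MorphismProperty.comp_mem _ _ _
      ((repWith_yon_map_iff _ _).2 (inferInstanceAs (Etale U₀.ι))) hc₀e
  let u : ↥(Over.mk (U₀.ι ≫ W.hom)).left := ⟨w₀, hw₀⟩
  have hu : Points.ofPt c u = Points.ofPt c₀ w₀ := by
    rw [hc]
    exact SpUC.ofPt_comp_yon_map iU c₀ u
  haveI : IsAffine (Over.mk (U₀.ι ≫ W.hom)).left := hU₀
  obtain ⟨g₀, hg₀⟩ := (yon S).map_surjective (c ≫ f)
  have hgqf : (@LocallyQuasiFinite ⊓ @LocallyOfFiniteType : MorphismProperty Scheme.{u}) g₀.left :=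
    hqf c (𝟙 _) g₀ hce (repWith_id _ _) (by rw [hg₀, Category.comp_id])
  haveI : LocallyQuasiFinite g₀.left := hgqf.1
  haveI : LocallyOfFiniteType g₀.left := hgqf.2
  haveI : IsAffine (Over.mk τ).left := inferInstanceAs (IsAffine (Spec A))
  haveI : IsSeparated g₀.left := inferInstance
  obtain ⟨U₁, g₁, hg₁, -, V, -, v, -, hVfin, hv⟩ :=
    exists_etale_isCompl_of_quasiFiniteAt g₀.left rfl (g₀.left.quasiFiniteAt u)
  haveI : Etale g₁ := hg₁
  haveI : IsFinite (V.ι ≫ pullback.snd g₀.left g₁) := hVfin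
  obtain ⟨P, hP, T', j, k, hT', hj, hk, ⟨t'', ht''⟩, hjk⟩ :=
    exists_standard_etale_nbhd (A := A) g₁ (pullback.snd g₀.left g₁ v.1)
  -- the finite part over `T'`
  let aT : pullback (V.ι ≫ pullback.snd g₀.left g₁) j ⟶ T' := pullback.snd _ _
  let aU : pullback (V.ι ≫ pullback.snd g₀.left g₁) j ⟶ (Over.mk (U₀.ι ≫ W.hom)).left :=
    pullback.fst _ _ ≫ V.ι ≫ pullback.fst g₀.left g₁
  haveI : IsFinite aT := inferInstanceAs (IsFinite (pullback.snd _ _))
  haveI : Etale aU := inferInstanceAs (Etale (pullback.fst _ _ ≫ V.ι ≫ pullback.fst g₀.left g₁))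
  have hcompat : aU ≫ g₀.left = aT ≫ j ≫ g₁ := by
    change (pullback.fst _ _ ≫ V.ι ≫ pullback.fst g₀.left g₁) ≫ g₀.left = pullback.snd _ _ ≫ j ≫ g₁
    rw [Category.assoc, Category.assoc, pullback.condition, ← Category.assoc V.ι,
      ← Category.assoc, pullback.condition, Category.assoc]
  haveI : IsAffine (Over.mk (j ≫ g₁ ≫ τ)).left := hT'
  let ε : Over.mk (j ≫ g₁ ≫ τ) ⟶ Over.mk τ := Over.homMk (j ≫ g₁) (Category.assoc _ _ _)
  haveI : Etale ε.left := inferInstanceAs (Etale (j ≫ g₁))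
  have hκw : k ≫ (Tb A τ P).hom = (Over.mk (j ≫ g₁ ≫ τ)).hom := by
    change k ≫ Spec.map (ofHom A P) ≫ τ = j ≫ g₁ ≫ τ
    rw [← Category.assoc, ← hjk, Category.assoc]
  let κ : Over.mk (j ≫ g₁ ≫ τ) ⟶ Tb A τ P := Over.homMk k hκw
  haveI : IsOpenImmersion κ.left := hk
  have hκ : κ ≫ πb A τ P = ε := by
    ext1
    exact hjk.symm
  let aTo : Over.mk (aT ≫ j ≫ g₁ ≫ τ) ⟶ Over.mk (j ≫ g₁ ≫ τ) := Over.homMk aT rfl
  have haUw : aU ≫ (Over.mk (U₀.ι ≫ W.hom)).hom = (Over.mk (aT ≫ j ≫ g₁ ≫ τ)).hom := by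
    have h1 : g₀.left ≫ τ = U₀.ι ≫ W.hom := Over.w g₀
    change aU ≫ U₀.ι ≫ W.hom = aT ≫ j ≫ g₁ ≫ τ
    calc aU ≫ U₀.ι ≫ W.hom = aU ≫ g₀.left ≫ τ := congrArg (aU ≫ ·) h1.symm
      _ = (aU ≫ g₀.left) ≫ τ := (Category.assoc _ _ _).symm
      _ = (aT ≫ j ≫ g₁) ≫ τ := congrArg (· ≫ τ) hcompat
      _ = aT ≫ j ≫ g₁ ≫ τ := by simp only [Category.assoc]
  let aUo : Over.mk (aT ≫ j ≫ g₁ ≫ τ) ⟶ Over.mk (U₀.ι ≫ W.hom) := Over.homMk aU haUw
  haveI : IsFinite aTo.left := inferInstanceAs (IsFinite aT)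
  haveI : Etale aUo.left := inferInstanceAs (Etale aU)
  have hcompat' : aUo ≫ g₀ = aTo ≫ ε := by
    ext1
    exact hcompat
  obtain ⟨v', hv'1, hv'2⟩ := Scheme.Pullback.exists_preimage_pullback
    (f := V.ι ≫ pullback.snd g₀.left g₁) (g := j) v t'' ht''.symm
  have := schPt_of_local_data hX f hqf hsep c hce g₀ hg₀ P hP (Over.mk (j ≫ g₁ ≫ τ)) ε κ hκ
    (Over.mk (aT ≫ j ≫ g₁ ≫ τ)) aTo aUo hcompat' v'
  rw [← hu]
  convert this using 2
  change u = (pullback.fst _ _ ≫ V.ι ≫ pullback.fst g₀.left g₁) v'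
  rw [Scheme.Hom.comp_apply, hv'1]
  exact hv.symm

end Groth.Agent.Lib.Helper3.Rep0418
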