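import Mathlib
import Groth.Agent.Lib.Helper3.Rep0418F

set_option autoImplicit false
universe u

namespace Groth.Agent.Lib.Helper3.Rep0418

open CategoryTheory CategoryTheory.Limits AlgebraicGeometry Opposite AlgSp Polynomial
open Groth.Agent.Lib.Helper3 Groth.Agent.Lib.Helper3.Rep0418Alg
open Groth.Agent.Lib.Helper3.OpenSch Groth.Agent.Lib.Helper3.SchemLocus

variable {S : Scheme.{u}}

/-- An algebraic space separated and locally quasi-finite over a scheme has all its points in the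
schematic locus. -/
theorem schPt_of_lqf_separated {T : Over S} {X : Sp S} (hX : IsAlgSpace X)
    (f : X ⟶ (yon S).obj T)
    (hqf : LocP (@LocallyQuasiFinite ⊓ @LocallyOfFiniteType) f) (hsep : IsSeparatedMor f)
    (x : Points X) : SchPt X x := by
  obtain ⟨W, c₀, hc₀e, hc₀s⟩ := hX.atlas
  obtain ⟨w₀, rfl⟩ := exists_ofPt_eq c₀ hc₀s x
  obtain ⟨g₀, hg₀⟩ := (yon S).map_surjective (c₀ ≫ f)
  obtain ⟨T₀, hT₀, htT₀, -⟩ :=
    exists_isAffineOpen_mem_and_subset (x := g₀.left w₀) (U := ⊤) trivial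
  let τ : Spec Γ(T.left, T₀) ⟶ S := hT₀.fromSpec ≫ T.hom
  let i₀ : Over.mk τ ⟶ T := Over.homMk hT₀.fromSpec rfl
  have hi₀ : RepWith @IsOpenImmersion ((yon S).map i₀) :=
    (repWith_yon_map_iff _ _).2 (inferInstanceAs (IsOpenImmersion hT₀.fromSpec))
  have sq := IsPullback.of_hasPullback f ((yon S).map i₀)
  obtain ⟨X₀, j₀, f₀, sq⟩ : ∃ (X₀ : Sp S) (j₀ : X₀ ⟶ X) (f₀ : X₀ ⟶ (yon S).obj (Over.mk τ)),
      IsPullback j₀ f₀ f ((yon S).map i₀) := ⟨_, _, _, sq⟩
  have hX₀ : IsAlgSpace X₀ :=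
    isAlgSpace_of_isPullback' (IsAlgSpace.yon_obj _) hX (IsAlgSpace.yon_obj _) sq
  have hf₀ : LocP (@LocallyQuasiFinite ⊓ @LocallyOfFiniteType) f₀ :=
    locP_of_isPullback isEtLocal_locallyQuasiFinite hX (IsAlgSpace.yon_obj _)
      (IsAlgSpace.yon_obj _) hX₀ f _ j₀ f₀ sq hqf
  have hf₀sep : IsSeparatedMor f₀ := repWith_diagonal_of_isPullback @IsClosedImmersion sq hsep
  have hj₀ : RepWith @IsOpenImmersion j₀ := MorphismProperty.of_isPullback sq.flip hi₀
  -- the point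
  obtain ⟨s, hs⟩ : g₀.left w₀ ∈ Set.range hT₀.fromSpec := by
    rw [hT₀.range_fromSpec]; exact htT₀
  obtain ⟨x₀, hx₀, -⟩ := Points.exists_of_isPullback sq (Points.ofPt c₀ w₀)
    (Points.ofScheme (Over.mk τ) s) (by
      rw [Points.map_ofPt, ← hg₀, SpUC.ofPt_yon_map, ← Points.ofPt_eq_map_ofScheme,
        SpUC.ofPt_yon_map]
      exact congrArg _ hs.symm)
  rw [← hx₀]
  exact (schPt_of_affine_base hX₀ f₀ hf₀ hf₀sep x₀).map j₀ hj₀

/-- An algebraic space all of whose points lie in the schematic locus is a scheme. -/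
theorem isRepresentable_of_forall_schPt {X : Sp S} (hX : IsAlgSpace X)
    (h : ∀ x : Points X, SchPt X x) : X.obj.IsRepresentable := by
  obtain ⟨W, c₀, hc₀e, hc₀s⟩ := hX.atlas
  have hch : ∀ w : ↥W.left, SchPt X (Points.ofPt c₀ w) := fun w => h _
  choose M b hb hmem using hch
  have hs : ∀ x : Points X, ∃ (i : ↥W.left) (u : ↥(M i).left), Points.ofPt (b i) u = x := by
    intro x
    obtain ⟨w, rfl⟩ := exists_ofPt_eq c₀ hc₀s x
    obtain ⟨u, hu⟩ := hmem w
    exact ⟨w, u, hu⟩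
  obtain ⟨G, e, -⟩ := exists_iso_yon_of_openCover b hb hs
  exact ⟨G, ⟨AlgSp.representableByOfIso e⟩⟩

theorem main10259 (T : Over S) (X : AlgSp.Space S)
    (f : X ⟶ (AlgSp.ofScheme S).obj T)
    (hqf : AlgSp.LocP (@LocallyQuasiFinite ⊓ @LocallyOfFiniteType) f.hom)
    (hsep : AlgSp.IsSeparatedMor f.hom) :
    X.obj.obj.IsRepresentable :=
  isRepresentable_of_forall_schPt X.property
    (fun x => schPt_of_lqf_separated X.property f.hom hqf hsep x)

end Groth.Agent.Lib.Helper3.Rep0418
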