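import Groth.Agent.Lib.Helper3.AffDescAffine
import Groth.Agent.S9883
import Mathlib.AlgebraicGeometry.Morphisms.Etale
import Mathlib.AlgebraicGeometry.Morphisms.UniversallyOpen

set_option autoImplicit false

universe u
open CategoryTheory CategoryTheory.Limits AlgebraicGeometry Opposite AlgSp

namespace Groth.Agent.Lib.Helper3.AffDesc

/-- An etale surjective morphism to a quasi-compact scheme is refined by an etale surjective
morphism from an affine scheme. -/
theorem exists_affine_etale_cover {Y Z : Scheme.{u}} [CompactSpace ↥Z] (g : Y ⟶ Z) [Etale g]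
    [Surjective g] :
    ∃ (V : Scheme.{u}) (j : V ⟶ Y), IsAffine V ∧ Etale j ∧ Surjective (j ≫ g) := by
  classical
  have key : ∀ z : ↥Z, ∃ (U : Y.Opens), IsAffineOpen U ∧ z ∈ g '' (U : Set ↥Y) := by
    intro z
    obtain ⟨y, rfl⟩ := g.surjective z
    obtain ⟨_, ⟨U, hU, rfl⟩, hyU, -⟩ := (Y.isBasis_affineOpens).exists_subset_of_mem_open
      (Set.mem_univ y) isOpen_univ
    exact ⟨U, hU, y, hyU, rfl⟩
  choose U hU hzU using key
  have hopen : ∀ z : ↥Z, IsOpen (g '' (U z : Set ↥Y)) := fun z => g.isOpenMap _ (U z).isOpen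
  obtain ⟨t, ht⟩ := isCompact_univ.elim_finite_subcover
    (fun z : ↥Z => g '' (U z : Set ↥Y)) hopen (fun z _ => Set.mem_iUnion.2 ⟨z, hzU z⟩)
  let W : (↥t) → Scheme.{u} := fun i => (U i.1 : Scheme.{u})
  have hWaff : ∀ i, IsAffine (W i) := fun i => hU i.1
  let j : (∐ W) ⟶ Y := Sigma.desc (fun i => (U i.1).ι)
  have hj : Etale j := IsZariskiLocalAtSource.sigmaDesc (P := @Etale) (fun i => inferInstance)
  refine ⟨∐ W, j, inferInstance, hj, ⟨fun z => ?_⟩⟩
  have hz := ht (Set.mem_univ z)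
  simp only [Set.mem_iUnion] at hz
  obtain ⟨z₀, hz₀, y, hy, rfl⟩ := hz
  refine ⟨(Sigma.ι W ⟨z₀, hz₀⟩) ⟨y, hy⟩, ?_⟩
  rw [Scheme.Hom.comp_apply, ← Scheme.Hom.comp_apply (Sigma.ι W ⟨z₀, hz₀⟩) j]
  have : Sigma.ι W ⟨z₀, hz₀⟩ ≫ j = (U z₀).ι := Sigma.ι_desc _ _
  rw [this]
  rfl

variable {S : Scheme.{u}}

/-- The descent square: for an affine morphism after an etale surjective base change from a scheme,
every base change to an affine scheme is an affine scheme, and it sits in a cartesian square over an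
affine etale cover. -/
theorem exists_descent_square {X Y : Sp S} (f : X ⟶ Y) (V : Over S)
    (p : (yon S).obj V ⟶ Y) (hp : RepWith @Etale p) (hps : RepWith @Surjective p)
    {P : Sp S} (fst : P ⟶ X) (snd : P ⟶ (yon S).obj V) (sq : IsPullback fst snd f p)
    (h : IsAffineMor snd) {Z : Over S} (hZ : IsAffine Z.left) (z : (yon S).obj Z ⟶ Y) :
    ∃ (W₀ V' W : Over S) (i : W₀ ⟶ Z) (fst₀ : (yon S).obj W₀ ⟶ X) (q : V' ⟶ Z) (w : W ⟶ V')
      (c : W ⟶ W₀) (g : V' ⟶ V) (fstW : (yon S).obj W ⟶ P),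
      IsPullback fst₀ ((yon S).map i) f z ∧ IsAffine W₀.left ∧ IsAffine V'.left ∧
      IsAffine W.left ∧ Etale q.left ∧ Surjective q.left ∧ IsPullback c w i q ∧
      IsPullback fstW ((yon S).map w) snd ((yon S).map g) := by
  -- the pullback of the chart
  set V₁ := hp.rep.pullback z with hV₁
  set p₁ : V₁ ⟶ Z := hp.rep.snd z with hp₁
  have sq1 : IsPullback (hp.rep.fst z) ((yon S).map p₁) p z := hp.rep.isPullback z
  have hp₁e : Etale p₁.left := hp.property_snd z
  have hp₁s : Surjective p₁.left := hps.property z (hp.rep.fst z) p₁ sq1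
  obtain ⟨V'₀, j, hV'aff, hje, hjs⟩ := exists_affine_etale_cover p₁.left
  let V' : Over S := Over.mk (j ≫ V₁.hom)
  let jO : V' ⟶ V₁ := Over.homMk j rfl
  let q : V' ⟶ Z := jO ≫ p₁
  have hqe : Etale q.left := by
    change Etale (j ≫ p₁.left)
    infer_instance
  have hqs : Surjective q.left := hjs
  obtain ⟨g₁, hg₁⟩ := (yon S).map_surjective (hp.rep.fst z)
  let g : V' ⟶ V := jO ≫ g₁
  have hgq : (yon S).map g ≫ p = (yon S).map q ≫ z := by
    change (yon S).map (jO ≫ g₁) ≫ p = (yon S).map (jO ≫ p₁) ≫ z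
    rw [CategoryTheory.Functor.map_comp, CategoryTheory.Functor.map_comp, Category.assoc,
      Category.assoc, hg₁, sq1.w]
  have hV'aff' : IsAffine V'.left := hV'aff
  obtain ⟨W, w, fstW, sqW, hWaff⟩ := h hV'aff' ((yon S).map g)
  have sq6 : IsPullback (fstW ≫ fst) ((yon S).map w) f ((yon S).map q ≫ z) := by
    rw [← hgq]
    exact sqW.paste_horiz sq
  have t := IsPullback.of_hasPullback f z
  have sq7 := IsPullback.of_right' sq6 t
  have hq : Sheaf.IsLocallySurjective ((yon S).map q) :=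
    Groth.Agent.S9883.isLocallySurjective_of_etale_surjective _
      ((repWith_yon_map_iff _ q).2 hqe) ((repWith_yon_map_iff _ q).2 hqs)
  have : Flat q.left := inferInstance
  obtain ⟨W₀, i, c, e, hW₀aff, he1, he2, sqS⟩ :=
    exists_affine_of_cover q w hq (pullback.snd f z) _ sq7
  refine ⟨W₀, V', W, i, e.hom ≫ pullback.fst f z, q, w, c, g, fstW, ?_, hW₀aff, hV'aff', hWaff,
    hqe, hqs, sqS, sqW⟩
  refine IsPullback.of_iso t e.symm (Iso.refl _) (Iso.refl _) (Iso.refl _) ?_ ?_ ?_ ?_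
  · simp
  · simp only [Iso.refl_hom, Category.comp_id, Iso.symm_hom]
    rw [← he1, Iso.inv_hom_id_assoc]
  · simp
  · simp

end Groth.Agent.Lib.Helper3.AffDesc
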