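import Mathlib
import Groth.Agent.Lib.Helper3.AlgSpRepLocal
import Groth.Agent.Lib.Helper3.AlgSpZarDecent
import Groth.Prelude.Def_AlgSpMor5
import Groth.Prelude.Def_AlgSpCov
set_option autoImplicit false
universe u
open CategoryTheory CategoryTheory.Limits AlgebraicGeometry TopologicalSpace Opposite

namespace Groth.Agent.Lib.Helper3

open AlgSp

variable {S : Scheme.{u}}

theorem isIntegralMor_iff_repWith {X Y : Sp S} (f : X ⟶ Y) :
    IsIntegralMor f ↔ RepWith @IsIntegralHom f := by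
  refine ⟨fun hf => ?_, fun hf Z hZ g => ?_⟩
  · have hrep : Representable f :=
      representable_of_affine f (fun Z hZ g => by
        obtain ⟨W, i, fst, sq, -⟩ := hf hZ g
        exact ⟨W, i, fst, sq⟩)
    refine repWith_of_affine @IsIntegralHom f hrep (fun Z hZ g => ?_)
    obtain ⟨W, i, fst, sq, hW, hi⟩ := hf hZ g
    exact ⟨W, i, fst, sq, hi⟩
  · have hi : IsIntegralHom (hf.rep.snd g).left := hf.property_snd g
    have : IsAffine Z.left := hZ
    exact ⟨hf.rep.pullback g, hf.rep.snd g, hf.rep.fst g, hf.rep.isPullback g,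
      isAffine_of_isAffineHom (hf.rep.snd g).left, hi⟩

theorem isFiniteMor_iff_repWith {X Y : Sp S} (f : X ⟶ Y) :
    IsFiniteMor f ↔ RepWith @IsFinite f := by
  refine ⟨fun hf => ?_, fun hf Z hZ g => ?_⟩
  · have hrep : Representable f :=
      representable_of_affine f (fun Z hZ g => by
        obtain ⟨W, i, fst, sq, -⟩ := hf hZ g
        exact ⟨W, i, fst, sq⟩)
    refine repWith_of_affine @IsFinite f hrep (fun Z hZ g => ?_)
    obtain ⟨W, i, fst, sq, hW, hi⟩ := hf hZ g
    exact ⟨W, i, fst, sq, hi⟩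
  · have hi : IsFinite (hf.rep.snd g).left := hf.property_snd g
    have : IsAffine Z.left := hZ
    exact ⟨hf.rep.pullback g, hf.rep.snd g, hf.rep.fst g, hf.rep.isPullback g,
      isAffine_of_isAffineHom (hf.rep.snd g).left, hi⟩

theorem isAffineMor_iff_repWith {X Y : Sp S} (f : X ⟶ Y) :
    IsAffineMor f ↔ RepWith @IsAffineHom f := by
  refine ⟨fun hf => ?_, fun hf Z hZ g => ?_⟩
  · have hrep : Representable f :=
      representable_of_affine f (fun Z hZ g => by
        obtain ⟨W, i, fst, sq, -⟩ := hf hZ g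
        exact ⟨W, i, fst, sq⟩)
    refine repWith_of_affine @IsAffineHom f hrep (fun Z hZ g => ?_)
    obtain ⟨W, i, fst, sq, hW⟩ := hf hZ g
    have : IsAffine W.left := hW
    have : IsAffine Z.left := hZ
    exact ⟨W, i, fst, sq, inferInstance⟩
  · have hi : IsAffineHom (hf.rep.snd g).left := hf.property_snd g
    have : IsAffine Z.left := hZ
    exact ⟨hf.rep.pullback g, hf.rep.snd g, hf.rep.fst g, hf.rep.isPullback g,
      isAffine_of_isAffineHom (hf.rep.snd g).left⟩

theorem finLocFree_eq : (finLocFree.{u}) =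
    (@IsFinite ⊓ @Flat ⊓ @LocallyOfFinitePresentation : MorphismProperty Scheme.{u}) := by
  ext X Y f
  exact ⟨fun h => ⟨⟨h.1, h.2.1⟩, h.2.2⟩, fun h => ⟨h.1.1, h.1.2, h.2⟩⟩

instance : IsZariskiLocalAtTarget finLocFree.{u} := by
  rw [finLocFree_eq]; infer_instance

/-- Representability with a Zariski-local property can be checked over a Zariski covering of the
target. -/
theorem repWith_of_zarCover (P : MorphismProperty Scheme.{u}) [IsZariskiLocalAtTarget P]
    {X Y : Sp S} (f : X ⟶ Y) {ι : Type u} (Yi : ι → Sp S) (j : ∀ i, Yi i ⟶ Y)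
    (hj : IsZarCover Yi j) (Xi : ι → Sp S) (p : ∀ i, Xi i ⟶ X) (q : ∀ i, Xi i ⟶ Yi i)
    (sq : ∀ i, IsPullback (p i) (q i) f (j i)) (h : ∀ i, RepWith P (q i)) : RepWith P f := by
  have key : ∀ ⦃T : Over S⦄ (g : (yon S).obj T ⟶ Y) (i : ι),
      ∃ (V : Over S) (fst : (yon S).obj V ⟶ X) (snd : V ⟶ (hj.1 i).rep.pullback g),
        IsPullback fst ((yon S).map snd) f ((yon S).map ((hj.1 i).rep.snd g) ≫ g) ∧
          P snd.left := by
    intro T g i
    have sq1 := (h i).rep.isPullback ((hj.1 i).rep.fst g)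
    have sq2 := sq1.paste_horiz (sq i)
    rw [(hj.1 i).rep.w g] at sq2
    exact ⟨_, _, _, sq2, (h i).property_snd _⟩
  have hcov : ∀ ⦃T : Over S⦄ (g : (yon S).obj T ⟶ Y) (t : ↥T.left),
      ∃ i, t ∈ Set.range ((hj.1 i).rep.snd g).left := by
    intro T g t
    obtain ⟨i, y, hy⟩ := hj.2 (Points.ofPt g t)
    rw [Points.ofPt_eq_map_ofScheme] at hy
    obtain ⟨z, -, hz⟩ := Points.exists_of_isPullback ((hj.1 i).rep.isPullback g) y _ hy
    obtain ⟨w, rfl⟩ := (Points.schemeHomeo _).surjective z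
    refine ⟨i, w, ?_⟩
    apply (Points.schemeHomeo T).injective
    rw [← Points.map_yon_map_apply]
    exact hz
  have hrep : Representable f := by
    intro T g
    refine exists_isPullback_of_openCover f g (fun i => (hj.1 i).rep.pullback g)
      (fun i => (hj.1 i).rep.snd g) (fun i => (hj.1 i).property_snd g) (hcov g) (fun i => ?_)
    obtain ⟨V, fst, snd, sqV, -⟩ := key g i
    exact ⟨V, snd, fst, sqV⟩
  refine repWith_of_forall_openCover P f hrep (fun T g => ?_)
  let 𝒰 : T.left.OpenCover :=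
    { I₀ := ι
      X := fun i => ((hj.1 i).rep.pullback g).left
      f := fun i => ((hj.1 i).rep.snd g).left
      mem₀ := by
        rw [Scheme.presieve₀_mem_precoverage_iff]
        exact ⟨hcov g, fun i => (hj.1 i).property_snd g⟩ }
  refine ⟨𝒰, fun i => ?_⟩
  obtain ⟨V, fst, snd, sqV, hP⟩ := key g i
  let e : (hj.1 i).rep.pullback g ≅ Over.mk (𝒰.f i ≫ T.hom) :=
    Over.isoMk (Iso.refl _) (by
      change 𝟙 _ ≫ ((hj.1 i).rep.snd g).left ≫ T.hom = _
      rw [Category.id_comp, Over.w])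
  have he : e.hom ≫ (Over.homMk (𝒰.f i) rfl : Over.mk (𝒰.f i ≫ T.hom) ⟶ T) =
      (hj.1 i).rep.snd g := by
    ext
    change 𝟙 _ ≫ ((hj.1 i).rep.snd g).left = _
    rw [Category.id_comp]
  refine ⟨V, fst, snd ≫ e.hom, ?_, ?_⟩
  · refine IsPullback.of_iso sqV (Iso.refl _) (Iso.refl _) ((yon S).mapIso e) (Iso.refl _)
      (by simp) (by simp) (by simp) ?_
    rw [Iso.refl_hom, Category.comp_id, Functor.mapIso_hom, ← Category.assoc, ← Functor.map_comp,
      he]
  · change P (snd.left ≫ 𝟙 _)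
    rw [Category.comp_id]
    exact hP

end Groth.Agent.Lib.Helper3
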