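import Groth.Agent.Lib.Helper3.AlgSpQC5
import Mathlib.AlgebraicGeometry.Morphisms.UniversallyOpen

set_option autoImplicit false
universe u
open CategoryTheory CategoryTheory.Limits AlgebraicGeometry Opposite MorphismProperty

namespace Groth.Agent.Lib.Helper3

variable {S : Scheme.{u}}

open AlgSp

/-- If `u` is surjective (universally) and `u ≫ p` is universally open then so is `p`. -/
theorem isUnivOpenMor_of_comp_surjective {W X Y : Sp S} (u : W ⟶ X) (p : X ⟶ Y)
    (hus : RepWith @Surjective u) (h : IsUnivOpenMor (u ≫ p)) : IsUnivOpenMor p := by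
  intro Z Z' hZ k fst snd sq
  have sqN := IsPullback.of_hasPullback u fst
  have sqP := sqN.paste_vert sq
  have hopen : IsOpenMap (Points.map (pullback.snd u fst ≫ snd)) := h hZ k _ _ sqP
  have hsurj : IsSurjectiveMor (pullback.snd u fst) :=
    isSurjectiveMor_snd_of_isPullback sqN (isSurjectiveMor_of_repWith hus)
  intro Ω hΩ
  have : Points.map snd '' Ω =
      Points.map (pullback.snd u fst ≫ snd) '' (Points.map (pullback.snd u fst) ⁻¹' Ω) := by
    ext y
    constructor
    · rintro ⟨z, hz, rfl⟩
      obtain ⟨n, rfl⟩ := hsurj z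
      exact ⟨n, hz, Points.map_comp _ _ n⟩
    · rintro ⟨n, hn, rfl⟩
      exact ⟨_, hn, (Points.map_comp _ _ n).symm⟩
  rw [this]
  exact hopen _ (hΩ.preimage (Points.continuous_map _))

theorem universallyOpen_to_field {A : Scheme.{u}} {k : Type u} [Field k]
    (g : A ⟶ Spec (CommRingCat.of k)) : UniversallyOpen g := inferInstance

/-- A morphism from an algebraic space to the spectrum of a field is universally open. -/
theorem isUnivOpenMor_to_field {X : Sp S} (hX : IsAlgSpace X) {k : Type u} [Field k]
    (str : Spec (CommRingCat.of k) ⟶ S) (p : X ⟶ (yon S).obj (Over.mk str)) :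
    IsUnivOpenMor p := by
  obtain ⟨U, u, -, hus⟩ := hX.atlas
  refine isUnivOpenMor_of_comp_surjective u p hus ?_
  obtain ⟨φ, hφ⟩ := (yon S).map_surjective (u ≫ p)
  rw [← hφ]
  refine isUnivOpenMor_of_repWith ((repWith_yon_map_iff _ φ).2 ?_)
  exact universallyOpen_to_field (k := k) φ.left

end Groth.Agent.Lib.Helper3
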