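import Groth.Agent.Lib.Helper3.ReducedDescent
import Groth.Agent.Lib.Helper3.AlgSpChartPts
import Groth.Agent.Lib.Helper3.AlgSpChartSurj
import Groth.Prelude.Def_AlgSpEt
import Groth.Prelude.Def_AlgSpSub

set_option autoImplicit false
universe u
open CategoryTheory CategoryTheory.Limits AlgebraicGeometry Opposite

namespace Groth.Agent.Lib.Helper3

open AlgSp

/-- Every scheme etale over a reduced sheaf (in the etale-local sense) is reduced. -/
theorem isReduced_of_isReducedSp {S : Scheme.{u}} {X : Sp S} (hX : IsReducedSp X) (E : EtOver X) :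
    IsReduced E.obj.left.left := by
  obtain ⟨U, a, hae, has, hU⟩ := hX
  obtain ⟨W, pE, pU, sq⟩ := exists_pullback_charts E.obj.hom E.property.1 a
  have hpU : Etale pU.left := E.property.2 a ((yon S).map pE) pU sq
  have hpE : Etale pE.left := hae.2 E.obj.hom ((yon S).map pU) pE sq.flip
  have hpEs : Surjective pE.left := has.2 E.obj.hom ((yon S).map pU) pE sq.flip
  have : IsReduced U.left := hU
  have hWr : IsReduced W.left := isReduced_of_etale_scheme pU.left
  exact isReduced_of_flat_surjective pE.left

end Groth.Agent.Lib.Helper3
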