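import Groth.Agent.S9966
import Groth.Agent.Lib.Helper3.AlgSpLocP5
import Groth.Agent.Lib.Helper3.AlgSpQC5
import Groth.Agent.Lib.Helper3.AlgSpReducedChart
set_option autoImplicit false
universe u
open CategoryTheory CategoryTheory.Limits AlgebraicGeometry Opposite AlgSp

namespace Groth.Agent.Lib.Helper3.SchIm

variable {S : Scheme.{u}}

/-- Etale morphisms of algebraic spaces are stable under base change. -/
theorem isEtaleMor_of_isPullback {X Y Y' X' : Sp S} (hX : IsAlgSpace X) (hY : IsAlgSpace Y)
    (hY' : IsAlgSpace Y') (hX' : IsAlgSpace X') {f : X ⟶ Y} {g : Y' ⟶ Y} {fst : X' ⟶ X}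
    {f' : X' ⟶ Y'} (sq : IsPullback fst f' f g) (hf : IsEtaleMor f) : IsEtaleMor f' :=
  (isEtaleMor_iff_locP_etale hX' hY').2
    (locP_of_isPullback isEtLocal_etale hX hY hY' hX' f g fst f' sq
      ((isEtaleMor_iff_locP_etale hX hY).1 hf))

/-- An algebraic space etale over a reduced one is reduced. -/
theorem isReducedSp_of_isEtaleMor {X' X : Sp S} (hX' : IsAlgSpace X') (f : X' ⟶ X)
    (hf : IsEtaleMor f) (hred : IsReducedSp X) : IsReducedSp X' := by
  obtain ⟨W, a, hae, has⟩ := hX'.atlas
  exact ⟨W, a, hae, has, isReduced_of_isReducedSp hred (EtOver.mk (a ≫ f) (hf a hae))⟩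

/-- An etale morphism of algebraic spaces is open on points. -/
theorem isOpenMap_map_of_isEtaleMor {F G : Sp S} (hF : IsAlgSpace F) (hG : IsAlgSpace G)
    {g : F ⟶ G} (hg : IsEtaleMor g) : IsOpenMap (Points.map g) :=
  isUnivOpenMor_of_isEtaleMor hF hg hG (𝟙 G) (𝟙 F) g (IsPullback.of_horiz_isIso ⟨by simp⟩)

/-- The image of a closed immersion is closed. -/
theorem isClosed_range_of_closedImmersion {Z Y : Sp S} (i : Z ⟶ Y)
    (hi : RepWith @IsClosedImmersion i) : IsClosed (Set.range (Points.map i)) := by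
  have huc : RepWith @UniversallyClosed i :=
    MorphismProperty.relative_monotone (fun A B φ hφ => by
      have : IsClosedImmersion ((Over.forget S).map φ) := hφ
      change UniversallyClosed ((Over.forget S).map φ)
      infer_instance) _ hi
  rw [← Set.image_univ]
  exact isClosedMap_map_of_repWith huc _ isClosed_univ

/-- For a reduced source, the reduced induced structure on the closure of the image is the
scheme theoretic image. -/
theorem isSchImage_of_isRedInduced {X Y Z : Space S} (f : X ⟶ Y) (i : Z ⟶ Y)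
    (hX : IsReducedSp X.obj)
    (hi : IsRedInduced (closure (Set.range (Points.map f.hom))) i.hom) :
    IsSchImage f.hom i.hom := by
  obtain ⟨hcl, hr, hred⟩ := hi
  refine ⟨hcl, ?_, ?_⟩
  · obtain ⟨g, hg⟩ := (Groth.Agent.S10193.result i hcl hX f).2 (by rw [hr]; exact subset_closure)
    exact ⟨g.hom, congrArg (fun φ => φ.hom) hg⟩
  · rintro Z' i' hZ' hi' ⟨f'', hf''⟩
    have hclosed := isClosed_range_of_closedImmersion i' hi'
    have hsub : Set.range (Points.map f.hom) ⊆ Set.range (Points.map i') := by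
      rintro _ ⟨x, rfl⟩
      exact ⟨Points.map f'' x, by rw [← Points.map_comp, hf'']⟩
    obtain ⟨k, hk⟩ := (Groth.Agent.S10193.result (Z := ⟨Z', hZ'⟩) (ObjectProperty.homMk i') hi'
      hred i).2 (by
        rw [hr]; exact hclosed.closure_subset_iff.2 hsub)
    exact ⟨k.hom, congrArg (fun φ => φ.hom) hk⟩

end Groth.Agent.Lib.Helper3.SchIm
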