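import Groth.Agent.Lib.Helper3.FieldOfDiscrete

set_option autoImplicit false
universe u
open CategoryTheory CategoryTheory.Limits AlgebraicGeometry

namespace Groth.Agent.Lib.Helper3

/-- The localization of a reduced ring at a minimal prime is a field. -/
theorem isField_localization_minimalPrime (A : Type u) [CommRing A] [IsReduced A] (p : Ideal A)
    (hp : p ∈ minimalPrimes A) :
    haveI : p.IsPrime := hp.1.1
    IsField (Localization.AtPrime p) := by
  have : p.IsPrime := hp.1.1
  have : Subsingleton (PrimeSpectrum (Localization.AtPrime p)) := by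
    have e := (IsLocalization.AtPrime.orderIsoOfPrime (Localization.AtPrime p) p).toEquiv
    have hsub : Subsingleton { q : Ideal A // q.IsPrime ∧ q ≤ p } := by
      refine ⟨fun ⟨q, hq, hqp⟩ ⟨q', hq', hq'p⟩ => ?_⟩
      have h1 : q = p := le_antisymm hqp (hp.2 ⟨hq, bot_le⟩ hqp)
      have h2 : q' = p := le_antisymm hq'p (hp.2 ⟨hq', bot_le⟩ hq'p)
      simp [h1, h2]
    have : Subsingleton { q : Ideal (Localization.AtPrime p) // q.IsPrime } := e.subsingleton
    exact (PrimeSpectrum.equivSubtype _).subsingleton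
  exact isField_of_isReduced_of_subsingleton_primeSpectrum _

/-- A nonempty reduced scheme receives a flat morphism from the spectrum of a field. -/
theorem exists_field_flat_of_isReduced (U : Scheme.{u}) [IsReduced U] [Nonempty ↥U] :
    ∃ (k : Type u) (_ : Field k) (c : Spec (CommRingCat.of k) ⟶ U), Flat c := by
  obtain ⟨u₀⟩ := (inferInstance : Nonempty ↥U)
  obtain ⟨W₀, hW₀, huW⟩ : ∃ W₀ : U.Opens, IsAffineOpen W₀ ∧ u₀ ∈ W₀ := by
    obtain ⟨_, ⟨W, hW, rfl⟩, huW, -⟩ := (U.isBasis_affineOpens).exists_subset_of_mem_open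
      (Set.mem_univ u₀) isOpen_univ
    exact ⟨W, hW, huW⟩
  have hne : Nonempty ↥W₀ := ⟨⟨u₀, huW⟩⟩
  have : Nontrivial Γ(U, W₀) := inferInstance
  have : _root_.IsReduced Γ(U, W₀) := inferInstance
  obtain ⟨⟨p, hp⟩⟩ := Ideal.nonempty_minimalPrimes (I := (⊥ : Ideal Γ(U, W₀))) bot_ne_top
  have : p.IsPrime := hp.1.1
  have hF := isField_localization_minimalPrime Γ(U, W₀) p hp
  let _ : Field (Localization.AtPrime p) := hF.toField
  refine ⟨Localization.AtPrime p, inferInstance,
    Spec.map (CommRingCat.ofHom (algebraMap Γ(U, W₀) (Localization.AtPrime p))) ≫ hW₀.fromSpec, ?_⟩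
  have : Flat (Spec.map (CommRingCat.ofHom (algebraMap Γ(U, W₀) (Localization.AtPrime p)))) := by
    rw [Flat.SpecMap_iff]
    change (algebraMap Γ(U, W₀) (Localization.AtPrime p)).Flat
    rw [RingHom.flat_algebraMap_iff]
    exact IsLocalization.flat _ p.primeCompl
  infer_instance

end Groth.Agent.Lib.Helper3
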