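import Groth.Agent.Lib.Helper12.EtaleReduced
import Mathlib.AlgebraicGeometry.Properties
import Mathlib.AlgebraicGeometry.Morphisms.Etale
import Mathlib.AlgebraicGeometry.Morphisms.Smooth
import Mathlib.Algebra.MvPolynomial.Nilpotent
import Mathlib.RingTheory.Unramified.LocalStructure
import Mathlib.RingTheory.LocalProperties.Reduced

set_option autoImplicit false
universe u
open CategoryTheory CategoryTheory.Limits AlgebraicGeometry MorphismProperty

namespace Groth.Agent.Lib.Helper3

/-- A scheme covered by affine opens with reduced rings of sections is reduced. -/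
theorem isReduced_of_affine_opens_cover {W : Scheme.{u}}
    (H : ∀ w : W, ∃ W₀ : W.Opens, IsAffineOpen W₀ ∧ w ∈ W₀ ∧ _root_.IsReduced Γ(W, W₀)) :
    IsReduced W := by
  choose W₀ hW₀ hw hred using H
  have hcov : TopologicalSpace.IsOpenCover W₀ := by
    refine TopologicalSpace.IsOpenCover.mk ?_
    rw [eq_top_iff]
    rintro w -
    exact TopologicalSpace.Opens.mem_iSup.2 ⟨w, hw w⟩
  have : ∀ i, IsReduced ((W.openCoverOfIsOpenCover W₀ hcov).X i) := fun i => by
    have h1 : IsAffine (Scheme.Opens.toScheme (W₀ i)) := hW₀ i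
    have h2 : _root_.IsReduced Γ(Scheme.Opens.toScheme (W₀ i), ⊤) :=
      have := hred i
      isReduced_of_injective (W₀ i).topIso.hom.hom
        (W₀ i).topIso.commRingCatIsoToRingEquiv.injective
    exact isReduced_of_isAffine_isReduced (X := Scheme.Opens.toScheme (W₀ i))
  exact IsReduced.of_openCover W (W.openCoverOfIsOpenCover W₀ hcov)

/-- A scheme etale over a reduced scheme is reduced. -/
theorem isReduced_of_etale_scheme {W U : Scheme.{u}} (c : W ⟶ U) [Etale c] [IsReduced U] :
    IsReduced W := by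
  refine isReduced_of_affine_opens_cover fun w => ?_
  obtain ⟨_, ⟨U₀, hU₀, rfl⟩, hwU₀, -⟩ :=
    U.isBasis_affineOpens.exists_subset_of_mem_open (Set.mem_univ (c w)) isOpen_univ
  obtain ⟨_, ⟨W₀, hW₀, rfl⟩, hwW₀, hWU⟩ :=
    W.isBasis_affineOpens.exists_subset_of_mem_open hwU₀ (U₀.2.preimage c.continuous)
  refine ⟨W₀, hW₀, hwW₀, ?_⟩
  have het : (c.appLE U₀ W₀ hWU).hom.Etale :=
    HasRingHomProperty.appLE (P := @Etale) c inferInstance ⟨U₀, hU₀⟩ ⟨W₀, hW₀⟩ hWU
  algebraize [(c.appLE U₀ W₀ hWU).hom]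
  exact Groth.Agent.Lib.Helper12.isReduced_of_etale Γ(U, U₀) Γ(W, W₀)

end Groth.Agent.Lib.Helper3
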