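import Groth.Agent.Lib.Helper3.AlgSpChartPts
import Groth.Agent.Lib.Helper3.AlgSpChartSurj
import Groth.Agent.Lib.Helper3.AlgSpLocP4
import Groth.Agent.Lib.Helper3.AlgSpHasAtMor
import Groth.Agent.Lib.Helper3.FieldFlat
import Groth.Agent.Lib.Helper3.ReducedDescent
import Groth.Agent.S9906

set_option autoImplicit false
universe u
open CategoryTheory CategoryTheory.Limits AlgebraicGeometry Opposite

namespace Groth.Agent.Lib.Helper3

variable {S : Scheme.{u}}

open AlgSp

/-- A space receiving a flat surjective morphism from the spectrum of a field is reduced and has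
exactly one point. -/
theorem reduced_singleton_of_flat_surjective_fieldPt {Z : Sp S} (hZ : IsAlgSpace Z)
    (k : Type u) [Field k] (str : Spec (CommRingCat.of k) ⟶ S)
    (p : (yon S).obj (Over.mk str) ⟶ Z) (hpf : LocP @Flat p) (hps : IsSurjectiveMor p) :
    EtaleLocally (fun U => IsReduced U) Z ∧ Nonempty (Points Z) ∧ Subsingleton (Points Z) := by
  have hsub : Subsingleton (Points ((yon S).obj (Over.mk str))) := by
    have : Subsingleton ↥(Over.mk str).left := (inferInstance : Subsingleton (PrimeSpectrum k))
    exact (Points.schemeHomeo (Over.mk str)).symm.injective.subsingleton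
  refine ⟨?_, ?_, ?_⟩
  · obtain ⟨U, a, hae, has⟩ := hZ.atlas
    refine ⟨U, a, hae, has, ?_⟩
    have hrep : Representable p := hZ.representable_from_yon p
    obtain ⟨W, pK, pU, sq⟩ := exists_pullback_charts p hrep a
    have hpK : Etale pK.left := hae.2 p ((yon S).map pU) pK sq.flip
    have hflat : Flat pU.left :=
      hpf ((yon S).map pK) a pU ((repWith_yon_map_iff _ _).2 hpK) hae sq.w
    have hsurj : Surjective pU.left :=
      ((Groth.Agent.S9906.repWith_surjective_iff p hrep).2 hps).2 a ((yon S).map pK) pU sq
    have : IsReduced (Spec (CommRingCat.of k)) := inferInstance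
    have hWred : IsReduced W.left :=
      isReduced_of_etale_scheme (show W.left ⟶ Spec (CommRingCat.of k) from pK.left)
    exact isReduced_of_flat_surjective pU.left
  · exact ⟨Points.ofPt p (IsLocalRing.closedPoint k)⟩
  · refine ⟨fun y y' => ?_⟩
    obtain ⟨z, rfl⟩ := hps y
    obtain ⟨z', rfl⟩ := hps y'
    rw [Subsingleton.elim z z']

/-- A reduced space with exactly one point receives a flat surjective morphism from the spectrum
of a field. -/
theorem exists_flat_surjective_fieldPt_of_reduced_singleton {Z : Sp S} (hZ : IsAlgSpace Z)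
    (hr : EtaleLocally (fun U => IsReduced U) Z) [Nonempty (Points Z)]
    [Subsingleton (Points Z)] :
    ∃ (k : Type u) (_ : Field k) (str : Spec (CommRingCat.of k) ⟶ S)
      (p : (yon S).obj (Over.mk str) ⟶ Z), LocP @Flat p ∧ IsSurjectiveMor p := by
  obtain ⟨U, a, hae, has, hred⟩ := hr
  obtain ⟨x⟩ := (inferInstance : Nonempty (Points Z))
  obtain ⟨u₀, -⟩ := exists_ofPt_eq a has x
  have : Nonempty ↥U.left := ⟨u₀⟩
  have : IsReduced U.left := hred
  obtain ⟨k, hk, c, hc⟩ := exists_field_flat_of_isReduced U.left
  let str : Spec (CommRingCat.of k) ⟶ S := c ≫ U.hom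
  let cO : Over.mk str ⟶ U := Over.homMk c rfl
  refine ⟨k, hk, str, (yon S).map cO ≫ a, ?_, ?_⟩
  · refine locP_comp isEtLocal_flat (IsAlgSpace.yon_obj _) (IsAlgSpace.yon_obj _) hZ _ _ ?_ ?_
    · exact locP_of_repWith isEtLocal_flat _ ((repWith_yon_map_iff _ _).2 hc)
    · refine locP_of_repWith isEtLocal_flat _ (MorphismProperty.relative_monotone ?_ _ hae)
      intro A B f hf
      have : Etale ((Over.forget S).map f) := hf
      change Flat ((Over.forget S).map f)
      infer_instance
  · intro y
    exact ⟨Points.ofScheme _ (IsLocalRing.closedPoint k), Subsingleton.elim _ _⟩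

end Groth.Agent.Lib.Helper3
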