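import Mathlib

set_option autoImplicit false
universe u
open CategoryTheory CategoryTheory.Limits AlgebraicGeometry

namespace Groth.Agent.Lib.Helper3

/-- A reduced ring with a unique prime ideal is a field. -/
theorem isField_of_isReduced_of_subsingleton_primeSpectrum (R : Type u) [CommRing R] [IsReduced R]
    [Nontrivial R] [Subsingleton (PrimeSpectrum R)] : IsField R := by
  by_contra h
  obtain ⟨p, hp0, hp⟩ := Ring.not_isField_iff_exists_prime.1 h
  have hnil : nilradical R = ⊥ := nilradical_eq_bot_iff.2 inferInstance
  have hle : nilradical R = p := by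
    rw [nilradical_eq_sInf]
    apply le_antisymm
    · exact sInf_le hp
    · refine le_sInf fun q hq => ?_
      have : (⟨q, hq⟩ : PrimeSpectrum R) = ⟨p, hp⟩ := Subsingleton.elim _ _
      exact (congrArg PrimeSpectrum.asIdeal this).ge
  exact hp0 (hle ▸ hnil)

/-- Every point of a reduced scheme with discrete topology is the image of an open immersion from
the spectrum of a field. -/
theorem exists_field_openImmersion_of_discrete (W : Scheme.{u}) [IsReduced W]
    [DiscreteTopology ↥W] (w : ↥W) :
    ∃ (k : Type u) (_ : Field k) (j : Spec (CommRingCat.of k) ⟶ W),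
      IsOpenImmersion j ∧ w ∈ Set.range j := by
  let O : W.Opens := ⟨{w}, isOpen_discrete _⟩
  have hO : IsAffineOpen O := by
    obtain ⟨_, ⟨V, hV, rfl⟩, hwV, hVO⟩ := (W.isBasis_affineOpens).exists_subset_of_mem_open
      (show w ∈ (O : Set ↥W) from rfl) O.isOpen
    have : V = O := by
      apply TopologicalSpace.Opens.ext
      apply le_antisymm hVO
      intro z hz
      have : z = w := hz
      rw [this]; exact hwV
    rw [← this]; exact hV
  have hne : Nonempty ↥O := ⟨⟨w, rfl⟩⟩
  have : Nontrivial Γ(W, O) := inferInstance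
  have : _root_.IsReduced Γ(W, O) := inferInstance
  have hsub : Subsingleton (PrimeSpectrum Γ(W, O)) := by
    refine ⟨fun P Q => ?_⟩
    have hinj : Function.Injective hO.fromSpec := hO.fromSpec.isOpenEmbedding.injective
    apply hinj
    have hP : hO.fromSpec P ∈ (O : Set ↥W) := by rw [← hO.range_fromSpec]; exact ⟨P, rfl⟩
    have hQ : hO.fromSpec Q ∈ (O : Set ↥W) := by rw [← hO.range_fromSpec]; exact ⟨Q, rfl⟩
    exact (show hO.fromSpec P = w from hP).trans (show hO.fromSpec Q = w from hQ).symm
  have hF : IsField Γ(W, O) := isField_of_isReduced_of_subsingleton_primeSpectrum _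
  let _ : Field Γ(W, O) := hF.toField
  refine ⟨Γ(W, O), inferInstance, hO.fromSpec, inferInstance, ?_⟩
  rw [hO.range_fromSpec]
  rfl

end Groth.Agent.Lib.Helper3
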