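import Groth.Agent.Lib.Helper3.AffDescFlat

set_option autoImplicit false

universe u
open CategoryTheory CategoryTheory.Limits AlgebraicGeometry Opposite AlgSp MorphismProperty

namespace Groth.Agent.Lib.Helper3.AffDesc

variable {S : Scheme.{u}}

/-- The affine opens of a scheme form a Zariski covering of the sheaf it represents. -/
theorem isZarCover_yon_affineOpens (U : Over S) :
    IsZarCover (fun W : U.left.affineOpens => (yon S).obj (Over.mk (W.1.ι ≫ U.hom)))
      (fun W => (yon S).map (Over.homMk (U := Over.mk (W.1.ι ≫ U.hom)) (V := U) W.1.ι rfl)) := by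
  refine ⟨fun W => (repWith_yon_map_iff _ _).2 (inferInstanceAs (IsOpenImmersion W.1.ι)), ?_⟩
  intro x
  obtain ⟨t, rfl⟩ := (Points.schemeHomeo U).surjective x
  obtain ⟨N, hN, htN⟩ := exists_isAffineOpen_mem_and_subset (x := t) (U := ⊤) trivial
  refine ⟨⟨N, hN⟩, Points.schemeHomeo _ ⟨t, htN.1⟩, ?_⟩
  rw [Points.map_yon_map_eq]
  simp only [Function.comp_apply, Homeomorph.symm_apply_apply]
  rfl

/-- If the base change of `f` to every affine scheme etale over `Y` is an affine scheme, then `f`
is affine. -/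
theorem isAffineMor_of_affine_etale_charts {X Y : Sp S} (hY : IsAlgSpace Y) (f : X ⟶ Y)
    (h : ∀ (V : Over S), IsAffine V.left → ∀ (b : (yon S).obj V ⟶ Y), RepWith @Etale b →
      ∀ (P : Sp S) (fst : P ⟶ X) (snd : P ⟶ (yon S).obj V), IsPullback fst snd f b →
      ∃ (W : Over S), IsAffine W.left ∧ Nonempty ((yon S).obj W ≅ P)) :
    IsAffineMor f := by
  obtain ⟨U, a, hae, has⟩ := hY.atlas
  have sq := IsPullback.of_hasPullback f a
  have hA : IsAffineMor (pullback.snd f a) := by
    rw [isAffineMor_iff_repWith]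
    refine repWith_of_zarCover @IsAffineHom (pullback.snd f a) (ι := U.left.affineOpens) _ _
      (isZarCover_yon_affineOpens U)
      (fun W => pullback (pullback.snd f a)
        ((yon S).map (Over.homMk (U := Over.mk (W.1.ι ≫ U.hom)) (V := U) W.1.ι rfl)))
      (fun W => pullback.fst _ _) (fun W => pullback.snd _ _)
      (fun W => IsPullback.of_hasPullback _ _) ?_
    intro W
    set jW : Over.mk (W.1.ι ≫ U.hom) ⟶ U := Over.homMk W.1.ι rfl with hjW
    have sq1 := IsPullback.of_hasPullback (pullback.snd f a) ((yon S).map jW)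
    have sq2 := sq1.paste_horiz sq
    have hb : RepWith @Etale ((yon S).map jW ≫ a) := by
      refine (RepWith @Etale).comp_mem _ _ ?_ hae
      exact (repWith_yon_map_iff _ _).2 (inferInstanceAs (Etale W.1.ι))
    have hWaff : IsAffine (Over.mk (W.1.ι ≫ U.hom)).left := W.2
    obtain ⟨W', hW', ⟨e⟩⟩ := h _ hWaff _ hb _ _ _ sq2
    obtain ⟨m, hm⟩ := (yon S).map_surjective (e.hom ≫ pullback.snd (pullback.snd f a)
      ((yon S).map jW))
    have hm' : RepWith @IsAffineHom ((yon S).map m) := by
      refine (repWith_yon_map_iff _ _).2 ?_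
      infer_instance
    rw [hm] at hm'
    exact ((RepWith @IsAffineHom).cancel_left_of_respectsIso e.hom _).1 hm'
  exact fun Z hZ z => by
    obtain ⟨W₀, V', W, i, fst₀, q, w, c, g, fstW, sq₀, hW₀, -, -, -, -, -, -⟩ :=
      exists_descent_square f U a hae has _ _ sq hA hZ z
    exact ⟨W₀, i, fst₀, sq₀, hW₀⟩

end Groth.Agent.Lib.Helper3.AffDesc
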