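import Groth.Agent.Lib.Helper3.SmoothEt5
import Groth.Agent.Lib.Helper3.AlgSpLocP

set_option autoImplicit false
universe u
open CategoryTheory CategoryTheory.Limits AlgebraicGeometry MorphismProperty

namespace Groth.Agent.Lib.Helper3

theorem isEtLocal_smooth : IsEtLocal @Smooth.{u} where
  stableComp := inferInstance
  stableBC := inferInstance
  etale_le f hf := by have : Etale f := hf; infer_instance
  of_comp π g h1 h2 h := by
    have : Etale π := h1
    have : Surjective π := h2
    exact smooth_of_etale_surjective_comp π g h

end Groth.Agent.Lib.Helper3
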