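import Groth.Agent.Lib.Helper3.AffDescProps
import Groth.Agent.Lib.Helper3.AlgSpRepLocal2
import Mathlib.RingTheory.RingHom.Flat
import Mathlib.RingTheory.RingHom.FaithfullyFlat

set_option autoImplicit false

universe u
open CategoryTheory CategoryTheory.Limits AlgebraicGeometry Opposite AlgSp MorphismProperty

namespace Groth.Agent.Lib.Helper3.AffDesc

theorem flat_codescendsAlong_faithfullyFlat :
    RingHom.CodescendsAlong RingHom.Flat RingHom.FaithfullyFlat := by
  refine .mk _ RingHom.Flat.respectsIso fun R S T _ _ _ _ _ h h' ↦ ?_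
  rw [RingHom.flat_algebraMap_iff] at h' ⊢
  rw [RingHom.faithfullyFlat_algebraMap_iff] at h
  exact Module.Flat.of_flat_tensorProduct R T S

instance flat_descendsAlong : DescendsAlong @Flat (@Surjective ⊓ @Flat ⊓ @QuasiCompact) :=
  HasRingHomProperty.descendsAlong_flat flat_codescendsAlong_faithfullyFlat

variable {S : Scheme.{u}}

/-- finite locally free morphisms descend along etale covers from a scheme. -/
theorem isFinLocFreeMor_of_etale_cover {X Y : Sp S} (f : X ⟶ Y) (V : Over S)
    (p : (yon S).obj V ⟶ Y) (hp : RepWith @Etale p) (hps : RepWith @Surjective p)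
    {P : Sp S} (fst : P ⟶ X) (snd : P ⟶ (yon S).obj V) (sq : IsPullback fst snd f p)
    (h : IsFinLocFreeMor snd) : IsFinLocFreeMor f := by
  have hle : finLocFree.{u} ≤ @IsAffineHom := by
    intro A B g hg
    have : IsFinite g := hg.1
    infer_instance
  have hA : IsAffineMor snd := (isAffineMor_iff_repWith snd).2
    (MorphismProperty.relative_monotone (fun A B g hg => hle _ hg) _ h)
  have key : ∀ ⦃Z : Over S⦄, IsAffine Z.left → ∀ (z : (yon S).obj Z ⟶ Y),
      ∃ (W : Over S) (i : W ⟶ Z) (fst₀ : (yon S).obj W ⟶ X),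
        IsPullback fst₀ ((yon S).map i) f z ∧ finLocFree i.left := by
    intro Z hZ z
    obtain ⟨W₀, V', W, i, fst₀, q, w, c, g, fstW, sq₀, hW₀, hV', hW, hqe, hqs, sqS, sqW⟩ :=
      exists_descent_square f V p hp hps fst snd sq hA hZ z
    have hw : finLocFree w.left := h.property ((yon S).map g) fstW w sqW
    have hqf : Flat q.left := inferInstance
    have sqS' := sqS.map (Over.forget S)
    refine ⟨W₀, i, fst₀, sq₀, ?_, ?_, ?_⟩
    · exact @isFinite_of_isPullback _ _ _ _ hV' hZ hW₀ _ _ _ _ sqS' hqf hqs hw.1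
    · exact @descends_of_isPullback @Flat _ _ _ _ _ hV' hZ _ _ _ _ sqS' hqf hqs hw.2.1
    · exact @descends_of_isPullback @LocallyOfFinitePresentation _ _ _ _ _ hV' hZ _ _ _ _ sqS' hqf
        hqs hw.2.2
  have hrep : Representable f := representable_of_affine f (fun Z hZ z => by
    obtain ⟨W, i, fst₀, sq₀, -⟩ := key hZ z
    exact ⟨W, i, fst₀, sq₀⟩)
  exact repWith_of_affine finLocFree f hrep key

end Groth.Agent.Lib.Helper3.AffDesc
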