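import Groth.Agent.Lib.Helper3.FpqcDescRepWith
import Groth.Agent.Lib.Helper3.AffDescFlat

set_option autoImplicit false

universe u
open CategoryTheory CategoryTheory.Limits AlgebraicGeometry Opposite AlgSp MorphismProperty

namespace Groth.Agent.Lib.Helper3.FpqcDesc

open Groth.Agent.Lib.Helper3 Groth.Agent.Lib.Helper3.AffDesc

theorem isIntegralHom_eq : (@IsIntegralHom : MorphismProperty Scheme.{u}) =
    (@UniversallyClosed ⊓ @IsAffineHom : MorphismProperty Scheme.{u}) := by
  ext X Y f
  exact IsIntegralHom.iff_universallyClosed_and_isAffineHom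

theorem isFinite_eq : (@IsFinite : MorphismProperty Scheme.{u}) =
    (@IsIntegralHom ⊓ @LocallyOfFiniteType : MorphismProperty Scheme.{u}) := by
  ext X Y f
  exact IsFinite.iff_isIntegralHom_and_locallyOfFiniteType f

instance isIntegralHom_descendsAlong_fpqc :
    MorphismProperty.DescendsAlong @IsIntegralHom
      (@Surjective ⊓ @Flat ⊓ @QuasiCompact : MorphismProperty Scheme.{u}) := by
  rw [isIntegralHom_eq]; infer_instance

instance isFinite_descendsAlong_fpqc :
    MorphismProperty.DescendsAlong @IsFinite
      (@Surjective ⊓ @Flat ⊓ @QuasiCompact : MorphismProperty Scheme.{u}) := by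
  rw [isFinite_eq]; infer_instance

instance finLocFree_descendsAlong_fpqc :
    MorphismProperty.DescendsAlong finLocFree.{u}
      (@Surjective ⊓ @Flat ⊓ @QuasiCompact : MorphismProperty Scheme.{u}) := by
  rw [finLocFree_eq]; infer_instance

instance : MorphismProperty.IsStableUnderBaseChange finLocFree.{u} := by
  rw [finLocFree_eq]; infer_instance

variable {S : Scheme.{u}}

theorem isLocalOnBase_fpqc_isAffineMor :
    IsLocalOnBase (IsFpqcCover (S := S)) IsAffineMor := by
  intro ι Y Yi g hY hYi hcov X f hX Xi p q hXi sq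
  have := isLocalOnBase_fpqc_repWith (S := S) @IsAffineHom le_rfl Yi g hY hYi hcov f hX Xi p q
    hXi sq
  simp only [isAffineMor_iff_repWith]
  exact this

theorem isLocalOnBase_fpqc_isIntegralMor :
    IsLocalOnBase (IsFpqcCover (S := S)) IsIntegralMor := by
  intro ι Y Yi g hY hYi hcov X f hX Xi p q hXi sq
  have := isLocalOnBase_fpqc_repWith (S := S) @IsIntegralHom
    (fun A B k hk => by have : IsIntegralHom k := hk; infer_instance) Yi g hY hYi hcov f hX Xi p q
    hXi sq
  simp only [isIntegralMor_iff_repWith]
  exact this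

theorem isLocalOnBase_fpqc_isFiniteMor :
    IsLocalOnBase (IsFpqcCover (S := S)) IsFiniteMor := by
  intro ι Y Yi g hY hYi hcov X f hX Xi p q hXi sq
  have := isLocalOnBase_fpqc_repWith (S := S) @IsFinite
    (fun A B k hk => by have : IsFinite k := hk; infer_instance) Yi g hY hYi hcov f hX Xi p q
    hXi sq
  simp only [isFiniteMor_iff_repWith]
  exact this

theorem isLocalOnBase_fpqc_isClosedImmersion :
    IsLocalOnBase (IsFpqcCover (S := S)) (RepWith @IsClosedImmersion) :=
  isLocalOnBase_fpqc_repWith (S := S) @IsClosedImmersion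
    (fun A B k hk => by have : IsClosedImmersion k := hk; infer_instance)

theorem isLocalOnBase_fpqc_isFinLocFreeMor :
    IsLocalOnBase (IsFpqcCover (S := S)) IsFinLocFreeMor :=
  isLocalOnBase_fpqc_repWith (S := S) finLocFree
    (fun A B k hk => by have : IsFinite k := hk.1; infer_instance)

end Groth.Agent.Lib.Helper3.FpqcDesc
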