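import Groth.Agent.Lib.Helper3.AlgSpMonoPt
import Groth.Agent.S9883

set_option autoImplicit false
universe u
open CategoryTheory CategoryTheory.Limits AlgebraicGeometry Opposite

namespace Groth.Agent.Lib.Helper3

variable {S : Scheme.{u}}

open AlgSp

theorem toHom_fieldPtOfHom {F : Sp S} (K : Type u) [Field K] (str : Spec (.of K) ⟶ S)
    (a : (yon S).obj (Over.mk str) ⟶ F) : (fieldPtOfHom K str a).toHom = a :=
  Equiv.symm_apply_apply _ _

/-- An etale morphism between spectra of fields is finite. -/
theorem isFinite_of_etale_fields {k k' : Type u} [Field k] [Field k']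
    (c : Spec (CommRingCat.of k) ⟶ Spec (CommRingCat.of k')) [Etale c] : IsFinite c := by
  obtain ⟨φ, rfl⟩ := Spec.map_surjective c
  rw [IsFinite.SpecMap_iff]
  have h : φ.hom.Etale := (HasRingHomProperty.Spec_iff (P := @Etale)).1 inferInstance
  algebraize [φ.hom]
  change Module.Finite k' k
  exact Algebra.FormallyUnramified.finite_of_free k' k

/-- If a decent algebraic space receives a surjective etale map from the spectrum of a field, it
is the spectrum of a field. -/
theorem exists_iso_spec_field_of_etale_surjective_point {X : Sp S} (hXa : IsAlgSpace X)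
    (hX : IsDecent X) (k : Type u) [Field k] (str : Spec (CommRingCat.of k) ⟶ S)
    (p : (yon S).obj (Over.mk str) ⟶ X) (hp : RepWith @Etale p) (hs : RepWith @Surjective p) :
    ∃ (k' : Type u) (_ : Field k') (str' : Spec (CommRingCat.of k') ⟶ S)
      (e : (yon S).obj (Over.mk str') ≅ X) (c : Over.mk str ⟶ Over.mk str'),
      (yon S).map c ≫ e.hom = p ∧ IsFinite c.left ∧ Etale c.left := by
  let P : FieldPt X := fieldPtOfHom k str p
  have hP : P.toHom = p := toHom_fieldPtOfHom k str p
  obtain ⟨q, hq, hqm, -⟩ := hX (Points.mk P)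
  obtain ⟨c, hc⟩ : ∃ c : Over.mk str ⟶ q.pt, (yon S).map c ≫ q.toHom = p := by
    obtain ⟨c, hc⟩ := exists_factor_of_mono_fieldPt hXa q P hq
    exact ⟨c, hc.trans hP⟩
  have hloc : Sheaf.IsLocallySurjective p :=
    Groth.Agent.S9883.isLocallySurjective_of_etale_surjective _ hp hs
  have hlocq : Sheaf.IsLocallySurjective q.toHom :=
    Presheaf.isLocallySurjective_of_isLocallySurjective_fac (J S)
      (f₁ := ((yon S).map c).hom) (f₂ := q.toHom.hom) (f₃ := p.hom) (by rw [← hc]; rfl)
  have hinj := isLocallyInjective_of_mono q.toHom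
  have hiso : IsIso q.toHom := (Sheaf.isLocallyBijective_iff_isIso q.toHom).1 ⟨hinj, hlocq⟩
  have hce : Etale c.left := by
    rw [← repWith_yon_map_iff (P := @Etale)]
    have : (yon S).map c = p ≫ inv q.toHom := by rw [IsIso.eq_comp_inv]; exact hc
    rw [this]
    exact MorphismProperty.RespectsIso.postcomp _ _ _ hp
  refine ⟨q.K, q.field, q.str, asIso q.toHom, c, hc, ?_, hce⟩
  have : Etale (show Spec (CommRingCat.of k) ⟶ Spec (CommRingCat.of q.K) from c.left) := hce
  exact isFinite_of_etale_fields (show Spec (CommRingCat.of k) ⟶ Spec (CommRingCat.of q.K) from c.left)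

end Groth.Agent.Lib.Helper3
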