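import Groth.Agent.Lib.Helper3.AlgSpEtSitePoint

set_option autoImplicit false
universe u
open CategoryTheory CategoryTheory.Limits AlgebraicGeometry Opposite

namespace Groth.Agent.Lib.Helper3

variable {S : Scheme.{u}}

open AlgSp

variable {X : Sp S}

/-- A sieve of the small etale site is covering exactly when its arrows are jointly surjective
on points. -/
theorem mem_etTop_iff_pointwise {E : EtOver X} (R : Sieve E) :
    R ∈ etTop X E ↔ ∀ x : ↥E.obj.left.left, ∃ (E' : EtOver X) (g : E' ⟶ E),
      R g ∧ x ∈ Set.range g.hom.left.left := by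
  constructor
  · intro h x
    rw [etTop, Precoverage.mem_toGrothendieck_iff_of_isStableUnderComposition] at h
    obtain ⟨P, hP, hle⟩ := h
    obtain ⟨E', g, hg, hx⟩ := exists_mem_of_mem_etPre P hP x
    exact ⟨E', g, hle _ _ hg, hx⟩
  · intro h
    choose E' g hg hx using h
    refine (etTop X).superset_covering ?_ (ofArrows_mem_etTop E' g (fun x => ⟨x, hx x⟩))
    rw [Sieve.ofArrows, Sieve.generate_le_iff]
    rintro _ _ ⟨x⟩
    exact hg x

end Groth.Agent.Lib.Helper3
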