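import Groth.Agent.Lib.Helper3.AlgSpDecent
import Groth.Agent.Lib.Helper3.AlgSpMonoField
import Groth.Agent.Lib.Helper3.AlgSpFibre

set_option autoImplicit false
universe u
open CategoryTheory CategoryTheory.Limits AlgebraicGeometry Opposite

namespace Groth.Agent.Lib.Helper3

variable {S : Scheme.{u}}

open AlgSp

/-- A field-valued point factors through any monomorphic field-valued point in its class. -/
theorem exists_factor_of_mono_fieldPt {X : Sp S} (hX : IsAlgSpace X) (p q : FieldPt X)
    (h : Points.mk p = Points.mk q) [Mono p.toHom] :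
    ∃ c : q.pt ⟶ p.pt, (yon S).map c ≫ p.toHom = q.toHom := by
  have sq := IsPullback.of_hasPullback p.toHom q.toHom
  have hZ : IsAlgSpace (pullback p.toHom q.toHom) :=
    isAlgSpace_of_isPullback' hX (IsAlgSpace.yon_obj _) (IsAlgSpace.yon_obj _) sq
  have hne : Nonempty (Points (pullback p.toHom q.toHom)) := by
    have hxy : Points.map p.toHom (Points.ofScheme p.pt (IsLocalRing.closedPoint p.K)) =
        Points.map q.toHom (Points.ofScheme q.pt (IsLocalRing.closedPoint q.K)) := by
      rw [Points.map_ofPt, Points.map_ofPt, Category.id_comp, Category.id_comp,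
        Points.ofPt_toHom, Points.ofPt_toHom, h]
    obtain ⟨z, -, -⟩ := Points.exists_of_isPullback sq _ _ hxy
    exact ⟨z⟩
  have hiso : IsIso (pullback.snd p.toHom q.toHom) :=
    isIso_of_mono_to_field hZ q.str _ hne
  obtain ⟨c, hc⟩ := (yon S).map_surjective (inv (pullback.snd _ _) ≫ pullback.fst p.toHom q.toHom)
  refine ⟨c, ?_⟩
  rw [hc, Category.assoc, pullback.condition, IsIso.inv_hom_id_assoc]

/-- Uniqueness of the factorization. -/
theorem factor_unique_of_mono_fieldPt {X : Sp S} (p q : FieldPt X) [Mono p.toHom]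
    (c c' : q.pt ⟶ p.pt) (hc : (yon S).map c ≫ p.toHom = q.toHom)
    (hc' : (yon S).map c' ≫ p.toHom = q.toHom) : c = c' := by
  apply (yon S).map_injective
  rw [← cancel_mono p.toHom, hc, hc']

/-- Quasi-compactness of one monomorphic representative of a point passes to every
representative. -/
theorem repWith_quasiCompact_of_mk_eq {X : Sp S} (hX : IsAlgSpace X) (p q : FieldPt X)
    [Mono p.toHom] (hp : RepWith @QuasiCompact p.toHom) (h : Points.mk q = Points.mk p) :
    RepWith @QuasiCompact q.toHom := by
  obtain ⟨c, hc⟩ := exists_factor_of_mono_fieldPt hX p q h.symm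
  rw [← hc]
  refine (RepWith @QuasiCompact).comp_mem _ _ ?_ hp
  rw [repWith_yon_map_iff]
  exact quasiCompact_of_field (K := q.K) c.left

end Groth.Agent.Lib.Helper3
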