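import Groth.Agent.Lib.Helper3.DecMonoQC
import Groth.Agent.Lib.Helper3.AlgSpMonoPt
import Groth.Agent.Lib.Helper3.FinFib

set_option autoImplicit false
universe u
open CategoryTheory CategoryTheory.Limits AlgebraicGeometry Opposite MorphismProperty

namespace Groth.Agent.Lib.Helper3.DecMono

open Groth.Agent.Lib.Helper3 AlgSp

variable {S : Scheme.{u}}

/-- Points of `X ×_Y Z` lying over points coming from `A ⟶ X` and `B ⟶ Z` lift to
`A ×_Y B`. -/
theorem exists_point_of_double_pullback {X Y Z W A B T : Sp S} {f : X ⟶ Y} {g : Z ⟶ Y}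
    {p : W ⟶ X} {q : W ⟶ Z} (hW : IsPullback p q f g) (ax : A ⟶ X) (az : B ⟶ Z)
    (t₁ : T ⟶ A) (t₂ : T ⟶ B) (sq : IsPullback t₁ t₂ (ax ≫ f) (az ≫ g))
    (ν : T ⟶ W) (h₁ : ν ≫ p = t₁ ≫ ax) (h₂ : ν ≫ q = t₂ ≫ az)
    (w : Points W) (α : Points A) (β : Points B) (hα : Points.map p w = Points.map ax α)
    (hβ : Points.map q w = Points.map az β) : ∃ t : Points T, Points.map ν t = w := by
  have sq₁ := IsPullback.of_hasPullback ax p
  have sq₂ := IsPullback.of_hasPullback (pullback.snd ax p ≫ q) az
  have sq₃ : IsPullback (pullback.snd ax p ≫ q) (pullback.fst ax p) g (ax ≫ f) :=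
    sq₁.flip.paste_horiz hW.flip
  have sq₄ : IsPullback (pullback.fst (pullback.snd ax p ≫ q) az ≫ pullback.fst ax p)
      (pullback.snd (pullback.snd ax p ≫ q) az) (ax ≫ f) (az ≫ g) :=
    sq₂.paste_horiz sq₃.flip
  obtain ⟨w₁, hw₁a, hw₁b⟩ := Points.exists_of_isPullback sq₁ α w hα.symm
  have hβ' : Points.map (pullback.snd ax p ≫ q) w₁ = Points.map az β := by
    rw [Points.map_comp, hw₁b, hβ]
  obtain ⟨w₂, hw₂a, hw₂b⟩ := Points.exists_of_isPullback sq₂ w₁ β hβ'
  let e := sq₄.isoIsPullback _ _ sq
  have he₁ : e.inv ≫ pullback.fst (pullback.snd ax p ≫ q) az ≫ pullback.fst ax p = t₁ :=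
    sq₄.isoIsPullback_inv_fst _ _ sq
  have he₂ : e.inv ≫ pullback.snd (pullback.snd ax p ≫ q) az = t₂ :=
    sq₄.isoIsPullback_inv_snd _ _ sq
  have hν : ν = e.inv ≫ pullback.fst (pullback.snd ax p ≫ q) az ≫ pullback.snd ax p := by
    apply hW.hom_ext
    · rw [h₁, ← he₁]
      simp only [Category.assoc]
      rw [pullback.condition]
    · rw [h₂, ← he₂]
      simp only [Category.assoc]
      rw [pullback.condition]
  refine ⟨Points.map e.hom w₂, ?_⟩
  rw [hν, ← Points.map_comp, Iso.hom_inv_id_assoc, Points.map_comp, hw₂a, hw₁b]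

/-- The fibre product over a monomorphic point `r` of a field point and the residue field point
of a locally quasi-finite chart is a finite scheme. -/
theorem finite_pullback_of_lqf_chart {Y : Sp S} (r : FieldPt Y)
    [Mono r.toHom] {K : Type u} [Field K] (str : Spec (.of K) ⟶ S) (cx : Over.mk str ⟶ r.pt)
    {U : Over S} (φ : (yon S).obj U ⟶ Y) (hφ : RepWith @LocallyQuasiFinite φ) (u : ↥U.left)
    (cz : Over.mk (U.left.fromSpecResidueField u ≫ U.hom) ⟶ r.pt)
    (hcz : (yon S).map cz ≫ r.toHom = (yon S).map (resPt U u) ≫ φ) :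
    Finite ↥(pullback cx cz).left := by
  have sqT0 := IsPullback.of_hasPullback cx cz
  have sqT := isPullback_comp_mono r.toHom (sqT0.map (yon S))
  rw [hcz] at sqT
  -- compactness
  have sqL : IsPullback (pullback.fst cx cz).left (pullback.snd cx cz).left cx.left cz.left :=
    sqT0.map (Over.forget S)
  have hA1 : IsAffine (Over.mk str).left := inferInstanceAs (IsAffine (Spec (.of K)))
  have hA2 : IsAffine (Over.mk (U.left.fromSpecResidueField u ≫ U.hom)).left :=
    inferInstanceAs (IsAffine (Spec (U.left.residueField u)))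
  have hA3 : IsAffine r.pt.left := inferInstanceAs (IsAffine (Spec (.of r.K)))
  have hqc : QuasiCompact (pullback.fst cx cz).left :=
    MorphismProperty.of_isPullback (P := @QuasiCompact) sqL.flip
      (quasiCompact_of_field (K := U.left.residueField u) cz.left)
  have hcpt : CompactSpace ↥(pullback cx cz).left :=
    QuasiCompact.compactSpace_of_compactSpace (pullback.fst cx cz).left
  -- the chart pullback
  obtain ⟨M, mU, mK, sqM⟩ := exists_pullback_charts φ hφ.1 ((yon S).map cx ≫ r.toHom)
  have hmK : LocallyQuasiFinite mK.left := hφ.2 _ ((yon S).map mU) mK sqM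
  have hdisc : DiscreteTopology ↥M.left := by
    obtain ⟨y⟩ : Nonempty ↥(Over.mk str).left := ⟨IsLocalRing.closedPoint K⟩
    have hd := mK.left.isDiscrete_preimage_singleton y
    have huniv : mK.left ⁻¹' {y} = Set.univ := by
      refine Set.eq_univ_of_forall fun w => ?_
      have : Subsingleton ↥(Over.mk str).left :=
        (inferInstance : Subsingleton (PrimeSpectrum K))
      exact Subsingleton.elim _ _
    rw [huniv] at hd
    exact isDiscrete_univ_iff.1 hd
  obtain ⟨m, hm, -, -⟩ := exists_mono_to_chart_pullback ((yon S).map cx ≫ r.toHom) φ (resPt U u)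
    (pullback.fst cx cz) (pullback.snd cx cz) sqT mK mU sqM.flip
  have hm' : Mono m.left := inferInstanceAs (Mono ((Over.forget S).map m))
  have hdT : DiscreteTopology ↥(pullback cx cz).left :=
    DiscreteTopology.of_continuous_injective m.left.continuous m.left.injective
  exact finite_of_compact_of_discrete

/-- If `y` is represented by a monomorphism and `g` is quasi-finite at `z`, finitely many points
of `X ×_Y Z` lie over `x` and `z`. -/
theorem finite_fibre_pullback_of_mono_point_of_quasiFiniteAt {X Y Z W : Sp S}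
    (hY : IsAlgSpace Y) (f : X ⟶ Y) (g : Z ⟶ Y) (p : W ⟶ X) (q : W ⟶ Z)
    (hW : IsPullback p q f g) (x : Points X) (z : Points Z)
    (hxz : Points.map f x = Points.map g z) (r : FieldPt Y)
    (hr : Points.mk r = Points.map g z) [Mono r.toHom]
    (hg : HasAtMor (fun U _ h u => ∃ W : U.Opens, u ∈ W ∧ LocallyQuasiFinite (W.ι ≫ h) ∧
      LocallyOfFiniteType (W.ι ≫ h)) g z) :
    {w : Points W | Points.map p w = x ∧ Points.map q w = z}.Finite := by
  obtain ⟨U, V, a, b, h, u, hae, hbe, hcomm, hu, W₀, huW, hLQF, -⟩ := hg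
  induction x using Points.ind with
  | h qx =>
  let U' : Over S := Over.mk (W₀.ι ≫ U.hom)
  let ι' : U' ⟶ U := Over.homMk W₀.ι rfl
  let u' : ↥U'.left := ⟨u, huW⟩
  have hu' : Points.ofPt (chartRestrict a W₀) u' = z := by
    rw [ofPt_chartRestrict]; exact hu
  -- the chart `U' ⟶ Y` is locally quasi-finite
  have hφ : RepWith @LocallyQuasiFinite (chartRestrict a W₀ ≫ g) := by
    have e : chartRestrict a W₀ ≫ g = (yon S).map (ι' ≫ h) ≫ b := by
      change ((yon S).map ι' ≫ a) ≫ g = _
      rw [Category.assoc, hcomm, Functor.map_comp, Category.assoc]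
    rw [e]
    refine (RepWith @LocallyQuasiFinite).comp_mem _ _ ?_ ?_
    · rw [repWith_yon_map_iff]
      exact hLQF
    · refine MorphismProperty.relative_monotone ?_ _ hbe
      intro A B k hk
      have : Etale ((Over.forget S).map k) := hk
      exact locallyQuasiFinite_of_etale ((Over.forget S).map k)
  -- factor through `r`
  have hqx : Points.mk r = Points.mk (qx.map f) := by
    rw [hr, ← hxz, Points.map_mk]
  have hqz : Points.mk r = Points.mk ((FieldPt.ofPt (chartRestrict a W₀) u').map g) := by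
    rw [hr, ← hu', ← Points.map_mk]
    rfl
  obtain ⟨cx, hcx⟩ := exists_factor_of_mono_fieldPt hY r (qx.map f) hqx
  obtain ⟨cz, hcz⟩ := exists_factor_of_mono_fieldPt hY r
    ((FieldPt.ofPt (chartRestrict a W₀) u').map g) hqz
  rw [FieldPt.toHom_map] at hcx hcz
  rw [FieldPt.toHom_ofPt] at hcz
  have hfin := finite_pullback_of_lqf_chart r qx.str cx (chartRestrict a W₀ ≫ g) hφ u' cz
    (hcz.trans (Category.assoc _ _ _))
  -- the square
  have sqT0 := IsPullback.of_hasPullback cx cz
  have sqT := isPullback_comp_mono r.toHom (sqT0.map (yon S))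
  rw [hcx, hcz] at sqT
  have hw : ((yon S).map (pullback.fst cx cz) ≫ qx.toHom) ≫ f =
      ((yon S).map (pullback.snd cx cz) ≫ (yon S).map (resPt U' u') ≫ chartRestrict a W₀) ≫ g := by
    have := sqT.w
    simp only [Category.assoc] at this ⊢
    exact this
  have hfinP : Finite (Points ((yon S).obj (pullback cx cz))) :=
    @Finite.of_equiv _ _ hfin (Points.schemeEquiv (pullback cx cz))
  refine (Set.finite_range (Points.map (hW.lift _ _ hw))).subset ?_
  rintro w ⟨hw1, hw2⟩
  refine exists_point_of_double_pullback hW qx.toHom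
    ((yon S).map (resPt U' u') ≫ chartRestrict a W₀) _ _ sqT _ (hW.lift_fst _ _ _)
    (hW.lift_snd _ _ _) w (Points.ofScheme qx.pt (IsLocalRing.closedPoint qx.K))
    (Points.ofScheme _ (IsLocalRing.closedPoint (U'.left.residueField u'))) ?_ ?_
  · rw [hw1, Points.map_ofPt, Category.id_comp, Points.ofPt_toHom]
  · rw [hw2, Points.map_ofPt, Category.id_comp, ← hu']
    rw [Points.ofPt_yon_map_comp]
    congr 1
    exact (Scheme.fromSpecResidueField_apply _ _).symm

end Groth.Agent.Lib.Helper3.DecMono
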