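import Mathlib.RingTheory.QuasiFinite.Basic
import Mathlib.RingTheory.Ideal.GoingDown
import Mathlib.RingTheory.Ideal.Height
import Mathlib.RingTheory.RingHom.Flat
import Mathlib.AlgebraicGeometry.Morphisms.QuasiFinite
import Mathlib.AlgebraicGeometry.Morphisms.Flat
import Mathlib.AlgebraicGeometry.Morphisms.Etale
import Groth.Agent.Lib.Helper3.AlgSpLocP

set_option autoImplicit false
universe u
open CategoryTheory CategoryTheory.Limits AlgebraicGeometry

namespace Groth.Agent.Lib.Helper3

section Algebra

variable {R S : Type*} [CommRing R] [CommRing S] [Algebra R S]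

/-- Over a quasi-finite algebra, heights do not drop under contraction. -/
theorem height_le_height_under_of_quasiFinite [Algebra.QuasiFinite R S] (P : Ideal S)
    [P.IsPrime] : P.height ≤ (P.under R).height := by
  have hsm : StrictMono (PrimeSpectrum.comap (algebraMap R S)) := by
    intro Q Q' hQ
    refine lt_of_le_of_ne (Ideal.comap_mono hQ.le) fun heq => ?_
    have h2 : Q.asIdeal.under R = Q'.asIdeal.under R := congrArg PrimeSpectrum.asIdeal heq
    have := Algebra.QuasiFinite.eq_of_le_of_under_eq (R := R) Q.asIdeal Q'.asIdeal hQ.le h2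
    exact hQ.ne (PrimeSpectrum.ext this)
  have h1 := PrimeSpectrum.height_eq_orderHeight (⟨P, inferInstance⟩ : PrimeSpectrum S)
  have h2 := PrimeSpectrum.height_eq_orderHeight
    (PrimeSpectrum.comap (algebraMap R S) ⟨P, inferInstance⟩)
  change P.height = _ at h1
  change (P.under R).height = _ at h2
  rw [h1, h2]
  exact Order.height_le_height_apply_of_strictMono _ hsm ⟨P, inferInstance⟩

/-- With going-down, heights do not grow under contraction. -/
theorem height_under_le_height_of_hasGoingDown [Algebra.HasGoingDown R S] (P : Ideal S)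
    [P.IsPrime] : (P.under R).height ≤ P.height := by
  have h1 := PrimeSpectrum.height_eq_orderHeight (⟨P, inferInstance⟩ : PrimeSpectrum S)
  have h2 := PrimeSpectrum.height_eq_orderHeight
    (PrimeSpectrum.comap (algebraMap R S) ⟨P, inferInstance⟩)
  change P.height = _ at h1
  change (P.under R).height = _ at h2
  rw [h1, h2, Order.height_le_iff']
  intro l hl
  have : P.LiesOver l.last.asIdeal := ⟨by rw [hl]; rfl⟩
  obtain ⟨L, hLlen, hLlast, -⟩ := Ideal.exists_ltSeries_of_hasGoingDown l P
  rw [← hLlen]
  exact Order.length_le_height hLlast.le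

theorem height_eq_height_under_of_flat_of_quasiFinite [Module.Flat R S] [Algebra.QuasiFinite R S]
    (P : Ideal S) [P.IsPrime] : P.height = (P.under R).height :=
  le_antisymm (height_le_height_under_of_quasiFinite P) (height_under_le_height_of_hasGoingDown P)

end Algebra

end Groth.Agent.Lib.Helper3

namespace Groth.Agent.Lib.Helper3

/-- The dimension of the local ring is invariant under flat, locally quasi-finite morphisms. -/
theorem ringKrullDim_stalk_eq_of_flat_of_locallyQuasiFinite {A B : Scheme.{u}} (f : A ⟶ B)
    [Flat f] [LocallyQuasiFinite f] (x : A) :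
    ringKrullDim (A.presheaf.stalk x) = ringKrullDim (B.presheaf.stalk (f x)) := by
  have hfl : (f.stalkMap x).hom.Flat := Flat.stalkMap f x
  have hqf : (f.stalkMap x).hom.QuasiFinite := f.quasiFiniteAt x
  algebraize [(f.stalkMap x).hom]
  have hloc : IsLocalHom (algebraMap (B.presheaf.stalk (f x)) (A.presheaf.stalk x)) := by
    change IsLocalHom (f.stalkMap x).hom
    infer_instance
  have h1 := height_eq_height_under_of_flat_of_quasiFinite (R := B.presheaf.stalk (f x))
    (IsLocalRing.maximalIdeal (A.presheaf.stalk x))
  have h2 : (IsLocalRing.maximalIdeal (A.presheaf.stalk x)).under (B.presheaf.stalk (f x)) =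
      IsLocalRing.maximalIdeal (B.presheaf.stalk (f x)) :=
    IsLocalRing.maximalIdeal_comap _
  rw [h2] at h1
  rw [← IsLocalRing.maximalIdeal_height_eq_ringKrullDim,
    ← IsLocalRing.maximalIdeal_height_eq_ringKrullDim, h1]

/-- For a flat morphism the dimension of the local ring does not drop. -/
theorem ringKrullDim_stalk_le_of_flat {A B : Scheme.{u}} (f : A ⟶ B) [Flat f] (x : A) :
    ringKrullDim (B.presheaf.stalk (f x)) ≤ ringKrullDim (A.presheaf.stalk x) := by
  have hfl : (f.stalkMap x).hom.Flat := Flat.stalkMap f x
  algebraize [(f.stalkMap x).hom]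
  have hloc : IsLocalHom (algebraMap (B.presheaf.stalk (f x)) (A.presheaf.stalk x)) := by
    change IsLocalHom (f.stalkMap x).hom
    infer_instance
  have h1 := height_under_le_height_of_hasGoingDown (R := B.presheaf.stalk (f x))
    (IsLocalRing.maximalIdeal (A.presheaf.stalk x))
  have h2 : (IsLocalRing.maximalIdeal (A.presheaf.stalk x)).under (B.presheaf.stalk (f x)) =
      IsLocalRing.maximalIdeal (B.presheaf.stalk (f x)) :=
    IsLocalRing.maximalIdeal_comap _
  rw [h2] at h1
  rw [← IsLocalRing.maximalIdeal_height_eq_ringKrullDim,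
    ← IsLocalRing.maximalIdeal_height_eq_ringKrullDim]
  exact_mod_cast h1

/-- The dimension of the local ring is invariant under etale morphisms. -/
theorem ringKrullDim_stalk_eq_of_etale {A B : Scheme.{u}} (f : A ⟶ B) [Etale f] (x : A) :
    ringKrullDim (A.presheaf.stalk x) = ringKrullDim (B.presheaf.stalk (f x)) := by
  have : LocallyQuasiFinite f := locallyQuasiFinite_of_unramified f
  exact ringKrullDim_stalk_eq_of_flat_of_locallyQuasiFinite f x

end Groth.Agent.Lib.Helper3
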