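import Mathlib
import Groth.Agent.Lib.Helper3.SpCoprod
set_option autoImplicit false
universe u w
open CategoryTheory CategoryTheory.Limits AlgebraicGeometry TopologicalSpace Opposite

namespace Groth.Agent.Lib.Helper3

open AlgSp

namespace SpCoprod

variable {S : Scheme.{u}} {ι : Type w} {F : ι → Sp S} (c : Cofan F) (hc : IsColimit c)

include hc in
/-- A section of a coproduct of sheaves over a scheme `T` decomposes `T` into pairwise disjoint
open and closed subschemes which are the base changes of the summands. -/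
theorem exists_decomposition_isPullback [HasColimitsOfSize.{w, w} (Sp S)] {T : Over S}
    (s' : (yon S).obj T ⟶ c.pt) :
    ∃ V : ι → T.left.Opens, (∀ i j, i ≠ j → Disjoint (V i) (V j)) ∧ (⨆ i, V i = ⊤) ∧
      ∀ i, (∃ fst : (yon S).obj (Over.mk ((V i).ι ≫ T.hom)) ⟶ F i,
        IsPullback fst ((yon S).map (Over.homMk (V i).ι rfl : Over.mk ((V i).ι ≫ T.hom) ⟶ T))
          (c.inj i) s') ∧ IsClosed (V i : Set ↥T.left) := by
  classical
  obtain ⟨s, rfl⟩ := (AlgSp.J S).uliftYonedaEquiv.{u+1}.symm.surjective s'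
  obtain ⟨V, hdisj, hcov, hx⟩ := exists_decomposition c hc T s
  choose x hx using hx
  refine ⟨V, hdisj, hcov, fun i => ?_⟩
  have hinj := inj_app_injective c hc i
  refine ⟨⟨(AlgSp.J S).uliftYonedaEquiv.{u+1}.symm (x i), ?_⟩, ?_⟩
  · refine isPullback_of_sections _ _ _ _ ?_ ?_ ?_
    · rw [(AlgSp.J S).uliftYonedaEquiv_symm_naturality_right,
        (AlgSp.J S).uliftYonedaEquiv_symm_naturality_left, hx]
    · rintro W ⟨a₀⟩ ⟨b₀⟩ - h2
      obtain ⟨a, rfl⟩ : ∃ a : W.unop ⟶ Over.mk ((V i).ι ≫ T.hom), a = a₀ := ⟨a₀, rfl⟩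
      obtain ⟨b, rfl⟩ : ∃ b : W.unop ⟶ Over.mk ((V i).ι ≫ T.hom), b = b₀ := ⟨b₀, rfl⟩
      have h2' : a ≫ (Over.homMk (V i).ι rfl : Over.mk ((V i).ι ≫ T.hom) ⟶ T) =
          b ≫ (Over.homMk (V i).ι rfl : Over.mk ((V i).ι ≫ T.hom) ⟶ T) :=
        congrArg ULift.down h2
      have h3 : a.left ≫ (V i).ι = b.left ≫ (V i).ι := congrArg (fun k => k.left) h2'
      have h4 : a = b := Over.OverMorphism.ext ((cancel_mono (V i).ι).1 h3)
      rw [h4]
    · rintro ⟨W⟩ x₂ ⟨v₀⟩ h
      obtain ⟨v, rfl⟩ : ∃ v : W ⟶ T, v = v₀ := ⟨v₀, rfl⟩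
      have h' : (c.inj i).hom.app (op W) x₂ = c.pt.obj.map v.op s := by
        rw [h]; rfl
      have hsub : Set.range v.left ⊆ ((V i).ι).opensRange := by
        rintro _ ⟨p, rfl⟩
        rw [Scheme.Opens.opensRange_ι]
        by_contra hp
        have hp' : v.left p ∈ (⊤ : T.left.Opens) := trivial
        rw [← hcov] at hp'
        obtain ⟨j, hj⟩ := Opens.mem_iSup.1 hp'
        have hij : i ≠ j := by rintro rfl; exact hp hj
        let N : W.left.Opens := v.left ⁻¹ᵁ (V j)
        let N' : Over S := Over.mk (N.ι ≫ W.hom)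
        let n : N' ⟶ W := Over.homMk N.ι rfl
        have hNsub : Set.range (N.ι ≫ v.left) ⊆ Set.range (V j).ι := by
          rintro _ ⟨q, rfl⟩
          rw [Scheme.Opens.range_ι]
          exact q.2
        let l : N' ⟶ Over.mk ((V j).ι ≫ T.hom) :=
          Over.homMk (IsOpenImmersion.lift (V j).ι (N.ι ≫ v.left) hNsub) (by
            change _ ≫ (V j).ι ≫ T.hom = N.ι ≫ W.hom
            rw [← Category.assoc, IsOpenImmersion.lift_fac, Category.assoc, Over.w])
        have hl : l ≫ (Over.homMk (V j).ι rfl : Over.mk ((V j).ι ≫ T.hom) ⟶ T) = n ≫ v := by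
          ext1
          exact IsOpenImmersion.lift_fac _ _ _
        have hemp : IsEmpty ↥N'.left := by
          refine isEmpty_of_inj_eq_inj c hc hij ((F i).obj.map n.op x₂)
            ((F j).obj.map l.op (x j)) ?_
          rw [NatTrans.naturality_apply, NatTrans.naturality_apply, hx, h',
            ← Functor.map_comp_apply, ← Functor.map_comp_apply, ← op_comp, ← op_comp, hl]
        exact hemp.false ⟨p, hj⟩
      let v' : W ⟶ Over.mk ((V i).ι ≫ T.hom) :=
        Over.homMk (IsOpenImmersion.lift (V i).ι v.left hsub) (by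
          change _ ≫ (V i).ι ≫ T.hom = W.hom
          rw [← Category.assoc, IsOpenImmersion.lift_fac, Over.w])
      have hv' : v' ≫ (Over.homMk (V i).ι rfl : Over.mk ((V i).ι ≫ T.hom) ⟶ T) = v := by
        ext1
        exact IsOpenImmersion.lift_fac _ _ _
      refine ⟨⟨v'⟩, ?_, ?_⟩
      · apply hinj
        rw [h']
        have e1 : ((AlgSp.J S).uliftYonedaEquiv.{u+1}.symm (x i)).hom.app (op W) ⟨v'⟩ =
            (F i).obj.map v'.op (x i) := rfl
        rw [e1, NatTrans.naturality_apply, hx, ← Functor.map_comp_apply, ← op_comp, hv']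
      · change (⟨v' ≫ _⟩ : ULift _) = ⟨v⟩
        rw [hv']
  · have hcompl : ((V i : Set ↥T.left))ᶜ = ⋃ j ∈ {j | j ≠ i}, (V j : Set ↥T.left) := by
      ext t
      simp only [Set.mem_compl_iff, SetLike.mem_coe, Set.mem_iUnion, Set.mem_ofPred_eq, exists_prop]
      constructor
      · intro ht
        have ht' : t ∈ (⊤ : T.left.Opens) := trivial
        rw [← hcov] at ht'
        obtain ⟨j, hj⟩ := Opens.mem_iSup.1 ht'
        exact ⟨j, by rintro rfl; exact ht hj, hj⟩
      · rintro ⟨j, hji, hj⟩ hti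
        have := (hdisj j i hji).le_bot ⟨hj, hti⟩
        exact this
    rw [← isOpen_compl_iff, hcompl]
    exact isOpen_biUnion fun j _ => (V j).2

end SpCoprod

end Groth.Agent.Lib.Helper3
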