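import Mathlib
import Groth.Agent.Lib.Helper3.SpCoprod2
import Groth.Agent.Lib.Helper3.AlgSpRepLocal2
import Groth.Agent.S9906
set_option autoImplicit false
universe u w
open CategoryTheory CategoryTheory.Limits AlgebraicGeometry TopologicalSpace Opposite

namespace Groth.Agent.Lib.Helper3

open AlgSp

namespace SpCoprod

variable {S : Scheme.{u}} {ι : Type w} {F : ι → Sp S} (c : Cofan F) (hc : IsColimit c)

include hc in
/-- The coprojections of a coproduct of sheaves are jointly surjective on points. -/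
theorem exists_mem_range_map_inj [HasColimitsOfSize.{w, w} (Sp S)] (x : Points c.pt) :
    ∃ i, x ∈ Set.range (Points.map (c.inj i)) := by
  obtain ⟨K, _, str, a, rfl⟩ := Points.exists_hom x
  rw [Groth.Agent.S9906.mk_fieldPtOfHom_eq_ofPt]
  obtain ⟨V, -, hcov, hV⟩ := exists_decomposition_isPullback c hc a
  have ht : (IsLocalRing.closedPoint K : ↥(Over.mk str).left) ∈ (⊤ : (Over.mk str).left.Opens) :=
    trivial
  rw [← hcov] at ht
  obtain ⟨i, hi⟩ := Opens.mem_iSup.1 ht
  obtain ⟨⟨fst, sq⟩, -⟩ := hV i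
  refine ⟨i, Points.ofPt fst ⟨_, hi⟩, ?_⟩
  rw [Points.map_ofPt, sq.w, Points.ofPt_yon_map_comp]
  rfl

theorem isZarCover_inj {κ : Type u} {G : κ → Sp S} (d : Cofan G) (hd : IsColimit d) :
    IsZarCover G (fun i => d.inj i) :=
  ⟨fun i => repWith_isOpenImmersion_inj d hd i, fun x => exists_mem_range_map_inj d hd x⟩

include hc in
/-- Coproducts of sheaves are disjoint and universal: the square formed by the coprojections and
a coproduct of morphisms is a pullback. -/
theorem isPullback_inj_desc [HasColimitsOfSize.{w, w} (Sp S)] {F' : ι → Sp S} (c' : Cofan F')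
    (hc' : IsColimit c') (q : ∀ i, F' i ⟶ F i) (D : c'.pt ⟶ c.pt)
    (hD : ∀ i, c'.inj i ≫ D = q i ≫ c.inj i) (i : ι) :
    IsPullback (c'.inj i) (q i) D (c.inj i) := by
  classical
  refine isPullback_of_sections _ _ _ _ (hD i) ?_ ?_
  · intro W a b h1 _
    exact inj_app_injective c' hc' i W h1
  · rintro ⟨W⟩ x₂ x₃ h
    obtain ⟨V, hdisj, hcov, hx⟩ := exists_decomposition c' hc' W x₂
    choose y hy using hx
    have hDapp : ∀ (j : ι) (W' : Over S) (z : (F' j).obj.obj (op W')),
        D.hom.app (op W') ((c'.inj j).hom.app (op W') z) =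
          (c.inj j).hom.app (op W') ((q j).hom.app (op W') z) := fun j W' z =>
      congrArg (fun φ => φ.hom.app (op W') z) (hD j)
    have hempty : ∀ j, j ≠ i → IsEmpty ↥(Over.mk ((V j).ι ≫ W.hom)).left := by
      intro j hji
      refine isEmpty_of_inj_eq_inj c hc hji ((q j).hom.app _ (y j))
        ((F i).obj.map (Over.homMk (V j).ι rfl : Over.mk ((V j).ι ≫ W.hom) ⟶ W).op x₃) ?_
      rw [← hDapp, hy, NatTrans.naturality_apply, h, NatTrans.naturality_apply]
    have htop : V i = ⊤ := by
      rw [eq_top_iff]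
      intro t _
      have ht : t ∈ (⊤ : W.left.Opens) := trivial
      rw [← hcov] at ht
      obtain ⟨j, hj⟩ := Opens.mem_iSup.1 ht
      by_cases hji : j = i
      · subst hji; exact hj
      · exact ((hempty j hji).false ⟨t, hj⟩).elim
    obtain ⟨x₁, hx₁⟩ := mem_range_of_locally c' hc' i x₂
      (Sieve.generate (Presieve.ofArrows (fun _ : Unit => Over.mk ((V i).ι ≫ W.hom))
        (fun _ => (Over.homMk (V i).ι rfl : Over.mk ((V i).ι ≫ W.hom) ⟶ W))))
      (generate_ofArrows_mem_J _ _ (fun _ => inferInstanceAs (IsOpenImmersion (V i).ι))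
        (fun t => ⟨(), ⟨t, by rw [htop]; trivial⟩, rfl⟩))
      (by
        rintro T' g' ⟨T'', a, _, ⟨_⟩, rfl⟩
        refine ⟨(F' i).obj.map a.op (y i), ?_⟩
        rw [NatTrans.naturality_apply, hy, ← Functor.map_comp_apply, ← op_comp])
    refine ⟨x₁, hx₁, ?_⟩
    apply inj_app_injective c hc i
    rw [← hDapp, hx₁, h]

include hc in
/-- Maps from schemes to a coproduct of sheaves with representable diagonals are representable. -/
theorem representable_of_yon [HasColimitsOfSize.{w, w} (Sp S)]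
    (h : ∀ i ⦃T : Over S⦄ (g : (yon S).obj T ⟶ F i), Representable g) {T : Over S}
    (s : (yon S).obj T ⟶ c.pt) : Representable s := by
  intro T' s'
  obtain ⟨V, -, -, hV⟩ := exists_decomposition_isPullback c hc s
  obtain ⟨V', -, hcov', hV'⟩ := exists_decomposition_isPullback c hc s'
  have hjt : ∀ t : ↥T'.left, ∃ j, t ∈ V' j := fun t => by
    have ht : t ∈ (⊤ : T'.left.Opens) := trivial
    rw [← hcov'] at ht
    exact Opens.mem_iSup.1 ht
  choose jt hjt using hjt
  refine exists_isPullback_of_openCover s s' (κ := ↥T'.left)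
    (fun t => Over.mk ((V' (jt t)).ι ≫ T'.hom)) (fun t => Over.homMk (V' (jt t)).ι rfl)
    (fun t => inferInstanceAs (IsOpenImmersion (V' (jt t)).ι))
    (fun t => ⟨t, ⟨t, hjt t⟩, rfl⟩) (fun t => ?_)
  obtain ⟨⟨fst, sq⟩, -⟩ := hV (jt t)
  obtain ⟨⟨fst', sq'⟩, -⟩ := hV' (jt t)
  obtain ⟨W, snd, fstW, sqW⟩ := h (jt t) fst fst'
  refine ⟨W, snd, fstW ≫ (yon S).map (Over.homMk (V (jt t)).ι rfl), ?_⟩
  have := sqW.paste_horiz sq.flip
  rw [sq'.w] at this
  exact this

/-- The coproduct of a family of representable sheaves indexed by a `u`-small type is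
representable. -/
theorem exists_iso_yon_of_cofan_yon {κ : Type u} (U : κ → Over S)
    (c' : Cofan (fun i => (yon S).obj (U i))) (hc' : IsColimit c') :
    ∃ (G : Over S) (e : (yon S).obj G ≅ c'.pt) (j : ∀ i, U i ⟶ G),
      (∀ i, (yon S).map (j i) ≫ e.hom = c'.inj i) ∧ (∀ i, IsOpenImmersion (j i).left) ∧
      ∀ g : ↥G.left, ∃ i, g ∈ Set.range (j i).left := by
  refine exists_iso_yon_of_openCover (fun i => c'.inj i)
    (fun i => repWith_isOpenImmersion_inj c' hc' i) (fun x => ?_)
  obtain ⟨i, y, rfl⟩ := exists_mem_range_map_inj c' hc' x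
  obtain ⟨u, rfl⟩ := (Points.schemeHomeo (U i)).surjective y
  exact ⟨i, u, Points.ofPt_eq_map_ofScheme _ u⟩

/-- A coproduct of algebraic spaces (indexed by a `u`-small type) is an algebraic space. -/
theorem isAlgSpace_cofan_pt {κ : Type u} {G : κ → Sp S} (h : ∀ i, IsAlgSpace (G i))
    (d : Cofan G) (hd : IsColimit d) : IsAlgSpace d.pt := by
  refine ⟨Functor.relativelyRepresentable.diag_of_map_from_obj fun T s =>
    representable_of_yon d hd (fun i T g => (h i).representable_from_yon g) s, ?_⟩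
  have hat := fun i => (h i).atlas
  choose U p hpe hps using hat
  let c' : Cofan (fun i => (yon S).obj (U i)) := Cofan.mk (∐ fun i => (yon S).obj (U i))
    (Sigma.ι fun i => (yon S).obj (U i))
  have hc' : IsColimit c' := coproductIsCoproduct _
  let D : c'.pt ⟶ d.pt := Cofan.IsColimit.desc hc' (fun i => p i ≫ d.inj i)
  have hD : ∀ i, c'.inj i ≫ D = p i ≫ d.inj i := fun i => Cofan.IsColimit.fac hc' _ i
  have sq := isPullback_inj_desc d hd c' hc' p D hD
  have hDe : RepWith @Etale D :=
    repWith_of_zarCover @Etale D G (fun i => d.inj i) (isZarCover_inj d hd) _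
      (fun i => c'.inj i) p sq hpe
  have hDs : RepWith @Surjective D :=
    repWith_of_zarCover @Surjective D G (fun i => d.inj i) (isZarCover_inj d hd) _
      (fun i => c'.inj i) p sq hps
  obtain ⟨G₀, e, -⟩ := exists_iso_yon_of_cofan_yon U c' hc'
  exact ⟨G₀, e.hom ≫ D, (MorphismProperty.cancel_left_of_respectsIso _ e.hom D).2 hDe,
    (MorphismProperty.cancel_left_of_respectsIso _ e.hom D).2 hDs⟩

end SpCoprod

end Groth.Agent.Lib.Helper3
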