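import Groth.Agent.Lib.Helper3.FiniteAffineRefine
import Mathlib.AlgebraicGeometry.Noetherian
import Mathlib.AlgebraicGeometry.Morphisms.Flat
import Mathlib.AlgebraicGeometry.Morphisms.UniversallyOpen
import Mathlib.RingTheory.Flat.FaithfullyFlat.Basic

set_option autoImplicit false
universe u
open CategoryTheory CategoryTheory.Limits AlgebraicGeometry MorphismProperty TensorProduct

namespace Groth.Agent.Lib.Helper3

/-- Noetherianity descends along faithfully flat ring maps. -/
theorem isNoetherianRing_of_faithfullyFlat (A B : Type u) [CommRing A] [CommRing B] [Algebra A B]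
    [Module.FaithfullyFlat A B] [IsNoetherianRing B] : IsNoetherianRing A := by
  have : IsNoetherian B (B ⊗[A] A) :=
    isNoetherian_of_linearEquiv (TensorProduct.AlgebraTensorModule.rid A B B).symm
  exact Submodule.IsNoetherian.of_isNoetherian_tensorProduct_of_faithfullyFlat (A := B) this

/-- Affine target case. -/
theorem isNoetherianRing_of_flat_lfp_surjective_affine {W V : Scheme.{u}} [IsAffine V]
    (h : W ⟶ V) [Flat h] [LocallyOfFinitePresentation h] [Surjective h]
    [IsLocallyNoetherian W] : IsNoetherianRing Γ(V, ⊤) := by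
  obtain ⟨m, i, O, hO, hcov⟩ := exists_finite_affine_refinement (Z := V)
    (fun _ : PUnit.{1} => W) (fun _ => h) (fun _ => h.isOpenMap) (fun z => ⟨⟨⟩, h.surjective z⟩)
  have hOa : ∀ j, IsAffine (Scheme.Opens.toScheme (X := W) (O j)) := hO
  let π : (∐ fun j : Fin m => Scheme.Opens.toScheme (X := W) (O j)) ⟶ V :=
    Sigma.desc (fun j => (O j).ι ≫ h)
  have hπf : Flat π := IsZariskiLocalAtSource.sigmaDesc (P := @Flat) fun j => inferInstance
  have hπs : Surjective π := by
    refine ⟨fun z => ?_⟩
    obtain ⟨j, y, hy, rfl⟩ := hcov z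
    refine ⟨(Sigma.ι (fun j : Fin m => Scheme.Opens.toScheme (X := W) (O j)) j) ⟨y, hy⟩, ?_⟩
    rw [← Scheme.Hom.comp_apply, Sigma.ι_desc, Scheme.Hom.comp_apply]
    rfl
  have hN : IsLocallyNoetherian (∐ fun j : Fin m => Scheme.Opens.toScheme (X := W) (O j)) := by
    rw [isLocallyNoetherian_iff_openCover (sigmaOpenCover _)]
    intro j
    exact inferInstanceAs (IsLocallyNoetherian (Scheme.Opens.toScheme (X := W) (O j)))
  have hNr : IsNoetherianRing Γ(∐ fun j : Fin m => Scheme.Opens.toScheme (X := W) (O j), ⊤) :=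
    IsLocallyNoetherian.component_noetherian ⟨⊤, isAffineOpen_top _⟩
  have hff : π.appTop.hom.FaithfullyFlat :=
    (Flat.flat_and_surjective_iff_faithfullyFlat_of_isAffine (f := π)).1 ⟨hπf, hπs⟩
  algebraize [π.appTop.hom]
  exact isNoetherianRing_of_faithfullyFlat Γ(V, ⊤)
    Γ(∐ fun j : Fin m => Scheme.Opens.toScheme (X := W) (O j), ⊤)

/-- Local Noetherianity descends along flat, locally finitely presented, surjective morphisms. -/
theorem isLocallyNoetherian_of_flat_lfp_surjective {W V : Scheme.{u}} (h : W ⟶ V) [Flat h]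
    [LocallyOfFinitePresentation h] [Surjective h] [IsLocallyNoetherian W] :
    IsLocallyNoetherian V := by
  rw [isLocallyNoetherian_iff_of_affine_openCover V.affineCover]
  intro i
  have : IsLocallyNoetherian (pullback h (V.affineCover.f i)) :=
    isLocallyNoetherian_of_isOpenImmersion (pullback.fst h (V.affineCover.f i))
  exact isNoetherianRing_of_flat_lfp_surjective_affine (pullback.snd h (V.affineCover.f i))

end Groth.Agent.Lib.Helper3
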