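import Groth.Prelude.Def_AlgSpCov
import Groth.Agent.S9928
import Groth.Agent.Lib.Helper3.AlgSpDiag
import Groth.Agent.Lib.Helper3.AlgSpRepLocal
set_option autoImplicit false
universe u
open CategoryTheory CategoryTheory.Limits AlgebraicGeometry Opposite
open AlgSp

namespace Groth.Agent.Lib.Helper3.QSepChart

variable {S : Scheme.{u}}

/-- A subsheaf (monomorphism) of a quasi-separated sheaf is quasi-separated. -/
theorem isQuasiSeparatedSp_of_mono {X' X : Sp S} (j : X' ⟶ X) [Mono j]
    (hX : IsQuasiSeparatedSp X) : IsQuasiSeparatedSp X' := by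
  have sq : IsPullback (𝟙 X') (𝟙 X') j j := IsPullback.of_horiz_isIso_mono ⟨rfl⟩
  have sq2 := isPullback_diag_of_isPullback sq
  exact MorphismProperty.of_isPullback sq2 hX

theorem isQuasiSeparatedSp_of_openImmersion {X' X : Sp S} (j : X' ⟶ X)
    (hj : RepWith @IsOpenImmersion j) (hX : IsQuasiSeparatedSp X) : IsQuasiSeparatedSp X' := by
  have : Mono j := Groth.Agent.S9928.mono_of_repWith @IsOpenImmersion
    (fun g hg => by have : IsOpenImmersion g := hg; infer_instance) j hj
  exact isQuasiSeparatedSp_of_mono j hX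

/-- Fibre product of two affine schemes whose structure maps land in a common affine open. -/
theorem compactSpace_pullback_of_affine {U T : Over S} [IsAffine U.left] [IsAffine T.left]
    (W : S.Opens) (hW : IsAffineOpen W) (hU : ∀ v : ↥U.left, U.hom v ∈ W)
    (hT : ∀ v : ↥T.left, T.hom v ∈ W) : CompactSpace ↥(pullback U.hom T.hom) := by
  have hU' : Set.range U.hom ⊆ Set.range W.ι := by
    rintro _ ⟨v, rfl⟩; rw [Scheme.Opens.range_ι]; exact hU v
  have hT' : Set.range T.hom ⊆ Set.range W.ι := by
    rintro _ ⟨v, rfl⟩; rw [Scheme.Opens.range_ι]; exact hT v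
  let u₀ := IsOpenImmersion.lift W.ι U.hom hU'
  let t₀ := IsOpenImmersion.lift W.ι T.hom hT'
  have hu₀ : u₀ ≫ W.ι = U.hom := IsOpenImmersion.lift_fac _ _ _
  have ht₀ : t₀ ≫ W.ι = T.hom := IsOpenImmersion.lift_fac _ _ _
  have : IsAffine W := hW
  have hlim := pullbackIsPullbackOfCompMono u₀ t₀ W.ι
  have sq : IsPullback (pullback.fst u₀ t₀) (pullback.snd u₀ t₀) (u₀ ≫ W.ι) (t₀ ≫ W.ι) :=
    IsPullback.of_isLimit hlim
  rw [hu₀, ht₀] at sq
  have : CompactSpace ↥(pullback u₀ t₀) := inferInstance
  exact sq.isoPullback.hom.homeomorph.compactSpace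

/-- A surjective chart from an affine scheme lying over an affine open of the base, onto a
quasi-separated algebraic space, is quasi-compact. -/
theorem repWith_quasiCompact_of_affine_chart {X : Sp S} (hX : IsAlgSpace X)
    (hqs : IsQuasiSeparatedSp X) {U : Over S} [IsAffine U.left] (p : (yon S).obj U ⟶ X)
    (hps : RepWith @Surjective p) (W : S.Opens) (hW : IsAffineOpen W)
    (hU : ∀ v : ↥U.left, U.hom v ∈ W) : RepWith @QuasiCompact p := by
  have hrep : Representable p := Functor.relativelyRepresentable.of_diag hX.diag p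
  refine repWith_of_affine @QuasiCompact p hrep ?_
  intro T hT ξ
  obtain ⟨P, snd, fst, sq⟩ := hrep ξ
  obtain ⟨fst', rfl⟩ := (yon S).map_surjective fst
  refine ⟨P, snd, _, sq, ?_⟩
  have hsurj : Surjective snd.left := hps.property _ _ _ sq
  have hTW : ∀ v : ↥T.left, T.hom v ∈ W := by
    intro v
    obtain ⟨π, rfl⟩ := hsurj.surj v
    have h1 : snd.left ≫ T.hom = fst'.left ≫ U.hom := by rw [Over.w snd, Over.w fst']
    rw [← Scheme.Hom.comp_apply, h1, Scheme.Hom.comp_apply]
    exact hU _
  have sqD := isPullback_diag_of_isPullback sq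
  rw [prod_lift_yon'] at sqD
  replace sqD := isPullback_shift_iso sqD
  have hqc : QuasiCompact (prod.lift fst' snd).left := hqs.2 _ _ _ sqD
  have : CompactSpace ↥(pullback U.hom T.hom) := compactSpace_pullback_of_affine W hW hU hTW
  have : CompactSpace ↥(U ⨯ T).left :=
    (Over.prodLeftIsoPullback U T).hom.homeomorph.symm.compactSpace
  have : CompactSpace ↥P.left :=
    QuasiCompact.compactSpace_of_compactSpace (prod.lift fst' snd).left
  exact (HasAffineProperty.iff_of_isAffine (P := @QuasiCompact)).2 this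

end Groth.Agent.Lib.Helper3.QSepChart
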