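import Mathlib
import Groth.Agent.Lib.Helper3.SpCoprod

set_option autoImplicit false
universe u w

namespace Groth.Agent.Lib.Helper3.RelNorm

open CategoryTheory CategoryTheory.Limits AlgebraicGeometry Opposite AlgSp
open Groth.Agent.Lib.Helper3

variable {S : Scheme.{u}}

/-- The subfunctor of sections of `F` coming from some member of a family. -/
def rangeSub {F : Sp S} {κ : Type w} (Fi : κ → Sp S) (e : ∀ k, Fi k ⟶ F) : Subfunctor F.obj where
  obj T := {s | ∃ (k : κ) (x : (Fi k).obj.obj T), (e k).hom.app T x = s}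
  map := by
    rintro T T' φ _ ⟨k, x, rfl⟩
    exact ⟨k, (Fi k).obj.map φ x, (NatTrans.naturality_apply (e k).hom φ x)⟩

/-- A family is jointly locally surjective. -/
def JointlyLS {F : Sp S} {κ : Type w} (Fi : κ → Sp S) (e : ∀ k, Fi k ⟶ F) : Prop :=
  ∀ (T : Over S) (x : F.obj.obj (op T)), (rangeSub Fi e).sieveOfSection x ∈ AlgSp.J S T

/-- **Gluing** of morphisms out of a sheaf along a jointly locally surjective family. -/
theorem glue {F G : Sp S} {κ : Type w} (Fi : κ → Sp S) (e : ∀ k, Fi k ⟶ F)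
    (hcov : JointlyLS Fi e) (g : ∀ k, Fi k ⟶ G)
    (hcompat : ∀ (k l : κ) (T : (Over S)ᵒᵖ) (a : (Fi k).obj.obj T) (b : (Fi l).obj.obj T),
      (e k).hom.app T a = (e l).hom.app T b → (g k).hom.app T a = (g l).hom.app T b) :
    ∃ γ : F ⟶ G, ∀ k, e k ≫ γ = g k := by
  classical
  have hG : Presieve.IsSheaf (AlgSp.J S) G.obj := (isSheaf_iff_isSheaf_of_type _ _).1 G.property
  let R := rangeSub Fi e
  -- the map on the range
  let γ₀ : R.toFunctor ⟶ G.obj :=
    { app := fun T => ↾fun s => (g s.2.choose).hom.app T s.2.choose_spec.choose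
      naturality := by
        intro T T' φ
        ext s
        have h1 := s.2.choose_spec.choose_spec
        have h2 := (R.toFunctor.map φ s).2.choose_spec.choose_spec
        change (g _).hom.app T' _ = G.obj.map φ ((g _).hom.app T _)
        rw [← NatTrans.naturality_apply (g s.2.choose).hom φ]
        refine hcompat _ _ T' _ _ ?_
        rw [h2, NatTrans.naturality_apply (e s.2.choose).hom φ, h1]
        rfl }
  have hγ₀ : ∀ (k : κ) (T : (Over S)ᵒᵖ) (a : (Fi k).obj.obj T),
      γ₀.app T ⟨(e k).hom.app T a, ⟨k, a, rfl⟩⟩ = (g k).hom.app T a := by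
    intro k T a
    have hs : (e k).hom.app T a ∈ R.obj T := ⟨k, a, rfl⟩
    exact hcompat _ _ T _ _ hs.choose_spec.choose_spec
  let L := R.sheafifyLift γ₀ hG
  have hL : ∀ (T : (Over S)ᵒᵖ) (s : R.toFunctor.obj T),
      L.app T ⟨s.1, R.le_sheafify (AlgSp.J S) T s.2⟩ = γ₀.app T s := by
    intro T s
    have := congrArg (fun φ => φ.app T s) (R.to_sheafifyLift γ₀ hG)
    exact this
  let γ : F ⟶ G := ⟨
    { app := fun T => ↾fun x => L.app T ⟨x, hcov T.unop x⟩
      naturality := by
        intro T T' φ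
        ext x
        have := NatTrans.naturality_apply L φ ⟨x, hcov T.unop x⟩
        exact this }⟩
  refine ⟨γ, fun k => ?_⟩
  apply Sheaf.hom_ext
  ext T a
  change L.app T ⟨(e k).hom.app T a, _⟩ = (g k).hom.app T a
  rw [← hγ₀ k T a]
  exact hL T ⟨(e k).hom.app T a, ⟨k, a, rfl⟩⟩

/-- Uniqueness: a jointly locally surjective family is jointly epimorphic. -/
theorem hom_ext_of_jointlyLS {F G : Sp S} {κ : Type w} (Fi : κ → Sp S) (e : ∀ k, Fi k ⟶ F)
    (hcov : JointlyLS Fi e) (γ γ' : F ⟶ G) (h : ∀ k, e k ≫ γ = e k ≫ γ') : γ = γ' := by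
  have hG : Presieve.IsSheaf (AlgSp.J S) G.obj := (isSheaf_iff_isSheaf_of_type _ _).1 G.property
  apply Sheaf.hom_ext
  ext T x
  refine (hG _ (hcov T.unop x)).isSeparatedFor.ext ?_
  rintro T' φ ⟨k, a, ha⟩
  have n1 := NatTrans.naturality_apply γ.hom φ.op x
  have n2 := NatTrans.naturality_apply γ'.hom φ.op x
  change G.obj.map φ.op (γ.hom.app T x) = G.obj.map φ.op (γ'.hom.app T x)
  rw [← n1, ← n2, ← ha]
  have := congrArg (fun ψ => ψ.hom.app (op T') a) (h k)
  exact this

end Groth.Agent.Lib.Helper3.RelNorm
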