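import Mathlib
import Groth.Agent.Lib.Helper3.RNGlue
import Groth.Agent.Lib.Helper3.AlgSpImmersionPts

set_option autoImplicit false
universe u w

namespace Groth.Agent.Lib.Helper3.RelNorm

open CategoryTheory CategoryTheory.Limits AlgebraicGeometry Opposite AlgSp
open Groth.Agent.Lib.Helper3

variable {S : Scheme.{u}}

theorem app_eq_uliftYonedaEquiv {F G : Sp S} (e : F ⟶ G) (T : (Over S)ᵒᵖ) (a : F.obj.obj T) :
    e.hom.app T a =
      (AlgSp.J S).uliftYonedaEquiv.{u+1} ((AlgSp.J S).uliftYonedaEquiv.{u+1}.symm a ≫ e) := by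
  rw [GrothendieckTopology.uliftYonedaEquiv_comp, Equiv.apply_symm_apply]

/-- Morphism-level criterion for joint local surjectivity. -/
theorem jointlyLS_of_factor {F : Sp S} {κ : Type w} (Fi : κ → Sp S) (e : ∀ k, Fi k ⟶ F)
    (h : ∀ (T : Over S) (x : (yon S).obj T ⟶ F), ∃ Sv : Sieve T, Sv ∈ AlgSp.J S T ∧
      ∀ ⦃T' : Over S⦄ (φ : T' ⟶ T), Sv φ → ∃ (k : κ) (a : (yon S).obj T' ⟶ Fi k),
        a ≫ e k = (yon S).map φ ≫ x) : JointlyLS Fi e := by
  intro T x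
  obtain ⟨Sv, hSv, hfac⟩ := h T ((AlgSp.J S).uliftYonedaEquiv.{u+1}.symm x)
  refine (AlgSp.J S).superset_covering ?_ hSv
  intro T' φ hφ
  obtain ⟨k, a, ha⟩ := hfac φ hφ
  refine ⟨k, (AlgSp.J S).uliftYonedaEquiv.{u+1} a, ?_⟩
  rw [← GrothendieckTopology.uliftYonedaEquiv_comp, ha,
    ← GrothendieckTopology.uliftYonedaEquiv_naturality, Equiv.apply_symm_apply]

theorem JointlyLS.exists_factor {F : Sp S} {κ : Type w} {Fi : κ → Sp S} {e : ∀ k, Fi k ⟶ F}
    (h : JointlyLS Fi e) (T : Over S) (x : (yon S).obj T ⟶ F) :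
    ∃ Sv : Sieve T, Sv ∈ AlgSp.J S T ∧
      ∀ ⦃T' : Over S⦄ (φ : T' ⟶ T), Sv φ → ∃ (k : κ) (a : (yon S).obj T' ⟶ Fi k),
        a ≫ e k = (yon S).map φ ≫ x := by
  refine ⟨_, h T ((AlgSp.J S).uliftYonedaEquiv.{u+1} x), ?_⟩
  rintro T' φ ⟨k, a, ha⟩
  refine ⟨k, (AlgSp.J S).uliftYonedaEquiv.{u+1}.symm a, ?_⟩
  apply (AlgSp.J S).uliftYonedaEquiv.{u+1}.injective
  rw [GrothendieckTopology.uliftYonedaEquiv_comp, Equiv.apply_symm_apply, ha,
    GrothendieckTopology.uliftYonedaEquiv_naturality]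

/-- Gluing with the compatibility condition stated for morphisms from representables. -/
theorem glue' {F G : Sp S} {κ : Type w} (Fi : κ → Sp S) (e : ∀ k, Fi k ⟶ F)
    (hcov : JointlyLS Fi e) (g : ∀ k, Fi k ⟶ G)
    (hcompat : ∀ (k l : κ) (T : Over S) (a : (yon S).obj T ⟶ Fi k) (b : (yon S).obj T ⟶ Fi l),
      a ≫ e k = b ≫ e l → a ≫ g k = b ≫ g l) :
    ∃ γ : F ⟶ G, ∀ k, e k ≫ γ = g k := by
  refine glue Fi e hcov g ?_
  intro k l T a b hab
  rw [app_eq_uliftYonedaEquiv, app_eq_uliftYonedaEquiv] at hab ⊢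
  have := (AlgSp.J S).uliftYonedaEquiv.{u+1}.injective hab
  rw [hcompat k l T.unop _ _ this]

/-- Joint local surjectivity is stable under base change. -/
theorem jointlyLS_of_isPullback {B F : Sp S} {κ : Type w} {Fi : κ → Sp S} {e : ∀ k, Fi k ⟶ B}
    (h : JointlyLS Fi e) (p : F ⟶ B) (F' : κ → Sp S) (fst : ∀ k, F' k ⟶ F)
    (snd : ∀ k, F' k ⟶ Fi k) (sq : ∀ k, IsPullback (fst k) (snd k) p (e k)) :
    JointlyLS F' fst := by
  refine jointlyLS_of_factor _ _ fun T x => ?_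
  obtain ⟨Sv, hSv, hfac⟩ := h.exists_factor T (x ≫ p)
  refine ⟨Sv, hSv, fun T' φ hφ => ?_⟩
  obtain ⟨k, a, ha⟩ := hfac φ hφ
  refine ⟨k, (sq k).lift ((yon S).map φ ≫ x) a (by rw [Category.assoc, ha]), ?_⟩
  rw [(sq k).lift_fst]

/-- A jointly surjective family of étale charts is jointly locally surjective. -/
theorem jointlyLS_of_etale_charts {B : Sp S} {κ : Type w} (W : κ → Over S)
    (w : ∀ k, (yon S).obj (W k) ⟶ B) (hw : ∀ k, RepWith @Etale (w k))
    (hs : ∀ x : Points B, ∃ (k : κ) (u : ↥(W k).left), Points.ofPt (w k) u = x) :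
    JointlyLS (fun k => (yon S).obj (W k)) w := by
  refine jointlyLS_of_factor _ _ fun T x => ?_
  let P : κ → Over S := fun k => (hw k).rep.pullback x
  let g : ∀ k, P k ⟶ T := fun k => (hw k).rep.snd x
  have hg : ∀ k, Etale (g k).left := fun k => (hw k).property_snd x
  have hmem : Sieve.generate (Presieve.ofArrows P g) ∈ AlgSp.J S T := by
    refine generate_ofArrows_mem_J_of_fppf P g (fun k => ?_) (fun k => ?_) (fun t => ?_)
    · have := hg k; infer_instance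
    · have := hg k; infer_instance
    · obtain ⟨k, u, hu⟩ := hs (Points.ofPt x t)
      obtain ⟨v, -, hv⟩ := exists_of_isPullback_chart ((hw k).rep.isPullback x)
        (Points.schemeHomeo (W k) u) t (by
          rw [← hu, Points.ofPt_eq_map_ofScheme]; rfl)
      exact ⟨k, v, hv⟩
  refine ⟨_, hmem, ?_⟩
  rintro T' φ ⟨Y, h', g', ⟨k⟩, rfl⟩
  refine ⟨k, (yon S).map h' ≫ (hw k).rep.fst x, ?_⟩
  rw [Category.assoc, ((hw k).rep.isPullback x).w, Functor.map_comp, Category.assoc]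

end Groth.Agent.Lib.Helper3.RelNorm
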