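import Mathlib
import Groth.Agent.Lib.Helper3.RNGlue2
import Groth.Agent.Lib.Helper3.AlgSpRepLocal2
import Groth.Agent.Lib.Helper3.AlgSpFibre
import Groth.Prelude.Def_AlgSpMor5

set_option autoImplicit false
universe u w

namespace Groth.Agent.Lib.Helper3.RelNorm

open CategoryTheory CategoryTheory.Limits AlgebraicGeometry Opposite AlgSp
open Groth.Agent.Lib.Helper3

variable {S : Scheme.{u}}

theorem isIntegralMor_of_isPullback {F G F' G' : Sp S} {f : F ⟶ G} {g : G' ⟶ G} {fst : F' ⟶ F}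
    {snd : F' ⟶ G'} (sq : IsPullback fst snd f g) (hf : IsIntegralMor f) : IsIntegralMor snd := by
  rw [isIntegralMor_iff_repWith] at hf ⊢
  exact MorphismProperty.of_isPullback sq hf

theorem isIntegralMor_of_iso {F G F₁ G₁ : Sp S} {f : F ⟶ G} {f₁ : F₁ ⟶ G₁} (eF : F₁ ≅ F)
    (eG : G₁ ≅ G) (h : f₁ ≫ eG.hom = eF.hom ≫ f) (hf : IsIntegralMor f) : IsIntegralMor f₁ := by
  rw [isIntegralMor_iff_repWith] at hf ⊢
  have h1 : f₁ = eF.hom ≫ f ≫ eG.inv := by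
    rw [← Category.assoc, ← h, Category.assoc, Iso.hom_inv_id, Category.comp_id]
  rw [h1]
  exact MorphismProperty.RespectsIso.precomp _ _ _
    (MorphismProperty.RespectsIso.postcomp _ _ _ hf)

/-- Transport of a relative normalization along isomorphisms. -/
theorem isRelNormalization_of_iso {F G X' F₁ G₁ X'₁ : Sp S} {f : F ⟶ G} {ν : X' ⟶ G}
    {f' : F ⟶ X'} (eF : F₁ ≅ F) (eG : G₁ ≅ G) (eX : X'₁ ≅ X') {f₁ : F₁ ⟶ G₁} {ν₁ : X'₁ ⟶ G₁}
    {f'₁ : F₁ ⟶ X'₁} (h1 : f₁ ≫ eG.hom = eF.hom ≫ f) (h2 : ν₁ ≫ eG.hom = eX.hom ≫ ν)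
    (h3 : f'₁ ≫ eX.hom = eF.hom ≫ f') (h : IsRelNormalization f ν f') :
    IsRelNormalization f₁ ν₁ f'₁ := by
  obtain ⟨hfac, hint, huniv⟩ := h
  refine ⟨?_, isIntegralMor_of_iso eX eG h2 hint, ?_⟩
  · rw [← cancel_mono eG.hom, Category.assoc, h2, ← Category.assoc, h3, Category.assoc, hfac, h1]
  · intro Z hZ π g hπ hg
    have hπ' : IsIntegralMor (π ≫ eG.hom) := by
      refine isIntegralMor_of_iso (Iso.refl Z) eG.symm ?_ hπ
      simp
    obtain ⟨h₀, ⟨hh1, hh2⟩, huniq⟩ := huniv hZ (π ≫ eG.hom) (eF.inv ≫ g) hπ' (by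
      rw [Category.assoc, ← Category.assoc g, hg, h1, Iso.inv_hom_id_assoc])
    refine ⟨eX.hom ≫ h₀, ⟨?_, ?_⟩, ?_⟩
    · rw [← Category.assoc, h3, Category.assoc, hh1, Iso.hom_inv_id_assoc]
    · rw [← cancel_mono eG.hom, Category.assoc, Category.assoc, hh2, h2]
    · intro h' ⟨k1, k2⟩
      have := huniq (eX.inv ≫ h') ⟨?_, ?_⟩
      · rw [← this, Iso.hom_inv_id_assoc]
      · rw [← cancel_epi eF.hom, ← Category.assoc, ← Category.assoc, ← h3, Category.assoc,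
          Category.assoc, Iso.hom_inv_id_assoc, k1, Iso.hom_inv_id_assoc]
      · rw [Category.assoc, ← Category.assoc h', k2, h2, Iso.inv_hom_id_assoc]

/-- Uniqueness of the relative normalization. -/
theorem isRelNormalization_unique {F G X'₁ X'₂ : Sp S} (h1 : IsAlgSpace X'₁)
    (h2 : IsAlgSpace X'₂) {f : F ⟶ G} {ν₁ : X'₁ ⟶ G} {f'₁ : F ⟶ X'₁} {ν₂ : X'₂ ⟶ G}
    {f'₂ : F ⟶ X'₂} (n1 : IsRelNormalization f ν₁ f'₁) (n2 : IsRelNormalization f ν₂ f'₂) :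
    ∃ e : X'₁ ≅ X'₂, f'₁ ≫ e.hom = f'₂ ∧ e.hom ≫ ν₂ = ν₁ := by
  obtain ⟨a, ⟨a1, a2⟩, -⟩ := n1.2.2 h2 ν₂ f'₂ n2.2.1 n2.1
  obtain ⟨b, ⟨b1, b2⟩, -⟩ := n2.2.2 h1 ν₁ f'₁ n1.2.1 n1.1
  obtain ⟨c, -, hc⟩ := n1.2.2 h1 ν₁ f'₁ n1.2.1 n1.1
  obtain ⟨d, -, hd⟩ := n2.2.2 h2 ν₂ f'₂ n2.2.1 n2.1
  have e1 : a ≫ b = 𝟙 _ := by
    rw [hc (a ≫ b) ⟨by rw [← Category.assoc, a1, b1], by rw [Category.assoc, b2, a2]⟩,
      hc (𝟙 _) ⟨by simp, by simp⟩]
  have e2 : b ≫ a = 𝟙 _ := by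
    rw [hd (b ≫ a) ⟨by rw [← Category.assoc, b1, a1], by rw [Category.assoc, a2, b2]⟩,
      hd (𝟙 _) ⟨by simp, by simp⟩]
  exact ⟨⟨a, b, e1, e2⟩, a1, a2⟩

/-- The base change of the data `(f, ν, f')` along `w` (with the chosen pullbacks) is a relative
normalization. -/
def NormAt {F G X' A : Sp S} (f : F ⟶ G) (ν : X' ⟶ G) (f' : F ⟶ X') (hf : f' ≫ ν = f)
    (w : A ⟶ G) : Prop :=
  IsRelNormalization (pullback.snd f w) (pullback.snd ν w)
    (pullback.map f w ν w f' (𝟙 _) (𝟙 _) (by rw [Category.comp_id, hf]) (by simp))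

theorem normAt_iff_of_isPullback {F G X' A : Sp S} {f : F ⟶ G} {ν : X' ⟶ G} {f' : F ⟶ X'}
    (hf : f' ≫ ν = f) (w : A ⟶ G) {FA XA : Sp S} {a : FA ⟶ F} {fA : FA ⟶ A} {b : XA ⟶ X'}
    {νA : XA ⟶ A} (sq1 : IsPullback a fA f w) (sq2 : IsPullback b νA ν w) (f'A : FA ⟶ XA)
    (c1 : f'A ≫ νA = fA) (c2 : f'A ≫ b = a ≫ f') :
    NormAt f ν f' hf w ↔ IsRelNormalization fA νA f'A := by
  have k1 : fA ≫ (Iso.refl A).hom = sq1.isoPullback.hom ≫ pullback.snd f w := by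
    simp
  have k2 : νA ≫ (Iso.refl A).hom = sq2.isoPullback.hom ≫ pullback.snd ν w := by
    simp
  have k3 : f'A ≫ sq2.isoPullback.hom = sq1.isoPullback.hom ≫
      pullback.map f w ν w f' (𝟙 _) (𝟙 _) (by rw [Category.comp_id, hf]) (by simp) := by
    apply pullback.hom_ext
    · rw [Category.assoc, Category.assoc, sq2.isoPullback_hom_fst, pullback.lift_fst, c2,
        sq1.isoPullback_hom_fst_assoc]
    · rw [Category.assoc, Category.assoc, sq2.isoPullback_hom_snd, pullback.lift_snd, c1,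
        sq1.isoPullback_hom_snd_assoc, Category.comp_id]
  constructor
  · intro h
    exact isRelNormalization_of_iso sq1.isoPullback (Iso.refl A) sq2.isoPullback k1 k2 k3 h
  · intro h
    refine isRelNormalization_of_iso sq1.isoPullback.symm (Iso.refl A) sq2.isoPullback.symm
      ?_ ?_ ?_ h
    · simp
    · simp
    · rw [Iso.symm_hom, Iso.symm_hom, ← cancel_epi sq1.isoPullback.hom, Iso.hom_inv_id_assoc,
        ← Category.assoc, ← k3, Category.assoc, Iso.hom_inv_id, Category.comp_id]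

end Groth.Agent.Lib.Helper3.RelNorm
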