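import Mathlib
import Groth.Agent.Lib.Helper3.RNBasic

set_option autoImplicit false
universe u w

namespace Groth.Agent.Lib.Helper3.RelNorm

open CategoryTheory CategoryTheory.Limits AlgebraicGeometry Opposite AlgSp
open Groth.Agent.Lib.Helper3

variable {S : Scheme.{u}}

section
variable {C : Type*} [Category C] {W X Y Z S' T : C} (f₁ : W ⟶ S') (f₂ : X ⟶ S') [HasPullback f₁ f₂]
  (g₁ : Y ⟶ T) (g₂ : Z ⟶ T) [HasPullback g₁ g₂] (i₁ : W ⟶ Y) (i₂ : X ⟶ Z) (i₃ : S' ⟶ T)
  (e₁ : f₁ ≫ i₃ = i₁ ≫ g₁) (e₂ : f₂ ≫ i₃ = i₂ ≫ g₂)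

@[reassoc (attr := simp)]
theorem map_fst' : pullback.map f₁ f₂ g₁ g₂ i₁ i₂ i₃ e₁ e₂ ≫ pullback.fst g₁ g₂ =
    pullback.fst f₁ f₂ ≫ i₁ := pullback.lift_fst _ _ _

@[reassoc (attr := simp)]
theorem map_snd' : pullback.map f₁ f₂ g₁ g₂ i₁ i₂ i₃ e₁ e₂ ≫ pullback.snd g₁ g₂ =
    pullback.snd f₁ f₂ ≫ i₂ := pullback.lift_snd _ _ _
end

/-- Two morphisms out of a representable sheaf agree if they agree on a covering sieve. -/
theorem yon_hom_ext_of_sieve {F : Sp S} {T : Over S} (Sv : Sieve T) (hSv : Sv ∈ AlgSp.J S T)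
    (α β : (yon S).obj T ⟶ F)
    (h : ∀ ⦃T' : Over S⦄ (φ : T' ⟶ T), Sv φ → (yon S).map φ ≫ α = (yon S).map φ ≫ β) : α = β := by
  apply (AlgSp.J S).uliftYonedaEquiv.{u+1}.injective
  have hF : Presieve.IsSheaf (AlgSp.J S) F.obj := (isSheaf_iff_isSheaf_of_type _ _).1 F.property
  refine (hF _ hSv).isSeparatedFor.ext ?_
  intro T' φ hφ
  rw [GrothendieckTopology.uliftYonedaEquiv_naturality,
    GrothendieckTopology.uliftYonedaEquiv_naturality, h φ hφ]

section local_map

variable {Y B X' Z : Sp S} {f : Y ⟶ B} {ν : X' ⟶ B} {f' : Y ⟶ X'} (hf : f' ≫ ν = f)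
  (hB : IsAlgSpace B) (hZ : IsAlgSpace Z) (π : Z ⟶ B) (g : Y ⟶ Z) (hπ : IsIntegralMor π)
  (hg : g ≫ π = f)

include hB hZ hπ hg in
/-- The local solution of the universal problem over a chart at which the data is a
normalization. -/
theorem exists_local_map {W : Over S} (w : (yon S).obj W ⟶ B) (hw : NormAt f ν f' hf w) :
    ∃ H : pullback ν w ⟶ Z,
      (pullback.map f w ν w f' (𝟙 _) (𝟙 _) (by rw [Category.comp_id, hf]) (by simp) ≫ H =
        pullback.fst f w ≫ g ∧ H ≫ π = pullback.snd ν w ≫ w) ∧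
      ∀ H' : pullback ν w ⟶ Z,
        (pullback.map f w ν w f' (𝟙 _) (𝟙 _) (by rw [Category.comp_id, hf]) (by simp) ≫ H' =
          pullback.fst f w ≫ g ∧ H' ≫ π = pullback.snd ν w ≫ w) → H' = H := by
  have hZw : IsAlgSpace (pullback π w) :=
    isAlgSpace_of_isPullback' hB hZ (IsAlgSpace.yon_obj W) (IsPullback.of_hasPullback π w)
  have hπw : IsIntegralMor (pullback.snd π w) :=
    isIntegralMor_of_isPullback (IsPullback.of_hasPullback π w) hπ
  let gw : pullback f w ⟶ pullback π w :=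
    pullback.map f w π w g (𝟙 _) (𝟙 _) (by rw [Category.comp_id, hg]) (by simp)
  have hgw : gw ≫ pullback.snd π w = pullback.snd f w := by
    simp [gw]
  obtain ⟨h, ⟨h1, h2⟩, huniq⟩ := hw.2.2 hZw (pullback.snd π w) gw hπw hgw
  refine ⟨h ≫ pullback.fst π w, ⟨?_, ?_⟩, ?_⟩
  · rw [← Category.assoc, h1]
    simp [gw]
  · rw [Category.assoc, pullback.condition, ← Category.assoc, h2]
  · rintro H' ⟨k1, k2⟩
    have := huniq (pullback.lift H' (pullback.snd ν w) k2) ⟨?_, ?_⟩
    · rw [← this, pullback.lift_fst]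
    · apply pullback.hom_ext
      · rw [Category.assoc, pullback.lift_fst, k1]
        simp [gw]
      · rw [Category.assoc, pullback.lift_snd, hgw]
        simp
    · rw [pullback.lift_snd]

end local_map

/-- **Locality of the relative normalization**: if the data `(f, ν, f')` over an algebraic
space `B` is a relative normalization after base change to each member of a covering family of
charts, and the overlaps of the charts are locally covered by charts at which it is again a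
relative normalization, then `(f, ν, f')` is a relative normalization. -/
theorem isRelNormalization_of_local {Y B X' : Sp S} (hB : IsAlgSpace B)
    (f : Y ⟶ B) (ν : X' ⟶ B) (f' : Y ⟶ X') (hf : f' ≫ ν = f) (hν : IsIntegralMor ν)
    {κ : Type w} (W : κ → Over S) (wk : ∀ k, (yon S).obj (W k) ⟶ B)
    (hcov : JointlyLS (fun k => (yon S).obj (W k)) wk)
    (hloc : ∀ k, NormAt f ν f' hf (wk k))
    (hloc2 : ∀ (k l : κ) (T : Over S) (a : T ⟶ W k) (b : T ⟶ W l),
      (yon S).map a ≫ wk k = (yon S).map b ≫ wk l →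
      ∃ Sv : Sieve T, Sv ∈ AlgSp.J S T ∧ ∀ ⦃T' : Over S⦄ (φ : T' ⟶ T), Sv φ →
        ∃ (W'' : Over S) (τ : T' ⟶ W'') (p : W'' ⟶ W k) (q : W'' ⟶ W l),
          τ ≫ p = φ ≫ a ∧ τ ≫ q = φ ≫ b ∧ (yon S).map p ≫ wk k = (yon S).map q ≫ wk l ∧
          NormAt f ν f' hf ((yon S).map p ≫ wk k)) :
    IsRelNormalization f ν f' := by
  refine ⟨hf, hν, ?_⟩
  intro Z hZ π g hπ hg
  -- local maps
  choose H hH hHuniq using fun k => exists_local_map hf hB hZ π g hπ hg (wk k) (hloc k)
  -- naturality of local maps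
  have hnat : ∀ (k : κ) (W'' : Over S) (p : W'' ⟶ W k) (w'' : (yon S).obj W'' ⟶ B)
      (hp : (yon S).map p ≫ wk k = w'') (hw'' : NormAt f ν f' hf w'')
      (H'' : pullback ν w'' ⟶ Z)
      (hH'' : ∀ H' : pullback ν w'' ⟶ Z,
        (pullback.map f w'' ν w'' f' (𝟙 _) (𝟙 _) (by rw [Category.comp_id, hf]) (by simp) ≫ H' =
          pullback.fst f w'' ≫ g ∧ H' ≫ π = pullback.snd ν w'' ≫ w'') → H' = H''),
      pullback.map ν w'' ν (wk k) (𝟙 _) ((yon S).map p) (𝟙 _) (by simp) (by simp [hp]) ≫ H k =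
        H'' := by
    intro k W'' p w'' hp hw'' H'' hH''
    refine hH'' _ ⟨?_, ?_⟩
    · have e1 : pullback.map f w'' ν w'' f' (𝟙 _) (𝟙 _) (by rw [Category.comp_id, hf]) (by simp) ≫
          pullback.map ν w'' ν (wk k) (𝟙 _) ((yon S).map p) (𝟙 _) (by simp) (by simp [hp]) =
          pullback.map f w'' f (wk k) (𝟙 _) ((yon S).map p) (𝟙 _) (by simp) (by simp [hp]) ≫
          pullback.map f (wk k) ν (wk k) f' (𝟙 _) (𝟙 _) (by rw [Category.comp_id, hf])
            (by simp) := by
        apply pullback.hom_ext <;> simp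
      rw [← Category.assoc, e1, Category.assoc, (hH k).1]
      simp
    · rw [Category.assoc, (hH k).2]
      simp [← hp]
  -- gluing
  have hcovX : JointlyLS (fun k => pullback ν (wk k)) (fun k => pullback.fst ν (wk k)) :=
    jointlyLS_of_isPullback hcov ν _ _ (fun k => pullback.snd ν (wk k))
      (fun k => IsPullback.of_hasPullback ν (wk k))
  have hcovY : JointlyLS (fun k => pullback f (wk k)) (fun k => pullback.fst f (wk k)) :=
    jointlyLS_of_isPullback hcov f _ _ (fun k => pullback.snd f (wk k))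
      (fun k => IsPullback.of_hasPullback f (wk k))
  obtain ⟨h, hh⟩ := glue' (fun k => pullback ν (wk k)) (fun k => pullback.fst ν (wk k)) hcovX H (by
    intro k l T a b hab
    obtain ⟨a₀, ha₀⟩ := (yon S).map_surjective (a ≫ pullback.snd ν (wk k))
    obtain ⟨b₀, hb₀⟩ := (yon S).map_surjective (b ≫ pullback.snd ν (wk l))
    have hab' : (yon S).map a₀ ≫ wk k = (yon S).map b₀ ≫ wk l := by
      rw [ha₀, hb₀, Category.assoc, Category.assoc, ← pullback.condition, ← pullback.condition,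
        ← Category.assoc, hab, Category.assoc]
    obtain ⟨Sv, hSv, hS⟩ := hloc2 k l T a₀ b₀ hab'
    refine yon_hom_ext_of_sieve Sv hSv _ _ fun T' φ hφ => ?_
    obtain ⟨W'', τ, p, q, h1, h2, h3, h4⟩ := hS φ hφ
    obtain ⟨H'', hH''1, hH''2⟩ := exists_local_map hf hB hZ π g hπ hg _ h4
    have n1 := hnat k W'' p _ rfl h4 H'' hH''2
    have n2 := hnat l W'' q _ h3.symm h4 H'' hH''2
    have hℓ : ((yon S).map φ ≫ a ≫ pullback.fst ν (wk k)) ≫ ν =
        (yon S).map τ ≫ (yon S).map p ≫ wk k := by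
      rw [Category.assoc, Category.assoc, pullback.condition, ← Category.assoc a, ← ha₀,
        ← Functor.map_comp_assoc, ← Functor.map_comp_assoc, h1]
    let ℓ : (yon S).obj T' ⟶ pullback ν ((yon S).map p ≫ wk k) :=
      pullback.lift ((yon S).map φ ≫ a ≫ pullback.fst ν (wk k)) ((yon S).map τ) hℓ
    have e1 : (yon S).map φ ≫ a = ℓ ≫ pullback.map ν ((yon S).map p ≫ wk k) ν (wk k) (𝟙 _)
        ((yon S).map p) (𝟙 _) (by simp) (by simp) := by
      apply pullback.hom_ext
      · rw [Category.assoc, Category.assoc, map_fst', Category.comp_id, pullback.lift_fst]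
      · rw [Category.assoc, Category.assoc, map_snd', ← Category.assoc ℓ,
          pullback.lift_snd, ← ha₀, ← Functor.map_comp, ← Functor.map_comp, h1]
    have e2 : (yon S).map φ ≫ b = ℓ ≫ pullback.map ν ((yon S).map p ≫ wk k) ν (wk l) (𝟙 _)
        ((yon S).map q) (𝟙 _) (by simp) (by simp [h3]) := by
      apply pullback.hom_ext
      · rw [Category.assoc, Category.assoc, map_fst', Category.comp_id, pullback.lift_fst, hab]
      · rw [Category.assoc, Category.assoc, map_snd', ← Category.assoc ℓ,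
          pullback.lift_snd, ← hb₀, ← Functor.map_comp, ← Functor.map_comp, h2]
    rw [← Category.assoc, e1, Category.assoc, n1, ← Category.assoc ((yon S).map φ), e2,
      Category.assoc, n2])
  have hfh : f' ≫ h = g := by
    refine hom_ext_of_jointlyLS _ _ hcovY _ _ fun k => ?_
    have e1 : pullback.fst f (wk k) ≫ f' =
        pullback.map f (wk k) ν (wk k) f' (𝟙 _) (𝟙 _) (by rw [Category.comp_id, hf]) (by simp) ≫
          pullback.fst ν (wk k) := by simp
    rw [← Category.assoc, e1, Category.assoc, hh k, (hH k).1]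
  have hhπ : h ≫ π = ν := by
    refine hom_ext_of_jointlyLS _ _ hcovX _ _ fun k => ?_
    rw [← Category.assoc, hh k, (hH k).2, pullback.condition]
  refine ⟨h, ⟨hfh, hhπ⟩, ?_⟩
  rintro h₁ ⟨k1, k2⟩
  refine hom_ext_of_jointlyLS _ _ hcovX _ _ fun k => ?_
  rw [hh k]
  refine hHuniq k _ ⟨?_, ?_⟩
  · have e1 : pullback.map f (wk k) ν (wk k) f' (𝟙 _) (𝟙 _) (by rw [Category.comp_id, hf])
        (by simp) ≫ pullback.fst ν (wk k) = pullback.fst f (wk k) ≫ f' := by simp
    rw [← Category.assoc, e1, Category.assoc, k1]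
  · rw [Category.assoc, k2, pullback.condition]

end Groth.Agent.Lib.Helper3.RelNorm
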