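import Mathlib
import Groth.Agent.Lib.Helper3.RNLoc
import Groth.Agent.Lib.Helper3.AlgSpHasAtMor

set_option autoImplicit false
universe u w

namespace Groth.Agent.Lib.Helper3.RelNorm

open CategoryTheory CategoryTheory.Limits AlgebraicGeometry Opposite AlgSp
open Groth.Agent.Lib.Helper3

variable {S : Scheme.{u}}

section
variable {F G X' A : Sp S} (f : F ⟶ G) (ν : X' ⟶ G) (f' : F ⟶ X') (hf : f' ≫ ν = f) (w : A ⟶ G)

/-- The base change of `f'`. -/
noncomputable abbrev bcMap : pullback f w ⟶ pullback ν w :=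
  pullback.map f w ν w f' (𝟙 _) (𝟙 _) (by rw [Category.comp_id, hf]) (by simp)

theorem bcMap_snd : bcMap f ν f' hf w ≫ pullback.snd ν w = pullback.snd f w := by
  rw [map_snd', Category.comp_id]

theorem bcMap_fst : bcMap f ν f' hf w ≫ pullback.fst ν w = pullback.fst f w ≫ f' :=
  map_fst' _ _ _ _ _ _ _ _ _

theorem normAt_def : NormAt f ν f' hf w ↔
    IsRelNormalization (pullback.snd f w) (pullback.snd ν w) (bcMap f ν f' hf w) := Iff.rfl

/-- Transitivity of base change for `NormAt`. -/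
theorem normAt_comp {A' : Sp S} (w' : A' ⟶ A) :
    NormAt (pullback.snd f w) (pullback.snd ν w) (bcMap f ν f' hf w) (bcMap_snd f ν f' hf w) w' ↔
      NormAt f ν f' hf (w' ≫ w) := by
  have sq1 := (IsPullback.of_hasPullback (pullback.snd f w) w').paste_horiz
    (IsPullback.of_hasPullback f w)
  have sq2 := (IsPullback.of_hasPullback (pullback.snd ν w) w').paste_horiz
    (IsPullback.of_hasPullback ν w)
  rw [normAt_iff_of_isPullback hf (w' ≫ w) sq1 sq2
    (bcMap (pullback.snd f w) (pullback.snd ν w) (bcMap f ν f' hf w) (bcMap_snd f ν f' hf w) w')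
    (bcMap_snd _ _ _ _ _)
    (by rw [← Category.assoc, bcMap_fst, Category.assoc, bcMap_fst, Category.assoc])]
  rfl

end

/-- The data is a relative normalization after every base change along a chart from an affine
scheme with property `Q`. -/
def UN (Q : MorphismProperty Scheme.{u}) {F G X' : Sp S} (f : F ⟶ G) (ν : X' ⟶ G) (f' : F ⟶ X')
    (hf : f' ≫ ν = f) : Prop :=
  ∀ ⦃W : Over S⦄ (w : (yon S).obj W ⟶ G), IsAffine W.left → RepWith Q w → NormAt f ν f' hf w

/-- Base change of `UN`. -/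
theorem UN.baseChange {Q : MorphismProperty Scheme.{u}} {F G X' G₁ : Sp S} {f : F ⟶ G}
    {ν : X' ⟶ G} {f' : F ⟶ X'} {hf : f' ≫ ν = f} (h : UN Q f ν f' hf) (φ : G₁ ⟶ G)
    (hφ : ∀ ⦃W : Over S⦄ (w : (yon S).obj W ⟶ G₁), IsAffine W.left → RepWith Q w →
      RepWith Q (w ≫ φ)) :
    UN Q (pullback.snd f φ) (pullback.snd ν φ) (bcMap f ν f' hf φ) (bcMap_snd f ν f' hf φ) := by
  intro W w hW hw
  rw [normAt_comp]
  exact h (w ≫ φ) hW (hφ w hW hw)

end Groth.Agent.Lib.Helper3.RelNorm
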