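import Mathlib
import Groth.Agent.Lib.Helper3.RNUn
import Groth.Agent.Lib.Helper3.SpUC
import Groth.Agent.Lib.Helper3.AlgSpDiag

set_option autoImplicit false
universe u w

namespace Groth.Agent.Lib.Helper3.RelNorm

open CategoryTheory CategoryTheory.Limits AlgebraicGeometry Opposite AlgSp
open Groth.Agent.Lib.Helper3

variable {S : Scheme.{u}}

/-- The overlap of two étale charts is covered by affine charts étale over both. -/
theorem exists_affine_overlap_cover {B : Sp S} {Wk Wl : Over S} (wk : (yon S).obj Wk ⟶ B)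
    (wl : (yon S).obj Wl ⟶ B) (hk : RepWith @Etale wk) (hl : RepWith @Etale wl) (T : Over S)
    (a : T ⟶ Wk) (b : T ⟶ Wl) (hab : (yon S).map a ≫ wk = (yon S).map b ≫ wl) :
    ∃ Sv : Sieve T, Sv ∈ AlgSp.J S T ∧ ∀ ⦃T' : Over S⦄ (φ : T' ⟶ T), Sv φ →
      ∃ (W'' : Over S) (τ : T' ⟶ W'') (p : W'' ⟶ Wk) (q : W'' ⟶ Wl),
        τ ≫ p = φ ≫ a ∧ τ ≫ q = φ ≫ b ∧ (yon S).map p ≫ wk = (yon S).map q ≫ wl ∧
        IsAffine W''.left ∧ RepWith @Etale ((yon S).map p ≫ wk) := by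
  let P : Over S := hk.rep.pullback wl
  let pk : P ⟶ Wk := hk.rep.fst' wl
  let pl : P ⟶ Wl := hk.rep.snd wl
  have sqP : IsPullback ((yon S).map pk) ((yon S).map pl) wk wl := hk.rep.isPullback' wl
  have hpk : RepWith @Etale ((yon S).map pk) := MorphismProperty.of_isPullback sqP.flip hl
  obtain ⟨m, hm⟩ := (yon S).map_surjective (sqP.lift _ _ hab)
  have hm1 : m ≫ pk = a := by
    apply (yon S).map_injective
    rw [Functor.map_comp, hm, sqP.lift_fst]
  have hm2 : m ≫ pl = b := by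
    apply (yon S).map_injective
    rw [Functor.map_comp, hm, sqP.lift_snd]
  let TO : P.left.affineOpens → Over S := fun O => Over.mk ((m.left ⁻¹ᵁ O.1).ι ≫ T.hom)
  let jO : ∀ O, TO O ⟶ T := fun O => Over.homMk (m.left ⁻¹ᵁ O.1).ι rfl
  have hmem : Sieve.generate (Presieve.ofArrows TO jO) ∈ AlgSp.J S T := by
    refine generate_ofArrows_mem_J TO jO (fun O => inferInstanceAs (IsOpenImmersion (Scheme.Opens.ι _)))
      (fun t => ?_)
    obtain ⟨_, ⟨O, hO, rfl⟩, htO, -⟩ := P.left.isBasis_affineOpens.exists_subset_of_mem_open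
      (Set.mem_univ (m.left t)) isOpen_univ
    exact ⟨⟨O, hO⟩, ⟨t, htO⟩, rfl⟩
  refine ⟨_, hmem, ?_⟩
  rintro T' φ ⟨Y, h', g', ⟨O⟩, rfl⟩
  let W'' : Over S := Over.mk (O.1.ι ≫ P.hom)
  let ιO : W'' ⟶ P := Over.homMk O.1.ι rfl
  have hmw : (m.left ∣_ O.1) ≫ O.1.ι ≫ P.hom = (m.left ⁻¹ᵁ O.1).ι ≫ T.hom := by
    rw [← Category.assoc, morphismRestrict_ι, Category.assoc, Over.w m]
  let mO : TO O ⟶ W'' := Over.homMk (m.left ∣_ O.1) hmw
  have hmO : mO ≫ ιO = jO O ≫ m := by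
    ext
    exact morphismRestrict_ι _ _
  have hW'' : IsAffine W''.left := O.2
  have hιO : RepWith @Etale ((yon S).map ιO) :=
    (repWith_yon_map_iff _ _).2 (inferInstanceAs (Etale O.1.ι))
  refine ⟨W'', h' ≫ mO, ιO ≫ pk, ιO ≫ pl, ?_, ?_, ?_, hW'', ?_⟩
  · rw [Category.assoc, ← Category.assoc mO, hmO, Category.assoc, hm1, Category.assoc]
  · rw [Category.assoc, ← Category.assoc mO, hmO, Category.assoc, hm2, Category.assoc]
  · rw [Functor.map_comp, Functor.map_comp, Category.assoc, Category.assoc, sqP.w]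
  · rw [Functor.map_comp, Category.assoc]
    exact MorphismProperty.comp_mem _ _ _ hιO (MorphismProperty.comp_mem _ _ _ hpk hk)

/-- Universal normalization data over an algebraic space is a relative normalization. -/
theorem isRelNormalization_of_UN {Q : MorphismProperty Scheme.{u}} (hQ : @Etale ≤ Q)
    {Y B X' : Sp S} (hB : IsAlgSpace B) (f : Y ⟶ B) (ν : X' ⟶ B) (f' : Y ⟶ X')
    (hf : f' ≫ ν = f) (hν : IsIntegralMor ν) (h : UN Q f ν f' hf) :
    IsRelNormalization f ν f' := by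
  obtain ⟨U₀, c₀, hc₀e, hc₀s⟩ := hB.atlas
  let W : U₀.left.affineOpens → Over S := fun k => Over.mk (k.1.ι ≫ U₀.hom)
  let ιk : ∀ k, W k ⟶ U₀ := fun k => Over.homMk k.1.ι rfl
  let wk : ∀ k, (yon S).obj (W k) ⟶ B := fun k => (yon S).map (ιk k) ≫ c₀
  have hwk : ∀ k, RepWith @Etale (wk k) := fun k =>
    MorphismProperty.comp_mem _ _ _
      ((repWith_yon_map_iff _ _).2 (inferInstanceAs (Etale k.1.ι))) hc₀e
  have hWa : ∀ k, IsAffine (W k).left := fun k => k.2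
  have hcov : JointlyLS (fun k => (yon S).obj (W k)) wk := by
    refine jointlyLS_of_etale_charts W wk hwk fun x => ?_
    obtain ⟨u, rfl⟩ := exists_ofPt_eq c₀ hc₀s x
    obtain ⟨_, ⟨O, hO, rfl⟩, huO, -⟩ := U₀.left.isBasis_affineOpens.exists_subset_of_mem_open
      (Set.mem_univ u) isOpen_univ
    refine ⟨⟨O, hO⟩, ⟨u, huO⟩, ?_⟩
    rw [SpUC.ofPt_comp_yon_map]
    rfl
  refine isRelNormalization_of_local hB f ν f' hf hν W wk hcov
    (fun k => h (wk k) (hWa k) (repWith_mono hQ (hwk k))) ?_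
  · intro k l T a b hab
    obtain ⟨Sv, hSv, hS⟩ := exists_affine_overlap_cover (wk k) (wk l) (hwk k) (hwk l) T a b hab
    refine ⟨Sv, hSv, fun T' φ hφ => ?_⟩
    obtain ⟨W'', τ, p, q, h1, h2, h3, h4, h5⟩ := hS φ hφ
    exact ⟨W'', τ, p, q, h1, h2, h3, h _ h4 (repWith_mono hQ h5)⟩

end Groth.Agent.Lib.Helper3.RelNorm
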