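import Mathlib
import Groth.Agent.Lib.Helper3.RNUn2

set_option autoImplicit false
universe u w

namespace Groth.Agent.Lib.Helper3.RelNorm

open CategoryTheory CategoryTheory.Limits AlgebraicGeometry Opposite AlgSp
open Groth.Agent.Lib.Helper3

variable {S : Scheme.{u}}

theorem isIntegralMor_yon_map {A B : Over S} (g : A ⟶ B) (h : IsIntegralHom g.left) :
    IsIntegralMor ((yon S).map g) :=
  (isIntegralMor_iff_repWith _).2 ((repWith_yon_map_iff _ _).2 h)

section chart

variable {X Y : Sp S} (f : Y ⟶ X) {U E : Over S} (c : (yon S).obj U ⟶ X) (νU : E ⟶ U)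
  (f'U : pullback f c ⟶ (yon S).obj E) (hfU : f'U ≫ (yon S).map νU = pullback.snd f c)

/-- The map `Y_w ⟶ Y_U` for a chart `ω : W ⟶ U`. -/
noncomputable def kap {W : Over S} (ω : W ⟶ U) (w : (yon S).obj W ⟶ X)
    (hω : (yon S).map ω ≫ c = w) : pullback f w ⟶ pullback f c :=
  pullback.map f w f c (𝟙 _) ((yon S).map ω) (𝟙 _) (by simp) (by simp [hω])

theorem kap_fst {W : Over S} (ω : W ⟶ U) (w : (yon S).obj W ⟶ X)
    (hω : (yon S).map ω ≫ c = w) : kap f c ω w hω ≫ pullback.fst f c = pullback.fst f w := by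
  unfold kap
  rw [map_fst', Category.comp_id]

theorem kap_snd {W : Over S} (ω : W ⟶ U) (w : (yon S).obj W ⟶ X)
    (hω : (yon S).map ω ≫ c = w) :
    kap f c ω w hω ≫ pullback.snd f c = pullback.snd f w ≫ (yon S).map ω := by
  unfold kap
  rw [map_snd']

theorem isPullback_kap {W : Over S} (ω : W ⟶ U) (w : (yon S).obj W ⟶ X)
    (hω : (yon S).map ω ≫ c = w) :
    IsPullback (kap f c ω w hω) (pullback.snd f w) (pullback.snd f c) ((yon S).map ω) := by
  subst hω
  refine IsPullback.of_right ?_ (kap_snd f c ω _ rfl) (IsPullback.of_hasPullback f c)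
  rw [kap_fst]
  exact IsPullback.of_hasPullback f _

include hfU in
theorem fOm_aux {W : Over S} (ω : W ⟶ U) (w : (yon S).obj W ⟶ X)
    (hω : (yon S).map ω ≫ c = w) :
    (kap f c ω w hω ≫ f'U) ≫ (yon S).map νU = pullback.snd f w ≫ (yon S).map ω := by
  rw [Category.assoc, hfU, kap_snd]

/-- The map `Y_w ⟶ h_{E ×_U W}`. -/
noncomputable def fOm {W : Over S} (ω : W ⟶ U) (w : (yon S).obj W ⟶ X)
    (hω : (yon S).map ω ≫ c = w) : pullback f w ⟶ (yon S).obj (pullback νU ω) :=
  ((IsPullback.of_hasPullback νU ω).map (yon S)).lift (kap f c ω w hω ≫ f'U) (pullback.snd f w)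
    (fOm_aux f c νU f'U hfU ω w hω)

theorem fOm_fst {W : Over S} (ω : W ⟶ U) (w : (yon S).obj W ⟶ X)
    (hω : (yon S).map ω ≫ c = w) :
    fOm f c νU f'U hfU ω w hω ≫ (yon S).map (pullback.fst νU ω) = kap f c ω w hω ≫ f'U :=
  IsPullback.lift_fst _ _ _ _

theorem fOm_snd {W : Over S} (ω : W ⟶ U) (w : (yon S).obj W ⟶ X)
    (hω : (yon S).map ω ≫ c = w) :
    fOm f c νU f'U hfU ω w hω ≫ (yon S).map (pullback.snd νU ω) = pullback.snd f w :=
  IsPullback.lift_snd _ _ _ _

theorem normAt_chart_iff {W : Over S} (ω : W ⟶ U) (w : (yon S).obj W ⟶ X)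
    (hω : (yon S).map ω ≫ c = w) :
    NormAt (pullback.snd f c) ((yon S).map νU) f'U hfU ((yon S).map ω) ↔
      IsRelNormalization (pullback.snd f w) ((yon S).map (pullback.snd νU ω))
        (fOm f c νU f'U hfU ω w hω) :=
  normAt_iff_of_isPullback hfU _ (isPullback_kap f c ω w hω)
    ((IsPullback.of_hasPullback νU ω).map (yon S)) _ (fOm_snd f c νU f'U hfU ω w hω)
    (fOm_fst f c νU f'U hfU ω w hω)

variable {Q : MorphismProperty Scheme.{u}} [Q.IsStableUnderComposition]
  [Q.IsStableUnderBaseChange] (hQ : @Etale ≤ Q)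
  (hUN : UN Q (pullback.snd f c) ((yon S).map νU) f'U hfU)

include hUN in
/-- Charts with property `Q` from affine schemes. -/
theorem isRelNormalization_chart_of_Q {W : Over S} (ω : W ⟶ U) (w : (yon S).obj W ⟶ X)
    (hω : (yon S).map ω ≫ c = w) (hW : IsAffine W.left) (hωQ : Q ω.left) :
    IsRelNormalization (pullback.snd f w) ((yon S).map (pullback.snd νU ω))
      (fOm f c νU f'U hfU ω w hω) :=
  (normAt_chart_iff f c νU f'U hfU ω w hω).1
    (hUN _ hW ((repWith_yon_map_iff _ _).2 hωQ))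

include hQ hUN in
/-- Étale charts from arbitrary schemes. -/
theorem isRelNormalization_chart_of_etale (hνU : IsIntegralHom νU.left) {W : Over S} (ω : W ⟶ U)
    (w : (yon S).obj W ⟶ X) (hω : (yon S).map ω ≫ c = w) (hωe : Etale ω.left) :
    IsRelNormalization (pullback.snd f w) ((yon S).map (pullback.snd νU ω))
      (fOm f c νU f'U hfU ω w hω) := by
  refine (normAt_chart_iff f c νU f'U hfU ω w hω).1 ?_
  rw [normAt_def]
  refine isRelNormalization_of_UN hQ (IsAlgSpace.yon_obj W) _ _ _ (bcMap_snd _ _ _ _ _)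
    (isIntegralMor_of_isPullback (IsPullback.of_hasPullback _ _)
      (isIntegralMor_yon_map νU hνU)) ?_
  refine hUN.baseChange _ ?_
  intro W₁ w₁ hW₁ hw₁
  obtain ⟨w₁', rfl⟩ := (yon S).map_surjective w₁
  rw [← Functor.map_comp]
  rw [repWith_yon_map_iff] at hw₁ ⊢
  exact Q.comp_mem _ _ hw₁ (hQ _ _ _ hωe)

end chart

end Groth.Agent.Lib.Helper3.RelNorm
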