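import Mathlib
import Groth.Agent.Lib.Helper3.RNDesc1

set_option autoImplicit false
universe u w

namespace Groth.Agent.Lib.Helper3.RelNorm

open CategoryTheory CategoryTheory.Limits AlgebraicGeometry Opposite AlgSp
open Groth.Agent.Lib.Helper3

variable {S : Scheme.{u}}

section comparison

variable {X Y : Sp S} (f : Y ⟶ X) {U E : Over S} (c : (yon S).obj U ⟶ X) (νU : E ⟶ U)
  (f'U : pullback f c ⟶ (yon S).obj E) (hfU : f'U ≫ (yon S).map νU = pullback.snd f c)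

/-- `θ` is compatible with the normalization data over two charts with the same composite. -/
def IsComp {W : Over S} (ω₁ ω₂ : W ⟶ U) (w : (yon S).obj W ⟶ X)
    (h₁ : (yon S).map ω₁ ≫ c = w) (h₂ : (yon S).map ω₂ ≫ c = w)
    (θ : pullback νU ω₁ ⟶ pullback νU ω₂) : Prop :=
  fOm f c νU f'U hfU ω₁ w h₁ ≫ (yon S).map θ = fOm f c νU f'U hfU ω₂ w h₂ ∧
    θ ≫ pullback.snd νU ω₂ = pullback.snd νU ω₁

theorem isComp_id {W : Over S} (ω : W ⟶ U) (w : (yon S).obj W ⟶ X)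
    (h : (yon S).map ω ≫ c = w) : IsComp f c νU f'U hfU ω ω w h h (𝟙 _) :=
  ⟨by rw [(yon S).map_id, Category.comp_id], Category.id_comp _⟩

theorem IsComp.trans {W : Over S} {ω₁ ω₂ ω₃ : W ⟶ U} {w : (yon S).obj W ⟶ X}
    {h₁ : (yon S).map ω₁ ≫ c = w} {h₂ : (yon S).map ω₂ ≫ c = w} {h₃ : (yon S).map ω₃ ≫ c = w}
    {θ : pullback νU ω₁ ⟶ pullback νU ω₂} {θ' : pullback νU ω₂ ⟶ pullback νU ω₃}
    (a : IsComp f c νU f'U hfU ω₁ ω₂ w h₁ h₂ θ) (b : IsComp f c νU f'U hfU ω₂ ω₃ w h₂ h₃ θ') :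
    IsComp f c νU f'U hfU ω₁ ω₃ w h₁ h₃ (θ ≫ θ') :=
  ⟨by rw [Functor.map_comp, ← Category.assoc, a.1, b.1], by rw [Category.assoc, b.2, a.2]⟩

theorem isIntegralHom_snd (hνU : IsIntegralHom νU.left) {W : Over S} (ω : W ⟶ U) :
    IsIntegralHom (pullback.snd νU ω).left :=
  MorphismProperty.of_isPullback (P := @IsIntegralHom)
    ((IsPullback.of_hasPullback νU ω).map (Over.forget S)) hνU

/-- naturality of `kap`. -/
theorem lam_kap {W W' : Over S} (ψ : W' ⟶ W) (ω : W ⟶ U) (ω' : W' ⟶ U) (e : ψ ≫ ω = ω')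
    (w : (yon S).obj W ⟶ X) (w' : (yon S).obj W' ⟶ X) (h : (yon S).map ω ≫ c = w)
    (h' : (yon S).map ω' ≫ c = w') (hψ : (yon S).map ψ ≫ w = w') :
    pullback.map f w' f w (𝟙 _) ((yon S).map ψ) (𝟙 _) (by simp) (by simp [hψ]) ≫ kap f c ω w h =
      kap f c ω' w' h' := by
  apply pullback.hom_ext
  · rw [Category.assoc, kap_fst, kap_fst, map_fst', Category.comp_id]
  · rw [Category.assoc, kap_snd, kap_snd, map_snd'_assoc, ← Functor.map_comp, e]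

/-- naturality of `fOm`. -/
theorem fOm_nat {W W' : Over S} (ψ : W' ⟶ W) (ω : W ⟶ U) (ω' : W' ⟶ U) (e : ψ ≫ ω = ω')
    (w : (yon S).obj W ⟶ X) (w' : (yon S).obj W' ⟶ X) (h : (yon S).map ω ≫ c = w)
    (h' : (yon S).map ω' ≫ c = w') (hψ : (yon S).map ψ ≫ w = w') :
    fOm f c νU f'U hfU ω' w' h' ≫ (yon S).map
        (pullback.map νU ω' νU ω (𝟙 _) ψ (𝟙 _) (by simp) (by simp [e])) =
      pullback.map f w' f w (𝟙 _) ((yon S).map ψ) (𝟙 _) (by simp) (by simp [hψ]) ≫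
        fOm f c νU f'U hfU ω w h := by
  apply ((IsPullback.of_hasPullback νU ω).map (yon S)).hom_ext
  · rw [Category.assoc, Category.assoc, fOm_fst, ← Functor.map_comp, map_fst', Category.comp_id,
      fOm_fst, ← Category.assoc, lam_kap f c ψ ω ω' e w w' h h' hψ]
  · rw [Category.assoc, Category.assoc, fOm_snd, ← Functor.map_comp, map_snd', Functor.map_comp,
      ← Category.assoc, fOm_snd, map_snd']

variable {Q : MorphismProperty Scheme.{u}} [Q.IsStableUnderComposition]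
  [Q.IsStableUnderBaseChange] (hQ : @Etale ≤ Q)
  (hUN : UN Q (pullback.snd f c) ((yon S).map νU) f'U hfU) (hνU : IsIntegralHom νU.left)

include hQ hUN hνU in
theorem existsUnique_isComp {W : Over S} (ω₁ ω₂ : W ⟶ U) (w : (yon S).obj W ⟶ X)
    (h₁ : (yon S).map ω₁ ≫ c = w) (h₂ : (yon S).map ω₂ ≫ c = w) (he₁ : Etale ω₁.left) :
    ∃! θ : pullback νU ω₁ ⟶ pullback νU ω₂, IsComp f c νU f'U hfU ω₁ ω₂ w h₁ h₂ θ := by
  have hn := isRelNormalization_chart_of_etale f c νU f'U hfU hQ hUN hνU ω₁ w h₁ he₁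
  obtain ⟨h, ⟨k1, k2⟩, huniq⟩ := hn.2.2 (IsAlgSpace.yon_obj (pullback νU ω₂))
    ((yon S).map (pullback.snd νU ω₂)) (fOm f c νU f'U hfU ω₂ w h₂)
    (isIntegralMor_yon_map _ (isIntegralHom_snd νU hνU ω₂)) (fOm_snd f c νU f'U hfU ω₂ w h₂)
  obtain ⟨θ, rfl⟩ := (yon S).map_surjective h
  refine ⟨θ, ⟨k1, ?_⟩, ?_⟩
  · apply (yon S).map_injective
    rw [Functor.map_comp, k2]
  · rintro θ' ⟨a1, a2⟩
    apply (yon S).map_injective
    exact huniq _ ⟨a1, by rw [← Functor.map_comp, a2]⟩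

include hQ hUN hνU in
theorem IsComp.unique {W : Over S} {ω₁ ω₂ : W ⟶ U} {w : (yon S).obj W ⟶ X}
    {h₁ : (yon S).map ω₁ ≫ c = w} {h₂ : (yon S).map ω₂ ≫ c = w} (he₁ : Etale ω₁.left)
    {θ θ' : pullback νU ω₁ ⟶ pullback νU ω₂} (a : IsComp f c νU f'U hfU ω₁ ω₂ w h₁ h₂ θ)
    (b : IsComp f c νU f'U hfU ω₁ ω₂ w h₁ h₂ θ') : θ = θ' := by
  obtain ⟨θ₀, -, hu⟩ := existsUnique_isComp f c νU f'U hfU hQ hUN hνU ω₁ ω₂ w h₁ h₂ he₁
  rw [hu θ a, hu θ' b]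

include hQ hUN hνU in
/-- **Functoriality** of the comparison maps under change of chart. -/
theorem IsComp.natural {W W' : Over S} (ψ : W' ⟶ W) {ω₁ ω₂ : W ⟶ U} {ω₁' ω₂' : W' ⟶ U}
    (e₁ : ψ ≫ ω₁ = ω₁') (e₂ : ψ ≫ ω₂ = ω₂') {w : (yon S).obj W ⟶ X} {w' : (yon S).obj W' ⟶ X}
    {h₁ : (yon S).map ω₁ ≫ c = w} {h₂ : (yon S).map ω₂ ≫ c = w}
    {h₁' : (yon S).map ω₁' ≫ c = w'} {h₂' : (yon S).map ω₂' ≫ c = w'}
    (he₁' : Etale ω₁'.left)
    {θ : pullback νU ω₁ ⟶ pullback νU ω₂} {θ' : pullback νU ω₁' ⟶ pullback νU ω₂'}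
    (a : IsComp f c νU f'U hfU ω₁ ω₂ w h₁ h₂ θ) (b : IsComp f c νU f'U hfU ω₁' ω₂' w' h₁' h₂' θ') :
    θ' ≫ pullback.map νU ω₂' νU ω₂ (𝟙 _) ψ (𝟙 _) (by simp) (by simp [e₂]) =
      pullback.map νU ω₁' νU ω₁ (𝟙 _) ψ (𝟙 _) (by simp) (by simp [e₁]) ≫ θ := by
  have hψ : (yon S).map ψ ≫ w = w' := by
    rw [← h₁, ← Category.assoc, ← Functor.map_comp, e₁, h₁']
  set μ₁ := pullback.map νU ω₁' νU ω₁ (𝟙 _) ψ (𝟙 _) (by simp) (by simp [e₁]) with hμ₁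
  set μ₂ := pullback.map νU ω₂' νU ω₂ (𝟙 _) ψ (𝟙 _) (by simp) (by simp [e₂]) with hμ₂
  have hcomp : (μ₁ ≫ θ ≫ pullback.fst νU ω₂) ≫ νU = pullback.snd νU ω₁' ≫ ω₂' := by
    rw [Category.assoc, Category.assoc, pullback.condition, ← Category.assoc θ, a.2,
      ← Category.assoc, hμ₁, map_snd', Category.assoc, e₂]
  let θ'' : pullback νU ω₁' ⟶ pullback νU ω₂' :=
    pullback.lift (μ₁ ≫ θ ≫ pullback.fst νU ω₂) (pullback.snd νU ω₁') hcomp
  have hθ''μ : θ'' ≫ μ₂ = μ₁ ≫ θ := by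
    apply pullback.hom_ext
    · rw [Category.assoc, hμ₂, map_fst', Category.comp_id, pullback.lift_fst, Category.assoc]
    · rw [Category.assoc, hμ₂, map_snd', ← Category.assoc, pullback.lift_snd, Category.assoc,
        a.2, hμ₁, map_snd']
  have hθ'' : IsComp f c νU f'U hfU ω₁' ω₂' w' h₁' h₂' θ'' := by
    refine ⟨?_, pullback.lift_snd _ _ _⟩
    apply ((IsPullback.of_hasPullback νU ω₂').map (yon S)).hom_ext
    · rw [Category.assoc, ← Functor.map_comp, pullback.lift_fst, Functor.map_comp,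
        Functor.map_comp, ← Category.assoc, hμ₁,
        fOm_nat f c νU f'U hfU ψ ω₁ ω₁' e₁ w w' h₁ h₁' hψ, Category.assoc,
        ← Category.assoc (fOm f c νU f'U hfU ω₁ w h₁), a.1, fOm_fst, fOm_fst, ← Category.assoc,
        lam_kap f c ψ ω₂ ω₂' e₂ w w' h₂ h₂' hψ]
    · rw [Category.assoc, ← Functor.map_comp, pullback.lift_snd, fOm_snd, fOm_snd]
  rw [← hθ''μ, IsComp.unique f c νU f'U hfU hQ hUN hνU he₁' b hθ'']

end comparison

end Groth.Agent.Lib.Helper3.RelNorm
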