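import Mathlib
import Groth.Agent.Lib.Helper3.RNDesc2
import Groth.Agent.Lib.Helper3.OpenSch

set_option autoImplicit false
universe u w

namespace Groth.Agent.Lib.Helper3.RelNorm

open CategoryTheory CategoryTheory.Limits AlgebraicGeometry Opposite AlgSp
open Groth.Agent.Lib.Helper3

variable {S : Scheme.{u}}

section eqv

variable {X Y : Sp S} (f : Y ⟶ X) {U E : Over S} (c : (yon S).obj U ⟶ X) (νU : E ⟶ U)
  (f'U : pullback f c ⟶ (yon S).obj E) (hfU : f'U ≫ (yon S).map νU = pullback.snd f c)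

variable {Q : MorphismProperty Scheme.{u}} [Q.IsStableUnderComposition]
  [Q.IsStableUnderBaseChange] (hQ : @Etale ≤ Q)
  (hUN : UN Q (pullback.snd f c) ((yon S).map νU) f'U hfU) (hνU : IsIntegralHom νU.left)

include hQ hUN hνU in
theorem IsComp.natural_fst {W W' : Over S} (ψ : W' ⟶ W) {ω₁ ω₂ : W ⟶ U} {ω₁' ω₂' : W' ⟶ U}
    (e₁ : ψ ≫ ω₁ = ω₁') (e₂ : ψ ≫ ω₂ = ω₂') {w : (yon S).obj W ⟶ X} {w' : (yon S).obj W' ⟶ X}
    {h₁ : (yon S).map ω₁ ≫ c = w} {h₂ : (yon S).map ω₂ ≫ c = w}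
    {h₁' : (yon S).map ω₁' ≫ c = w'} {h₂' : (yon S).map ω₂' ≫ c = w'}
    (he₁' : Etale ω₁'.left)
    {θ : pullback νU ω₁ ⟶ pullback νU ω₂} {θ' : pullback νU ω₁' ⟶ pullback νU ω₂'}
    (a : IsComp f c νU f'U hfU ω₁ ω₂ w h₁ h₂ θ) (b : IsComp f c νU f'U hfU ω₁' ω₂' w' h₁' h₂' θ') :
    θ' ≫ pullback.fst νU ω₂' =
      pullback.map νU ω₁' νU ω₁ (𝟙 _) ψ (𝟙 _) (by simp) (by simp [e₁]) ≫ θ ≫ pullback.fst νU ω₂ := by
  have h := IsComp.natural f c νU f'U hfU hQ hUN hνU ψ e₁ e₂ he₁' a b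
  calc θ' ≫ pullback.fst νU ω₂'
      = θ' ≫ (pullback.map νU ω₂' νU ω₂ (𝟙 _) ψ (𝟙 _) (by simp) (by simp [e₂]) ≫
          pullback.fst νU ω₂) := by rw [map_fst', Category.comp_id]
    _ = (θ' ≫ pullback.map νU ω₂' νU ω₂ (𝟙 _) ψ (𝟙 _) (by simp) (by simp [e₂])) ≫
          pullback.fst νU ω₂ := (Category.assoc _ _ _).symm
    _ = _ := by rw [h, Category.assoc]

/-- point-level form. -/
theorem lift_map {W W' : Over S} (ψ : W' ⟶ W) (ω : W ⟶ U) (ω' : W' ⟶ U) (e : ψ ≫ ω = ω')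
    {T : Over S} (x : T ⟶ E) (ρ : T ⟶ W') (h : x ≫ νU = ρ ≫ ω') :
    pullback.lift x ρ h ≫ pullback.map νU ω' νU ω (𝟙 _) ψ (𝟙 _) (by simp) (by simp [e]) =
      pullback.lift x (ρ ≫ ψ) (by rw [h, ← e, Category.assoc]) := by
  apply pullback.hom_ext
  · rw [Category.assoc, map_fst', Category.comp_id, pullback.lift_fst, pullback.lift_fst]
  · rw [Category.assoc, map_snd', ← Category.assoc, pullback.lift_snd, pullback.lift_snd]

variable {R : Over S} (s t : R ⟶ U)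
  (kp : IsPullback ((yon S).map t) ((yon S).map s) c c) (hs : Etale s.left) (ht : Etale t.left)

include hQ hUN hνU kp hs ht in
theorem isIso_of_isComp (θ : pullback νU s ⟶ pullback νU t)
    (hθ : IsComp f c νU f'U hfU s t ((yon S).map s ≫ c) rfl kp.w θ) :
    ∃ θ' : pullback νU t ⟶ pullback νU s,
      IsComp f c νU f'U hfU t s ((yon S).map s ≫ c) kp.w rfl θ' ∧ θ ≫ θ' = 𝟙 _ ∧ θ' ≫ θ = 𝟙 _ := by
  obtain ⟨θ', hθ', -⟩ := existsUnique_isComp f c νU f'U hfU hQ hUN hνU t s ((yon S).map s ≫ c)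
    kp.w rfl ht
  refine ⟨θ', hθ', ?_, ?_⟩
  · exact IsComp.unique f c νU f'U hfU hQ hUN hνU hs (hθ.trans f c νU f'U hfU hθ')
      (isComp_id f c νU f'U hfU s _ rfl)
  · exact IsComp.unique f c νU f'U hfU hQ hUN hνU ht (hθ'.trans f c νU f'U hfU hθ)
      (isComp_id f c νU f'U hfU t _ kp.w)

include hQ hUN hνU kp hs ht in
theorem isEtaleEqvRel_of_isComp (θ : pullback νU s ⟶ pullback νU t)
    (hθ : IsComp f c νU f'U hfU s t ((yon S).map s ≫ c) rfl kp.w θ) :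
    IsEtaleEqvRel (pullback.fst νU s) (θ ≫ pullback.fst νU t) := by
  have hR : IsEqvRel s t := OpenSch.isEqvRel_of_isPullback s t c kp
  obtain ⟨θ', hθ', hθθ', hθ'θ⟩ := isIso_of_isComp f c νU f'U hfU hQ hUN hνU s t kp hs ht θ hθ
  -- basic relation
  have hsnd : θ ≫ pullback.snd νU t = pullback.snd νU s := hθ.2
  have hρt : ∀ {T : Over S} (r : T ⟶ pullback νU s),
      (r ≫ pullback.snd νU s) ≫ t = (r ≫ θ ≫ pullback.fst νU t) ≫ νU := by
    intro T r
    rw [Category.assoc, Category.assoc, Category.assoc, pullback.condition, ← hsnd, Category.assoc]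
  have hρs : ∀ {T : Over S} (r : T ⟶ pullback νU s),
      (r ≫ pullback.snd νU s) ≫ s = (r ≫ pullback.fst νU s) ≫ νU := by
    intro T r
    rw [Category.assoc, Category.assoc, pullback.condition]
  refine ⟨⟨?_, fun T => ⟨?_, ?_, ?_⟩⟩, ?_, ?_⟩
  · -- injective
    intro T r r' h1 h2
    have hρ : r ≫ pullback.snd νU s = r' ≫ pullback.snd νU s := by
      apply hR.injective
      · rw [hρt, hρt, h1]
      · rw [hρs, hρs, h2]
    exact pullback.hom_ext h2 hρ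
  · -- refl
    intro a
    obtain ⟨e, het, hes⟩ := (hR.equivalence U).refl (𝟙 U)
    have hcid : (yon S).map (𝟙 U) ≫ c = (yon S).map e ≫ (yon S).map s ≫ c := by
      rw [← Category.assoc, ← Functor.map_comp, hes]
    have hnat := IsComp.natural_fst f c νU f'U hfU hQ hUN hνU e (ω₁ := s) (ω₂ := t)
      (ω₁' := 𝟙 U) (ω₂' := 𝟙 U) hes het (w' := (yon S).map e ≫ (yon S).map s ≫ c)
      (h₁' := hcid) (h₂' := hcid)
      (by rw [Over.id_left]; infer_instance) hθ (isComp_id f c νU f'U hfU (𝟙 U) _ hcid)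
    refine ⟨pullback.lift a (a ≫ νU) (by rw [Category.comp_id]) ≫
      pullback.map νU (𝟙 U) νU s (𝟙 _) e (𝟙 _) (by simp) (by simp [hes]), ?_, ?_⟩
    · rw [Category.assoc, ← hnat, Category.id_comp, pullback.lift_fst]
    · rw [Category.assoc, map_fst', ← Category.assoc, pullback.lift_fst, Category.comp_id]
  · -- symm
    rintro a b ⟨r, rfl, rfl⟩
    obtain ⟨i, hit, his⟩ := (hR.equivalence R).symm (x := t) (y := s)
      ⟨𝟙 R, Category.id_comp _, Category.id_comp _⟩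
    -- i ≫ t = s, i ≫ s = t
    have hw' : (yon S).map t ≫ c = (yon S).map s ≫ c := kp.w
    have hnat := IsComp.natural_fst f c νU f'U hfU hQ hUN hνU i (ω₁ := s) (ω₂ := t)
      (ω₁' := t) (ω₂' := s) his hit (w' := (yon S).map s ≫ c)
      (h₁' := hw') (h₂' := rfl) ht hθ hθ'
    refine ⟨(r ≫ θ) ≫ pullback.map νU t νU s (𝟙 _) i (𝟙 _) (by simp) (by simp [his]), ?_, ?_⟩
    · rw [Category.assoc, ← hnat, Category.assoc, ← Category.assoc θ, hθθ', Category.id_comp]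
    · rw [Category.assoc, map_fst', Category.comp_id, Category.assoc]
  · -- trans
    rintro a b c' ⟨r₁, rfl, hb⟩ ⟨r₂, hb2, rfl⟩
    -- hb : r₁ ≫ fst = b ; hb2 : r₂ ≫ θ ≫ fst = b
    let p₁ : pullback s t ⟶ R := pullback.fst s t
    let p₂ : pullback s t ⟶ R := pullback.snd s t
    have hp : p₁ ≫ s = p₂ ≫ t := pullback.condition
    obtain ⟨m, hmt, hms⟩ := (hR.equivalence (pullback s t)).trans
      (x := p₁ ≫ t) (y := p₁ ≫ s) (z := p₂ ≫ s) ⟨p₁, rfl, rfl⟩ ⟨p₂, hp.symm, rfl⟩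
    -- m ≫ t = p₁ ≫ t, m ≫ s = p₂ ≫ s
    have hw' : (yon S).map t ≫ c = (yon S).map s ≫ c := kp.w
    obtain ⟨u₀, hu₀⟩ : ∃ u, u = p₁ ≫ t := ⟨_, rfl⟩
    obtain ⟨u₁, hu₁⟩ : ∃ u, u = p₁ ≫ s := ⟨_, rfl⟩
    obtain ⟨u₂, hu₂⟩ : ∃ u, u = p₂ ≫ s := ⟨_, rfl⟩
    have hu₁' : p₂ ≫ t = u₁ := by rw [hu₁, hp]
    have eu₀ : Etale u₀.left := by
      rw [hu₀, Over.comp_left]
      have : Etale p₁.left := MorphismProperty.of_isPullback (P := @Etale)
        ((IsPullback.of_hasPullback s t).flip.map (Over.forget S)) ht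
      infer_instance
    have eu₁ : Etale u₁.left := by
      rw [hu₁, Over.comp_left]
      have : Etale p₁.left := MorphismProperty.of_isPullback (P := @Etale)
        ((IsPullback.of_hasPullback s t).flip.map (Over.forget S)) ht
      infer_instance
    have eu₂ : Etale u₂.left := by
      rw [hu₂, Over.comp_left]
      have : Etale p₂.left := MorphismProperty.of_isPullback (P := @Etale)
        ((IsPullback.of_hasPullback s t).map (Over.forget S)) hs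
      infer_instance
    obtain ⟨wT, hwT⟩ : ∃ wT, wT = (yon S).map u₁ ≫ c := ⟨_, rfl⟩
    have k₁ : (yon S).map u₁ ≫ c = wT := hwT.symm
    have k₀ : (yon S).map u₀ ≫ c = wT := by
      rw [hwT, hu₀, hu₁, Functor.map_comp, Functor.map_comp, Category.assoc, Category.assoc, hw']
    have k₂ : (yon S).map u₂ ≫ c = wT := by
      rw [hwT, hu₂, ← hu₁', Functor.map_comp, Functor.map_comp, Category.assoc, Category.assoc,
        hw']
    obtain ⟨θ₁₀, c₁₀, -⟩ := existsUnique_isComp f c νU f'U hfU hQ hUN hνU u₁ u₀ wT k₁ k₀ eu₁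
    obtain ⟨θ₂₁, c₂₁, -⟩ := existsUnique_isComp f c νU f'U hfU hQ hUN hνU u₂ u₁ wT k₂ k₁ eu₂
    obtain ⟨θ₂₀, c₂₀, -⟩ := existsUnique_isComp f c νU f'U hfU hQ hUN hνU u₂ u₀ wT k₂ k₀ eu₂
    have hcoc : θ₂₁ ≫ θ₁₀ = θ₂₀ :=
      IsComp.unique f c νU f'U hfU hQ hUN hνU eu₂ (c₂₁.trans f c νU f'U hfU c₁₀) c₂₀
    have nA := IsComp.natural_fst f c νU f'U hfU hQ hUN hνU p₁ (ω₁ := s) (ω₂ := t)
      (ω₁' := u₁) (ω₂' := u₀) hu₁.symm hu₀.symm eu₁ hθ c₁₀
    have nB := IsComp.natural_fst f c νU f'U hfU hQ hUN hνU p₂ (ω₁ := s) (ω₂ := t)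
      (ω₁' := u₂) (ω₂' := u₁) hu₂.symm hu₁' eu₂ hθ c₂₁
    have nC := IsComp.natural_fst f c νU f'U hfU hQ hUN hνU m (ω₁ := s) (ω₂ := t)
      (ω₁' := u₂) (ω₂' := u₀) (by rw [hms, hu₂]) (by rw [hmt, hu₀]) eu₂ hθ c₂₀
    -- the points
    have hρ₁₂ : (r₁ ≫ pullback.snd νU s) ≫ s = (r₂ ≫ pullback.snd νU s) ≫ t := by
      rw [hρs, hρt, hb, hb2]
    let ρ₁₂ : _ ⟶ pullback s t := pullback.lift (r₁ ≫ pullback.snd νU s)
      (r₂ ≫ pullback.snd νU s) hρ₁₂
    have hρ1 : ρ₁₂ ≫ p₁ = r₁ ≫ pullback.snd νU s := pullback.lift_fst _ _ _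
    have hρ2 : ρ₁₂ ≫ p₂ = r₂ ≫ pullback.snd νU s := pullback.lift_snd _ _ _
    have hx : (r₂ ≫ pullback.fst νU s) ≫ νU = ρ₁₂ ≫ u₂ := by
      rw [hu₂, ← Category.assoc, hρ2, hρs]
    let x : _ ⟶ pullback νU u₂ := pullback.lift (r₂ ≫ pullback.fst νU s) ρ₁₂ hx
    have hx2 : x ≫ pullback.map νU u₂ νU s (𝟙 _) p₂ (𝟙 _) (by simp) (by simp [hu₂]) = r₂ := by
      apply pullback.hom_ext
      · rw [Category.assoc, map_fst', Category.comp_id, pullback.lift_fst]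
      · rw [Category.assoc, map_snd', ← Category.assoc, pullback.lift_snd, hρ2]
    have hx1 : (x ≫ θ₂₁) ≫ pullback.map νU u₁ νU s (𝟙 _) p₁ (𝟙 _) (by simp) (by simp [hu₁]) =
        r₁ := by
      apply pullback.hom_ext
      · rw [Category.assoc, map_fst', Category.comp_id, Category.assoc, nB, ← Category.assoc,
          hx2, hb2, hb]
      · rw [Category.assoc, map_snd', Category.assoc, ← Category.assoc θ₂₁, c₂₁.2,
          ← Category.assoc, pullback.lift_snd, hρ1]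
    refine ⟨x ≫ pullback.map νU u₂ νU s (𝟙 _) m (𝟙 _) (by simp) (by simp [hms, hu₂]), ?_, ?_⟩
    · rw [Category.assoc, ← nC, ← hcoc, Category.assoc, nA, ← Category.assoc, ← Category.assoc,
        hx1]
    · rw [Category.assoc, map_fst', Category.comp_id, pullback.lift_fst]
  · -- etale s'
    exact MorphismProperty.of_isPullback (P := @Etale)
      ((IsPullback.of_hasPullback νU s).flip.map (Over.forget S)) hs
  · -- etale t'
    have h1 : Etale (pullback.fst νU t).left := MorphismProperty.of_isPullback (P := @Etale)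
      ((IsPullback.of_hasPullback νU t).flip.map (Over.forget S)) ht
    have h2 : IsIso θ := ⟨θ', hθθ', hθ'θ⟩
    have h3 : IsIso θ.left := inferInstanceAs (IsIso ((Over.forget S).map θ))
    rw [Over.comp_left]
    infer_instance

end eqv

end Groth.Agent.Lib.Helper3.RelNorm
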