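import Mathlib
import Groth.Agent.Lib.Helper3.RNDesc3
import Groth.Agent.Lib.Helper3.QuotRelMain
import Groth.Agent.Lib.Helper3.AlgSpEpiDescent

set_option autoImplicit false
universe u w

namespace Groth.Agent.Lib.Helper3.RelNorm

open CategoryTheory CategoryTheory.Limits AlgebraicGeometry Opposite AlgSp
open Groth.Agent.Lib.Helper3

variable {S : Scheme.{u}}

theorem mono_of_yon_points {A B : Sp S} (k : A ⟶ B)
    (H : ∀ {T : Over S} {a b : (yon S).obj T ⟶ A}, a ≫ k = b ≫ k → a = b) : Mono k :=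
  ⟨fun _ _ h ↦ (AlgSp.J S).hom_ext_uliftYoneda
      (fun _ _ ↦ H (by simp only [Category.assoc, h]))⟩

theorem jointlyLS_unit_iff {A B : Sp S} (k : A ⟶ B) :
    JointlyLS (fun _ : Unit => A) (fun _ => k) ↔ Sheaf.IsLocallySurjective k := by
  constructor
  · intro h
    constructor
    intro T x
    refine (AlgSp.J S).superset_covering ?_ (h T x)
    rintro T' φ ⟨_, a, ha⟩
    exact ⟨a, ha⟩
  · intro h T x
    refine (AlgSp.J S).superset_covering ?_ (Presheaf.imageSieve_mem (AlgSp.J S) k.hom x)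
    rintro T' φ ⟨a, ha⟩
    exact ⟨(), a, ha⟩

section quot

variable {X Y : Sp S} (f : Y ⟶ X) {U E : Over S} (c : (yon S).obj U ⟶ X) (νU : E ⟶ U)
  (f'U : pullback f c ⟶ (yon S).obj E) (hfU : f'U ≫ (yon S).map νU = pullback.snd f c)

variable {Q : MorphismProperty Scheme.{u}} [Q.IsStableUnderComposition]
  [Q.IsStableUnderBaseChange] (hQ : @Etale ≤ Q)
  (hUN : UN Q (pullback.snd f c) ((yon S).map νU) f'U hfU) (hνU : IsIntegralHom νU.left)

variable {R : Over S} (s t : R ⟶ U)
  (kp : IsPullback ((yon S).map t) ((yon S).map s) c c) (hs : Etale s.left) (ht : Etale t.left)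
  (θ : pullback νU s ⟶ pullback νU t)
  (hθ : IsComp f c νU f'U hfU s t ((yon S).map s ≫ c) rfl kp.w θ)

include hθ in
theorem coeq_aux : (yon S).map (pullback.fst νU s) ≫ (yon S).map νU ≫ c =
    (yon S).map (θ ≫ pullback.fst νU t) ≫ (yon S).map νU ≫ c := by
  rw [← Category.assoc, ← Category.assoc, ← Functor.map_comp, ← Functor.map_comp, Category.assoc,
    pullback.condition, pullback.condition, ← Category.assoc θ, hθ.2, Functor.map_comp,
    Functor.map_comp, Category.assoc, Category.assoc, kp.w]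

include hQ hUN hνU kp hs ht hθ in
theorem isPullback_quot_aux {X' : Sp S} (q' : (yon S).obj E ⟶ X')
    (hq1 : (yon S).map (pullback.fst νU s) ≫ q' = (yon S).map (θ ≫ pullback.fst νU t) ≫ q')
    (hq2 : Sheaf.IsLocallySurjective q')
    (hq3 : ∀ (T : Over S) (a b : T ⟶ E), (yon S).map a ≫ q' = (yon S).map b ≫ q' →
      ∃ r : T ⟶ pullback νU s, r ≫ (θ ≫ pullback.fst νU t) = a ∧ r ≫ pullback.fst νU s = b)
    (ν : X' ⟶ X) (hν : q' ≫ ν = (yon S).map νU ≫ c) :
    IsPullback q' ((yon S).map νU) ν c := by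
  have hR : IsEqvRel s t := OpenSch.isEqvRel_of_isPullback s t c kp
  have hR' : IsEqvRel (pullback.fst νU s) (θ ≫ pullback.fst νU t) :=
    (isEtaleEqvRel_of_isComp f c νU f'U hfU hQ hUN hνU s t kp hs ht θ hθ).toIsEqvRel
  have hsnd : θ ≫ pullback.snd νU t = pullback.snd νU s := hθ.2
  have hρt : ∀ {T : Over S} (r : T ⟶ pullback νU s),
      (r ≫ pullback.snd νU s) ≫ t = (r ≫ θ ≫ pullback.fst νU t) ≫ νU := by
    intro T r
    rw [Category.assoc, Category.assoc, Category.assoc, pullback.condition, ← hsnd, Category.assoc]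
  have hρs : ∀ {T : Over S} (r : T ⟶ pullback νU s),
      (r ≫ pullback.snd νU s) ≫ s = (r ≫ pullback.fst νU s) ≫ νU := by
    intro T r
    rw [Category.assoc, Category.assoc, pullback.condition]
  let k : (yon S).obj E ⟶ pullback ν c := pullback.lift q' ((yon S).map νU) hν
  have hk1 : k ≫ pullback.fst ν c = q' := pullback.lift_fst _ _ _
  have hk2 : k ≫ pullback.snd ν c = (yon S).map νU := pullback.lift_snd _ _ _
  have hmono : Mono k := by
    refine mono_of_yon_points k ?_
    intro T a b hab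
    obtain ⟨a, rfl⟩ := (yon S).map_surjective a
    obtain ⟨b, rfl⟩ := (yon S).map_surjective b
    have h1 : (yon S).map a ≫ q' = (yon S).map b ≫ q' := by
      rw [← hk1, ← Category.assoc, hab, Category.assoc]
    have h2 : a ≫ νU = b ≫ νU := by
      apply (yon S).map_injective
      rw [Functor.map_comp, Functor.map_comp, ← hk2, ← Category.assoc, hab, Category.assoc]
    obtain ⟨r, hra, hrb⟩ := hq3 T a b h1
    obtain ⟨r₀, hr₀a, hr₀b⟩ := (hR'.equivalence T).refl b
    have e1 : r ≫ pullback.snd νU s = r₀ ≫ pullback.snd νU s := by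
      apply hR.injective
      · rw [hρt, hρt, hra, hr₀a, h2]
      · rw [hρs, hρs, hrb, hr₀b]
    have e2 : r = r₀ := pullback.hom_ext (by rw [hrb, hr₀b]) e1
    rw [← hra, e2, hr₀a]
  have hsurj : Sheaf.IsLocallySurjective k := by
    rw [← jointlyLS_unit_iff]
    refine jointlyLS_of_factor _ _ fun T x => ?_
    obtain ⟨Sv, hSv, hfac⟩ := ((jointlyLS_unit_iff q').2 hq2).exists_factor T
      (x ≫ pullback.fst ν c)
    refine ⟨Sv, hSv, fun T' φ hφ => ?_⟩
    obtain ⟨-, a, ha⟩ := hfac φ hφ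
    obtain ⟨a, rfl⟩ := (yon S).map_surjective a
    obtain ⟨u, hu⟩ := (yon S).map_surjective (x ≫ pullback.snd ν c)
    -- ha : yon a ≫ q' = yon φ ≫ x ≫ fst
    have h1 : (yon S).map (φ ≫ u) ≫ c = (yon S).map (a ≫ νU) ≫ c := by
      rw [Functor.map_comp, Functor.map_comp, hu]
      simp only [Category.assoc]
      rw [← hν, ← pullback.condition, ← Category.assoc ((yon S).map a), ha]
      simp only [Category.assoc]
    obtain ⟨ρ, hρ⟩ := (yon S).map_surjective (kp.lift _ _ h1)
    have hρ1 : ρ ≫ t = φ ≫ u := by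
      apply (yon S).map_injective
      rw [Functor.map_comp, hρ, kp.lift_fst]
    have hρ2 : ρ ≫ s = a ≫ νU := by
      apply (yon S).map_injective
      rw [Functor.map_comp, hρ, kp.lift_snd]
    let r : T' ⟶ pullback νU s := pullback.lift a ρ hρ2.symm
    refine ⟨(), (yon S).map (r ≫ θ ≫ pullback.fst νU t), ?_⟩
    apply pullback.hom_ext
    · rw [Category.assoc, hk1, Category.assoc, ← ha, Functor.map_comp, Category.assoc, ← hq1,
        ← Category.assoc, ← Functor.map_comp, pullback.lift_fst]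
    · rw [Category.assoc, hk2, Category.assoc, ← hu, ← Functor.map_comp, ← Functor.map_comp,
        ← hρ1, ← hρt, pullback.lift_snd]
  have hiso : IsIso k :=
    (Sheaf.isLocallyBijective_iff_isIso k).1 ⟨isLocallyInjective_of_mono k, hsurj⟩
  exact IsPullback.of_iso_pullback ⟨hν⟩ (asIso k) hk1 hk2

end quot

end Groth.Agent.Lib.Helper3.RelNorm
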