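import Groth.Agent.Lib.Helper3.AffDescCover
import Groth.Agent.Lib.Helper3.AlgSpLocal
import Mathlib.AlgebraicGeometry.Morphisms.FlatDescent
import Mathlib.AlgebraicGeometry.Morphisms.LocalFlatDescent
import Mathlib.AlgebraicGeometry.Morphisms.Integral
import Mathlib.AlgebraicGeometry.Morphisms.Finite

set_option autoImplicit false

universe u
open CategoryTheory CategoryTheory.Limits AlgebraicGeometry Opposite AlgSp MorphismProperty

namespace Groth.Agent.Lib.Helper3.AffDesc

/-- fpqc descent of a property along a cartesian square whose base is an etale surjective morphism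
of affine schemes. -/
theorem descends_of_isPullback {P : MorphismProperty Scheme.{u}}
    [P.DescendsAlong (@Surjective ⊓ @Flat ⊓ @QuasiCompact)]
    {W W₀ V' Z : Scheme.{u}} [IsAffine V'] [IsAffine Z] {c : W ⟶ W₀} {w : W ⟶ V'} {i : W₀ ⟶ Z}
    {q : V' ⟶ Z} (sq : IsPullback c w i q) [Flat q] [Surjective q] (hw : P w) : P i := by
  have hq : (@Surjective ⊓ @Flat ⊓ @QuasiCompact : MorphismProperty Scheme.{u}) q :=
    ⟨⟨inferInstance, inferInstance⟩, inferInstance⟩
  exact of_isPullback_of_descendsAlong sq.flip hq hw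

theorem isIntegralHom_of_isPullback {W W₀ V' Z : Scheme.{u}} [IsAffine V'] [IsAffine Z]
    [IsAffine W₀] {c : W ⟶ W₀} {w : W ⟶ V'} {i : W₀ ⟶ Z}
    {q : V' ⟶ Z} (sq : IsPullback c w i q) [Flat q] [Surjective q] (hw : IsIntegralHom w) :
    IsIntegralHom i := by
  rw [IsIntegralHom.iff_universallyClosed_and_isAffineHom]
  refine ⟨descends_of_isPullback (P := @UniversallyClosed) sq inferInstance, inferInstance⟩

theorem isFinite_of_isPullback {W W₀ V' Z : Scheme.{u}} [IsAffine V'] [IsAffine Z]
    [IsAffine W₀] {c : W ⟶ W₀} {w : W ⟶ V'} {i : W₀ ⟶ Z}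
    {q : V' ⟶ Z} (sq : IsPullback c w i q) [Flat q] [Surjective q] (hw : IsFinite w) :
    IsFinite i := by
  rw [IsFinite.iff_isIntegralHom_and_locallyOfFiniteType] at hw ⊢
  exact ⟨isIntegralHom_of_isPullback sq hw.1,
    descends_of_isPullback (P := @LocallyOfFiniteType) sq hw.2⟩

end Groth.Agent.Lib.Helper3.AffDesc
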