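import Mathlib
import Groth.Agent.Lib.Helper3.RNDesc4
import Groth.Agent.S10268

set_option autoImplicit false
universe u w

namespace Groth.Agent.Lib.Helper3.RelNorm

open CategoryTheory CategoryTheory.Limits AlgebraicGeometry Opposite AlgSp
open Groth.Agent.Lib.Helper3 Groth.Agent.Lib.Helper3.QuotRel

variable {S : Scheme.{u}}

section quot

variable {X Y : Sp S} (f : Y ⟶ X) {U E : Over S} (c : (yon S).obj U ⟶ X) (νU : E ⟶ U)
  (f'U : pullback f c ⟶ (yon S).obj E) (hfU : f'U ≫ (yon S).map νU = pullback.snd f c)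

variable {Q : MorphismProperty Scheme.{u}} [Q.IsStableUnderComposition]
  [Q.IsStableUnderBaseChange] (hQ : @Etale ≤ Q)
  (hUN : UN Q (pullback.snd f c) ((yon S).map νU) f'U hfU) (hνU : IsIntegralHom νU.left)

variable {R : Over S} (s t : R ⟶ U)
  (kp : IsPullback ((yon S).map t) ((yon S).map s) c c) (hs : Etale s.left) (ht : Etale t.left)
  (θ : pullback νU s ⟶ pullback νU t)
  (hθ : IsComp f c νU f'U hfU s t ((yon S).map s ≫ c) rfl kp.w θ)

include hQ hUN hνU kp hs ht hθ in
/-- The quotient of `E` by the descent relation. -/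
theorem exists_quot (hX : IsAlgSpace X) (hce : RepWith @Etale c) (hcs : RepWith @Surjective c) :
    ∃ (X' : Sp S) (q' : (yon S).obj E ⟶ X') (ν : X' ⟶ X), IsAlgSpace X' ∧
      IsPullback q' ((yon S).map νU) ν c ∧ IsIntegralMor ν ∧
      (yon S).map (pullback.fst νU s) ≫ q' = (yon S).map (θ ≫ pullback.fst νU t) ≫ q' := by
  have hR' := isEtaleEqvRel_of_isComp f c νU f'U hfU hQ hUN hνU s t kp hs ht θ hθ
  obtain ⟨-, hX'⟩ := isPresentation_and_isAlgSpace _ _ hR'
  obtain ⟨ν, hν⟩ := exists_desc_quotMap (pullback.fst νU s) (θ ≫ pullback.fst νU t)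
    ((yon S).map νU ≫ c) (coeq_aux f c νU f'U hfU s t kp θ hθ)
  have hq2 : Sheaf.IsLocallySurjective (quotMap (pullback.fst νU s) (θ ≫ pullback.fst νU t)) :=
    (Sheaf.isLocallySurjective_iff_epi _).2 inferInstance
  have sq := isPullback_quot_aux f c νU f'U hfU hQ hUN hνU s t kp hs ht θ hθ
    (quotMap (pullback.fst νU s) (θ ≫ pullback.fst νU t)) (quotMap_coeq _ _) hq2
    (fun T a b hab => exists_rel_of_eq hR'.toIsEqvRel _
      (exists_desc_quotMap _ _ (toG _ _) (toG_coeq _ _)) a b hab) ν hν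
  refine ⟨_, _, ν, hX', sq, ?_, quotMap_coeq _ _⟩
  exact (Groth.Agent.S10268.result (X := ⟨_, hX'⟩) (Y := ⟨X, hX⟩) (ObjectProperty.homMk ν) U c
    hce hcs _ _ sq).1 (isIntegralMor_yon_map νU hνU)

variable {X' : Sp S} (q' : (yon S).obj E ⟶ X') (ν : X' ⟶ X)
  (sq : IsPullback q' ((yon S).map νU) ν c)
  (hq1 : (yon S).map (pullback.fst νU s) ≫ q' = (yon S).map (θ ≫ pullback.fst νU t) ≫ q')

include kp hθ hq1 in
/-- `f'U ≫ q'` equalizes the kernel pair of `Y_U ⟶ Y`. -/
theorem equalizes {T : Over S} (a b : (yon S).obj T ⟶ pullback f c)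
    (hab : a ≫ pullback.fst f c = b ≫ pullback.fst f c) : a ≫ f'U ≫ q' = b ≫ f'U ≫ q' := by
  obtain ⟨u₁, hu₁⟩ := (yon S).map_surjective (a ≫ pullback.snd f c)
  obtain ⟨u₂, hu₂⟩ := (yon S).map_surjective (b ≫ pullback.snd f c)
  obtain ⟨a₁, ha₁⟩ := (yon S).map_surjective (a ≫ f'U)
  obtain ⟨a₂, ha₂⟩ := (yon S).map_surjective (b ≫ f'U)
  have h1 : (yon S).map u₁ ≫ c = (yon S).map u₂ ≫ c := by
    rw [hu₁, hu₂, Category.assoc, Category.assoc, ← pullback.condition, ← Category.assoc, hab,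
      Category.assoc]
  obtain ⟨ρ, hρ⟩ := (yon S).map_surjective (kp.lift _ _ h1)
  have hρ1 : ρ ≫ t = u₁ := by
    apply (yon S).map_injective
    rw [Functor.map_comp, hρ, kp.lift_fst]
  have hρ2 : ρ ≫ s = u₂ := by
    apply (yon S).map_injective
    rw [Functor.map_comp, hρ, kp.lift_snd]
  have hνa₂ : a₂ ≫ νU = ρ ≫ s := by
    apply (yon S).map_injective
    rw [Functor.map_comp, ha₂, Category.assoc, hfU, hρ2, hu₂]
  let r : T ⟶ pullback νU s := pullback.lift a₂ ρ hνa₂
  -- the T-point of `pullback f (yon s ≫ c)`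
  have hz : (b ≫ pullback.fst f c) ≫ f = (yon S).map ρ ≫ (yon S).map s ≫ c := by
    rw [Category.assoc, pullback.condition, ← Category.assoc, ← hu₂, ← Functor.map_comp_assoc, hρ2]
  let z : (yon S).obj T ⟶ pullback f ((yon S).map s ≫ c) :=
    pullback.lift (b ≫ pullback.fst f c) ((yon S).map ρ) hz
  have hzs : z ≫ kap f c s _ rfl = b := by
    apply pullback.hom_ext
    · rw [Category.assoc, kap_fst, pullback.lift_fst]
    · rw [Category.assoc, kap_snd, ← Category.assoc, pullback.lift_snd, ← Functor.map_comp, hρ2,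
        hu₂]
  have hzt : z ≫ kap f c t _ kp.w = a := by
    apply pullback.hom_ext
    · rw [Category.assoc, kap_fst, pullback.lift_fst, hab]
    · rw [Category.assoc, kap_snd, ← Category.assoc, pullback.lift_snd, ← Functor.map_comp, hρ1,
        hu₁]
  have hzr : z ≫ fOm f c νU f'U hfU s _ rfl = (yon S).map r := by
    apply ((IsPullback.of_hasPullback νU s).map (yon S)).hom_ext
    · rw [Category.assoc, fOm_fst, ← Category.assoc, hzs, ← Functor.map_comp, pullback.lift_fst,
        ha₂]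
    · rw [Category.assoc, fOm_snd, pullback.lift_snd, ← Functor.map_comp, pullback.lift_snd]
  have key : (yon S).map (r ≫ θ ≫ pullback.fst νU t) = a ≫ f'U := by
    rw [Functor.map_comp, Functor.map_comp, ← hzr, Category.assoc, ← Category.assoc _ _
      ((yon S).map (pullback.fst νU t)), hθ.1, fOm_fst, ← Category.assoc, hzt]
  calc a ≫ f'U ≫ q' = (yon S).map (r ≫ θ ≫ pullback.fst νU t) ≫ q' := by
        rw [key, Category.assoc]
    _ = (yon S).map r ≫ (yon S).map (θ ≫ pullback.fst νU t) ≫ q' := by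
        rw [Functor.map_comp, Category.assoc]
    _ = (yon S).map r ≫ (yon S).map (pullback.fst νU s) ≫ q' := by rw [hq1]
    _ = b ≫ f'U ≫ q' := by
        rw [← Category.assoc, ← Functor.map_comp, pullback.lift_fst, ha₂, Category.assoc]

include kp hθ hq1 sq in
/-- Descent of `f'`. -/
theorem exists_f' (hcl : Sheaf.IsLocallySurjective c) :
    ∃ f' : Y ⟶ X', pullback.fst f c ≫ f' = f'U ≫ q' ∧ f' ≫ ν = f := by
  have hcov : JointlyLS (fun _ : Unit => pullback f c) (fun _ => pullback.fst f c) :=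
    (jointlyLS_unit_iff _).2
      (isLocallySurjective_of_isPullback (IsPullback.of_hasPullback f c).flip hcl)
  obtain ⟨f', hf'⟩ := glue' (fun _ : Unit => pullback f c) (fun _ => pullback.fst f c) hcov
    (fun _ => f'U ≫ q') (fun _ _ T a b hab => equalizes f c νU f'U hfU s t kp θ hθ q' hq1 a b hab)
  refine ⟨f', hf' (), ?_⟩
  refine hom_ext_of_jointlyLS _ _ hcov _ _ fun _ => ?_
  rw [← Category.assoc, hf' (), Category.assoc, sq.w, ← Category.assoc, hfU, pullback.condition]

end quot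

end Groth.Agent.Lib.Helper3.RelNorm
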