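import Mathlib
import Groth.Agent.Lib.Helper3.RNDesc5

set_option autoImplicit false
universe u w

namespace Groth.Agent.Lib.Helper3.RelNorm

open CategoryTheory CategoryTheory.Limits AlgebraicGeometry Opposite AlgSp
open Groth.Agent.Lib.Helper3 Groth.Agent.Lib.Helper3.QuotRel

variable {S : Scheme.{u}}

/-- The overlap of two étale charts is covered by affine charts étale over both (with the first
projection étale as a morphism of schemes). -/
theorem exists_affine_overlap_cover' {B : Sp S} {Wk Wl : Over S} (wk : (yon S).obj Wk ⟶ B)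
    (wl : (yon S).obj Wl ⟶ B) (hk : RepWith @Etale wk) (hl : RepWith @Etale wl) (T : Over S)
    (a : T ⟶ Wk) (b : T ⟶ Wl) (hab : (yon S).map a ≫ wk = (yon S).map b ≫ wl) :
    ∃ Sv : Sieve T, Sv ∈ AlgSp.J S T ∧ ∀ ⦃T' : Over S⦄ (φ : T' ⟶ T), Sv φ →
      ∃ (W'' : Over S) (τ : T' ⟶ W'') (p : W'' ⟶ Wk) (q : W'' ⟶ Wl),
        τ ≫ p = φ ≫ a ∧ τ ≫ q = φ ≫ b ∧ (yon S).map p ≫ wk = (yon S).map q ≫ wl ∧
        IsAffine W''.left ∧ Etale p.left := by
  let P : Over S := hk.rep.pullback wl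
  let pk : P ⟶ Wk := hk.rep.fst' wl
  let pl : P ⟶ Wl := hk.rep.snd wl
  have sqP : IsPullback ((yon S).map pk) ((yon S).map pl) wk wl := hk.rep.isPullback' wl
  have hpk : RepWith @Etale ((yon S).map pk) := MorphismProperty.of_isPullback sqP.flip hl
  have hpk' : Etale pk.left := (repWith_yon_map_iff _ _).1 hpk
  obtain ⟨m, hm⟩ := (yon S).map_surjective (sqP.lift _ _ hab)
  have hm1 : m ≫ pk = a := by
    apply (yon S).map_injective
    rw [Functor.map_comp, hm, sqP.lift_fst]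
  have hm2 : m ≫ pl = b := by
    apply (yon S).map_injective
    rw [Functor.map_comp, hm, sqP.lift_snd]
  let TO : P.left.affineOpens → Over S := fun O => Over.mk ((m.left ⁻¹ᵁ O.1).ι ≫ T.hom)
  let jO : ∀ O, TO O ⟶ T := fun O => Over.homMk (m.left ⁻¹ᵁ O.1).ι rfl
  have hmem : Sieve.generate (Presieve.ofArrows TO jO) ∈ AlgSp.J S T := by
    refine generate_ofArrows_mem_J TO jO (fun O => inferInstanceAs (IsOpenImmersion (Scheme.Opens.ι _)))
      (fun t => ?_)
    obtain ⟨_, ⟨O, hO, rfl⟩, htO, -⟩ := P.left.isBasis_affineOpens.exists_subset_of_mem_open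
      (Set.mem_univ (m.left t)) isOpen_univ
    exact ⟨⟨O, hO⟩, ⟨t, htO⟩, rfl⟩
  refine ⟨_, hmem, ?_⟩
  rintro T' φ ⟨Y, h', g', ⟨O⟩, rfl⟩
  let W'' : Over S := Over.mk (O.1.ι ≫ P.hom)
  let ιO : W'' ⟶ P := Over.homMk O.1.ι rfl
  have hmw : (m.left ∣_ O.1) ≫ O.1.ι ≫ P.hom = (m.left ⁻¹ᵁ O.1).ι ≫ T.hom := by
    rw [← Category.assoc, morphismRestrict_ι, Category.assoc, Over.w m]
  let mO : TO O ⟶ W'' := Over.homMk (m.left ∣_ O.1) hmw
  have hmO : mO ≫ ιO = jO O ≫ m := by
    ext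
    exact morphismRestrict_ι _ _
  have hW'' : IsAffine W''.left := O.2
  have hιO : Etale ιO.left := inferInstanceAs (Etale O.1.ι)
  refine ⟨W'', h' ≫ mO, ιO ≫ pk, ιO ≫ pl, ?_, ?_, ?_, hW'', ?_⟩
  · rw [Category.assoc, ← Category.assoc mO, hmO, Category.assoc, hm1, Category.assoc]
  · rw [Category.assoc, ← Category.assoc mO, hmO, Category.assoc, hm2, Category.assoc]
  · rw [Functor.map_comp, Functor.map_comp, Category.assoc, Category.assoc, sqP.w]
  · rw [Over.comp_left]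
    infer_instance

/-- It suffices to check the normalization property at affine charts étale over a fixed atlas. -/
theorem isRelNormalization_of_charts {Y B X' : Sp S} (hB : IsAlgSpace B) (f : Y ⟶ B) (ν : X' ⟶ B)
    (f' : Y ⟶ X') (hf : f' ≫ ν = f) (hν : IsIntegralMor ν) {U₁ : Over S}
    (c₁ : (yon S).obj U₁ ⟶ B) (hc₁e : RepWith @Etale c₁) (hc₁s : RepWith @Surjective c₁)
    (h : ∀ ⦃W : Over S⦄ (ω : W ⟶ U₁), IsAffine W.left → Etale ω.left →
      NormAt f ν f' hf ((yon S).map ω ≫ c₁)) :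
    IsRelNormalization f ν f' := by
  let W : U₁.left.affineOpens → Over S := fun k => Over.mk (k.1.ι ≫ U₁.hom)
  let ιk : ∀ k, W k ⟶ U₁ := fun k => Over.homMk k.1.ι rfl
  let wk : ∀ k, (yon S).obj (W k) ⟶ B := fun k => (yon S).map (ιk k) ≫ c₁
  have hιk : ∀ k, Etale (ιk k).left := fun k => inferInstanceAs (Etale k.1.ι)
  have hwk : ∀ k, RepWith @Etale (wk k) := fun k =>
    MorphismProperty.comp_mem _ _ _
      ((repWith_yon_map_iff _ _).2 (inferInstanceAs (Etale k.1.ι))) hc₁e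
  have hWa : ∀ k, IsAffine (W k).left := fun k => k.2
  have hcov : JointlyLS (fun k => (yon S).obj (W k)) wk := by
    refine jointlyLS_of_etale_charts W wk hwk fun x => ?_
    obtain ⟨u, rfl⟩ := exists_ofPt_eq c₁ hc₁s x
    obtain ⟨_, ⟨O, hO, rfl⟩, huO, -⟩ := U₁.left.isBasis_affineOpens.exists_subset_of_mem_open
      (Set.mem_univ u) isOpen_univ
    refine ⟨⟨O, hO⟩, ⟨u, huO⟩, ?_⟩
    rw [SpUC.ofPt_comp_yon_map]
    rfl
  refine isRelNormalization_of_local hB f ν f' hf hν W wk hcov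
    (fun k => h (ιk k) (hWa k) (hιk k)) ?_
  · intro k l T a b hab
    obtain ⟨Sv, hSv, hS⟩ := exists_affine_overlap_cover' (wk k) (wk l) (hwk k) (hwk l) T a b hab
    refine ⟨Sv, hSv, fun T' φ hφ => ?_⟩
    obtain ⟨W'', τ, p, q, h1, h2, h3, h4, h5⟩ := hS φ hφ
    refine ⟨W'', τ, p, q, h1, h2, h3, ?_⟩
    have e : (yon S).map p ≫ wk k = (yon S).map (p ≫ ιk k) ≫ c₁ := by
      rw [Functor.map_comp, Category.assoc]
    rw [e]
    refine h (p ≫ ιk k) h4 ?_
    rw [Over.comp_left]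
    have := hιk k
    infer_instance

section quot

variable {X Y : Sp S} (f : Y ⟶ X) {U E : Over S} (c : (yon S).obj U ⟶ X) (νU : E ⟶ U)
  (f'U : pullback f c ⟶ (yon S).obj E) (hfU : f'U ≫ (yon S).map νU = pullback.snd f c)

variable {Q : MorphismProperty Scheme.{u}} [Q.IsStableUnderComposition]
  [Q.IsStableUnderBaseChange] (hQ : @Etale ≤ Q)
  (hUN : UN Q (pullback.snd f c) ((yon S).map νU) f'U hfU) (hνU : IsIntegralHom νU.left)

variable {X' : Sp S} (q' : (yon S).obj E ⟶ X') (ν : X' ⟶ X)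
  (sq : IsPullback q' ((yon S).map νU) ν c)
  (f' : Y ⟶ X') (hf : f' ≫ ν = f) (hf' : pullback.fst f c ≫ f' = f'U ≫ q')

include hUN sq hf' in
theorem normAt_chart {W : Over S} (ω : W ⟶ U) (hW : IsAffine W.left) (hωQ : Q ω.left) :
    NormAt f ν f' hf ((yon S).map ω ≫ c) := by
  rw [normAt_iff_of_isPullback hf _ (IsPullback.of_hasPullback f _)
    (((IsPullback.of_hasPullback νU ω).map (yon S)).paste_horiz sq)
    (fOm f c νU f'U hfU ω _ rfl) (fOm_snd f c νU f'U hfU ω _ rfl)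
    (by rw [← Category.assoc, fOm_fst, Category.assoc, ← hf', ← Category.assoc, kap_fst])]
  exact isRelNormalization_chart_of_Q f c νU f'U hfU hUN ω _ rfl hW hωQ

include hQ hUN sq hf' in
theorem un_of_descent (hν : IsIntegralMor ν) (hce : RepWith @Etale c)
    (hcs : RepWith @Surjective c) : UN Q f ν f' hf := by
  intro W w hW hw
  let P : Over S := hce.rep.pullback w
  let p₂ : P ⟶ U := hce.rep.fst' w
  let p₁ : P ⟶ W := hce.rep.snd w
  have sqP : IsPullback ((yon S).map p₂) ((yon S).map p₁) c w := hce.rep.isPullback' w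
  have hp₁e : RepWith @Etale ((yon S).map p₁) := MorphismProperty.of_isPullback sqP hce
  have hp₁s : RepWith @Surjective ((yon S).map p₁) := MorphismProperty.of_isPullback sqP hcs
  have hp₂ : RepWith Q ((yon S).map p₂) := MorphismProperty.of_isPullback sqP.flip hw
  have hp₂' : Q p₂.left := (repWith_yon_map_iff _ _).1 hp₂
  rw [normAt_def]
  refine isRelNormalization_of_charts (IsAlgSpace.yon_obj W) _ _ _ (bcMap_snd _ _ _ _ _)
    (isIntegralMor_of_isPullback (IsPullback.of_hasPullback _ _) hν) ((yon S).map p₁) hp₁e hp₁s ?_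
  intro W'' ω hW'' hωe
  rw [normAt_comp]
  have e : ((yon S).map ω ≫ (yon S).map p₁) ≫ w = (yon S).map (ω ≫ p₂) ≫ c := by
    rw [Category.assoc, ← sqP.w, Functor.map_comp, Category.assoc]
  rw [e]
  refine normAt_chart f c νU f'U hfU hUN q' ν sq f' hf hf' (ω ≫ p₂) hW'' ?_
  rw [Over.comp_left]
  exact Q.comp_mem _ _ (hQ _ _ _ hωe) hp₂'

end quot

/-- **Étale descent of relative normalizations**: universal normalization data over an étale
atlas descends. -/
theorem exists_UN_of_chart {X Y : Sp S} (hX : IsAlgSpace X) (f : Y ⟶ X) {U E : Over S}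
    (c : (yon S).obj U ⟶ X) (hce : RepWith @Etale c) (hcs : RepWith @Surjective c) (νU : E ⟶ U)
    (hνU : IsIntegralHom νU.left) (f'U : pullback f c ⟶ (yon S).obj E)
    (hfU : f'U ≫ (yon S).map νU = pullback.snd f c)
    {Q : MorphismProperty Scheme.{u}} [Q.IsStableUnderComposition]
    [Q.IsStableUnderBaseChange] (hQ : @Etale ≤ Q)
    (hUN : UN Q (pullback.snd f c) ((yon S).map νU) f'U hfU) :
    ∃ (X' : Sp S) (ν : X' ⟶ X) (f' : Y ⟶ X') (hf : f' ≫ ν = f), IsAlgSpace X' ∧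
      IsIntegralMor ν ∧ UN Q f ν f' hf := by
  let R : Over S := hce.rep.pullback c
  let t : R ⟶ U := hce.rep.fst' c
  let s : R ⟶ U := hce.rep.snd c
  have kp : IsPullback ((yon S).map t) ((yon S).map s) c c := hce.rep.isPullback' c
  have hs : Etale s.left := hce.property_snd c
  have ht : Etale t.left :=
    (repWith_yon_map_iff _ _).1 (MorphismProperty.of_isPullback kp.flip hce)
  obtain ⟨θ, hθ, -⟩ := existsUnique_isComp f c νU f'U hfU hQ hUN hνU s t ((yon S).map s ≫ c)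
    rfl kp.w hs
  obtain ⟨X', q', ν, hX', sq, hν, hq1⟩ :=
    exists_quot f c νU f'U hfU hQ hUN hνU s t kp hs ht θ hθ hX hce hcs
  have hcl : Sheaf.IsLocallySurjective c :=
    Groth.Agent.S9883.isLocallySurjective_of_etale_surjective _ hce hcs
  obtain ⟨f', hf', hf⟩ := exists_f' f c νU f'U hfU s t kp θ hθ q' ν sq hq1 hcl
  exact ⟨X', ν, f', hf, hX', hν, un_of_descent f c νU f'U hfU hQ hUN q' ν sq f' hf hf' hν hce hcs⟩

end Groth.Agent.Lib.Helper3.RelNorm
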