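import Mathlib
import Groth.Agent.Lib.Helper3.RNDesc6

set_option autoImplicit false
universe u w

namespace Groth.Agent.Lib.Helper3.RelNorm

open CategoryTheory CategoryTheory.Limits AlgebraicGeometry Opposite AlgSp
open Groth.Agent.Lib.Helper3

variable {S : Scheme.{u}}

/-- It suffices to check the normalization property at *good* affine charts étale over a fixed
atlas, where good charts are stable under precomposition and cover the atlas. -/
theorem isRelNormalization_of_good_charts {Y B X' : Sp S} (hB : IsAlgSpace B) (f : Y ⟶ B)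
    (ν : X' ⟶ B) (f' : Y ⟶ X') (hf : f' ≫ ν = f) (hν : IsIntegralMor ν) {U₁ : Over S}
    (c₁ : (yon S).obj U₁ ⟶ B) (hc₁e : RepWith @Etale c₁) (hc₁s : RepWith @Surjective c₁)
    (Good : ∀ ⦃W : Over S⦄, (W ⟶ U₁) → Prop)
    (hleft : ∀ ⦃W W' : Over S⦄ (p : W' ⟶ W) (ω : W ⟶ U₁), Good ω → Good (p ≫ ω))
    (hcover : ∀ u : ↥U₁.left, ∃ O : U₁.left.Opens, IsAffineOpen O ∧ u ∈ O ∧
      Good (Over.homMk O.ι rfl : Over.mk (O.ι ≫ U₁.hom) ⟶ U₁))
    (h : ∀ ⦃W : Over S⦄ (ω : W ⟶ U₁), IsAffine W.left → Etale ω.left → Good ω →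
      NormAt f ν f' hf ((yon S).map ω ≫ c₁)) :
    IsRelNormalization f ν f' := by
  let κ := {k : U₁.left.affineOpens //
    Good (Over.homMk k.1.ι rfl : Over.mk (k.1.ι ≫ U₁.hom) ⟶ U₁)}
  let W : κ → Over S := fun k => Over.mk (k.1.1.ι ≫ U₁.hom)
  let ιk : ∀ k, W k ⟶ U₁ := fun k => Over.homMk k.1.1.ι rfl
  let wk : ∀ k, (yon S).obj (W k) ⟶ B := fun k => (yon S).map (ιk k) ≫ c₁
  have hιk : ∀ k, Etale (ιk k).left := fun k => inferInstanceAs (Etale k.1.1.ι)
  have hgk : ∀ k, Good (ιk k) := fun k => k.2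
  have hwk : ∀ k, RepWith @Etale (wk k) := fun k =>
    MorphismProperty.comp_mem _ _ _
      ((repWith_yon_map_iff _ _).2 (inferInstanceAs (Etale k.1.1.ι))) hc₁e
  have hWa : ∀ k, IsAffine (W k).left := fun k => k.1.2
  have hcov : JointlyLS (fun k => (yon S).obj (W k)) wk := by
    refine jointlyLS_of_etale_charts W wk hwk fun x => ?_
    obtain ⟨u, rfl⟩ := exists_ofPt_eq c₁ hc₁s x
    obtain ⟨O, hO, huO, hgO⟩ := hcover u
    refine ⟨⟨⟨O, hO⟩, hgO⟩, ⟨u, huO⟩, ?_⟩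
    rw [SpUC.ofPt_comp_yon_map]
    rfl
  refine isRelNormalization_of_local hB f ν f' hf hν W wk hcov
    (fun k => h (ιk k) (hWa k) (hιk k) (hgk k)) ?_
  · intro k l T a b hab
    obtain ⟨Sv, hSv, hS⟩ := exists_affine_overlap_cover' (wk k) (wk l) (hwk k) (hwk l) T a b hab
    refine ⟨Sv, hSv, fun T' φ hφ => ?_⟩
    obtain ⟨W'', τ, p, q, h1, h2, h3, h4, h5⟩ := hS φ hφ
    refine ⟨W'', τ, p, q, h1, h2, h3, ?_⟩
    have e : (yon S).map p ≫ wk k = (yon S).map (p ≫ ιk k) ≫ c₁ := by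
      rw [Functor.map_comp, Category.assoc]
    rw [e]
    refine h (p ≫ ιk k) h4 ?_ (hleft p (ιk k) (hgk k))
    rw [Over.comp_left]
    have := hιk k
    infer_instance

/-- Two morphisms out of the sheaf represented by an empty scheme agree. -/
theorem hom_ext_of_isEmpty {T : Over S} (hT : IsEmpty ↥T.left) {G : Sp S}
    (a b : (yon S).obj T ⟶ G) : a = b := by
  have hmem : Sieve.generate (Presieve.ofArrows (fun _ : PEmpty.{1} => T)
      (fun i => (PEmpty.elim i : T ⟶ T))) ∈ AlgSp.J S T :=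
    generate_ofArrows_mem_J _ _ (fun i => PEmpty.elim i) (fun t => (hT.false t).elim)
  refine yon_hom_ext_of_sieve _ hmem a b ?_
  rintro T' φ ⟨_, _, _, ⟨i⟩, _⟩
  exact PEmpty.elim i

end Groth.Agent.Lib.Helper3.RelNorm
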