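import Mathlib
import Groth.Agent.Lib.Helper3.SpCoprod3
set_option autoImplicit false
universe u w
open CategoryTheory CategoryTheory.Limits AlgebraicGeometry TopologicalSpace Opposite

namespace Groth.Agent.Lib.Helper3

open AlgSp

variable {S : Scheme.{u}}

/-- If a sheaf `F` is covered by open subsheaves all of whose maps from schemes are
representable, then every map from a scheme to `F` is representable. -/
theorem representable_of_yon_of_zarCover {F : Sp S} {ι : Type u} (Fi : ι → Sp S)
    (f : ∀ i, Fi i ⟶ F) (hf : IsZarCover Fi f)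
    (h : ∀ i ⦃T : Over S⦄ (g : (yon S).obj T ⟶ Fi i), Representable g) {T : Over S}
    (s : (yon S).obj T ⟶ F) : Representable s := by
  intro T' s'
  have hcov : ∀ t : ↥T'.left, ∃ i, t ∈ Set.range ((hf.1 i).rep.snd s').left := by
    intro t
    obtain ⟨i, y, hy⟩ := hf.2 (Points.ofPt s' t)
    rw [Points.ofPt_eq_map_ofScheme] at hy
    obtain ⟨z, -, hz⟩ := Points.exists_of_isPullback ((hf.1 i).rep.isPullback s') y _ hy
    obtain ⟨w, rfl⟩ := (Points.schemeHomeo _).surjective z
    refine ⟨i, w, ?_⟩
    apply (Points.schemeHomeo T').injective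
    rw [← Points.map_yon_map_apply]
    exact hz
  refine exists_isPullback_of_openCover s s' (fun i => (hf.1 i).rep.pullback s')
    (fun i => (hf.1 i).rep.snd s') (fun i => (hf.1 i).property_snd s') hcov (fun i => ?_)
  have sq := (hf.1 i).rep.isPullback s
  have sq' := (hf.1 i).rep.isPullback s'
  obtain ⟨W, snd, fstW, sqW⟩ := h i ((hf.1 i).rep.fst s) ((hf.1 i).rep.fst s')
  refine ⟨W, snd, fstW ≫ (yon S).map ((hf.1 i).rep.snd s), ?_⟩
  have := sqW.paste_horiz sq.flip
  rw [sq'.w] at this
  exact this

/-- For a property `P` which is Zariski local on the source, a representable morphism from a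
scheme has `P` as soon as its restrictions to the members of an open covering have `P`. -/
theorem repWith_of_openCover_source (P : MorphismProperty Scheme.{u}) [IsZariskiLocalAtSource P]
    {F : Sp S} {G : Over S} (D : (yon S).obj G ⟶ F) (hD : Representable D) {ι : Type u}
    (U : ι → Over S) (j : ∀ i, U i ⟶ G) (hj : ∀ i, IsOpenImmersion (j i).left)
    (hcov : ∀ g : ↥G.left, ∃ i, g ∈ Set.range (j i).left)
    (h : ∀ i, RepWith P ((yon S).map (j i) ≫ D)) : RepWith P D := by
  refine ⟨hD, fun T W s fst snd sq => ?_⟩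
  change P snd.left
  obtain ⟨φ, rfl⟩ := (yon S).map_surjective fst
  let 𝒰 : W.left.OpenCover :=
    { I₀ := ι
      X := fun i => (pullback φ (j i)).left
      f := fun i => (pullback.fst φ (j i)).left
      mem₀ := by
        rw [Scheme.presieve₀_mem_precoverage_iff]
        refine ⟨fun w => ?_, fun i => ?_⟩
        · obtain ⟨i, u, hu⟩ := hcov (φ.left w)
          obtain ⟨z, hz, -⟩ := exists_left_preimage_pullback φ (j i) w u hu.symm
          exact ⟨i, z, hz⟩
        · have sq0 : IsPullback (pullback.fst φ (j i)).left (pullback.snd φ (j i)).left φ.left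
            (j i).left := (IsPullback.of_hasPullback φ (j i)).map (Over.forget S)
          exact MorphismProperty.of_isPullback sq0.flip (hj i) }
  refine IsZariskiLocalAtSource.of_openCover 𝒰 fun i => ?_
  have sq1 := ((IsPullback.of_hasPullback φ (j i)).map (yon S)).flip
  have sq2 := sq1.paste_vert sq
  rw [← Functor.map_comp] at sq2
  exact (h i).property _ _ _ sq2

/-- A sheaf covered by open subsheaves which are algebraic spaces is an algebraic space. -/
theorem isAlgSpace_of_zarCover {F : Sp S} {ι : Type u} (Fi : ι → Sp S) (f : ∀ i, Fi i ⟶ F)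
    (hf : IsZarCover Fi f) (halg : ∀ i, IsAlgSpace (Fi i)) : IsAlgSpace F := by
  have hrep : ∀ ⦃T : Over S⦄ (s : (yon S).obj T ⟶ F), Representable s := fun T s =>
    representable_of_yon_of_zarCover Fi f hf (fun i T g => (halg i).representable_from_yon g) s
  refine ⟨Functor.relativelyRepresentable.diag_of_map_from_obj fun T s => hrep s, ?_⟩
  have hat := fun i => (halg i).atlas
  choose U p hpe hps using hat
  let c' : Cofan (fun i => (yon S).obj (U i)) := Cofan.mk (∐ fun i => (yon S).obj (U i))
    (Sigma.ι fun i => (yon S).obj (U i))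
  have hc' : IsColimit c' := coproductIsCoproduct _
  obtain ⟨G, e, j, hje, hjo, hjs⟩ := SpCoprod.exists_iso_yon_of_cofan_yon U c' hc'
  let D : (yon S).obj G ⟶ F := e.hom ≫ Cofan.IsColimit.desc hc' (fun i => p i ≫ f i)
  have hD : ∀ i, (yon S).map (j i) ≫ D = p i ≫ f i := fun i => by
    change (yon S).map (j i) ≫ e.hom ≫ _ = _
    rw [← Category.assoc, hje, Cofan.IsColimit.fac]
  have hDe : RepWith @Etale D := by
    refine repWith_of_openCover_source @Etale D (hrep D) U j hjo hjs fun i => ?_
    rw [hD]
    exact (RepWith @Etale).comp_mem _ _ (hpe i) (repWith_mono isOpenImmersion_le_etale (hf.1 i))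
  have hDs : RepWith @Surjective D := by
    rw [Groth.Agent.S9906.repWith_surjective_iff D (hrep D)]
    intro x
    obtain ⟨i, y, rfl⟩ := hf.2 x
    obtain ⟨z, rfl⟩ := (Groth.Agent.S9906.repWith_surjective_iff (p i) (hpe i).1).1 (hps i) y
    refine ⟨Points.map ((yon S).map (j i)) z, ?_⟩
    rw [← Points.map_comp, hD, Points.map_comp]
  exact ⟨G, D, hDe, hDs⟩

end Groth.Agent.Lib.Helper3
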