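import Mathlib

set_option autoImplicit false
universe u v
open CategoryTheory CategoryTheory.Limits AlgebraicGeometry Opposite

namespace Groth.Agent.Lib.Helper3

/-- A jointly surjective family of open maps into a quasi-compact scheme can be refined by
finitely many affine opens of the sources. -/
theorem exists_finite_affine_refinement {Z : Scheme.{u}} [CompactSpace Z] {ι : Type v}
    (T : ι → Scheme.{u}) (t : ∀ i, T i ⟶ Z) (ho : ∀ i, IsOpenMap (t i))
    (hs : ∀ z : Z, ∃ i, z ∈ Set.range (t i)) :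
    ∃ (m : ℕ) (i : Fin m → ι) (O : ∀ j, (T (i j)).Opens), (∀ j, IsAffineOpen (O j)) ∧
      ∀ z : Z, ∃ j, z ∈ (t (i j)) '' (O j : Set (T (i j))) := by
  classical
  choose i y hy using hs
  have hO : ∀ z : Z, ∃ O : (T (i z)).Opens, IsAffineOpen O ∧ y z ∈ O := fun z => by
    obtain ⟨_, ⟨O, hO, rfl⟩, hy', -⟩ := (T (i z)).isBasis_affineOpens.exists_subset_of_mem_open
      (Set.mem_univ (y z)) isOpen_univ
    exact ⟨O, hO, hy'⟩
  choose O hOa hyO using hO
  obtain ⟨F, hF⟩ := isCompact_univ.elim_finite_subcover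
    (fun z : Z => (t (i z)) '' (O z : Set (T (i z)))) (fun z => ho (i z) _ (O z).isOpen)
    (fun z _ => Set.mem_iUnion.2 ⟨z, y z, hyO z, hy z⟩)
  let e := F.equivFin
  refine ⟨F.card, fun j => i (e.symm j).1, fun j => O (e.symm j).1, fun j => hOa _, fun z => ?_⟩
  obtain ⟨z', hz', hz⟩ := Set.mem_iUnion₂.1 (hF (Set.mem_univ z))
  refine ⟨e ⟨z', hz'⟩, ?_⟩
  beta_reduce
  rw [Equiv.symm_apply_apply]
  exact hz

end Groth.Agent.Lib.Helper3
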