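import Groth.Agent.Lib.Helper3.SmoothEt6
import Groth.Agent.Lib.Helper3.AlgSpHasAtMor
import Groth.Agent.Lib.Helper3.AlgSpLargestOpen
import Groth.Agent.Lib.Helper3.AlgSpPoints
import Groth.Prelude.Def_AlgSpCov

set_option autoImplicit false
universe u
open CategoryTheory CategoryTheory.Limits AlgebraicGeometry Opposite MorphismProperty

namespace Groth.Agent.Lib.Helper3

variable {S : Scheme.{u}}

open AlgSp

theorem locP_smooth_of_isEtaleMor {X Y : Sp S} {g : X ⟶ Y} (hg : IsEtaleMor g) :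
    LocP @Smooth g :=
  locP_mono (fun _ _ k hk => by have : Etale k := hk; exact inferInstanceAs (Smooth k))
    (locP_etale_of_isEtaleMor hg)

theorem locP_smooth_id (X : Sp S) : LocP @Smooth (𝟙 X) :=
  locP_smooth_of_isEtaleMor (isEtaleMor_id X)

/-- Cancellation for etale morphisms of algebraic spaces. -/
theorem isEtaleMor_cancel {X W Y : Sp S} (hX : IsAlgSpace X) (hW : IsAlgSpace W) (e : X ⟶ W)
    (p : W ⟶ Y) (hp : IsEtaleMor p) (hep : IsEtaleMor (e ≫ p)) : IsEtaleMor e := by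
  refine isEtaleMor_of_locP_etale hX hW ?_
  intro U V a b h ha hb w
  refine etale_of_repWith_comp (a ≫ e ≫ p) (b ≫ p) (hep a ha) (hp b hb) h ?_
  rw [← Category.assoc, ← w, Category.assoc]

variable {P : MorphismProperty (Sp S)}

theorem IsSmoothLocalST.localOnSource (hP : IsSmoothLocalST P) :
    IsLocalOnSource (IsSmCover (S := S)) P := by
  intro ι X Xi g hX hXi hcov Y f hY
  constructor
  · intro hf i
    exact hP.precomp (hXi i) hX hY (g i) f (hcov.1 i) hf
  · intro h
    rw [hP.locality hX hY f]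
    intro x
    obtain ⟨i, v, hv⟩ := hcov.2 x
    exact ⟨Xi i, Y, g i, 𝟙 Y, g i ≫ f, v, hXi i, hY, hcov.1 i, locP_smooth_id Y,
      by rw [Category.comp_id], hv, h i⟩

theorem IsSmoothLocalST.localOnBase (hP : IsSmoothLocalST P) :
    IsLocalOnBase (IsSmCover (S := S)) P := by
  intro ι Y Yi g hY hYi hcov X f hX Xi p q hXi sq
  constructor
  · intro hf i
    exact hP.baseChange hX hY (hXi i) (hYi i) f (g i) (p i) (q i) (sq i) (hcov.1 i) hf
  · intro h
    rw [hP.locality hX hY f]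
    intro x
    obtain ⟨i, y, hy⟩ := hcov.2 (Points.map f x)
    obtain ⟨z, hz, -⟩ := Points.exists_of_isPullback (sq i) x y hy.symm
    exact ⟨Xi i, Yi i, q i, g i, p i, z, hXi i, hYi i,
      locP_of_isPullback isEtLocal_smooth (hYi i) hY hX (hXi i) (g i) f (p i) (q i) (sq i).flip
        (hcov.1 i), hcov.1 i, (sq i).w, hz, h i⟩

theorem IsSmoothLocalST.postcomp (hP : IsSmoothLocalST P) {X Y Z : Sp S} (hX : IsAlgSpace X)
    (hY : IsAlgSpace Y) (hZ : IsAlgSpace Z) (f : X ⟶ Y) (g : Y ⟶ Z) (hf : P f)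
    (hg : LocP @Smooth g) : P (f ≫ g) := by
  rw [hP.locality hX hZ (f ≫ g)]
  intro x
  exact ⟨X, Y, 𝟙 X, g, f, x, hX, hY, locP_smooth_id X, hg, by rw [Category.id_comp],
    Points.map_id x, hf⟩

end Groth.Agent.Lib.Helper3
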