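import Groth.Agent.Lib.Helper3.FpqcDescSquare
import Groth.Agent.Lib.Helper3.FpqcDescInst
import Groth.Agent.Lib.Helper3.AffDescProps
import Groth.Agent.Lib.Helper3.AlgSpRepLocal2

set_option autoImplicit false

universe u
open CategoryTheory CategoryTheory.Limits AlgebraicGeometry Opposite AlgSp MorphismProperty

namespace Groth.Agent.Lib.Helper3.FpqcDesc

open Groth.Agent.Lib.Helper3 Groth.Agent.Lib.Helper3.AffDesc

variable {S : Scheme.{u}}

/-- **fpqc locality on the base** of "representable with `P`" for properties `P` of affine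
morphisms which are Zariski local on the target and satisfy fpqc descent. -/
theorem isLocalOnBase_fpqc_repWith (P : MorphismProperty Scheme.{u}) [P.IsStableUnderBaseChange]
    [IsZariskiLocalAtTarget P] [P.DescendsAlong (@Surjective ⊓ @Flat ⊓ @QuasiCompact)]
    (hle : P ≤ @IsAffineHom) :
    IsLocalOnBase (IsFpqcCover (S := S)) (RepWith P) := by
  intro ι Y Yi g hY hYi hcov X f hX Xi p q hXi sq
  constructor
  · intro hf i
    exact MorphismProperty.of_isPullback (sq i) hf
  · intro hp
    have hpA : ∀ i, IsAffineMor (p i) := fun i => (isAffineMor_iff_repWith (p i)).2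
      (MorphismProperty.relative_monotone (fun A B k hk => hle _ hk) _ (hp i))
    have key : ∀ ⦃Z : Over S⦄, IsAffine Z.left → ∀ (z : (yon S).obj Z ⟶ Y),
        ∃ (W₀ : Over S) (i : W₀ ⟶ Z) (fst₀ : (yon S).obj W₀ ⟶ X),
          IsPullback fst₀ ((yon S).map i) f z ∧ P i.left := by
      intro Z hZ z
      obtain ⟨W₀, V, E, i, fst₀, q', w, c, sq₀, hW₀, hV, hE, hqf, hqs, sqS, htr⟩ :=
        exists_fpqc_descent_square Yi g hY hcov.2 f hX Xi p q sq hpA hZ z
      have hw : P w.left := htr P (fun i T l E' w' fst' _ sq' => (hp i).property l fst' w' sq')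
      have sqS' := sqS.map (Over.forget S)
      exact ⟨W₀, i, fst₀, sq₀, @descends_of_isPullback P _ _ _ _ _ hV hZ _ _ _ _ sqS' hqf hqs hw⟩
    refine repWith_of_affine P f (representable_of_affine f ?_) key
    intro Z hZ z
    obtain ⟨W₀, i, fst₀, sq₀, -⟩ := key hZ z
    exact ⟨W₀, i, fst₀, sq₀⟩

end Groth.Agent.Lib.Helper3.FpqcDesc
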