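import Groth.Agent.Lib.Helper3.AlgSpLocBase
import Groth.Agent.Lib.Helper3.FiniteAffineRefine

set_option autoImplicit false
universe u
open CategoryTheory CategoryTheory.Limits AlgebraicGeometry Opposite MorphismProperty

namespace Groth.Agent.Lib.Helper3

variable {S : Scheme.{u}}

open AlgSp

/-- An fppf covering of an algebraic space admits standard fpqc refinements over affines. -/
theorem hasStdRefinement_of_isFppfCover {X : Sp S} (hX : IsAlgSpace X) {ι : Type u}
    (Xi : ι → Sp S) (g : ∀ i, Xi i ⟶ X) (hXi : ∀ i, IsAlgSpace (Xi i))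
    (h : IsFppfCover Xi g) : HasStdRefinement Xi g := by
  intro Z hZ h'
  have hP : ∀ i, IsAlgSpace (pullback (g i) h') := fun i =>
    isAlgSpace_of_isPullback' hX (hXi i) (IsAlgSpace.yon_obj Z) (IsPullback.of_hasPullback _ _)
  choose T u hue hus using fun i => (hP i).atlas
  choose t ht using fun i => (yon S).map_surjective (u i ≫ pullback.snd (g i) h')
  have hsnd_fl : ∀ i, LocP @Flat (pullback.snd (g i) h') := fun i =>
    locP_of_isPullback isEtLocal_flat (hXi i) hX (IsAlgSpace.yon_obj Z) (hP i) (g i) h' _ _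
      (IsPullback.of_hasPullback _ _) (h.1 i).1
  have hsnd_fp : ∀ i, LocP @LocallyOfFinitePresentation (pullback.snd (g i) h') := fun i =>
    locP_of_isPullback isEtLocal_locallyOfFinitePresentation (hXi i) hX (IsAlgSpace.yon_obj Z)
      (hP i) (g i) h' _ _ (IsPullback.of_hasPullback _ _) (h.1 i).2
  have htf : ∀ i, Flat (t i).left := fun i =>
    hsnd_fl i (u i) (𝟙 _) (t i) (hue i) (repWith_id _ Z) (by rw [ht, Category.comp_id])
  have htp : ∀ i, LocallyOfFinitePresentation (t i).left := fun i =>
    hsnd_fp i (u i) (𝟙 _) (t i) (hue i) (repWith_id _ Z) (by rw [ht, Category.comp_id])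
  have hto : ∀ i, IsOpenMap (t i).left := fun i => (t i).left.isOpenMap
  have hts : ∀ z : Z.left, ∃ i, z ∈ Set.range (t i).left := by
    intro z
    obtain ⟨i, n, hn⟩ := h.2 (Points.map h' (Points.schemeHomeo Z z))
    obtain ⟨w, -, hw⟩ := Points.exists_of_isPullback (IsPullback.of_hasPullback (g i) h') n
      (Points.schemeHomeo Z z) hn
    obtain ⟨v, rfl⟩ := surjective_map_of_repWith (hus i) w
    obtain ⟨v₀, rfl⟩ := (Points.schemeHomeo (T i)).surjective v
    refine ⟨i, v₀, ?_⟩
    apply (Points.schemeHomeo Z).injective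
    rw [← Points.map_yon_map_apply, ht, Points.map_comp, hw]
  have : CompactSpace ↥Z.left := inferInstance
  obtain ⟨m, i, O, hOa, hcov⟩ := exists_finite_affine_refinement (fun i => (T i).left)
    (fun i => (t i).left) hto hts
  let W : Fin m → Over S := fun j => Over.mk ((O j).ι ≫ (T (i j)).hom)
  let ιo : ∀ j, W j ⟶ T (i j) := fun j => Over.homMk (O j).ι rfl
  refine ⟨m, W, fun j => ιo j ≫ t (i j), fun j => hOa j, fun j => ?_, fun z => ?_, fun j => ?_⟩
  · have := htf (i j)
    rw [Over.comp_left]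
    exact inferInstanceAs (Flat ((O j).ι ≫ (t (i j)).left))
  · obtain ⟨j, y, hy, rfl⟩ := hcov z
    refine ⟨j, ⟨y, hy⟩, ?_⟩
    rw [Over.comp_left]
    rfl
  · refine ⟨i j, (yon S).map (ιo j) ≫ u (i j) ≫ pullback.fst (g (i j)) h', ?_⟩
    rw [Category.assoc, Category.assoc, pullback.condition, Functor.map_comp, Category.assoc,
      ← Category.assoc (u (i j)), ← ht]

end Groth.Agent.Lib.Helper3
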