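import Groth.Agent.Lib.Helper3.SchImQC4
import Groth.Agent.Lib.Helper3.FpqcDescMain
import Groth.Agent.Lib.Helper3.AlgSpFppfFpqc
set_option autoImplicit false
universe u
open CategoryTheory CategoryTheory.Limits AlgebraicGeometry Opposite AlgSp

namespace Groth.Agent.Lib.Helper3.SchIm

variable {S : Scheme.{u}}

/-- An etale surjective chart is an fpqc covering. -/
theorem isFpqcCover_of_etale_surjective {X : Sp S} (hX : IsAlgSpace X) {V : Over S}
    (φ : (yon S).obj V ⟶ X) (hφe : RepWith @Etale φ) (hφs : RepWith @Surjective φ) :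
    IsFpqcCover (fun _ : PUnit.{u+1} => (yon S).obj V) (fun _ => φ) := by
  have hflat : LocP @Flat φ := by
    refine locP_of_repWith isEtLocal_flat _ (MorphismProperty.relative_monotone ?_ _ hφe)
    intro A B f hf
    have : Etale ((Over.forget S).map f) := hf
    change Flat ((Over.forget S).map f)
    infer_instance
  have hlfp : LocP @LocallyOfFinitePresentation φ := by
    refine locP_of_repWith isEtLocal_locallyOfFinitePresentation _
      (MorphismProperty.relative_monotone ?_ _ hφe)
    intro A B f hf
    have : Etale ((Over.forget S).map f) := hf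
    change LocallyOfFinitePresentation ((Over.forget S).map f)
    infer_instance
  refine ⟨fun _ => hflat, hasStdRefinement_of_isFppfCover hX _ _ (fun _ => IsAlgSpace.yon_obj V)
    ⟨fun _ => ⟨hflat, hlfp⟩, fun x => ⟨PUnit.unit, ?_⟩⟩⟩
  exact (S9906.repWith_surjective_iff φ hφs.rep).1 hφs x

/-- Affineness of a morphism of algebraic spaces can be checked on one etale surjective chart
of the target. -/
theorem isAffineMor_of_chart {X F : Sp S} (hX : IsAlgSpace X) (hF : IsAlgSpace F) (j : F ⟶ X)
    {V P : Over S} (φ : (yon S).obj V ⟶ X) (hφe : RepWith @Etale φ)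
    (hφs : RepWith @Surjective φ) (w : P ⟶ V) (fst : (yon S).obj P ⟶ F)
    (sq : IsPullback fst ((yon S).map w) j φ) (hw : IsAffineHom w.left) : IsAffineMor j := by
  have hcov := isFpqcCover_of_etale_surjective hX φ hφe hφs
  refine (FpqcDesc.isLocalOnBase_fpqc_isAffineMor (fun _ : PUnit.{u+1} => (yon S).obj V)
    (fun _ => φ) hX (fun _ => IsAlgSpace.yon_obj V) hcov j hF (fun _ => (yon S).obj P)
    (fun _ => (yon S).map w) (fun _ => fst) (fun _ => IsAlgSpace.yon_obj P) (fun _ => sq)).2
    (fun _ => ?_)
  rw [isAffineMor_iff_repWith]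
  exact (repWith_yon_map_iff _ w).2 hw

end Groth.Agent.Lib.Helper3.SchIm
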