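import Groth.Agent.Lib.Helper3.SchImSub
import Groth.Prelude.Def_AlgSpSub
set_option autoImplicit false
universe u
open CategoryTheory CategoryTheory.Limits AlgebraicGeometry Opposite AlgSp

namespace Groth.Agent.Lib.Helper3.SchIm

variable {S : Scheme.{u}}

/-- The kernel of the pullback of a closed subspace to a chart is invariant. -/
theorem ker_comap_eq_of_isPullback {Z' Y : Sp S} (i' : Z' ⟶ Y) {C U R : Over S} (c : C ⟶ U)
    [IsClosedImmersion c.left] (fstC : (yon S).obj C ⟶ Z') (p : (yon S).obj U ⟶ Y)
    (sqC : IsPullback fstC ((yon S).map c) i' p) (s t : R ⟶ U)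
    (hst : (yon S).map s ≫ p = (yon S).map t ≫ p) :
    c.left.ker.comap s.left = c.left.ker.comap t.left := by
  have key : ∀ (r : R ⟶ U), c.left.ker.comap r.left = (pullback.fst r c).left.ker := by
    intro r
    have sq1 : IsPullback (pullback.fst r c).left (pullback.snd r c).left r.left c.left :=
      (IsPullback.of_hasPullback r c).map (Over.forget S)
    rw [← Scheme.IdealSheafData.ker_fst_of_isClosedImmersion, ← sq1.isoPullback_hom_fst,
      Scheme.Hom.ker_comp_of_isIso]
  rw [key s, key t]
  have sqs : IsPullback ((yon S).map (pullback.snd s c) ≫ fstC) ((yon S).map (pullback.fst s c)) i'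
      ((yon S).map s ≫ p) := ((IsPullback.of_hasPullback s c).map (yon S)).flip.paste_horiz sqC
  have sqt : IsPullback ((yon S).map (pullback.snd t c) ≫ fstC) ((yon S).map (pullback.fst t c)) i'
      ((yon S).map t ≫ p) := ((IsPullback.of_hasPullback t c).map (yon S)).flip.paste_horiz sqC
  rw [hst] at sqs
  let e := sqs.isoIsPullback _ _ sqt
  have he : e.hom ≫ (yon S).map (pullback.fst t c) = (yon S).map (pullback.fst s c) :=
    sqs.isoIsPullback_hom_snd _ _ sqt
  let φ : pullback s c ≅ pullback t c := (yon S).preimageIso e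
  have hφ : φ.hom ≫ pullback.fst t c = pullback.fst s c := by
    apply (yon S).map_injective
    rw [Functor.map_comp]
    simp only [φ, Functor.preimageIso_hom, Functor.map_preimage]
    exact he
  have hφl : φ.hom.left ≫ (pullback.fst t c).left = (pullback.fst s c).left := by
    rw [← Over.comp_left, hφ]
  have : IsIso φ.hom.left := inferInstanceAs (IsIso ((Over.forget S).map φ.hom))
  rw [← hφl, Scheme.Hom.ker_comp_of_isIso]

end Groth.Agent.Lib.Helper3.SchIm

namespace Groth.Agent.Lib.Helper3.SchIm

variable {S : Scheme.{u}}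

theorem epi_of_etale_surjective {F G : Sp S} (q : F ⟶ G) (hqe : RepWith @Etale q)
    (hqs : RepWith @Surjective q) : Epi q :=
  (Sheaf.isLocallySurjective_iff_epi _).1
    (Groth.Agent.S9883.isLocallySurjective_of_etale_surjective q hqe hqs)

/-- **Existence of the scheme theoretic image** with its chart description: for a presentation
of the target and a chart of the source, the scheme theoretic image is cut out, on the chart of
the target, by the largest invariant ideal sheaf contained in the kernel. -/
theorem exists_isSchImage {X Y : Space S} (f : X ⟶ Y) :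
    ∃ (Z : Space S) (i : Z ⟶ Y), IsSchImage f.hom i.hom := by
  obtain ⟨R, U, s, t, p, hp⟩ := exists_presentation Y
  obtain ⟨W, a, hae, has⟩ := X.property.atlas
  obtain ⟨W', h', fst, sqW⟩ := hp.etale.1 (a ≫ f.hom)
  obtain ⟨h, rfl⟩ := (yon S).map_surjective fst
  have hh'e : RepWith @Etale ((yon S).map h') := MorphismProperty.of_isPullback sqW hp.etale
  have hh's : RepWith @Surjective ((yon S).map h') :=
    MorphismProperty.of_isPullback sqW hp.surjective
  have he1 : Epi ((yon S).map h') := epi_of_etale_surjective _ hh'e hh's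
  have he2 : Epi a := epi_of_etale_surjective _ hae has
  have he : Epi ((yon S).map h' ≫ a) := epi_comp _ _
  have hw : ((yon S).map h' ≫ a) ≫ f.hom = (yon S).map h ≫ p := by
    rw [Category.assoc]; exact sqW.w.symm
  have hst : (yon S).map s ≫ p = (yon S).map t ≫ p := hp.isPullback.w.symm
  let 𝓘 : Set U.left.IdealSheafData := {I | I.comap s.left = I.comap t.left ∧ I ≤ h.left.ker}
  have hI₀ : (sSup 𝓘).comap s.left = (sSup 𝓘).comap t.left :=
    comap_sSup_eq _ _ _ (fun I hI => hI.1)
  have hI₀k : sSup 𝓘 ≤ h.left.ker := sSup_le (fun I hI => hI.2)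
  obtain ⟨Z, i, q, hcl, sq⟩ := exists_closedSubspace_of_invariant Y s t p hp (sSup 𝓘) hI₀
  have hmono : Mono i.hom := mono_of_closedImmersion _ hcl
  refine ⟨Z, i, hcl, ?_, ?_⟩
  · let h₀ : W' ⟶ Over.mk ((sSup 𝓘).subschemeι ≫ U.hom) :=
      Over.homMk (IsClosedImmersion.lift (sSup 𝓘).subschemeι h.left (by
        rw [Scheme.IdealSheafData.ker_subschemeι]; exact hI₀k)) (by
        change _ ≫ (sSup 𝓘).subschemeι ≫ U.hom = _
        rw [IsClosedImmersion.lift_fac_assoc, Over.w])
    exact exists_factor_of_chart f.hom i.hom p _ q sq ((yon S).map h' ≫ a) h hw h₀ (by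
      ext; exact IsClosedImmersion.lift_fac _ _ _)
  · intro Z' i' hZ' hi' hfac
    obtain ⟨f'', hf''⟩ := hfac
    obtain ⟨C, c, fstC, sqC⟩ := hi'.1 p
    have hc : IsClosedImmersion c.left := hi'.property p fstC c sqC
    have hmono' : Mono i' := mono_of_closedImmersion _ hi'
    have hinv := ker_comap_eq_of_isPullback i' c fstC p sqC s t hst
    -- the chart of the source factors through `C`
    have hw' : (((yon S).map h' ≫ a) ≫ f'') ≫ i' = (yon S).map h ≫ p := by
      rw [Category.assoc, hf'', hw]
    obtain ⟨h₁, hh₁⟩ := (yon S).map_surjective (sqC.lift _ _ hw')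
    have hh₁c : h₁ ≫ c = h := by
      apply (yon S).map_injective
      rw [Functor.map_comp, hh₁]
      exact sqC.lift_snd _ _ hw'
    have hle : c.left.ker ≤ h.left.ker := by
      rw [← hh₁c, Over.comp_left]
      exact Scheme.Hom.le_ker_comp _ _
    have hmem : c.left.ker ∈ 𝓘 := ⟨hinv, hle⟩
    have hle₀ : c.left.ker ≤ sSup 𝓘 := le_sSup hmem
    let m : Over.mk ((sSup 𝓘).subschemeι ≫ U.hom) ⟶ C :=
      Over.homMk (IsClosedImmersion.lift c.left (sSup 𝓘).subschemeι (by
        rw [Scheme.IdealSheafData.ker_subschemeι]; exact hle₀)) (by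
        change _ = (sSup 𝓘).subschemeι ≫ U.hom
        rw [← Over.w c, IsClosedImmersion.lift_fac_assoc])
    have hm : m ≫ c = (Over.homMk (sSup 𝓘).subschemeι rfl :
        Over.mk ((sSup 𝓘).subschemeι ≫ U.hom) ⟶ U) := by
      ext; exact IsClosedImmersion.lift_fac _ _ _
    have hqe : RepWith @Etale q := MorphismProperty.of_isPullback sq.flip hp.etale
    have hqs : RepWith @Surjective q := MorphismProperty.of_isPullback sq.flip hp.surjective
    have hqepi : Epi q := epi_of_etale_surjective _ hqe hqs
    obtain ⟨k, -, hk⟩ := exists_lift_of_epi_mono q i' ((yon S).map m ≫ fstC) i.hom (by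
      rw [Category.assoc, sqC.w, ← Category.assoc, ← Functor.map_comp, hm, sq.w])
    exact ⟨k, hk⟩

end Groth.Agent.Lib.Helper3.SchIm
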