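import Groth.Agent.Lib.Helper3.AlgSpChartPts

set_option autoImplicit false
universe u
open CategoryTheory CategoryTheory.Limits AlgebraicGeometry Opposite

namespace Groth.Agent.Lib.Helper3

variable {S : Scheme.{u}}

open AlgSp

/-- If the fibre over `x` of an etale chart is finite, there are no nontrivial specializations
in it. -/
theorem eq_of_specializes_of_finite_fibre {X : Sp S} {U : Over S} (a : (yon S).obj U ⟶ X)
    (ha : RepWith @Etale a) (x : Points X) (hfin : (Points.ofPt a ⁻¹' {x}).Finite)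
    (u u' : ↥U.left) (hu : Points.ofPt a u = x) (hu' : Points.ofPt a u' = x) (hs : u' ⤳ u) :
    u = u' := by
  classical
  let _ := specializationPreorder ↥U.left
  have hne : (Points.ofPt a ⁻¹' {x}).Nonempty := ⟨u, hu⟩
  obtain ⟨v, hv⟩ := hfin.exists_maximal hne
  have hvx : Points.ofPt a v = x := hv.prop
  have hvmax : ∀ w, Points.ofPt a w = x → w ⤳ v → w = v := by
    intro w hw hwv
    have h2 : v ⤳ w := hv.2 (y := w) hw hwv
    exact (hwv.antisymm h2).eq
  obtain ⟨R, t, s, sq⟩ := exists_pullback_charts a ha.1 a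
  have hs_et : Etale s.left := ha.2 a ((yon S).map t) s sq
  have ht_et : Etale t.left := ha.2 a ((yon S).map s) t sq.flip
  obtain ⟨r, hr1, hr2⟩ := exists_of_ofPt_eq_of_isPullback sq u v (hu.trans hvx.symm)
  have hgen : GeneralizingMap t.left := Flat.generalizingMap t.left
  obtain ⟨r', hr', hr'u⟩ := hgen (show u' ⤳ t.left r from hr1 ▸ hs)
  have h1 : s.left r' ⤳ s.left r := hr'.map s.left.continuous
  have h2 : Points.ofPt a (s.left r') = x := by
    rw [← ofPt_comm_of_isPullback sq, hr'u, hu']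
  have h3 : s.left r' = s.left r := by
    rw [hr2]; exact hvmax _ h2 (hr2 ▸ h1)
  have := locallyQuasiFinite_of_etale s.left
  have h4 : r' = r := eq_of_specializes_of_map_eq s.left hr' h3
  rw [← hr1, ← hr'u, h4]

/-- If the fibres over `x` of all affine etale charts are finite, there are no nontrivial
specializations in the fibre over `x` of any etale chart. -/
theorem eq_of_specializes_of_finite_fibres {X : Sp S} (x : Points X)
    (hx : ∀ (V : Over S) (b : (yon S).obj V ⟶ X), IsAffine V.left → RepWith @Etale b →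
      (Points.ofPt b ⁻¹' {x}).Finite)
    {U : Over S} (a : (yon S).obj U ⟶ X) (ha : RepWith @Etale a) (u u' : ↥U.left)
    (hu : Points.ofPt a u = x) (hu' : Points.ofPt a u' = x) (hs : u' ⤳ u) : u = u' := by
  obtain ⟨W₀, hW₀, huW⟩ : ∃ W₀ : U.left.Opens, IsAffineOpen W₀ ∧ u ∈ W₀ := by
    obtain ⟨_, ⟨W, hW, rfl⟩, huW, -⟩ := (U.left.isBasis_affineOpens).exists_subset_of_mem_open
      (Set.mem_univ u) isOpen_univ
    exact ⟨W, hW, huW⟩
  have hu'W : u' ∈ W₀ := hs.mem_open W₀.isOpen huW
  have haff : IsAffine (Over.mk (W₀.ι ≫ U.hom)).left := hW₀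
  have hfin := hx _ (chartRestrict a W₀) haff (chartRestrict_etale a ha W₀)
  let w : ↥(Over.mk (W₀.ι ≫ U.hom)).left := (⟨u, huW⟩ : ↥W₀)
  let w' : ↥(Over.mk (W₀.ι ≫ U.hom)).left := (⟨u', hu'W⟩ : ↥W₀)
  have hw : Points.ofPt (chartRestrict a W₀) w = x := by
    rw [ofPt_chartRestrict]; exact hu
  have hw' : Points.ofPt (chartRestrict a W₀) w' = x := by
    rw [ofPt_chartRestrict]; exact hu'
  have hsw : w' ⤳ w := (subtype_specializes_iff (⟨u', hu'W⟩ : ↥W₀) ⟨u, huW⟩).2 hs
  have := eq_of_specializes_of_finite_fibre (chartRestrict a W₀) (chartRestrict_etale a ha W₀)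
    x hfin w w' hw hw' hsw
  exact congrArg (fun z : ↥W₀ => (z : ↥U.left)) this

end Groth.Agent.Lib.Helper3
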