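import Groth.Agent.Lib.Helper3.AlgSpEtSitePoint5
import Mathlib.CategoryTheory.Limits.ConcreteCategory.Filtered

set_option autoImplicit false
universe u v' u' w'
open CategoryTheory CategoryTheory.Limits AlgebraicGeometry Opposite
open AlgSp

namespace Groth.Agent.Lib.Helper3

variable {S : Scheme.{u}} {X : Sp S}

theorem preservesColimitsOfShape_etNbhd_forget (hX : IsAlgSpace X) (p : FieldPt X)
    (hp : p.IsGeometric) (A : Type u') [Category.{v'} A] {FA : A → A → Type*} {CA : A → Type w'}
    [∀ X Y, FunLike (FA X Y) (CA X) (CA Y)] [ConcreteCategory.{w'} A FA]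
    [PreservesFilteredColimitsOfSize.{u + 1, u + 1} (forget A)] :
    PreservesColimitsOfShape (EtNbhd p)ᵒᵖ (forget A) := by
  have := isCofiltered_etNbhd hX p hp
  have h1 : IsFiltered (EtNbhd p)ᵒᵖ := inferInstance
  have h2 : EssentiallySmall.{u + 1} (EtNbhd p)ᵒᵖ := inferInstance
  let e := equivSmallModel.{u + 1} (EtNbhd p)ᵒᵖ
  have h3 : IsFiltered (SmallModel.{u + 1} (EtNbhd p)ᵒᵖ) := IsFiltered.of_equivalence e
  have h4 : PreservesColimitsOfShape (SmallModel.{u + 1} (EtNbhd p)ᵒᵖ) (forget A) :=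
    PreservesFilteredColimitsOfSize.preserves_filtered_colimits _
  exact preservesColimitsOfShape_of_equiv e.symm (forget A)

/-- Two sections have the same germ at a geometric point iff they agree on a smaller etale
neighbourhood. -/
theorem stalkEtι_eq_iff (hX : IsAlgSpace X) (p : FieldPt X) (hp : p.IsGeometric)
    {A : Type u'} [Category.{v'} A] {FA : A → A → Type*} {CA : A → Type w'}
    [∀ X Y, FunLike (FA X Y) (CA X) (CA Y)] [ConcreteCategory.{w'} A FA]
    [PreservesFilteredColimitsOfSize.{u + 1, u + 1} (forget A)]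
    [HasColimitsOfShape (EtNbhd p)ᵒᵖ A] (F : EtSh X A) (N : EtNbhd p)
    (σ τ : ToType (F.obj.obj (op N.1))) :
    stalkEtι p F N σ = stalkEtι p F N τ ↔
      ∃ (N' : EtNbhd p) (f : N' ⟶ N), F.obj.map f.1.op σ = F.obj.map f.1.op τ := by
  have := isCofiltered_etNbhd hX p hp
  have h1 : IsFiltered (EtNbhd p)ᵒᵖ := inferInstance
  have h2 := preservesColimitsOfShape_etNbhd_forget hX p hp A
  refine ((colimit.isColimit (stalkEtDiagram p F)).eq_iff' (i := op N) σ τ).trans ?_
  constructor
  · rintro ⟨N', f, hf⟩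
    exact ⟨N'.unop, f.unop, hf⟩
  · rintro ⟨N', f, hf⟩
    exact ⟨op N', f.op, hf⟩

/-- Every element of the stalk at a geometric point is a germ. -/
theorem stalkEtι_jointly_surjective (hX : IsAlgSpace X) (p : FieldPt X) (hp : p.IsGeometric)
    {A : Type u'} [Category.{v'} A] {FA : A → A → Type*} {CA : A → Type w'}
    [∀ X Y, FunLike (FA X Y) (CA X) (CA Y)] [ConcreteCategory.{w'} A FA]
    [PreservesFilteredColimitsOfSize.{u + 1, u + 1} (forget A)]
    [HasColimitsOfShape (EtNbhd p)ᵒᵖ A] (F : EtSh X A) (s : ToType (stalkEt p F)) :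
    ∃ (N : EtNbhd p) (σ : ToType (F.obj.obj (op N.1))), stalkEtι p F N σ = s := by
  have h2 := preservesColimitsOfShape_etNbhd_forget hX p hp A
  obtain ⟨N, σ, h⟩ := Types.jointly_surjective_of_isColimit
    (isColimitOfPreserves (forget A) (colimit.isColimit (stalkEtDiagram p F))) s
  exact ⟨N.unop, σ, h⟩

end Groth.Agent.Lib.Helper3
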