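import Groth.Agent.Lib.Helper3.AlgSpGeomLift
import Groth.Prelude.Def_AlgSpOX3

set_option autoImplicit false
universe u
open CategoryTheory CategoryTheory.Limits AlgebraicGeometry Opposite

namespace Groth.Agent.Lib.Helper3

variable {S : Scheme.{u}}

open AlgSp

/-- Lifting a point with algebraically closed residue field along an etale morphism of schemes,
through a prescribed point of the fibre. -/
theorem exists_lift_of_etale_algClosed (K : Type u) [Field K] [IsAlgClosed K] {A B : Scheme.{u}}
    (g : A ⟶ B) [Etale g] (t : Spec (CommRingCat.of K) ⟶ B) (y : ↥A)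
    (hy : g y = t (IsLocalRing.closedPoint K)) :
    ∃ l : Spec (CommRingCat.of K) ⟶ A, l ≫ g = t := by
  obtain ⟨w, -, -⟩ := Scheme.Pullback.exists_preimage_pullback (f := g) (g := t) y
    (IsLocalRing.closedPoint K) hy
  obtain ⟨σ, hσ, -⟩ := exists_section_through_of_etale_algClosed K (pullback.snd g t) w
  refine ⟨σ ≫ pullback.fst g t, ?_⟩
  rw [Category.assoc, pullback.condition, ← Category.assoc, hσ, Category.id_comp]

end Groth.Agent.Lib.Helper3
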