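import Groth.Agent.Lib.Helper3.AlgSpQC
import Groth.Prelude.Def_SGA1

set_option autoImplicit false
universe u
open CategoryTheory CategoryTheory.Limits AlgebraicGeometry Opposite MorphismProperty Topology

namespace Groth.Agent.Lib.Helper3

variable {S : Scheme.{u}}

open AlgSp

theorem isQuotientMap_of_univSubmersive {A B : Scheme.{u}} (g : A ⟶ B)
    (hg : SGA1.UnivSubmersive g) : IsQuotientMap (fun a => g a) :=
  hg (𝟙 _) (𝟙 _) g IsPullback.of_id_snd

theorem surjective_of_univSubmersive {A B : Scheme.{u}} (g : A ⟶ B)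
    (hg : SGA1.UnivSubmersive g) : Surjective g :=
  ⟨(isQuotientMap_of_univSubmersive g hg).surjective⟩

theorem isQuotientMap_map_of_repWith {F G : Sp S} {f : F ⟶ G}
    (hf : RepWith SGA1.UnivSubmersive f) : IsQuotientMap (Points.map f) := by
  have hsurj : RepWith @Surjective f := by
    refine MorphismProperty.relative_monotone ?_ _ hf
    intro A B g hg
    exact surjective_of_univSubmersive _ hg
  refine ⟨IsCoinducing.of_isOpen_preimage_iff_isOpen fun s =>
    ⟨fun hs => ?_, fun hs => hs.preimage (Points.continuous_map f)⟩, surjective_map_of_repWith hsurj⟩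
  rw [Points.isOpen_iff]
  intro T a
  have sqa := hf.rep.isPullback a
  have hq : IsQuotientMap (fun v => (hf.rep.snd a).left v) :=
    isQuotientMap_of_univSubmersive _ (hf.property_snd a)
  rw [← hq.isOpen_preimage]
  have : (fun v => (hf.rep.snd a).left v) ⁻¹' (Points.ofPt a ⁻¹' s) =
      Points.ofPt (hf.rep.fst a) ⁻¹' (Points.map f ⁻¹' s) := by
    ext v
    simp only [Set.mem_preimage]
    have : Points.ofPt a ((hf.rep.snd a).left v) = Points.map f (Points.ofPt (hf.rep.fst a) v) := by
      rw [Points.ofPt_eq_map_ofScheme, Points.ofPt_eq_map_ofScheme]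
      change Points.map a (Points.schemeHomeo T _) = _
      rw [← Points.map_yon_map_apply, ← Points.map_comp, ← Points.map_comp, sqa.w]
      rfl
    rw [this]
  rw [this]
  exact hs.preimage (Points.continuous_ofPt _)

theorem isUnivSubmersiveMor_of_repWith {X Y : Sp S} {f : X ⟶ Y}
    (h : RepWith SGA1.UnivSubmersive f) : IsUnivSubmersiveMor f := by
  intro Z Z' _ g fst snd sq
  exact isQuotientMap_map_of_repWith (MorphismProperty.of_isPullback sq h)

theorem repWith_univSubmersive_of_isUnivSubmersiveMor {X Y : Sp S} {f : X ⟶ Y}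
    (hf : Representable f) (h : IsUnivSubmersiveMor f) : RepWith SGA1.UnivSubmersive f := by
  refine ⟨hf, fun U V g fstV sndV sq => ?_⟩
  change SGA1.UnivSubmersive sndV.left
  intro V' U' i₁ i₂ f' hsq
  obtain ⟨fst'', g'', sq''⟩ := exists_univ_square sq i₁ i₂ f' hsq
  have h1 : IsQuotientMap (Points.map ((yon S).map (Over.homMk f' rfl :
      Over.mk (f' ≫ i₂ ≫ U.hom) ⟶ Over.mk (i₂ ≫ U.hom)))) :=
    h (IsAlgSpace.yon_obj _) g'' fst'' _ sq''
  rw [Points.map_yon_map_eq] at h1
  have h2 := ((Points.schemeHomeo _).symm.isQuotientMap.comp h1).comp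
    (Points.schemeHomeo (Over.mk (f' ≫ i₂ ≫ U.hom))).isQuotientMap
  have h3 : IsQuotientMap (fun t => f' t) := by
    simpa [Function.comp_def] using h2
  exact h3

end Groth.Agent.Lib.Helper3
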