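import Groth.Agent.Lib.Helper3.AlgSpQC

set_option autoImplicit false
universe u
open CategoryTheory CategoryTheory.Limits AlgebraicGeometry Opposite MorphismProperty

namespace Groth.Agent.Lib.Helper3

variable {S : Scheme.{u}}

open AlgSp

/-- Refinement of a chart: if the images of finitely many affine opens of a chart cover the points,
there is a chart from a compact scheme. More generally, any compact set of points of a sheaf with an
etale chart `p : h_U ⟶ F` is covered by the image of a compact open subscheme of `U`. -/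
theorem exists_compact_open_of_isCompact {F : Sp S} {U : Over S} (p : (yon S).obj U ⟶ F)
    (hpe : RepWith @Etale p) (K : Set (Points F)) (hK : IsCompact K)
    (hKp : K ⊆ Set.range (Points.map p)) :
    ∃ W : U.left.Opens, IsCompact (W : Set ↥U.left) ∧
      K ⊆ Points.map p '' (Points.schemeHomeo U '' (W : Set ↥U.left)) := by
  let O : U.left.affineCover.I₀ → Set (Points F) := fun i =>
    Points.map p '' (Points.schemeHomeo U '' Set.range (U.left.affineCover.f i))
  have hO : ∀ i, IsOpen (O i) := fun i =>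
    isOpenMap_map_of_etale hpe _ ((Points.schemeHomeo U).isOpenMap _
      (U.left.affineCover.f i).isOpenEmbedding.isOpen_range)
  have hcov : K ⊆ ⋃ i, O i := by
    intro x hx
    obtain ⟨z, rfl⟩ := hKp hx
    obtain ⟨u, rfl⟩ := (Points.schemeHomeo U).surjective z
    obtain ⟨i, y, rfl⟩ := U.left.affineCover.exists_eq u
    exact Set.mem_iUnion.2 ⟨i, _, ⟨_, ⟨y, rfl⟩, rfl⟩, rfl⟩
  obtain ⟨t, ht⟩ := hK.elim_finite_subcover O hO hcov
  refine ⟨⨆ i ∈ t, (U.left.affineCover.f i).opensRange, ?_, ?_⟩
  · have : ((⨆ i ∈ t, (U.left.affineCover.f i).opensRange : U.left.Opens) : Set ↥U.left) =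
        ⋃ i ∈ t, Set.range (U.left.affineCover.f i) := by
      simp [TopologicalSpace.Opens.coe_iSup]
    rw [this]
    exact t.isCompact_biUnion fun i _ => isCompact_range (U.left.affineCover.f i).continuous
  · intro x hx
    obtain ⟨i, hi, hxi⟩ := Set.mem_iUnion₂.1 (ht hx)
    obtain ⟨z, ⟨u, hu, rfl⟩, rfl⟩ := hxi
    refine ⟨_, ⟨u, ?_, rfl⟩, rfl⟩
    simp only [TopologicalSpace.Opens.coe_iSup, Set.mem_iUnion]
    exact ⟨i, hi, hu⟩

/-- An open subscheme of a chart gives a chart (etale) whose image on points is the image of the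
open subset. -/
theorem exists_chart_of_opens {F : Sp S} {U : Over S} (p : (yon S).obj U ⟶ F)
    (hpe : RepWith @Etale p) (W : U.left.Opens) :
    ∃ (W' : Over S) (q : (yon S).obj W' ⟶ F), RepWith @Etale q ∧ W'.left = (W : Scheme) ∧
      Set.range (Points.map q) = Points.map p '' (Points.schemeHomeo U '' (W : Set ↥U.left)) := by
  let W' : Over S := Over.mk (W.ι ≫ U.hom)
  let j : W' ⟶ U := Over.homMk W.ι rfl
  have hj : RepWith @Etale ((yon S).map j) :=
    (repWith_yon_map_iff _ j).2 (inferInstanceAs (Etale W.ι))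
  refine ⟨W', (yon S).map j ≫ p, MorphismProperty.comp_mem _ _ _ hj hpe, rfl, ?_⟩
  ext x
  constructor
  · rintro ⟨z, rfl⟩
    obtain ⟨w, rfl⟩ := (Points.schemeHomeo W').surjective z
    refine ⟨_, ⟨W.ι w, w.2, rfl⟩, ?_⟩
    rw [Points.map_comp]
    congr 1
    exact (Points.map_yon_map_apply j w).symm
  · rintro ⟨z, ⟨u, hu, rfl⟩, rfl⟩
    refine ⟨Points.schemeHomeo W' ⟨u, hu⟩, ?_⟩
    rw [Points.map_comp]
    congr 1
    exact Points.map_yon_map_apply j (⟨u, hu⟩ : W)

/-- An algebraic space whose space of points is compact is quasi-compact. -/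
theorem isQuasiCompactSp_of_compactSpace_points {F : Sp S} (hF : IsAlgSpace F)
    [CompactSpace (Points F)] : IsQuasiCompactSp F := by
  obtain ⟨U, p, hpe, hps⟩ := hF.atlas
  have hs := surjective_map_of_repWith hps
  obtain ⟨W, hWc, hW⟩ := exists_compact_open_of_isCompact p hpe Set.univ isCompact_univ
    (by rw [hs.range_eq])
  obtain ⟨W', q, hqe, hW', hq⟩ := exists_chart_of_opens p hpe W
  refine ⟨W', q, hqe, ?_, ?_⟩
  · refine (Groth.Agent.S9906.repWith_surjective_iff q hqe.rep).2 ?_
    intro x
    have : x ∈ Set.range (Points.map q) := by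
      rw [hq]; exact hW (Set.mem_univ x)
    exact this
  · rw [hW']
    exact isCompact_iff_compactSpace.1 hWc

end Groth.Agent.Lib.Helper3
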