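import Groth.Agent.Lib.Helper3.AlgSpChartPts
import Groth.Prelude.Def_AlgSpOX

set_option autoImplicit false
universe u
open CategoryTheory CategoryTheory.Limits AlgebraicGeometry Opposite Topology
open AlgSp

namespace Groth.Agent.Lib.Helper3

variable {S : Scheme.{u}}

/-- Two points of two objects of the small etale site with the same image in `|X|` come from a
point of a common refinement. -/
theorem EtOver.exists_common_preimage {X : Sp S} (E E' : EtOver X) (a : ↥E.obj.left.left)
    (b : ↥E'.obj.left.left) (h : Points.ofPt E.obj.hom a = Points.ofPt E'.obj.hom b) :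
    ∃ (E'' : EtOver X) (g₁ : E'' ⟶ E) (g₂ : E'' ⟶ E') (w : ↥E''.obj.left.left),
      g₁.hom.left.left w = a ∧ g₂.hom.left.left w = b := by
  obtain ⟨W, pU, pT, sq⟩ := exists_pullback_charts E.obj.hom E.property.1 E'.obj.hom
  obtain ⟨w, hw1, hw2⟩ := exists_of_ofPt_eq_of_isPullback sq a b h
  have hpUe : RepWith @Etale ((yon S).map pU) := MorphismProperty.of_isPullback sq.flip E'.property
  exact ⟨EtOver.mk ((yon S).map pU ≫ E.obj.hom) ((RepWith @Etale).comp_mem _ _ hpUe E.property),
    EtOver.homMk pU rfl, EtOver.homMk pT sq.w.symm, w, hw1, hw2⟩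

/-- Restriction of global sections of the structure sheaf along a morphism of the site. -/
theorem gsectEt_OEt_res {X : Sp S} {E E' : EtOver X} (φ : E' ⟶ E) (f : ↥(gsectEt (OEt X))) :
    ((limit.π (OEt X).obj (op E')) f).down =
      φ.hom.left.left.appTop.hom ((limit.π (OEt X).obj (op E)) f).down := by
  have h1 := limit.w (OEt X).obj φ.op
  have h2 := congrArg (fun k => (CommRingCat.Hom.hom k) f) h1
  simp only [CommRingCat.hom_comp, RingHom.comp_apply] at h2
  rw [← h2]
  rfl

/-- The non-vanishing locus of a global section pulls back along morphisms of the site. -/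
theorem mem_basicOpen_gsectEt_iff {X : Sp S} {E E' : EtOver X} (φ : E' ⟶ E)
    (f : ↥(gsectEt (OEt X))) (w : ↥E'.obj.left.left) :
    w ∈ E'.obj.left.left.basicOpen ((limit.π (OEt X).obj (op E')) f).down ↔
      φ.hom.left.left w ∈ E.obj.left.left.basicOpen ((limit.π (OEt X).obj (op E)) f).down := by
  rw [gsectEt_OEt_res φ f]
  have : φ.hom.left.left ⁻¹ᵁ
      E.obj.left.left.basicOpen ((limit.π (OEt X).obj (op E)) f).down =
      E'.obj.left.left.basicOpen
        (φ.hom.left.left.appTop.hom ((limit.π (OEt X).obj (op E)) f).down) :=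
    Scheme.preimage_basicOpen_top φ.hom.left.left ((limit.π (OEt X).obj (op E)) f).down
  exact (SetLike.ext_iff.1 this w).symm.trans Iff.rfl

end Groth.Agent.Lib.Helper3
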