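import Mathlib.AlgebraicGeometry.IdealSheaf.Functorial
import Mathlib.AlgebraicGeometry.Morphisms.SchemeTheoreticallyDominant
import Groth.Prelude.Def_CInt
set_option autoImplicit false
universe u
open CategoryTheory CategoryTheory.Limits AlgebraicGeometry Opposite

namespace Groth.Agent.Lib.Helper3.SchIm

theorem image_preimage_eq_inf {V : Scheme.{u}} (W V' : V.Opens) :
    W.ι ''ᵁ W.ι ⁻¹ᵁ V' = V' ⊓ W := by
  ext x
  constructor
  · rintro ⟨y, hy, rfl⟩
    exact ⟨hy, y.2⟩
  · rintro ⟨h1, h2⟩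
    exact ⟨⟨x, h2⟩, h1, rfl⟩

/-- Restriction to `V' ∩ W` is injective iff `W.ι.app V'` is. -/
theorem injective_ι_app_iff {V : Scheme.{u}} (W V' : V.Opens) :
    Function.Injective (W.ι.app V') ↔
      Function.Injective (V.presheaf.map (homOfLE (inf_le_left : V' ⊓ W ≤ V')).op) := by
  have e : W.ι ''ᵁ W.ι ⁻¹ᵁ V' = V' ⊓ W := image_preimage_eq_inf W V'
  have hbij : Function.Bijective (V.presheaf.map (eqToHom e).op) :=
    ConcreteCategory.bijective_of_isIso _
  have key : ∀ x, (W.ι.app V') x =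
      V.presheaf.map (eqToHom e).op (V.presheaf.map (homOfLE (inf_le_left : V' ⊓ W ≤ V')).op x) := by
    intro x
    change V.presheaf.map (homOfLE (x := W.ι ''ᵁ W.ι ⁻¹ᵁ V')
      (Set.image_preimage_subset _ _ : _ ≤ V')).op x = _
    rw [← CategoryTheory.comp_apply, ← Functor.map_comp]
    rfl
  constructor
  · intro h x y hxy
    apply h
    rw [key, key, hxy]
  · intro h x y hxy
    rw [key, key] at hxy
    exact h (hbij.1 hxy)

theorem ker_ι_eq_bot_of_isSchematicallyDense {V : Scheme.{u}} (W : V.Opens)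
    (hW : CInt.IsSchematicallyDense W) : W.ι.ker = ⊥ := by
  ext V₀ : 2
  rw [Scheme.IdealSheafData.ideal_bot, Pi.bot_apply, eq_bot_iff]
  refine (W.ι.ideal_ker_le V₀).trans (le_of_eq ?_)
  exact (RingHom.injective_iff_ker_eq_bot _).1 ((injective_ι_app_iff W V₀.1).2 (hW V₀.1))

theorem isSchematicallyDense_of_ker_ι_eq_bot {V : Scheme.{u}} (W : V.Opens) [QuasiCompact W.ι]
    (h : W.ι.ker = ⊥) : CInt.IsSchematicallyDense W := by
  have : IsSchemeTheoreticallyDominant W.ι := ⟨h⟩
  intro V'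
  exact (injective_ι_app_iff W V').1 (W.ι.app_injective V')

end Groth.Agent.Lib.Helper3.SchIm
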