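import Mathlib.AlgebraicGeometry.IdealSheaf.Functorial
import Mathlib.AlgebraicGeometry.Morphisms.SchemeTheoreticallyDominant
import Groth.Agent.Lib.Helper3.ImmFpqcDesc
set_option autoImplicit false
universe u
open CategoryTheory CategoryTheory.Limits AlgebraicGeometry Opposite

namespace Groth.Agent.Lib.Helper3.SchIm

/-- Flat base change of the kernel of a quasi-compact morphism. -/
theorem ker_comap_of_flat {X Y Y' : Scheme.{u}} (h : X ⟶ Y) [QuasiCompact h] (s : Y' ⟶ Y)
    [Flat s] : h.ker.comap s = (pullback.fst s h).ker := by
  have hdom := ImmDesc.isSchemeTheoreticallyDominant_toImage h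
  let m : pullback s h ⟶ pullback s h.imageι :=
    pullback.lift (pullback.fst s h) (pullback.snd s h ≫ h.toImage) (by
      rw [Category.assoc, h.toImage_imageι, pullback.condition])
  have hm1 : m ≫ pullback.fst s h.imageι = pullback.fst s h := pullback.lift_fst _ _ _
  have hm2 : m ≫ pullback.snd s h.imageι = pullback.snd s h ≫ h.toImage := pullback.lift_snd _ _ _
  have sqtop : IsPullback m (pullback.snd s h) (pullback.snd s h.imageι) h.toImage := by
    refine IsPullback.of_right ?_ hm2 (IsPullback.of_hasPullback s h.imageι)
    rw [hm1, h.toImage_imageι]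
    exact IsPullback.of_hasPullback s h
  have hmdom : IsSchemeTheoreticallyDominant m := IsSchemeTheoreticallyDominant.of_isPullback sqtop.flip
  rw [← hm1, Scheme.Hom.ker_comp, m.ker_eq_bot, Scheme.IdealSheafData.map_bot]
  rfl

end Groth.Agent.Lib.Helper3.SchIm
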