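import Groth.Agent.Lib.Helper3.SchImMain
import Groth.Agent.Lib.Helper3.SchImFlat
import Groth.Agent.Lib.Helper3.SchImDense
set_option autoImplicit false
universe u
open CategoryTheory CategoryTheory.Limits AlgebraicGeometry Opposite AlgSp

namespace Groth.Agent.Lib.Helper3.SchIm

variable {S : Scheme.{u}}

/-- An open immersion over `S` is isomorphic to the inclusion of its range. -/
theorem exists_iso_opens_of_isOpenImmersion {Wo V : Over S} (w : Wo ⟶ V)
    [IsOpenImmersion w.left] :
    ∃ ε : Over.mk (w.left.opensRange.ι ≫ V.hom) ≅ Wo,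
      ε.hom ≫ w = (Over.homMk w.left.opensRange.ι rfl :
        Over.mk (w.left.opensRange.ι ≫ V.hom) ⟶ V) := by
  let e₀ : (w.left.opensRange : Scheme.{u}) ≅ Wo.left :=
    IsOpenImmersion.isoOfRangeEq w.left.opensRange.ι w.left (by simp)
  have he₀ : e₀.hom ≫ w.left = w.left.opensRange.ι :=
    IsOpenImmersion.isoOfRangeEq_hom_fac _ _ _
  have hov : e₀.hom ≫ Wo.hom = w.left.opensRange.ι ≫ V.hom := by
    rw [← he₀, Category.assoc, Over.w]
  refine ⟨Over.isoMk e₀ hov, ?_⟩
  ext
  exact he₀

/-- Uniqueness of the scheme theoretic image. -/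
theorem isSchImage_unique {F G Z Z' : Sp S} {f : F ⟶ G} {i : Z ⟶ G} {i' : Z' ⟶ G}
    (hZ : IsAlgSpace Z) (hZ' : IsAlgSpace Z') (h : IsSchImage f i) (h' : IsSchImage f i') :
    ∃ e : Z ≅ Z', e.hom ≫ i' = i := by
  have hm : Mono i := mono_of_closedImmersion _ h.1
  have hm' : Mono i' := mono_of_closedImmersion _ h'.1
  obtain ⟨k, hk⟩ := h.2.2 i' hZ' h'.1 h'.2.1
  obtain ⟨k', hk'⟩ := h'.2.2 i hZ h.1 h.2.1
  refine ⟨⟨k, k', ?_, ?_⟩, hk⟩
  · rw [← cancel_mono i, Category.assoc, hk', hk, Category.id_comp]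
  · rw [← cancel_mono i', Category.assoc, hk, hk', Category.id_comp]

end Groth.Agent.Lib.Helper3.SchIm

namespace Groth.Agent.Lib.Helper3.SchIm

variable {S : Scheme.{u}}

/-- **Chart description of the scheme theoretic image.** -/
theorem isSchImage_of_chart {X Y : Space S} (f : X ⟶ Y) {R U W' : Over S} (s t : R ⟶ U)
    (p : (yon S).obj U ⟶ Y.obj) (hp : IsPresentation s t p) (e : (yon S).obj W' ⟶ X.obj) [Epi e]
    (h : W' ⟶ U) (hw : e ≫ f.hom = (yon S).map h ≫ p) (I₀ : U.left.IdealSheafData)
    (hI₀ : IsGreatest {I : U.left.IdealSheafData | I.comap s.left = I.comap t.left ∧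
      I ≤ h.left.ker} I₀) :
    ∃ (Z : Space S) (i : Z ⟶ Y) (q : (yon S).obj (Over.mk (I₀.subschemeι ≫ U.hom)) ⟶ Z.obj),
      IsSchImage f.hom i.hom ∧
      IsPullback q ((yon S).map (Over.homMk I₀.subschemeι rfl :
        Over.mk (I₀.subschemeι ≫ U.hom) ⟶ U)) i.hom p := by
  have hst : (yon S).map s ≫ p = (yon S).map t ≫ p := hp.isPullback.w.symm
  obtain ⟨Z, i, q, hcl, sq⟩ := exists_closedSubspace_of_invariant Y s t p hp I₀ hI₀.1.1
  have hmono : Mono i.hom := mono_of_closedImmersion _ hcl
  refine ⟨Z, i, q, ⟨hcl, ?_, ?_⟩, sq⟩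
  · let h₀ : W' ⟶ Over.mk (I₀.subschemeι ≫ U.hom) :=
      Over.homMk (IsClosedImmersion.lift I₀.subschemeι h.left (by
        rw [Scheme.IdealSheafData.ker_subschemeι]; exact hI₀.1.2)) (by
        change _ ≫ I₀.subschemeι ≫ U.hom = _
        rw [IsClosedImmersion.lift_fac_assoc, Over.w])
    exact exists_factor_of_chart f.hom i.hom p _ q sq e h hw h₀ (by
      ext; exact IsClosedImmersion.lift_fac _ _ _)
  · intro Z' i' hZ' hi' hfac
    obtain ⟨f'', hf''⟩ := hfac
    obtain ⟨C, c, fstC, sqC⟩ := hi'.1 p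
    have hc : IsClosedImmersion c.left := hi'.property p fstC c sqC
    have hmono' : Mono i' := mono_of_closedImmersion _ hi'
    have hinv := ker_comap_eq_of_isPullback i' c fstC p sqC s t hst
    have hw' : (e ≫ f'') ≫ i' = (yon S).map h ≫ p := by
      rw [Category.assoc, hf'', hw]
    obtain ⟨h₁, hh₁⟩ := (yon S).map_surjective (sqC.lift _ _ hw')
    have hh₁c : h₁ ≫ c = h := by
      apply (yon S).map_injective
      rw [Functor.map_comp, hh₁]
      exact sqC.lift_snd _ _ hw'
    have hle : c.left.ker ≤ h.left.ker := by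
      rw [← hh₁c, Over.comp_left]
      exact Scheme.Hom.le_ker_comp _ _
    have hle₀ : c.left.ker ≤ I₀ := hI₀.2 ⟨hinv, hle⟩
    let m : Over.mk (I₀.subschemeι ≫ U.hom) ⟶ C :=
      Over.homMk (IsClosedImmersion.lift c.left I₀.subschemeι (by
        rw [Scheme.IdealSheafData.ker_subschemeι]; exact hle₀)) (by
        change _ = I₀.subschemeι ≫ U.hom
        rw [← Over.w c, IsClosedImmersion.lift_fac_assoc])
    have hm : m ≫ c = (Over.homMk I₀.subschemeι rfl :
        Over.mk (I₀.subschemeι ≫ U.hom) ⟶ U) := by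
      ext; exact IsClosedImmersion.lift_fac _ _ _
    have hqe : RepWith @Etale q := MorphismProperty.of_isPullback sq.flip hp.etale
    have hqs : RepWith @Surjective q := MorphismProperty.of_isPullback sq.flip hp.surjective
    have hqepi : Epi q := epi_of_etale_surjective _ hqe hqs
    obtain ⟨k, -, hk⟩ := exists_lift_of_epi_mono q i' ((yon S).map m ≫ fstC) i.hom (by
      rw [Category.assoc, sqC.w, ← Category.assoc, ← Functor.map_comp, hm, sq.w])
    exact ⟨k, hk⟩

/-- The kernels of the two pullbacks of a chart morphism to the relation agree. -/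
theorem ker_pullback_fst_eq {Z' Y : Sp S} (i' : Z' ⟶ Y) {C U R : Over S} (c : C ⟶ U)
    (fstC : (yon S).obj C ⟶ Z') (p : (yon S).obj U ⟶ Y)
    (sqC : IsPullback fstC ((yon S).map c) i' p) (s t : R ⟶ U)
    (hst : (yon S).map s ≫ p = (yon S).map t ≫ p) :
    (pullback.fst s.left c.left).ker = (pullback.fst t.left c.left).ker := by
  have key : ∀ (r : R ⟶ U), (pullback.fst r.left c.left).ker = (pullback.fst r c).left.ker := by
    intro r
    have sq1 : IsPullback (pullback.fst r c).left (pullback.snd r c).left r.left c.left :=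
      (IsPullback.of_hasPullback r c).map (Over.forget S)
    rw [← sq1.isoPullback_hom_fst, Scheme.Hom.ker_comp_of_isIso]
  rw [key s, key t]
  have sqs : IsPullback ((yon S).map (pullback.snd s c) ≫ fstC) ((yon S).map (pullback.fst s c)) i'
      ((yon S).map s ≫ p) := ((IsPullback.of_hasPullback s c).map (yon S)).flip.paste_horiz sqC
  have sqt : IsPullback ((yon S).map (pullback.snd t c) ≫ fstC) ((yon S).map (pullback.fst t c)) i'
      ((yon S).map t ≫ p) := ((IsPullback.of_hasPullback t c).map (yon S)).flip.paste_horiz sqC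
  rw [hst] at sqs
  let e := sqs.isoIsPullback _ _ sqt
  have he : e.hom ≫ (yon S).map (pullback.fst t c) = (yon S).map (pullback.fst s c) :=
    sqs.isoIsPullback_hom_snd _ _ sqt
  let φ : pullback s c ≅ pullback t c := (yon S).preimageIso e
  have hφ : φ.hom ≫ pullback.fst t c = pullback.fst s c := by
    apply (yon S).map_injective
    rw [Functor.map_comp]
    simp only [φ, Functor.preimageIso_hom, Functor.map_preimage]
    exact he
  have hφl : φ.hom.left ≫ (pullback.fst t c).left = (pullback.fst s c).left := by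
    rw [← Over.comp_left, hφ]
  have : IsIso φ.hom.left := inferInstanceAs (IsIso ((Over.forget S).map φ.hom))
  rw [← hφl, Scheme.Hom.ker_comp_of_isIso]

/-- For a quasi-compact chart morphism pulled back from a morphism of sheaves, the kernel is
invariant under a flat relation. -/
theorem ker_invariant_of_quasiCompact {Z' Y : Sp S} (i' : Z' ⟶ Y) {C U R : Over S} (c : C ⟶ U)
    [QuasiCompact c.left] (fstC : (yon S).obj C ⟶ Z') (p : (yon S).obj U ⟶ Y)
    (sqC : IsPullback fstC ((yon S).map c) i' p) (s t : R ⟶ U) [Flat s.left] [Flat t.left]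
    (hst : (yon S).map s ≫ p = (yon S).map t ≫ p) :
    c.left.ker.comap s.left = c.left.ker.comap t.left := by
  rw [ker_comap_of_flat, ker_comap_of_flat]
  exact ker_pullback_fst_eq i' c fstC p sqC s t hst

end Groth.Agent.Lib.Helper3.SchIm

namespace Groth.Agent.Lib.Helper3.SchIm

variable {S : Scheme.{u}}

/-- The scheme theoretic image of a morphism which on a presentation of the target is
represented by a quasi-compact morphism of schemes is cut out by its kernel. -/
theorem isSchImage_of_chart_quasiCompact {X Y : Space S} (f : X ⟶ Y) {R U W' : Over S}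
    (s t : R ⟶ U) (p : (yon S).obj U ⟶ Y.obj) (hp : IsPresentation s t p)
    (e : (yon S).obj W' ⟶ X.obj) (h : W' ⟶ U) (sq : IsPullback e ((yon S).map h) f.hom p)
    [QuasiCompact h.left] :
    ∃ (Z : Space S) (i : Z ⟶ Y)
      (q : (yon S).obj (Over.mk (h.left.ker.subschemeι ≫ U.hom)) ⟶ Z.obj),
      IsSchImage f.hom i.hom ∧
      IsPullback q ((yon S).map (Over.homMk h.left.ker.subschemeι rfl :
        Over.mk (h.left.ker.subschemeι ≫ U.hom) ⟶ U)) i.hom p := by
  have hee : RepWith @Etale e := MorphismProperty.of_isPullback sq.flip hp.etale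
  have hes : RepWith @Surjective e := MorphismProperty.of_isPullback sq.flip hp.surjective
  have hepi : Epi e := epi_of_etale_surjective _ hee hes
  have hst : (yon S).map s ≫ p = (yon S).map t ≫ p := hp.isPullback.w.symm
  have : Flat s.left := by have := hp.eqvRel.etale_left; infer_instance
  have : Flat t.left := by have := hp.eqvRel.etale_right; infer_instance
  have hinv := ker_invariant_of_quasiCompact f.hom h e p sq s t hst
  exact isSchImage_of_chart f s t p hp e h sq.w h.left.ker
    ⟨⟨hinv, le_refl _⟩, fun I hI => hI.2⟩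

end Groth.Agent.Lib.Helper3.SchIm
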