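import Groth.Agent.Lib.Helper3.MagKey
set_option autoImplicit false
universe u
open CategoryTheory CategoryTheory.Limits MonoidalCategory CartesianMonoidalCategory MonObj AlgebraicGeometry Opposite
open Magnet

namespace Groth.Agent.Lib.Helper3.MagKey

/-- two morphisms `A(N) ⊗ T → X` to a separated `X` agreeing on `A(M) ⊗ T` are equal -/
theorem ext_of_whiskerRight (S : Scheme.{u}) {M N : Type} [AddCommMonoid M] [AddCommMonoid N]
    (g : N →+ M) (hg : Function.Injective g) (T : Over S) (X : Over S) [IsSeparated X.hom]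
    (φ φ' : AMonS S N ⊗ T ⟶ X) (h : (AMonS.map S g ▷ T) ≫ φ = (AMonS.map S g ▷ T) ≫ φ') :
    φ = φ' := by
  have := dom_whiskerRight S g hg T
  apply Over.OverMorphism.ext
  exact Groth.Agent.Lib.Helper3.GraphExt2.ext_of_schDominant_of_isSeparated X.hom
    (by rw [Over.w, Over.w]) (AMonS.map S g ▷ T).left
    (by rw [← Over.comp_left, h, Over.comp_left])

theorem main18284 (S : Scheme.{u}) (M : Type) [AddCommMonoid M]
    (X : Over S) [IsSeparated X.hom] (a : Magnet.MonAct (Magnet.AMonS S M) X) {N N' : AddSubmonoid M}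
    (h : N ≤ N') (T : Over S) :
    Function.Injective (fun φ => (Magnet.attrMap a h).app (op T) φ) := by
  intro φ φ' hφ
  apply Subtype.ext
  have h1 : (AMonS.map S (AddSubmonoid.inclusion h) ▷ T) ≫ φ.1 =
      (AMonS.map S (AddSubmonoid.inclusion h) ▷ T) ≫ φ'.1 := congrArg Subtype.val hφ
  exact ext_of_whiskerRight S (AddSubmonoid.inclusion h) (AddSubmonoid.inclusion_injective h) T X
    _ _ h1

/-- an equivariant map from `A(N) ⊗ T` is determined on `A(M) ⊗ T` by its value at the unit -/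
theorem whiskerRight_comp_eq (S : Scheme.{u}) (M : Type) [AddCommMonoid M]
    (X : Over S) (a : Magnet.MonAct (Magnet.AMonS S M) X) (N : AddSubmonoid M) (T : Over S)
    (φ : (Magnet.attr a N).obj (op T)) :
    (AMonS.map S N.subtype ▷ T) ≫ φ.1 =
      (AMonS S M ◁ (lift (toUnit T ≫ η[AMonS S N]) (𝟙 T) ≫ φ.1)) ≫ a.act := by
  have h := φ.2
  rw [Magnet.MonAct.mem_eqvHom_iff] at h
  apply Magnet.hom_ext_lift₂
  intro T' m t
  rw [lift_whiskerRight_assoc, lift_whiskerLeft_assoc]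
  have := h T' m (toUnit T' ≫ η[AMonS S N]) t
  have e1 : lift m (toUnit T' ≫ η[AMonS S N]) ≫ (subAct S M N).act =
      m ≫ AMonS.map S N.subtype := by
    rw [subAct, Magnet.MonAct.lift_restrict_act, Magnet.MonAct.lift_regular_act, ← Hom.one_def,
      _root_.mul_one]
  have e2 : t ≫ lift (toUnit T ≫ η[AMonS S N]) (𝟙 T) = lift (toUnit T' ≫ η[AMonS S N]) t := by
    rw [comp_lift, Category.comp_id, ← Category.assoc, toUnit_unique (t ≫ toUnit T) (toUnit T')]
  rw [e1] at this
  rw [this, ← Category.assoc t, e2]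

theorem main18285 (S : Scheme.{u}) (M : Type) [AddCommMonoid M]
    (X : Over S) [IsSeparated X.hom] (a : Magnet.MonAct (Magnet.AMonS S M) X) (N : AddSubmonoid M)
    (T : Over S) :
    Function.Injective (fun φ => (Magnet.attrToX a N).app (op T) φ) := by
  intro φ φ' hφ
  apply Subtype.ext
  have h1 : lift (toUnit T ≫ η[AMonS S N]) (𝟙 T) ≫ φ.1 =
      lift (toUnit T ≫ η[AMonS S N]) (𝟙 T) ≫ φ'.1 := hφ
  refine ext_of_whiskerRight S N.subtype Subtype.val_injective T X _ _ ?_
  rw [whiskerRight_comp_eq, whiskerRight_comp_eq, h1]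

theorem main18286 (S : Scheme.{u}) (M : Type) [AddCommMonoid M]
    (N : AddSubmonoid M) (Y Z : Over S) (aY : Magnet.MonAct (Magnet.AMonS S M) Y)
    (aZ : Magnet.MonAct (Magnet.AMonS S M) Z) (f : Z ⟶ Y) [IsClosedImmersion f.left]
    (hf : Magnet.MonAct.IsEquivariant aZ aY f) :
    IsPullback (Magnet.MonAct.eqvHom.postcomp (Magnet.subAct S M N) f hf) (Magnet.attrToX aZ N)
      (Magnet.attrToX aY N) (yoneda.map f) := by
  have hmono : Mono f := Over.mono_of_mono_left f
  apply IsPullback.of_forall_isPullback_app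
  intro T
  rw [Types.isPullback_iff]
  refine ⟨?_, ?_, ?_⟩
  · ext φ
    change lift (toUnit (unop T) ≫ η[AMonS S N]) (𝟙 (unop T)) ≫ (φ.1 ≫ f) =
      (lift (toUnit (unop T) ≫ η[AMonS S N]) (𝟙 (unop T)) ≫ φ.1) ≫ f
    rw [Category.assoc]
  · rintro φ₁ φ₂ ⟨h1, -⟩
    apply Subtype.ext
    have := congrArg Subtype.val h1
    simp only [Magnet.MonAct.eqvHom.postcomp_app_coe] at this
    exact (cancel_mono f).mp this
  · intro ψ z hz
    obtain ⟨T, rfl⟩ : ∃ Y, T = op Y := ⟨unop T, rfl⟩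
    have hz' : lift (toUnit T ≫ η[AMonS S N]) (𝟙 T) ≫ ψ.1 = z ≫ f := hz
    have h1 := whiskerRight_comp_eq S M Y aY N T ψ
    rw [hz'] at h1
    have hf' : aZ.act ≫ f = (AMonS S M ◁ f) ≫ aY.act := hf
    have h2 : (AMonS.map S N.subtype ▷ T) ≫ ψ.1 = ((AMonS S M ◁ z) ≫ aZ.act) ≫ f := by
      rw [h1, MonoidalCategory.whiskerLeft_comp, Category.assoc, Category.assoc, hf']
    have := dom_whiskerRight S N.subtype Subtype.val_injective T
    obtain ⟨φ, hφ⟩ := Groth.Agent.Lib.Helper3.MagDense.exists_over_lift_of_dominant f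
      (AMonS.map S N.subtype ▷ T) ψ.1 ((AMonS S M ◁ z) ≫ aZ.act) h2
    refine ⟨⟨φ, ?_⟩, ?_, ?_⟩
    · have hψ := ψ.2
      rw [Magnet.MonAct.mem_eqvHom_iff] at hψ ⊢
      intro T' g b t
      rw [← cancel_mono f, Category.assoc, hφ, hψ, Category.assoc, hf', lift_whiskerLeft_assoc,
        Category.assoc, hφ]
    · apply Subtype.ext
      exact hφ
    · change lift (toUnit T ≫ η[AMonS S N]) (𝟙 T) ≫ φ = z
      rw [← cancel_mono f, Category.assoc, hφ, hz']

end Groth.Agent.Lib.Helper3.MagKey
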