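import Groth.Agent.Lib.Helper3.AlgSpSmLocal

set_option autoImplicit false
universe u
open CategoryTheory CategoryTheory.Limits AlgebraicGeometry Opposite MorphismProperty

namespace Groth.Agent.Lib.Helper3

variable {S : Scheme.{u}}

open AlgSp

variable {P : MorphismProperty (Sp S)}

theorem isSmoothLocalST_of_local
    (h1 : IsLocalOnSource (IsSmCover (S := S)) P)
    (h2 : IsLocalOnBase (IsSmCover (S := S)) P)
    (h3 : ∀ ⦃X Y Z : Sp S⦄, IsAlgSpace X → IsAlgSpace Y → IsAlgSpace Z → ∀ (f : X ⟶ Y) (g : Y ⟶ Z),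
      P f → LocP @Smooth g → P (f ≫ g)) : IsSmoothLocalST P where
  precomp X Y Z hX hY hZ f g hf hg := by
    have key := h1 (optFam X Y) (optHom f (𝟙 Y)) hY (by rintro (_ | _); exacts [hX, hY])
      ⟨by rintro (_ | _); exacts [hf, locP_smooth_id Y],
        fun y => ⟨some PUnit.unit, y, Points.map_id y⟩⟩ g hZ
    exact key.1 hg none
  baseChange X Y X' Y' hX hY hX' hY' f g f' g' sq hg hf := by
    have key := h2 (optFam Y' Y) (optHom g (𝟙 Y)) hY (by rintro (_ | _); exacts [hY', hY])
      ⟨by rintro (_ | _); exacts [hg, locP_smooth_id Y],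
        fun y => ⟨some PUnit.unit, y, Points.map_id y⟩⟩ f hX (optFam X' X) (optMap f' f)
      (optHom g' (𝟙 X)) (by rintro (_ | _); exacts [hX', hX])
      (by rintro (_ | _); exacts [sq, IsPullback.of_id_fst])
    exact key.1 hf none
  locality X Y hX hY f := by
    constructor
    · intro hf x
      exact ⟨X, Y, 𝟙 X, 𝟙 Y, f, x, hX, hY, locP_smooth_id X, locP_smooth_id Y,
        by rw [Category.id_comp, Category.comp_id], Points.map_id x, hf⟩
    · intro H
      obtain ⟨U₀, a₀, ha₀e, ha₀s⟩ := hX.atlas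
      choose U V a b h v hU hV ha hb w hv hPh using fun i : ↥U₀.left => H (Points.ofPt a₀ i)
      refine (h1 U (fun i => a i) hX hU ⟨ha, ?_⟩ f hY).2 ?_
      · intro x
        obtain ⟨i, rfl⟩ := exists_ofPt_eq a₀ ha₀s x
        exact ⟨i, v i, hv i⟩
      · intro i
        rw [w i]
        exact h3 (hU i) (hV i) hY (h i) (b i) (hPh i) (hb i)

end Groth.Agent.Lib.Helper3
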