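import Groth.Agent.Lib.Helper3.FlatCancel
import Mathlib.AlgebraicGeometry.Morphisms.Flat

set_option autoImplicit false
universe u
open CategoryTheory CategoryTheory.Limits AlgebraicGeometry MorphismProperty

namespace Groth.Agent.Lib.Helper3

/-- Flatness is local on the source for flat surjective morphisms. -/
theorem flat_of_flat_surjective_comp {U' U V : Scheme.{u}} (π : U' ⟶ U) (g : U ⟶ V) [Flat π]
    [Surjective π] (h : Flat (π ≫ g)) : Flat g := by
  rw [Flat.iff_flat_stalkMap]
  intro u
  obtain ⟨u', rfl⟩ := π.surjective u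
  have h1 : ((π ≫ g).stalkMap u').hom.Flat := Flat.stalkMap _ u'
  rw [Scheme.Hom.stalkMap_comp] at h1
  have h2 : (π.stalkMap u').hom.Flat := Flat.stalkMap π u'
  have h3 : (π.stalkMap u').hom.FaithfullyFlat := by
    algebraize [(π.stalkMap u').hom]
    have : IsLocalHom (algebraMap (U.presheaf.stalk (π u')) (U'.presheaf.stalk u')) := by
      rw [RingHom.algebraMap_toAlgebra]
      infer_instance
    exact Module.FaithfullyFlat.of_flat_of_isLocalHom
  exact RingHom.Flat.of_comp_faithfullyFlat _ _ h3 h1

end Groth.Agent.Lib.Helper3
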