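import Groth.Agent.Lib.Helper3.SmoothEt4
import Groth.Agent.Lib.Helper3.EtSrcLocal5
import Mathlib.AlgebraicGeometry.Morphisms.Smooth
import Mathlib.AlgebraicGeometry.Morphisms.Etale
import Mathlib.AlgebraicGeometry.Morphisms.Flat

set_option autoImplicit false
universe u
open CategoryTheory CategoryTheory.Limits AlgebraicGeometry MorphismProperty

namespace Groth.Agent.Lib.Helper3

/-- Affine case: smoothness descends along an etale surjective morphism on the source. -/
theorem smooth_of_etale_surjective_comp_affine {X' X Z : Scheme.{u}} [IsAffine X'] [IsAffine X]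
    [IsAffine Z] (π : X' ⟶ X) (g : X ⟶ Z) [Etale π] [Surjective π]
    [LocallyOfFinitePresentation g] (h : Smooth (π ≫ g)) : Smooth g := by
  rw [HasRingHomProperty.iff_of_isAffine (P := @Smooth)] at h ⊢
  have hfp : g.appTop.hom.FinitePresentation :=
    HasRingHomProperty.appTop (P := @LocallyOfFinitePresentation) g inferInstance
  have het : π.appTop.hom.Etale := HasRingHomProperty.appTop (P := @Etale) π inferInstance
  have hff : π.appTop.hom.FaithfullyFlat :=
    (Flat.flat_and_surjective_iff_faithfullyFlat_of_isAffine (f := π)).1 ⟨inferInstance, inferInstance⟩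
  rw [Scheme.Hom.comp_appTop] at h
  algebraize [g.appTop.hom, π.appTop.hom, (g.appTop ≫ π.appTop).hom]
  have : IsScalarTower Γ(Z, ⊤) Γ(X, ⊤) Γ(X', ⊤) := .of_algebraMap_eq' rfl
  have : Algebra.FormallySmooth Γ(Z, ⊤) Γ(X', ⊤) := inferInstance
  exact smooth_of_etale_of_faithfullyFlat (R := Γ(Z, ⊤)) (S := Γ(X, ⊤)) (T := Γ(X', ⊤))

/-- **Smoothness is etale local on the source**: if `π` is etale and surjective and `π ≫ g` is
smooth, then `g` is smooth. -/
theorem smooth_of_etale_surjective_comp {U' U V : Scheme.{u}} (π : U' ⟶ U) (g : U ⟶ V)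
    [Etale π] [Surjective π] (h : Smooth (π ≫ g)) : Smooth g := by
  have hfp : LocallyOfFinitePresentation g :=
    locallyOfFinitePresentation_of_etale_surjective_comp π g inferInstance
  have key : ∀ u : U, ∃ W : U.Opens, u ∈ W ∧ Smooth (W.ι ≫ g) := by
    intro u
    obtain ⟨V₀, hV₀, hgu, -⟩ := TopologicalSpace.Opens.isBasis_iff_nbhd.mp V.isBasis_affineOpens
      (TopologicalSpace.Opens.mem_top (g u))
    obtain ⟨U₀, hU₀, hu, e⟩ := TopologicalSpace.Opens.isBasis_iff_nbhd.mp U.isBasis_affineOpens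
      (show u ∈ g ⁻¹ᵁ V₀ from hgu)
    obtain ⟨u', rfl⟩ := π.surjective u
    obtain ⟨U'₀, hU'₀, hu', e'⟩ := TopologicalSpace.Opens.isBasis_iff_nbhd.mp
      U'.isBasis_affineOpens (show u' ∈ π ⁻¹ᵁ U₀ from hu)
    have : IsAffine (Scheme.Opens.toScheme (X := V) V₀) := hV₀
    have : IsAffine (Scheme.Opens.toScheme (X := U) U₀) := hU₀
    have : IsAffine (Scheme.Opens.toScheme (X := U') U'₀) := hU'₀
    have hπ₀ : Etale (π.resLE U₀ U'₀ e') := IsZariskiLocalAtSource.resLE e' inferInstance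
    have hg₀ : LocallyOfFinitePresentation (g.resLE V₀ U₀ e) :=
      IsZariskiLocalAtSource.resLE e hfp
    have h1 : Smooth (π.resLE U₀ U'₀ e' ≫ g.resLE V₀ U₀ e) := by
      rw [Scheme.Hom.resLE_comp_resLE]
      exact IsZariskiLocalAtSource.resLE _ h
    have hopen : IsOpen (Set.range (π.resLE U₀ U'₀ e')) :=
      (π.resLE U₀ U'₀ e').isOpenMap.isOpen_range
    obtain ⟨W, hW, hWmem, hWsub⟩ : ∃ W : (Scheme.Opens.toScheme (X := U) U₀).Opens,
        IsAffineOpen W ∧ (π.resLE U₀ U'₀ e') ⟨u', hu'⟩ ∈ W ∧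
          W ≤ (⟨Set.range (π.resLE U₀ U'₀ e'), hopen⟩ : TopologicalSpace.Opens _) :=
      TopologicalSpace.Opens.isBasis_iff_nbhd.mp
        (Scheme.Opens.toScheme (X := U) U₀).isBasis_affineOpens
        (show (π.resLE U₀ U'₀ e') ⟨u', hu'⟩ ∈
          (⟨Set.range (π.resLE U₀ U'₀ e'), hopen⟩ : TopologicalSpace.Opens _) from ⟨_, rfl⟩)
    have : IsAffine (Scheme.Opens.toScheme W) := hW
    have : IsAffine (Scheme.Opens.toScheme ((π.resLE U₀ U'₀ e') ⁻¹ᵁ W)) :=
      hW.preimage (π.resLE U₀ U'₀ e')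
    have hsurj : Surjective ((π.resLE U₀ U'₀ e') ∣_ W) := by
      refine ⟨fun w => ?_⟩
      obtain ⟨x', hx'⟩ := hWsub w.2
      exact ⟨⟨x', show (π.resLE U₀ U'₀ e') x' ∈ W from hx' ▸ w.2⟩, Subtype.ext (by
        rw [morphismRestrict_base_coe]; exact hx')⟩
    have het : Etale ((π.resLE U₀ U'₀ e') ∣_ W) := IsZariskiLocalAtTarget.restrict hπ₀ W
    have hfp₁ : LocallyOfFinitePresentation (W.ι ≫ g.resLE V₀ U₀ e) := inferInstance
    have h2 : Smooth (((π.resLE U₀ U'₀ e') ∣_ W) ≫ (W.ι ≫ g.resLE V₀ U₀ e)) := by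
      rw [← Category.assoc, morphismRestrict_ι, Category.assoc]
      exact IsZariskiLocalAtSource.comp h1 _
    have h3 : Smooth (W.ι ≫ g.resLE V₀ U₀ e) :=
      smooth_of_etale_surjective_comp_affine ((π.resLE U₀ U'₀ e') ∣_ W) _ h2
    refine ⟨(W.ι ≫ (Scheme.Opens.ι (X := U) U₀)).opensRange, ?_,
      comp_opensRange_ι @Smooth _ _ ?_⟩
    · refine ⟨⟨_, hWmem⟩, ?_⟩
      rw [Scheme.Hom.comp_apply]
      change ((π.resLE U₀ U'₀ e') ⟨u', hu'⟩).1 = π u'
      rw [Scheme.Hom.coe_resLE_apply]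
    · rw [Category.assoc, ← Scheme.Hom.resLE_comp_ι _ e, ← Category.assoc]
      exact MorphismProperty.comp_mem _ _ _ h3 inferInstance
  choose W hW hPW using key
  refine IsZariskiLocalAtSource.of_iSup_eq_top W ?_ hPW
  rw [eq_top_iff]
  rintro u -
  simp only [TopologicalSpace.Opens.mem_iSup]
  exact ⟨u, hW u⟩

end Groth.Agent.Lib.Helper3
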