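import Mathlib

set_option autoImplicit false

namespace Groth.Agent.Lib.Helper3.RelNorm

open TensorProduct

section alg

variable {A C D A₁ A' : Type*} [CommRing A] [CommRing C] [CommRing D] [CommRing A₁] [CommRing A']
  [Algebra A C] [Algebra A D] [Algebra A A₁] [Algebra A A'] (p₁ p₂ : C →ₐ[A] D) (β : A' →ₐ[A] C)

/-- Flat base change of an equalizer. -/
theorem mem_range_equalizer_of_flat [Module.Flat A A₁] (x : A₁ ⊗[A] C)
    (heq : Algebra.TensorProduct.map (AlgHom.id A₁ A₁) p₁ x =
      Algebra.TensorProduct.map (AlgHom.id A₁ A₁) p₂ x) :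
    x ∈ (Algebra.TensorProduct.map (AlgHom.id A₁ A₁) (AlgHom.equalizer p₁ p₂).val).range := by
  let Eq := AlgHom.equalizer p₁ p₂
  let δ : C →ₗ[A] D := p₁.toLinearMap - p₂.toLinearMap
  have hex : Function.Exact Eq.val.toLinearMap δ := by
    intro c
    constructor
    · intro hc
      have hc' : p₁ c = p₂ c := by
        have : p₁ c - p₂ c = 0 := hc
        exact sub_eq_zero.1 this
      exact ⟨⟨c, hc'⟩, rfl⟩
    · rintro ⟨⟨c, hc⟩, rfl⟩
      change p₁ c - p₂ c = 0
      exact sub_eq_zero.2 hc
  have hex₁ := Module.Flat.lTensor_exact A₁ hex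
  have h1 : (Algebra.TensorProduct.map (AlgHom.id A₁ A₁) p₁).toLinearMap.restrictScalars A =
      LinearMap.lTensor A₁ p₁.toLinearMap := by
    apply TensorProduct.ext'
    intro a c
    simp
  have h2 : (Algebra.TensorProduct.map (AlgHom.id A₁ A₁) p₂).toLinearMap.restrictScalars A =
      LinearMap.lTensor A₁ p₂.toLinearMap := by
    apply TensorProduct.ext'
    intro a c
    simp
  have hx : LinearMap.lTensor A₁ δ x = 0 := by
    change LinearMap.lTensor A₁ (p₁.toLinearMap - p₂.toLinearMap) x = 0
    rw [LinearMap.lTensor_sub, LinearMap.sub_apply, ← h1, ← h2]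
    exact sub_eq_zero.2 heq
  obtain ⟨y, hy⟩ := (hex₁ x).1 hx
  refine ⟨y, ?_⟩
  rw [← hy]
  have h3 : (Algebra.TensorProduct.map (AlgHom.id A₁ A₁) Eq.val).toLinearMap.restrictScalars A =
      LinearMap.lTensor A₁ Eq.val.toLinearMap := by
    apply TensorProduct.ext'
    intro a c
    simp
  exact congrArg (fun k => k y) h3

/-- **Smooth base change** for the ring of integral, equalized elements. -/
theorem mem_range_of_smooth [Algebra.Smooth A A₁] (hβ : Function.Injective β)
    (hβr : ∀ c : C, IsIntegral A c → p₁ c = p₂ c → c ∈ β.range) (x : A₁ ⊗[A] C)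
    (hx : IsIntegral A₁ x)
    (heq : Algebra.TensorProduct.map (AlgHom.id A₁ A₁) p₁ x =
      Algebra.TensorProduct.map (AlgHom.id A₁ A₁) p₂ x) :
    x ∈ (Algebra.TensorProduct.map (AlgHom.id A₁ A₁) β).range := by
  have hflat : Module.Flat A A₁ := inferInstance
  let Eq := AlgHom.equalizer p₁ p₂
  let ι₁ := Algebra.TensorProduct.map (AlgHom.id A₁ A₁) Eq.val
  obtain ⟨y, hy⟩ := mem_range_equalizer_of_flat p₁ p₂ x heq
  have hι₁ : Function.Injective ι₁ := by
    have := Module.Flat.lTensor_preserves_injective_linearMap (M := A₁) Eq.val.toLinearMap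
      Subtype.val_injective
    intro a b hab
    apply this
    have h3 : ∀ z, LinearMap.lTensor A₁ Eq.val.toLinearMap z = ι₁ z := by
      intro z
      induction z with
      | zero => simp
      | add a b ha hb => rw [map_add, map_add, ha, hb]
      | tmul a c => simp [ι₁]
    rw [h3, h3, hab]
  have hyint : IsIntegral A₁ y := by
    rw [← isIntegral_algHom_iff ι₁ hι₁]
    rw [show ι₁ y = x from hy]
    exact hx
  obtain ⟨z, hz⟩ := (TensorProduct.toIntegralClosure_bijective_of_smooth (R := A) (S := A₁)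
    (B := Eq)).2 ⟨y, hyint⟩
  have hz' : Algebra.TensorProduct.map (AlgHom.id A₁ A₁) (integralClosure A Eq).val z = y := by
    have := congrArg Subtype.val hz
    simpa [TensorProduct.toIntegralClosure] using this
  -- the map to `A'`
  let ψ : integralClosure A Eq →ₐ[A] C := Eq.val.comp (integralClosure A Eq).val
  have hψ : ∀ e, ψ e ∈ β.range := by
    intro e
    refine hβr _ ?_ e.1.2
    exact e.2.map Eq.val
  let γ : integralClosure A Eq →ₐ[A] A' :=
    ((AlgEquiv.ofInjective β hβ).symm : β.range →ₐ[A] A').comp (ψ.codRestrict β.range hψ)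
  have hγ : β.comp γ = ψ := by
    ext e
    change β ((AlgEquiv.ofInjective β hβ).symm ⟨ψ e, hψ e⟩) = ψ e
    have := (AlgEquiv.ofInjective β hβ).apply_symm_apply ⟨ψ e, hψ e⟩
    exact congrArg Subtype.val this
  refine ⟨Algebra.TensorProduct.map (AlgHom.id A₁ A₁) γ z, ?_⟩
  rw [← hy, ← hz']
  have e1 : (Algebra.TensorProduct.map (AlgHom.id A₁ A₁) β).comp
      (Algebra.TensorProduct.map (AlgHom.id A₁ A₁) γ) =
      ι₁.comp (Algebra.TensorProduct.map (AlgHom.id A₁ A₁) (integralClosure A Eq).val) := by
    rw [← Algebra.TensorProduct.map_comp, ← Algebra.TensorProduct.map_comp, hγ]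
  exact congrArg (fun k => k z) e1

theorem injective_of_flat [Module.Flat A A₁] (hβ : Function.Injective β) :
    Function.Injective (Algebra.TensorProduct.map (AlgHom.id A₁ A₁) β) := by
  have := Module.Flat.lTensor_preserves_injective_linearMap (M := A₁) β.toLinearMap hβ
  intro a b hab
  apply this
  have h3 : ∀ z, LinearMap.lTensor A₁ β.toLinearMap z =
      Algebra.TensorProduct.map (AlgHom.id A₁ A₁) β z := by
    intro z
    induction z with
    | zero => simp
    | add a b ha hb => rw [map_add, map_add, ha, hb]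
    | tmul a c => simp
  rw [h3, h3, hab]

end alg

end Groth.Agent.Lib.Helper3.RelNorm
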