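import Mathlib
import Groth.Agent.Lib.Helper3.RNDesc6
import Groth.Agent.Lib.Helper3.RNAlg

set_option autoImplicit false
universe u

namespace Groth.Agent.Lib.Helper3.RelNorm

open CategoryTheory CategoryTheory.Limits AlgebraicGeometry Opposite AlgSp TensorProduct
open Groth.Agent.Lib.Helper3

variable {S : Scheme.{u}} {A : Type u} [CommRing A] (str : Spec (CommRingCat.of A) ⟶ S)

/-- The spectrum of an `A`-algebra as a scheme over `S`. -/
noncomputable abbrev specOver (C : Type u) [CommRing C] [Algebra A C] : Over S :=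
  Over.mk (Spec.map (CommRingCat.ofHom (algebraMap A C)) ≫ str)

noncomputable def specOverBase (C : Type u) [CommRing C] [Algebra A C] :
    specOver str C ⟶ Over.mk str :=
  Over.homMk (Spec.map (CommRingCat.ofHom (algebraMap A C))) rfl

theorem specOverMap_aux {C D : Type u} [CommRing C] [CommRing D] [Algebra A C] [Algebra A D]
    (p : C →ₐ[A] D) :
    Spec.map (CommRingCat.ofHom p.toRingHom) ≫ (specOver str C).hom = (specOver str D).hom := by
  change Spec.map _ ≫ Spec.map _ ≫ str = Spec.map _ ≫ str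
  rw [← Category.assoc, ← Spec.map_comp, ← CommRingCat.ofHom_comp]
  congr 3
  exact p.comp_algebraMap

noncomputable def specOverMap {C D : Type u} [CommRing C] [CommRing D] [Algebra A C] [Algebra A D]
    (p : C →ₐ[A] D) : specOver str D ⟶ specOver str C :=
  Over.homMk (Spec.map (CommRingCat.ofHom p.toRingHom)) (specOverMap_aux str p)

@[simp] theorem specOverMap_left {C D : Type u} [CommRing C] [CommRing D] [Algebra A C]
    [Algebra A D] (p : C →ₐ[A] D) :
    (specOverMap str p).left = Spec.map (CommRingCat.ofHom p.toRingHom) := rfl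

@[simp] theorem specOverBase_left (C : Type u) [CommRing C] [Algebra A C] :
    (specOverBase str C).left = Spec.map (CommRingCat.ofHom (algebraMap A C)) := rfl

theorem specOverMap_base {C D : Type u} [CommRing C] [CommRing D] [Algebra A C] [Algebra A D]
    (p : C →ₐ[A] D) : specOverMap str p ≫ specOverBase str C = specOverBase str D := by
  ext
  change Spec.map _ ≫ Spec.map _ = Spec.map _
  rw [← Spec.map_comp, ← CommRingCat.ofHom_comp]
  congr 2
  exact p.comp_algebraMap

/-- **Affine lifting lemma.** -/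
theorem exists_unique_lift {C D A' : Type u} [CommRing C] [CommRing D] [CommRing A']
    [Algebra A C] [Algebra A D] [Algebra A A'] (p₁ p₂ : C →ₐ[A] D) (β : A' →ₐ[A] C)
    (hβ : Function.Injective β)
    (hβr : ∀ c : C, IsIntegral A c → p₁ c = p₂ c → c ∈ β.range)
    {Z₀ : Over S} (hZ₀ : IsAffine Z₀.left) (i : Z₀ ⟶ Over.mk str) (hi : IsIntegralHom i.left)
    (γ : specOver str C ⟶ Z₀) (hγi : γ ≫ i = specOverBase str C)
    (hγp : specOverMap str p₁ ≫ γ = specOverMap str p₂ ≫ γ) :
    ∃ h : specOver str A' ⟶ Z₀, specOverMap str β ≫ h = γ ∧ h ≫ i = specOverBase str A' ∧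
      ∀ h' : specOver str A' ⟶ Z₀, specOverMap str β ≫ h' = γ → h' = h := by
  let B₀ : CommRingCat := Γ(Z₀.left, ⊤)
  let e : Z₀.left ≅ Spec B₀ := Z₀.left.isoSpec
  let ι : CommRingCat.of A ⟶ B₀ := Spec.preimage (e.inv ≫ i.left)
  have hι : Spec.map ι = e.inv ≫ i.left := Spec.map_preimage _
  let g₀ : B₀ ⟶ CommRingCat.of C := Spec.preimage (γ.left ≫ e.hom)
  have hg₀ : Spec.map g₀ = γ.left ≫ e.hom := Spec.map_preimage _
  have h1 : ι ≫ g₀ = CommRingCat.ofHom (algebraMap A C) := by
    apply Spec.map_injective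
    rw [Spec.map_comp, hι, hg₀, Category.assoc, Iso.hom_inv_id_assoc, ← Over.comp_left, hγi]
    rfl
  have h2 : g₀ ≫ CommRingCat.ofHom p₁.toRingHom = g₀ ≫ CommRingCat.ofHom p₂.toRingHom := by
    apply Spec.map_injective
    rw [Spec.map_comp, Spec.map_comp, hg₀, ← Category.assoc, ← Category.assoc]
    congr 1
    exact congrArg (fun k => k.left) hγp
  have hιint : ι.hom.IsIntegral := by
    rw [← IsIntegralHom.SpecMap_iff, hι]
    infer_instance
  have hrange : ∀ b : B₀, g₀.hom b ∈ β.range := by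
    intro b
    refine hβr _ ?_ ?_
    · obtain ⟨P, hP, hPb⟩ := hιint b
      refine ⟨P, hP, ?_⟩
      have := Polynomial.hom_eval₂ P ι.hom g₀.hom b
      rw [hPb, map_zero] at this
      rw [this]
      congr 1
      exact congrArg (fun k => k.hom) h1.symm
    · exact congrArg (fun k => k.hom b) h2
  let ψ : B₀ →+* A' := ((AlgEquiv.ofInjective β hβ).symm : β.range →+* A').comp
    (g₀.hom.codRestrict β.range hrange)
  have hψ : ∀ b, β (ψ b) = g₀.hom b := by
    intro b
    have := (AlgEquiv.ofInjective β hβ).apply_symm_apply ⟨g₀.hom b, hrange b⟩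
    exact congrArg Subtype.val this
  have hψ' : CommRingCat.ofHom ψ ≫ CommRingCat.ofHom β.toRingHom = g₀ := by
    ext b
    exact hψ b
  have hιψ : ι ≫ CommRingCat.ofHom ψ = CommRingCat.ofHom (algebraMap A A') := by
    ext a
    apply hβ
    change β (ψ (ι.hom a)) = β (algebraMap A A' a)
    rw [hψ, β.commutes]
    exact congrArg (fun k => k.hom a) h1
  have hZhom : Z₀.hom = i.left ≫ str := (Over.w i).symm
  have hover : (Spec.map (CommRingCat.ofHom ψ) ≫ e.inv) ≫ Z₀.hom = (specOver str A').hom := by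
    rw [hZhom, Category.assoc, ← Category.assoc e.inv, ← hι, ← Category.assoc, ← Spec.map_comp,
      hιψ]
    rfl
  refine ⟨Over.homMk (Spec.map (CommRingCat.ofHom ψ) ≫ e.inv) hover, ?_, ?_, ?_⟩
  · ext
    change Spec.map (CommRingCat.ofHom β.toRingHom) ≫ Spec.map (CommRingCat.ofHom ψ) ≫ e.inv =
      γ.left
    rw [← Category.assoc, ← Spec.map_comp, hψ', hg₀, Category.assoc, Iso.hom_inv_id,
      Category.comp_id]
  · ext
    change (Spec.map (CommRingCat.ofHom ψ) ≫ e.inv) ≫ i.left = Spec.map _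
    rw [Category.assoc, ← hι, ← Spec.map_comp, hιψ]
  · intro h' hh'
    ext
    change h'.left = Spec.map (CommRingCat.ofHom ψ) ≫ e.inv
    rw [← cancel_mono e.hom, Category.assoc, Iso.inv_hom_id, Category.comp_id]
    obtain ⟨ψ', hψ'2⟩ : ∃ ψ' : B₀ ⟶ CommRingCat.of A', Spec.map ψ' = h'.left ≫ e.hom :=
      ⟨Spec.preimage _, Spec.map_preimage _⟩
    rw [← hψ'2]
    congr 1
    have h3 : ψ' ≫ CommRingCat.ofHom β.toRingHom = g₀ := by
      apply Spec.map_injective
      rw [Spec.map_comp, hψ'2, hg₀, ← Category.assoc]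
      congr 1
      exact congrArg (fun k => k.left) hh'
    ext b
    apply hβ
    change β (ψ'.hom b) = β (ψ b)
    rw [hψ]
    exact congrArg (fun k => k.hom b) h3

end Groth.Agent.Lib.Helper3.RelNorm
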