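import Mathlib
import Groth.Agent.Lib.Helper3.RNAff1

set_option autoImplicit false
universe u

namespace Groth.Agent.Lib.Helper3.RelNorm

open CategoryTheory CategoryTheory.Limits AlgebraicGeometry Opposite AlgSp TensorProduct
open Groth.Agent.Lib.Helper3

variable {S : Scheme.{u}} {A : Type u} [CommRing A] (str : Spec (CommRingCat.of A) ⟶ S)

section crit

variable {Y : Sp S} (f : Y ⟶ (yon S).obj (Over.mk str))
  {C D A' : Type u} [CommRing C] [CommRing D] [CommRing A'] [Algebra A C] [Algebra A D]
  [Algebra A A'] (p₁ p₂ : C →ₐ[A] D) (β : A' →ₐ[A] C)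
  (v : (yon S).obj (specOver str C) ⟶ Y)

/-- An affine presentation of `f : Y ⟶ Spec A`. -/
structure IsPres : Prop where
  surj : Sheaf.IsLocallySurjective v
  comm : v ≫ f = (yon S).map (specOverBase str C)
  coeq : (yon S).map (specOverMap str p₁) ≫ v = (yon S).map (specOverMap str p₂) ≫ v
  cover : ∀ (T : Over S) (a b : T ⟶ specOver str C), (yon S).map a ≫ v = (yon S).map b ≫ v →
    ∃ Sv : Sieve T, Sv ∈ AlgSp.J S T ∧ ∀ ⦃T' : Over S⦄ (φ : T' ⟶ T), Sv φ →
      ∃ k : T' ⟶ specOver str D,
        k ≫ specOverMap str p₁ = φ ≫ a ∧ k ≫ specOverMap str p₂ = φ ≫ b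

/-- `A'` is the ring of integral elements of `C` equalized by `p₁, p₂`. -/
structure IsNormRing : Prop where
  integral : Algebra.IsIntegral A A'
  inj : Function.Injective β
  eq : ∀ a', p₁ (β a') = p₂ (β a')
  range : ∀ c : C, IsIntegral A c → p₁ c = p₂ c → c ∈ β.range

variable {p₁ p₂ β v}

theorem IsNormRing.map_eq (hN : IsNormRing p₁ p₂ β) :
    specOverMap str p₁ ≫ specOverMap str β = specOverMap str p₂ ≫ specOverMap str β := by
  ext
  change Spec.map _ ≫ Spec.map _ = Spec.map _ ≫ Spec.map _
  rw [← Spec.map_comp, ← Spec.map_comp]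
  congr 1
  ext a'
  exact hN.eq a'

theorem isIntegralHom_specOverBase (hN : IsNormRing p₁ p₂ β) :
    IsIntegralHom (specOverBase str A').left := by
  change IsIntegralHom (Spec.map _)
  rw [IsIntegralHom.SpecMap_iff]
  exact hN.integral.1

/-- **Criterion**: the spectrum of the ring of integral equalized functions is the relative
normalization. -/
theorem crit (hP : IsPres str f p₁ p₂ v) (hN : IsNormRing p₁ p₂ β) :
    ∃ f' : Y ⟶ (yon S).obj (specOver str A'), v ≫ f' = (yon S).map (specOverMap str β) ∧
      ∃ hf : f' ≫ (yon S).map (specOverBase str A') = f,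
        IsRelNormalization f ((yon S).map (specOverBase str A')) f' := by
  have hcov : JointlyLS (fun _ : Unit => (yon S).obj (specOver str C)) (fun _ => v) :=
    (jointlyLS_unit_iff _).2 hP.surj
  obtain ⟨f', hf'⟩ := glue' (fun _ : Unit => (yon S).obj (specOver str C)) (fun _ => v) hcov
    (fun _ => (yon S).map (specOverMap str β)) (by
      intro _ _ T a b hab
      obtain ⟨a, rfl⟩ := (yon S).map_surjective a
      obtain ⟨b, rfl⟩ := (yon S).map_surjective b
      obtain ⟨Sv, hSv, hk⟩ := hP.cover T a b hab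
      refine yon_hom_ext_of_sieve Sv hSv _ _ fun T' φ hφ => ?_
      obtain ⟨k, hk1, hk2⟩ := hk φ hφ
      have e1 : (yon S).map φ ≫ (yon S).map a ≫ (yon S).map (specOverMap str β) =
          (yon S).map ((k ≫ specOverMap str p₁) ≫ specOverMap str β) := by
        rw [hk1, Functor.map_comp, Functor.map_comp, Category.assoc]
      have e2 : (yon S).map φ ≫ (yon S).map b ≫ (yon S).map (specOverMap str β) =
          (yon S).map ((k ≫ specOverMap str p₂) ≫ specOverMap str β) := by
        rw [hk2, Functor.map_comp, Functor.map_comp, Category.assoc]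
      rw [e1, e2, Category.assoc, Category.assoc, hN.map_eq])
  have hf'v : v ≫ f' = (yon S).map (specOverMap str β) := hf' ()
  have hf : f' ≫ (yon S).map (specOverBase str A') = f := by
    refine hom_ext_of_jointlyLS _ _ hcov _ _ fun _ => ?_
    rw [← Category.assoc, hf'v, ← Functor.map_comp, specOverMap_base, hP.comm]
  refine ⟨f', hf'v, hf, hf, ?_, ?_⟩
  · exact isIntegralMor_yon_map _ (isIntegralHom_specOverBase str hN)
  · intro Z hZ πZ g hπZ hg
    -- `Z` is representable by an affine scheme
    obtain ⟨Z₀, i, fst, sq, hZ₀, hi⟩ := hπZ (Z := Over.mk str)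
      (inferInstanceAs (IsAffine (Spec (CommRingCat.of A)))) (𝟙 _)
    have hfst : IsIso fst := by
      have : IsIso (𝟙 ((yon S).obj (Over.mk str))) := inferInstance
      exact sq.isIso_fst_of_isIso
    let e : (yon S).obj Z₀ ≅ Z := asIso fst
    have he : e.hom ≫ πZ = (yon S).map i := by
      change fst ≫ πZ = _
      rw [sq.w, Category.comp_id]
    obtain ⟨γ, hγ⟩ := (yon S).map_surjective (v ≫ g ≫ e.inv)
    have hγi : γ ≫ i = specOverBase str C := by
      apply (yon S).map_injective
      rw [Functor.map_comp, hγ, ← he, Category.assoc, Category.assoc, Iso.inv_hom_id_assoc, hg,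
        hP.comm]
    have hγp : specOverMap str p₁ ≫ γ = specOverMap str p₂ ≫ γ := by
      apply (yon S).map_injective
      rw [Functor.map_comp, Functor.map_comp, hγ, ← Category.assoc, hP.coeq, Category.assoc]
    obtain ⟨h, hh1, hh2, hh3⟩ := exists_unique_lift str p₁ p₂ β hN.inj hN.range hZ₀ i hi γ hγi hγp
    refine ⟨(yon S).map h ≫ e.hom, ⟨?_, ?_⟩, ?_⟩
    · refine hom_ext_of_jointlyLS _ _ hcov _ _ fun _ => ?_
      rw [← Category.assoc, ← Category.assoc, hf'v, ← Functor.map_comp, hh1, hγ, Category.assoc,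
        Category.assoc, Iso.inv_hom_id, Category.comp_id]
    · rw [Category.assoc, he, ← Functor.map_comp, hh2]
    · rintro H' ⟨hH1, hH2⟩
      obtain ⟨h', hh'⟩ := (yon S).map_surjective (H' ≫ e.inv)
      have : h' = h := by
        apply hh3
        apply (yon S).map_injective
        rw [Functor.map_comp, hh', ← hf'v, Category.assoc, ← Category.assoc f', hH1, hγ]
      rw [← this, hh', Category.assoc, Iso.inv_hom_id, Category.comp_id]

end crit

end Groth.Agent.Lib.Helper3.RelNorm
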