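import Mathlib
import Groth.Agent.Lib.Helper3.RNAff2

set_option autoImplicit false
universe u

namespace Groth.Agent.Lib.Helper3.RelNorm

open CategoryTheory CategoryTheory.Limits AlgebraicGeometry Opposite AlgSp TensorProduct
open Groth.Agent.Lib.Helper3

variable {S : Scheme.{u}} {A : Type u} [CommRing A] (str : Spec (CommRingCat.of A) ⟶ S)

section bc

variable (A₁ : Type u) [CommRing A₁] [Algebra A A₁]

/-- The structure morphism of the base change. -/
noncomputable abbrev str₁ : Spec (CommRingCat.of A₁) ⟶ S := (specOver str A₁).hom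

variable (C : Type u) [CommRing C] [Algebra A C]

theorem bcm_aux :
    Spec.map (CommRingCat.ofHom
      (Algebra.TensorProduct.includeRight : C →ₐ[A] A₁ ⊗[A] C).toRingHom) ≫
      (specOver str C).hom = (specOver (str₁ str A₁) (A₁ ⊗[A] C)).hom := by
  change Spec.map _ ≫ Spec.map _ ≫ str = Spec.map _ ≫ Spec.map _ ≫ str
  rw [← Category.assoc, ← Category.assoc, ← Spec.map_comp, ← Spec.map_comp]
  congr 2
  ext a
  change (1 : A₁) ⊗ₜ[A] (algebraMap A C a) = (algebraMap A A₁ a) ⊗ₜ[A] (1 : C)
  rw [Algebra.algebraMap_eq_smul_one, Algebra.algebraMap_eq_smul_one, TensorProduct.smul_tmul]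

/-- The projection `Spec (A₁ ⊗ C) ⟶ Spec C`. -/
noncomputable def bcm : specOver (str₁ str A₁) (A₁ ⊗[A] C) ⟶ specOver str C :=
  Over.homMk (Spec.map (CommRingCat.ofHom
    (Algebra.TensorProduct.includeRight : C →ₐ[A] A₁ ⊗[A] C).toRingHom)) (bcm_aux str A₁ C)

theorem bcm_base : bcm str A₁ C ≫ specOverBase str C =
    specOverBase (str₁ str A₁) (A₁ ⊗[A] C) ≫ specOverBase str A₁ := by
  ext
  change Spec.map _ ≫ Spec.map _ = Spec.map _ ≫ Spec.map _
  rw [← Spec.map_comp, ← Spec.map_comp]
  congr 1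
  ext a
  change (1 : A₁) ⊗ₜ[A] (algebraMap A C a) = (algebraMap A A₁ a) ⊗ₜ[A] (1 : C)
  rw [Algebra.algebraMap_eq_smul_one, Algebra.algebraMap_eq_smul_one, TensorProduct.smul_tmul]

theorem isPullback_bcm : IsPullback (bcm str A₁ C) (specOverBase (str₁ str A₁) (A₁ ⊗[A] C))
    (specOverBase str C) (specOverBase str A₁) := by
  refine IsPullback.of_map (Over.forget S) (bcm_base str A₁ C) ?_
  exact (isPullback_SpecMap_of_isPushout _ _ _ _ (CommRingCat.isPushout_tensorProduct A A₁ C)).flip

variable {C} {D : Type u} [CommRing D] [Algebra A D] (p : C →ₐ[A] D)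

theorem bcm_map : specOverMap (str₁ str A₁) (Algebra.TensorProduct.map (AlgHom.id A₁ A₁) p) ≫
    bcm str A₁ C = bcm str A₁ D ≫ specOverMap str p := by
  ext
  change Spec.map _ ≫ Spec.map _ = Spec.map _ ≫ Spec.map _
  rw [← Spec.map_comp, ← Spec.map_comp]
  congr 1

end bc

section pres

variable {Y : Sp S} (f : Y ⟶ (yon S).obj (Over.mk str))
  {C D A' : Type u} [CommRing C] [CommRing D] [CommRing A'] [Algebra A C] [Algebra A D]
  [Algebra A A'] {p₁ p₂ : C →ₐ[A] D} {β : A' →ₐ[A] C}
  {v : (yon S).obj (specOver str C) ⟶ Y}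
  (A₁ : Type u) [CommRing A₁] [Algebra A A₁]

/-- The base change of `f`. -/
noncomputable abbrev f₁ : pullback f ((yon S).map (specOverBase str A₁)) ⟶
    (yon S).obj (Over.mk (str₁ str A₁)) :=
  pullback.snd f ((yon S).map (specOverBase str A₁))

theorem v₁_aux (hP : IsPres str f p₁ p₂ v) :
    ((yon S).map (bcm str A₁ C) ≫ v) ≫ f =
      (yon S).map (specOverBase (str₁ str A₁) (A₁ ⊗[A] C)) ≫
        (yon S).map (specOverBase str A₁) := by
  rw [Category.assoc, hP.comm, ← Functor.map_comp, ← Functor.map_comp, bcm_base]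

/-- The base change of the chart `v`. -/
noncomputable def v₁ (hP : IsPres str f p₁ p₂ v) :
    (yon S).obj (specOver (str₁ str A₁) (A₁ ⊗[A] C)) ⟶
      pullback f ((yon S).map (specOverBase str A₁)) :=
  pullback.lift ((yon S).map (bcm str A₁ C) ≫ v)
    ((yon S).map (specOverBase (str₁ str A₁) (A₁ ⊗[A] C))) (v₁_aux str f A₁ hP)

theorem v₁_fst (hP : IsPres str f p₁ p₂ v) :
    v₁ str f A₁ hP ≫ pullback.fst f _ = (yon S).map (bcm str A₁ C) ≫ v :=
  pullback.lift_fst _ _ _

theorem v₁_snd (hP : IsPres str f p₁ p₂ v) :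
    v₁ str f A₁ hP ≫ pullback.snd f _ = (yon S).map (specOverBase (str₁ str A₁) (A₁ ⊗[A] C)) :=
  pullback.lift_snd _ _ _

theorem isPullback_v₁ (hP : IsPres str f p₁ p₂ v) :
    IsPullback (v₁ str f A₁ hP) ((yon S).map (bcm str A₁ C)) (pullback.fst f _) v := by
  have big : IsPullback ((yon S).map (bcm str A₁ C))
      ((yon S).map (specOverBase (str₁ str A₁) (A₁ ⊗[A] C)))
      ((yon S).map (specOverBase str C)) ((yon S).map (specOverBase str A₁)) :=
    (isPullback_bcm str A₁ C).map (yon S)
  rw [← hP.comm] at big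
  have right : IsPullback (pullback.fst f ((yon S).map (specOverBase str A₁))) (pullback.snd f _)
      f ((yon S).map (specOverBase str A₁)) := IsPullback.of_hasPullback _ _
  have outer : IsPullback (v₁ str f A₁ hP ≫ pullback.snd f _) ((yon S).map (bcm str A₁ C))
      ((yon S).map (specOverBase str A₁)) (v ≫ f) := by
    rw [v₁_snd]
    exact big.flip
  exact IsPullback.of_right outer (v₁_fst str f A₁ hP) right.flip

theorem isPres₁ (hP : IsPres str f p₁ p₂ v) :
    IsPres (str₁ str A₁) (f₁ str f A₁) (Algebra.TensorProduct.map (AlgHom.id A₁ A₁) p₁)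
      (Algebra.TensorProduct.map (AlgHom.id A₁ A₁) p₂) (v₁ str f A₁ hP) := by
  refine ⟨?_, v₁_snd str f A₁ hP, ?_, ?_⟩
  · exact isLocallySurjective_of_isPullback (isPullback_v₁ str f A₁ hP).flip hP.surj
  · apply pullback.hom_ext
    · rw [Category.assoc, Category.assoc, v₁_fst, ← Category.assoc, ← Category.assoc,
        ← Functor.map_comp, ← Functor.map_comp, bcm_map, bcm_map, Functor.map_comp,
        Functor.map_comp, Category.assoc, Category.assoc, hP.coeq]
    · rw [Category.assoc, Category.assoc, v₁_snd, ← Functor.map_comp, ← Functor.map_comp,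
        specOverMap_base, specOverMap_base]
  · intro T a b hab
    have hab1 : (yon S).map (a ≫ bcm str A₁ C) ≫ v = (yon S).map (b ≫ bcm str A₁ C) ≫ v := by
      rw [Functor.map_comp, Functor.map_comp, Category.assoc, Category.assoc, ← v₁_fst str f A₁ hP,
        ← Category.assoc, hab, Category.assoc]
    have hab2 : a ≫ specOverBase (str₁ str A₁) (A₁ ⊗[A] C) =
        b ≫ specOverBase (str₁ str A₁) (A₁ ⊗[A] C) := by
      apply (yon S).map_injective
      rw [Functor.map_comp, Functor.map_comp, ← v₁_snd str f A₁ hP, ← Category.assoc, hab,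
        Category.assoc]
    obtain ⟨Sv, hSv, hk⟩ := hP.cover T _ _ hab1
    refine ⟨Sv, hSv, fun T' φ hφ => ?_⟩
    obtain ⟨k, hk1, hk2⟩ := hk φ hφ
    have hkw : k ≫ specOverBase str D =
        (φ ≫ a ≫ specOverBase (str₁ str A₁) (A₁ ⊗[A] C)) ≫ specOverBase str A₁ := by
      rw [← specOverMap_base str p₁, ← Category.assoc, hk1, Category.assoc, Category.assoc,
        Category.assoc, Category.assoc, bcm_base]
    refine ⟨(isPullback_bcm str A₁ D).lift k _ hkw, ?_, ?_⟩
    · apply (isPullback_bcm str A₁ C).hom_ext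
      · rw [Category.assoc, bcm_map, ← Category.assoc, IsPullback.lift_fst, hk1, Category.assoc]
      · rw [Category.assoc, specOverMap_base, IsPullback.lift_snd, Category.assoc]
    · apply (isPullback_bcm str A₁ C).hom_ext
      · rw [Category.assoc, bcm_map, ← Category.assoc, IsPullback.lift_fst, hk2, Category.assoc]
      · rw [Category.assoc, specOverMap_base, IsPullback.lift_snd, Category.assoc, hab2]

theorem isNormRing₁ [Algebra.Smooth A A₁] (hN : IsNormRing p₁ p₂ β) :
    IsNormRing (Algebra.TensorProduct.map (AlgHom.id A₁ A₁) p₁)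
      (Algebra.TensorProduct.map (AlgHom.id A₁ A₁) p₂)
      (Algebra.TensorProduct.map (AlgHom.id A₁ A₁) β) := by
  have := hN.integral
  have hflat : Module.Flat A A₁ := inferInstance
  refine ⟨inferInstance, injective_of_flat β hN.inj, ?_, ?_⟩
  · intro x
    induction x with
    | zero => simp
    | add a b ha hb => rw [map_add, map_add, map_add, ha, hb]
    | tmul a c => simp [hN.eq c]
  · intro x hx heq
    exact mem_range_of_smooth p₁ p₂ β hN.inj hN.range x hx heq

/-- **Smooth base change** of the affine normalization. -/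
theorem normAt_of_smooth [Algebra.Smooth A A₁] (hP : IsPres str f p₁ p₂ v)
    (hN : IsNormRing p₁ p₂ β) (f' : Y ⟶ (yon S).obj (specOver str A'))
    (hf'v : v ≫ f' = (yon S).map (specOverMap str β))
    (hf : f' ≫ (yon S).map (specOverBase str A') = f) :
    NormAt f ((yon S).map (specOverBase str A')) f' hf ((yon S).map (specOverBase str A₁)) := by
  obtain ⟨f'₁, hf'₁v, hf₁, hn⟩ := crit (str₁ str A₁) (f₁ str f A₁) (isPres₁ str f A₁ hP)
    (isNormRing₁ A₁ hN)
  rw [normAt_iff_of_isPullback hf _ (IsPullback.of_hasPullback f _)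
    ((isPullback_bcm str A₁ A').map (yon S)) f'₁ hf₁ ?_]
  · exact hn
  · have hcov : JointlyLS (fun _ : Unit => (yon S).obj (specOver (str₁ str A₁) (A₁ ⊗[A] C)))
        (fun _ => v₁ str f A₁ hP) := (jointlyLS_unit_iff _).2 (isPres₁ str f A₁ hP).surj
    refine hom_ext_of_jointlyLS _ _ hcov _ _ fun _ => ?_
    rw [← Category.assoc, hf'₁v, ← Functor.map_comp, bcm_map, Functor.map_comp, ← hf'v,
      ← Category.assoc, ← v₁_fst str f A₁ hP, Category.assoc]

end pres

end Groth.Agent.Lib.Helper3.RelNorm
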