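import Mathlib
import Groth.Agent.Lib.Helper3.RNAff3
import Groth.Agent.Lib.Helper3.AlgSpMonoField

set_option autoImplicit false
universe u

namespace Groth.Agent.Lib.Helper3.RelNorm

open CategoryTheory CategoryTheory.Limits AlgebraicGeometry Opposite AlgSp TensorProduct
open Groth.Agent.Lib.Helper3

variable {S : Scheme.{u}}

section transport

variable {F G X' A₁ : Sp S} {f : F ⟶ G} {ν : X' ⟶ G} {f' : F ⟶ X'} (hf : f' ≫ ν = f)
  (w : A₁ ⟶ G)

/-- `NormAt` is invariant under precomposing the chart with an isomorphism. -/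
theorem normAt_iso_comp {A₂ : Sp S} (e : A₂ ≅ A₁) (h : NormAt f ν f' hf w) :
    NormAt f ν f' hf (e.hom ≫ w) := by
  have sq1 : IsPullback (pullback.fst f w) (pullback.snd f w ≫ e.inv) f (e.hom ≫ w) :=
    IsPullback.of_iso (IsPullback.of_hasPullback f w) (Iso.refl _) (Iso.refl _) e.symm (Iso.refl _)
      (by simp) (by simp) (by simp) (by simp)
  have sq2 : IsPullback (pullback.fst ν w) (pullback.snd ν w ≫ e.inv) ν (e.hom ≫ w) :=
    IsPullback.of_iso (IsPullback.of_hasPullback ν w) (Iso.refl _) (Iso.refl _) e.symm (Iso.refl _)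
      (by simp) (by simp) (by simp) (by simp)
  rw [normAt_iff_of_isPullback hf _ sq1 sq2 (bcMap f ν f' hf w)
    (by rw [← Category.assoc, bcMap_snd]) (bcMap_fst f ν f' hf w)]
  rw [normAt_def] at h
  refine isRelNormalization_of_iso (Iso.refl _) e (Iso.refl _) ?_ ?_ ?_ h
  · simp
  · simp
  · simp

/-- `NormAt` is invariant under postcomposing everything with a monomorphism. -/
theorem normAt_comp_mono {G' : Sp S} (i : G ⟶ G') [Mono i] (h : NormAt f ν f' hf w) :
    NormAt (f ≫ i) (ν ≫ i) f' (by rw [← Category.assoc, hf]) (w ≫ i) := by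
  rw [normAt_iff_of_isPullback _ _ (isPullback_comp_mono i (IsPullback.of_hasPullback f w))
    (isPullback_comp_mono i (IsPullback.of_hasPullback ν w)) (bcMap f ν f' hf w)
    (bcMap_snd f ν f' hf w) (bcMap_fst f ν f' hf w)]
  exact h

end transport

section convert

variable {A : Type u} [CommRing A] (str : Spec (CommRingCat.of A) ⟶ S)

/-- An affine scheme over `Spec A` is the spectrum of an `A`-algebra. -/
theorem exists_specOver_iso (V : Over S) (hV : IsAffine V.left) (π₀ : V ⟶ Over.mk str) :
    ∃ (C : Type u) (_ : CommRing C) (_ : Algebra A C) (e : specOver str C ≅ V),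
      e.hom ≫ π₀ = specOverBase str C := by
  let C : Type u := Γ(V.left, ⊤)
  let φ : CommRingCat.of A ⟶ CommRingCat.of C := Spec.preimage (V.left.isoSpec.inv ≫ π₀.left)
  have hφ : Spec.map φ = V.left.isoSpec.inv ≫ π₀.left := Spec.map_preimage _
  let _ : Algebra A C := φ.hom.toAlgebra
  have hφ' : CommRingCat.ofHom (algebraMap A C) = φ := rfl
  have hVhom : V.hom = π₀.left ≫ str := (Over.w π₀).symm
  have hcomp : V.left.isoSpec.symm.hom ≫ V.hom = (specOver str C).hom := by
    change V.left.isoSpec.inv ≫ V.hom = Spec.map (CommRingCat.ofHom (algebraMap A C)) ≫ str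
    rw [hφ', hφ, hVhom, Category.assoc]
  refine ⟨C, inferInstance, inferInstance, Over.isoMk V.left.isoSpec.symm hcomp, ?_⟩
  ext
  change V.left.isoSpec.inv ≫ π₀.left = Spec.map (CommRingCat.ofHom (algebraMap A C))
  rw [hφ', hφ]

/-- Morphisms of spectra over `Spec A` come from algebra homomorphisms. -/
theorem exists_algHom_of_hom {C D : Type u} [CommRing C] [CommRing D] [Algebra A C] [Algebra A D]
    (g : specOver str D ⟶ specOver str C) (hg : g ≫ specOverBase str C = specOverBase str D) :
    ∃ p : C →ₐ[A] D, specOverMap str p = g := by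
  let q : CommRingCat.of C ⟶ CommRingCat.of D := Spec.preimage g.left
  have hq : Spec.map q = g.left := Spec.map_preimage _
  have hqa : CommRingCat.ofHom (algebraMap A C) ≫ q = CommRingCat.ofHom (algebraMap A D) := by
    apply Spec.map_injective
    rw [Spec.map_comp, hq]
    exact congrArg (fun k => k.left) hg
  let p : C →ₐ[A] D :=
    { q.hom with
      commutes' := fun a => congrArg (fun k => k.hom a) hqa }
  refine ⟨p, ?_⟩
  ext
  change Spec.map (CommRingCat.ofHom p.toRingHom) = g.left
  rw [← hq]
  rfl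

theorem smooth_of_specOverBase (A₁ : Type u) [CommRing A₁] [Algebra A A₁]
    (h : Smooth (specOverBase str A₁).left) : Algebra.Smooth A A₁ := by
  change Smooth (Spec.map (CommRingCat.ofHom (algebraMap A A₁))) at h
  rw [HasRingHomProperty.Spec_iff (P := @Smooth)] at h
  exact RingHom.smooth_algebraMap.1 h

end convert

end Groth.Agent.Lib.Helper3.RelNorm
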