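import Mathlib
import Groth.Agent.Lib.Helper3.RNAff5

set_option autoImplicit false
universe u

namespace Groth.Agent.Lib.Helper3.RelNorm

open CategoryTheory CategoryTheory.Limits AlgebraicGeometry Opposite AlgSp TensorProduct
open Groth.Agent.Lib.Helper3

variable {S : Scheme.{u}}

theorem normAt_congr {F G X' A₁ : Sp S} {f f₂ : F ⟶ G} {ν ν₂ : X' ⟶ G} {f' : F ⟶ X'}
    {w w₂ : A₁ ⟶ G} (e1 : f = f₂) (e2 : ν = ν₂) (e3 : w = w₂) (hf : f' ≫ ν = f)
    (h : NormAt f ν f' hf w) : NormAt f₂ ν₂ f' (by rw [← e1, ← e2]; exact hf) w₂ := by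
  subst e1 e2 e3
  exact h

section ring

variable {A C D : Type u} [CommRing A] [CommRing C] [CommRing D] [Algebra A C] [Algebra A D]
  (p₁ p₂ : C →ₐ[A] D)

/-- The ring of integral equalized elements. -/
abbrev normSub : Subalgebra A C := integralClosure A C ⊓ AlgHom.equalizer p₁ p₂

theorem isNormRing_normSub : IsNormRing p₁ p₂ (normSub p₁ p₂).val := by
  refine ⟨⟨fun x => ?_⟩, Subtype.val_injective, fun x => x.2.2, fun c hc heq => ⟨⟨c, hc, heq⟩, rfl⟩⟩
  have h : IsIntegral A ((normSub p₁ p₂).val x) := x.2.1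
  exact (isIntegral_algHom_iff (normSub p₁ p₂).val Subtype.val_injective).1 h

end ring

variable {A : Type u} [CommRing A] (str : Spec (CommRingCat.of A) ⟶ S)

/-- The affine case, for a literal spectrum. -/
theorem exists_UN_spec {Y : Sp S} (f : Y ⟶ (yon S).obj (Over.mk str))
    (hqc : IsQuasiCompactMor f) (hqs : IsQuasiSeparatedMor f) :
    ∃ (E : Over S) (νW : E ⟶ Over.mk str) (f' : Y ⟶ (yon S).obj E)
      (hf : f' ≫ (yon S).map νW = f), IsIntegralHom νW.left ∧
        UN @Smooth f ((yon S).map νW) f' hf := by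
  obtain ⟨C, D, _, _, _, _, p₁, p₂, v, hP⟩ := exists_isPres str f hqc hqs
  have hN := isNormRing_normSub p₁ p₂
  obtain ⟨f', hf'v, hf, -⟩ := crit str f hP hN
  refine ⟨_, specOverBase str (normSub p₁ p₂), f', hf, isIntegralHom_specOverBase str hN, ?_⟩
  intro W₁ w hW₁ hw
  obtain ⟨ω, rfl⟩ := (yon S).map_surjective w
  obtain ⟨A₁, _, _, e₁, he₁⟩ := exists_specOver_iso str W₁ hW₁ ω
  have hsm : Smooth ω.left := (repWith_yon_map_iff _ _).1 hw
  have hsm' : Smooth (specOverBase str A₁).left := by
    rw [← he₁, Over.comp_left]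
    have : IsIso e₁.hom.left := inferInstanceAs (IsIso ((Over.forget S).map e₁.hom))
    infer_instance
  have : Algebra.Smooth A A₁ := smooth_of_specOverBase str A₁ hsm'
  have key := normAt_of_smooth str f A₁ hP hN f' hf'v hf
  rw [← he₁, Functor.map_comp] at key
  have := normAt_iso_comp hf _ ((yon S).mapIso e₁.symm) key
  rw [Functor.mapIso_hom, Iso.symm_hom, ← Category.assoc, ← Functor.map_comp, Iso.inv_hom_id,
    CategoryTheory.Functor.map_id, Category.id_comp] at this
  exact this

/-- **The affine case**: a quasi-compact quasi-separated morphism to an affine scheme has a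
relative normalization, compatible with smooth base change. -/
theorem exists_UN_affine {W : Over S} (hW : IsAffine W.left) {Y : Sp S}
    (f : Y ⟶ (yon S).obj W) (hqc : IsQuasiCompactMor f) (hqs : IsQuasiSeparatedMor f) :
    ∃ (E : Over S) (νW : E ⟶ W) (f' : Y ⟶ (yon S).obj E)
      (hf : f' ≫ (yon S).map νW = f), IsIntegralHom νW.left ∧
        UN @Smooth f ((yon S).map νW) f' hf := by
  let A : Type u := Γ(W.left, ⊤)
  let str : Spec (CommRingCat.of A) ⟶ S := W.left.isoSpec.inv ≫ W.hom
  let eW : Over.mk str ≅ W := Over.isoMk W.left.isoSpec.symm rfl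
  let i := (yon S).map eW.inv
  have hi : IsIso i := inferInstance
  have hqc₀ : IsQuasiCompactMor (f ≫ i) := by
    intro Z Z' hZ hZq g fst snd sq
    have sq' : IsPullback fst snd f (g ≫ (yon S).map eW.hom) := by
      have h1 : IsPullback fst snd (f ≫ i) ((g ≫ (yon S).map eW.hom) ≫ i) := by
        rw [Category.assoc, ← Functor.map_comp, Iso.hom_inv_id, CategoryTheory.Functor.map_id, Category.comp_id]
        exact sq
      refine IsPullback.mk' ?_ ?_ ?_
      · rw [← cancel_mono i, Category.assoc, Category.assoc, h1.w, Category.assoc]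
      · intro T φ φ' h2 h3
        exact h1.hom_ext h2 h3
      · intro T a b hab
        exact ⟨h1.lift a b (by rw [← Category.assoc, hab, Category.assoc, Category.assoc]),
          h1.lift_fst _ _ _, h1.lift_snd _ _ _⟩
    exact hqc hZ hZq _ fst snd sq'
  have hqs₀ : IsQuasiSeparatedMor (f ≫ i) := by
    have sq : IsPullback (𝟙 Y) (f ≫ i) f (inv i) := IsPullback.of_horiz_isIso ⟨by simp⟩
    exact repWith_diagonal_of_isPullback @QuasiCompact sq hqs
  obtain ⟨E, ν₀, f', hf₀, hν₀, hUN₀⟩ := exists_UN_spec str (f ≫ i) hqc₀ hqs₀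
  have hf : f' ≫ (yon S).map (ν₀ ≫ eW.hom) = f := by
    rw [Functor.map_comp, ← Category.assoc, hf₀, Category.assoc, ← Functor.map_comp,
      Iso.inv_hom_id, CategoryTheory.Functor.map_id, Category.comp_id]
  refine ⟨E, ν₀ ≫ eW.hom, f', hf, ?_, ?_⟩
  · rw [Over.comp_left]
    have : IsIso eW.hom.left := inferInstanceAs (IsIso ((Over.forget S).map eW.hom))
    infer_instance
  · intro W₁ w hW₁ hw
    have hw' : RepWith @Smooth (w ≫ i) := MorphismProperty.RespectsIso.postcomp _ _ _ hw
    have key := hUN₀ (w ≫ i) hW₁ hw'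
    have h2 := normAt_comp_mono hf₀ (w ≫ i) ((yon S).map eW.hom) key
    have hii : i ≫ (yon S).map eW.hom = 𝟙 _ := by
      rw [← Functor.map_comp, Iso.inv_hom_id, CategoryTheory.Functor.map_id]
    refine normAt_congr ?_ ?_ ?_ _ h2
    · rw [Category.assoc, hii, Category.comp_id]
    · rw [Functor.map_comp]
    · rw [Category.assoc, hii, Category.comp_id]

end Groth.Agent.Lib.Helper3.RelNorm
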