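import Mathlib
import Groth.Agent.Lib.Helper3.RNCo1
import Groth.Agent.Lib.Helper3.SpCoprod3

set_option autoImplicit false
universe u w

namespace Groth.Agent.Lib.Helper3.RelNorm

open CategoryTheory CategoryTheory.Limits AlgebraicGeometry Opposite AlgSp
open Groth.Agent.Lib.Helper3

variable {S : Scheme.{u}}

/-- `Ũ` with the maps `j` is a coproduct of the schemes `U i` (over `S`). -/
structure IsCoprodSch {κ : Type u} (U : κ → Over S) (Ũ : Over S) (j : ∀ i, U i ⟶ Ũ) : Prop where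
  isOpenImmersion : ∀ i, IsOpenImmersion (j i).left
  surj : ∀ g : ↥Ũ.left, ∃ i, g ∈ Set.range (j i).left
  desc : ∀ (G : Sp S) (g : ∀ i, (yon S).obj (U i) ⟶ G),
    ∃ g' : (yon S).obj Ũ ⟶ G, ∀ i, (yon S).map (j i) ≫ g' = g i
  hom_ext : ∀ (G : Sp S) (a b : (yon S).obj Ũ ⟶ G),
    (∀ i, (yon S).map (j i) ≫ a = (yon S).map (j i) ≫ b) → a = b
  disjoint : ∀ i l, i ≠ l → ∀ (T : Over S) (a : T ⟶ U i) (b : T ⟶ U l),
    a ≫ j i = b ≫ j l → IsEmpty ↥T.left

theorem exists_coprod_pair {κ : Type u} (U E : κ → Over S) (ν : ∀ i, E i ⟶ U i) :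
    ∃ (U' E' : Over S) (j : ∀ i, U i ⟶ U') (k : ∀ i, E i ⟶ E') (ν' : E' ⟶ U'),
      IsCoprodSch U U' j ∧ IsCoprodSch E E' k ∧ ∀ i, IsPullback (k i) (ν i) ν' (j i) := by
  let cU : Cofan (fun i => (yon S).obj (U i)) := Cofan.mk (∐ fun i => (yon S).obj (U i))
    (Sigma.ι fun i => (yon S).obj (U i))
  have hcU : IsColimit cU := coproductIsCoproduct _
  let cE : Cofan (fun i => (yon S).obj (E i)) := Cofan.mk (∐ fun i => (yon S).obj (E i))
    (Sigma.ι fun i => (yon S).obj (E i))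
  have hcE : IsColimit cE := coproductIsCoproduct _
  obtain ⟨U', eU, j, hj, hjo, hjs⟩ := SpCoprod.exists_iso_yon_of_cofan_yon U cU hcU
  obtain ⟨E', eE, k, hk, hko, hks⟩ := SpCoprod.exists_iso_yon_of_cofan_yon E cE hcE
  have key : ∀ {κ' : Type u} (V : κ' → Over S) (cV : Cofan (fun i => (yon S).obj (V i)))
      (hcV : IsColimit cV) (V' : Over S) (eV : (yon S).obj V' ≅ cV.pt) (jV : ∀ i, V i ⟶ V')
      (hjV : ∀ i, (yon S).map (jV i) ≫ eV.hom = cV.inj i)
      (hjVo : ∀ i, IsOpenImmersion (jV i).left)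
      (hjVs : ∀ g : ↥V'.left, ∃ i, g ∈ Set.range (jV i).left), IsCoprodSch V V' jV := by
    intro κ' V cV hcV V' eV jV hjV hjVo hjVs
    refine ⟨hjVo, hjVs, ?_, ?_, ?_⟩
    · intro G g
      refine ⟨eV.hom ≫ Cofan.IsColimit.desc hcV g, fun i => ?_⟩
      rw [← Category.assoc, hjV, Cofan.IsColimit.fac]
    · intro G a b hab
      rw [← cancel_epi eV.inv]
      refine Cofan.IsColimit.hom_ext hcV _ _ fun i => ?_
      rw [← hjV i, Category.assoc, Category.assoc, Iso.hom_inv_id_assoc, Iso.hom_inv_id_assoc,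
        hab]
    · intro i l hil T a b hab
      refine SpCoprod.isEmpty_of_inj_eq_inj cV hcV hil (T := T) ⟨a⟩ ⟨b⟩ ?_
      rw [← hjV i, ← hjV l]
      change eV.hom.hom.app (op T) ⟨a ≫ jV i⟩ = eV.hom.hom.app (op T) ⟨b ≫ jV l⟩
      rw [hab]
  have hU := key U cU hcU U' eU j hj hjo hjs
  have hE := key E cE hcE E' eE k hk hko hks
  let D : cE.pt ⟶ cU.pt := Cofan.IsColimit.desc hcE (fun i => (yon S).map (ν i) ≫ cU.inj i)
  have hD : ∀ i, cE.inj i ≫ D = (yon S).map (ν i) ≫ cU.inj i :=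
    fun i => Cofan.IsColimit.fac hcE _ i
  obtain ⟨ν', hν'⟩ := (yon S).map_surjective (eE.hom ≫ D ≫ eU.inv)
  refine ⟨U', E', j, k, ν', hU, hE, fun i => ?_⟩
  have sq := SpCoprod.isPullback_inj_desc cU hcU cE hcE (fun i => (yon S).map (ν i)) D hD i
  have sq' : IsPullback ((yon S).map (k i)) ((yon S).map (ν i)) ((yon S).map ν')
      ((yon S).map (j i)) := by
    refine IsPullback.of_iso sq (Iso.refl _) eE.symm (Iso.refl _) eU.symm ?_ ?_ ?_ ?_
    · rw [Iso.refl_hom, Category.id_comp, Iso.symm_hom, ← hk i, Category.assoc, Iso.hom_inv_id,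
        Category.comp_id]
    · simp
    · rw [Iso.symm_hom, Iso.symm_hom, hν', Iso.inv_hom_id_assoc]
    · rw [Iso.refl_hom, Category.id_comp, Iso.symm_hom, ← hj i, Category.assoc, Iso.hom_inv_id,
        Category.comp_id]
  refine IsPullback.of_map (yon S) ?_ sq'
  apply (yon S).map_injective
  rw [Functor.map_comp, Functor.map_comp, sq'.w]

end Groth.Agent.Lib.Helper3.RelNorm
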