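import Mathlib
import Groth.Agent.Lib.Helper3.RNCo2

set_option autoImplicit false
universe u w

namespace Groth.Agent.Lib.Helper3.RelNorm

open CategoryTheory CategoryTheory.Limits AlgebraicGeometry Opposite AlgSp
open Groth.Agent.Lib.Helper3

variable {S : Scheme.{u}}

section chart

variable {κ : Type u} {U : κ → Over S} {U' : Over S} {j : ∀ i, U i ⟶ U'}
  (hU : IsCoprodSch U U' j) {X : Sp S} (hX : IsAlgSpace X) (c : (yon S).obj U' ⟶ X)

include hU hX in
/-- A morphism from a coproduct of schemes is étale if it is so on each summand. -/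
theorem repWith_etale_of_coprod (hc : ∀ i, RepWith @Etale ((yon S).map (j i) ≫ c)) :
    RepWith @Etale c := by
  have hrep : Representable c := hX.representable_from_yon c
  refine MorphismProperty.relative.of_exists fun T g => ?_
  let P : Over S := hrep.pullback g
  let fst' : P ⟶ U' := hrep.fst' g
  let snd : P ⟶ T := hrep.snd g
  have sqP : IsPullback ((yon S).map fst') ((yon S).map snd) c g := hrep.isPullback' g
  refine ⟨P, hrep.fst g, snd, hrep.isPullback g, ?_⟩
  change Etale snd.left
  have hoi : ∀ i, IsOpenImmersion (pullback.fst fst' (j i)).left := fun i =>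
    MorphismProperty.of_isPullback (P := @IsOpenImmersion)
      ((IsPullback.of_hasPullback fst' (j i)).flip.map (Over.forget S)) (hU.isOpenImmersion i)
  let 𝒰 : P.left.OpenCover := Scheme.Cover.mkOfCovers κ (fun i => (pullback fst' (j i)).left)
    (fun i => (pullback.fst fst' (j i)).left) (fun x => by
      obtain ⟨i, u, hu⟩ := hU.surj (fst'.left x)
      obtain ⟨z, hz, -⟩ := exists_left_preimage_pullback fst' (j i) x u hu.symm
      exact ⟨i, z, hz⟩) hoi
  refine IsZariskiLocalAtSource.of_openCover (P := @Etale) 𝒰 fun i => ?_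
  change Etale ((pullback.fst fst' (j i)).left ≫ snd.left)
  have top : IsPullback ((yon S).map (pullback.snd fst' (j i)))
      ((yon S).map (pullback.fst fst' (j i))) ((yon S).map (j i)) ((yon S).map fst') :=
    ((IsPullback.of_hasPullback fst' (j i)).flip.map (yon S))
  have big := top.paste_vert sqP
  have h1 : RepWith @Etale ((yon S).map (pullback.fst fst' (j i)) ≫ (yon S).map snd) :=
    MorphismProperty.of_isPullback big (hc i)
  rw [← Functor.map_comp, repWith_yon_map_iff] at h1
  exact h1

include hU hX in
theorem repWith_surjective_of_coprod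
    (hs : ∀ x : Points X, ∃ (i : κ) (u : ↥(U i).left),
      Points.ofPt ((yon S).map (j i) ≫ c) u = x) :
    RepWith @Surjective c := by
  have hrep : Representable c := hX.representable_from_yon c
  refine MorphismProperty.relative.of_exists fun T g => ?_
  refine ⟨hrep.pullback g, hrep.fst g, hrep.snd g, hrep.isPullback g, ⟨fun t => ?_⟩⟩
  obtain ⟨i, u, hu⟩ := hs (Points.ofPt g t)
  rw [SpUC.ofPt_comp_yon_map] at hu
  obtain ⟨v, -, hv⟩ := exists_of_isPullback_chart (hrep.isPullback g)
    (Points.schemeHomeo U' ((j i).left u)) t (by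
      rw [← hu, Points.ofPt_eq_map_ofScheme]; rfl)
  exact ⟨v, hv⟩

end chart

/-- Integrality is local on the target for a coproduct. -/
theorem isIntegralHom_of_coprod {κ : Type u} {U E : κ → Over S} {U' E' : Over S}
    {j : ∀ i, U i ⟶ U'} {k : ∀ i, E i ⟶ E'} (hU : IsCoprodSch U U' j) (ν : ∀ i, E i ⟶ U i)
    (ν' : E' ⟶ U') (sq : ∀ i, IsPullback (k i) (ν i) ν' (j i))
    (hν : ∀ i, IsIntegralHom (ν i).left) : IsIntegralHom ν'.left := by
  have := hU.isOpenImmersion
  let 𝒰 : U'.left.OpenCover := Scheme.Cover.mkOfCovers κ (fun i => (U i).left)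
    (fun i => (j i).left) (fun x => by
      obtain ⟨i, u, hu⟩ := hU.surj x
      exact ⟨i, u, hu⟩) hU.isOpenImmersion
  refine IsZariskiLocalAtTarget.of_openCover (P := @IsIntegralHom) 𝒰 fun i => ?_
  have sq' : IsPullback (k i).left (ν i).left ν'.left (j i).left := (sq i).map (Over.forget S)
  change IsIntegralHom (pullback.snd ν'.left (j i).left)
  rw [← sq'.isoPullback_inv_snd]
  have := hν i
  infer_instance

end Groth.Agent.Lib.Helper3.RelNorm
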