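import Mathlib
import Groth.Agent.Lib.Helper3.RNCo3

set_option autoImplicit false
universe u w

namespace Groth.Agent.Lib.Helper3.RelNorm

open CategoryTheory CategoryTheory.Limits AlgebraicGeometry Opposite AlgSp
open Groth.Agent.Lib.Helper3

variable {S : Scheme.{u}}

theorem mono_yon_map_of_isOpenImmersion {A B : Over S} (g : A ⟶ B) (h : IsOpenImmersion g.left) :
    Mono ((yon S).map g) :=
  mono_of_repWith_isOpenImmersion _ ((repWith_yon_map_iff _ _).2 h)

section glue

variable {κ : Type u} {U E : κ → Over S} {U' E' : Over S} {j : ∀ i, U i ⟶ U'}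
  {k : ∀ i, E i ⟶ E'} (hU : IsCoprodSch U U' j) (ν : ∀ i, E i ⟶ U i)
  (ν' : E' ⟶ U') (sq : ∀ i, IsPullback (k i) (ν i) ν' (j i))
  {X Y : Sp S} (f : Y ⟶ X) (c : (yon S).obj U' ⟶ X)
  (f'i : ∀ i, pullback f ((yon S).map (j i) ≫ c) ⟶ (yon S).obj (E i))
  (hfi : ∀ i, f'i i ≫ (yon S).map (ν i) = pullback.snd f ((yon S).map (j i) ≫ c))

include hU in
theorem jointlyLS_coprod : JointlyLS (fun i => (yon S).obj (U i)) (fun i => (yon S).map (j i)) := by
  refine jointlyLS_of_factor _ _ fun T x => ?_
  obtain ⟨x₀, rfl⟩ := (yon S).map_surjective x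
  have hoi : ∀ i, IsOpenImmersion (pullback.fst x₀ (j i)).left := fun i =>
    MorphismProperty.of_isPullback (P := @IsOpenImmersion)
      ((IsPullback.of_hasPullback x₀ (j i)).flip.map (Over.forget S)) (hU.isOpenImmersion i)
  have hmem : Sieve.generate (Presieve.ofArrows (fun i => pullback x₀ (j i))
      (fun i => pullback.fst x₀ (j i))) ∈ AlgSp.J S T := by
    refine generate_ofArrows_mem_J _ _ hoi fun t => ?_
    obtain ⟨i, u, hu⟩ := hU.surj (x₀.left t)
    obtain ⟨z, hz, -⟩ := exists_left_preimage_pullback x₀ (j i) t u hu.symm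
    exact ⟨i, z, hz⟩
  refine ⟨_, hmem, ?_⟩
  rintro T' φ ⟨Y', h', g', ⟨i⟩, rfl⟩
  refine ⟨i, (yon S).map (h' ≫ pullback.snd x₀ (j i)), ?_⟩
  rw [← Functor.map_comp, ← Functor.map_comp, Category.assoc, Category.assoc, pullback.condition]

include hU in
theorem jointlyLS_kap : JointlyLS (fun i => pullback f ((yon S).map (j i) ≫ c))
    (fun i => kap f c (j i) _ rfl) :=
  jointlyLS_of_isPullback (jointlyLS_coprod hU) (pullback.snd f c) _ _
    (fun i => pullback.snd f ((yon S).map (j i) ≫ c)) (fun i => isPullback_kap f c (j i) _ rfl)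

include hU in
theorem exists_f'U : ∃ f'U : pullback f c ⟶ (yon S).obj E',
    ∀ i, kap f c (j i) _ rfl ≫ f'U = f'i i ≫ (yon S).map (k i) := by
  refine glue' _ _ (jointlyLS_kap hU f c) (fun i => f'i i ≫ (yon S).map (k i)) ?_
  intro i l T a b hab
  by_cases hil : i = l
  · subst hil
    have hmono := mono_yon_map_of_isOpenImmersion (j i) (hU.isOpenImmersion i)
    have hab' : a = b := by
      apply pullback.hom_ext
      · have := congrArg (fun m => m ≫ pullback.fst f c) hab
        simpa only [Category.assoc, kap_fst] using this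
      · have := congrArg (fun m => m ≫ pullback.snd f c) hab
        simp only [Category.assoc, kap_snd] at this
        rw [← Category.assoc, ← Category.assoc] at this
        exact (cancel_mono _).1 this
    rw [hab']
  · obtain ⟨a₀, ha₀⟩ := (yon S).map_surjective (a ≫ pullback.snd f _)
    obtain ⟨b₀, hb₀⟩ := (yon S).map_surjective (b ≫ pullback.snd f _)
    have h1 : a₀ ≫ j i = b₀ ≫ j l := by
      apply (yon S).map_injective
      rw [Functor.map_comp, Functor.map_comp, ha₀, hb₀, Category.assoc, Category.assoc,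
        ← kap_snd f c (j i) _ rfl, ← kap_snd f c (j l) _ rfl, ← Category.assoc, hab,
        Category.assoc]
    exact hom_ext_of_isEmpty (hU.disjoint i l hil T a₀ b₀ h1) _ _

include hU sq hfi in
theorem hfU_of_glue (f'U : pullback f c ⟶ (yon S).obj E')
    (hf'U : ∀ i, kap f c (j i) _ rfl ≫ f'U = f'i i ≫ (yon S).map (k i)) :
    f'U ≫ (yon S).map ν' = pullback.snd f c := by
  refine hom_ext_of_jointlyLS _ _ (jointlyLS_kap hU f c) _ _ fun i => ?_
  rw [← Category.assoc, hf'U, Category.assoc, ← Functor.map_comp, (sq i).w, Functor.map_comp,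
    ← Category.assoc, hfi, kap_snd]

include sq in
/-- Normalization data over a summand is the base change of the glued data. -/
theorem normAt_summand_iff (f'U : pullback f c ⟶ (yon S).obj E')
    (hf'U : ∀ i, kap f c (j i) _ rfl ≫ f'U = f'i i ≫ (yon S).map (k i))
    (hfU : f'U ≫ (yon S).map ν' = pullback.snd f c) (i : κ) {A₁ : Sp S}
    (a : A₁ ⟶ (yon S).obj (U i)) :
    NormAt (pullback.snd f c) ((yon S).map ν') f'U hfU (a ≫ (yon S).map (j i)) ↔
      NormAt (pullback.snd f ((yon S).map (j i) ≫ c)) ((yon S).map (ν i)) (f'i i) (hfi i) a := by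
  have sq1 := (IsPullback.of_hasPullback (pullback.snd f ((yon S).map (j i) ≫ c)) a).paste_horiz
    (isPullback_kap f c (j i) _ rfl)
  have sq2 := (IsPullback.of_hasPullback ((yon S).map (ν i)) a).paste_horiz ((sq i).map (yon S))
  rw [normAt_iff_of_isPullback hfU _ sq1 sq2
    (bcMap (pullback.snd f ((yon S).map (j i) ≫ c)) ((yon S).map (ν i)) (f'i i) (hfi i) a)
    (bcMap_snd _ _ _ _ _)
    (by rw [← Category.assoc, bcMap_fst, Category.assoc, Category.assoc, hf'U])]
  rfl

end glue

end Groth.Agent.Lib.Helper3.RelNorm
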