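import Mathlib
import Groth.Agent.Lib.Helper3.RNCo4

set_option autoImplicit false
universe u w

namespace Groth.Agent.Lib.Helper3.RelNorm

open CategoryTheory CategoryTheory.Limits AlgebraicGeometry Opposite AlgSp
open Groth.Agent.Lib.Helper3

variable {S : Scheme.{u}}

section glue

variable {κ : Type u} {U E : κ → Over S} {U' E' : Over S} {j : ∀ i, U i ⟶ U'}
  {k : ∀ i, E i ⟶ E'} (hU : IsCoprodSch U U' j) (ν : ∀ i, E i ⟶ U i)
  (ν' : E' ⟶ U') (sq : ∀ i, IsPullback (k i) (ν i) ν' (j i))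
  {X Y : Sp S} (f : Y ⟶ X) (c : (yon S).obj U' ⟶ X)
  (f'i : ∀ i, pullback f ((yon S).map (j i) ≫ c) ⟶ (yon S).obj (E i))
  (hfi : ∀ i, f'i i ≫ (yon S).map (ν i) = pullback.snd f ((yon S).map (j i) ≫ c))
  {Q : MorphismProperty Scheme.{u}} [Q.IsStableUnderComposition]
  [Q.IsStableUnderBaseChange] (hQ : @Etale ≤ Q)

include hU sq hQ in
theorem un_of_coprod (f'U : pullback f c ⟶ (yon S).obj E')
    (hf'U : ∀ i, kap f c (j i) _ rfl ≫ f'U = f'i i ≫ (yon S).map (k i))
    (hfU : f'U ≫ (yon S).map ν' = pullback.snd f c) (hν' : IsIntegralHom ν'.left)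
    (hUN : ∀ i, UN Q (pullback.snd f ((yon S).map (j i) ≫ c)) ((yon S).map (ν i)) (f'i i) (hfi i)) :
    UN Q (pullback.snd f c) ((yon S).map ν') f'U hfU := by
  intro W w hW hw
  obtain ⟨ω, rfl⟩ := (yon S).map_surjective w
  have hωQ : Q ω.left := (repWith_yon_map_iff _ _).1 hw
  rw [normAt_def]
  refine isRelNormalization_of_good_charts (IsAlgSpace.yon_obj W) _ _ _ (bcMap_snd _ _ _ _ _)
    (isIntegralMor_of_isPullback (IsPullback.of_hasPullback _ _) (isIntegralMor_yon_map ν' hν'))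
    (𝟙 _) (repWith_id _ W) (repWith_id _ W)
    (fun W'' ω'' => ∃ (i : κ) (ωi : W'' ⟶ U i), ω'' ≫ ω = ωi ≫ j i) ?_ ?_ ?_
  · rintro W₁ W₂ p ω'' ⟨i, ωi, h⟩
    exact ⟨i, p ≫ ωi, by rw [Category.assoc, h, Category.assoc]⟩
  · intro u
    obtain ⟨i, u₀, hu₀⟩ := hU.surj (ω.left u)
    have hoi := hU.isOpenImmersion i
    have hu' : u ∈ ω.left ⁻¹ᵁ (j i).left.opensRange := ⟨u₀, hu₀⟩
    obtain ⟨_, ⟨O', hO, rfl⟩, huO, hOle⟩ := W.left.isBasis_affineOpens.exists_subset_of_mem_open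
      hu' (ω.left ⁻¹ᵁ (j i).left.opensRange).isOpen
    obtain ⟨O, rfl⟩ : ∃ O'' : W.left.Opens, O'' = O' := ⟨O', rfl⟩
    refine ⟨O, hO, huO, i, ?_⟩
    have hrange : Set.range (O.ι ≫ ω.left) ⊆ Set.range (j i).left := by
      rintro _ ⟨x, rfl⟩
      have hx : (O.ι x) ∈ ω.left ⁻¹ᵁ (j i).left.opensRange := hOle x.2
      rw [Scheme.Hom.comp_apply]
      exact hx
    have hlift : IsOpenImmersion.lift (j i).left (O.ι ≫ ω.left) hrange ≫ (j i).left =
        O.ι ≫ ω.left := IsOpenImmersion.lift_fac _ _ _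
    have hover : IsOpenImmersion.lift (j i).left (O.ι ≫ ω.left) hrange ≫ (U i).hom =
        O.ι ≫ W.hom := by
      rw [← Over.w (j i), ← Category.assoc, hlift, Category.assoc, Over.w ω]
    refine ⟨Over.homMk (IsOpenImmersion.lift (j i).left (O.ι ≫ ω.left) hrange) hover, ?_⟩
    ext
    exact hlift.symm
  · rintro W'' ω'' hW'' hωe ⟨i, ωi, hgood⟩
    rw [Category.comp_id, normAt_comp]
    have e : (yon S).map ω'' ≫ (yon S).map ω = (yon S).map ωi ≫ (yon S).map (j i) := by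
      rw [← Functor.map_comp, ← Functor.map_comp, hgood]
    rw [e, normAt_summand_iff ν ν' sq f c f'i hfi f'U hf'U hfU i]
    refine hUN i _ hW'' ((repWith_yon_map_iff _ _).2 ?_)
    have hmono : Mono (j i).left := by
      have := hU.isOpenImmersion i
      infer_instance
    have h1 : IsPullback (𝟙 W''.left) ωi.left ωi.left (𝟙 (U i).left) :=
      IsPullback.of_horiz_isIso ⟨by simp⟩
    have h2 := isPullback_comp_mono (j i).left h1
    rw [Category.id_comp] at h2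
    have h3 : Q (ωi.left ≫ (j i).left) := by
      rw [← Over.comp_left, ← hgood, Over.comp_left]
      exact Q.comp_mem _ _ (hQ _ _ _ hωe) hωQ
    exact MorphismProperty.of_isPullback (P := Q) h2 h3

end glue

end Groth.Agent.Lib.Helper3.RelNorm
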