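import Mathlib
import Groth.Agent.Lib.Helper3.RNCo5
import Groth.Agent.Lib.Helper3.RNAff6

set_option autoImplicit false
universe u w

namespace Groth.Agent.Lib.Helper3.RelNorm

open CategoryTheory CategoryTheory.Limits AlgebraicGeometry Opposite AlgSp
open Groth.Agent.Lib.Helper3

variable {S : Scheme.{u}}

theorem isQuasiCompactMor_snd {X Y A₁ : Sp S} {f : Y ⟶ X} (hqc : IsQuasiCompactMor f)
    (w : A₁ ⟶ X) : IsQuasiCompactMor (pullback.snd f w) := by
  intro Z Z' hZ hZq g fst snd sq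
  exact hqc hZ hZq (g ≫ w) _ snd (sq.paste_horiz (IsPullback.of_hasPullback f w))

theorem isQuasiSeparatedMor_snd {X Y A₁ : Sp S} {f : Y ⟶ X} (hqs : IsQuasiSeparatedMor f)
    (w : A₁ ⟶ X) : IsQuasiSeparatedMor (pullback.snd f w) :=
  repWith_diagonal_of_isPullback @QuasiCompact (IsPullback.of_hasPullback f w) hqs

/-- Gluing universal normalization data over a jointly surjective family of étale charts. -/
theorem exists_UN_of_family {X Y : Sp S} (hX : IsAlgSpace X) (f : Y ⟶ X) {κ : Type u}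
    (U E : κ → Over S) (ci : ∀ i, (yon S).obj (U i) ⟶ X) (hcie : ∀ i, RepWith @Etale (ci i))
    (hs : ∀ x : Points X, ∃ (i : κ) (u : ↥(U i).left), Points.ofPt (ci i) u = x)
    (ν : ∀ i, E i ⟶ U i) (hν : ∀ i, IsIntegralHom (ν i).left)
    (f'i : ∀ i, pullback f (ci i) ⟶ (yon S).obj (E i))
    (hfi : ∀ i, f'i i ≫ (yon S).map (ν i) = pullback.snd f (ci i))
    {Q : MorphismProperty Scheme.{u}} [Q.IsStableUnderComposition]
    [Q.IsStableUnderBaseChange] (hQ : @Etale ≤ Q)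
    (hUN : ∀ i, UN Q (pullback.snd f (ci i)) ((yon S).map (ν i)) (f'i i) (hfi i)) :
    ∃ (X' : Sp S) (ν : X' ⟶ X) (f' : Y ⟶ X') (hf : f' ≫ ν = f), IsAlgSpace X' ∧
      IsIntegralMor ν ∧ UN Q f ν f' hf := by
  obtain ⟨U', E', j, k, ν', hU, hE, sq⟩ := exists_coprod_pair U E ν
  obtain ⟨c, hc⟩ := hU.desc X ci
  obtain rfl : ci = fun i => (yon S).map (j i) ≫ c := funext fun i => (hc i).symm
  have hce : RepWith @Etale c := repWith_etale_of_coprod hU hX c hcie
  have hcs : RepWith @Surjective c := repWith_surjective_of_coprod hU hX c hs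
  have hν' : IsIntegralHom ν'.left := isIntegralHom_of_coprod hU ν ν' sq hν
  obtain ⟨f'U, hf'U⟩ := exists_f'U (k := k) hU f c f'i
  have hfU := hfU_of_glue hU ν ν' sq f c f'i hfi f'U hf'U
  have hUN' := un_of_coprod hU ν ν' sq f c f'i hfi hQ f'U hf'U hfU hν' hUN
  exact exists_UN_of_chart hX f c hce hcs ν' hν' f'U hfU hQ hUN'

/-- **Existence of relative normalizations** compatible with smooth base change. -/
theorem exists_UN {X Y : Sp S} (hX : IsAlgSpace X) (f : Y ⟶ X) (hqc : IsQuasiCompactMor f)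
    (hqs : IsQuasiSeparatedMor f) :
    ∃ (X' : Sp S) (ν : X' ⟶ X) (f' : Y ⟶ X') (hf : f' ≫ ν = f), IsAlgSpace X' ∧
      IsIntegralMor ν ∧ UN @Smooth f ν f' hf := by
  obtain ⟨U₀, c₀, hc₀e, hc₀s⟩ := hX.atlas
  let κ : Type u := U₀.left.affineOpens
  let U : κ → Over S := fun i => Over.mk (i.1.ι ≫ U₀.hom)
  let ιi : ∀ i, U i ⟶ U₀ := fun i => Over.homMk i.1.ι rfl
  let ci : ∀ i, (yon S).obj (U i) ⟶ X := fun i => (yon S).map (ιi i) ≫ c₀
  have hcie : ∀ i, RepWith @Etale (ci i) := fun i =>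
    MorphismProperty.comp_mem _ _ _
      ((repWith_yon_map_iff _ _).2 (inferInstanceAs (Etale i.1.ι))) hc₀e
  have hs : ∀ x : Points X, ∃ (i : κ) (u : ↥(U i).left), Points.ofPt (ci i) u = x := by
    intro x
    obtain ⟨u, rfl⟩ := exists_ofPt_eq c₀ hc₀s x
    obtain ⟨_, ⟨O, hO, rfl⟩, huO, -⟩ := U₀.left.isBasis_affineOpens.exists_subset_of_mem_open
      (Set.mem_univ u) isOpen_univ
    refine ⟨⟨O, hO⟩, ⟨u, huO⟩, ?_⟩
    rw [SpUC.ofPt_comp_yon_map]
    rfl
  have hdata : ∀ i : κ, ∃ (E : Over S) (νW : E ⟶ U i)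
      (f' : pullback f (ci i) ⟶ (yon S).obj E)
      (hf : f' ≫ (yon S).map νW = pullback.snd f (ci i)), IsIntegralHom νW.left ∧
        UN @Smooth (pullback.snd f (ci i)) ((yon S).map νW) f' hf := fun i =>
    exists_UN_affine (W := U i) i.2 (pullback.snd f (ci i)) (isQuasiCompactMor_snd hqc _)
      (isQuasiSeparatedMor_snd hqs _)
  choose E ν f'i hfi hν hUN using hdata
  exact exists_UN_of_family hX f U E ci hcie hs ν hν f'i hfi
    (fun _ _ _ h => inferInstance) hUN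

end Groth.Agent.Lib.Helper3.RelNorm
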