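import Mathlib
import Groth.Agent.Lib.Helper3.RNMain
import Groth.Agent.Lib.Helper3.SmoothEt6
import Groth.Agent.Lib.Helper3.AlgSpLocP4

set_option autoImplicit false
universe u w

namespace Groth.Agent.Lib.Helper3.RelNorm

open CategoryTheory CategoryTheory.Limits AlgebraicGeometry Opposite AlgSp
open Groth.Agent.Lib.Helper3

variable {S : Scheme.{u}}

theorem etale_le_smooth : (@Etale : MorphismProperty Scheme.{u}) ≤ @Smooth :=
  fun _ _ f h => by have : Etale f := h; infer_instance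

theorem UN.mono {Q Q' : MorphismProperty Scheme.{u}} (h : Q' ≤ Q) {F G X' : Sp S} {f : F ⟶ G}
    {ν : X' ⟶ G} {f' : F ⟶ X'} {hf : f' ≫ ν = f} (hUN : UN Q f ν f' hf) : UN Q' f ν f' hf :=
  fun _ w hW hw => hUN w hW (repWith_mono h hw)

/-- Transport of `NormAt` along an isomorphism of the normalization. -/
theorem normAt_of_iso {F G X' X'₀ A₁ : Sp S} {f : F ⟶ G} {ν : X' ⟶ G} {f' : F ⟶ X'}
    {ν₀ : X'₀ ⟶ G} {f'₀ : F ⟶ X'₀} (hf : f' ≫ ν = f) (hf₀ : f'₀ ≫ ν₀ = f) (e : X' ≅ X'₀)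
    (h1 : f' ≫ e.hom = f'₀) (h2 : e.hom ≫ ν₀ = ν) (w : A₁ ⟶ G) (h : NormAt f ν₀ f'₀ hf₀ w) :
    NormAt f ν f' hf w := by
  have sq2 : IsPullback (pullback.fst ν w ≫ e.hom) (pullback.snd ν w) ν₀ w := by
    have := IsPullback.of_hasPullback ν w
    refine IsPullback.of_iso this (Iso.refl _) e (Iso.refl _) (Iso.refl _) ?_ ?_ ?_ ?_
    · simp
    · simp
    · simp [h2]
    · simp
  rw [normAt_iff_of_isPullback hf₀ w (IsPullback.of_hasPullback f w) sq2
    (bcMap f ν f' hf w) (bcMap_snd f ν f' hf w)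
    (by rw [← Category.assoc, bcMap_fst, Category.assoc, h1])] at h
  exact h

/-- Every relative normalization of a quasi-compact quasi-separated morphism is compatible with
smooth base change. -/
theorem un_of_isRelNormalization {X Y X' : Sp S} (hX : IsAlgSpace X) (hX' : IsAlgSpace X')
    (f : Y ⟶ X) (hqc : IsQuasiCompactMor f) (hqs : IsQuasiSeparatedMor f) (ν : X' ⟶ X)
    (f' : Y ⟶ X') (hn : IsRelNormalization f ν f') : UN @Smooth f ν f' hn.1 := by
  obtain ⟨X'₀, ν₀, f'₀, hf₀, hX'₀, hν₀, hUN₀⟩ := exists_UN hX f hqc hqs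
  have hn₀ : IsRelNormalization f ν₀ f'₀ :=
    isRelNormalization_of_UN etale_le_smooth hX f ν₀ f'₀ hf₀ hν₀ hUN₀
  obtain ⟨e, he1, he2⟩ := isRelNormalization_unique hX' hX'₀ hn hn₀
  intro W w hW hw
  exact normAt_of_iso hn.1 hf₀ e he1 he2 w (hUN₀ w hW hw)

/-- Universal normalization data base-changes to a relative normalization along suitable
morphisms from algebraic spaces. -/
theorem normAt_of_UN {Q : MorphismProperty Scheme.{u}} (hQ : @Etale ≤ Q) {F G X' W : Sp S}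
    {f : F ⟶ G} {ν : X' ⟶ G} {f' : F ⟶ X'} {hf : f' ≫ ν = f} (hUN : UN Q f ν f' hf)
    (hν : IsIntegralMor ν) (hW : IsAlgSpace W) (w : W ⟶ G)
    (hw : ∀ ⦃W₁ : Over S⦄ (w₁ : (yon S).obj W₁ ⟶ W), IsAffine W₁.left → RepWith Q w₁ →
      RepWith Q (w₁ ≫ w)) : NormAt f ν f' hf w := by
  rw [normAt_def]
  exact isRelNormalization_of_UN hQ hW _ _ _ (bcMap_snd _ _ _ _ _)
    (isIntegralMor_of_isPullback (IsPullback.of_hasPullback _ _) hν) (hUN.baseChange w hw)

end Groth.Agent.Lib.Helper3.RelNorm
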