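import Mathlib
import Groth.Agent.Lib.Helper3.RNFinal

set_option autoImplicit false
universe u w

namespace Groth.Agent.Lib.Helper3.RelNorm

open CategoryTheory CategoryTheory.Limits AlgebraicGeometry Opposite AlgSp
open Groth.Agent.Lib.Helper3

variable {S : Scheme.{u}}

section scheme

variable {P U : Over S} (h : P ⟶ U) [QuasiCompact h.left] [QuasiSeparated h.left]

/-- The normalization of `U` in `P` as a scheme over `S`. -/
noncomputable def normOver : Over S := Over.mk (h.left.fromNormalization ≫ U.hom)

noncomputable def fromNormOver : normOver h ⟶ U := Over.homMk h.left.fromNormalization rfl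

noncomputable def toNormOver : P ⟶ normOver h :=
  Over.homMk h.left.toNormalization (by
    change h.left.toNormalization ≫ h.left.fromNormalization ≫ U.hom = P.hom
    rw [← Category.assoc, Scheme.Hom.toNormalization_fromNormalization, Over.w h])

theorem toNormOver_fromNormOver : toNormOver h ≫ fromNormOver h = h := by
  ext
  exact Scheme.Hom.toNormalization_fromNormalization _

/-- The normalization of schemes is a relative normalization of sheaves. -/
theorem isRelNormalization_scheme :
    IsRelNormalization ((yon S).map h) ((yon S).map (fromNormOver h))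
      ((yon S).map (toNormOver h)) := by
  refine ⟨by rw [← Functor.map_comp, toNormOver_fromNormOver], ?_, ?_⟩
  · exact isIntegralMor_yon_map _ (inferInstanceAs (IsIntegralHom h.left.fromNormalization))
  · intro Z hZ π g hπ hg
    have hπ' := (isIntegralMor_iff_repWith π).1 hπ
    let Z₀ : Over S := hπ'.rep.pullback (𝟙 ((yon S).obj U))
    let i : Z₀ ⟶ U := hπ'.rep.snd (𝟙 _)
    have sq := hπ'.rep.isPullback (𝟙 ((yon S).obj U))
    have hi : IsIntegralHom i.left := hπ'.property_snd (𝟙 _)
    have hfst : IsIso (hπ'.rep.fst (𝟙 ((yon S).obj U))) := by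
      have : IsIso (𝟙 ((yon S).obj U)) := inferInstance
      exact sq.isIso_fst_of_isIso
    let e : (yon S).obj Z₀ ≅ Z := asIso (hπ'.rep.fst (𝟙 ((yon S).obj U)))
    have he : e.hom ≫ π = (yon S).map i := by
      change hπ'.rep.fst (𝟙 ((yon S).obj U)) ≫ π = _
      rw [sq.w, Category.comp_id]
    obtain ⟨γ, hγ⟩ := (yon S).map_surjective (g ≫ e.inv)
    have hγi : γ ≫ i = h := by
      apply (yon S).map_injective
      rw [Functor.map_comp, hγ, ← he, Category.assoc, Iso.inv_hom_id_assoc, hg]
    have hγi' : h.left = γ.left ≫ i.left := by rw [← Over.comp_left, hγi]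
    let dsc : h.left.normalization ⟶ Z₀.left := h.left.normalizationDesc γ.left i.left hγi'
    have hd1 : h.left.toNormalization ≫ dsc = γ.left :=
      Scheme.Hom.toNormalization_normalizationDesc _ _ _ _
    have hd2 : dsc ≫ i.left = h.left.fromNormalization :=
      Scheme.Hom.normalizationDesc_comp _ _ _ _
    have hover : dsc ≫ Z₀.hom = (normOver h).hom := by
      change dsc ≫ Z₀.hom = h.left.fromNormalization ≫ U.hom
      rw [← Over.w i, ← Category.assoc, hd2]
    let d : normOver h ⟶ Z₀ := Over.homMk dsc hover
    have hdd1 : toNormOver h ≫ d = γ := by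
      ext
      exact hd1
    have hdd2 : d ≫ i = fromNormOver h := by
      ext
      exact hd2
    refine ⟨(yon S).map d ≫ e.hom, ⟨?_, ?_⟩, ?_⟩
    · rw [← Category.assoc, ← Functor.map_comp, hdd1, hγ, Category.assoc, Iso.inv_hom_id,
        Category.comp_id]
    · rw [Category.assoc, he, ← Functor.map_comp, hdd2]
    · rintro H' ⟨hH1, hH2⟩
      obtain ⟨d', hd'⟩ := (yon S).map_surjective (H' ≫ e.inv)
      have h1 : toNormOver h ≫ d' = γ := by
        apply (yon S).map_injective
        rw [Functor.map_comp, hd', ← Category.assoc, hH1, hγ]
      have h2 : d' ≫ i = fromNormOver h := by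
        apply (yon S).map_injective
        rw [Functor.map_comp, hd', ← he, Category.assoc, Iso.inv_hom_id_assoc, hH2]
      have : d' = d := by
        ext
        have hA : IsAffineHom i.left := inferInstance
        refine Scheme.Hom.normalization.hom_ext h.left d'.left d.left i.left ?_ ?_ ?_
        · change (toNormOver h).left ≫ d'.left = (toNormOver h).left ≫ d.left
          rw [← Over.comp_left, ← Over.comp_left, h1, hdd1]
        · change d'.left ≫ i.left = (fromNormOver h).left
          rw [← Over.comp_left, h2]
        · change d.left ≫ i.left = (fromNormOver h).left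
          rw [← Over.comp_left, hdd2]
      rw [← this, hd', Category.assoc, Iso.inv_hom_id, Category.comp_id]

end scheme

end Groth.Agent.Lib.Helper3.RelNorm
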