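import Mathlib
import Groth.Agent.Lib.Helper3.Rep0418G

set_option autoImplicit false
universe u

namespace Groth.Agent.Lib.Helper3.Rep0418

open CategoryTheory CategoryTheory.Limits AlgebraicGeometry Opposite AlgSp Polynomial
open Groth.Agent.Lib.Helper3 Groth.Agent.Lib.Helper3.Rep0418Alg
open Groth.Agent.Lib.Helper3.OpenSch Groth.Agent.Lib.Helper3.SchemLocus

variable {S : Scheme.{u}}

/-- A locally quasi-finite separated morphism of algebraic spaces is representable. -/
theorem representable_of_lqf_separated {X Y : Sp S} (hX : IsAlgSpace X) (hY : IsAlgSpace Y)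
    (f : X ⟶ Y) (hqf : LocP (@LocallyQuasiFinite ⊓ @LocallyOfFiniteType) f)
    (hsep : IsSeparatedMor f) : Representable f := by
  intro T g
  have sq := IsPullback.of_hasPullback f g
  obtain ⟨Q, fst, snd, sq⟩ : ∃ (Q : Sp S) (fst : Q ⟶ X) (snd : Q ⟶ (yon S).obj T),
      IsPullback fst snd f g := ⟨_, _, _, sq⟩
  have hQ : IsAlgSpace Q := isAlgSpace_of_isPullback' hY hX (IsAlgSpace.yon_obj _) sq
  have hsnd : LocP (@LocallyQuasiFinite ⊓ @LocallyOfFiniteType) snd :=
    locP_of_isPullback isEtLocal_locallyQuasiFinite hX hY (IsAlgSpace.yon_obj _) hQ f g fst snd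
      sq hqf
  have hsndsep : IsSeparatedMor snd := repWith_diagonal_of_isPullback @IsClosedImmersion sq hsep
  have hrep : Q.obj.IsRepresentable :=
    isRepresentable_of_forall_schPt hQ (fun x => schPt_of_lqf_separated hQ snd hsnd hsndsep x)
  obtain ⟨G, ⟨r⟩⟩ := hrep.has_representation
  let e : (yon S).obj G ≅ Q := AlgSp.isoOfRepresentableBy r
  obtain ⟨i, hi⟩ := (yon S).map_surjective (e.hom ≫ snd)
  refine ⟨G, i, e.hom ≫ fst, ?_⟩
  rw [hi]
  exact IsPullback.of_iso sq e.symm (Iso.refl _) (Iso.refl _) (Iso.refl _) (by simp) (by simp)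
    (by simp) (by simp)

theorem main10260 {X Y : AlgSp.Space S} (f : X ⟶ Y)
    (hqf : AlgSp.LocP (@LocallyQuasiFinite ⊓ @LocallyOfFiniteType) f.hom)
    (hsep : AlgSp.IsSeparatedMor f.hom) : AlgSp.Representable f.hom :=
  representable_of_lqf_separated X.property Y.property f.hom hqf hsep

end Groth.Agent.Lib.Helper3.Rep0418
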