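import Mathlib
import Groth.Agent.Lib.Helper3.RNZmt1
import Groth.Agent.Lib.Helper3.Rep0418H
import Groth.Agent.Lib.Helper3.AlgSpFpqcLocal
import Groth.Agent.Lib.Helper3.AlgSpUC3
import Groth.Agent.Lib.Helper27.RepWithComp2
import Groth.Agent.S10519

set_option autoImplicit false
universe u w

namespace Groth.Agent.Lib.Helper3.RelNorm

open CategoryTheory CategoryTheory.Limits AlgebraicGeometry Opposite AlgSp
open Groth.Agent.Lib.Helper3

variable {S : Scheme.{u}}

section zmt

variable {X Y : Sp S} (hX : IsAlgSpace X) (hY : IsAlgSpace Y) (f : X ⟶ Y)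
  (hqf : LocP (@LocallyQuasiFinite ⊓ @LocallyOfFiniteType) f)
  (hqc : IsQuasiCompactMor f) (hsep : IsSeparatedMor f)

include hX hY hqf hqc hsep in
/-- The base change of a quasi-finite separated quasi-compact morphism to an affine scheme. -/
theorem exists_scheme_chart {T : Over S} (hT : IsAffine T.left) (g : (yon S).obj T ⟶ Y) :
    ∃ (P : Over S) (h : P ⟶ T) (fst : (yon S).obj P ⟶ X), IsPullback fst ((yon S).map h) f g ∧
      LocallyQuasiFinite h.left ∧ LocallyOfFiniteType h.left ∧ IsSeparated h.left ∧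
      QuasiCompact h.left := by
  have hrep : Representable f := Rep0418.representable_of_lqf_separated hX hY f hqf hsep
  have hqf' : RepWith (@LocallyQuasiFinite ⊓ @LocallyOfFiniteType) f :=
    repWith_of_locP isEtLocal_locallyQuasiFinite hX hY f hrep hqf
  have sq := hqf'.rep.isPullback g
  have h1 := hqf'.property_snd g
  have h2 : IsSeparatedMor ((yon S).map (hqf'.rep.snd g)) :=
    repWith_diagonal_of_isPullback @IsClosedImmersion sq hsep
  rw [isSeparatedMor_yon_map_iff] at h2
  have hTc : CompactSpace ↥T.left := inferInstance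
  have h3 : IsQuasiCompactSp ((yon S).obj (hqf'.rep.pullback g)) :=
    hqc (IsAlgSpace.yon_obj T) (isQuasiCompactSp_yon hTc) g _ _ sq
  have h4 : CompactSpace ↥(hqf'.rep.pullback g).left := compactSpace_of_isQuasiCompactSp_yon h3
  have h5 : QuasiCompact (hqf'.rep.snd g).left :=
    (HasAffineProperty.iff_of_isAffine (P := @QuasiCompact)).2 h4
  exact ⟨_, _, _, sq, h1.1, h1.2, h2, h5⟩

variable {Y' : Sp S} (hY' : IsAlgSpace Y') (ν : Y' ⟶ Y) (f' : X ⟶ Y')
  (hn : IsRelNormalization f ν f')

include hX hY hqf hqc hsep hY' in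
theorem bcMap_props (hUN : UN @Smooth f ν f' hn.1) {T : Over S} (hT : IsAffine T.left)
    (g : (yon S).obj T ⟶ Y) (hg : RepWith @Smooth g) :
    RepWith @IsOpenImmersion (bcMap f ν f' hn.1 g) ∧ RepWith @QuasiCompact (bcMap f ν f' hn.1 g) := by
  obtain ⟨P, h, fst, sq, h1, h2, h3, h4⟩ := exists_scheme_chart hX hY f hqf hqc hsep hT g
  have hnorm := hUN g hT hg
  rw [normAt_def] at hnorm
  have hsch := isRelNormalization_scheme h
  -- transport to the chosen pullback
  let e : pullback f g ≅ (yon S).obj P := sq.isoPullback.symm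
  have he2 : e.hom ≫ (yon S).map h = pullback.snd f g := sq.isoPullback_inv_snd
  have hsch' : IsRelNormalization (pullback.snd f g) ((yon S).map (fromNormOver h))
      (e.hom ≫ (yon S).map (toNormOver h)) :=
    isRelNormalization_of_iso e (Iso.refl _) (Iso.refl _) (by simp [he2]) (by simp) (by simp) hsch
  have hA : IsAlgSpace (pullback ν g) :=
    isAlgSpace_of_isPullback' hY hY' (IsAlgSpace.yon_obj T) (IsPullback.of_hasPullback ν g)
  obtain ⟨ε, hε1, hε2⟩ := isRelNormalization_unique hA (IsAlgSpace.yon_obj _) hnorm hsch'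
  have hbc : bcMap f ν f' hn.1 g = e.hom ≫ (yon S).map (toNormOver h) ≫ ε.inv := by
    rw [← Category.assoc, ← hε1, Category.assoc, Iso.hom_inv_id, Category.comp_id]
  have hoi : IsOpenImmersion (toNormOver h).left :=
    inferInstanceAs (IsOpenImmersion h.left.toNormalization)
  have hqcn : QuasiCompact (toNormOver h).left :=
    inferInstanceAs (QuasiCompact h.left.toNormalization)
  rw [hbc]
  constructor
  · exact MorphismProperty.RespectsIso.precomp _ _ _
      (MorphismProperty.RespectsIso.postcomp _ _ _ ((repWith_yon_map_iff _ _).2 hoi))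
  · exact MorphismProperty.RespectsIso.precomp _ _ _
      (MorphismProperty.RespectsIso.postcomp _ _ _ ((repWith_yon_map_iff _ _).2 hqcn))

include hX hY hqf hqc hsep in
theorem isQuasiAffineMor_of_lqf_separated : IsQuasiAffineMor f := by
  intro Z hZ g
  obtain ⟨P, h, fst, sq, h1, h2, h3, h4⟩ := exists_scheme_chart hX hY f hqf hqc hsep hZ g
  refine ⟨P, h, fst, sq, ?_⟩
  have hZa : IsAffine Z.left := hZ
  have hNa : IsAffine h.left.normalization := isAffine_of_isAffineHom h.left.fromNormalization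
  have hc : CompactSpace ↥P.left := (HasAffineProperty.iff_of_isAffine (P := @QuasiCompact)).1 h4
  exact Scheme.IsQuasiAffine.of_isImmersion h.left.toNormalization

include hX hY hqf hqc hsep hY' in
theorem main10300_aux (hUN : UN @Smooth f ν f' hn.1) :
    RepWith @IsOpenImmersion f' ∧ IsQuasiCompactMor f' := by
  obtain ⟨U₀, c₀, hc₀e, hc₀s⟩ := hY.atlas
  let κ : Type u := U₀.left.affineOpens
  let U : κ → Over S := fun i => Over.mk (i.1.ι ≫ U₀.hom)
  let ιi : ∀ i, U i ⟶ U₀ := fun i => Over.homMk i.1.ι rfl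
  let ci : ∀ i, (yon S).obj (U i) ⟶ Y := fun i => (yon S).map (ιi i) ≫ c₀
  have hcie : ∀ i, RepWith @Etale (ci i) := fun i =>
    MorphismProperty.comp_mem _ _ _
      ((repWith_yon_map_iff _ _).2 (inferInstanceAs (Etale i.1.ι))) hc₀e
  have hs : ∀ x : Points Y, ∃ (i : κ) (u : ↥(U i).left), Points.ofPt (ci i) u = x := by
    intro x
    obtain ⟨u, rfl⟩ := exists_ofPt_eq c₀ hc₀s x
    obtain ⟨_, ⟨O, hO, rfl⟩, huO, -⟩ := U₀.left.isBasis_affineOpens.exists_subset_of_mem_open
      (Set.mem_univ u) isOpen_univ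
    refine ⟨⟨O, hO⟩, ⟨u, huO⟩, ?_⟩
    rw [SpUC.ofPt_comp_yon_map]
    rfl
  have hprops := fun i : κ => bcMap_props hX hY f hqf hqc hsep hY' ν f' hn hUN
    (T := U i) i.2 (ci i) (repWith_mono etale_le_smooth (hcie i))
  -- the cover of `Y'`
  let Yi : κ → Sp S := fun i => pullback ν (ci i)
  let gi : ∀ i, Yi i ⟶ Y' := fun i => pullback.fst ν (ci i)
  have hYi : ∀ i, IsAlgSpace (Yi i) := fun i =>
    isAlgSpace_of_isPullback' hY hY' (IsAlgSpace.yon_obj _) (IsPullback.of_hasPullback ν (ci i))
  have hgie : ∀ i, RepWith @Etale (gi i) := fun i =>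
    MorphismProperty.of_isPullback (IsPullback.of_hasPullback ν (ci i)).flip (hcie i)
  have hcov : IsFppfCover Yi gi := by
    refine ⟨fun i => ⟨?_, ?_⟩, fun y' => ?_⟩
    · exact locP_of_repWith isEtLocal_flat _
        (repWith_mono (fun _ _ k hk => by have : Etale k := hk; infer_instance) (hgie i))
    · exact locP_of_repWith isEtLocal_locallyOfFinitePresentation _
        (repWith_mono (fun _ _ k hk => by have : Etale k := hk; infer_instance) (hgie i))
    · obtain ⟨i, u, hu⟩ := hs (Points.map ν y')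
      obtain ⟨q, hq1, -⟩ := Points.exists_of_isPullback (IsPullback.of_hasPullback ν (ci i)) y'
        (Points.ofScheme (U i) u) (by rw [← hu, Points.ofPt_eq_map_ofScheme])
      exact ⟨i, q, hq1⟩
  let Xi : κ → Sp S := fun i => pullback f (ci i)
  have hXi : ∀ i, IsAlgSpace (Xi i) := fun i =>
    isAlgSpace_of_isPullback' hY hX (IsAlgSpace.yon_obj _) (IsPullback.of_hasPullback f (ci i))
  have sqi : ∀ i, IsPullback (pullback.fst f (ci i)) (bcMap f ν f' hn.1 (ci i)) f' (gi i) := by
    intro i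
    have right : IsPullback (pullback.fst ν (ci i)) (pullback.snd ν (ci i)) ν (ci i) :=
      IsPullback.of_hasPullback _ _
    have outer : IsPullback (pullback.fst f (ci i))
        (bcMap f ν f' hn.1 (ci i) ≫ pullback.snd ν (ci i)) (f' ≫ ν) (ci i) := by
      rw [bcMap_snd, hn.1]
      exact IsPullback.of_hasPullback _ _
    exact IsPullback.of_bot outer (bcMap_fst f ν f' hn.1 (ci i)).symm right
  constructor
  · exact (Groth.Agent.Lib.Helper27.RepWithComp.isLocalOnBase_fppf_of_fpqc _
      isLocalOnBase_fpqc_repWith_isOpenImmersion Yi gi hY' hYi hcov f' hX Xi _ _ hXi sqi).2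
      (fun i => (hprops i).1)
  · exact (Groth.Agent.Lib.Helper27.RepWithComp.isLocalOnBase_fppf_of_fpqc _
      (Groth.Agent.S10519.result S) Yi gi hY' hYi hcov f' hX Xi _ _ hXi sqi).2
      (fun i => isQuasiCompactMor_of_repWith_quasiCompact _ (hprops i).2)

end zmt

theorem main10300 {X Y Y' : AlgSp.Space S}
    (f : X ⟶ Y) (hqf : AlgSp.LocP (@LocallyQuasiFinite ⊓ @LocallyOfFiniteType) f.hom)
    (hqc : AlgSp.IsQuasiCompactMor f.hom) (hsep : AlgSp.IsSeparatedMor f.hom) (ν : Y' ⟶ Y)
    (f' : X ⟶ Y')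
    (hn : AlgSp.IsRelNormalization f.hom ν.hom f'.hom) :
    AlgSp.RepWith @IsOpenImmersion f'.hom ∧ AlgSp.IsQuasiCompactMor f'.hom ∧
      AlgSp.IsQuasiAffineMor f.hom := by
  have hqs : IsQuasiSeparatedMor f.hom :=
    repWith_mono (fun _ _ k hk => by have : IsClosedImmersion k := hk; infer_instance) hsep
  have hUN := un_of_isRelNormalization Y.property Y'.property f.hom hqc hqs ν.hom f'.hom hn
  obtain ⟨h1, h2⟩ := main10300_aux X.property Y.property f.hom hqf hqc hsep Y'.property ν.hom
    f'.hom hn hUN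
  exact ⟨h1, h2, isQuasiAffineMor_of_lqf_separated X.property Y.property f.hom hqf hqc hsep⟩

end Groth.Agent.Lib.Helper3.RelNorm
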