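import Mathlib.RingTheory.QuasiFinite.Basic
import Mathlib.RingTheory.Finiteness.Descent
import Mathlib.RingTheory.RingHom.QuasiFinite
import Mathlib.RingTheory.RingHom.FaithfullyFlat
import Mathlib.RingTheory.Flat.FaithfullyFlat.Algebra
import Mathlib.AlgebraicGeometry.Morphisms.QuasiFinite
import Mathlib.AlgebraicGeometry.Morphisms.LocalFlatDescent
import Mathlib.AlgebraicGeometry.Morphisms.FlatDescent

set_option autoImplicit false
open TensorProduct

namespace Groth.Agent.Lib.Helper3

attribute [-instance] Module.Free.instFaithfulSMulOfNontrivial Algebra.IsIntegral.isLocalHom in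
theorem quasiFinite_of_baseChange_of_faithfullyFlat {R S A : Type*} [CommRing R] [CommRing S]
    [CommRing A] [Algebra R S] [Algebra R A] [Module.FaithfullyFlat R A]
    [Algebra.QuasiFinite A (A ⊗[R] S)] : Algebra.QuasiFinite R S := by
  refine ⟨fun p hp ↦ ?_⟩
  obtain ⟨P, hP, hPp⟩ := Ideal.exists_isPrime_liesOver_of_faithfullyFlat (B := A) p
  obtain rfl : p = P.under R := hPp.over
  let := Localization.AtPrime.algebraOfLiesOver (P.under R) P
  let e : P.Fiber (A ⊗[R] S) ≃ₐ[P.ResidueField]
      P.ResidueField ⊗[(P.under R).ResidueField] ((P.under R).Fiber S) :=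
    (Algebra.TensorProduct.cancelBaseChange _ _ _ _ _).trans
      (Algebra.TensorProduct.cancelBaseChange _ _ _ _ _).symm
  have h1 : Module.Finite P.ResidueField (P.Fiber (A ⊗[R] S)) := inferInstance
  have h2 : Module.Finite P.ResidueField
      (P.ResidueField ⊗[(P.under R).ResidueField] ((P.under R).Fiber S)) :=
    .of_surjective e.toLinearMap e.surjective
  exact Module.Finite.of_finite_tensorProduct_of_faithfullyFlat P.ResidueField

end Groth.Agent.Lib.Helper3

namespace Groth.Agent.Lib.Helper3

open RingHom in
theorem quasiFinite_codescendsAlong_faithfullyFlat :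
    RingHom.CodescendsAlong RingHom.QuasiFinite RingHom.FaithfullyFlat := by
  refine .mk _ RingHom.QuasiFinite.respectsIso fun R S T _ _ _ _ _ h h' ↦ ?_
  rw [RingHom.quasiFinite_algebraMap] at h' ⊢
  rw [RingHom.faithfullyFlat_algebraMap_iff] at h
  exact quasiFinite_of_baseChange_of_faithfullyFlat (A := S)

open AlgebraicGeometry CategoryTheory MorphismProperty in
instance locallyQuasiFinite_descendsAlong :
    DescendsAlong @LocallyQuasiFinite (@Surjective ⊓ @Flat ⊓ @QuasiCompact) :=
  HasRingHomProperty.descendsAlong_flat quasiFinite_codescendsAlong_faithfullyFlat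

open AlgebraicGeometry CategoryTheory MorphismProperty in
instance locallyQuasiFinite_inf_descendsAlong :
    DescendsAlong (@LocallyQuasiFinite ⊓ @LocallyOfFiniteType)
      (@Surjective ⊓ @Flat ⊓ @QuasiCompact) where
  of_isPullback sq hf h :=
    ⟨of_isPullback_of_descendsAlong (P := @LocallyQuasiFinite) sq hf h.1,
      of_isPullback_of_descendsAlong (P := @LocallyOfFiniteType) sq hf h.2⟩

end Groth.Agent.Lib.Helper3
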