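import Groth.Prelude.Def_AlgSpRep
import Groth.Agent.S9885
import Groth.Agent.Lib.Helper3.QuotRelMain
import Mathlib.CategoryTheory.Sites.RegularEpi
set_option autoImplicit false
universe u
open CategoryTheory CategoryTheory.Limits AlgebraicGeometry Opposite
open AlgSp

namespace Groth.Agent.Lib.Helper3.EtSheaf

variable {S : Scheme.{u}}

variable (S) in
abbrev Jet : GrothendieckTopology (Over S) := QuotSh.J Scheme.etalePrecoverage S

theorem etalePrecoverage_le_fppfPrecoverage :
    Scheme.etalePrecoverage.{u} ≤ Scheme.fppfPrecoverage.{u} :=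
  Scheme.precoverage_mono fun _ _ f hf => by
    have : Etale f := hf
    exact ⟨inferInstance, inferInstance⟩

theorem Jet_le : Jet S ≤ AlgSp.J S := by
  intro T R hR
  change R ∈ (Scheme.fppfTopology.over S) T
  rw [GrothendieckTopology.mem_over_iff] at hR ⊢
  exact Precoverage.toGrothendieck_mono etalePrecoverage_le_fppfPrecoverage _ hR

/-- A sieve containing one etale surjective morphism is covering for the etale topology. -/
theorem mem_Jet_of_etale {U V : Over S} (snd : V ⟶ U) (he : Etale snd.left)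
    (hsu : Surjective snd.left) (R : Sieve U) (h : R snd) : R ∈ Jet S U := by
  change R ∈ (Scheme.etalePrecoverage.toGrothendieck.over S) U
  rw [GrothendieckTopology.mem_over_iff]
  have hmem : Presieve.singleton snd.left ∈ Scheme.etalePrecoverage U.left := by
    rw [Scheme.etalePrecoverage, Scheme.singleton_mem_precoverage_iff]
    exact ⟨hsu.surj, he⟩
  refine GrothendieckTopology.superset_covering _ ?_
    (Precoverage.generate_mem_toGrothendieck hmem)
  rw [Sieve.generate_le_iff]
  rintro Z g ⟨⟩
  rw [Sieve.overEquiv_iff]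
  have : (Over.homMk snd.left : Over.mk (snd.left ≫ U.hom) ⟶ U) =
      (Over.homMk (𝟙 V.left) (by simp) : Over.mk (snd.left ≫ U.hom) ⟶ V) ≫ snd := by
    ext; simp
  rw [this]
  exact R.downward_closed h _

/-- A map of presheaves which is representable etale surjective is locally surjective for the
etale topology. -/
theorem isLocallySurjective_of_relative {G F : PSp S} (p : G ⟶ F)
    (he : (MorphismProperty.inverseImage @Etale (Over.forget S)).relative (pyon S) p)
    (hs : (MorphismProperty.inverseImage @Surjective (Over.forget S)).relative (pyon S) p) :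
    Presheaf.IsLocallySurjective (Jet S) p := by
  constructor
  intro T x
  obtain ⟨T', snd, fst, sq⟩ := he.rep (uliftYonedaEquiv.{u+1}.symm x)
  have h1 : Etale snd.left := he.property _ _ _ sq
  have h2 : Surjective snd.left := hs.property _ _ _ sq
  refine mem_Jet_of_etale snd h1 h2 _ ?_
  refine ⟨uliftYonedaEquiv.{u+1} fst, ?_⟩
  have e1 := uliftYonedaEquiv_comp.{u+1} fst p
  rw [← e1, sq.w]
  have e2 := uliftYonedaEquiv_naturality.{u+1} (uliftYonedaEquiv.{u+1}.symm x) snd.op
  rw [Equiv.apply_symm_apply] at e2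
  exact e2.symm

/-- A representable etale surjective map of fppf sheaves is locally surjective for the etale
topology. -/
theorem isLocallySurjective_et_of_repWith {G H : Sp S} (q : G ⟶ H)
    (he : RepWith @Etale q) (hs : RepWith @Surjective q) :
    Presheaf.IsLocallySurjective (Jet S) q.hom := by
  constructor
  intro T x
  obtain ⟨T', snd, fst, sq⟩ := he.rep ((J S).uliftYonedaEquiv.{u+1}.symm x)
  have h1 : Etale snd.left := he.property _ _ _ sq
  have h2 : Surjective snd.left := hs.property _ _ _ sq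
  refine mem_Jet_of_etale snd h1 h2 _ ?_
  have := Groth.Agent.S9885.imageSieve_of_isPullback q _ fst snd sq.w
  rwa [Equiv.apply_symm_apply] at this

theorem isSheaf_Jet_of_sp (X : Sp S) : Presheaf.IsSheaf (Jet S) X.obj := by
  rw [isSheaf_iff_isSheaf_of_type]
  exact Presieve.isSheaf_of_le _ Jet_le ((isSheaf_iff_isSheaf_of_type _ _).1 X.property)

theorem isEtaleEqvRel_of_isPullback_pyon {F : PSp S} {R U : Over S} (s t : R ⟶ U)
    (p : (pyon S).obj U ⟶ F)
    (he : (MorphismProperty.inverseImage @Etale (Over.forget S)).relative (pyon S) p)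
    (sq : IsPullback ((pyon S).map t) ((pyon S).map s) p p) : IsEtaleEqvRel s t := by
  have key : ∀ (T : Over S) (a b : T ⟶ U), (∃ r : T ⟶ R, r ≫ t = a ∧ r ≫ s = b) ↔
      (pyon S).map a ≫ p = (pyon S).map b ≫ p := by
    intro T a b
    constructor
    · rintro ⟨r, rfl, rfl⟩
      rw [CategoryTheory.Functor.map_comp, CategoryTheory.Functor.map_comp, Category.assoc,
        Category.assoc, sq.w]
    · intro h
      obtain ⟨r, hr⟩ := (pyon S).map_surjective (sq.lift _ _ h)
      refine ⟨r, (pyon S).map_injective ?_, (pyon S).map_injective ?_⟩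
      · rw [CategoryTheory.Functor.map_comp, hr, sq.lift_fst]
      · rw [CategoryTheory.Functor.map_comp, hr, sq.lift_snd]
  refine ⟨⟨?_, ?_⟩, he.property _ _ _ sq, he.property _ _ _ sq.flip⟩
  · intro T r r' h1 h2
    apply (pyon S).map_injective
    apply sq.hom_ext
    · rw [← CategoryTheory.Functor.map_comp, ← CategoryTheory.Functor.map_comp, h1]
    · rw [← CategoryTheory.Functor.map_comp, ← CategoryTheory.Functor.map_comp, h2]
  · intro T
    exact ⟨fun a => (key T a a).2 rfl, fun {a b} h => (key T b a).2 ((key T a b).1 h).symm,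
      fun {a b c} h1 h2 => (key T a c).2 (((key T a b).1 h1).trans ((key T b c).1 h2))⟩

/-- Two etale sheaves receiving effective epimorphisms from the same object with the same kernel
pair are isomorphic. -/
theorem nonempty_iso_of_kernelPair {E : Type*} [Category E] {R U F X : E} (t s : R ⟶ U)
    (p : U ⟶ F) (π : U ⟶ X) [EffectiveEpi p] [EffectiveEpi π]
    (sqF : IsPullback t s p p) (sqX : IsPullback t s π π) : Nonempty (F ≅ X) := by
  have h1 := isColimitCoforkOfEffectiveEpi p sqF.cone sqF.isLimit
  have h2 := isColimitCoforkOfEffectiveEpi π sqX.cone sqX.isLimit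
  exact ⟨h1.coconePointUniqueUpToIso h2⟩

theorem isAlgSpaceP_of_chart (F : PSp S) (h1 : Presheaf.IsSheaf (Jet S) F) (U : Over S)
    (p : (pyon S).obj U ⟶ F)
    (he : (MorphismProperty.inverseImage @Etale (Over.forget S)).relative (pyon S) p)
    (hs : (MorphismProperty.inverseImage @Surjective (Over.forget S)).relative (pyon S) p) :
    IsAlgSpaceP F := by
  obtain ⟨R, s, fst, sq⟩ := he.rep p
  obtain ⟨t, rfl⟩ := (pyon S).map_surjective fst
  have hE := isEtaleEqvRel_of_isPullback_pyon s t p he sq
  obtain ⟨hpres, hX⟩ := QuotRel.isPresentation_and_isAlgSpace s t hE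
  obtain ⟨X, hXeq⟩ : ∃ X : Sp S, X = QuotSh.quot Scheme.fppfPrecoverage s t := ⟨_, rfl⟩
  obtain ⟨π, hπ⟩ : ∃ π : (yon S).obj U ⟶ QuotSh.quot Scheme.fppfPrecoverage s t,
    π = QuotRel.quotMap s t := ⟨_, rfl⟩
  rw [← hπ] at hpres
  let Fe : Sheaf (Jet S) (Type (u+1)) := ⟨F, h1⟩
  let Xe : Sheaf (Jet S) (Type (u+1)) := ⟨_, isSheaf_Jet_of_sp (QuotSh.quot Scheme.fppfPrecoverage s t)⟩
  let Ue : Sheaf (Jet S) (Type (u+1)) := ⟨_, isSheaf_Jet_of_sp ((yon S).obj U)⟩
  let Re : Sheaf (Jet S) (Type (u+1)) := ⟨_, isSheaf_Jet_of_sp ((yon S).obj R)⟩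
  let pe : Ue ⟶ Fe := ⟨p⟩
  let πe : Ue ⟶ Xe := ⟨π.hom⟩
  let te : Re ⟶ Ue := ⟨(pyon S).map t⟩
  let se : Re ⟶ Ue := ⟨(pyon S).map s⟩
  have sqF : IsPullback te se pe pe :=
    IsPullback.of_map (sheafToPresheaf (Jet S) _) (by ext1; exact sq.w) sq
  have sqX : IsPullback te se πe πe :=
    IsPullback.of_map (sheafToPresheaf (Jet S) _) (by ext1; exact congrArg (fun f => f.hom) hpres.isPullback.w)
      (hpres.isPullback.map (sheafToPresheaf (J S) _))
  have hpe : Sheaf.IsLocallySurjective pe := isLocallySurjective_of_relative p he hs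
  have hπe : Sheaf.IsLocallySurjective πe :=
    isLocallySurjective_et_of_repWith π hpres.etale hpres.surjective
  have e1 : Epi pe := inferInstance
  have e2 : Epi πe := inferInstance
  have r1 : IsRegularEpi pe := IsRegularEpiCategory.regularEpiOfEpi pe
  have r2 : IsRegularEpi πe := IsRegularEpiCategory.regularEpiOfEpi πe
  have f1 : EffectiveEpi pe := (isRegularEpi_iff_effectiveEpi pe).1 r1
  have f2 : EffectiveEpi πe := (isRegularEpi_iff_effectiveEpi πe).1 r2
  obtain ⟨e⟩ := nonempty_iso_of_kernelPair te se pe πe sqF sqX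
  have e' : F ≅ (QuotSh.quot Scheme.fppfPrecoverage s t).obj := (sheafToPresheaf (Jet S) _).mapIso e
  exact IsAlgSpaceP.of_iso ((isAlgSpaceP_obj_iff _).2 hX) e'.symm

end Groth.Agent.Lib.Helper3.EtSheaf
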