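import Groth.Agent.Lib.Helper3.SmoothEt6

set_option autoImplicit false
universe u
open CategoryTheory CategoryTheory.Limits AlgebraicGeometry MorphismProperty

namespace Groth.Agent.Lib.Helper3

/-- Each of the seven listed classes of morphisms is etale local on the source-and-target. -/
theorem isEtLocal_of_list (P : MorphismProperty Scheme.{u})
    (hP : P = @LocallyOfFiniteType ∨ P = @LocallyOfFinitePresentation ∨ P = @Flat ∨ P = @Smooth ∨
      P = @Etale ∨
      (∀ ⦃A B : Scheme.{u}⦄ (g : A ⟶ B), P g ↔ (LocallyQuasiFinite g ∧ LocallyOfFiniteType g)) ∨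
      (∀ ⦃A B : Scheme.{u}⦄ (g : A ⟶ B), P g ↔ (LocallyOfFiniteType g ∧ FormallyUnramified g))) :
    IsEtLocal P := by
  rcases hP with rfl | rfl | rfl | rfl | rfl | h | h
  · exact isEtLocal_locallyOfFiniteType
  · exact isEtLocal_locallyOfFinitePresentation
  · exact isEtLocal_flat
  · exact isEtLocal_smooth
  · exact isEtLocal_etale
  · have : P = (@LocallyQuasiFinite ⊓ @LocallyOfFiniteType : MorphismProperty Scheme.{u}) := by
      ext A B g
      exact h g
    rw [this]
    exact isEtLocal_locallyQuasiFinite
  · have : P = (@LocallyOfFiniteType ⊓ @FormallyUnramified : MorphismProperty Scheme.{u}) := by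
      ext A B g
      exact h g
    rw [this]
    exact isEtLocal_unramified

end Groth.Agent.Lib.Helper3
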