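import Groth.Agent.Lib.Helper3.SchImQC4
import Groth.Agent.Lib.Helper3.AlgSpHasAtMor
import Groth.Agent.Lib.Helper3.AlgSpLocSrc2
import Mathlib.AlgebraicGeometry.ValuativeCriterion
set_option autoImplicit false
universe u
open CategoryTheory CategoryTheory.Limits AlgebraicGeometry Opposite AlgSp

namespace Groth.Agent.Lib.Helper3.SchIm

/-- The canonical morphism from the spectrum of a stalk is flat. -/
theorem flat_fromSpecStalk (X : Scheme.{u}) (x : X) : Flat (X.fromSpecStalk x) := by
  obtain ⟨U, hU, hxU, -⟩ := exists_isAffineOpen_mem_and_subset (x := x) (U := ⊤) trivial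
  rw [← hU.fromSpecStalk_eq_fromSpecStalk hxU, IsAffineOpen.fromSpecStalk]
  have : Flat (Spec.map (X.presheaf.germ U x hxU)) := by
    rw [Flat.SpecMap_iff]
    let _ : Algebra Γ(X, U) (X.presheaf.stalk x) :=
      TopCat.Presheaf.algebra_section_stalk X.presheaf ⟨x, hxU⟩
    have hloc : IsLocalization.AtPrime (X.presheaf.stalk x) (hU.primeIdealOf ⟨x, hxU⟩).asIdeal :=
      hU.isLocalization_stalk ⟨x, hxU⟩
    show Module.Flat Γ(X, U) (X.presheaf.stalk x)
    exact IsLocalization.flat _ (hU.primeIdealOf ⟨x, hxU⟩).asIdeal.primeCompl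
  infer_instance

/-- Every point of the target of a quasi-compact scheme theoretically dominant morphism is a
specialisation of a point of the image. -/
theorem exists_specializes_of_schemeTheoreticallyDominant {T V : Scheme.{u}} (h' : T ⟶ V)
    [QuasiCompact h'] [IsSchemeTheoreticallyDominant h'] (v : V) : ∃ t : T, h' t ⤳ v := by
  have hflat : Flat (V.fromSpecStalk v) := flat_fromSpecStalk V v
  have hdom : IsSchemeTheoreticallyDominant (pullback.snd h' (V.fromSpecStalk v)) := inferInstance
  by_contra hne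
  rw [not_exists] at hne
  have hempty : IsEmpty ↥(pullback h' (V.fromSpecStalk v)) := ⟨fun x => by
    apply hne (pullback.fst h' (V.fromSpecStalk v) x)
    have h1 : h' (pullback.fst h' (V.fromSpecStalk v) x) =
        V.fromSpecStalk v (pullback.snd h' (V.fromSpecStalk v) x) := by
      rw [← Scheme.Hom.comp_apply, pullback.condition, Scheme.Hom.comp_apply]
    rw [h1]
    have h2 := Set.mem_range_self (f := V.fromSpecStalk v) (pullback.snd h' (V.fromSpecStalk v) x)
    rw [Scheme.range_fromSpecStalk] at h2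
    exact h2⟩
  have hinj := (pullback.snd h' (V.fromSpecStalk v)).app_injective ⊤
  have hsub : Subsingleton Γ(Spec (V.presheaf.stalk v), ⊤) := hinj.subsingleton
  have hsub2 : Subsingleton (V.presheaf.stalk v) :=
    (Scheme.ΓSpecIso (V.presheaf.stalk v)).commRingCatIsoToRingEquiv.symm.injective.subsingleton
  exact not_subsingleton _ hsub2

open IsLocalRing in
/-- A specialisation of the image of a point is reached by a valuation ring of the residue
field of the point. -/
theorem exists_valuationSubring_of_specializes {W V : Scheme.{u}} (h₀ : W ⟶ V) (w : W) (v : V)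
    (hs : h₀ w ⤳ v) :
    ∃ (A : ValuationSubring (W.residueField w)) (a₀ : Spec (.of A) ⟶ V),
      a₀ (closedPoint A) = v ∧
      W.fromSpecResidueField w ≫ h₀ =
        Spec.map (CommRingCat.ofHom (algebraMap A (W.residueField w))) ≫ a₀ := by
  let φ : V.presheaf.stalk v ⟶ W.residueField w :=
    V.presheaf.stalkSpecializes hs ≫ h₀.stalkMap w ≫ W.residue w
  obtain ⟨A, hA, hA_local⟩ := exists_factor_valuationRing φ.hom
  let ψ : V.presheaf.stalk v ⟶ .of A := CommRingCat.ofHom (φ.hom.codRestrict _ hA)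
  refine ⟨A, Spec.map ψ ≫ V.fromSpecStalk v, ?_, ?_⟩
  · rw [Scheme.Hom.comp_apply]
    have : Spec.map ψ (closedPoint A) = closedPoint (V.presheaf.stalk v) :=
      comap_closedPoint (S := A) (φ.hom.codRestrict A.toSubring hA)
    rw [this, V.fromSpecStalk_closedPoint]
  · rw [Scheme.fromSpecResidueField, Category.assoc, ← Scheme.SpecMap_stalkMap_fromSpecStalk,
      ← Scheme.SpecMap_stalkSpecializes_fromSpecStalk hs]
    simp_rw [← Spec.map_comp_assoc]
    rfl

end Groth.Agent.Lib.Helper3.SchIm

namespace Groth.Agent.Lib.Helper3.SchIm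

variable {S : Scheme.{u}}

/-- Every point of the scheme theoretic image of a quasi-compact morphism is reached by a
valuation ring whose generic point lifts to the source. -/
theorem exists_valuationRing_to_schImage {X Y Z : Space S} (f : X ⟶ Y) (i : Z ⟶ Y)
    (hq : IsQuasiCompactMor f.hom) (hZ : IsSchImage f.hom i.hom) (z : Points Z.obj) :
    ∃ (A : Type u) (_ : CommRing A) (_ : IsDomain A) (_ : ValuationRing A)
      (str : Spec (CommRingCat.of A) ⟶ S)
      (a : (yon S).obj (Over.mk str) ⟶ Z.obj)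
      (x : (yon S).obj (Over.mk (Spec.map (CommRingCat.ofHom
        (algebraMap A (FractionRing A))) ≫ str)) ⟶ X.obj),
      Points.ofPt a (IsLocalRing.closedPoint A) = z ∧
      x ≫ f.hom = (yon S).map (Over.homMk (Spec.map (CommRingCat.ofHom
        (algebraMap A (FractionRing A)))) rfl) ≫ a ≫ i.hom := by
  obtain ⟨R, U, W, s, t, p, hp, e, h, hw, hêe, hês, hqc⟩ := exists_good_chart f hq
  obtain ⟨Z₀, i₀, q₀, hZ₀, sq₀⟩ := isSchImage_of_good_chart f s t p hp e h hw hêe hês
  obtain ⟨ε, hε⟩ := isSchImage_unique Z₀.property Z.property hZ₀ hZ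
  have hq₀s : RepWith @Surjective q₀ := MorphismProperty.of_isPullback sq₀.flip hp.surjective
  obtain ⟨v, hv⟩ := Groth.Agent.Lib.Helper3.exists_ofPt_eq q₀ hq₀s (Points.map ε.inv z)
  have hdom : IsSchemeTheoreticallyDominant h.left.toImage :=
    ImmDesc.isSchemeTheoreticallyDominant_toImage h.left
  have hqc' : QuasiCompact h.left.toImage := by
    have : QuasiCompact (h.left.toImage ≫ h.left.imageι) := by
      rw [h.left.toImage_imageι]; exact hqc
    exact QuasiCompact.of_comp h.left.toImage h.left.imageι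
  obtain ⟨w, hwv⟩ := exists_specializes_of_schemeTheoreticallyDominant h.left.toImage v
  obtain ⟨A, a₀, ha₀, hcomm⟩ := exists_valuationSubring_of_specializes h.left.toImage w v hwv
  let V₀ : Over S := Over.mk (h.left.ker.subschemeι ≫ U.hom)
  let ιV : V₀ ⟶ U := Over.homMk h.left.ker.subschemeι rfl
  let str : Spec (CommRingCat.of A) ⟶ S := a₀ ≫ V₀.hom
  let a₀' : Over.mk str ⟶ V₀ := Over.homMk a₀ rfl
  let K := W.left.residueField w
  let θ : K ≃ₐ[A] FractionRing A := (FractionRing.algEquiv A K).symm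
  have hθ : Spec.map (CommRingCat.ofHom θ.toRingEquiv.toRingHom) ≫
      Spec.map (CommRingCat.ofHom (algebraMap A K)) =
      Spec.map (CommRingCat.ofHom (algebraMap A (FractionRing A))) := by
    rw [← Spec.map_comp]
    congr 1
    ext r
    exact θ.commutes r
  let x₀ : Spec (CommRingCat.of (FractionRing A)) ⟶ W.left :=
    Spec.map (CommRingCat.ofHom θ.toRingEquiv.toRingHom) ≫ W.left.fromSpecResidueField w
  have hx₀ : x₀ ≫ h.left = Spec.map (CommRingCat.ofHom (algebraMap A (FractionRing A))) ≫
      a₀ ≫ h.left.ker.subschemeι := by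
    calc x₀ ≫ h.left = x₀ ≫ (h.left.toImage ≫ h.left.ker.subschemeι) :=
          congrArg (x₀ ≫ ·) h.left.toImage_imageι.symm
      _ = Spec.map (CommRingCat.ofHom θ.toRingEquiv.toRingHom) ≫
          (W.left.fromSpecResidueField w ≫ h.left.toImage) ≫ h.left.ker.subschemeι := by
          simp only [x₀, Category.assoc]
      _ = Spec.map (CommRingCat.ofHom θ.toRingEquiv.toRingHom) ≫
          (Spec.map (CommRingCat.ofHom (algebraMap A K)) ≫ a₀) ≫ h.left.ker.subschemeι := by
          rw [hcomm]
      _ = (Spec.map (CommRingCat.ofHom θ.toRingEquiv.toRingHom) ≫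
          Spec.map (CommRingCat.ofHom (algebraMap A K))) ≫ a₀ ≫ h.left.ker.subschemeι := by
          simp only [Category.assoc]
      _ = _ := by rw [hθ]
  have hx₀S : x₀ ≫ W.hom =
      Spec.map (CommRingCat.ofHom (algebraMap A (FractionRing A))) ≫ str := by
    rw [← Over.w h, ← Category.assoc, hx₀]
    simp only [str, Category.assoc]
    rfl
  let x₀' : Over.mk (Spec.map (CommRingCat.ofHom (algebraMap A (FractionRing A))) ≫ str) ⟶ W :=
    Over.homMk x₀ hx₀S
  let π : Over.mk (Spec.map (CommRingCat.ofHom (algebraMap A (FractionRing A))) ≫ str) ⟶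
      Over.mk str := Over.homMk (Spec.map (CommRingCat.ofHom (algebraMap A (FractionRing A)))) rfl
  have hOver : x₀' ≫ h = π ≫ a₀' ≫ ιV := by
    ext
    exact hx₀
  refine ⟨A, inferInstance, inferInstance, inferInstance, str,
    (yon S).map a₀' ≫ q₀ ≫ ε.hom, (yon S).map x₀' ≫ e, ?_, ?_⟩
  · rw [Points.ofPt_yon_map_comp]
    change Points.ofPt (q₀ ≫ ε.hom) (a₀ (IsLocalRing.closedPoint A)) = z
    rw [ha₀, ← Points.map_ofPt, hv, ← Points.map_comp, Iso.inv_hom_id, Points.map_id]
  · change _ = (yon S).map π ≫ _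
    calc ((yon S).map x₀' ≫ e) ≫ f.hom = (yon S).map x₀' ≫ (e ≫ f.hom) := Category.assoc _ _ _
      _ = (yon S).map x₀' ≫ (yon S).map h ≫ p := by rw [hw]
      _ = (yon S).map (x₀' ≫ h) ≫ p := by rw [Functor.map_comp, Category.assoc]
      _ = (yon S).map (π ≫ a₀' ≫ ιV) ≫ p := by rw [hOver]
      _ = (yon S).map π ≫ (yon S).map a₀' ≫ ((yon S).map ιV ≫ p) := by
          simp only [Functor.map_comp, Category.assoc]
      _ = (yon S).map π ≫ (yon S).map a₀' ≫ (q₀ ≫ i₀.hom) := by rw [sq₀.w]
      _ = (yon S).map π ≫ ((yon S).map a₀' ≫ q₀ ≫ ε.hom) ≫ i.hom := by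
          rw [← hε]; simp only [Category.assoc]

end Groth.Agent.Lib.Helper3.SchIm
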