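import Groth.Agent.Lib.Helper3.ZmtE
import Groth.Agent.Lib.lead.QFDiscSp
import Groth.Agent.S9905
import Groth.Agent.S9922

set_option autoImplicit false
universe u w

namespace Groth.Agent.Lib.Helper3.PropQF

open CategoryTheory CategoryTheory.Limits AlgebraicGeometry Opposite AlgSp
open Groth.Agent.Lib.Helper3

variable {S : Scheme.{u}}

/-- A proper locally quasi-finite morphism of algebraic spaces is finite. -/
theorem isFiniteMor_of_proper_lqf {X Y : Sp S} (hX : IsAlgSpace X) (hY : IsAlgSpace Y) (f : X ⟶ Y)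
    (hsep : IsSeparatedMor f) (hqc : IsQuasiCompactMor f) (huc : IsUnivClosedMor f)
    (hqf : LocP (@LocallyQuasiFinite ⊓ @LocallyOfFiniteType) f) : IsFiniteMor f := by
  have hrep : Representable f := Rep0418.representable_of_lqf_separated hX hY f hqf hsep
  have h1 : RepWith @IsSeparated f := (Groth.Agent.S9905.isSeparatedMor_iff_repWith f hrep).1 hsep
  have h2 : RepWith (@LocallyQuasiFinite ⊓ @LocallyOfFiniteType) f :=
    repWith_of_locP isEtLocal_locallyQuasiFinite hX hY f hrep hqf
  have h3 : RepWith @UniversallyClosed f :=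
    Groth.Agent.S9922.repWith_universallyClosed_of_isUnivClosedMor hrep huc
  intro Z hZ g
  let W : Over S := hrep.pullback g
  let i : W ⟶ Z := hrep.snd g
  have sq : IsPullback (hrep.fst g) ((yon S).map i) f g := hrep.isPullback g
  have hi1 : IsSeparated i.left := h1.property_snd g
  have hi2 : LocallyQuasiFinite i.left := (h2.property_snd g).1
  have hi2' : LocallyOfFiniteType i.left := (h2.property_snd g).2
  have hi3 : UniversallyClosed i.left := h3.property_snd g
  have hWqc : IsQuasiCompactSp ((yon S).obj W) :=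
    hqc (IsAlgSpace.yon_obj Z) (isQuasiCompactSp_yon (by
      have : IsAffine Z.left := hZ
      infer_instance)) g _ _ sq
  have hWc : CompactSpace ↥W.left := compactSpace_of_isQuasiCompactSp_yon hWqc
  have hi4 : QuasiCompact i.left := by
    have : IsAffine Z.left := hZ
    rw [HasAffineProperty.iff_of_isAffine (P := @QuasiCompact)]
    exact hWc
  have hprop : IsProper i.left := {}
  have hfin : IsFinite i.left := IsFinite.of_isProper_of_locallyQuasiFinite i.left
  have : IsAffine Z.left := hZ
  exact ⟨W, i, hrep.fst g, sq, isAffine_of_isAffineHom i.left, hfin⟩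

/-- A finite morphism of algebraic spaces is proper and locally quasi-finite. -/
theorem proper_lqf_of_isFiniteMor {X Y : Sp S} (f : X ⟶ Y) (hf : IsFiniteMor f) :
    IsProperMor f ∧ LocP (@LocallyQuasiFinite ⊓ @LocallyOfFiniteType) f := by
  have h : RepWith @IsFinite f := (isFiniteMor_iff_repWith f).1 hf
  refine ⟨⟨?_, ⟨?_, ?_⟩, ?_⟩, ?_⟩
  · exact (Groth.Agent.S9905.isSeparatedMor_iff_repWith f h.rep).2
      (repWith_mono (fun _ _ g hg => by have : IsFinite g := hg; infer_instance) h)
  · exact locP_of_repWith isEtLocal_locallyOfFiniteType f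
      (repWith_mono (fun _ _ g hg => by have : IsFinite g := hg; infer_instance) h)
  · exact isQuasiCompactMor_of_repWith_quasiCompact f
      (repWith_mono (fun _ _ g hg => by have : IsFinite g := hg; infer_instance) h)
  · exact Groth.Agent.S9922.isUnivClosedMor_of_repWith
      (repWith_mono (fun _ _ g hg => by have : IsFinite g := hg; infer_instance) h)
  · exact locP_of_repWith isEtLocal_locallyQuasiFinite f
      (repWith_mono (fun _ _ g hg => by
        have : IsFinite g := hg
        exact ⟨inferInstance, inferInstance⟩) h)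

theorem discrete_iff {X Y : AlgSp.Space S} (f : X ⟶ Y) (hf : LocP @LocallyOfFiniteType f.hom) :
    LocP (@LocallyQuasiFinite ⊓ @LocallyOfFiniteType) f.hom ↔
      ∀ (k : AlgSp.FieldPt Y.obj) (Xk : AlgSp.Sp S) (fst : Xk ⟶ X.obj)
        (snd : Xk ⟶ (AlgSp.yon S).obj k.pt),
        IsPullback fst snd f.hom k.toHom → DiscreteTopology (AlgSp.Points Xk) := by
  rw [Groth.Agent.Lib.lead.QFDiscSp.main f hf]
  constructor
  · intro H k Xk fst snd sq
    exact H k.K k.str k.toHom Xk fst snd sq
  · intro H k _ str y P fst snd sq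
    let p : FieldPt Y.obj := ⟨k, str, (AlgSp.J S).uliftYonedaEquiv.{u+1} y⟩
    have hp : p.toHom = y := Equiv.symm_apply_apply _ _
    exact H p P fst snd (by rw [hp]; exact sq)

theorem main10649 {X Y : AlgSp.Space S} (f : X ⟶ Y) :
    [AlgSp.IsFiniteMor f.hom,
      AlgSp.IsProperMor f.hom ∧ AlgSp.LocP (@LocallyQuasiFinite ⊓ @LocallyOfFiniteType) f.hom,
      AlgSp.IsProperMor f.hom ∧
        ∀ (k : AlgSp.FieldPt Y.obj) (Xk : AlgSp.Sp S) (fst : Xk ⟶ X.obj) (snd : Xk ⟶ (AlgSp.yon S).obj k.pt),
          IsPullback fst snd f.hom k.toHom → DiscreteTopology (AlgSp.Points Xk),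
      AlgSp.IsUnivClosedMor f.hom ∧ AlgSp.IsSeparatedMor f.hom ∧ AlgSp.LocP @LocallyOfFiniteType f.hom ∧
        ∀ (k : AlgSp.FieldPt Y.obj) (Xk : AlgSp.Sp S) (fst : Xk ⟶ X.obj) (snd : Xk ⟶ (AlgSp.yon S).obj k.pt),
          IsPullback fst snd f.hom k.toHom → DiscreteTopology (AlgSp.Points Xk)].TFAE := by
  tfae_have 1 → 2 := fun h => proper_lqf_of_isFiniteMor f.hom h
  tfae_have 2 → 3 := fun ⟨hp, hq⟩ => ⟨hp, (discrete_iff f hp.2.1.1).1 hq⟩
  tfae_have 3 → 4 := fun ⟨hp, hd⟩ => ⟨hp.2.2, hp.1, hp.2.1.1, hd⟩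
  tfae_have 4 → 1 := by
    rintro ⟨huc, hsep, hlft, hd⟩
    have hq := (discrete_iff f hlft).2 hd
    have hrep : Representable f.hom :=
      Rep0418.representable_of_lqf_separated X.property Y.property f.hom hq hsep
    have h3 : RepWith @UniversallyClosed f.hom :=
      Groth.Agent.S9922.repWith_universallyClosed_of_isUnivClosedMor hrep huc
    have hqc : IsQuasiCompactMor f.hom :=
      isQuasiCompactMor_of_repWith_quasiCompact f.hom
        (repWith_mono (fun _ _ g hg => by have : UniversallyClosed g := hg; infer_instance) h3)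
    exact isFiniteMor_of_proper_lqf X.property Y.property f.hom hsep hqc huc hq
  tfae_finish

end Groth.Agent.Lib.Helper3.PropQF
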