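import Mathlib.AlgebraicGeometry.QuasiAffine
import Mathlib.AlgebraicGeometry.Limits
import Mathlib.CategoryTheory.Extensive
set_option autoImplicit false
universe u
open CategoryTheory CategoryTheory.Limits AlgebraicGeometry Opposite

namespace Groth.Agent.Lib.Helper3.FpqcQAff

/-- Universality of finite coproducts in a finitary extensive category. -/
theorem isColimit_of_isPullback_cofan' {C : Type*} [Category C] [FinitaryExtensive C]
    {ι : Type*} [Finite ι] {Yi Xi : ι → C} (cY : Cofan Yi)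
    (hcY : IsColimit cY) {X' : C} (m : X' ⟶ cY.pt) (a : ∀ i, Xi i ⟶ X') (fi : ∀ i, Xi i ⟶ Yi i)
    (sq : ∀ i, IsPullback (a i) (fi i) m (cY.inj i)) : Nonempty (IsColimit (Cofan.mk X' a)) := by
  have hvk := FinitaryExtensive.isVanKampen_finiteCoproducts hcY
  refine (hvk (Cofan.mk X' a) (Discrete.natTrans fun i => fi i.as) m ?_ (.of_discrete _)).2 ?_
  · apply NatTrans.ext
    funext ⟨i⟩
    exact ((sq i).w).symm
  · rintro ⟨i⟩
    exact sq i

/-- A finite disjoint union of quasi-affine schemes is quasi-affine. -/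
theorem isQuasiAffine_sigma {m : ℕ} (Ej : Fin m → Scheme.{u}) [∀ j, (Ej j).IsQuasiAffine] :
    (∐ Ej).IsQuasiAffine := by
  let A : Fin m → Scheme.{u} := fun j => Spec Γ(Ej j, ⊤)
  have hoi : ∀ j, IsOpenImmersion ((Ej j).toSpecΓ ≫ Sigma.ι A j) := fun j => inferInstance
  have hψ : IsOpenImmersion (Sigma.desc fun j => (Ej j).toSpecΓ ≫ Sigma.ι A j) := by
    refine isOpenImmersion_sigmaDesc _ _ ?_
    intro i j hij
    have := disjoint_opensRange_sigmaι A i j hij
    rw [Function.onFun]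
    refine Set.disjoint_of_subset ?_ ?_ ((disjoint_iff.mpr (by
      have h := disjoint_iff.mp this
      exact congrArg (fun U : (∐ A).Opens => (U : Set ↥(∐ A))) h)) : Disjoint (Set.range (Sigma.ι A i)) (Set.range (Sigma.ι A j)))
    · rintro _ ⟨x, rfl⟩
      exact ⟨(Ej i).toSpecΓ x, by simp⟩
    · rintro _ ⟨x, rfl⟩
      exact ⟨(Ej j).toSpecΓ x, by simp⟩
  have hc : CompactSpace ↥(∐ Ej) := by
    have : Finite (sigmaOpenCover Ej).I₀ := inferInstanceAs (Finite (Fin m))
    have : ∀ i, CompactSpace ((sigmaOpenCover Ej).X i) := fun i =>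
      inferInstanceAs (CompactSpace (Ej i))
    exact (sigmaOpenCover Ej).compactSpace
  exact Scheme.IsQuasiAffine.of_isImmersion (Sigma.desc fun j => (Ej j).toSpecΓ ≫ Sigma.ι A j)

/-- A scheme over a finite coproduct whose pieces are quasi-affine is quasi-affine. -/
theorem isQuasiAffine_of_isPullback_sigma {m : ℕ} (W₀ : Fin m → Scheme.{u}) {E : Scheme.{u}}
    (w : E ⟶ ∐ W₀) (Ej : Fin m → Scheme.{u}) (a : ∀ j, Ej j ⟶ E) (wj : ∀ j, Ej j ⟶ W₀ j)
    (sq : ∀ j, IsPullback (a j) (wj j) w (Sigma.ι W₀ j)) [∀ j, (Ej j).IsQuasiAffine] :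
    E.IsQuasiAffine := by
  obtain ⟨hc⟩ := isColimit_of_isPullback_cofan' (Cofan.mk (∐ W₀) (Sigma.ι W₀))
    (coproductIsCoproduct W₀) w a wj sq
  let e : E ≅ ∐ Ej := hc.coconePointUniqueUpToIso (coproductIsCoproduct Ej)
  have := isQuasiAffine_sigma Ej
  exact Scheme.IsQuasiAffine.of_isAffineHom e.hom

end Groth.Agent.Lib.Helper3.FpqcQAff
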