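import Groth.Agent.Lib.Helper3.FpqcQAffMain
import Groth.Agent.Lib.Helper3.FpqcQAffSigma
import Groth.Agent.Lib.Helper3.FpqcDescSquare
set_option autoImplicit false

universe u
open CategoryTheory CategoryTheory.Limits AlgebraicGeometry Opposite AlgSp

namespace Groth.Agent.Lib.Helper3.FpqcQAff

open Groth.Agent.Lib.Helper3 Groth.Agent.Lib.Helper3.AffDesc Groth.Agent.Lib.Helper3.FpqcDesc

variable {S : Scheme.{u}}

/-- **The fpqc descent square, quasi-affine case.** -/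
theorem exists_quasiAffine_pullback {ι : Type u} {Y : Sp S} (Yi : ι → Sp S) (g : ∀ i, Yi i ⟶ Y)
    (hY : IsAlgSpace Y) (hcov : HasStdRefinement Yi g)
    {X : Sp S} (f : X ⟶ Y) (hX : IsAlgSpace X) (Xi : ι → Sp S) (p : ∀ i, Xi i ⟶ Yi i)
    (qq : ∀ i, Xi i ⟶ X) (sq : ∀ i, IsPullback (qq i) (p i) f (g i))
    (hp : ∀ i, IsQuasiAffineMor (p i)) {Z : Over S} (hZ : IsAffine Z.left)
    (z : (yon S).obj Z ⟶ Y) :
    ∃ (W₀ : Over S) (i : W₀ ⟶ Z) (fst₀ : (yon S).obj W₀ ⟶ X),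
      IsPullback fst₀ ((yon S).map i) f z ∧ W₀.left.IsQuasiAffine := by
  obtain ⟨m, W, c, hWa, hcf, hcs, hl⟩ := hcov Z hZ z
  choose ij l hl using hl
  choose Ej wj fstj sqj hEj using fun j => hp (ij j) (hWa j) (l j)
  have sqE : ∀ j, IsPullback (fstj j ≫ qq (ij j)) ((yon S).map (wj j)) f
      ((yon S).map (c j) ≫ z) := by
    intro j
    rw [← hl j]
    exact (sqj j).paste_horiz (sq (ij j))
  -- the explicit coproduct
  let W₀ : Fin m → Scheme.{u} := fun j => (W j).left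
  let q₀ : (∐ W₀) ⟶ Z.left := Sigma.desc (fun j => (c j).left)
  let V : Over S := Over.mk (q₀ ≫ Z.hom)
  let q : V ⟶ Z := Over.homMk q₀ rfl
  have hι0 : ∀ j, Sigma.ι W₀ j ≫ V.hom = (W j).hom := by
    intro j
    change Sigma.ι W₀ j ≫ q₀ ≫ Z.hom = (W j).hom
    rw [← Category.assoc, Sigma.ι_desc, Over.w]
  let ι' : ∀ j, W j ⟶ V := fun j => Over.homMk (Sigma.ι W₀ j) (hι0 j)
  have : ∀ j, IsAffine (W₀ j) := hWa
  have hV : IsAffine V.left := inferInstanceAs (IsAffine (∐ W₀))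
  have hι : ∀ j, IsOpenImmersion (ι' j).left := fun j => inferInstanceAs
    (IsOpenImmersion (Sigma.ι W₀ j))
  have hιq : ∀ j, ι' j ≫ q = c j := by
    intro j
    ext
    exact Sigma.ι_desc _ _
  have hιcov : ∀ v : ↥V.left, ∃ j, v ∈ Set.range (ι' j).left := by
    intro v
    obtain ⟨j, y, hy⟩ := (sigmaOpenCover W₀).exists_eq v
    exact ⟨j, y, hy⟩
  have hqf : Flat q.left := IsZariskiLocalAtSource.sigmaDesc (P := @Flat) (fun j => hcf j)
  have hqs : Surjective q.left := ⟨fun z' => by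
    obtain ⟨j, y, hy⟩ := hcs z'
    refine ⟨(ι' j).left y, ?_⟩
    rw [← Scheme.Hom.comp_apply, ← Over.comp_left, hιq]
    exact hy⟩
  have sqE' : ∀ k : ULift.{u} (Fin m), IsPullback (fstj k.down ≫ qq (ij k.down))
      ((yon S).map (wj k.down)) f ((yon S).map (ι' k.down) ≫ (yon S).map q ≫ z) := by
    intro k
    rw [← Category.assoc, ← CategoryTheory.Functor.map_comp, hιq]
    exact sqE k.down
  obtain ⟨E, w, fstE, sqEV⟩ := exists_isPullback_of_openCover f ((yon S).map q ≫ z)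
    (κ := ULift.{u} (Fin m)) (fun k => W k.down) (fun k => ι' k.down) (fun k => hι k.down)
    (fun t => by
      obtain ⟨j, hj⟩ := hιcov t
      exact ⟨⟨j⟩, hj⟩)
    (fun k => ⟨Ej k.down, wj k.down, fstj k.down ≫ qq (ij k.down), sqE' k⟩)
  -- the pieces of `E`
  have hpieces : ∀ j, ∃ a : Ej j ⟶ E, IsPullback a.left (wj j).left w.left (Sigma.ι W₀ j) := by
    intro j
    have hw : (fstj j ≫ qq (ij j)) ≫ f =
        ((yon S).map (wj j) ≫ (yon S).map (ι' j)) ≫ (yon S).map q ≫ z := by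
      rw [(sqE' ⟨j⟩).w, Category.assoc]
    let a₀ := sqEV.lift _ _ hw
    have sqa : IsPullback a₀ ((yon S).map (wj j)) ((yon S).map w) ((yon S).map (ι' j)) := by
      refine IsPullback.of_right ?_ (sqEV.lift_snd _ _ hw) sqEV
      rw [sqEV.lift_fst]
      exact sqE' ⟨j⟩
    obtain ⟨a, ha⟩ := (yon S).map_surjective a₀
    rw [← ha] at sqa
    have sqa' : IsPullback a (wj j) w (ι' j) :=
      IsPullback.of_map (yon S) ((yon S).map_injective (by
        simp only [Functor.map_comp]; exact sqa.w)) sqa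
    exact ⟨a, sqa'.map (Over.forget S)⟩
  choose a ha using hpieces
  have hEq : E.left.IsQuasiAffine :=
    isQuasiAffine_of_isPullback_sigma W₀ w.left (fun j => (Ej j).left) (fun j => (a j).left)
      (fun j => (wj j).left) ha
  have hF : IsAlgSpace (pullback f z) :=
    isAlgSpace_of_isPullback' hY hX (IsAlgSpace.yon_obj Z) (IsPullback.of_hasPullback f z)
  have t := IsPullback.of_hasPullback f z
  have sqF := IsPullback.of_right' sqEV t
  obtain ⟨W₁, i, c₀, e, hW₁, he1, he2, sqS⟩ :=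
    exists_quasiAffine_of_fpqc_cover q w hF (pullback.snd f z) _ sqF
  refine ⟨W₁, i, e.hom ≫ pullback.fst f z, ?_, hW₁⟩
  refine IsPullback.of_iso t e.symm (Iso.refl _) (Iso.refl _) (Iso.refl _) ?_ ?_ ?_ ?_
  · simp
  · simp only [Iso.refl_hom, Category.comp_id, Iso.symm_hom]
    rw [← he1, Iso.inv_hom_id_assoc]
  · simp
  · simp

end Groth.Agent.Lib.Helper3.FpqcQAff
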