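import Groth.Agent.Lib.Helper3.AlgSpChartPts
import Groth.Agent.Lib.Helper3.AlgSpZarDecent

set_option autoImplicit false
universe u
open CategoryTheory CategoryTheory.Limits AlgebraicGeometry Opposite

namespace Groth.Agent.Lib.Helper3

variable {S : Scheme.{u}}

open AlgSp

/-- Points of a pullback of schemes over `S` (seen through `yon`). -/
theorem exists_of_eq_of_isPullback_yon {U T W V : Over S} {a : U ⟶ V} {b : T ⟶ V} {pU : W ⟶ U}
    {pT : W ⟶ T}
    (sq : IsPullback ((yon S).map pU) ((yon S).map pT) ((yon S).map a) ((yon S).map b))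
    (u : ↥U.left) (t : ↥T.left) (h : a.left u = b.left t) :
    ∃ w : ↥W.left, pU.left w = u ∧ pT.left w = t := by
  refine exists_of_ofPt_eq_of_isPullback sq u t ?_
  rw [Points.ofPt_eq_map_ofScheme, Points.ofPt_eq_map_ofScheme]
  change Points.map ((yon S).map a) (Points.schemeHomeo U u) =
    Points.map ((yon S).map b) (Points.schemeHomeo T t)
  rw [Points.map_yon_map_apply, Points.map_yon_map_apply, h]

/-- Any morphism out of a scheme with finitely many points is quasi-compact. -/
theorem quasiCompact_of_finite {A B : Scheme.{u}} (f : A ⟶ B) [Finite ↥A] : QuasiCompact f :=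
  ⟨fun _ _ _ => (Set.toFinite _).isCompact⟩

/-- A scheme etale over a field has the discrete topology. -/
theorem discreteTopology_of_etale_field {K : Type u} [Field K] {F : Scheme.{u}}
    (g : F ⟶ Spec (CommRingCat.of K)) [Etale g] : DiscreteTopology ↥F := by
  have := locallyQuasiFinite_of_etale g
  obtain ⟨y⟩ : Nonempty ↥(Spec (CommRingCat.of K)) := ⟨IsLocalRing.closedPoint K⟩
  have hd := g.isDiscrete_preimage_singleton y
  have huniv : g ⁻¹' {y} = Set.univ := by
    refine Set.eq_univ_of_forall fun w => ?_
    have : Subsingleton ↥(Spec (CommRingCat.of K)) :=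
      (inferInstance : Subsingleton (PrimeSpectrum K))
    exact Subsingleton.elim _ _
  rw [huniv] at hd
  exact isDiscrete_univ_iff.1 hd

end Groth.Agent.Lib.Helper3
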