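import Groth.Agent.Lib.Helper3.AlgSpMonoField
import Groth.Agent.Lib.Helper3.AlgSpRelFibre

set_option autoImplicit false
universe u
open CategoryTheory CategoryTheory.Limits AlgebraicGeometry Opposite MorphismProperty

namespace Groth.Agent.Lib.Helper3.DecMono

open Groth.Agent.Lib.Helper3 AlgSp

/-- An etale algebra over a field is reduced. -/
theorem isReduced_of_ringHom_etale {k A : Type u} [Field k] [CommRing A] (ψ : k →+* A)
    (h : ψ.Etale) : IsReduced A := by
  algebraize [ψ]
  exact Algebra.FormallyUnramified.isReduced_of_field k A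

/-- An affine scheme etale over a field is reduced. -/
theorem isReduced_of_etale_field {k : Type u} [Field k] {W : Scheme.{u}} [IsAffine W]
    (g : W ⟶ Spec (CommRingCat.of k)) [Etale g] : IsReduced W := by
  have h1 : (g.appTop.hom).Etale := (HasRingHomProperty.iff_of_isAffine (P := @Etale)).1 ‹_›
  let e : k ≃+* Γ(Spec (CommRingCat.of k), ⊤) :=
    (Scheme.ΓSpecIso (CommRingCat.of k)).symm.commRingCatIsoToRingEquiv
  have h2 : (g.appTop.hom.comp e.toRingHom).Etale := RingHom.Etale.respectsIso.2 _ e h1
  have h3 : IsReduced Γ(W, ⊤) := isReduced_of_ringHom_etale _ h2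
  exact isReduced_of_isAffine_isReduced W

/-- The ring of global sections of a one-point scheme etale over a field is a field. -/
theorem isField_of_etale_field_of_subsingleton {k : Type u} [Field k] {W : Scheme.{u}}
    [Subsingleton W] [Nonempty W] (g : W ⟶ Spec (CommRingCat.of k)) [Etale g] :
    IsField Γ(W, ⊤) := by
  have := isReduced_of_etale_field g
  have : IsIntegral W := (isIntegral_iff_irreducibleSpace_and_isReduced _).mpr
    ⟨⟨inferInstance⟩, inferInstance⟩
  exact isField_of_isIntegral_of_subsingleton W

end Groth.Agent.Lib.Helper3.DecMono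

namespace Groth.Agent.Lib.Helper3.DecMono

open Groth.Agent.Lib.Helper3 AlgSp

/-- A monomorphism from a nonempty scheme to the spectrum of a field is an isomorphism. -/
theorem isIso_of_mono_to_spec_field {L : Type u} [Field L] {Z : Scheme.{u}}
    (i : Z ⟶ Spec (CommRingCat.of L)) [Mono i] [Nonempty Z] : IsIso i := by
  let S' : Scheme.{u} := Spec (CommRingCat.of L)
  let m : Over.mk i ⟶ Over.mk (𝟙 S') := Over.homMk i (by simp)
  have hm : Mono m := Over.mono_of_mono_left _
  have hf : Mono ((yon S').map m) := inferInstance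
  obtain ⟨z⟩ := ‹Nonempty Z›
  have hne : Nonempty (Points ((yon S').obj (Over.mk i))) := ⟨Points.ofScheme (Over.mk i) z⟩
  have hiso : IsIso ((yon S').map m) :=
    isIso_of_mono_to_field (IsAlgSpace.yon_obj _) (𝟙 S') ((yon S').map m) hne
  have hm' : IsIso m := isIso_of_fully_faithful (yon S') m
  have : IsIso ((Over.forget S').map m) := inferInstance
  exact this

end Groth.Agent.Lib.Helper3.DecMono

namespace Groth.Agent.Lib.Helper3.DecMono

open Groth.Agent.Lib.Helper3 AlgSp

/-- A monomorphism from a nonempty scheme to a one-point scheme etale over a field is an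
isomorphism. -/
theorem isIso_of_mono_of_subsingleton_etale {k : Type u} [Field k] {W Z : Scheme.{u}}
    [Subsingleton W] (g : W ⟶ Spec (CommRingCat.of k)) [Etale g] (i : Z ⟶ W) [Mono i]
    [Nonempty Z] : IsIso i := by
  have : Nonempty W := ‹Nonempty Z›.map i
  have hF := isField_of_etale_field_of_subsingleton g
  let _ : Field Γ(W, ⊤) := hF.toField
  have h1 : IsIso (i ≫ W.isoSpec.hom) :=
    isIso_of_mono_to_spec_field (L := Γ(W, ⊤)) (i ≫ W.isoSpec.hom)
  exact IsIso.of_isIso_comp_right i W.isoSpec.hom

/-- A monomorphism of schemes into a scheme etale over a field is an open immersion. -/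
theorem isOpenImmersion_of_mono_of_etale_field {k : Type u} [Field k] {W Z : Scheme.{u}}
    (g : W ⟶ Spec (CommRingCat.of k)) [Etale g] (i : Z ⟶ W) [Mono i] : IsOpenImmersion i := by
  have hd : DiscreteTopology W := discreteTopology_of_etale_field g
  let 𝒰 : W.OpenCover := W.openCoverOfIsOpenCover
    (fun w : W ↦ ⟨{w}, isOpen_discrete _⟩) (.mk (by ext; simp))
  rw [IsZariskiLocalAtTarget.iff_of_openCover (P := @IsOpenImmersion) 𝒰]
  intro w
  change IsOpenImmersion (pullback.snd i (𝒰.f w))
  have : Subsingleton (𝒰.X w) := inferInstanceAs (Subsingleton ({w} : Set W))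
  have : Etale (𝒰.f w ≫ g) := inferInstance
  cases isEmpty_or_nonempty ↥(pullback i (𝒰.f w))
  · infer_instance
  · have : IsIso (pullback.snd i (𝒰.f w)) :=
      isIso_of_mono_of_subsingleton_etale (𝒰.f w ≫ g) (pullback.snd i (𝒰.f w))
    infer_instance

end Groth.Agent.Lib.Helper3.DecMono
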