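import Groth.Agent.Lib.Helper3.FpqcQAffMain
import Groth.Agent.Lib.Helper3.FpqcQAffSigma
import Groth.Agent.Lib.Helper3.FpqcDescSquare
import Groth.Agent.Lib.Helper3.FpqcDescRepWith
set_option autoImplicit false

universe u
open CategoryTheory CategoryTheory.Limits AlgebraicGeometry Opposite AlgSp

namespace Groth.Agent.Lib.Helper3.FpqcQAff

open Groth.Agent.Lib.Helper3 Groth.Agent.Lib.Helper3.AffDesc Groth.Agent.Lib.Helper3.FpqcDesc

variable {S : Scheme.{u}}

/-- **The fpqc descent square, quasi-affine case.** -/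
theorem exists_fpqc_descent_square_qa {ι : Type u} {Y : Sp S} (Yi : ι → Sp S) (g : ∀ i, Yi i ⟶ Y)
    (hY : IsAlgSpace Y) (hcov : HasStdRefinement Yi g)
    {X : Sp S} (f : X ⟶ Y) (hX : IsAlgSpace X) (Xi : ι → Sp S) (p : ∀ i, Xi i ⟶ Yi i)
    (qq : ∀ i, Xi i ⟶ X) (sq : ∀ i, IsPullback (qq i) (p i) f (g i))
    (hp : ∀ i, IsQuasiAffineMor (p i)) {Z : Over S} (hZ : IsAffine Z.left)
    (z : (yon S).obj Z ⟶ Y) :
    ∃ (W₀ V E : Over S) (i : W₀ ⟶ Z) (fst₀ : (yon S).obj W₀ ⟶ X) (q : V ⟶ Z) (w : E ⟶ V)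
      (c : E ⟶ W₀),
      IsPullback fst₀ ((yon S).map i) f z ∧ W₀.left.IsQuasiAffine ∧ IsAffine V.left ∧
      Flat q.left ∧ Surjective q.left ∧ IsPullback c w i q ∧
      ∀ (P : MorphismProperty Scheme.{u}) [IsZariskiLocalAtTarget P],
        (∀ (i : ι) (T : Over S) (l : (yon S).obj T ⟶ Yi i) (E' : Over S) (w' : E' ⟶ T)
          (fst' : (yon S).obj E' ⟶ Xi i), IsAffine T.left →
          IsPullback fst' ((yon S).map w') (p i) l → P w'.left) → P w.left := by
  obtain ⟨m, W, c, hWa, hcf, hcs, hl⟩ := hcov Z hZ z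
  choose ij l hl using hl
  choose Ej wj fstj sqj hEj using fun j => hp (ij j) (hWa j) (l j)
  have sqE : ∀ j, IsPullback (fstj j ≫ qq (ij j)) ((yon S).map (wj j)) f
      ((yon S).map (c j) ≫ z) := by
    intro j
    rw [← hl j]
    exact (sqj j).paste_horiz (sq (ij j))
  -- the explicit coproduct
  let W₀ : Fin m → Scheme.{u} := fun j => (W j).left
  let q₀ : (∐ W₀) ⟶ Z.left := Sigma.desc (fun j => (c j).left)
  let V : Over S := Over.mk (q₀ ≫ Z.hom)
  let q : V ⟶ Z := Over.homMk q₀ rfl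
  have hι0 : ∀ j, Sigma.ι W₀ j ≫ V.hom = (W j).hom := by
    intro j
    change Sigma.ι W₀ j ≫ q₀ ≫ Z.hom = (W j).hom
    rw [← Category.assoc, Sigma.ι_desc, Over.w]
  let ι' : ∀ j, W j ⟶ V := fun j => Over.homMk (Sigma.ι W₀ j) (hι0 j)
  have : ∀ j, IsAffine (W₀ j) := hWa
  have hV : IsAffine V.left := inferInstanceAs (IsAffine (∐ W₀))
  have hι : ∀ j, IsOpenImmersion (ι' j).left := fun j => inferInstanceAs
    (IsOpenImmersion (Sigma.ι W₀ j))
  have hιq : ∀ j, ι' j ≫ q = c j := by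
    intro j
    ext
    exact Sigma.ι_desc _ _
  have hιcov : ∀ v : ↥V.left, ∃ j, v ∈ Set.range (ι' j).left := by
    intro v
    obtain ⟨j, y, hy⟩ := (sigmaOpenCover W₀).exists_eq v
    exact ⟨j, y, hy⟩
  have hqf : Flat q.left := IsZariskiLocalAtSource.sigmaDesc (P := @Flat) (fun j => hcf j)
  have hqs : Surjective q.left := ⟨fun z' => by
    obtain ⟨j, y, hy⟩ := hcs z'
    refine ⟨(ι' j).left y, ?_⟩
    rw [← Scheme.Hom.comp_apply, ← Over.comp_left, hιq]
    exact hy⟩
  have sqE' : ∀ k : ULift.{u} (Fin m), IsPullback (fstj k.down ≫ qq (ij k.down))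
      ((yon S).map (wj k.down)) f ((yon S).map (ι' k.down) ≫ (yon S).map q ≫ z) := by
    intro k
    rw [← Category.assoc, ← CategoryTheory.Functor.map_comp, hιq]
    exact sqE k.down
  obtain ⟨E, w, fstE, sqEV⟩ := exists_isPullback_of_openCover f ((yon S).map q ≫ z)
    (κ := ULift.{u} (Fin m)) (fun k => W k.down) (fun k => ι' k.down) (fun k => hι k.down)
    (fun t => by
      obtain ⟨j, hj⟩ := hιcov t
      exact ⟨⟨j⟩, hj⟩)
    (fun k => ⟨Ej k.down, wj k.down, fstj k.down ≫ qq (ij k.down), sqE' k⟩)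
  have htransfer : ∀ (P : MorphismProperty Scheme.{u}) [IsZariskiLocalAtTarget P],
      (∀ j, P (wj j).left) → P w.left := by
    intro P _ h
    exact prop_of_openCover_pieces P f ((yon S).map q ≫ z) w fstE sqEV
      (fun k : ULift.{u} (Fin m) => W k.down) (fun k => ι' k.down) (fun k => hι k.down)
      (fun t => by
        obtain ⟨j, hj⟩ := hιcov t
        exact ⟨⟨j⟩, hj⟩)
      (fun k => Ej k.down) (fun k => wj k.down) (fun k => fstj k.down ≫ qq (ij k.down)) sqE'
      (fun k => h k.down)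
  -- the pieces of `E`
  have hpieces : ∀ j, ∃ a : Ej j ⟶ E, IsPullback a.left (wj j).left w.left (Sigma.ι W₀ j) := by
    intro j
    have hw : (fstj j ≫ qq (ij j)) ≫ f =
        ((yon S).map (wj j) ≫ (yon S).map (ι' j)) ≫ (yon S).map q ≫ z := by
      rw [(sqE' ⟨j⟩).w, Category.assoc]
    let a₀ := sqEV.lift _ _ hw
    have sqa : IsPullback a₀ ((yon S).map (wj j)) ((yon S).map w) ((yon S).map (ι' j)) := by
      refine IsPullback.of_right ?_ (sqEV.lift_snd _ _ hw) sqEV
      rw [sqEV.lift_fst]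
      exact sqE' ⟨j⟩
    obtain ⟨a, ha⟩ := (yon S).map_surjective a₀
    rw [← ha] at sqa
    have sqa' : IsPullback a (wj j) w (ι' j) :=
      IsPullback.of_map (yon S) ((yon S).map_injective (by
        simp only [Functor.map_comp]; exact sqa.w)) sqa
    exact ⟨a, sqa'.map (Over.forget S)⟩
  choose a ha using hpieces
  have hEq : E.left.IsQuasiAffine :=
    isQuasiAffine_of_isPullback_sigma W₀ w.left (fun j => (Ej j).left) (fun j => (a j).left)
      (fun j => (wj j).left) ha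
  have hF : IsAlgSpace (pullback f z) :=
    isAlgSpace_of_isPullback' hY hX (IsAlgSpace.yon_obj Z) (IsPullback.of_hasPullback f z)
  have t := IsPullback.of_hasPullback f z
  have sqF := IsPullback.of_right' sqEV t
  obtain ⟨W₁, i, c₀, e, hW₁, he1, he2, sqS⟩ :=
    exists_quasiAffine_of_fpqc_cover q w hF (pullback.snd f z) _ sqF
  refine ⟨W₁, V, E, i, e.hom ≫ pullback.fst f z, q, w, c₀, ?_, hW₁, hV, hqf, hqs, sqS, ?_⟩
  · refine IsPullback.of_iso t e.symm (Iso.refl _) (Iso.refl _) (Iso.refl _) ?_ ?_ ?_ ?_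
    · simp
    · simp only [Iso.refl_hom, Category.comp_id, Iso.symm_hom]
      rw [← he1, Iso.inv_hom_id_assoc]
    · simp
    · simp
  · intro P _ hP
    exact htransfer P (fun j => hP (ij j) (W j) (l j) (Ej j) (wj j) (fstj j) (hWa j) (sqj j))

/-- **fpqc locality on the base** of "representable with `P`" for properties `P` of morphisms
with quasi-affine source over affine targets which are Zariski local on the target and satisfy
fpqc descent. -/
theorem isLocalOnBase_fpqc_repWith_qa (P : MorphismProperty Scheme.{u})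
    [P.IsStableUnderBaseChange] [IsZariskiLocalAtTarget P]
    [P.DescendsAlong (@Surjective ⊓ @Flat ⊓ @QuasiCompact)]
    (hle : ∀ {A B : Scheme.{u}} (k : A ⟶ B), P k → IsAffine B → A.IsQuasiAffine) :
    IsLocalOnBase (IsFpqcCover (S := S)) (RepWith P) := by
  intro ι Y Yi g hY hYi hcov X f hX Xi p q hXi sq
  constructor
  · intro hf i
    exact MorphismProperty.of_isPullback (sq i) hf
  · intro hp
    have hpA : ∀ i, IsQuasiAffineMor (p i) := by
      intro i Z hZ l
      obtain ⟨R, s, fst, sqR⟩ := (hp i).1 l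
      exact ⟨R, s, fst, sqR, hle s.left ((hp i).property l fst s sqR) hZ⟩
    have key : ∀ ⦃Z : Over S⦄, IsAffine Z.left → ∀ (z : (yon S).obj Z ⟶ Y),
        ∃ (W₀ : Over S) (i : W₀ ⟶ Z) (fst₀ : (yon S).obj W₀ ⟶ X),
          IsPullback fst₀ ((yon S).map i) f z ∧ P i.left := by
      intro Z hZ z
      obtain ⟨W₀, V, E, i, fst₀, q', w, c, sq₀, hW₀, hV, hqf, hqs, sqS, htr⟩ :=
        exists_fpqc_descent_square_qa Yi g hY hcov.2 f hX Xi p q sq hpA hZ z
      have hw : P w.left := htr P (fun i T l E' w' fst' _ sq' => (hp i).property l fst' w' sq')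
      have sqS' := sqS.map (Over.forget S)
      exact ⟨W₀, i, fst₀, sq₀, @descends_of_isPullback P _ _ _ _ _ hV hZ _ _ _ _ sqS' hqf hqs hw⟩
    refine repWith_of_affine P f (representable_of_affine f ?_) key
    intro Z hZ z
    obtain ⟨W₀, i, fst₀, sq₀, -⟩ := key hZ z
    exact ⟨W₀, i, fst₀, sq₀⟩

end Groth.Agent.Lib.Helper3.FpqcQAff
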