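import Groth.Agent.Lib.Helper3.AlgSpUC
import Mathlib.Topology.Maps.Proper.CompactlyGenerated

set_option autoImplicit false
universe u
open CategoryTheory CategoryTheory.Limits AlgebraicGeometry Opposite MorphismProperty

namespace Groth.Agent.Lib.Helper3

variable {S : Scheme.{u}}

open AlgSp

/-- `UnivSp Q` is stable under base change. -/
theorem univSp_of_isPullback (Q : MorphismProperty (Sp S)) {F G G' F' : Sp S} {f : F ⟶ G}
    {g : G' ⟶ G} {fst : F' ⟶ F} {f' : F' ⟶ G'} (sq : IsPullback fst f' f g) (hf : UnivSp Q f) :
    UnivSp Q f' := by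
  intro Z Z' hZ k a b sq'
  exact hf hZ (k ≫ g) (a ≫ fst) b (sq'.paste_horiz sq)

theorem isUnivClosedMor_of_isPullback {F G G' F' : Sp S} {f : F ⟶ G}
    {g : G' ⟶ G} {fst : F' ⟶ F} {f' : F' ⟶ G'} (sq : IsPullback fst f' f g)
    (hf : IsUnivClosedMor f) : IsUnivClosedMor f' :=
  univSp_of_isPullback _ sq hf

/-- A universally closed morphism from an algebraic space to a scheme has compact fibres on
points. -/
theorem isCompact_fibre_of_isUnivClosedMor {P : Sp S} (hP : IsAlgSpace P) {T : Over S}
    (g : P ⟶ (yon S).obj T) (hg : IsUnivClosedMor g) (y : Points ((yon S).obj T)) :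
    IsCompact (Points.map g ⁻¹' {y}) := by
  obtain ⟨t, rfl⟩ := (Points.schemeHomeo T).surjective y
  let strK : Spec (CommRingCat.of ↥(T.left.residueField t)) ⟶ S :=
    T.left.fromSpecResidueField t ≫ T.hom
  let ι : Over.mk strK ⟶ T := Over.homMk (T.left.fromSpecResidueField t) rfl
  have sq := IsPullback.of_hasPullback g ((yon S).map ι)
  have hPt : IsAlgSpace (pullback g ((yon S).map ι)) :=
    isAlgSpace_of_isPullback' (IsAlgSpace.yon_obj T) hP (IsAlgSpace.yon_obj _) sq
  have hgt : IsUnivClosedMor (pullback.snd g ((yon S).map ι)) :=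
    isUnivClosedMor_of_isPullback sq hg
  have hc : CompactSpace (Points (pullback g ((yon S).map ι))) :=
    compactSpace_points_of_isUnivClosedMor_field hPt strK _ hgt
  have hsub := subsingleton_points_field strK
  have hpt : ∀ w : Points ((yon S).obj (Over.mk strK)),
      Points.map ((yon S).map ι) w = Points.schemeHomeo T t := by
    intro w
    have : w = Points.schemeHomeo (Over.mk strK) (IsLocalRing.closedPoint _) :=
      Subsingleton.elim _ _
    rw [this, Points.map_yon_map_apply]
    congr 1
    exact Scheme.fromSpecResidueField_apply _ _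
  have heq : Points.map g ⁻¹' {Points.schemeHomeo T t} =
      Set.range (Points.map (pullback.fst g ((yon S).map ι))) := by
    ext x
    constructor
    · intro hx
      have hx' : Points.map g x = Points.schemeHomeo T t := hx
      obtain ⟨z, hz, -⟩ := Points.exists_of_isPullback sq x
        (Points.schemeHomeo (Over.mk strK) (IsLocalRing.closedPoint _)) (by rw [hx', hpt])
      exact ⟨z, hz⟩
    · rintro ⟨z, rfl⟩
      change Points.map g (Points.map (pullback.fst g ((yon S).map ι)) z) = _
      rw [← Points.map_comp, sq.w, Points.map_comp, hpt]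
  rw [heq]
  exact isCompact_range (Points.continuous_map _)

/-- A universally closed morphism from an algebraic space to a scheme is proper on points. -/
theorem isProperMap_of_isUnivClosedMor {P : Sp S} (hP : IsAlgSpace P) {T : Over S}
    (g : P ⟶ (yon S).obj T) (hg : IsUnivClosedMor g) : IsProperMap (Points.map g) := by
  rw [isProperMap_iff_isClosedMap_and_compact_fibers]
  refine ⟨Points.continuous_map g, ?_, isCompact_fibre_of_isUnivClosedMor hP g hg⟩
  exact hg (IsAlgSpace.yon_obj T) (𝟙 _) (𝟙 _) g IsPullback.of_id_fst

theorem compactSpace_points_of_isUnivClosedMor {P : Sp S} (hP : IsAlgSpace P) {T : Over S}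
    [CompactSpace ↥T.left] (g : P ⟶ (yon S).obj T) (hg : IsUnivClosedMor g) :
    CompactSpace (Points P) := by
  have : CompactSpace (Points ((yon S).obj T)) := (Points.schemeHomeo T).compactSpace
  have := (isProperMap_of_isUnivClosedMor hP g hg).isCompact_preimage isCompact_univ
  rw [Set.preimage_univ] at this
  exact ⟨this⟩

/-- A universally closed morphism of algebraic spaces is quasi-compact. -/
theorem isQuasiCompactMor_of_isUnivClosedMor {X Y : Sp S} (hX : IsAlgSpace X)
    (hY : IsAlgSpace Y) {f : X ⟶ Y} (hf : IsUnivClosedMor f) : IsQuasiCompactMor f := by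
  refine isQuasiCompactMor_of_forall_affine hX hY.diag f ?_
  intro Z hZ g P fst snd sq
  have hP : IsAlgSpace P := isAlgSpace_of_isPullback' hY hX (IsAlgSpace.yon_obj Z) sq
  have : CompactSpace ↥Z.left := inferInstance
  have := compactSpace_points_of_isUnivClosedMor hP snd (isUnivClosedMor_of_isPullback sq hf)
  exact isQuasiCompactSp_of_compactSpace_points hP

end Groth.Agent.Lib.Helper3
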