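import Groth.Agent.Lib.Helper3.FpqcDescMain
import Groth.Agent.Lib.Helper3.SpCoprod
import Groth.Agent.Lib.Helper3.AlgSpLocP4

set_option autoImplicit false
universe u

namespace Groth.Agent.Lib.Helper3.AffBC

open CategoryTheory CategoryTheory.Limits AlgebraicGeometry TopologicalSpace Opposite AlgSp
open Groth.Agent.Lib.Helper3 Groth.Agent.Lib.Helper3.FpqcDesc

/-- **S16834.** -/
theorem main16834 (k : Type u) [Field k]
    (X : AlgSp.Space (Spec (CommRingCat.of k)))
    (kbar : Type u) [Field kbar] [Algebra k kbar]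
    (T : Over (Spec (CommRingCat.of k))) (hT : IsAffine T.left)
    (e : X.obj ⨯ (AlgSp.yon (Spec (CommRingCat.of k))).obj
        (Over.mk (Spec.map (CommRingCat.ofHom (algebraMap k kbar)))) ≅
      (AlgSp.yon (Spec (CommRingCat.of k))).obj T) :
    ∃ (U : Over (Spec (CommRingCat.of k))), IsAffine U.left ∧
      Nonempty (X.obj ≅ (AlgSp.yon (Spec (CommRingCat.of k))).obj U) := by
  let S : Scheme.{u} := Spec (CommRingCat.of k)
  let K : Over S := Over.mk (Spec.map (CommRingCat.ofHom (algebraMap k kbar)))
  let B : Over S := Over.mk (𝟙 S)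
  have tB : IsTerminal ((yon S).obj B) := SpCoprod.isTerminalYonBase
  let f : X.obj ⟶ (yon S).obj B := tB.from _
  let g : (yon S).obj K ⟶ (yon S).obj B := tB.from _
  let κ : K ⟶ B := Over.homMk K.hom (by simp [B])
  have hgκ : g = (yon S).map κ := tB.hom_ext _ _
  haveI : IsAffine T.left := hT
  haveI : IsAffine K.left := by change IsAffine (Spec (CommRingCat.of kbar)); infer_instance
  haveI : IsAffine B.left := by change IsAffine (Spec (CommRingCat.of k)); infer_instance
  have hflat : Flat K.hom := by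
    change Flat (Spec.map (CommRingCat.ofHom (algebraMap k kbar)))
    rw [HasRingHomProperty.Spec_iff (P := @Flat)]
    rw [CommRingCat.hom_ofHom, RingHom.flat_algebraMap_iff]
    infer_instance
  have hsurjK : Surjective K.hom := by
    constructor
    intro s
    refine ⟨IsLocalRing.closedPoint kbar, ?_⟩
    exact Subsingleton.elim (α := PrimeSpectrum k) _ _
  -- the fpqc covering
  have hcov : IsFpqcCover (fun _ : PUnit.{u + 1} => (yon S).obj K) (fun _ => g) := by
    refine ⟨fun _ => ?_, ?_⟩
    · rw [hgκ]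
      refine locP_of_repWith isEtLocal_flat _ ?_
      rw [repWith_yon_map_iff]
      change Flat K.hom
      exact hflat
    · intro Z hZ h
      haveI : IsAffine Z.left := hZ
      let W : Over S := Over.mk (pullback.fst Z.hom K.hom ≫ Z.hom)
      let c : W ⟶ Z := Over.homMk (pullback.fst Z.hom K.hom) rfl
      let l : W ⟶ K := Over.homMk (pullback.snd Z.hom K.hom) (pullback.condition).symm
      refine ⟨1, fun _ => W, fun _ => c, fun _ => ?_, fun _ => ?_, fun z => ⟨0, ?_⟩,
        fun _ => ⟨PUnit.unit, (yon S).map l, tB.hom_ext _ _⟩⟩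
      · change IsAffine (pullback Z.hom K.hom)
        infer_instance
      · change Flat (pullback.fst Z.hom K.hom)
        infer_instance
      · have : Surjective (pullback.fst Z.hom K.hom) := inferInstance
        exact this.surj z
  -- the base change square
  have sq : IsPullback (prod.fst : X.obj ⨯ (yon S).obj K ⟶ X.obj)
      (prod.snd : X.obj ⨯ (yon S).obj K ⟶ (yon S).obj K) f g :=
    IsPullback.of_is_product (c := BinaryFan.mk prod.fst prod.snd) (prodIsProd _ _) tB
  have hXK : IsAlgSpace (X.obj ⨯ (yon S).obj K) := (IsAlgSpace.yon_obj T).of_iso e.symm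
  obtain ⟨t, ht⟩ := (yon S).map_surjective (e.inv ≫ prod.snd)
  have haff : IsAffineMor (prod.snd : X.obj ⨯ (yon S).obj K ⟶ (yon S).obj K) := by
    rw [isAffineMor_iff_repWith]
    have h1 : RepWith @IsAffineHom ((yon S).map t) := by
      rw [repWith_yon_map_iff]
      infer_instance
    have h2 : (prod.snd : X.obj ⨯ (yon S).obj K ⟶ (yon S).obj K) = e.hom ≫ (yon S).map t := by
      rw [ht, e.hom_inv_id_assoc]
    rw [h2]
    exact (MorphismProperty.cancel_left_of_respectsIso (RepWith @IsAffineHom) e.hom _).2 h1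
  have hloc := isLocalOnBase_fpqc_isAffineMor (S := S)
    (fun _ : PUnit.{u + 1} => (yon S).obj K) (fun _ => g) (IsAlgSpace.yon_obj B)
    (fun _ => IsAlgSpace.yon_obj K) hcov f X.property (fun _ => X.obj ⨯ (yon S).obj K)
    (fun _ => prod.snd) (fun _ => prod.fst) (fun _ => hXK) (fun _ => sq)
  have hf : IsAffineMor f := hloc.2 (fun _ => haff)
  obtain ⟨W, i, fst, sqW, hW⟩ := hf (Z := B) inferInstance (𝟙 _)
  haveI : IsIso fst := sqW.isIso_fst_of_isIso
  exact ⟨W, hW, ⟨(asIso fst).symm⟩⟩

end Groth.Agent.Lib.Helper3.AffBC
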