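import Groth.Prelude.Def_AlgSpCov
import Groth.Agent.Lib.Helper3.SpCoprod3
import Groth.Agent.Lib.Helper3.AlgSpFibre
import Mathlib.CategoryTheory.Sites.LeftExact
import Mathlib.CategoryTheory.Extensive
set_option autoImplicit false
universe u
open CategoryTheory CategoryTheory.Limits AlgebraicGeometry Opposite
open AlgSp

namespace Groth.Agent.Lib.Helper3.AffCrit

variable {S : Scheme.{u}}

/-- Universality of finite coproducts of sheaves. -/
theorem isColimit_of_isPullback_cofan {ι : Type u} [Finite ι] {Yi Xi : ι → Sp S} (cY : Cofan Yi)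
    (hcY : IsColimit cY) {X' : Sp S} (m : X' ⟶ cY.pt) (a : ∀ i, Xi i ⟶ X') (fi : ∀ i, Xi i ⟶ Yi i)
    (sq : ∀ i, IsPullback (a i) (fi i) m (cY.inj i)) : Nonempty (IsColimit (Cofan.mk X' a)) := by
  have hvk := FinitaryExtensive.isVanKampen_finiteCoproducts hcY
  refine (hvk (Cofan.mk X' a) (Discrete.natTrans fun i => fi i.as) m ?_ (.of_discrete _)).2 ?_
  · apply NatTrans.ext
    funext ⟨i⟩
    exact ((sq i).w).symm
  · rintro ⟨i⟩
    exact sq i

/-- finite disjoint unions of affine schemes over a base represent the coproduct of sheaves. -/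
theorem exists_coprod_affine_colimit {Z : Over S} {m : ℕ} (W : Fin m → Over S) (c : ∀ j, W j ⟶ Z)
    (hW : ∀ j, IsAffine (W j).left) :
    ∃ (V : Over S) (q : V ⟶ Z) (ι : ∀ j, W j ⟶ V), IsAffine V.left ∧
      (∀ j, ι j ≫ q = c j) ∧
      (∀ v : ↥V.left, ∃ j, v ∈ Set.range (ι j).left) ∧
      ((∀ j, Flat (c j).left) → Flat q.left) ∧
      Nonempty (IsColimit (Cofan.mk ((yon S).obj V)
        (fun j : ULift.{u} (Fin m) => (yon S).map (ι j.down)))) := by
  let W₀ : Fin m → Scheme.{u} := fun j => (W j).left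
  let q₀ : (∐ W₀) ⟶ Z.left := Sigma.desc (fun j => (c j).left)
  let V : Over S := Over.mk (q₀ ≫ Z.hom)
  let q : V ⟶ Z := Over.homMk q₀ rfl
  have hι : ∀ j, Sigma.ι W₀ j ≫ V.hom = (W j).hom := by
    intro j
    change Sigma.ι W₀ j ≫ q₀ ≫ Z.hom = (W j).hom
    rw [← Category.assoc, Sigma.ι_desc, Over.w]
  let ι : ∀ j, W j ⟶ V := fun j => Over.homMk (Sigma.ι W₀ j) (hι j)
  have : ∀ j, IsAffine (W₀ j) := hW
  refine ⟨V, q, ι, inferInstanceAs (IsAffine (∐ W₀)), fun j => ?_, fun v => ?_, fun hc => ?_, ?_⟩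
  · ext
    exact Sigma.ι_desc _ _
  · obtain ⟨j, y, hy⟩ := (sigmaOpenCover W₀).exists_eq v
    exact ⟨j, y, hy⟩
  · exact IsZariskiLocalAtSource.sigmaDesc (P := @Flat) (fun j => hc j)
  · -- the sheaf coproduct
    let W' : ULift.{u} (Fin m) → Over S := fun i => W i.down
    let c' : Cofan (fun i => (yon S).obj (W' i)) := Cofan.mk (∐ fun i => (yon S).obj (W' i))
      (Sigma.ι fun i => (yon S).obj (W' i))
    have hc' : IsColimit c' := coproductIsCoproduct _
    obtain ⟨G, e, j, hj, -, -⟩ := SpCoprod.exists_iso_yon_of_cofan_yon W' c' hc'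
    let k : V ⟶ G := Over.homMk (Sigma.desc fun i => (j ⟨i⟩).left) (by
      apply Sigma.hom_ext
      intro i
      rw [← Category.assoc, Sigma.ι_desc]
      change (j ⟨i⟩).left ≫ G.hom = Sigma.ι W₀ i ≫ V.hom
      rw [hι i, Over.w (j ⟨i⟩)])
    have hk : ∀ i, ι i ≫ k = j ⟨i⟩ := by
      intro i
      ext
      exact Sigma.ι_desc _ _
    let D : c'.pt ⟶ (yon S).obj V := Cofan.IsColimit.desc hc' (fun i => (yon S).map (ι i.down))
    have hD : ∀ i, c'.inj i ≫ D = (yon S).map (ι i.down) := fun i => Cofan.IsColimit.fac hc' _ i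
    obtain ⟨k', hk'⟩ := (yon S).map_surjective (e.hom ≫ D)
    have hjk' : ∀ i, j i ≫ k' = ι i.down := by
      intro i
      apply (yon S).map_injective
      rw [CategoryTheory.Functor.map_comp, hk', ← Category.assoc, hj, hD]
    have hkk' : k ≫ k' = 𝟙 V := by
      ext
      apply Sigma.hom_ext
      intro i
      have := congrArg (fun φ => φ.left) ((Category.assoc (ι i) k k').symm.trans
        ((congrArg (· ≫ k') (hk i)).trans (hjk' ⟨i⟩)))
      change (ι i ≫ k ≫ k').left = (ι i ≫ 𝟙 V).left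
      rw [Category.comp_id]
      exact this
    have hDk : D ≫ (yon S).map k = e.inv := by
      apply Cofan.IsColimit.hom_ext hc'
      intro i
      rw [← Category.assoc, hD, ← CategoryTheory.Functor.map_comp, hk i.down, ← hj i,
        Category.assoc, e.hom_inv_id, Category.comp_id]
    have hiso : IsIso D := by
      refine ⟨(yon S).map k ≫ e.hom, ?_, ?_⟩
      · rw [← Category.assoc, hDk, e.inv_hom_id]
      · rw [Category.assoc, ← hk', ← CategoryTheory.Functor.map_comp, hkk',
          CategoryTheory.Functor.map_id]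
    refine ⟨IsColimit.ofIsoColimit hc' (Cocone.ext (asIso D) ?_)⟩
    rintro ⟨i⟩
    exact hD i

end Groth.Agent.Lib.Helper3.AffCrit
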