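import Mathlib.RingTheory.Flat.Basic
import Mathlib.RingTheory.TensorProduct.Maps
import Mathlib.Algebra.Algebra.Subalgebra.Basic

set_option autoImplicit false

universe u
open TensorProduct

namespace Groth.Agent.Lib.Helper3.AffDesc

section Ring
variable {A A' B : Type u} [CommRing A] [CommRing A'] [CommRing B] [Algebra A A'] [Algebra A' B]
  [Algebra A B] [IsScalarTower A A' B]

/-- the multiplication map `B ⊗[A] A' → B`, `b ⊗ a' ↦ b * a'`. -/
noncomputable def mulMap : B ⊗[A] A' →ₐ[A] B :=
  Algebra.TensorProduct.productMap (AlgHom.id A B) (IsScalarTower.toAlgHom A A' B)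

@[simp] theorem mulMap_tmul (b : B) (a' : A') :
    mulMap (A := A) (b ⊗ₜ[A] a') = b * algebraMap A' B a' := by
  simp [mulMap]

variable (ρ : B →ₐ[A] B ⊗[A] A')

/-- the descended algebra: the equalizer of the coaction and `b ↦ b ⊗ 1`. -/
noncomputable def descAlg : Subalgebra A B :=
  AlgHom.equalizer ρ (Algebra.TensorProduct.includeLeft : B →ₐ[A] B ⊗[A] A')

theorem mem_descAlg (b : B) : b ∈ descAlg ρ ↔ ρ b = b ⊗ₜ[A] (1 : A') := Iff.rfl

/-- the comparison map `B₀ ⊗[A] A' → B`. -/
noncomputable def descMap : (descAlg ρ) ⊗[A] A' →ₐ[A] B :=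
  Algebra.TensorProduct.productMap (descAlg ρ).val (IsScalarTower.toAlgHom A A' B)

@[simp] theorem descMap_tmul (b : descAlg ρ) (a' : A') :
    descMap ρ (b ⊗ₜ[A] a') = (b : B) * algebraMap A' B a' := by
  simp [descMap]

variable [Module.Flat A A']

theorem descMap_bijective
    (ha : ∀ a' : A', ρ (algebraMap A' B a') = (1 : B) ⊗ₜ[A] a')
    (hb : ∀ b : B, mulMap (ρ b) = b)
    (hc : ∀ b : B, Algebra.TensorProduct.map ρ (AlgHom.id A A') (ρ b) =
      Algebra.TensorProduct.map (Algebra.TensorProduct.includeLeft : B →ₐ[A] B ⊗[A] A')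
        (AlgHom.id A A') (ρ b)) :
    Function.Bijective (descMap ρ) := by
  set ι : descAlg ρ →ₗ[A] B := (descAlg ρ).val.toLinearMap with hι
  have hιinj : Function.Injective (ι.rTensor A') :=
    Module.Flat.rTensor_preserves_injective_linearMap ι Subtype.val_injective
  -- key identity
  have key : ∀ x : (descAlg ρ) ⊗[A] A', ι.rTensor A' x = ρ (descMap ρ x) := by
    intro x
    induction x using TensorProduct.induction_on with
    | zero => simp
    | tmul b a' =>
      rw [LinearMap.rTensor_tmul, descMap_tmul, map_mul, ha]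
      have hbm : ρ (b : B) = (b : B) ⊗ₜ[A] (1 : A') := b.2
      rw [hbm, Algebra.TensorProduct.tmul_mul_tmul, mul_one, one_mul]
      rfl
    | add x y hx hy => rw [map_add, map_add, map_add, hx, hy]
  constructor
  · intro x y hxy
    apply hιinj
    rw [key, key, hxy]
  · intro b
    -- exactness
    let g : B →ₗ[A] B ⊗[A] A' :=
      ρ.toLinearMap - (Algebra.TensorProduct.includeLeft : B →ₐ[A] B ⊗[A] A').toLinearMap
    have hex : Function.Exact ι g := by
      intro y
      constructor
      · intro hy
        have : ρ y = y ⊗ₜ[A] (1 : A') := by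
          have := hy
          simp only [g, LinearMap.sub_apply, AlgHom.toLinearMap_apply, sub_eq_zero] at this
          exact this
        exact ⟨⟨y, this⟩, rfl⟩
      · rintro ⟨z, rfl⟩
        have hz : ρ (z : B) = (z : B) ⊗ₜ[A] (1 : A') := z.2
        simp only [g, LinearMap.sub_apply, AlgHom.toLinearMap_apply, sub_eq_zero]
        exact hz
    have hex' := Module.Flat.rTensor_exact A' hex
    have hmem : g.rTensor A' (ρ b) = 0 := by
      have h1 : ∀ z : B ⊗[A] A', g.rTensor A' z =
          Algebra.TensorProduct.map ρ (AlgHom.id A A') z -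
          Algebra.TensorProduct.map (Algebra.TensorProduct.includeLeft : B →ₐ[A] B ⊗[A] A')
            (AlgHom.id A A') z := by
        intro z
        induction z using TensorProduct.induction_on with
        | zero => simp
        | tmul x y => simp [g, TensorProduct.sub_tmul]
        | add x y hx hy => rw [map_add, map_add, map_add, hx, hy]; abel
      rw [h1, hc, sub_self]
    obtain ⟨x, hx⟩ := (hex' (ρ b)).1 hmem
    refine ⟨x, ?_⟩
    have := key x
    rw [hx] at this
    have h2 := congrArg (mulMap (A := A) (A' := A') (B := B)) this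
    rw [hb, hb] at h2
    exact h2.symm

end Ring

end Groth.Agent.Lib.Helper3.AffDesc
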