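import Groth.Agent.Lib.Helper3.AffDescRing
import Mathlib.Algebra.Category.Ring.Constructions
import Mathlib.RingTheory.RingHom.Flat

set_option autoImplicit false

universe u
open CategoryTheory CategoryTheory.Limits TensorProduct

namespace Groth.Agent.Lib.Helper3.AffDesc

/-- Effective descent of algebras along a flat ring map, in categorical form: a "coaction"
`ρ : B ⟶ B ⊗_A A'` (with `B2 = B ⊗_A A'` and `B3 = B2 ⊗_A A'` given by pushout squares)
satisfying counit and coassociativity descends `B` to an `A`-algebra `B₀`. -/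
theorem exists_isPushout_of_coaction {A A' B B2 B3 : CommRingCat.{u}} (φ : A ⟶ A')
    (hφ : φ.hom.Flat) (β : A' ⟶ B)
    (d₀ : B ⟶ B2) (e₂ : A' ⟶ B2) (h₂ : IsPushout (φ ≫ β) φ d₀ e₂)
    (d₀' : B2 ⟶ B3) (e₃ : A' ⟶ B3) (h₃ : IsPushout ((φ ≫ β) ≫ d₀) φ d₀' e₃)
    (ρ : B ⟶ B2) (ha : β ≫ ρ = e₂)
    (m : B2 ⟶ B) (hm₁ : d₀ ≫ m = 𝟙 B) (hm₂ : e₂ ≫ m = β) (hb : ρ ≫ m = 𝟙 B)
    (r₁ r₂ : B2 ⟶ B3) (hr₁ : d₀ ≫ r₁ = ρ ≫ d₀') (hr₁' : e₂ ≫ r₁ = e₃)
    (hr₂ : d₀ ≫ r₂ = d₀ ≫ d₀') (hr₂' : e₂ ≫ r₂ = e₃)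
    (hc : ρ ≫ r₁ = ρ ≫ r₂) :
    ∃ (B₀ : CommRingCat.{u}) (a₀ : A ⟶ B₀) (incl : B₀ ⟶ B), a₀ ≫ incl = φ ≫ β ∧
      incl ≫ d₀ = incl ≫ ρ ∧ Function.Injective incl.hom ∧ IsPushout a₀ φ incl β := by
  let _ : Algebra A A' := φ.hom.toAlgebra
  let _ : Algebra A' B := β.hom.toAlgebra
  let _ : Algebra A B := (φ ≫ β).hom.toAlgebra
  have : IsScalarTower A A' B := IsScalarTower.of_algebraMap_eq (fun _ => rfl)
  have : Module.Flat A A' := hφ
  have P₂ := CommRingCat.isPushout_tensorProduct A B A'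
  have h₂' : IsPushout (CommRingCat.ofHom (algebraMap A B)) (CommRingCat.ofHom (algebraMap A A'))
      d₀ e₂ := h₂
  let ι₂ := P₂.isoIsPushout _ _ h₂'
  have hι₂l : CommRingCat.ofHom (Algebra.TensorProduct.includeLeftRingHom : B →+* B ⊗[A] A') ≫
      ι₂.hom = d₀ := P₂.inl_isoIsPushout_hom _ _ h₂'
  have hι₂r : CommRingCat.ofHom
      ((Algebra.TensorProduct.includeRight : A' →ₐ[A] B ⊗[A] A').toRingHom) ≫ ι₂.hom = e₂ :=
    P₂.inr_isoIsPushout_hom _ _ h₂'
  have hincr : ∀ a' : A', ι₂.inv.hom (e₂.hom a') = (1 : B) ⊗ₜ[A] a' := by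
    intro a'
    exact congrArg (fun k => k.hom a') (P₂.inr_isoIsPushout_inv _ _ h₂')
  have hincl : ∀ b : B, ι₂.inv.hom (d₀.hom b) = b ⊗ₜ[A] (1 : A') := by
    intro b
    exact congrArg (fun k => k.hom b) (P₂.inl_isoIsPushout_inv _ _ h₂')
  have hinvinj : Function.Injective ι₂.inv.hom := by
    intro x y hxy
    have := congrArg ι₂.hom.hom hxy
    have e1 : ∀ z, ι₂.hom.hom (ι₂.inv.hom z) = z := fun z =>
      congrArg (fun k => k.hom z) ι₂.inv_hom_id
    rwa [e1, e1] at this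
  have hhominv : ∀ z, ι₂.hom.hom (ι₂.inv.hom z) = z := fun z =>
    congrArg (fun k => k.hom z) ι₂.inv_hom_id
  let ρ₀ : B →+* B ⊗[A] A' := (ρ ≫ ι₂.inv).hom
  have hρ₀ : ∀ b, ρ₀ b = ι₂.inv.hom (ρ.hom b) := fun b => rfl
  have hcomm : ∀ a : A, ρ₀ (algebraMap A B a) = algebraMap A (B ⊗[A] A') a := by
    intro a
    rw [hρ₀]
    have h1 : ρ.hom (algebraMap A B a) = e₂.hom (φ.hom a) :=
      congrArg (fun k => k.hom (φ.hom a)) ha
    rw [h1, hincr, Algebra.TensorProduct.algebraMap_apply]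
    change (1 : B) ⊗ₜ[A] (algebraMap A A' a) = (algebraMap A B a) ⊗ₜ[A] (1 : A')
    rw [Algebra.algebraMap_eq_smul_one, Algebra.algebraMap_eq_smul_one, TensorProduct.tmul_smul,
      TensorProduct.smul_tmul']
  let ρ' : B →ₐ[A] B ⊗[A] A' := ⟨ρ₀, hcomm⟩
  have hρ' : ∀ b, ρ' b = ι₂.inv.hom (ρ.hom b) := fun b => rfl
  -- (a)
  have ha' : ∀ a' : A', ρ' (algebraMap A' B a') = (1 : B) ⊗ₜ[A] a' := by
    intro a'
    rw [hρ']
    have h1 : ρ.hom (algebraMap A' B a') = e₂.hom a' := congrArg (fun k => k.hom a') ha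
    rw [h1, hincr]
  -- (b)
  have hb' : ∀ b : B, mulMap (ρ' b) = b := by
    have h1 : ι₂.inv ≫ CommRingCat.ofHom (mulMap (A := A) (A' := A') (B := B)).toRingHom = m := by
      apply h₂'.hom_ext
      · rw [← Category.assoc, P₂.inl_isoIsPushout_inv _ _ h₂', hm₁]
        ext b
        change mulMap (A := A) (A' := A') (B := B) (b ⊗ₜ[A] (1 : A')) = b
        simp
      · rw [← Category.assoc, P₂.inr_isoIsPushout_inv _ _ h₂', hm₂]
        ext a'
        change mulMap (A := A) (A' := A') (B := B) ((1 : B) ⊗ₜ[A] a') = algebraMap A' B a'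
        simp
    intro b
    rw [hρ']
    have h2 := congrArg (fun k => k.hom (ρ.hom b)) h1
    have h3 := congrArg (fun k => k.hom b) hb
    exact h2.trans h3
  -- (c)
  have P₃ := CommRingCat.isPushout_tensorProduct A (B ⊗[A] A') A'
  have h₃' : IsPushout (CommRingCat.ofHom (algebraMap A (B ⊗[A] A')))
      (CommRingCat.ofHom (algebraMap A A')) (ι₂.hom ≫ d₀') e₃ := by
    refine IsPushout.of_iso h₃ (Iso.refl A) ι₂.symm (Iso.refl A') (Iso.refl B3) ?_ ?_ ?_ ?_
    · simp only [Iso.symm_hom, Iso.refl_hom, Category.id_comp, Category.assoc]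
      rw [P₂.inl_isoIsPushout_inv _ _ h₂']
      ext a
      change (algebraMap A B a) ⊗ₜ[A] (1 : A') = algebraMap A (B ⊗[A] A') a
      rw [Algebra.TensorProduct.algebraMap_apply]
    · simp only [Iso.refl_hom, Category.comp_id, Category.id_comp]
      rfl
    · simp
    · simp
  let ι₃ := P₃.isoIsPushout _ _ h₃'
  have hι₃inj : Function.Injective ι₃.hom.hom := by
    intro x y hxy
    have := congrArg ι₃.inv.hom hxy
    have e1 : ∀ z, ι₃.inv.hom (ι₃.hom.hom z) = z := fun z =>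
      congrArg (fun k => k.hom z) ι₃.hom_inv_id
    rwa [e1, e1] at this
  have hR₁ : CommRingCat.ofHom (Algebra.TensorProduct.map ρ' (AlgHom.id A A')).toRingHom ≫ ι₃.hom =
      ι₂.hom ≫ r₁ := by
    apply P₂.hom_ext
    · have e1 : CommRingCat.ofHom (Algebra.TensorProduct.includeLeftRingHom : B →+* B ⊗[A] A') ≫
          CommRingCat.ofHom (Algebra.TensorProduct.map ρ' (AlgHom.id A A')).toRingHom =
          (ρ ≫ ι₂.inv) ≫ CommRingCat.ofHom (Algebra.TensorProduct.includeLeftRingHom :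
            (B ⊗[A] A') →+* (B ⊗[A] A') ⊗[A] A') := by
        ext b
        change Algebra.TensorProduct.map ρ' (AlgHom.id A A') (b ⊗ₜ[A] (1 : A')) =
          (ρ' b) ⊗ₜ[A] (1 : A')
        simp
      rw [← Category.assoc, e1, Category.assoc, Category.assoc, P₃.inl_isoIsPushout_hom _ _ h₃',
        Iso.inv_hom_id_assoc, ← Category.assoc, hι₂l, hr₁]
    · have e1 : CommRingCat.ofHom
          ((Algebra.TensorProduct.includeRight : A' →ₐ[A] B ⊗[A] A').toRingHom) ≫
          CommRingCat.ofHom (Algebra.TensorProduct.map ρ' (AlgHom.id A A')).toRingHom =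
          CommRingCat.ofHom ((Algebra.TensorProduct.includeRight :
            A' →ₐ[A] (B ⊗[A] A') ⊗[A] A').toRingHom) := by
        ext a'
        change Algebra.TensorProduct.map ρ' (AlgHom.id A A') ((1 : B) ⊗ₜ[A] a') =
          (1 : B ⊗[A] A') ⊗ₜ[A] a'
        simp
      rw [← Category.assoc, e1, P₃.inr_isoIsPushout_hom _ _ h₃', ← Category.assoc, hι₂r, hr₁']
  have hR₂ : CommRingCat.ofHom (Algebra.TensorProduct.map
      (Algebra.TensorProduct.includeLeft : B →ₐ[A] B ⊗[A] A') (AlgHom.id A A')).toRingHom ≫ ι₃.hom =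
      ι₂.hom ≫ r₂ := by
    apply P₂.hom_ext
    · have e1 : CommRingCat.ofHom (Algebra.TensorProduct.includeLeftRingHom : B →+* B ⊗[A] A') ≫
          CommRingCat.ofHom (Algebra.TensorProduct.map
            (Algebra.TensorProduct.includeLeft : B →ₐ[A] B ⊗[A] A') (AlgHom.id A A')).toRingHom =
          CommRingCat.ofHom (Algebra.TensorProduct.includeLeftRingHom : B →+* B ⊗[A] A') ≫
            CommRingCat.ofHom (Algebra.TensorProduct.includeLeftRingHom :
            (B ⊗[A] A') →+* (B ⊗[A] A') ⊗[A] A') := by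
        ext b
        change Algebra.TensorProduct.map
          (Algebra.TensorProduct.includeLeft : B →ₐ[A] B ⊗[A] A') (AlgHom.id A A')
          (b ⊗ₜ[A] (1 : A')) = (b ⊗ₜ[A] (1 : A')) ⊗ₜ[A] (1 : A')
        simp
      rw [← Category.assoc, e1, Category.assoc, P₃.inl_isoIsPushout_hom _ _ h₃',
        ← Category.assoc, hι₂l, ← Category.assoc, hι₂l, hr₂]
    · have e1 : CommRingCat.ofHom
          ((Algebra.TensorProduct.includeRight : A' →ₐ[A] B ⊗[A] A').toRingHom) ≫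
          CommRingCat.ofHom (Algebra.TensorProduct.map
            (Algebra.TensorProduct.includeLeft : B →ₐ[A] B ⊗[A] A') (AlgHom.id A A')).toRingHom =
          CommRingCat.ofHom ((Algebra.TensorProduct.includeRight :
            A' →ₐ[A] (B ⊗[A] A') ⊗[A] A').toRingHom) := by
        ext a'
        change Algebra.TensorProduct.map
          (Algebra.TensorProduct.includeLeft : B →ₐ[A] B ⊗[A] A') (AlgHom.id A A')
          ((1 : B) ⊗ₜ[A] a') = (1 : B ⊗[A] A') ⊗ₜ[A] a'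
        simp [Algebra.TensorProduct.one_def]
      rw [← Category.assoc, e1, P₃.inr_isoIsPushout_hom _ _ h₃', ← Category.assoc, hι₂r, hr₂']
  have hc' : ∀ b : B, Algebra.TensorProduct.map ρ' (AlgHom.id A A') (ρ' b) =
      Algebra.TensorProduct.map (Algebra.TensorProduct.includeLeft : B →ₐ[A] B ⊗[A] A')
        (AlgHom.id A A') (ρ' b) := by
    intro b
    apply hι₃inj
    have h1 := congrArg (fun k => k.hom (ρ' b)) hR₁
    have h2 := congrArg (fun k => k.hom (ρ' b)) hR₂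
    have h3 := congrArg (fun k => k.hom b) hc
    have h4 : ι₂.hom.hom (ρ' b) = ρ.hom b := by rw [hρ', hhominv]
    refine h1.trans (Eq.trans ?_ h2.symm)
    change r₁.hom (ι₂.hom.hom (ρ' b)) = r₂.hom (ι₂.hom.hom (ρ' b))
    rw [h4]
    exact h3
  have hbij := descMap_bijective ρ' ha' hb' hc'
  let E : CommRingCat.of ((descAlg ρ') ⊗[A] A') ≅ B :=
    (RingEquiv.ofBijective (descMap ρ').toRingHom hbij).toCommRingCatIso
  have P₀ := CommRingCat.isPushout_tensorProduct A (descAlg ρ') A'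
  refine ⟨CommRingCat.of (descAlg ρ'), CommRingCat.ofHom (algebraMap A (descAlg ρ')),
    CommRingCat.ofHom (descAlg ρ').val.toRingHom, ?_, ?_, ?_, ?_⟩
  · ext a
    rfl
  · ext b
    apply hinvinj
    change ι₂.inv.hom (d₀.hom (b : B)) = ι₂.inv.hom (ρ.hom (b : B))
    rw [hincl, ← hρ']
    exact b.2.symm
  · exact Subtype.val_injective
  · refine IsPushout.of_iso P₀ (Iso.refl _) (Iso.refl _) (Iso.refl _) E ?_ ?_ ?_ ?_
    · simp
    · simp only [Iso.refl_hom, Category.comp_id, Category.id_comp]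
      rfl
    · simp only [Iso.refl_hom, Category.id_comp]
      ext b
      change descMap ρ' (b ⊗ₜ[A] (1 : A')) = (b : B)
      simp
    · simp only [Iso.refl_hom, Category.id_comp]
      ext a'
      change descMap ρ' ((1 : descAlg ρ') ⊗ₜ[A] a') = algebraMap A' B a'
      simp

end Groth.Agent.Lib.Helper3.AffDesc
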