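import Groth.Agent.Lib.Helper3.AffDescRing
import Groth.Agent.Lib.Helper3.AlgSpEpiDescent
import Mathlib.CategoryTheory.Sites.RegularEpi

set_option autoImplicit false

universe u
open CategoryTheory CategoryTheory.Limits AlgebraicGeometry Opposite TensorProduct

namespace Groth.Agent.Lib.Helper3.AffDesc

variable {S : Scheme.{u}} {A : Type u} [CommRing A] (sZ : Spec (CommRingCat.of A) ⟶ S)

/-- `Spec` of an `A`-algebra, as an object over `S` through `sZ : Spec A ⟶ S`. -/
noncomputable def specA (R : Type u) [CommRing R] [Algebra A R] : Over S :=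
  Over.mk (Spec.map (CommRingCat.ofHom (algebraMap A R)) ≫ sZ)

instance (R : Type u) [CommRing R] [Algebra A R] : IsAffine (specA sZ R).left := by
  change IsAffine (Spec (CommRingCat.of R))
  infer_instance

variable {R R' R'' : Type u} [CommRing R] [CommRing R'] [CommRing R''] [Algebra A R]
  [Algebra A R'] [Algebra A R'']

/-- the morphism over `S` induced by a morphism of `A`-algebras. -/
noncomputable def specMap (φ : R →ₐ[A] R') : specA sZ R' ⟶ specA sZ R :=
  Over.homMk (Spec.map (CommRingCat.ofHom φ.toRingHom)) (by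
    change Spec.map (CommRingCat.ofHom φ.toRingHom) ≫
      Spec.map (CommRingCat.ofHom (algebraMap A R)) ≫ sZ =
      Spec.map (CommRingCat.ofHom (algebraMap A R')) ≫ sZ
    rw [← Spec.map_comp_assoc, ← CommRingCat.ofHom_comp]
    congr 3
    exact φ.comp_algebraMap)

@[simp] theorem specMap_left (φ : R →ₐ[A] R') :
    (specMap sZ φ).left = Spec.map (CommRingCat.ofHom φ.toRingHom) := rfl

/-- the structure morphism to `Spec A`. -/
noncomputable def toBase (R : Type u) [CommRing R] [Algebra A R] : specA sZ R ⟶ Over.mk sZ :=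
  Over.homMk (Spec.map (CommRingCat.ofHom (algebraMap A R))) rfl

@[simp] theorem toBase_left (R : Type u) [CommRing R] [Algebra A R] :
    (toBase sZ R).left = Spec.map (CommRingCat.ofHom (algebraMap A R)) := rfl

theorem specMap_comp (φ : R →ₐ[A] R') (ψ : R' →ₐ[A] R'') :
    specMap sZ (ψ.comp φ) = specMap sZ ψ ≫ specMap sZ φ := by
  apply Over.OverMorphism.ext
  change Spec.map (CommRingCat.ofHom (ψ.comp φ).toRingHom) =
    Spec.map (CommRingCat.ofHom ψ.toRingHom) ≫ Spec.map (CommRingCat.ofHom φ.toRingHom)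
  rw [← Spec.map_comp, ← CommRingCat.ofHom_comp]
  rfl

theorem specMap_id : specMap sZ (AlgHom.id A R) = 𝟙 _ := by
  apply Over.OverMorphism.ext
  change Spec.map (CommRingCat.ofHom (AlgHom.id A R).toRingHom) = 𝟙 _
  exact Spec.map_id _

@[reassoc (attr := simp)]
theorem specMap_toBase (φ : R →ₐ[A] R') : specMap sZ φ ≫ toBase sZ R = toBase sZ R' := by
  apply Over.OverMorphism.ext
  change Spec.map (CommRingCat.ofHom φ.toRingHom) ≫
    Spec.map (CommRingCat.ofHom (algebraMap A R)) = Spec.map (CommRingCat.ofHom (algebraMap A R'))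
  rw [← Spec.map_comp, ← CommRingCat.ofHom_comp]
  congr 2
  exact φ.comp_algebraMap

theorem specMap_injective {φ ψ : R →ₐ[A] R'} (h : specMap sZ φ = specMap sZ ψ) : φ = ψ := by
  have h1 : Spec.map (CommRingCat.ofHom φ.toRingHom) = Spec.map (CommRingCat.ofHom ψ.toRingHom) :=
    congrArg (fun k => k.left) h
  have h2 := Spec.map_injective h1
  have h3 : φ.toRingHom = ψ.toRingHom := by
    have := congrArg (fun k => k.hom) h2
    exact this
  ext x
  exact congrArg (fun k => k x) h3

theorem exists_specMap_eq (g : specA sZ R' ⟶ specA sZ R)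
    (hg : g ≫ toBase sZ R = toBase sZ R') : ∃ φ : R →ₐ[A] R', specMap sZ φ = g := by
  let gl : Spec (CommRingCat.of R') ⟶ Spec (CommRingCat.of R) := g.left
  have hl : gl ≫ Spec.map (CommRingCat.ofHom (algebraMap A R)) =
      Spec.map (CommRingCat.ofHom (algebraMap A R')) := congrArg (fun k => k.left) hg
  let φ₀ : CommRingCat.of R ⟶ CommRingCat.of R' := Spec.preimage gl
  have hφ₀ : Spec.map φ₀ = gl := Spec.map_preimage _
  have hcomm : φ₀.hom.comp (algebraMap A R) = algebraMap A R' := by
    rw [← hφ₀, ← Spec.map_comp] at hl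
    have := Spec.map_injective hl
    have := congrArg (fun k => k.hom) this
    exact this
  refine ⟨⟨φ₀.hom, fun a => congrArg (fun k => k a) hcomm⟩, ?_⟩
  apply Over.OverMorphism.ext
  exact hφ₀

/-- the basic cartesian square. -/
theorem isPullback_tensor (R R' : Type u) [CommRing R] [CommRing R'] [Algebra A R] [Algebra A R'] :
    IsPullback (specMap sZ (Algebra.TensorProduct.includeLeft : R →ₐ[A] R ⊗[A] R'))
      (specMap sZ (Algebra.TensorProduct.includeRight : R' →ₐ[A] R ⊗[A] R'))
      (toBase sZ R) (toBase sZ R') := by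
  refine IsPullback.of_map (Over.forget S) ?_ ?_
  · rw [specMap_toBase, specMap_toBase]
  · exact isPullback_SpecMap_of_isPushout _ _ _ _ (CommRingCat.isPushout_tensorProduct A R R')

end Groth.Agent.Lib.Helper3.AffDesc
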