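import Mathlib.AlgebraicGeometry.Morphisms.FiniteType
import Mathlib.RingTheory.Jacobson.Ring
import Mathlib.FieldTheory.IsAlgClosed.Basic
import Mathlib.AlgebraicGeometry.AffineScheme

set_option autoImplicit false
universe u
open CategoryTheory CategoryTheory.Limits AlgebraicGeometry MorphismProperty

namespace Groth.Agent.Lib.Helper3

/-- A nonempty scheme locally of finite type over an algebraically closed field has a rational
point. -/
theorem exists_section_of_lft_algClosed (k : Type u) [Field k] [IsAlgClosed k] {U : Scheme.{u}}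
    (g : U ⟶ Spec (CommRingCat.of k)) [LocallyOfFiniteType g] (u : U) :
    ∃ σ : Spec (CommRingCat.of k) ⟶ U, σ ≫ g = 𝟙 _ := by
  obtain ⟨U₀, hU₀, hu⟩ : ∃ U₀ : U.Opens, IsAffineOpen U₀ ∧ u ∈ U₀ := by
    obtain ⟨_, ⟨U₀, hU₀, rfl⟩, hu, -⟩ :=
      U.isBasis_affineOpens.exists_subset_of_mem_open (Set.mem_univ u) isOpen_univ
    exact ⟨U₀, hU₀, hu⟩
  have hle : U₀ ≤ g ⁻¹ᵁ ⊤ := le_top
  have hft : (g.appLE ⊤ U₀ hle).hom.FiniteType :=
    HasRingHomProperty.appLE (P := @LocallyOfFiniteType) g inferInstance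
      ⟨⊤, isAffineOpen_top _⟩ ⟨U₀, hU₀⟩ hle
  let ψ : CommRingCat.of k ⟶ Γ(U, U₀) :=
    (Scheme.ΓSpecIso (CommRingCat.of k)).inv ≫ g.appLE ⊤ U₀ hle
  have hψ : ψ.hom.FiniteType := by
    have h1 : ((Scheme.ΓSpecIso (CommRingCat.of k)).inv).hom.FiniteType :=
      RingHom.FiniteType.of_surjective _
        (Scheme.ΓSpecIso (CommRingCat.of k)).symm.commRingCatIsoToRingEquiv.surjective
    exact hft.comp h1
  let p := hU₀.primeIdealOf ⟨u, hu⟩
  obtain ⟨m, hm, hpm⟩ := Ideal.exists_le_maximal p.asIdeal p.2.ne_top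
  algebraize [ψ.hom]
  letI : Field (Γ(U, U₀) ⧸ m) := Ideal.Quotient.field m
  have hft2 : Algebra.FiniteType k (Γ(U, U₀) ⧸ m) :=
    Algebra.FiniteType.of_surjective (Ideal.Quotient.mkₐ k m) (Ideal.Quotient.mkₐ_surjective k m)
  have hfin : Module.Finite k (Γ(U, U₀) ⧸ m) := finite_of_finite_type_of_isJacobsonRing k _
  have hbij : Function.Bijective (algebraMap k (Γ(U, U₀) ⧸ m)) :=
    IsAlgClosed.algebraMap_bijective_of_isIntegral
  let e : k ≃+* (Γ(U, U₀) ⧸ m) := RingEquiv.ofBijective (algebraMap k (Γ(U, U₀) ⧸ m)) hbij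
  let χ : Γ(U, U₀) →+* k := (e.symm : (Γ(U, U₀) ⧸ m) →+* k).comp (Ideal.Quotient.mk m)
  have hχψ : ∀ a : k, χ (ψ.hom a) = a := by
    intro a
    change e.symm (Ideal.Quotient.mk m (algebraMap k Γ(U, U₀) a)) = a
    rw [RingEquiv.symm_apply_eq]
    rfl
  refine ⟨Spec.map (CommRingCat.ofHom χ) ≫ hU₀.fromSpec, ?_⟩
  rw [Category.assoc, ← IsAffineOpen.SpecMap_appLE_fromSpec g (isAffineOpen_top _) hU₀ hle,
    IsAffineOpen.fromSpec_top, Scheme.isoSpec_Spec_inv, ← Spec.map_comp, ← Spec.map_comp]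
  have : ((Scheme.ΓSpecIso (CommRingCat.of k)).inv ≫ g.appLE ⊤ U₀ hle) ≫ CommRingCat.ofHom χ =
      𝟙 _ := by
    ext a
    exact hχψ a
  rw [this, Spec.map_id]

end Groth.Agent.Lib.Helper3
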