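import Mathlib
import Groth.Agent.Lib.Helper3.AlgSpLocP3
import Groth.Agent.Lib.Helper3.AlgSpHasAtMor
import Groth.Agent.Lib.Helper3.AlgSpPoints
import Groth.Agent.Lib.Helper3.AlgSpLocSrc2
set_option autoImplicit false
universe u
open CategoryTheory CategoryTheory.Limits AlgebraicGeometry

namespace Groth.Agent.Lib.Helper3

open AlgSp

variable {S : Scheme.{u}}

/-- Given a cartesian square of algebraic spaces (`f''` the base change of `f` along `g`), a chart
diagram of `f` and a point `x''` over the chart point `u`, there is a chart diagram of `f''` whose top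
arrow is the base change of the top arrow of the given chart, through a point over `u` and `x''`. -/
theorem exists_adapted_chart {X Y X'' Y'' : Sp S} (hY : IsAlgSpace Y) (hY'' : IsAlgSpace Y'')
    (f : X ⟶ Y) (g : Y'' ⟶ Y) (b : X'' ⟶ X) (f'' : X'' ⟶ Y'') (sqX : IsPullback b f'' f g)
    {U V : Over S} (a : (yon S).obj U ⟶ X) (bV : (yon S).obj V ⟶ Y) (h : U ⟶ V)
    (e : a ≫ f = (yon S).map h ≫ bV) (ha : RepWith @Etale a) (hb : RepWith @Etale bV)
    (u : ↥U.left) (x'' : Points X'') (hu : Points.ofPt a u = Points.map b x'') :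
    ∃ (G V'' : Over S) (g₁ : G ⟶ U) (g₂ : G ⟶ V'') (v : V'' ⟶ V)
      (a'' : (yon S).obj G ⟶ X'') (b'' : (yon S).obj V'' ⟶ Y'') (g' : ↥G.left),
      IsPullback g₁ g₂ h v ∧ RepWith @Etale a'' ∧ RepWith @Etale b'' ∧
      a'' ≫ f'' = (yon S).map g₂ ≫ b'' ∧ g₁.left g' = u ∧ Points.ofPt a'' g' = x'' := by
  obtain ⟨V'', t, v, hte, hts, hb''e, -, hv, hk⟩ := exists_chart_over hY'' hY g bV hb
  have sqG0 := IsPullback.of_hasPullback h v
  have sqG := sqG0.map (yon S)
  have sqQ := IsPullback.of_hasPullback a b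
  have hπ₂ : RepWith @Etale (pullback.snd a b) := MorphismProperty.of_isPullback sqQ ha
  have outer := sqQ.paste_vert sqX
  rw [e] at outer
  have sqT := IsPullback.of_hasPullback g bV
  have hw : (pullback.snd a b ≫ f'') ≫ g = (pullback.fst a b ≫ (yon S).map h) ≫ bV := by
    rw [Category.assoc (pullback.fst a b), ← outer.w]
  let θ : pullback a b ⟶ pullback g bV := sqT.lift _ _ hw
  have hθ2 : θ ≫ pullback.fst g bV = pullback.snd a b ≫ f'' := sqT.lift_fst _ _ _
  have hθ1 : θ ≫ pullback.snd g bV = pullback.fst a b ≫ (yon S).map h := sqT.lift_snd _ _ _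
  have sqθ : IsPullback θ (pullback.fst a b) (pullback.snd g bV) ((yon S).map h) :=
    IsPullback.of_right (by rw [hθ2]; exact outer.flip) hθ1 sqT
  have hw2 : ((yon S).map (pullback.snd h v) ≫ t) ≫ pullback.snd g bV =
      (yon S).map (pullback.fst h v) ≫ (yon S).map h := by
    rw [Category.assoc, ← hv, sqG.w]
  let l : (yon S).obj (pullback h v) ⟶ pullback a b := sqθ.lift _ _ hw2
  have hl1 : l ≫ θ = (yon S).map (pullback.snd h v) ≫ t := sqθ.lift_fst _ _ _
  have hl2 : l ≫ pullback.fst a b = (yon S).map (pullback.fst h v) := sqθ.lift_snd _ _ _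
  have sql : IsPullback l ((yon S).map (pullback.snd h v)) θ t :=
    IsPullback.of_right (by rw [hl2, ← hv]; exact sqG) hl1 sqθ.flip
  have hle : RepWith @Etale l := MorphismProperty.of_isPullback sql.flip hte
  have hls : RepWith @Surjective l := MorphismProperty.of_isPullback sql.flip hts
  obtain ⟨ξ, hξ1, hξ2⟩ := Points.exists_of_isPullback sqQ (Points.ofScheme U u) x''
    (by rw [← Points.ofPt_eq_map_ofScheme]; exact hu)
  obtain ⟨g', hg'⟩ := exists_ofPt_eq l hls ξ
  refine ⟨pullback h v, V'', pullback.fst h v, pullback.snd h v, v, l ≫ pullback.snd a b,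
    t ≫ pullback.fst g bV, g', sqG0, (RepWith @Etale).comp_mem _ _ hle hπ₂, hb''e, ?_, ?_, ?_⟩
  · rw [Category.assoc, ← hθ2, ← Category.assoc, hl1, Category.assoc]
  · apply (Points.schemeHomeo U).injective
    change Points.ofScheme U _ = Points.ofScheme U u
    rw [← hξ1, ← hg', Points.map_ofPt, hl2]
    have := Points.ofPt_yon_map_comp (pullback.fst h v) (𝟙 _) g'
    rw [Category.comp_id] at this
    exact this.symm
  · rw [← Points.map_ofPt, hg', hξ2]

end Groth.Agent.Lib.Helper3
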