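import Groth.Prelude.Def_AlgSp4
import Mathlib.AlgebraicGeometry.Morphisms.Finite

set_option autoImplicit false
universe u
open CategoryTheory CategoryTheory.Limits AlgebraicGeometry
open AlgSp

namespace Groth.Agent.Lib.Helper3

variable {S : Scheme.{u}}

/-- The common shape of `IsIntegralMor` and `IsFiniteMor`: base changes to affine schemes are affine
schemes whose projection has `P`. -/
def AffP (P : MorphismProperty Scheme.{u}) : MorphismProperty (Sp S) := fun F G f =>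
  ∀ ⦃Z : Over S⦄, IsAffine Z.left → ∀ (g : (yon S).obj Z ⟶ G),
    ∃ (W : Over S) (i : W ⟶ Z) (fst : (yon S).obj W ⟶ F),
      IsPullback fst ((yon S).map i) f g ∧ IsAffine W.left ∧ P i.left

theorem isIntegralMor_iff_affP {F G : Sp S} (f : F ⟶ G) :
    IsIntegralMor f ↔ AffP @IsIntegralHom f := Iff.rfl

theorem isFiniteMor_iff_affP {F G : Sp S} (f : F ⟶ G) :
    IsFiniteMor f ↔ AffP @IsFinite f := Iff.rfl

variable {P : MorphismProperty Scheme.{u}}

theorem affP_of_isPullback {F G F' G' : Sp S}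
    {f : F ⟶ G} {g' : G' ⟶ G} {fst : F' ⟶ F} {snd : F' ⟶ G'}
    (sq : IsPullback fst snd f g') (hf : AffP P f) : AffP P snd := by
  intro Z hZ z
  obtain ⟨W, i, fstW, sqW, hW⟩ := hf hZ (z ≫ g')
  have hw : fstW ≫ f = ((yon S).map i ≫ z) ≫ g' := by rw [sqW.w, Category.assoc]
  refine ⟨W, i, sq.lift fstW ((yon S).map i ≫ z) hw, ?_, hW⟩
  refine IsPullback.of_right ?_ (sq.lift_snd _ _ hw) sq
  rw [sq.lift_fst]
  exact sqW

theorem affP_comp [P.IsStableUnderComposition] {F₁ F₂ F₃ : Sp S}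
    {f₁ : F₁ ⟶ F₂} {f₂ : F₂ ⟶ F₃}
    (h₁ : AffP P f₁) (h₂ : AffP P f₂) : AffP P (f₁ ≫ f₂) := by
  intro Z hZ z
  obtain ⟨W₂, i₂, fst₂, sq₂, hW₂, hi₂⟩ := h₂ hZ z
  obtain ⟨W₁, i₁, fst₁, sq₁, hW₁, hi₁⟩ := h₁ hW₂ fst₂
  refine ⟨W₁, i₁ ≫ i₂, fst₁, ?_, hW₁, ?_⟩
  · rw [Functor.map_comp]
    exact sq₁.paste_vert sq₂
  · rw [Over.comp_left]
    exact P.comp_mem _ _ hi₁ hi₂

theorem affP_of_repWith_isClosedImmersion (hP : ∀ {X Y : Scheme.{u}} (f : X ⟶ Y),
    IsClosedImmersion f → P f) {F G : Sp S}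
    {f : F ⟶ G} (hf : RepWith @IsClosedImmersion f) : AffP P f := by
  intro Z hZ z
  have h1 : IsClosedImmersion (hf.rep.snd z).left := hf.property_snd z
  refine ⟨hf.rep.pullback z, hf.rep.snd z, hf.rep.fst z, hf.rep.isPullback z, ?_, hP _ h1⟩
  have : IsAffine Z.left := hZ
  exact isAffine_of_isAffineHom (hf.rep.snd z).left

theorem affP_of_diagonal [P.IsStableUnderComposition] (hP : ∀ {X Y : Scheme.{u}} (f : X ⟶ Y),
    IsClosedImmersion f → P f) {F G B : Sp S} (g : F ⟶ G) (q : G ⟶ B)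
    (hp : AffP P (g ≫ q)) (hd : RepWith @IsClosedImmersion (pullback.diagonal q)) :
    AffP P g := by
  have h1 := pullback_lift_diagonal_isPullback g q
  have h2 : AffP P (pullback.lift (𝟙 F) g (by simp) : F ⟶ pullback (g ≫ q) q) :=
    affP_of_isPullback h1 (affP_of_repWith_isClosedImmersion hP hd)
  have h3 : AffP P (pullback.snd (g ≫ q) q) :=
    affP_of_isPullback (IsPullback.of_hasPullback (g ≫ q) q) hp
  have h4 := affP_comp h2 h3
  rwa [pullback.lift_snd] at h4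

end Groth.Agent.Lib.Helper3
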