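import Groth.Prelude.Def_AlgSp

set_option autoImplicit false
universe u
open CategoryTheory CategoryTheory.Limits AlgebraicGeometry Opposite
open AlgSp

namespace Groth.Agent.Lib.Helper3

variable {S : Scheme.{u}}

/-- The Yoneda bijection for the sheaves `h_T`. -/
noncomputable def yEquiv {T : Over S} {F : Sp S} : ((yon S).obj T ⟶ F) ≃ F.obj.obj (op T) :=
  (J S).uliftYonedaEquiv

theorem yEquiv_comp {T : Over S} {F G : Sp S} (α : (yon S).obj T ⟶ F) (β : F ⟶ G) :
    yEquiv (α ≫ β) = β.hom.app _ (yEquiv α) :=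
  GrothendieckTopology.uliftYonedaEquiv_comp _ _ _

/-- A representable morphism of sheaves all of whose base changes to schemes are isomorphisms is an
isomorphism. -/
theorem isIso_of_representable_of_forall_isIso {F G : Sp S} (f : F ⟶ G) (hf : Representable f)
    (H : ∀ (T : Over S) (g : (yon S).obj T ⟶ G), IsIso (hf.snd g)) : IsIso f := by
  have hbij : ∀ T : (Over S)ᵒᵖ, Function.Bijective (f.hom.app T) := by
    intro T
    obtain ⟨T⟩ := T
    constructor
    · intro s₁ s₂ h12
      obtain ⟨φ₁, rfl⟩ := (yEquiv (T := T) (F := F)).surjective s₁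
      obtain ⟨φ₂, rfl⟩ := (yEquiv (T := T) (F := F)).surjective s₂
      rw [← yEquiv_comp, ← yEquiv_comp] at h12
      have e1 : φ₁ ≫ f = φ₂ ≫ f := yEquiv.injective h12
      have sq := hf.isPullback (φ₁ ≫ f)
      have hi : IsIso (hf.snd (φ₁ ≫ f)) := H _ _
      have hl : sq.lift φ₁ (𝟙 _) (by rw [Category.id_comp]) =
          sq.lift φ₂ (𝟙 _) (by rw [Category.id_comp, e1]) := by
        rw [← cancel_mono ((yon S).map (hf.snd (φ₁ ≫ f)))]
        rw [sq.lift_snd, sq.lift_snd]
      have := congrArg (· ≫ hf.fst (φ₁ ≫ f)) hl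
      simp only [sq.lift_fst] at this
      rw [this]
    · intro s
      obtain ⟨g, rfl⟩ := (yEquiv (T := T) (F := G)).surjective s
      have sq := hf.isPullback g
      have hi : IsIso (hf.snd g) := H _ _
      refine ⟨yEquiv ((yon S).map (inv (hf.snd g)) ≫ hf.fst g), ?_⟩
      rw [← yEquiv_comp, Category.assoc, sq.w, ← Category.assoc,
        ← Functor.map_comp, IsIso.inv_hom_id, CategoryTheory.Functor.map_id, Category.id_comp]
  have h1 : ∀ T : (Over S)ᵒᵖ, IsIso (f.hom.app T) := fun T => (isIso_iff_bijective _).2 (hbij T)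
  have h2 : IsIso f.hom := NatIso.isIso_of_isIso_app _
  exact (isIso_iff_of_reflects_iso f (sheafToPresheaf _ _)).1 h2
  
end Groth.Agent.Lib.Helper3
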