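import Mathlib.AlgebraicGeometry.Morphisms.FlatDescent
import Mathlib.AlgebraicGeometry.Morphisms.LocalFlatDescent
import Mathlib.AlgebraicGeometry.Morphisms.ClosedImmersion
import Mathlib.AlgebraicGeometry.Morphisms.Etale

set_option autoImplicit false
universe u
open CategoryTheory CategoryTheory.Limits AlgebraicGeometry MorphismProperty

namespace Groth.Agent.Lib.Helper3

/-- A morphism to an affine scheme killing the kernel ideal of a closed immersion factors through
the closed immersion. -/
theorem exists_lift_closedImmersion_of_ker_le {X Y Z : Scheme.{u}} [IsAffine Z] (f : X ⟶ Z)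
    [IsClosedImmersion f] (g : Y ⟶ Z)
    (H : RingHom.ker f.appTop.hom ≤ RingHom.ker g.appTop.hom) : ∃ l : Y ⟶ X, l ≫ f = g := by
  have hle : f.ker ≤ g.ker := by
    rw [Scheme.ker_of_isAffine f, Scheme.ker_of_isAffine g]
    exact (map_le_map_iff (Scheme.IdealSheafData.equivOfIsAffine (X := Z)).symm).2 H
  exact ⟨IsClosedImmersion.lift f g hle, IsClosedImmersion.lift_fac f g hle⟩

/-- A monomorphism of schemes with sections etale locally on the target is an isomorphism. -/
theorem isIso_of_mono_of_etale_local_sections {W T : Scheme.{u}} (p : W ⟶ T) [Mono p]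
    (H : ∀ t : T, ∃ (T' : Scheme.{u}) (τ : T' ⟶ T) (_ : Etale τ) (σ : T' ⟶ W),
      σ ≫ p = τ ∧ t ∈ Set.range τ) : IsIso p := by
  choose T' τ hτ σ hσ ht using H
  let c : (∐ T') ⟶ T := Sigma.desc τ
  have hc1 : Etale c := IsZariskiLocalAtSource.sigmaDesc (fun t => hτ t)
  have hc2 : Surjective c := ⟨fun t => by
    obtain ⟨x, hx⟩ := ht t
    exact ⟨Sigma.ι T' t x, by rw [← Scheme.Hom.comp_apply, Sigma.ι_desc]; exact hx⟩⟩
  have hsec : Sigma.desc σ ≫ p = c := by
    ext t : 1
    simp [c, hσ]
  have hiso : IsIso (pullback.fst c p) := by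
    have h1 : Mono (pullback.fst c p) := inferInstance
    have h2 : IsSplitEpi (pullback.fst c p) :=
      ⟨⟨pullback.lift (𝟙 _) (Sigma.desc σ) (by rw [Category.id_comp, hsec]), pullback.lift_fst _ _ _⟩⟩
    exact isIso_of_mono_of_isSplitEpi _
  exact MorphismProperty.of_pullback_fst_of_descendsAlong (P := isomorphisms Scheme)
    (Q := @Surjective ⊓ @Flat ⊓ @LocallyOfFinitePresentation) (f := c) (g := p)
    ⟨⟨hc2, inferInstance⟩, inferInstance⟩ hiso

end Groth.Agent.Lib.Helper3
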