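import Groth.Prelude.Def_AlgSpModX
import Groth.Agent.Lib.Helper3.AlgSpChartPts
import Groth.Agent.Lib.Helper3.ClosedImmLift
import Groth.Agent.Lib.Helper3.AlgSpRepIso
import Groth.Agent.Lib.Helper3.AlgSpHasAtMor

set_option autoImplicit false
universe u
open CategoryTheory CategoryTheory.Limits AlgebraicGeometry Opposite
open AlgSp

namespace Groth.Agent.Lib.Helper3

variable {S : Scheme.{u}}

/-- If `i'` factors through `i`, the kernel family of `i` is contained in that of `i'`. -/
theorem idealOfRep_le_of_factor {X Z Z' : Sp S} {i : Z ⟶ X} {i' : Z' ⟶ X} (hi : Representable i)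
    (hi' : Representable i') (k : Z' ⟶ Z) (hk : k ≫ i = i') : idealOfRep hi ≤ idealOfRep hi' := by
  intro E hE a ha
  rw [mem_idealOfRep_iff] at ha ⊢
  have sq := EtOver.isPullback_bcObj hi E
  have sq' := EtOver.isPullback_bcObj hi' E
  obtain ⟨l, hl⟩ := (yon S).map_surjective (sq.lift ((EtOver.bcObj hi' E).obj.hom ≫ k)
    ((yon S).map (EtOver.bcπ hi' E)) (by rw [Category.assoc, hk, sq'.w]))
  have hl2 : l ≫ EtOver.bcπ hi E = EtOver.bcπ hi' E :=
    (yon S).map_injective (by rw [Functor.map_comp, hl, sq.lift_snd])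
  have h3 : (EtOver.bcπ hi' E).left.appTop.hom a =
      l.left.appTop.hom ((EtOver.bcπ hi E).left.appTop.hom a) := by
    rw [← hl2]
    simp
  rw [h3, ha, map_zero]

/-- Core of the correspondence between closed subspaces and ideals: if the kernel family of a
closed immersion `i` is contained in the kernel family of `h : h_T ⟶ X`, the base change of `i`
along `h` is an isomorphism. -/
theorem isIso_of_idealOfRep_le {X Z : Sp S} (hX : IsAlgSpace X) {i : Z ⟶ X}
    (hi : RepWith @IsClosedImmersion i) {T : Over S} (h : (yon S).obj T ⟶ X)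
    (hh : Representable h) (hle : idealOfRep hi.1 ≤ idealOfRep hh) {W : Over S}
    (pZ : (yon S).obj W ⟶ Z) (pT : W ⟶ T) (sq : IsPullback pZ ((yon S).map pT) i h) :
    IsIso pT := by
  have hcl : IsClosedImmersion pT.left := hi.2 h pZ pT sq
  suffices hiso : IsIso pT.left by
    have : IsIso ((Over.forget S).map pT) := hiso
    exact isIso_of_reflects_iso pT (Over.forget S)
  apply isIso_of_mono_of_etale_local_sections pT.left
  intro t
  obtain ⟨U, a, hae, has⟩ := hX.atlas
  obtain ⟨u, hu⟩ := exists_ofPt_eq a has (Points.ofPt h t)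
  obtain ⟨U₀, hU₀, huU₀, -⟩ := exists_isAffineOpen_mem_and_subset (x := u) (U := ⊤) trivial
  let E : EtOver X := EtOver.mk (chartRestrict a U₀) (chartRestrict_etale a hae U₀)
  have hE : IsAffine E.obj.left.left := hU₀
  have sqE := EtOver.isPullback_bcObj hh E
  obtain ⟨τ, hτ⟩ := (yon S).map_surjective (EtOver.bcObj hh E).obj.hom
  rw [← hτ] at sqE
  have hpt : Points.ofPt h t = Points.ofPt E.obj.hom (⟨u, huU₀⟩ : ↥U₀) := by
    rw [← hu]
    exact (ofPt_chartRestrict a U₀ ⟨u, huU₀⟩).symm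
  obtain ⟨w, hw, -⟩ := exists_of_ofPt_eq_of_isPullback sqE t _ hpt
  have hτe : Etale τ.left := E.property.2 h ((yon S).map (EtOver.bcπ hh E)) τ sqE.flip
  -- the factorisation through the closed subscheme over `E`
  have sqZ := EtOver.isPullback_bcObj hi.1 E
  have hclE : IsClosedImmersion (EtOver.bcπ hi.1 E).left := hi.2 _ _ _ sqZ
  obtain ⟨l, hl⟩ := exists_lift_closedImmersion_of_ker_le (EtOver.bcπ hi.1 E).left
    (EtOver.bcπ hh E).left (hle E hE)
  have e1 : (EtOver.bcπ hi.1 E).left ≫ E.obj.left.hom = (EtOver.bcObj hi.1 E).obj.left.hom :=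
    Over.w _
  have e2 : (EtOver.bcπ hh E).left ≫ E.obj.left.hom = (EtOver.bcObj hh E).obj.left.hom :=
    Over.w _
  let lO : (EtOver.bcObj hh E).obj.left ⟶ (EtOver.bcObj hi.1 E).obj.left := Over.homMk l
    ((congrArg (l ≫ ·) e1.symm).trans ((Category.assoc _ _ _).symm.trans
      ((congrArg (· ≫ E.obj.left.hom) hl).trans e2)))
  have hlO : lO ≫ EtOver.bcπ hi.1 E = EtOver.bcπ hh E := Over.OverMorphism.ext hl
  obtain ⟨σ, hσ⟩ := (yon S).map_surjective (sq.lift ((yon S).map lO ≫ (EtOver.bcObj hi.1 E).obj.hom)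
    ((yon S).map τ) (by
      rw [Category.assoc, sqZ.w, ← Category.assoc, ← Functor.map_comp, hlO, sqE.w]))
  have hσ2 : σ ≫ pT = τ := (yon S).map_injective (by rw [Functor.map_comp, hσ, sq.lift_snd])
  refine ⟨_, τ.left, hτe, σ.left, ?_, ⟨w, hw⟩⟩
  rw [← hσ2]
  rfl

end Groth.Agent.Lib.Helper3
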