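import Groth.Prelude.Def_AlgSpDec
import Groth.Agent.Lib.Helper3.AlgSpPoints

set_option autoImplicit false
universe u
open CategoryTheory CategoryTheory.Limits AlgebraicGeometry Opposite

namespace Groth.Agent.Lib.Helper3

variable {S : Scheme.{u}}

open AlgSp

/-- Any morphism out of the spectrum of a field is quasi-compact. -/
theorem quasiCompact_of_field {K : Type u} [Field K] {Y : Scheme.{u}}
    (f : Spec (CommRingCat.of K) ⟶ Y) : QuasiCompact f := by
  refine ⟨fun U _ _ => ?_⟩
  have : Finite ↥(Spec (CommRingCat.of K)) := (inferInstance : Finite (PrimeSpectrum K))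
  exact (Set.toFinite _).isCompact

/-- The morphism of sheaves defined by a point of a scheme is a monomorphism and quasi-compact. -/
theorem mono_yon_map_fromSpecResidueField (T : Over S) (t : ↥T.left) :
    Mono ((yon S).map (Over.homMk (T.left.fromSpecResidueField t) rfl :
      Over.mk (T.left.fromSpecResidueField t ≫ T.hom) ⟶ T)) := by
  have : Mono (Over.homMk (T.left.fromSpecResidueField t) rfl :
      Over.mk (T.left.fromSpecResidueField t ≫ T.hom) ⟶ T) :=
    Over.mono_of_mono_left _
  infer_instance

/-- Given a field-valued point `q` of `G` lying under the point `x` of `F`, and a pullback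
`P` of `f` along `q.toHom`, the point `x` lifts to a point of `P`. -/
theorem exists_points_of_isPullback_toHom {F G P : Sp S} (f : F ⟶ G) (x : Points F) (q : FieldPt G)
    (hq : Points.mk q = Points.map f x) (fst : P ⟶ F) (snd : P ⟶ (yon S).obj q.pt)
    (sq : IsPullback fst snd f q.toHom) :
    ∃ z : Points P, Points.map fst z = x := by
  let s : ↥(Spec (CommRingCat.of q.K)) := IsLocalRing.closedPoint q.K
  have hy : Points.map f x = Points.map q.toHom (Points.ofScheme q.pt s) := by
    rw [Points.map_ofPt, Category.id_comp, Points.ofPt_toHom, hq]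
  obtain ⟨z, hz1, -⟩ := Points.exists_of_isPullback sq x _ hy
  exact ⟨z, hz1⟩

/-- Given a field-valued point `q` of `G` lying under the point `x` of `F`, and a scheme pullback
`V` of `f` along `q.toHom`, the point `x` lifts to a point of `V`. -/
theorem exists_ofPt_of_isPullback_toHom {F G : Sp S} (f : F ⟶ G) (x : Points F) (q : FieldPt G)
    (hq : Points.mk q = Points.map f x) {V : Over S} (fstV : (yon S).obj V ⟶ F) (sndV : V ⟶ q.pt)
    (sq : IsPullback fstV ((yon S).map sndV) f q.toHom) :
    ∃ v : ↥V.left, Points.ofPt fstV v = x := by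
  obtain ⟨z, hz1⟩ := exists_points_of_isPullback_toHom f x q hq fstV _ sq
  obtain ⟨v, rfl⟩ := (Points.schemeEquiv V).surjective z
  refine ⟨v, ?_⟩
  rw [← hz1]
  change _ = Points.map fstV (Points.ofPt (𝟙 _) v)
  rw [Points.map_ofPt, Category.id_comp]

/-- Decency passes to the source of a monomorphism which is representable quasi-compact, pointwise:
a good representative of `z` maps to a good representative of its image. -/
theorem exists_good_rep_map {P F : Sp S} (fst : P ⟶ F) [Mono fst] (hqc : RepWith @QuasiCompact fst)
    (z : Points P) (hz : ∃ p : FieldPt P, Points.mk p = z ∧ Mono p.toHom ∧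
      RepWith @QuasiCompact p.toHom) :
    ∃ p : FieldPt F, Points.mk p = Points.map fst z ∧ Mono p.toHom ∧
      RepWith @QuasiCompact p.toHom := by
  obtain ⟨p, rfl, hm, hq⟩ := hz
  refine ⟨p.map fst, rfl, ?_, ?_⟩
  · rw [FieldPt.toHom_map]; exact @mono_comp _ _ _ _ _ _ hm _ inferInstance
  · rw [FieldPt.toHom_map]; exact (RepWith @QuasiCompact).comp_mem _ _ hq hqc

/-- The field-valued point defined by a point of a scheme `V` mapping to `F` by a monomorphism
which is representable quasi-compact is again such. -/
theorem mono_and_qc_ofPt {F : Sp S} {V : Over S} (fstV : (yon S).obj V ⟶ F) [Mono fstV]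
    (hqc : RepWith @QuasiCompact fstV) (v : ↥V.left) :
    Mono (FieldPt.ofPt fstV v).toHom ∧ RepWith @QuasiCompact (FieldPt.ofPt fstV v).toHom := by
  rw [FieldPt.toHom_ofPt]
  have : Mono ((yon S).map (Over.homMk (V.left.fromSpecResidueField v) rfl :
      (FieldPt.ofPt fstV v).pt ⟶ V)) := mono_yon_map_fromSpecResidueField V v
  refine ⟨mono_comp _ _, ?_⟩
  refine (RepWith @QuasiCompact).comp_mem _ _ ?_ hqc
  rw [repWith_yon_map_iff]
  exact quasiCompact_of_field _

end Groth.Agent.Lib.Helper3
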