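import Groth.Agent.Lib.Helper3.AlgSpDecent

set_option autoImplicit false
universe u
open CategoryTheory CategoryTheory.Limits AlgebraicGeometry Opposite

namespace Groth.Agent.Lib.Helper3

variable {S : Scheme.{u}}

open AlgSp

/-- The source of a representable morphism to a decent sheaf is decent. -/
theorem isDecent_of_representable {F G : Sp S} (f : F ⟶ G) (hf : Representable f)
    (hG : IsDecent G) : IsDecent F := by
  intro x
  obtain ⟨q, hq, hqm, hqc⟩ := hG (Points.map f x)
  obtain ⟨V, sndV, fstV, sq⟩ := hf q.toHom
  obtain ⟨v, hv⟩ := exists_ofPt_of_isPullback_toHom f x q hq fstV sndV sq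
  have : Mono fstV := sq.mono_fst_of_mono
  have hqcV : RepWith @QuasiCompact fstV := (RepWith @QuasiCompact).of_isPullback sq.flip hqc
  obtain ⟨h1, h2⟩ := mono_and_qc_ofPt fstV hqcV v
  exact ⟨FieldPt.ofPt fstV v, hv, h1, h2⟩

/-- The source of a decent morphism to a decent sheaf is decent. -/
theorem isDecent_of_isDecentMor {F G : Sp S} (f : F ⟶ G) (hf : IsDecentMor f)
    (hG : IsDecent G) : IsDecent F := by
  intro x
  obtain ⟨q, hq, hqm, hqc⟩ := hG (Points.map f x)
  have sq := IsPullback.of_hasPullback f q.toHom
  have hP : IsDecent (pullback f q.toHom) := hf q.toHom _ _ sq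
  obtain ⟨z, hz⟩ := exists_points_of_isPullback_toHom f x q hq _ _ sq
  have : Mono (pullback.fst f q.toHom) := sq.mono_fst_of_mono
  have hqcV : RepWith @QuasiCompact (pullback.fst f q.toHom) :=
    (RepWith @QuasiCompact).of_isPullback sq.flip hqc
  have := exists_good_rep_map _ hqcV z (hP z)
  rwa [hz] at this

/-- A base change of a decent morphism is decent. -/
theorem IsDecentMor.of_isPullback {F G F' G' : Sp S} {f : F ⟶ G} {g : G' ⟶ G} {fst : F' ⟶ F}
    {snd : F' ⟶ G'} (sq : IsPullback fst snd f g) (hf : IsDecentMor f) : IsDecentMor snd := by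
  intro T F'' k fst' snd' sq'
  exact hf (k ≫ g) (fst' ≫ fst) snd' (sq'.paste_horiz sq)

/-- A morphism with decent source whose target receives only representable morphisms from
schemes is a decent morphism. -/
theorem isDecentMor_of_isDecent_source {F G : Sp S} (f : F ⟶ G)
    (hrep : ∀ ⦃T : Over S⦄ (g : (yon S).obj T ⟶ G), Representable g) (hF : IsDecent F) :
    IsDecentMor f := by
  intro T F' g fst snd sq
  exact isDecent_of_representable fst
    ((Representable (S := S)).of_isPullback sq.flip (hrep g)) hF

/-- The composite of decent morphisms is decent. -/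
theorem isDecentMor_comp {F G H : Sp S} (f : F ⟶ G) (g : G ⟶ H) (hf : IsDecentMor f)
    (hg : IsDecentMor g) : IsDecentMor (f ≫ g) := by
  intro T F' k fst snd sq
  have sqY := IsPullback.of_hasPullback g k
  have hY' : IsDecent (pullback g k) := hg k _ _ sqY
  let f' : F' ⟶ pullback g k := pullback.lift (fst ≫ f) snd (by rw [Category.assoc, sq.w])
  have h1 : f' ≫ pullback.fst g k = fst ≫ f := pullback.lift_fst _ _ _
  have h2 : f' ≫ pullback.snd g k = snd := pullback.lift_snd _ _ _
  have sqL : IsPullback f' fst (pullback.fst g k) f :=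
    IsPullback.of_right (by rw [h2]; exact sq.flip) h1 sqY.flip
  exact isDecent_of_isDecentMor f' (IsDecentMor.of_isPullback sqL.flip hf) hY'

end Groth.Agent.Lib.Helper3
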