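import Groth.Agent.Lib.Helper3.AlgSpEtPoint
import Groth.Agent.Lib.Helper3.AlgSpNoSpec
import Groth.Agent.Lib.Helper3.AlgSpHasAtMor
import Groth.Agent.Lib.Helper3.FieldOfDiscrete
import Groth.Agent.S9906

set_option autoImplicit false
universe u
open CategoryTheory CategoryTheory.Limits AlgebraicGeometry Opposite

namespace Groth.Agent.Lib.Helper3

variable {S : Scheme.{u}}

open AlgSp

/-- A reduced decent algebraic space with exactly one point is the spectrum of a field. -/
theorem exists_iso_spec_field_of_decent_reduced_singleton {X : Sp S} (hXa : IsAlgSpace X)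
    (hX : IsDecent X) (hr : EtaleLocally (fun U => IsReduced U) X)
    [Nonempty (Points X)] [Subsingleton (Points X)] :
    ∃ (k : Type u) (_ : Field k) (str : Spec (CommRingCat.of k) ⟶ S),
      Nonempty ((yon S).obj (Over.mk str) ≅ X) := by
  obtain ⟨U₀, a₀, ha₀e, ha₀s, hred⟩ := hr
  obtain ⟨x⟩ := (inferInstance : Nonempty (Points X))
  obtain ⟨u₀, hu₀⟩ := exists_ofPt_eq a₀ ha₀s x
  obtain ⟨W₀, hW₀, huW⟩ : ∃ W₀ : U₀.left.Opens, IsAffineOpen W₀ ∧ u₀ ∈ W₀ := by
    obtain ⟨_, ⟨W, hW, rfl⟩, huW, -⟩ := (U₀.left.isBasis_affineOpens).exists_subset_of_mem_open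
      (Set.mem_univ u₀) isOpen_univ
    exact ⟨W, hW, huW⟩
  -- the restricted chart
  let W : Over S := Over.mk (W₀.ι ≫ U₀.hom)
  let a : (yon S).obj W ⟶ X := chartRestrict a₀ W₀
  have hae : RepWith @Etale a := chartRestrict_etale a₀ ha₀e W₀
  have haff : IsAffine W.left := hW₀
  have : CompactSpace ↥W.left := inferInstance
  have : IsReduced W.left := by
    change IsReduced (W₀ : Scheme.{u})
    infer_instance
  obtain ⟨q, hq, -, hqc⟩ := hX x
  have hfib : Points.ofPt a ⁻¹' {x} = Set.univ :=
    Set.eq_univ_of_forall fun w => Subsingleton.elim _ _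
  have hfin : (Points.ofPt a ⁻¹' {x}).Finite := by
    rw [← hq]; exact finite_fibre_of_qc_point q hqc a hae
  have hfinW : Finite ↥W.left := by
    rw [hfib] at hfin; exact Set.finite_univ_iff.1 hfin
  have hT1 : T1Space ↥W.left := by
    rw [t1Space_iff_specializes_imp_eq]
    intro w' w hs
    exact (eq_of_specializes_of_finite_fibre a hae x hfin w w' (Subsingleton.elim _ _)
      (Subsingleton.elim _ _) hs).symm
  have hdisc : DiscreteTopology ↥W.left := inferInstance
  let w₀ : ↥W.left := (⟨u₀, huW⟩ : ↥W₀)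
  obtain ⟨k, hk, j, hj, -⟩ := exists_field_openImmersion_of_discrete W.left w₀
  -- the point chart
  let str : Spec (CommRingCat.of k) ⟶ S := j ≫ W.hom
  let jO : Over.mk str ⟶ W := Over.homMk j rfl
  let p : (yon S).obj (Over.mk str) ⟶ X := (yon S).map jO ≫ a
  have hpe : RepWith @Etale p := by
    refine (RepWith @Etale).comp_mem _ _ ?_ hae
    rw [repWith_yon_map_iff]
    change Etale j
    infer_instance
  have hps : RepWith @Surjective p := by
    rw [Groth.Agent.S9906.repWith_surjective_iff p hpe.1]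
    intro y
    exact ⟨Points.ofScheme _ (IsLocalRing.closedPoint k), Subsingleton.elim _ _⟩
  obtain ⟨k', hk', str', e, -, -, -, -⟩ :=
    exists_iso_spec_field_of_etale_surjective_point hXa hX k str p hpe hps
  exact ⟨k', hk', str', ⟨e⟩⟩

end Groth.Agent.Lib.Helper3
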