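import Groth.Agent.Lib.Helper3.AlgSpLocal
import Groth.Agent.Lib.Helper3.AlgSpChartPts
import Groth.Agent.Lib.Helper3.AlgSpDiag
import Groth.Agent.S9886
import Mathlib.AlgebraicGeometry.Morphisms.QuasiSeparated

set_option autoImplicit false
universe u
open CategoryTheory CategoryTheory.Limits AlgebraicGeometry Opposite

namespace Groth.Agent.Lib.Helper3

variable {S : Scheme.{u}}

open AlgSp

/-- Diagonal criterion on affine test schemes: if the diagonal of `F` is representable and for
every affine `T` with two maps to `F` the morphism `T ×_F T ⟶ T ×_S T` has `P`, then the diagonal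
has `P`. -/
theorem repWith_diag_of_affine (P : MorphismProperty Scheme.{u}) [P.IsStableUnderBaseChange]
    [IsZariskiLocalAtTarget P] (F : Sp S) (hrep : Representable (Limits.diag F))
    (h₂ : ∀ ⦃T W : Over S⦄ (a b : (yon S).obj T ⟶ F) (fst snd : W ⟶ T), IsAffine T.left →
      IsPullback ((yon S).map fst) ((yon S).map snd) a b → P (prod.lift fst snd).left) :
    RepWith P (Limits.diag F) := by
  refine repWith_of_forall_affine P _ hrep fun T hT g => ?_
  obtain ⟨V, fstV, sndV, sqV⟩ : ∃ (V : Over S) (fstV : (yon S).obj V ⟶ F) (sndV : V ⟶ T),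
      IsPullback fstV ((yon S).map sndV) (Limits.diag F) g :=
    ⟨hrep.pullback g, hrep.fst g, hrep.snd g, hrep.isPullback g⟩
  refine ⟨V, fstV, sndV, sqV, ?_⟩
  obtain ⟨W, p₁, p₂, sqW⟩ := exists_pullback_charts (g ≫ prod.fst)
    (Functor.relativelyRepresentable.of_diag hrep _) (g ≫ prod.snd)
  have hg : g = prod.lift (g ≫ prod.fst) (g ≫ prod.snd) := by
    apply Limits.prod.hom_ext
    · simp only [prod.lift_fst]
    · simp only [prod.lift_snd]
  rw [hg] at sqV
  obtain ⟨e', he1, he2, sqe⟩ := Groth.Agent.S9886.exists_isPullback_diag _ _ sqW sqV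
  obtain ⟨e, rfl⟩ := (yon S).map_surjective e'
  have hP := h₂ _ _ p₁ p₂ hT sqW
  rw [prod_lift_yon, diag_yon_obj] at sqe
  have sqe' := Groth.Agent.S9886.isPullback_of_comp_mono _ sqe
  have sqe'' : IsPullback e sndV (prod.lift p₁ p₂) (Limits.diag T) :=
    IsPullback.of_map_of_faithful (yon S) sqe'
  exact P.of_isPullback (sqe''.map (Over.forget S)) hP

/-- The product `T ×_S T` of an affine scheme over `S` with itself is a quasi-separated
scheme. -/
theorem quasiSeparatedSpace_prod_of_isAffine (T : Over S) [IsAffine T.left] :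
    QuasiSeparatedSpace ↥(T ⨯ T).left := by
  have : QuasiSeparated T.hom := inferInstance
  have : QuasiSeparated ((Over.prodLeftIsoPullback T T).hom ≫ pullback.fst T.hom T.hom) :=
    inferInstance
  exact quasiSeparatedSpace_of_quasiSeparated
    ((Over.prodLeftIsoPullback T T).hom ≫ pullback.fst T.hom T.hom)

end Groth.Agent.Lib.Helper3
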