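import Groth.Agent.Lib.Helper3.AlgSpChartPts
import Groth.Agent.Lib.Helper3.AlgSpLocal
import Groth.Agent.S9884
import Mathlib.AlgebraicGeometry.Sites.Etale

set_option autoImplicit false
universe u
open CategoryTheory CategoryTheory.Limits AlgebraicGeometry Opposite

namespace Groth.Agent.Lib.Helper3

variable {S : Scheme.{u}}

open AlgSp

/-- A property local at the target for the etale precoverage is stable under etale base
change. -/
theorem of_isPullback_etale (P : MorphismProperty Scheme.{u})
    [P.IsLocalAtTarget Scheme.etalePrecoverage]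
    {X Y U X' : Scheme.{u}} {f : X ⟶ Y} {g : U ⟶ Y} [Etale g] {fst : X' ⟶ X} {snd : X' ⟶ U}
    (h : IsPullback fst snd f g) (hf : P f) : P snd := by
  let Z : Bool → Scheme.{u} := fun b => match b with | true => U | false => Y
  let φ : ∀ b, Z b ⟶ Y := fun b => match b with | true => g | false => 𝟙 Y
  have hR : Presieve.ofArrows Z φ ∈ Scheme.etalePrecoverage Y := by
    rw [Scheme.etalePrecoverage, Scheme.ofArrows_mem_precoverage_iff]
    refine ⟨fun x => ⟨false, x, rfl⟩, fun b => ?_⟩
    cases b
    · show Etale (𝟙 Y); infer_instance
    · show Etale g; infer_instance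
  have : HasPullback f g := h.hasPullback
  rw [← P.cancel_left_of_respectsIso h.isoPullback.inv, h.isoPullback_inv_snd]
  exact MorphismProperty.IsLocalAtTarget.pullbackSnd hR (Presieve.ofArrows.mk true) hf

/-- A property local at the target for the etale precoverage descends along etale surjective
base change. -/
theorem of_isPullback_etale_surjective (P : MorphismProperty Scheme.{u})
    [P.IsLocalAtTarget Scheme.etalePrecoverage]
    {X Y U X' : Scheme.{u}} {f : X ⟶ Y} {g : U ⟶ Y} [Etale g] [Surjective g] {fst : X' ⟶ X}
    {snd : X' ⟶ U} (h : IsPullback fst snd f g) (hs : P snd) : P f := by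
  have hR : Presieve.singleton g ∈ Scheme.etalePrecoverage Y := by
    rw [Scheme.etalePrecoverage, Scheme.singleton_mem_precoverage_iff]
    exact ⟨g.surjective, inferInstance⟩
  refine MorphismProperty.IsLocalAtTarget.of_forall_pullbackSnd hR ?_
  rintro _ _ _ ⟨⟩
  rw [← P.cancel_left_of_respectsIso h.isoPullback.hom, h.isoPullback_hom_snd]
  exact hs

/-- For a property etale local on the target, one surjective etale chart suffices to check
it on all etale charts. -/
theorem prop_of_surjective_etale_chart (P : MorphismProperty Scheme.{u})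
    [P.IsLocalAtTarget Scheme.etalePrecoverage] {X Y : Sp S} (f : X ⟶ Y)
    {V W : Over S} (b : (yon S).obj V ⟶ Y) (hb1 : RepWith @Etale b) (hb2 : RepWith @Surjective b)
    (fst : (yon S).obj W ⟶ X) (snd : W ⟶ V)
    (sq : IsPullback fst ((yon S).map snd) f b) (hP : P snd.left)
    {V' W' : Over S} (b' : (yon S).obj V' ⟶ Y) (hb' : RepWith @Etale b')
    (fst' : (yon S).obj W' ⟶ X) (snd' : W' ⟶ V')
    (sq' : IsPullback fst' ((yon S).map snd') f b') : P snd'.left := by
  obtain ⟨V'', i, j, sqV⟩ := exists_pullback_charts b hb1.1 b'
  have hi : Etale i.left := hb'.2 b ((yon S).map j) i sqV.flip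
  have hj : Etale j.left := hb1.2 b' ((yon S).map i) j sqV
  have hjs : Surjective j.left := hb2.2 b' ((yon S).map i) j sqV
  have sq1 := Groth.Agent.S9884.isPullback_base_change sq i
  have sq2 := Groth.Agent.S9884.isPullback_base_change sq' j
  rw [sqV.w] at sq1
  have sqS1 : IsPullback (pullback.fst snd i).left (pullback.snd snd i).left snd.left i.left :=
    (IsPullback.of_hasPullback snd i).map (Over.forget S)
  have sqS2 : IsPullback (pullback.fst snd' j).left (pullback.snd snd' j).left snd'.left j.left :=
    (IsPullback.of_hasPullback snd' j).map (Over.forget S)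
  have hP1 : P (pullback.snd snd i).left := of_isPullback_etale P sqS1 hP
  have hP2 : P (pullback.snd snd' j).left :=
    prop_of_isPullback_of_isPullback P sq1 sq2 hP1
  exact of_isPullback_etale_surjective P sqS2 hP2

end Groth.Agent.Lib.Helper3
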