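import Groth.Agent.Lib.Helper3.AlgSpEtSitePoint
import Mathlib.RingTheory.FiniteType
import Mathlib.CategoryTheory.Limits.FinallySmall

set_option autoImplicit false
universe u
open CategoryTheory CategoryTheory.Limits AlgebraicGeometry Opposite

namespace Groth.Agent.Lib.Helper3

variable {S : Scheme.{u}}

open AlgSp

variable {X : Sp S}

section Std

variable (U₀ : Over S)

/-- The standard affine scheme `Spec (Γ(V)[x₁,…,xₙ]/I)` over an affine open `V` of `U₀`. -/
noncomputable def stdMap (V : U₀.left.affineOpens) (n : ℕ)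
    (I : Ideal (MvPolynomial (Fin n) ↑Γ(U₀.left, V.1))) :
    Spec (CommRingCat.of (MvPolynomial (Fin n) ↑Γ(U₀.left, V.1) ⧸ I)) ⟶ U₀.left :=
  Spec.map (CommRingCat.ofHom (algebraMap ↑Γ(U₀.left, V.1)
    (MvPolynomial (Fin n) ↑Γ(U₀.left, V.1) ⧸ I))) ≫ V.2.fromSpec

/-- The standard affine scheme as an object over `S`. -/
noncomputable def stdOver (V : U₀.left.affineOpens) (n : ℕ)
    (I : Ideal (MvPolynomial (Fin n) ↑Γ(U₀.left, V.1))) : Over S :=
  Over.mk (stdMap U₀ V n I ≫ U₀.hom)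

/-- The structure morphism of the standard affine scheme to `U₀`. -/
noncomputable def stdHom (V : U₀.left.affineOpens) (n : ℕ)
    (I : Ideal (MvPolynomial (Fin n) ↑Γ(U₀.left, V.1))) : stdOver U₀ V n I ⟶ U₀ :=
  Over.homMk (stdMap U₀ V n I) rfl

end Std

/-- The small index type of standard etale neighbourhoods of `p` relative to an atlas. -/
def StdIndex (p : FieldPt X) {U₀ : Over S} (a : (yon S).obj U₀ ⟶ X) : Type u :=
  Σ (V : U₀.left.affineOpens) (n : ℕ) (I : Ideal (MvPolynomial (Fin n) ↑Γ(U₀.left, V.1))),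
    {l : p.pt ⟶ stdOver U₀ V n I // Etale (stdMap U₀ V n I) ∧
      (yon S).map l ≫ (yon S).map (stdHom U₀ V n I) ≫ a = p.toHom}

/-- The etale neighbourhood attached to a standard index. -/
noncomputable def stdNbhd (p : FieldPt X) {U₀ : Over S} (a : (yon S).obj U₀ ⟶ X)
    (ha : RepWith @Etale a) (t : StdIndex p a) : EtNbhd p :=
  ⟨EtOver.mk ((yon S).map (stdHom U₀ t.1 t.2.1 t.2.2.1) ≫ a)
    ((RepWith @Etale).comp_mem _ _ ((repWith_yon_map_iff _ _).2 t.2.2.2.2.1) ha),
    ⟨t.2.2.2.1, t.2.2.2.2.2⟩⟩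

/-- A standard affine chart of a morphism locally of finite type around a point. -/
theorem exists_std_chart {W U : Scheme.{u}} (f : W ⟶ U) [LocallyOfFiniteType f] (x : W) :
    ∃ (V : U.affineOpens) (n : ℕ) (I : Ideal (MvPolynomial (Fin n) ↑Γ(U, V.1)))
      (m : Spec (CommRingCat.of (MvPolynomial (Fin n) ↑Γ(U, V.1) ⧸ I)) ⟶ W),
      IsOpenImmersion m ∧ x ∈ Set.range m ∧
      m ≫ f = Spec.map (CommRingCat.ofHom (algebraMap ↑Γ(U, V.1)
        (MvPolynomial (Fin n) ↑Γ(U, V.1) ⧸ I))) ≫ V.2.fromSpec := by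
  obtain ⟨V, hV, hxV, -⟩ := exists_isAffineOpen_mem_and_subset (x := f x) (U := ⊤) trivial
  obtain ⟨W', hW', hxW', hle⟩ := exists_isAffineOpen_mem_and_subset (x := x) (U := f ⁻¹ᵁ V) hxV
  let _ := (f.appLE V W' hle).hom.toAlgebra
  have hft : Algebra.FiniteType ↑Γ(U, V) ↑Γ(W, W') := f.finiteType_appLE hV hW' hle
  obtain ⟨n, ψ, hψ⟩ := Algebra.FiniteType.iff_quotient_mvPolynomial''.1 hft
  let ε := Ideal.quotientKerAlgEquivOfSurjective hψ
  have hiso : IsIso (CommRingCat.ofHom ε.symm.toRingEquiv.toRingHom) :=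
    (ε.symm.toRingEquiv.toCommRingCatIso).isIso_hom
  refine ⟨⟨V, hV⟩, n, RingHom.ker ψ, Spec.map (CommRingCat.ofHom ε.symm.toRingEquiv.toRingHom) ≫
    hW'.fromSpec, inferInstance, ?_, ?_⟩
  · have hx : x ∈ Set.range hW'.fromSpec := by
      rw [hW'.range_fromSpec]
      exact hxW'
    obtain ⟨y, rfl⟩ := hx
    have hsurj : Function.Surjective
        (Spec.map (CommRingCat.ofHom ε.symm.toRingEquiv.toRingHom)) :=
      (Spec.map (CommRingCat.ofHom ε.symm.toRingEquiv.toRingHom)).homeomorph.surjective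
    obtain ⟨z, rfl⟩ := hsurj y
    exact ⟨z, by rw [Scheme.Hom.comp_apply]⟩
  · rw [Category.assoc, ← IsAffineOpen.SpecMap_appLE_fromSpec f hV hW' hle, ← Category.assoc,
      ← Spec.map_comp]
    congr 2
    ext r
    exact ε.symm.commutes r

/-- Every etale neighbourhood is dominated by a standard one. -/
theorem exists_stdNbhd_hom (p : FieldPt X) {U₀ : Over S}
    (a : (yon S).obj U₀ ⟶ X) (hae : RepWith @Etale a) (u₀ : p.pt ⟶ U₀)
    (hu₀ : (yon S).map u₀ ≫ a = p.toHom) (N : EtNbhd p) :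
    ∃ t : StdIndex p a, Nonempty (stdNbhd p a hae t ⟶ N) := by
  obtain ⟨E, e, he⟩ := N
  obtain ⟨W, pE, pU, sq⟩ := exists_pullback_charts E.obj.hom E.property.1 a
  have hpU : Etale pU.left := E.property.2 a ((yon S).map pE) pU sq
  obtain ⟨e', he'⟩ := (yon S).map_surjective
    (sq.lift ((yon S).map e) ((yon S).map u₀) (by rw [he, hu₀]))
  have he'1 : e' ≫ pE = e :=
    (yon S).map_injective (by rw [Functor.map_comp, he', sq.lift_fst])
  have he'2 : e' ≫ pU = u₀ :=
    (yon S).map_injective (by rw [Functor.map_comp, he', sq.lift_snd])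
  have x₀ : p.pt.left := (inferInstance : Nonempty (Spec (CommRingCat.of p.K))).some
  obtain ⟨V, n, I, m, hm, hxm, hmf⟩ := exists_std_chart pU.left (e'.left x₀)
  have hmf' : m ≫ pU.left = stdMap U₀ V n I := hmf
  have hsub : Subsingleton p.pt.left :=
    (inferInstance : Subsingleton (PrimeSpectrum p.K))
  have hrange : Set.range e'.left ⊆ Set.range m := by
    rintro _ ⟨y, rfl⟩
    rw [Subsingleton.elim y x₀]
    exact hxm
  obtain ⟨ll, hlift⟩ : ∃ ll : p.pt.left ⟶ Spec (CommRingCat.of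
      (MvPolynomial (Fin n) ↑Γ(U₀.left, V.1) ⧸ I)), ll ≫ m = e'.left :=
    ⟨IsOpenImmersion.lift m e'.left hrange, IsOpenImmersion.lift_fac _ _ _⟩
  have hlift2 : ll ≫ stdMap U₀ V n I = u₀.left := by
    rw [← hmf', ← Category.assoc, hlift, ← Over.comp_left, he'2]
  let l : p.pt ⟶ stdOver U₀ V n I := Over.homMk ll (by
    change ll ≫ stdMap U₀ V n I ≫ U₀.hom = p.pt.hom
    rw [← Category.assoc, hlift2]
    exact Over.w u₀)
  have hl : l ≫ stdHom U₀ V n I = u₀ := by
    ext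
    change ll ≫ stdMap U₀ V n I = u₀.left
    exact hlift2
  have hEt : Etale (stdMap U₀ V n I) := by
    rw [← hmf']
    infer_instance
  have hcond : (yon S).map l ≫ (yon S).map (stdHom U₀ V n I) ≫ a = p.toHom := by
    rw [← Category.assoc, ← Functor.map_comp, hl, hu₀]
  let m' : stdOver U₀ V n I ⟶ W := Over.homMk m (by
    change m ≫ W.hom = stdMap U₀ V n I ≫ U₀.hom
    rw [← Over.w pU, ← Category.assoc, hmf'])
  have hm'1 : m' ≫ pU = stdHom U₀ V n I := by
    ext
    exact hmf'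
  have hlm' : l ≫ m' = e' := by
    ext
    change ll ≫ m = e'.left
    exact hlift
  refine ⟨⟨V, n, I, ⟨l, hEt, hcond⟩⟩, ⟨⟨EtOver.homMk (m' ≫ pE) ?_, ?_⟩⟩⟩
  · change (yon S).map (m' ≫ pE) ≫ E.obj.hom = (yon S).map (stdHom U₀ V n I) ≫ a
    rw [Functor.map_comp, Category.assoc, sq.w, ← Category.assoc, ← Functor.map_comp, hm'1]
  · apply Subtype.ext
    change l ≫ m' ≫ pE = e
    rw [← Category.assoc, hlm', he'1]

/-- The etale neighbourhoods of a geometric point of an algebraic space form an initially small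
category. -/
theorem initiallySmall_etNbhd (hX : IsAlgSpace X) (p : FieldPt X) (hp : p.IsGeometric) :
    InitiallySmall.{u} (EtNbhd p) := by
  obtain ⟨V, a, hae, has⟩ := hX.atlas
  obtain ⟨u, hu⟩ := (Groth.Agent.S9906.repWith_surjective_iff a has.1).1 has (Points.mk p)
  obtain ⟨ubar, h1, -⟩ := exists_lift_geometric_point (IsAlgSpace.yon_obj V) hX a
    (isEtaleMor_of_repWith _ hae) p hp u hu
  obtain ⟨ū, rfl⟩ := (yon S).map_surjective ubar
  have := isCofiltered_etNbhd hX p hp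
  refine initiallySmall_of_small_weakly_initial_set (Set.range (stdNbhd p a hae)) (fun N => ?_)
  obtain ⟨t, ht⟩ := exists_stdNbhd_hom p a hae ū h1 N
  exact ⟨_, ⟨t, rfl⟩, ht⟩

end Groth.Agent.Lib.Helper3
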