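import Groth.Agent.Lib.Helper3.AlgSpEtTopIff
import Groth.Agent.Lib.Helper3.AlgSpEtNbhdCofilt

set_option autoImplicit false
universe u
open CategoryTheory CategoryTheory.Limits AlgebraicGeometry Opposite
open AlgSp

namespace Groth.Agent.Lib.Helper3

variable {S : Scheme.{u}} {X Y : Sp S} (f : X ⟶ Y) (hf : IsEtaleMor f)

theorem isPullback_postcomp_map {E₁ E₂ E₀ : EtOver X} (g₁ : E₁ ⟶ E₀) (g₂ : E₂ ⟶ E₀) :
    IsPullback ((EtOver.postcomp f hf).map (EtOver.pullbackFst g₁ g₂))
      ((EtOver.postcomp f hf).map (EtOver.pullbackSnd g₁ g₂))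
      ((EtOver.postcomp f hf).map g₁) ((EtOver.postcomp f hf).map g₂) := by
  have comm : (EtOver.postcomp f hf).map (EtOver.pullbackFst g₁ g₂) ≫ (EtOver.postcomp f hf).map g₁ =
      (EtOver.postcomp f hf).map (EtOver.pullbackSnd g₁ g₂) ≫ (EtOver.postcomp f hf).map g₂ := by
    rw [← Functor.map_comp, ← Functor.map_comp, EtOver.pullback_condition]
  have T : IsPullback (EtOver.pullbackFst g₁ g₂).hom.left (EtOver.pullbackSnd g₁ g₂).hom.left
      g₁.hom.left g₂.hom.left := (EtOver.isPullback g₁ g₂).map (EtOver.forget X)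
  exact IsPullback.of_map (EtOver.forget Y) comm T

instance preservesLimit_cospan_postcomp {E₁ E₂ E₀ : EtOver X} (g₁ : E₁ ⟶ E₀) (g₂ : E₂ ⟶ E₀) :
    PreservesLimit (cospan g₁ g₂) (EtOver.postcomp f hf) :=
  preservesLimit_of_preserves_limit_cone (EtOver.pullbackIsLimit g₁ g₂)
    ((isLimitMapConePullbackConeEquiv _ _).symm (isPullback_postcomp_map f hf g₁ g₂).isLimit)

instance preservesPullbacks_postcomp :
    PreservesLimitsOfShape WalkingCospan (EtOver.postcomp f hf) where
  preservesLimit {K} := preservesLimit_of_iso_diagram _ (diagramIsoCospan K).symm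

theorem etPre_le_comap_postcomp : etPre X ≤ (etPre Y).comap (EtOver.postcomp f hf) := by
  intro E R hR
  obtain ⟨ι, Z, g, rfl⟩ := R.exists_eq_ofArrows
  have hR' : Presieve.ofArrows (fun i => (Z i).obj.left.left) (fun i => (g i).hom.left.left) ∈
      Scheme.etalePrecoverage _ := by
    have := hR; unfold etPre at this
    rwa [Precoverage.mem_comap_iff, Presieve.map_ofArrows] at this
  rw [Precoverage.mem_comap_iff, Presieve.map_ofArrows]
  unfold etPre
  rw [Precoverage.mem_comap_iff, Presieve.map_ofArrows]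
  exact hR'

theorem postcomp_isContinuous :
    (EtOver.postcomp f hf).IsContinuous (etTop X) (etTop Y) := by
  change (EtOver.postcomp f hf).IsContinuous (etPre X).toGrothendieck (etPre Y).toGrothendieck
  exact Functor.isContinuous_toGrothendieck_of_pullbacksPreservedBy _ _ _
    (etPre_le_comap_postcomp f hf)

theorem postcomp_isCocontinuous :
    (EtOver.postcomp f hf).IsCocontinuous (etTop X) (etTop Y) where
  cover_lift {U R} hR := by
    rw [mem_etTop_iff_pointwise] at hR ⊢
    intro x
    obtain ⟨E', g, hg, hx⟩ := hR x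
    have hV : RepWith @Etale ((yon S).map g.hom.left ≫ U.obj.hom) :=
      (RepWith @Etale).comp_mem _ _ ((repWith_yon_map_iff _ g.hom.left).2 (EtOver.etale_left g))
        U.property
    let V : EtOver X := EtOver.mk _ hV
    let h : V ⟶ U := EtOver.homMk g.hom.left rfl
    have hw : (yon S).map (𝟙 E'.obj.left) ≫ E'.obj.hom = ((yon S).map g.hom.left ≫ U.obj.hom) ≫ f := by
      rw [Category.assoc]
      refine Eq.trans ?_ (EtOver.w g).symm
      refine Eq.trans (congrArg (· ≫ E'.obj.hom) ((yon S).map_id E'.obj.left)) ?_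
      exact Category.id_comp _
    let i : (EtOver.postcomp f hf).obj V ⟶ E' := EtOver.homMk (𝟙 _) hw
    have hi : (EtOver.postcomp f hf).map h = i ≫ g := by
      apply EtOver.hom_ext
      exact (Category.id_comp _).symm
    refine ⟨V, h, ?_, hx⟩
    change R.arrows ((EtOver.postcomp f hf).map h)
    rw [hi]
    exact R.downward_closed hg i

end Groth.Agent.Lib.Helper3
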