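import Groth.Agent.Lib.Helper3.AlgSpEtNbhdCofilt
import Mathlib.CategoryTheory.Sites.Point.Basic
import Mathlib.CategoryTheory.Sites.Point.Skyscraper

set_option autoImplicit false
universe u
open CategoryTheory CategoryTheory.Limits AlgebraicGeometry Opposite

namespace Groth.Agent.Lib.Helper3

variable {S : Scheme.{u}}

open AlgSp

variable {X : Sp S}

/-- The fibre functor of a field-valued point, with values one universe up. -/
noncomputable def etFiber (p : FieldPt X) : EtOver X ⥤ Type (u + 1) :=
  FieldPt.liftsTo p ⋙ uliftFunctor.{u + 1, u}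

/-- From elements of the lifted fibre functor to etale neighbourhoods. -/
noncomputable def etFiberElementsToNbhd (p : FieldPt X) : (etFiber p).Elements ⥤ EtNbhd p where
  obj N := ⟨N.1, N.2.down⟩
  map {N N'} f := ⟨f.1, congrArg ULift.down f.2⟩

/-- From etale neighbourhoods to elements of the lifted fibre functor. -/
noncomputable def etNbhdToFiberElements (p : FieldPt X) : EtNbhd p ⥤ (etFiber p).Elements where
  obj N := ⟨N.1, ⟨N.2⟩⟩
  map {N N'} f := ⟨f.1, congrArg ULift.up f.2⟩

/-- The two categories of neighbourhoods are equivalent. -/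
noncomputable def etFiberElementsEquiv (p : FieldPt X) : (etFiber p).Elements ≌ EtNbhd p where
  functor := etFiberElementsToNbhd p
  inverse := etNbhdToFiberElements p
  unitIso := NatIso.ofComponents (fun _ => Iso.refl _)
  counitIso := NatIso.ofComponents (fun _ => Iso.refl _)

theorem etFiberElementsToNbhd_comp_π (p : FieldPt X) :
    etFiberElementsToNbhd p ⋙ EtNbhd.toEtOver p = CategoryOfElements.π (etFiber p) := rfl

/-- A covering family of the small etale site hits every point of the target. -/
theorem exists_mem_of_mem_etPre {E : EtOver X} (R : Presieve E) (hR : R ∈ etPre X E)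
    (e : ↥E.obj.left.left) :
    ∃ (E' : EtOver X) (g : E' ⟶ E), R g ∧ e ∈ Set.range g.hom.left.left := by
  rw [etPre, Precoverage.mem_comap_iff] at hR
  have h1 := hR.1
  rw [Presieve.mem_comap_jointlySurjectivePrecoverage_iff] at h1
  obtain ⟨Y, f, hf, hx⟩ := h1 e
  obtain ⟨hg⟩ := hf
  exact ⟨_, _, hg, hx⟩

/-- A lift of a geometric point to `E` lifts further to a member of any covering family. -/
theorem exists_lift_of_mem_etPre (p : FieldPt X) (hp : p.IsGeometric) {E : EtOver X}
    (R : Presieve E) (hR : R ∈ etPre X E) (u : (FieldPt.liftsTo p).obj E) :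
    ∃ (E' : EtOver X) (g : E' ⟶ E) (_ : R g) (u' : (FieldPt.liftsTo p).obj E'),
      (FieldPt.liftsTo p).map g u' = u := by
  have : IsAlgClosed p.K := hp
  obtain ⟨E', g, hg, y, hy⟩ := exists_mem_of_mem_etPre R hR (u.1.left (IsLocalRing.closedPoint p.K))
  have hget : Etale g.hom.left.left := EtOver.etale_left g
  obtain ⟨l, hl⟩ := exists_lift_of_etale_algClosed p.K
    g.hom.left.left (show Spec (CommRingCat.of p.K) ⟶ E.obj.left.left from u.1.left) y hy
  have hw : l ≫ E'.obj.left.hom = p.pt.hom := by
    have h1 : g.hom.left.left ≫ E.obj.left.hom = E'.obj.left.hom := Over.w g.hom.left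
    have h2 : u.1.left ≫ E.obj.left.hom = p.pt.hom := Over.w u.1
    rw [← h1, ← Category.assoc, hl]
    exact h2
  let l' : p.pt ⟶ E'.obj.left := Over.homMk l hw
  have hl' : l' ≫ g.hom.left = u.1 := by
    ext
    exact hl
  refine ⟨E', g, hg, ⟨l', ?_⟩, ?_⟩
  · rw [← EtOver.w g, ← Category.assoc, ← Functor.map_comp, hl']
    exact u.2
  · apply Subtype.ext
    exact hl'

/-- Covering sieves of the small etale site induce jointly surjective maps on lifts of a
geometric point. -/
theorem liftsTo_jointly_surjective (hX : IsAlgSpace X) (p : FieldPt X) (hp : p.IsGeometric)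
    {E : EtOver X} (R : Sieve E) (h : R ∈ etTop X E) :
    ∀ (u : (FieldPt.liftsTo p).obj E), ∃ (E' : EtOver X) (f : E' ⟶ E) (_ : R f)
      (u' : (FieldPt.liftsTo p).obj E'), (FieldPt.liftsTo p).map f u' = u := by
  have hcof := isCofiltered_etNbhd hX p hp
  rw [etTop, Precoverage.mem_toGrothendieck_iff] at h
  induction h with
  | of E S hS =>
    intro u
    obtain ⟨E', g, hg, u', hu'⟩ := exists_lift_of_mem_etPre p hp S hS u
    exact ⟨E', g, Sieve.le_generate S _ _ hg, u', hu'⟩
  | top E =>
    intro u
    exact ⟨E, 𝟙 E, trivial, u, by simp⟩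
  | pullback E S hS E' f ih =>
    intro u
    obtain ⟨Z, g, hg, z, hz⟩ := ih ((FieldPt.liftsTo p).map f u)
    obtain ⟨W₀, a, b, -⟩ := IsCofilteredOrEmpty.cone_objs (C := EtNbhd p)
      (Functor.elementsMk (FieldPt.liftsTo p) Z z) (Functor.elementsMk (FieldPt.liftsTo p) E' u)
    let N : EtNbhd p := Functor.elementsMk (FieldPt.liftsTo p) E ((FieldPt.liftsTo p).map f u)
    let α : W₀ ⟶ N := ⟨a.1 ≫ g, by
      rw [Functor.map_comp_apply]
      have := a.2
      simp only at this
      rw [this, hz]⟩
    let β : W₀ ⟶ N := ⟨b.1 ≫ f, by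
      rw [Functor.map_comp_apply]
      have := b.2
      simp only at this
      rw [this]⟩
    obtain ⟨W, c, hc⟩ := IsCofilteredOrEmpty.cone_maps (C := EtNbhd p) α β
    have hc' : c.1 ≫ a.1 ≫ g = c.1 ≫ b.1 ≫ f := congrArg Subtype.val hc
    refine ⟨W.1, c.1 ≫ b.1, ?_, W.2, ?_⟩
    · change S.arrows ((c.1 ≫ b.1) ≫ f)
      rw [Category.assoc, ← hc', ← Category.assoc]
      exact S.downward_closed hg _
    · rw [Functor.map_comp_apply]
      have h1 := c.2
      have h2 := b.2
      simp only at h1 h2
      rw [h1, h2]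
  | transitive E S R hS hR ih1 ih2 =>
    intro u
    obtain ⟨Z, g, hg, z, hz⟩ := ih1 u
    obtain ⟨Z', h, hh, z', hz'⟩ := ih2 hg z
    refine ⟨Z', h ≫ g, hh, z', ?_⟩
    rw [Functor.map_comp_apply, hz', hz]

/-- The point of the small etale site of an algebraic space defined by a geometric point. -/
noncomputable def etPoint (hX : IsAlgSpace X) (p : FieldPt X) (hp : p.IsGeometric) :
    GrothendieckTopology.Point.{u + 1} (etTop X) where
  fiber := etFiber p
  isCofiltered := by
    have := isCofiltered_etNbhd hX p hp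
    exact IsCofiltered.of_equivalence (etFiberElementsEquiv p).symm
  initiallySmall := by
    have : EssentiallySmall.{u + 1} (etFiber p).Elements := inferInstance
    exact initiallySmall_of_essentiallySmall _
  jointly_surjective R h x := by
    obtain ⟨E', f, hf, u', hu'⟩ := liftsTo_jointly_surjective hX p hp R h x.down
    exact ⟨E', f, hf, ⟨u'⟩, congrArg ULift.up hu'⟩

end Groth.Agent.Lib.Helper3
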