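import Groth.Agent.Lib.Helper3.AlgSpEtSitePoint

set_option autoImplicit false
universe u v' u'
open CategoryTheory CategoryTheory.Limits AlgebraicGeometry Opposite

namespace Groth.Agent.Lib.Helper3

variable {S : Scheme.{u}}

open AlgSp

variable {X : Sp S}

section

variable (hX : IsAlgSpace X) (p : FieldPt X) (hp : p.IsGeometric)
variable (A : Type u') [Category.{v'} A] [HasColimitsOfSize.{u + 1, u + 1} A]
  [HasColimitsOfShape (EtNbhd p)ᵒᵖ A]

instance : (etFiberElementsToNbhd p).IsEquivalence :=
  (etFiberElementsEquiv p).isEquivalence_functor

instance : (etFiberElementsToNbhd p).op.Final := inferInstance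

/-- The fibre functor on presheaves of the point attached to a geometric point is the stalk
functor of the prelude. -/
noncomputable def presheafFiberIso :
    (etPoint hX p hp).presheafFiber (A := A) ≅ stalkEtPshFunctor A p :=
  haveI : HasColimitsOfShape (etFiber p).Elementsᵒᵖ A :=
    inferInstanceAs (HasColimitsOfShape (etPoint hX p hp).fiber.Elementsᵒᵖ A)
  Functor.isoWhiskerLeft ((Functor.whiskeringLeft _ _ A).obj (EtNbhd.toEtOver p).op)
    (Functor.Final.colimIso (etFiberElementsToNbhd p).op)

/-- The fibre functor on sheaves of the point attached to a geometric point is the stalk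
functor of the prelude. -/
noncomputable def sheafFiberIso :
    (etPoint hX p hp).sheafFiber (A := A) ≅ stalkEtFunctor A p :=
  Functor.isoWhiskerLeft (sheafToPresheaf (etTop X) A) (presheafFiberIso hX p hp A)

end

end Groth.Agent.Lib.Helper3
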