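import Groth.Agent.Lib.Helper3.AlgSpEtSitePoint2
import Groth.Agent.Lib.Helper3.AlgSpEtPoint
import Mathlib.CategoryTheory.Sites.Point.Conservative
import Mathlib.FieldTheory.IsAlgClosed.AlgebraicClosure

set_option autoImplicit false
universe u
open CategoryTheory CategoryTheory.Limits AlgebraicGeometry Opposite

namespace Groth.Agent.Lib.Helper3

variable {S : Scheme.{u}}

open AlgSp

variable {X : Sp S}

/-- Every point of a scheme etale over `X` is the image of a lift of a geometric point. -/
theorem exists_geometric_lift (E : EtOver X) (e : ↥E.obj.left.left) :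
    ∃ (p : FieldPt X) (_ : p.IsGeometric) (u : (FieldPt.liftsTo p).obj E),
      u.1.left (IsLocalRing.closedPoint p.K) = e := by
  let K := AlgebraicClosure ↥(E.obj.left.left.residueField e)
  let t : Spec (CommRingCat.of K) ⟶ E.obj.left.left :=
    Spec.map (CommRingCat.ofHom (algebraMap ↥(E.obj.left.left.residueField e) K)) ≫
      E.obj.left.left.fromSpecResidueField e
  let str : Spec (CommRingCat.of K) ⟶ S := t ≫ E.obj.left.hom
  let ū : Over.mk str ⟶ E.obj.left := Over.homMk t rfl
  have hp : (fieldPtOfHom K str ((yon S).map ū ≫ E.obj.hom)).IsGeometric :=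
    (inferInstance : IsAlgClosed K)
  refine ⟨fieldPtOfHom K str ((yon S).map ū ≫ E.obj.hom), hp, ⟨ū, ?_⟩, ?_⟩
  · exact (toHom_fieldPtOfHom K str _).symm
  · change t (IsLocalRing.closedPoint K) = e
    rw [Scheme.Hom.comp_apply]
    exact Scheme.fromSpecResidueField_apply _ _

/-- The family of points of the small etale site given by geometric points. -/
def geomPoints (hX : IsAlgSpace X) :
    ObjectProperty (GrothendieckTopology.Point.{u + 1} (etTop X)) :=
  fun Φ => ∃ (p : FieldPt X) (hp : p.IsGeometric), Φ = etPoint hX p hp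

/-- Geometric points form a conservative family of points of the small etale site. -/
theorem isConservative_geomPoints (hX : IsAlgSpace X) :
    (geomPoints hX).IsConservativeFamilyOfPoints := by
  refine ObjectProperty.IsConservativeFamilyOfPoints.mk' ?_
  intro E R hR
  have key : ∀ e : ↥E.obj.left.left, ∃ (E' : EtOver X) (g : E' ⟶ E),
      R g ∧ e ∈ Set.range g.hom.left.left := by
    intro e
    obtain ⟨p, hp, u, hu⟩ := exists_geometric_lift E e
    obtain ⟨Y, g, hg, y, hy⟩ := hR ⟨etPoint hX p hp, ⟨p, hp, rfl⟩⟩ ⟨u⟩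
    refine ⟨Y, g, hg, y.down.1.left (IsLocalRing.closedPoint p.K), ?_⟩
    have h1 : (FieldPt.liftsTo p).map g y.down = u := congrArg ULift.down hy
    have h2 : y.down.1 ≫ g.hom.left = u.1 := congrArg Subtype.val h1
    rw [← hu, ← h2]
    rfl
  choose E' g hg hrange using key
  refine (etTop X).superset_covering ?_
    (Precoverage.generate_mem_toGrothendieck (J := etPre X) (R := Presieve.ofArrows E' g) ?_)
  · rw [Sieve.generate_le_iff]
    rintro _ _ ⟨e⟩
    exact hg e
  · rw [ofArrows_mem_etPre_iff]
    intro e
    exact ⟨e, hrange e⟩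

end Groth.Agent.Lib.Helper3
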