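import Groth.Agent.Lib.Helper3.AlgSpEtSitePoint3
import Mathlib.CategoryTheory.Abelian.GrothendieckAxioms.Types
import Mathlib.Algebra.Category.Grp.AB

set_option autoImplicit false
universe u
open CategoryTheory CategoryTheory.Limits AlgebraicGeometry Opposite

namespace Groth.Agent.Lib.Helper3

variable {S : Scheme.{u}}

open AlgSp

variable {X : Sp S}

theorem mono_map_iff_of_natIso {C D : Type*} [Category C] [Category D] {F G : C ⥤ D} (e : F ≅ G)
    {A B : C} (f : A ⟶ B) : Mono (F.map f) ↔ Mono (G.map f) :=
  (MorphismProperty.monomorphisms D).arrow_mk_iso_iff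
    (Arrow.isoMk (e.app A) (e.app B) (by simp))

theorem epi_map_iff_of_natIso {C D : Type*} [Category C] [Category D] {F G : C ⥤ D} (e : F ≅ G)
    {A B : C} (f : A ⟶ B) : Epi (F.map f) ↔ Epi (G.map f) :=
  (MorphismProperty.epimorphisms D).arrow_mk_iso_iff
    (Arrow.isoMk (e.app A) (e.app B) (by simp))

/-- A map of sheaves of sets on the small etale site is a monomorphism iff it is injective on
stalks at all geometric points. -/
theorem mono_iff_stalkEt (hX : IsAlgSpace X) {F G : EtSh X (Type (u + 1))} (a : F ⟶ G) :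
    Mono a ↔ ∀ p : FieldPt X, p.IsGeometric →
      Function.Injective ((stalkEtFunctor (Type (u + 1)) p).map a) := by
  have hcons := isConservative_geomPoints hX
  rw [(hcons.jointlyReflectMonomorphisms (Type (u + 1))).mono_iff a]
  constructor
  · intro h p hp
    have h1 := h ⟨etPoint hX p hp, ⟨p, hp, rfl⟩⟩
    rw [mono_map_iff_of_natIso (sheafFiberIso hX p hp (Type (u + 1)))] at h1
    exact (mono_iff_injective _).1 h1
  · rintro h ⟨_, p, hp, rfl⟩
    change Mono ((etPoint hX p hp).sheafFiber.map a)
    rw [mono_map_iff_of_natIso (sheafFiberIso hX p hp (Type (u + 1)))]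
    exact (mono_iff_injective _).2 (h p hp)

/-- A map of sheaves of sets on the small etale site is an epimorphism iff it is surjective on
stalks at all geometric points. -/
theorem epi_iff_stalkEt (hX : IsAlgSpace X) {F G : EtSh X (Type (u + 1))} (a : F ⟶ G) :
    Epi a ↔ ∀ p : FieldPt X, p.IsGeometric →
      Function.Surjective ((stalkEtFunctor (Type (u + 1)) p).map a) := by
  have hcons := isConservative_geomPoints hX
  rw [(hcons.jointlyReflectEpimorphisms (Type (u + 1))).epi_iff a]
  constructor
  · intro h p hp
    have h1 := h ⟨etPoint hX p hp, ⟨p, hp, rfl⟩⟩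
    rw [epi_map_iff_of_natIso (sheafFiberIso hX p hp (Type (u + 1)))] at h1
    exact (epi_iff_surjective _).1 h1
  · rintro h ⟨_, p, hp, rfl⟩
    change Epi ((etPoint hX p hp).sheafFiber.map a)
    rw [epi_map_iff_of_natIso (sheafFiberIso hX p hp (Type (u + 1)))]
    exact (epi_iff_surjective _).2 (h p hp)

end Groth.Agent.Lib.Helper3
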