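import Groth.Agent.Lib.Helper3.AlgSpEtSitePoint4
import Groth.Prelude.Def_AlgSpOX
import Mathlib.Algebra.Homology.ShortComplex.Ab
import Mathlib.Algebra.Homology.ShortComplex.PreservesHomology
import Mathlib.Algebra.Homology.ShortComplex.ExactFunctor

set_option autoImplicit false
universe u
open CategoryTheory CategoryTheory.Limits AlgebraicGeometry Opposite

namespace Groth.Agent.Lib.Helper3

variable {S : Scheme.{u}}

open AlgSp

variable {X : Sp S}

theorem preservesFiniteLimits_stalkEtFunctor_ab (hX : IsAlgSpace X) (p : FieldPt X)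
    (hp : p.IsGeometric) : PreservesFiniteLimits (stalkEtFunctor AddCommGrpCat.{u + 1} p) := by
  have h3 : PreservesFiniteLimits
      ((etPoint hX p hp).sheafFiber (A := AddCommGrpCat.{u + 1})) := inferInstance
  exact preservesFiniteLimits_of_natIso (sheafFiberIso hX p hp AddCommGrpCat.{u + 1})

theorem preservesFiniteColimits_stalkEtFunctor_ab (hX : IsAlgSpace X) (p : FieldPt X)
    (hp : p.IsGeometric) : PreservesFiniteColimits (stalkEtFunctor AddCommGrpCat.{u + 1} p) := by
  have h3 : PreservesFiniteColimits
      ((etPoint hX p hp).sheafFiber (A := AddCommGrpCat.{u + 1})) := inferInstance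
  exact preservesFiniteColimits_of_natIso (sheafFiberIso hX p hp AddCommGrpCat.{u + 1})

/-- An abelian sheaf on the small etale site all of whose geometric stalks vanish is zero. -/
theorem isZero_of_forall_isZero_stalkEt (hX : IsAlgSpace X) (H : AbEt X)
    (h : ∀ p : FieldPt X, p.IsGeometric →
      IsZero ((stalkEtFunctor AddCommGrpCat.{u + 1} p).obj H)) : IsZero H := by
  have hcons := isConservative_geomPoints hX
  have hfaith := hcons.jointlyFaithful AddCommGrpCat.{u + 1}
  rw [IsZero.iff_id_eq_zero]
  refine hfaith.map_injective ?_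
  rintro ⟨_, p, hp, rfl⟩
  have hz : IsZero (((etPoint hX p hp).sheafFiber (A := AddCommGrpCat.{u + 1})).obj H) :=
    IsZero.of_iso (h p hp) ((sheafFiberIso hX p hp AddCommGrpCat.{u + 1}).app H)
  exact hz.eq_of_src _ _

/-- A short complex of abelian sheaves on the small etale site is exact iff it is exact on all
geometric stalks. -/
theorem shortComplex_exact_iff_stalkEt (hX : IsAlgSpace X) (C : ShortComplex (AbEt X)) :
    C.Exact ↔ ∀ p : FieldPt X, p.IsGeometric →
      ∀ y : ↥((stalkEtFunctor AddCommGrpCat.{u + 1} p).obj C.X₂),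
        ((stalkEtFunctor AddCommGrpCat.{u + 1} p).map C.g) y = 0 →
          ∃ x : ↥((stalkEtFunctor AddCommGrpCat.{u + 1} p).obj C.X₁),
            ((stalkEtFunctor AddCommGrpCat.{u + 1} p).map C.f) x = y := by
  constructor
  · intro hC p hp
    have h1 := preservesFiniteLimits_stalkEtFunctor_ab hX p hp
    have h2 := preservesFiniteColimits_stalkEtFunctor_ab hX p hp
    have hE : (C.map (stalkEtFunctor AddCommGrpCat.{u + 1} p)).Exact := hC.map _
    exact (ShortComplex.ab_exact_iff _).1 hE
  · intro h
    rw [ShortComplex.exact_iff_isZero_homology]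
    apply isZero_of_forall_isZero_stalkEt hX
    intro p hp
    have h1 := preservesFiniteLimits_stalkEtFunctor_ab hX p hp
    have h2 := preservesFiniteColimits_stalkEtFunctor_ab hX p hp
    have hE : (C.map (stalkEtFunctor AddCommGrpCat.{u + 1} p)).Exact :=
      (ShortComplex.ab_exact_iff _).2 (h p hp)
    rw [ShortComplex.exact_iff_isZero_homology] at hE
    exact IsZero.of_iso hE (C.mapHomologyIso (stalkEtFunctor AddCommGrpCat.{u + 1} p)).symm

end Groth.Agent.Lib.Helper3
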