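import Groth.Agent.Lib.Helper3.AlgSpEtSitePoint5

set_option autoImplicit false
universe u
open CategoryTheory CategoryTheory.Limits AlgebraicGeometry Opposite
open AlgSp
namespace Groth.Agent.Lib.Helper3

variable {S : Scheme.{u}} {X : Sp S}

theorem isZero_of_epi_of_isZero {D : Type*} [Category D] [HasZeroMorphisms D] {A B : D} (f : A ⟶ B)
    [Epi f] (h : IsZero A) : IsZero B := by
  rw [IsZero.iff_id_eq_zero, ← cancel_epi f]
  exact h.eq_of_src _ _

theorem isZero_of_mono_of_isZero {D : Type*} [Category D] [HasZeroMorphisms D] {A B : D}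
    (f : A ⟶ B) [Mono f] (h : IsZero B) : IsZero A := by
  rw [IsZero.iff_id_eq_zero, ← cancel_mono f]
  exact h.eq_of_tgt _ _

theorem not_isZero_stalkEt_of_epi (hX : IsAlgSpace X) {F G : AbEt X} (a : F ⟶ G) [Epi a]
    (p : FieldPt X) (hp : p.IsGeometric) (h : ¬ IsZero (stalkEt p G)) :
    ¬ IsZero (stalkEt p F) := by
  have h2 := preservesFiniteColimits_stalkEtFunctor_ab hX p hp
  have h3 : PreservesColimitsOfShape WalkingSpan (stalkEtFunctor AddCommGrpCat.{u + 1} p) :=
    PreservesFiniteColimits.preservesFiniteColimits _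
  have h4 : (stalkEtFunctor AddCommGrpCat.{u + 1} p).PreservesEpimorphisms := inferInstance
  have : Epi ((stalkEtFunctor AddCommGrpCat.{u + 1} p).map a) := Functor.map_epi _ a
  intro hF
  have hF' : IsZero ((stalkEtFunctor AddCommGrpCat.{u + 1} p).obj F) := hF
  have hG' : IsZero ((stalkEtFunctor AddCommGrpCat.{u + 1} p).obj G) :=
    isZero_of_epi_of_isZero ((stalkEtFunctor AddCommGrpCat.{u + 1} p).map a) hF'
  exact h hG'

theorem not_isZero_stalkEt_of_mono (hX : IsAlgSpace X) {F G : AbEt X} (a : F ⟶ G) [Mono a]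
    (p : FieldPt X) (hp : p.IsGeometric) (h : ¬ IsZero (stalkEt p F)) :
    ¬ IsZero (stalkEt p G) := by
  have h2 := preservesFiniteLimits_stalkEtFunctor_ab hX p hp
  have h3 : PreservesLimitsOfShape WalkingCospan (stalkEtFunctor AddCommGrpCat.{u + 1} p) :=
    PreservesFiniteLimits.preservesFiniteLimits _
  have h4 : (stalkEtFunctor AddCommGrpCat.{u + 1} p).PreservesMonomorphisms := inferInstance
  have : Mono ((stalkEtFunctor AddCommGrpCat.{u + 1} p).map a) := Functor.map_mono _ a
  intro hG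
  have hG' : IsZero ((stalkEtFunctor AddCommGrpCat.{u + 1} p).obj G) := hG
  have hF' : IsZero ((stalkEtFunctor AddCommGrpCat.{u + 1} p).obj F) :=
    isZero_of_mono_of_isZero ((stalkEtFunctor AddCommGrpCat.{u + 1} p).map a) hG'
  exact h hF'

end Groth.Agent.Lib.Helper3
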