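import Groth.Agent.Lib.Helper3.AlgSpEtSupportRing

set_option autoImplicit false
universe u
open CategoryTheory CategoryTheory.Limits AlgebraicGeometry Opposite
open AlgSp

namespace Groth.Agent.Lib.Helper3

variable {S : Scheme.{u}} {X : Sp S}

/-- Every open of `|X|` is the union of the images of the schemes etale over `X` mapping into
it. -/
theorem open_eq_iUnion_range_ofPt (hX : IsAlgSpace X) (W : Set (Points X)) (hW : IsOpen W) :
    W = ⋃ (E : EtOver X) (_ : Set.range (Points.ofPt E.obj.hom) ⊆ W),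
      Set.range (Points.ofPt E.obj.hom) := by
  apply Set.Subset.antisymm
  · intro x hx
    obtain ⟨U, a, hae, has⟩ := hX.atlas
    obtain ⟨u, rfl⟩ := (Groth.Agent.S9906.repWith_surjective_iff a has.1).1 has x
    let O : U.left.Opens := ⟨Points.ofPt a ⁻¹' W, (Points.continuous_ofPt a).isOpen_preimage W hW⟩
    let UO : Over S := Over.mk (O.ι ≫ U.hom)
    let ι : UO ⟶ U := Over.homMk O.ι rfl
    have hι : RepWith @Etale ((yon S).map ι ≫ a) :=
      (RepWith @Etale).comp_mem _ _ ((repWith_yon_map_iff _ ι).2 (inferInstance : Etale O.ι)) hae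
    have hsub : Set.range (Points.ofPt (EtOver.mk _ hι).obj.hom) ⊆ W := by
      rintro _ ⟨o, rfl⟩
      change Points.ofPt ((yon S).map ι ≫ a) o ∈ W
      rw [Points.ofPt_yon_map_comp]
      exact o.2
    simp only [Set.mem_iUnion, exists_prop]
    have hu : Points.toScheme U u ∈ O := by
      change Points.ofPt a (Points.toScheme U u) ∈ W
      rw [Points.ofPt_eq_map_ofScheme, Points.ofScheme_toScheme]
      exact hx
    refine ⟨EtOver.mk _ hι, hsub, ⟨⟨Points.toScheme U u, hu⟩, ?_⟩⟩
    change Points.ofPt ((yon S).map ι ≫ a) _ = _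
    rw [Points.ofPt_yon_map_comp]
    change Points.ofPt a (Points.toScheme U u) = _
    rw [Points.ofPt_eq_map_ofScheme, Points.ofScheme_toScheme]
  · intro x hx
    simp only [Set.mem_iUnion, exists_prop] at hx
    obtain ⟨E, hE, hx⟩ := hx
    exact hE hx

/-- A subsheaf of the final object of the small etale topos has a section over `E` as soon as
every point of `E` lies in the image of a scheme over which it has a section. -/
theorem nonempty_of_forall_exists (F : EtSh X (Type (u + 1)))
    (hF : ∀ E : EtOver X, Subsingleton (F.obj.obj (op E))) (E : EtOver X)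
    (h : ∀ e : ↥E.obj.left.left, ∃ (E' : EtOver X) (e' : ↥E'.obj.left.left),
      Nonempty (F.obj.obj (op E')) ∧ Points.ofPt E.obj.hom e = Points.ofPt E'.obj.hom e') :
    Nonempty (F.obj.obj (op E)) := by
  let R : Sieve E :=
    { arrows := fun V _ => Nonempty (F.obj.obj (op V))
      downward_closed := by
        rintro Y Z ψ ⟨s⟩ χ
        exact ⟨F.obj.map χ.op s⟩ }
  have hR : R ∈ etTop X E := by
    rw [mem_etTop_iff_pointwise]
    intro e
    obtain ⟨E', e', ⟨s⟩, he⟩ := h e
    obtain ⟨W, pE, pE', sq⟩ := exists_pullback_charts E.obj.hom E.property.1 E'.obj.hom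
    have hpE : Etale pE.left := E'.property.2 E.obj.hom ((yon S).map pE') pE sq.flip
    have hW : RepWith @Etale ((yon S).map pE ≫ E.obj.hom) :=
      (RepWith @Etale).comp_mem _ _ ((repWith_yon_map_iff _ pE).2 hpE) E.property
    obtain ⟨w, hw1, -⟩ := exists_of_ofPt_eq_of_isPullback sq e e' he
    let EW : EtOver X := EtOver.mk _ hW
    let g : EW ⟶ E := EtOver.homMk pE rfl
    let g' : EW ⟶ E' := EtOver.homMk pE' sq.w.symm
    exact ⟨EW, g, ⟨F.obj.map g'.op s⟩, ⟨w, hw1⟩⟩
  have hsh : Presieve.IsSheaf (etTop X) F.obj := (isSheaf_iff_isSheaf_of_type _ _).1 F.2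
  let x : Presieve.FamilyOfElements F.obj R.arrows := fun V _ hψ => hψ.some
  have hx : x.Compatible := by
    intro Y₁ Y₂ Z g₁ g₂ f₁ f₂ h₁ h₂ _
    have := hF Z
    exact Subsingleton.elim _ _
  obtain ⟨t, -, -⟩ := hsh R hR x hx
  exact ⟨t⟩

theorem existsUnique_open_of_subsingleton (hX : IsAlgSpace X) (F : EtSh X (Type (u + 1)))
    (hF : ∀ E : EtOver X, Subsingleton (F.obj.obj (op E))) :
    ∃! W : Set (Points X), IsOpen W ∧
      ∀ E : EtOver X, Nonempty (F.obj.obj (op E)) ↔ Set.range (Points.ofPt E.obj.hom) ⊆ W := by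
  refine ⟨⋃ (E : EtOver X) (_ : Nonempty (F.obj.obj (op E))), Set.range (Points.ofPt E.obj.hom),
    ⟨isOpen_iUnion fun E => isOpen_iUnion fun _ =>
      (isOpenMap_ofPt E.obj.hom E.property).isOpen_range, fun E => ⟨?_, ?_⟩⟩, ?_⟩
  · intro hE x hx
    simp only [Set.mem_iUnion, exists_prop]
    exact ⟨E, hE, hx⟩
  · intro hE
    apply nonempty_of_forall_exists F hF E
    intro e
    have := hE ⟨e, rfl⟩
    simp only [Set.mem_iUnion, exists_prop] at this
    obtain ⟨E', hE', e', he'⟩ := this
    exact ⟨E', e', hE', he'.symm⟩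
  · rintro W' ⟨hW'o, hW'⟩
    rw [open_eq_iUnion_range_ofPt hX W' hW'o]
    apply Set.Subset.antisymm
    · apply Set.iUnion_subset
      intro E
      apply Set.iUnion_subset
      intro hE
      exact Set.subset_iUnion₂ (s := fun (E : EtOver X) (_ : Nonempty (F.obj.obj (op E))) =>
        Set.range (Points.ofPt E.obj.hom)) E ((hW' E).2 hE)
    · apply Set.iUnion_subset
      intro E
      apply Set.iUnion_subset
      intro hE
      exact Set.subset_iUnion₂ (s := fun (E : EtOver X)
        (_ : Set.range (Points.ofPt E.obj.hom) ⊆ W') =>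
        Set.range (Points.ofPt E.obj.hom)) E ((hW' E).1 hE)

end Groth.Agent.Lib.Helper3
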