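import Groth.Agent.Lib.Helper3.AlgSpEtVanish
import Groth.Agent.Lib.Helper3.AlgSpEtSitePoint3
import Groth.Agent.Lib.Helper3.AlgSpLocSrc2

set_option autoImplicit false
universe u
open CategoryTheory CategoryTheory.Limits AlgebraicGeometry Opposite
open AlgSp

namespace Groth.Agent.Lib.Helper3

variable {S : Scheme.{u}} {X : Sp S}

/-- The point of `|X|` under a lift of a field-valued point is the class of the point. -/
theorem ofPt_liftsTo (p : FieldPt X) {U : EtOver X} (l : (FieldPt.liftsTo p).obj U)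
    (s : ↥(Spec (CommRingCat.of p.K))) :
    Points.ofPt U.obj.hom (l.1.left s) = Points.mk p := by
  rw [← Points.ofPt_yon_map_comp l.1 U.obj.hom s]
  have h := l.2
  rw [h]
  exact Points.ofPt_toHom p s

/-- A point lies in the support of an abelian sheaf iff it is the image of a point outside the
vanishing locus of a section. -/
theorem exists_not_isZero_stalkEt_iff (hX : IsAlgSpace X) (F : AbEt X) (x : Points X) :
    (∃ p : FieldPt X, p.IsGeometric ∧ Points.mk p = x ∧ ¬ IsZero (stalkEt p F)) ↔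
      ∃ (U : EtOver X) (σ : ↥(F.obj.obj (op U))) (u : ↥U.obj.left.left),
        Points.ofPt U.obj.hom u = x ∧ u ∉ vanishingOpen F U σ := by
  constructor
  · rintro ⟨p, hp, rfl, hnz⟩
    rw [AddCommGrpCat.isZero_iff_subsingleton, not_subsingleton_iff_nontrivial] at hnz
    obtain ⟨s, hs⟩ := exists_ne (0 : ↥(stalkEt p F))
    obtain ⟨N, σ, rfl⟩ := stalkEtι_jointly_surjective hX p hp F s
    refine ⟨N.1, σ, N.2.1.left (IsLocalRing.closedPoint p.K), ofPt_liftsTo p N.2 _, ?_⟩
    intro hmem
    exact hs ((stalkEtι_eq_zero_iff hX F N.1 σ p hp N.2).2 hmem)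
  · rintro ⟨U, σ, u, rfl, hu⟩
    obtain ⟨p, hp, l, rfl⟩ := exists_geometric_lift U u
    refine ⟨p, hp, (ofPt_liftsTo p l _).symm, ?_⟩
    intro hz
    apply hu
    rw [← stalkEtι_eq_zero_iff hX F U σ p hp l]
    have := AddCommGrpCat.subsingleton_of_isZero hz
    exact Subsingleton.elim _ _

end Groth.Agent.Lib.Helper3
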