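import Groth.Agent.Lib.Helper3.AlgSpEtSupport
import Groth.Agent.Lib.Helper3.AlgSpChartPts

set_option autoImplicit false
universe u
open CategoryTheory CategoryTheory.Limits AlgebraicGeometry Opposite
open AlgSp

namespace Groth.Agent.Lib.Helper3

variable {S : Scheme.{u}} {X : Sp S}

/-- A geometric point lifts to any scheme etale over `X` having a point over it. -/
theorem exists_liftsTo_of_ofPt_eq (hX : IsAlgSpace X) (p : FieldPt X) (hp : p.IsGeometric)
    (V : EtOver X) (v : ↥V.obj.left.left) (hv : Points.ofPt V.obj.hom v = Points.mk p) :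
    Nonempty ((FieldPt.liftsTo p).obj V) := by
  obtain ⟨ubar, h1, -⟩ := exists_lift_geometric_point (IsAlgSpace.yon_obj V.obj.left) hX V.obj.hom
    (isEtaleMor_of_repWith _ V.property) p hp (Points.ofPt (𝟙 _) v) (by
      rw [Points.map_ofPt, Category.id_comp, hv])
  obtain ⟨ū, rfl⟩ := (yon S).map_surjective ubar
  exact ⟨⟨ū, h1⟩⟩

/-- Every point of `|X|` is the class of a geometric point. -/
theorem exists_geometric_mk_eq (hX : IsAlgSpace X) (x : Points X) :
    ∃ p : FieldPt X, p.IsGeometric ∧ Points.mk p = x := by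
  obtain ⟨U, a, hae, has⟩ := hX.atlas
  obtain ⟨u, rfl⟩ := (Groth.Agent.S9906.repWith_surjective_iff a has.1).1 has x
  obtain ⟨p, hp, l, hl⟩ := exists_geometric_lift (EtOver.mk a hae) (Points.toScheme U u)
  refine ⟨p, hp, ?_⟩
  rw [← ofPt_liftsTo p l (IsLocalRing.closedPoint p.K), hl]
  change Points.ofPt a (Points.toScheme U u) = _
  rw [Points.ofPt_eq_map_ofScheme, Points.ofScheme_toScheme]

/-- The support of a sheaf of rings on the small etale site is closed. -/
theorem isClosed_support_ring (hX : IsAlgSpace X) (O' : EtSh X CommRingCat.{u + 1}) :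
    IsClosed {x : Points X |
      ∃ p : FieldPt X, p.IsGeometric ∧ Points.mk p = x ∧ Nontrivial ↥(stalkEt p O')} := by
  rw [← isOpen_compl_iff]
  have hZ : {x : Points X |
      ∃ p : FieldPt X, p.IsGeometric ∧ Points.mk p = x ∧ Nontrivial ↥(stalkEt p O')}ᶜ =
      ⋃ (V : EtOver X) (_ : (1 : ↥(O'.obj.obj (op V))) = 0), Set.range (Points.ofPt V.obj.hom) := by
    ext x
    simp only [Set.mem_compl_iff, Set.mem_setOf_eq, Set.mem_iUnion, exists_prop]
    constructor
    · intro hx
      obtain ⟨p, hp, rfl⟩ := exists_geometric_mk_eq hX x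
      have htriv : ¬ Nontrivial ↥(stalkEt p O') := fun hn => hx ⟨p, hp, rfl, hn⟩
      rw [not_nontrivial_iff_subsingleton] at htriv
      obtain ⟨N⟩ := nonempty_etNbhd hX p hp
      have h01 : stalkEtι p O' N (1 : ↥(O'.obj.obj (op N.1))) = stalkEtι p O' N 0 :=
        Subsingleton.elim _ _
      obtain ⟨N', f, hf⟩ := (stalkEtι_eq_iff hX p hp O' N _ _).1 h01
      refine ⟨N'.1, ?_, ⟨N'.2.1.left (IsLocalRing.closedPoint p.K), ofPt_liftsTo p N'.2 _⟩⟩
      have h1 : (O'.obj.map f.1.op).hom (1 : ↥(O'.obj.obj (op N.1))) = 1 := map_one _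
      have h0 : (O'.obj.map f.1.op).hom (0 : ↥(O'.obj.obj (op N.1))) = 0 := map_zero _
      exact h1.symm.trans (hf.trans h0)
    · rintro ⟨V, h10, v, rfl⟩ ⟨p, hp, hpv, hn⟩
      obtain ⟨l⟩ := exists_liftsTo_of_ofPt_eq hX p hp V v hpv.symm
      have h1 : (stalkEtι p O' ⟨V, l⟩).hom (1 : ↥(O'.obj.obj (op V))) = 1 := map_one _
      have h0 : (stalkEtι p O' ⟨V, l⟩).hom (0 : ↥(O'.obj.obj (op V))) = 0 := map_zero _
      rw [h10, h0] at h1
      exact zero_ne_one h1
  rw [hZ]
  exact isOpen_iUnion fun V => isOpen_iUnion fun _ => (isOpenMap_ofPt V.obj.hom V.property).isOpen_range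

end Groth.Agent.Lib.Helper3
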