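import Groth.Agent.Lib.Helper3.AlgSpEtGerm
import Groth.Agent.Lib.Helper3.AlgSpEtTopIff

set_option autoImplicit false
universe u v' u' w'
open CategoryTheory CategoryTheory.Limits AlgebraicGeometry Opposite
open AlgSp

namespace Groth.Agent.Lib.Helper3

theorem exists_preimage_of_isPullback {P A B C : Scheme.{u}} {fst : P ⟶ A} {snd : P ⟶ B}
    {f : A ⟶ C} {g : B ⟶ C} (sq : IsPullback fst snd f g) (x : A) (y : B) (h : f x = g y) :
    ∃ z : P, fst z = x ∧ snd z = y := by
  obtain ⟨w, hw1, hw2⟩ := Scheme.Pullback.exists_preimage_pullback (f := f) (g := g) x y h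
  refine ⟨sq.isoPullback.inv w, ?_, ?_⟩
  · rw [← Scheme.Hom.comp_apply, sq.isoPullback_inv_fst, hw1]
  · rw [← Scheme.Hom.comp_apply, sq.isoPullback_inv_snd, hw2]

variable {S : Scheme.{u}} {X : Sp S}

/-- In the small etale site, fibre products are surjective onto pairs of points with the same
image. -/
theorem EtOver.exists_preimage_pullback {E₁ E₂ E₀ : EtOver X} (g₁ : E₁ ⟶ E₀) (g₂ : E₂ ⟶ E₀)
    (x : ↥E₁.obj.left.left) (y : ↥E₂.obj.left.left)
    (h : g₁.hom.left.left x = g₂.hom.left.left y) :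
    ∃ z : ↥(EtOver.pullbackObj g₁ g₂).obj.left.left,
      (EtOver.pullbackFst g₁ g₂).hom.left.left z = x ∧
        (EtOver.pullbackSnd g₁ g₂).hom.left.left z = y :=
  exists_preimage_of_isPullback ((EtOver.isPullback g₁ g₂).map (EtOver.toScheme X)) x y h

/-- Sections of an abelian sheaf on the small etale site agreeing on a covering sieve agree. -/
theorem abEt_ext_of_mem (F : AbEt X) {V : EtOver X} (R : Sieve V) (hR : R ∈ etTop X V)
    (σ τ : ↥(F.obj.obj (op V)))
    (h : ∀ {W : EtOver X} (ψ : W ⟶ V), R ψ → (F.obj.map ψ.op).hom σ = (F.obj.map ψ.op).hom τ) :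
    σ = τ := by
  have h1 : Presieve.IsSheaf (etTop X) (F.obj ⋙ forget AddCommGrpCat.{u + 1}) := by
    rw [← isSheaf_iff_isSheaf_of_type]
    exact ((sheafCompose (etTop X) (forget AddCommGrpCat.{u + 1})).obj F).2
  exact (h1.isSeparated R hR).ext (fun W ψ hψ => h ψ hψ)

/-- The largest open of `U` on which the section `σ` vanishes. -/
noncomputable def vanishingOpen (F : AbEt X) (U : EtOver X) (σ : ↥(F.obj.obj (op U))) :
    TopologicalSpace.Opens ↥U.obj.left.left :=
  ⟨⋃ (V : EtOver X) (φ : V ⟶ U) (_ : (F.obj.map φ.op).hom σ = 0), Set.range φ.hom.left.left,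
    isOpen_iUnion fun _ => isOpen_iUnion fun φ => isOpen_iUnion fun _ =>
      have : Etale φ.hom.left.left := EtOver.etale_left φ
      φ.hom.left.left.isOpenMap.isOpen_range⟩

theorem mem_vanishingOpen_iff (F : AbEt X) (U : EtOver X) (σ : ↥(F.obj.obj (op U)))
    (x : ↥U.obj.left.left) :
    x ∈ vanishingOpen F U σ ↔ ∃ (V : EtOver X) (φ : V ⟶ U), (F.obj.map φ.op).hom σ = 0 ∧
      x ∈ Set.range φ.hom.left.left := by
  change x ∈ ⋃ (V : EtOver X) (φ : V ⟶ U) (_ : (F.obj.map φ.op).hom σ = 0),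
    Set.range φ.hom.left.left ↔ _
  simp only [Set.mem_iUnion, exists_prop]

theorem restrict_eq_zero_iff (F : AbEt X) (U : EtOver X) (σ : ↥(F.obj.obj (op U)))
    (V : EtOver X) (φ : V ⟶ U) :
    (F.obj.map φ.op).hom σ = 0 ↔
      Set.range (fun v => φ.hom.left.left v) ⊆ (vanishingOpen F U σ : Set ↥U.obj.left.left) := by
  constructor
  · rintro h _ ⟨v, rfl⟩
    exact (mem_vanishingOpen_iff F U σ _).2 ⟨V, φ, h, ⟨v, rfl⟩⟩
  · intro h
    let R : Sieve V :=
      { arrows := fun W ψ => (F.obj.map (ψ ≫ φ).op).hom σ = 0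
        downward_closed := by
          intro Y Z ψ hψ χ
          rw [Category.assoc, op_comp, Functor.map_comp, AddCommGrpCat.hom_comp,
            AddMonoidHom.comp_apply, hψ, map_zero] }
    have hR : R ∈ etTop X V := by
      rw [mem_etTop_iff_pointwise]
      intro v
      obtain ⟨V', φ', hφ', v', hv'⟩ := (mem_vanishingOpen_iff F U σ _).1 (h ⟨v, rfl⟩)
      obtain ⟨z, hz1, -⟩ := EtOver.exists_preimage_pullback φ φ' v v' hv'.symm
      refine ⟨_, EtOver.pullbackFst φ φ', ?_, ⟨z, hz1⟩⟩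
      change (F.obj.map (EtOver.pullbackFst φ φ' ≫ φ).op).hom σ = 0
      rw [EtOver.pullback_condition, op_comp, Functor.map_comp, AddCommGrpCat.hom_comp,
        AddMonoidHom.comp_apply, hφ', map_zero]
    apply abEt_ext_of_mem F R hR
    intro W ψ hψ
    rw [map_zero]
    have : (F.obj.map (ψ ≫ φ).op).hom σ = 0 := hψ
    rw [op_comp, Functor.map_comp, AddCommGrpCat.hom_comp, AddMonoidHom.comp_apply] at this
    exact this

/-- A lift of a geometric point lifts further along a morphism of the site, through a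
prescribed point of the fibre. -/
theorem exists_liftsTo_of_mem_range (p : FieldPt X) (hp : p.IsGeometric) {E E' : EtOver X}
    (g : E' ⟶ E) (u : (FieldPt.liftsTo p).obj E) (y : ↥E'.obj.left.left)
    (hy : g.hom.left.left y = u.1.left (IsLocalRing.closedPoint p.K)) :
    ∃ u' : (FieldPt.liftsTo p).obj E', (FieldPt.liftsTo p).map g u' = u := by
  have : IsAlgClosed p.K := hp
  have hget : Etale g.hom.left.left := EtOver.etale_left g
  obtain ⟨l, hl⟩ := exists_lift_of_etale_algClosed p.K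
    g.hom.left.left (show Spec (CommRingCat.of p.K) ⟶ E.obj.left.left from u.1.left) y hy
  have hw : l ≫ E'.obj.left.hom = p.pt.hom := by
    have h1 : g.hom.left.left ≫ E.obj.left.hom = E'.obj.left.hom := Over.w g.hom.left
    have h2 : u.1.left ≫ E.obj.left.hom = p.pt.hom := Over.w u.1
    rw [← h1, ← Category.assoc, hl]
    exact h2
  let l' : p.pt ⟶ E'.obj.left := Over.homMk l hw
  have hl' : l' ≫ g.hom.left = u.1 := by
    ext
    exact hl
  refine ⟨⟨l', ?_⟩, ?_⟩
  · rw [← EtOver.w g, ← Category.assoc, ← Functor.map_comp, hl']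
    exact u.2
  · apply Subtype.ext
    exact hl'

theorem stalkEtι_eq_zero_iff (hX : IsAlgSpace X) (F : AbEt X) (U : EtOver X)
    (σ : ↥(F.obj.obj (op U))) (p : FieldPt X) (hp : p.IsGeometric)
    (l : (FieldPt.liftsTo p).obj U) :
    (stalkEtι p F ⟨U, l⟩).hom σ = 0 ↔
      l.1.left (IsLocalRing.closedPoint p.K) ∈ vanishingOpen F U σ := by
  have key := stalkEtι_eq_iff hX p hp F ⟨U, l⟩ σ 0
  have h0 : (stalkEtι p F ⟨U, l⟩).hom (0 : ↥(F.obj.obj (op U))) = 0 := map_zero _
  rw [mem_vanishingOpen_iff]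
  constructor
  · intro h
    obtain ⟨N', f, hf⟩ := key.1 (h.trans h0.symm)
    refine ⟨N'.1, f.1, ?_, ⟨N'.2.1.left (IsLocalRing.closedPoint p.K), ?_⟩⟩
    · refine Eq.trans hf ?_
      exact map_zero _
    · have h2 : N'.2.1 ≫ f.1.hom.left = l.1 := congrArg Subtype.val f.2
      rw [← h2]
      rfl
  · rintro ⟨V, φ, hφ, y, hy⟩
    obtain ⟨u', hu'⟩ := exists_liftsTo_of_mem_range p hp φ l y hy
    refine Eq.trans ?_ h0
    refine key.2 ⟨⟨V, u'⟩, ⟨φ, hu'⟩, ?_⟩
    refine Eq.trans hφ ?_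
    exact (map_zero _).symm

end Groth.Agent.Lib.Helper3
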