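import Groth.Agent.Lib.Helper3.AlgSpChartPts

set_option autoImplicit false
universe u
open CategoryTheory CategoryTheory.Limits AlgebraicGeometry Opposite

namespace Groth.Agent.Lib.Helper3

variable {S : Scheme.{u}}

open AlgSp

/-- For an etale morphism of schemes `g : W ⟶ U`, an affine open `A` of `W` and a finite set `Φ`
of points of `U`, the set of points of `A` mapping into `Φ` is finite. -/
theorem finite_affineOpen_inter_preimage {W U : Scheme.{u}} (g : W ⟶ U) [Etale g] (A : W.Opens)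
    (hA : IsAffineOpen A) {Φ : Set ↥U} (hΦ : Φ.Finite) : ((A : Set ↥W) ∩ g ⁻¹' Φ).Finite := by
  have : IsAffine (A : Scheme.{u}) := hA
  have : CompactSpace ↥(A : Scheme.{u}) := inferInstance
  have : LocallyQuasiFinite (A.ι ≫ g) := locallyQuasiFinite_of_etale _
  have h1 : ((A.ι ≫ g) ⁻¹' Φ).Finite := by
    refine hΦ.preimage' fun u _ => ?_
    exact finite_preimage_singleton_of_compactSpace (A.ι ≫ g) u
  refine (h1.image A.ι).subset ?_
  rintro w ⟨hwA, hwΦ⟩
  refine ⟨⟨w, hwA⟩, ?_, rfl⟩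
  change (A.ι ≫ g) ⟨w, hwA⟩ ∈ Φ
  rw [Scheme.Hom.comp_apply]
  exact hwΦ

/-- If a jointly surjective family of etale charts has finite fibres over `x`, then so does every
etale chart with quasi-compact source. -/
theorem finite_fibre_of_etale_cover_finite_fibres {X : Sp S} (x : Points X) {ι : Type u}
    (U : ι → Over S) (φ : ∀ i, (yon S).obj (U i) ⟶ X) (hφ : ∀ i, RepWith @Etale (φ i))
    (hsurj : ∀ y : Points X, ∃ (i : ι) (v : ↥(U i).left), Points.ofPt (φ i) v = y)
    (hfin : ∀ i, (Points.ofPt (φ i) ⁻¹' {x}).Finite)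
    {V : Over S} [CompactSpace ↥V.left] (ψ : (yon S).obj V ⟶ X) (hψ : RepWith @Etale ψ) :
    (Points.ofPt ψ ⁻¹' {x}).Finite := by
  classical
  -- the pullbacks
  choose W pV pU sq using fun i => exists_pullback_charts ψ hψ.1 (φ i)
  have hpU : ∀ i, Etale (pU i).left := fun i => hψ.2 (φ i) ((yon S).map (pV i)) (pU i) (sq i)
  have hpV : ∀ i, Etale (pV i).left := fun i => (hφ i).2 ψ ((yon S).map (pU i)) (pV i) (sq i).flip
  -- for each point of `V` an index, and an affine open of `W i` whose image contains it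
  have key : ∀ v : ↥V.left, ∃ (i : ι) (A : (W i).left.Opens), IsAffineOpen A ∧
      v ∈ (pV i).left '' (A : Set ↥(W i).left) := by
    intro v
    obtain ⟨i, u, hu⟩ := hsurj (Points.ofPt ψ v)
    obtain ⟨w, hw1, -⟩ := exists_of_ofPt_eq_of_isPullback (sq i) v u hu.symm
    obtain ⟨_, ⟨A, hA, rfl⟩, hwA, -⟩ := ((W i).left.isBasis_affineOpens).exists_subset_of_mem_open
      (Set.mem_univ w) isOpen_univ
    exact ⟨i, A, hA, w, hwA, hw1⟩
  choose idx A hA hvA using key
  have hopen : ∀ v : ↥V.left, IsOpen ((pV (idx v)).left '' (A v : Set ↥(W (idx v)).left)) := by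
    intro v
    have := hpV (idx v)
    exact (pV (idx v)).left.isOpenMap _ (A v).isOpen
  obtain ⟨t, ht⟩ := isCompact_univ.elim_finite_subcover
    (fun v : ↥V.left => (pV (idx v)).left '' (A v : Set ↥(W (idx v)).left)) hopen
    (fun v _ => Set.mem_iUnion.2 ⟨v, hvA v⟩)
  -- the fibre is contained in a finite union of finite sets
  have hfinA : ∀ v : ↥V.left, ((pV (idx v)).left ''
      ((A v : Set ↥(W (idx v)).left) ∩ (pU (idx v)).left ⁻¹'
        (Points.ofPt (φ (idx v)) ⁻¹' {x}))).Finite := by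
    intro v
    have := hpU (idx v)
    exact (finite_affineOpen_inter_preimage (pU (idx v)).left (A v) (hA v) (hfin (idx v))).image _
  refine (Set.Finite.biUnion t.finite_toSet (fun v _ => hfinA v)).subset ?_
  intro v hv
  have hv' := ht (Set.mem_univ v)
  simp only [Set.mem_iUnion] at hv'
  obtain ⟨v₀, hv₀t, w, hwA, hwv⟩ := hv'
  simp only [Set.mem_iUnion]
  refine ⟨v₀, hv₀t, w, ⟨hwA, ?_⟩, hwv⟩
  change Points.ofPt (φ (idx v₀)) ((pU (idx v₀)).left w) = x
  have hwv' : (pV (idx v₀)).left w = v := hwv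
  rw [← ofPt_comm_of_isPullback (sq (idx v₀)), hwv']
  exact hv

end Groth.Agent.Lib.Helper3
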