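import Groth.Agent.Lib.Helper3.AlgSpUC3
import Groth.Agent.S9909
import Groth.Agent.S9923
import Groth.Prelude.Def_AlgSpCov

set_option autoImplicit false
universe u
open CategoryTheory CategoryTheory.Limits AlgebraicGeometry Opposite MorphismProperty

namespace Groth.Agent.Lib.Helper3

variable {S : Scheme.{u}}

open AlgSp

/-- A standard fpqc covering of a scheme over `S` by finitely many affines. -/
structure StdFpqc (Z : Over S) {m : ℕ} (W : Fin m → Over S) (c : ∀ j, W j ⟶ Z) : Prop where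
  affine : ∀ j, IsAffine (W j).left
  flat : ∀ j, Flat (c j).left
  surj : ∀ z : ↥Z.left, ∃ j, z ∈ Set.range (c j).left

/-- A subset of an affine scheme is open if its preimages under a standard fpqc covering are. -/
theorem StdFpqc.isOpen {Z : Over S} [IsAffine Z.left] {m : ℕ} {W : Fin m → Over S}
    {c : ∀ j, W j ⟶ Z} (hc : StdFpqc Z W c) (T : Set ↥Z.left)
    (h : ∀ j, IsOpen ((c j).left ⁻¹' T)) : IsOpen T := by
  have := hc.affine
  have := hc.flat
  let π : (∐ fun j => (W j).left) ⟶ Z.left := Sigma.desc (fun j => (c j).left)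
  have hπs : Surjective π := by
    refine ⟨fun z => ?_⟩
    obtain ⟨j, w, rfl⟩ := hc.surj z
    exact ⟨Sigma.ι (fun j => (W j).left) j w, by simp [π, ← Scheme.Hom.comp_apply]⟩
  have hπf : Flat π := inferInstance
  have hπq : QuasiCompact π := inferInstance
  have hq := Flat.isQuotientMap_of_surjective π
  rw [← hq.isOpen_preimage]
  refine Groth.Agent.S9909.isOpen_of_openCover (sigmaOpenCover (fun j => (W j).left)) _ ?_
  intro j
  change Fin m at j
  have : (sigmaOpenCover fun j => (W j).left).f j ⁻¹' (π ⁻¹' T) = (c j).left ⁻¹' T := by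
    have hι : Sigma.ι (fun j => (W j).left) j ≫ π = (c j).left := Sigma.ι_desc _ _
    ext w
    simp only [Set.mem_preimage, sigmaOpenCover_f]
    rw [← Scheme.Hom.comp_apply]
    exact Iff.of_eq (congrArg (· ∈ T)
      (congrArg (fun φ : (W j).left ⟶ Z.left => φ (w : ↥(W j).left)) hι))
  rw [this]
  exact h j

theorem StdFpqc.isClosed {Z : Over S} [IsAffine Z.left] {m : ℕ} {W : Fin m → Over S}
    {c : ∀ j, W j ⟶ Z} (hc : StdFpqc Z W c) (T : Set ↥Z.left)
    (h : ∀ j, IsClosed ((c j).left ⁻¹' T)) : IsClosed T := by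
  rw [← isOpen_compl_iff]
  refine hc.isOpen _ fun j => ?_
  rw [Set.preimage_compl, isOpen_compl_iff]
  exact h j

section Descent

variable {Z : Over S} {m : ℕ} {W : Fin m → Over S} {c : ∀ j, W j ⟶ Z}
  {F : Sp S} {g₀ : F ⟶ (yon S).obj Z} {Fj : Fin m → Sp S} {a : ∀ j, Fj j ⟶ F}
  {b : ∀ j, Fj j ⟶ (yon S).obj (W j)}

theorem preimage_image_stdFpqc (sq : ∀ j, IsPullback (a j) (b j) g₀ ((yon S).map (c j)))
    (Ω : Set (Points F)) (j : Fin m) :
    (c j).left ⁻¹' ((Points.schemeHomeo Z).symm '' (Points.map g₀ '' Ω)) =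
      (Points.schemeHomeo (W j)).symm '' (Points.map (b j) '' (Points.map (a j) ⁻¹' Ω)) := by
  rw [← Points.preimage_image_of_isPullback (sq j)]
  ext w
  simp only [Set.mem_preimage, Set.mem_image]
  constructor
  · rintro ⟨y, hy, hyw⟩
    refine ⟨Points.schemeHomeo (W j) w, ?_, by simp⟩
    rw [Points.map_yon_map_apply, ← hyw, Homeomorph.apply_symm_apply]
    exact hy
  · rintro ⟨y, hy, rfl⟩
    refine ⟨_, hy, ?_⟩
    apply (Points.schemeHomeo Z).injective
    rw [Homeomorph.apply_symm_apply, ← Points.map_yon_map_apply, Homeomorph.apply_symm_apply]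

theorem StdFpqc.isOpenMap [IsAffine Z.left] (hc : StdFpqc Z W c)
    (sq : ∀ j, IsPullback (a j) (b j) g₀ ((yon S).map (c j)))
    (h : ∀ j, IsOpenMap (Points.map (b j))) : IsOpenMap (Points.map g₀) := by
  intro Ω hΩ
  rw [← (Points.schemeHomeo Z).symm.isOpen_image]
  refine hc.isOpen _ fun j => ?_
  rw [preimage_image_stdFpqc sq]
  exact (Points.schemeHomeo (W j)).symm.isOpenMap _
    (h j _ (hΩ.preimage (Points.continuous_map _)))

theorem StdFpqc.isClosedMap [IsAffine Z.left] (hc : StdFpqc Z W c)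
    (sq : ∀ j, IsPullback (a j) (b j) g₀ ((yon S).map (c j)))
    (h : ∀ j, IsClosedMap (Points.map (b j))) : IsClosedMap (Points.map g₀) := by
  intro Ω hΩ
  rw [← (Points.schemeHomeo Z).symm.isClosed_image]
  refine hc.isClosed _ fun j => ?_
  rw [preimage_image_stdFpqc sq]
  exact (Points.schemeHomeo (W j)).symm.isClosedMap _
    (h j _ (hΩ.preimage (Points.continuous_map _)))

theorem StdFpqc.exists_lift (hc : StdFpqc Z W c)
    (sq : ∀ j, IsPullback (a j) (b j) g₀ ((yon S).map (c j))) (x : Points F) :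
    ∃ (j : Fin m) (y : Points (Fj j)), Points.map (a j) y = x := by
  obtain ⟨j, w, hw⟩ := hc.surj ((Points.schemeHomeo Z).symm (Points.map g₀ x))
  obtain ⟨y, hy, -⟩ := Points.exists_of_isPullback (sq j) x (Points.schemeHomeo (W j) w) (by
    rw [Points.map_yon_map_apply, hw, Homeomorph.apply_symm_apply])
  exact ⟨j, y, hy⟩

theorem StdFpqc.compactSpace (hc : StdFpqc Z W c)
    (sq : ∀ j, IsPullback (a j) (b j) g₀ ((yon S).map (c j)))
    (h : ∀ j, CompactSpace (Points (Fj j))) : CompactSpace (Points F) := by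
  refine ⟨?_⟩
  have : (Set.univ : Set (Points F)) = ⋃ j, Set.range (Points.map (a j)) := by
    symm
    rw [Set.eq_univ_iff_forall]
    intro x
    obtain ⟨j, y, hy⟩ := hc.exists_lift sq x
    exact Set.mem_iUnion.2 ⟨j, y, hy⟩
  rw [this]
  exact isCompact_iUnion fun j => isCompact_range (Points.continuous_map _)

theorem StdFpqc.injective (hc : StdFpqc Z W c)
    (sq : ∀ j, IsPullback (a j) (b j) g₀ ((yon S).map (c j)))
    (h : ∀ j, Function.Injective (Points.map (b j))) : Function.Injective (Points.map g₀) := by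
  intro x₁ x₂ hx
  obtain ⟨j, w, hw⟩ := hc.surj ((Points.schemeHomeo Z).symm (Points.map g₀ x₁))
  have hw' : Points.map ((yon S).map (c j)) (Points.schemeHomeo (W j) w) = Points.map g₀ x₁ := by
    rw [Points.map_yon_map_apply, hw, Homeomorph.apply_symm_apply]
  obtain ⟨y₁, hy₁, hy₁'⟩ := Points.exists_of_isPullback (sq j) x₁ _ hw'.symm
  obtain ⟨y₂, hy₂, hy₂'⟩ := Points.exists_of_isPullback (sq j) x₂ _ (hx ▸ hw'.symm)
  have : y₁ = y₂ := h j (hy₁'.trans hy₂'.symm)
  rw [← hy₁, ← hy₂, this]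

theorem StdFpqc.surjective (hc : StdFpqc Z W c)
    (sq : ∀ j, IsPullback (a j) (b j) g₀ ((yon S).map (c j)))
    (h : ∀ j, Function.Surjective (Points.map (b j))) : Function.Surjective (Points.map g₀) := by
  intro z
  obtain ⟨j, w, hw⟩ := hc.surj ((Points.schemeHomeo Z).symm z)
  obtain ⟨y, hy⟩ := h j (Points.schemeHomeo (W j) w)
  refine ⟨Points.map (a j) y, ?_⟩
  rw [← Points.map_comp, (sq j).w, Points.map_comp, hy, Points.map_yon_map_apply, hw,
    Homeomorph.apply_symm_apply]

end Descent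

end Groth.Agent.Lib.Helper3
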