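import Groth.Agent.Lib.Helper3.AlgSpFppfFpqc
import Groth.Agent.Lib.Helper3.AlgSpFpqcLocal

set_option autoImplicit false
universe u
open CategoryTheory CategoryTheory.Limits AlgebraicGeometry Opposite MorphismProperty

namespace Groth.Agent.Lib.Helper3

variable {S : Scheme.{u}}

open AlgSp

/-- Standard fpqc refinements can be checked on an etale chart. -/
theorem hasStdRefinement_of_chart {X : Sp S} {ι : Type u} (Xi : ι → Sp S) (g : ∀ i, Xi i ⟶ X)
    {U : Over S} (p : (yon S).obj U ⟶ X) (hp : RepWith @Etale p) (hps : RepWith @Surjective p)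
    (Ui : ι → Sp S) (q : ∀ i, Ui i ⟶ (yon S).obj U) (p' : ∀ i, Ui i ⟶ Xi i)
    (sq : ∀ i, IsPullback (q i) (p' i) p (g i)) (h : HasStdRefinement Ui q) :
    HasStdRefinement Xi g := by
  intro Z hZ h'
  -- `Z' = U ×_X Z`
  have sqZ := hp.rep.isPullback h'
  have hse : Etale (hp.rep.snd h').left := hp.property_snd h'
  have hss : Surjective (hp.rep.snd h').left := hps.property _ _ _ sqZ
  have : CompactSpace ↥Z.left := inferInstance
  obtain ⟨m, -, O, hOa, hcov⟩ := exists_finite_affine_refinement (ι := Unit)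
    (fun _ => (hp.rep.pullback h').left) (fun _ => (hp.rep.snd h').left)
    (fun _ => (hp.rep.snd h').left.isOpenMap) (fun z => ⟨(), hss.surj z⟩)
  let Z' := hp.rep.pullback h'
  let Wk : Fin m → Over S := fun k => Over.mk ((O k).ι ≫ Z'.hom)
  let ιo : ∀ k, Wk k ⟶ Z' := fun k => Over.homMk (O k).ι rfl
  have := fun k => h (Wk k) (hOa k) ((yon S).map (ιo k) ≫ hp.rep.fst h')
  choose n W c hWa hcf hcs hl using this
  choose i l hl using hl
  let e := finSigmaFinEquiv (n := n)
  refine ⟨∑ k, n k, fun r => W (e.symm r).1 (e.symm r).2,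
    fun r => c (e.symm r).1 (e.symm r).2 ≫ ιo (e.symm r).1 ≫ hp.rep.snd h', fun r => hWa _ _,
    fun r => ?_, fun z => ?_, fun r => ⟨i (e.symm r).1 (e.symm r).2,
      l (e.symm r).1 (e.symm r).2 ≫ p' _, ?_⟩⟩
  · have := hcf (e.symm r).1 (e.symm r).2
    rw [Over.comp_left, Over.comp_left]
    exact inferInstanceAs (Flat ((c (e.symm r).1 (e.symm r).2).left ≫
      (O (e.symm r).1).ι ≫ (hp.rep.snd h').left))
  · obtain ⟨k, y, hy, rfl⟩ := hcov z
    obtain ⟨j, w, hw⟩ := hcs k ⟨y, hy⟩
    refine ⟨e ⟨k, j⟩, ?_⟩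
    beta_reduce
    rw [Equiv.symm_apply_apply]
    refine ⟨w, ?_⟩
    rw [Over.comp_left, Over.comp_left, Scheme.Hom.comp_apply, Scheme.Hom.comp_apply]
    change (hp.rep.snd h').left ((O k).ι ((c k j).left w)) = _
    rw [hw]
    rfl
  · rw [Category.assoc, ← (sq _).w, ← Category.assoc, hl, Functor.map_comp, Functor.map_comp,
      Category.assoc, Category.assoc, Category.assoc, Category.assoc, sqZ.w]

end Groth.Agent.Lib.Helper3
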