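import Groth.Agent.Lib.Helper3.AlgSpChartPts

set_option autoImplicit false
universe u
open CategoryTheory CategoryTheory.Limits AlgebraicGeometry Opposite

namespace Groth.Agent.Lib.Helper3

variable {S : Scheme.{u}}

open AlgSp

/-- A point in the closure of a finite set is a specialization of one of its points. -/
theorem exists_specializes_of_mem_closure_finite {Z : Type*} [TopologicalSpace Z] {Φ : Set Z}
    (hΦ : Φ.Finite) {z : Z} (hz : z ∈ closure Φ) : ∃ w ∈ Φ, w ⤳ z := by
  have h : Φ = ⋃ w ∈ Φ, ({w} : Set Z) := (Set.biUnion_of_singleton Φ).symm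
  rw [h, hΦ.closure_biUnion] at hz
  simp only [Set.mem_iUnion] at hz
  obtain ⟨w, hw, hzw⟩ := hz
  exact ⟨w, hw, specializes_iff_mem_closure.2 hzw⟩

/-- Generalizations lift along an etale chart to a point whose fibres in quasi-compact etale
charts are finite (e.g. one represented by a quasi-compact morphism from a field). -/
theorem exists_specializes_lift_of_qc_point {X : Sp S} (x : Points X) (p : FieldPt X)
    (h : Points.mk p ⤳ x) (hq : RepWith @QuasiCompact p.toHom)
    {U : Over S} (a : (yon S).obj U ⟶ X) (ha : RepWith @Etale a) (u : ↥U.left)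
    (hu : Points.ofPt a u = x) :
    ∃ u' : ↥U.left, u' ⤳ u ∧ Points.ofPt a u' = Points.mk p := by
  obtain ⟨W₀, hW₀, huW⟩ : ∃ W₀ : U.left.Opens, IsAffineOpen W₀ ∧ u ∈ W₀ := by
    obtain ⟨_, ⟨W, hW, rfl⟩, huW, -⟩ := (U.left.isBasis_affineOpens).exists_subset_of_mem_open
      (Set.mem_univ u) isOpen_univ
    exact ⟨W, hW, huW⟩
  have haff : IsAffine (Over.mk (W₀.ι ≫ U.hom)).left := hW₀
  have : CompactSpace ↥(Over.mk (W₀.ι ≫ U.hom)).left := inferInstance
  have hae := chartRestrict_etale a ha W₀
  have hfin := finite_fibre_of_qc_point p hq (chartRestrict a W₀) hae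
  let w : ↥(Over.mk (W₀.ι ≫ U.hom)).left := (⟨u, huW⟩ : ↥W₀)
  have hw : Points.ofPt (chartRestrict a W₀) w = x := by
    rw [ofPt_chartRestrict]; exact hu
  have hmem : w ∈ Points.ofPt (chartRestrict a W₀) ⁻¹' closure {Points.mk p} := by
    change Points.ofPt (chartRestrict a W₀) w ∈ closure {Points.mk p}
    rw [hw]
    exact specializes_iff_mem_closure.1 h
  rw [(isOpenMap_ofPt _ hae).preimage_closure_eq_closure_preimage
    (Points.continuous_ofPt _)] at hmem
  obtain ⟨w', hw', hsp⟩ := exists_specializes_of_mem_closure_finite hfin hmem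
  refine ⟨W₀.ι w', ?_, ?_⟩
  · have := hsp.map W₀.ι.continuous
    exact this
  · rw [← ofPt_chartRestrict]; exact hw'

end Groth.Agent.Lib.Helper3
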