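import Groth.Agent.Lib.Helper3.AlgSpRelFibre2
import Groth.Agent.Lib.Helper3.AlgClosedSection
import Groth.Agent.Lib.Helper3.AlgSpLocP5
import Groth.Agent.Lib.Helper3.AlgSpHasAtMor
import Groth.Agent.Lib.Helper3.AlgSpLocSrc2
import Groth.Agent.Lib.Helper3.AlgSpFibre

set_option autoImplicit false
universe u
open CategoryTheory CategoryTheory.Limits AlgebraicGeometry Opposite

namespace Groth.Agent.Lib.Helper3

variable {S : Scheme.{u}}

open AlgSp

/-- A scheme etale over an algebraically closed field has a section through every point. -/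
theorem exists_section_through_of_etale_algClosed (k : Type u) [Field k] [IsAlgClosed k]
    {V : Scheme.{u}} (g : V ⟶ Spec (CommRingCat.of k)) [Etale g] (v : ↥V) :
    ∃ σ : Spec (CommRingCat.of k) ⟶ V, σ ≫ g = 𝟙 _ ∧ ∀ s, σ s = v := by
  have hd : DiscreteTopology ↥V := discreteTopology_of_etale_field g
  let O : V.Opens := ⟨{v}, isOpen_discrete _⟩
  have : Etale (O.ι ≫ g) := inferInstance
  obtain ⟨σ, hσ⟩ := exists_section_of_lft_algClosed k (O.ι ≫ g) (⟨v, rfl⟩ : ↥O)
  refine ⟨σ ≫ O.ι, by rw [Category.assoc, hσ], fun s => ?_⟩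
  have h1 : O.ι (σ s) ∈ (O : Set ↥V) := by
    have := Set.mem_range_self (f := O.ι) (σ s)
    rwa [Scheme.Opens.range_ι] at this
  rw [Scheme.Hom.comp_apply]
  exact h1

/-- Lifting a geometric point along an etale morphism of algebraic spaces through a given point
of the source. -/
theorem exists_lift_geometric_point {U X : Sp S} (hU : IsAlgSpace U) (hX : IsAlgSpace X)
    (φ : U ⟶ X) (hφ : IsEtaleMor φ) (xbar : FieldPt X) (hx : xbar.IsGeometric)
    (u : Points U) (hu : Points.map φ u = Points.mk xbar) :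
    ∃ ubar : (yon S).obj xbar.pt ⟶ U,
      ubar ≫ φ = xbar.toHom ∧ Points.ofPt ubar (IsLocalRing.closedPoint xbar.K) = u := by
  have : IsAlgClosed xbar.K := hx
  have sq := IsPullback.of_hasPullback φ xbar.toHom
  have hK : IsAlgSpace ((yon S).obj xbar.pt) := IsAlgSpace.yon_obj _
  have hF : IsAlgSpace (pullback φ xbar.toHom) := isAlgSpace_of_isPullback' hX hU hK sq
  -- a point of the fibre over `u`
  obtain ⟨w, hw, -⟩ := Points.exists_of_isPullback sq u
    (Points.ofPt (𝟙 _) (IsLocalRing.closedPoint xbar.K)) (by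
      rw [hu, Points.map_ofPt, Category.id_comp, Points.ofPt_toHom])
  obtain ⟨V, a, hae, has⟩ := hF.atlas
  obtain ⟨v, hv⟩ := exists_ofPt_eq a has w
  obtain ⟨g, hg⟩ := (yon S).map_surjective (a ≫ pullback.snd φ xbar.toHom)
  have hsnd : LocP @Etale (pullback.snd φ xbar.toHom) :=
    locP_of_isPullback isEtLocal_etale hU hX hK hF φ xbar.toHom _ _ sq
      (locP_etale_of_isEtaleMor hφ)
  have hge : Etale g.left := by
    refine hsnd a (𝟙 _) g hae (repWith_id _ _) ?_
    rw [Category.comp_id, hg]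
  have hge' : Etale (show V.left ⟶ Spec (CommRingCat.of xbar.K) from g.left) := hge
  obtain ⟨σ, hσ, hσv⟩ := exists_section_through_of_etale_algClosed xbar.K
    (show V.left ⟶ Spec (CommRingCat.of xbar.K) from g.left) v
  let σ' : xbar.pt ⟶ V := Over.homMk σ (by
    have h1 : g.left ≫ xbar.pt.hom = V.hom := Over.w g
    rw [← h1, ← Category.assoc]
    have h2 : σ ≫ g.left = 𝟙 _ := hσ
    rw [h2]
    exact Category.id_comp _)
  have hσ'g : σ' ≫ g = 𝟙 _ := by
    ext
    exact hσ
  refine ⟨(yon S).map σ' ≫ a ≫ pullback.fst φ xbar.toHom, ?_, ?_⟩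
  · rw [Category.assoc, Category.assoc, pullback.condition, ← Category.assoc a, ← hg,
      ← Category.assoc, ← Functor.map_comp, hσ'g, (yon S).map_id xbar.pt, Category.id_comp]
  · rw [Points.ofPt_yon_map_comp, ← Points.map_ofPt]
    have h3 : σ'.left (IsLocalRing.closedPoint xbar.K) = v := hσv _
    rw [h3, hv, hw]

end Groth.Agent.Lib.Helper3
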