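import Groth.Agent.Lib.Helper3.AlgClosedSection
import Groth.Agent.Lib.Helper3.AlgSpHasAtMor
import Groth.Agent.Lib.Helper3.AlgSpLocP4
import Groth.Agent.Lib.Helper3.AlgSpFibre
import Mathlib.FieldTheory.IsAlgClosed.AlgebraicClosure

set_option autoImplicit false
universe u
open CategoryTheory CategoryTheory.Limits AlgebraicGeometry Opposite MorphismProperty

namespace Groth.Agent.Lib.Helper3

variable {S : Scheme.{u}}

open AlgSp

/-- A surjective morphism locally of finite type is surjective on geometric points. -/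
theorem exists_lift_of_surjective_lft {X Y : Sp S} (hX : IsAlgSpace X) (hY : IsAlgSpace Y)
    (f : X ⟶ Y) (hf : LocP @LocallyOfFiniteType f) (hs : IsSurjectiveMor f)
    (k : Type u) [Field k] [IsAlgClosed k] (str : Spec (CommRingCat.of k) ⟶ S)
    (y : (yon S).obj (Over.mk str) ⟶ Y) :
    ∃ x : (yon S).obj (Over.mk str) ⟶ X, x ≫ f = y := by
  have sq := IsPullback.of_hasPullback f y
  have hP : IsAlgSpace (pullback f y) :=
    isAlgSpace_of_isPullback' hY hX (IsAlgSpace.yon_obj _) sq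
  obtain ⟨U, a, hae, has⟩ := hP.atlas
  obtain ⟨g₀, hg₀⟩ := (yon S).map_surjective (a ≫ pullback.snd f y)
  have hsnd : LocP @LocallyOfFiniteType (pullback.snd f y) :=
    locP_of_isPullback isEtLocal_locallyOfFiniteType hX hY (IsAlgSpace.yon_obj _) hP f y
      (pullback.fst f y) (pullback.snd f y) sq hf
  have hg₀ft : LocallyOfFiniteType g₀.left :=
    hsnd a (𝟙 _) g₀ hae (repWith_id _ _) (by rw [Category.comp_id, hg₀])
  -- a point of `U`
  let pt : ↥(Over.mk str).left := (IsLocalRing.closedPoint k : ↥(Over.mk str).left)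
  obtain ⟨x₀, hx₀⟩ := hs (Points.ofPt y pt)
  obtain ⟨z, -, -⟩ := Points.exists_of_isPullback sq x₀ (Points.schemeHomeo _ pt)
    (by rw [hx₀]; exact Points.ofPt_eq_map_ofScheme y pt)
  obtain ⟨u, -⟩ := exists_ofPt_eq a has z
  obtain ⟨σ, hσ⟩ := exists_section_of_lft_algClosed k g₀.left u
  let σ' : Over.mk str ⟶ U := Over.homMk σ (by
    have := Over.w g₀
    dsimp at this ⊢
    rw [← this, ← Category.assoc, hσ, Category.id_comp])
  have hσ' : σ' ≫ g₀ = 𝟙 _ := Over.OverMorphism.ext hσ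
  refine ⟨(yon S).map σ' ≫ a ≫ pullback.fst f y, ?_⟩
  rw [Category.assoc, Category.assoc, pullback.condition, ← Category.assoc a, ← hg₀,
    ← Category.assoc, ← Functor.map_comp, hσ', CategoryTheory.Functor.map_id, Category.id_comp]

/-- A morphism which is surjective on geometric points is surjective. -/
theorem isSurjectiveMor_of_forall_algClosed_lift {X Y : Sp S} (f : X ⟶ Y)
    (H : ∀ (k : Type u) [Field k] [IsAlgClosed k] (str : Spec (CommRingCat.of k) ⟶ S)
      (y : (yon S).obj (Over.mk str) ⟶ Y), ∃ x : (yon S).obj (Over.mk str) ⟶ X, x ≫ f = y) :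
    IsSurjectiveMor f := by
  intro y
  obtain ⟨K, _, strK, b, rfl⟩ := Points.exists_hom y
  let φ₀ : Spec (CommRingCat.of (AlgebraicClosure K)) ⟶ Spec (CommRingCat.of K) :=
    Spec.map (CommRingCat.ofHom (algebraMap K (AlgebraicClosure K)))
  let φ : Over.mk (φ₀ ≫ strK) ⟶ Over.mk strK := Over.homMk φ₀ rfl
  obtain ⟨x, hx⟩ := H (AlgebraicClosure K) (φ₀ ≫ strK) ((yon S).map φ ≫ b)
  let pt' : ↥(Over.mk (φ₀ ≫ strK)).left :=
    (IsLocalRing.closedPoint (AlgebraicClosure K) : ↥(Over.mk (φ₀ ≫ strK)).left)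
  refine ⟨Points.ofPt x pt', ?_⟩
  rw [Points.map_ofPt, hx, Points.ofPt_yon_map_comp, S9906.mk_fieldPtOfHom_eq_ofPt]
  congr 1
  have : Subsingleton ↥(Over.mk strK).left := by
    change Subsingleton ↥(Spec (CommRingCat.of K)); infer_instance
  exact Subsingleton.elim _ _

end Groth.Agent.Lib.Helper3
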