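import Groth.Agent.Lib.Helper3.AlgSpChartPts
import Groth.Agent.Lib.Helper3.ClosedImmLift
import Groth.Agent.Lib.Helper3.AlgSpRepIso

set_option autoImplicit false
universe u
open CategoryTheory CategoryTheory.Limits AlgebraicGeometry Opposite
open AlgSp

namespace Groth.Agent.Lib.Helper3

variable {S : Scheme.{u}}

/-- A representable morphism with monic base changes is an isomorphism as soon as its base change
to one surjective etale chart of the target is. -/
theorem isIso_of_isIso_atlas_baseChange {P Y : Sp S} (j : P ⟶ Y) (hj : Representable j)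
    (hmono : ∀ (T : Over S) (g : (yon S).obj T ⟶ Y), Mono (hj.snd g).left)
    {U : Over S} (a : (yon S).obj U ⟶ Y) (hae : RepWith @Etale a) (has : RepWith @Surjective a)
    (hiso : IsIso (hj.snd a)) : IsIso j := by
  refine isIso_of_representable_of_forall_isIso j hj ?_
  intro T g
  have := hmono T g
  suffices hiso' : IsIso (hj.snd g).left by
    have : IsIso ((Over.forget S).map (hj.snd g)) := hiso'
    exact isIso_of_reflects_iso (hj.snd g) (Over.forget S)
  apply isIso_of_mono_of_etale_local_sections
  intro t
  obtain ⟨W, pU, pT, sqW⟩ := exists_pullback_charts a hae.1 g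
  have hpTe : Etale pT.left := hae.2 g ((yon S).map pU) pT sqW
  have hpTs : Surjective pT.left := has.2 g ((yon S).map pU) pT sqW
  obtain ⟨t', ht'⟩ := hpTs.surj t
  have sqa := hj.isPullback a
  have sqg := hj.isPullback g
  obtain ⟨σ, hσ⟩ := (yon S).map_surjective (sqg.lift
    ((yon S).map (pU ≫ inv (hj.snd a)) ≫ hj.fst a) ((yon S).map pT) (by
      rw [Category.assoc, sqa.w, ← Category.assoc, ← Functor.map_comp, Category.assoc,
        IsIso.inv_hom_id, Category.comp_id, sqW.w]))
  have hσ2 : σ ≫ hj.snd g = pT :=
    (yon S).map_injective (by rw [Functor.map_comp, hσ, sqg.lift_snd])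
  refine ⟨W.left, pT.left, hpTe, σ.left, ?_, ⟨t', ht'⟩⟩
  rw [← hσ2]
  rfl

end Groth.Agent.Lib.Helper3
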