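import Mathlib
import Groth.Agent.Lib.Helper3.AlgSpLocP
import Groth.Agent.Lib.Helper4.QFinDim
set_option autoImplicit false
universe u
open CategoryTheory CategoryTheory.Limits AlgebraicGeometry

namespace Groth.Agent.Lib.Helper3

/-- Points without proper generizations. -/
def maxPts (X : Type*) [TopologicalSpace X] : Set X := {x | ∀ y, y ⤳ x → y = x}

theorem genericPoints_eq_maxPts (X : Type*) [TopologicalSpace X] [QuasiSober X] [T0Space X] :
    genericPoints X = maxPts X := by
  ext x
  constructor
  · intro hx y hy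
    have h1 : closure {x} ⊆ closure {y} := hy.closure_subset
    have h2 : closure {y} ⊆ closure {x} := hx.2 isIrreducible_singleton.closure h1
    exact (inseparable_iff_closure_eq.2 (h2.antisymm h1)).eq
  · intro hx
    obtain ⟨Z, hZ, hxZ⟩ := exists_mem_irreducibleComponents_subset_of_isIrreducible
      (closure {x}) isIrreducible_singleton.closure
    have hZc := isClosed_of_mem_irreducibleComponents Z hZ
    obtain ⟨y, hy⟩ := QuasiSober.sober hZ.1 hZc
    have hyx : y ⤳ x := by
      rw [specializes_iff_mem_closure, hy.def]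
      exact hxZ (subset_closure rfl)
    have := hx y hyx
    subst this
    change closure {y} ∈ irreducibleComponents X
    rw [hy.def]
    exact hZ

theorem mem_maxPts_opens_iff {X : Type*} [TopologicalSpace X] (W : TopologicalSpace.Opens X)
    (w : W) : w ∈ maxPts W ↔ (w : X) ∈ maxPts X := by
  constructor
  · intro hw y hy
    have hyW : y ∈ W := hy.mem_open W.2 w.2
    have : (⟨y, hyW⟩ : W) ⤳ w := Topology.IsInducing.subtypeVal.specializes_iff.mp hy
    exact congrArg Subtype.val (hw _ this)
  · intro hw y hy
    have : (y : X) ⤳ (w : X) := Topology.IsInducing.subtypeVal.specializes_iff.mpr hy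
    exact Subtype.ext (hw _ this)

theorem finite_irreducibleComponents_opens_iff (U : Scheme.{u}) (W : U.Opens) :
    (irreducibleComponents ↥W).Finite ↔ (maxPts U ∩ (W : Set U)).Finite := by
  haveI : QuasiSober ↥W := W.isOpenEmbedding'.quasiSober
  rw [← Set.finite_coe_iff, ← (genericPoints.equiv (α := ↥W)).finite_iff, Set.finite_coe_iff,
    genericPoints_eq_maxPts]
  have himg : Subtype.val '' (maxPts ↥W) = maxPts U ∩ (W : Set U) := by
    ext x
    constructor
    · rintro ⟨w, hw, rfl⟩
      exact ⟨(mem_maxPts_opens_iff W w).1 hw, w.2⟩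
    · rintro ⟨hx, hxW⟩
      exact ⟨⟨x, hxW⟩, (mem_maxPts_opens_iff W ⟨x, hxW⟩).2 hx, rfl⟩
  rw [← himg]
  exact (Set.finite_image_iff Subtype.val_injective.injOn).symm

/-- Quasi-compact opens have finitely many irreducible components. -/
def LocFinIrred (U : Scheme.{u}) : Prop :=
  ∀ W : U.Opens, IsCompact (W : Set ↥U) → (irreducibleComponents ↥W).Finite

theorem locFinIrred_iff (U : Scheme.{u}) :
    LocFinIrred U ↔ ∀ W : U.Opens, IsCompact (W : Set ↥U) → (maxPts U ∩ (W : Set U)).Finite :=
  forall₂_congr fun W _ => finite_irreducibleComponents_opens_iff U W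

theorem mem_maxPts_iff_of_etale {U' U : Scheme.{u}} (p : U' ⟶ U) [Etale p] (u' : U') :
    u' ∈ maxPts U' ↔ p u' ∈ maxPts U := by
  haveI : LocallyQuasiFinite p := locallyQuasiFinite_of_unramified p
  constructor
  · intro h y hy
    obtain ⟨y', hy', rfl⟩ := Flat.generalizingMap p hy
    rw [h y' hy']
  · intro h y' hy'
    have h1 : p y' ⤳ p u' := hy'.map p.continuous
    exact Groth.Agent.Lib.Helper4.QFinDim.no_spec_in_fibre p y' u' hy' (h _ h1)

end Groth.Agent.Lib.Helper3
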