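import Mathlib
import Groth.Agent.Lib.Helper3.LocFinIrred
set_option autoImplicit false
universe u
open CategoryTheory CategoryTheory.Limits AlgebraicGeometry

namespace Groth.Agent.Lib.Helper3

theorem finite_preimage_inter_of_affine {U' U : Scheme.{u}} (p : U' ⟶ U) [LocallyQuasiFinite p]
    (N : U'.Opens) (V : U.Opens) (hN : IsAffineOpen N) (hV : IsAffineOpen V) (hNV : N ≤ p ⁻¹ᵁ V)
    (η : U) : (p ⁻¹' {η} ∩ (N : Set U')).Finite := by
  by_cases hη : η ∈ V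
  · haveI : IsAffine N.toScheme := hN
    haveI : IsAffine V.toScheme := hV
    have hfin := (p.resLE V N hNV).finite_preimage_singleton ⟨η, hη⟩
    refine (hfin.image N.ι).subset ?_
    rintro x ⟨hx1, hx2⟩
    refine ⟨⟨x, hx2⟩, ?_, rfl⟩
    apply Subtype.ext
    have := congr($(Scheme.Hom.resLE_comp_ι p hNV) ⟨x, hx2⟩)
    exact this.trans hx1
  · convert Set.finite_empty
    ext x
    simp only [Set.mem_inter_iff, Set.mem_preimage, Set.mem_singleton_iff, Set.mem_empty_iff_false,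
      iff_false, not_and]
    intro hx hxN
    exact hη (hx ▸ hNV hxN)

theorem locFinIrred_of_etale {U' U : Scheme.{u}} (p : U' ⟶ U) [Etale p] (h : LocFinIrred U) :
    LocFinIrred U' := by
  rw [locFinIrred_iff] at h ⊢
  intro W' hW'
  haveI : LocallyQuasiFinite p := locallyQuasiFinite_of_unramified p
  have hcov : ∀ w ∈ (W' : Set U'), ∃ (N : U'.Opens) (V : U.Opens), IsAffineOpen N ∧ IsAffineOpen V ∧
      w ∈ N ∧ N ≤ p ⁻¹ᵁ V := by
    intro w _
    obtain ⟨_, ⟨V, hV, rfl⟩, hpV, -⟩ := U.isBasis_affineOpens.exists_subset_of_mem_open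
      (Set.mem_univ (p w)) isOpen_univ
    obtain ⟨_, ⟨N, hN, rfl⟩, hwN, hNsub⟩ := U'.isBasis_affineOpens.exists_subset_of_mem_open
      (show w ∈ ((p ⁻¹ᵁ V : U'.Opens) : Set U') from hpV) (p ⁻¹ᵁ V).2
    exact ⟨N, V, hN, hV, hwN, hNsub⟩
  choose! N V hN hV hwN hNV using hcov
  obtain ⟨t, htW, ht⟩ := hW'.elim_nhds_subcover (fun w => (N w : Set U'))
    (fun w hw => (N w).2.mem_nhds (hwN w hw))
  have hpiece : ∀ w ∈ t, (maxPts U' ∩ (N w : Set U')).Finite := by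
    intro w hw
    have hfinV := h (V w) (hV w (htW w hw)).isCompact
    refine Set.Finite.subset (hfinV.biUnion fun η _ =>
      finite_preimage_inter_of_affine p (N w) (V w) (hN w (htW w hw)) (hV w (htW w hw))
        (hNV w (htW w hw)) η) ?_
    rintro x ⟨hx, hxN⟩
    simp only [Set.mem_iUnion]
    exact ⟨p x, ⟨(mem_maxPts_iff_of_etale p x).1 hx, hNV w (htW w hw) hxN⟩, rfl, hxN⟩
  refine Set.Finite.subset (t.finite_toSet.biUnion hpiece) ?_
  rintro x ⟨hx, hxW⟩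
  obtain ⟨w, hw, hxw⟩ := Set.mem_iUnion₂.1 (ht hxW)
  exact Set.mem_iUnion₂.2 ⟨w, hw, hx, hxw⟩

theorem locFinIrred_of_etale_of_surjective {U' U : Scheme.{u}} (p : U' ⟶ U) [Etale p]
    [Surjective p] (h : LocFinIrred U') : LocFinIrred U := by
  rw [locFinIrred_iff] at h ⊢
  intro W hW
  have hcov : ∀ w ∈ (W : Set U), ∃ (N : U'.Opens), IsAffineOpen N ∧
      w ∈ p '' (N : Set U') ∧ N ≤ p ⁻¹ᵁ W := by
    intro w hw
    obtain ⟨u', rfl⟩ := p.surjective w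
    obtain ⟨_, ⟨N, hN, rfl⟩, hwN, hNsub⟩ := U'.isBasis_affineOpens.exists_subset_of_mem_open
      (show u' ∈ ((p ⁻¹ᵁ W : U'.Opens) : Set U') from hw) (p ⁻¹ᵁ W).2
    exact ⟨N, hN, ⟨u', hwN, rfl⟩, hNsub⟩
  choose! N hN hwN hNW using hcov
  obtain ⟨t, htW, ht⟩ := hW.elim_nhds_subcover (fun w => p '' (N w : Set U'))
    (fun w hw => (p.isOpenMap _ (N w).2).mem_nhds (hwN w hw))
  refine Set.Finite.subset (t.finite_toSet.biUnion fun w hw =>
    (h (N w) (hN w (htW w hw)).isCompact).image p) ?_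
  rintro x ⟨hx, hxW⟩
  obtain ⟨w, hw, ξ, hξN, rfl⟩ := Set.mem_iUnion₂.1 (ht hxW)
  exact Set.mem_iUnion₂.2 ⟨w, hw, ξ, ⟨(mem_maxPts_iff_of_etale p ξ).2 hx, hξN⟩, rfl⟩

end Groth.Agent.Lib.Helper3
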