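import Mathlib
import Groth.Agent.Lib.Helper3.LocFinIrred2
set_option autoImplicit false
universe u
open CategoryTheory CategoryTheory.Limits AlgebraicGeometry

namespace Groth.Agent.Lib.Helper3

theorem finite_irreducibleComponents_of_surjective {A B : Type*} [TopologicalSpace A]
    [TopologicalSpace B] (f : A → B) (hf : Continuous f) (hs : Function.Surjective f)
    (h : (irreducibleComponents A).Finite) : (irreducibleComponents B).Finite := by
  refine (h.image fun Z => closure (f '' Z)).subset ?_
  intro T hT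
  have hcov : T ⊆ ⋃₀ ((fun Z => closure (f '' Z)) '' irreducibleComponents A) := by
    intro b _
    obtain ⟨a, rfl⟩ := hs b
    have : a ∈ ⋃₀ irreducibleComponents A := by rw [sUnion_irreducibleComponents]; trivial
    obtain ⟨Z, hZ, haZ⟩ := this
    exact ⟨_, ⟨Z, hZ, rfl⟩, subset_closure ⟨a, haZ, rfl⟩⟩
  have hfin : ((fun Z => closure (f '' Z)) '' irreducibleComponents A).Finite := h.image _
  obtain ⟨z, hz, hTz⟩ := (isIrreducible_iff_sUnion_isClosed.1 hT.1) hfin.toFinset
    (by
      intro z hz
      rw [Set.Finite.mem_toFinset] at hz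
      obtain ⟨Z, -, rfl⟩ := hz
      exact isClosed_closure)
    (by rwa [Set.Finite.coe_toFinset])
  rw [Set.Finite.mem_toFinset] at hz
  obtain ⟨Z, hZ, rfl⟩ := hz
  refine ⟨Z, hZ, ?_⟩
  have hirr : IsIrreducible (closure (f '' Z)) := (hZ.1.image f hf.continuousOn).closure
  exact (hTz.antisymm (hT.2 hirr hTz)).symm

theorem image_val_maxPts_opens {X : Type*} [TopologicalSpace X] (W : TopologicalSpace.Opens X) :
    Subtype.val '' (maxPts ↥W) = maxPts X ∩ (W : Set X) := by
  ext x
  constructor
  · rintro ⟨w, hw, rfl⟩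
    exact ⟨(mem_maxPts_opens_iff W w).1 hw, w.2⟩
  · rintro ⟨hx, hxW⟩
    exact ⟨⟨x, hxW⟩, (mem_maxPts_opens_iff W ⟨x, hxW⟩).2 hx, rfl⟩

theorem finite_irreducibleComponents_iff_maxPts (X : Type*) [TopologicalSpace X] [QuasiSober X]
    [T0Space X] : (irreducibleComponents X).Finite ↔ (maxPts X).Finite := by
  rw [← Set.finite_coe_iff, ← (genericPoints.equiv (α := X)).finite_iff, Set.finite_coe_iff,
    genericPoints_eq_maxPts]

end Groth.Agent.Lib.Helper3
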