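import Mathlib
import Groth.Agent.Lib.Helper3.LocFinIrred3
import Groth.Agent.Lib.lead.QFCodim
set_option autoImplicit false
universe u
open CategoryTheory CategoryTheory.Limits AlgebraicGeometry TopologicalSpace

namespace Groth.Agent.Lib.Helper3

/-- In a `T0` space of dimension at most zero there are no proper specializations. -/
theorem eq_of_specializes_of_topologicalKrullDim_le_zero {T : Type*} [TopologicalSpace T]
    [T0Space T] (h : topologicalKrullDim T ≤ 0) {x x' : T} (hs : x' ⤳ x) : x' = x := by
  rw [topologicalKrullDim, Order.krullDim_nonpos_iff_forall_isMax] at h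
  let Z : IrreducibleCloseds T := ⟨closure {x}, isIrreducible_singleton.closure, isClosed_closure⟩
  let Z' : IrreducibleCloseds T := ⟨closure {x'}, isIrreducible_singleton.closure, isClosed_closure⟩
  have hle : Z ≤ Z' := hs.closure_subset
  have hge : Z' ≤ Z := h Z hle
  exact (inseparable_iff_closure_eq.2 (Set.Subset.antisymm hge hle)).eq

/-- In a sober `T0` Noetherian space, a closed point without proper generizations is open. -/
theorem isOpen_singleton_of_isClosed_of_mem_maxPts_top {X : Type*} [TopologicalSpace X]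
    [NoetherianSpace X] [QuasiSober X] [T0Space X] (t : X) (hc : IsClosed ({t} : Set X))
    (hm : t ∈ maxPts X) : IsOpen ({t} : Set X) := by
  have hfin : (irreducibleComponents X).Finite := NoetherianSpace.finite_irreducibleComponents
  have hZ : ({t} : Set X) ∈ irreducibleComponents X := by
    have h : t ∈ genericPoints X := by rw [genericPoints_eq_maxPts]; exact hm
    have h' : closure ({t} : Set X) ∈ irreducibleComponents X := h
    rwa [hc.closure_eq] at h'
  have hD : IsClosed (⋃₀ (irreducibleComponents X \ {{t}})) := by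
    rw [Set.sUnion_eq_biUnion]
    exact (hfin.subset Set.sdiff_subset).isClosed_biUnion
      (fun Z hZ' => isClosed_of_mem_irreducibleComponents Z hZ'.1)
  have heq : ({t} : Set X) = (⋃₀ (irreducibleComponents X \ {{t}}))ᶜ := by
    ext y
    simp only [Set.mem_singleton_iff, Set.mem_compl_iff, Set.mem_sUnion, Set.mem_sdiff, not_exists,
      not_and, and_imp]
    constructor
    · rintro rfl Z hZ' hne hyZ
      apply hne
      exact (Set.Subset.antisymm (hZ.2 hZ'.1 (Set.singleton_subset_iff.2 hyZ))
        (Set.singleton_subset_iff.2 hyZ))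
    · intro h
      have : y ∈ ⋃₀ irreducibleComponents X := by rw [sUnion_irreducibleComponents]; trivial
      obtain ⟨Z, hZ', hyZ⟩ := this
      by_contra hne
      have hZt : Z = {t} := by
        by_contra hZne
        exact h Z hZ' hZne hyZ
      rw [hZt] at hyZ
      exact hne hyZ
  rw [heq]
  exact hD.isOpen_compl

/-- In a locally Noetherian scheme, a closed point without proper generizations is open. -/
theorem isOpen_singleton_of_isClosed_of_mem_maxPts (U : Scheme.{u}) [IsLocallyNoetherian U] (t : U)
    (hc : IsClosed ({t} : Set U)) (hm : t ∈ maxPts U) : IsOpen ({t} : Set U) := by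
  obtain ⟨_, ⟨N, hN, rfl⟩, htN, -⟩ := U.isBasis_affineOpens.exists_subset_of_mem_open
    (Set.mem_univ t) isOpen_univ
  haveI : IsNoetherianRing Γ(U, N) := IsLocallyNoetherian.component_noetherian ⟨N, hN⟩
  haveI : NoetherianSpace ↥N := noetherianSpace_of_isAffineOpen N hN
  haveI : QuasiSober ↥N := N.isOpenEmbedding'.quasiSober
  have h1 : IsOpen ({⟨t, htN⟩} : Set ↥N) := by
    apply isOpen_singleton_of_isClosed_of_mem_maxPts_top
    · have : ({⟨t, htN⟩} : Set ↥N) = Subtype.val ⁻¹' {t} := by
        ext y; simp [Subtype.ext_iff]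
      rw [this]
      exact hc.preimage continuous_subtype_val
    · exact (mem_maxPts_opens_iff N ⟨t, htN⟩).2 hm
  have := N.isOpenEmbedding'.isOpenMap _ h1
  simpa using this

/-- An open point of a Jacobson space is closed. -/
theorem isClosed_singleton_of_isOpen_singleton {X : Type*} [TopologicalSpace X] [JacobsonSpace X]
    {x : X} (h : IsOpen ({x} : Set X)) : IsClosed ({x} : Set X) :=
  isClosed_singleton_of_isLocallyClosed_singleton h.isLocallyClosed

/-- A set of open points of a locally Noetherian Jacobson scheme is closed as soon as ... -/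
theorem isClosed_of_forall_isOpen_singleton (U : Scheme.{u}) [IsLocallyNoetherian U]
    [JacobsonSpace U] (P : Set U) (hP : ∀ u ∈ P, IsOpen ({u} : Set U)) : IsClosed P := by
  rw [← isOpen_compl_iff, isOpen_iff_forall_mem_open]
  intro s hs
  obtain ⟨_, ⟨N, hN, rfl⟩, hsN, -⟩ := U.isBasis_affineOpens.exists_subset_of_mem_open
    (Set.mem_univ s) isOpen_univ
  haveI : IsNoetherianRing Γ(U, N) := IsLocallyNoetherian.component_noetherian ⟨N, hN⟩
  haveI : NoetherianSpace ↥N := noetherianSpace_of_isAffineOpen N hN
  -- `N ∩ P` is finite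
  have hfin : ((N : Set U) ∩ P).Finite := by
    have hcpt : IsCompact (Subtype.val ⁻¹' P : Set ↥N) := NoetherianSpace.isCompact _
    have hdisc : ∀ w ∈ (Subtype.val ⁻¹' P : Set ↥N), ({w} : Set ↥N) ∈ nhds w := by
      intro w hw
      have : ({w} : Set ↥N) = Subtype.val ⁻¹' {(w : U)} := by
        ext y
        exact ⟨fun h => congrArg Subtype.val h, fun h => Subtype.ext h⟩
      rw [this]
      exact ((hP _ hw).preimage continuous_subtype_val).mem_nhds rfl
    obtain ⟨t, ht, hcov⟩ := hcpt.elim_nhds_subcover (fun w => ({w} : Set ↥N)) hdisc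
    have h2 : (Subtype.val ⁻¹' P : Set ↥N) ⊆ (t : Set ↥N) := by
      intro w hw
      obtain ⟨v, hv, hwv⟩ := Set.mem_iUnion₂.1 (hcov hw)
      rw [Set.mem_singleton_iff] at hwv
      rw [hwv]; exact hv
    refine ((t.finite_toSet.subset h2).image Subtype.val).subset ?_
    rintro x ⟨hxN, hxP⟩
    exact ⟨⟨x, hxN⟩, hxP, rfl⟩
  have hcl : IsClosed ((N : Set U) ∩ P) := by
    rw [← ((N : Set U) ∩ P).biUnion_of_singleton]
    exact hfin.isClosed_biUnion (fun u hu =>
      isClosed_singleton_of_isOpen_singleton (hP u hu.2))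
  refine ⟨(N : Set U) \ ((N : Set U) ∩ P), ?_, N.2.sdiff hcl, ⟨hsN, fun h => hs h.2⟩⟩
  rintro x ⟨hxN, hx⟩ hxP
  exact hx ⟨hxN, hxP⟩

end Groth.Agent.Lib.Helper3
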