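import Mathlib
import Groth.Agent.Lib.Helper3.NoethJacobsonTop
import Groth.Agent.Lib.Helper3.AlgSpChartPts
import Groth.Agent.Lib.Helper3.AlgSpHasAtMor
import Groth.Agent.Lib.Helper3.AlgSpEtaleDim
import Groth.Agent.Lib.lead.QFDiscSp
import Groth.Agent.Lib.lead.QFRelDim
set_option autoImplicit false
universe u
open CategoryTheory CategoryTheory.Limits AlgebraicGeometry TopologicalSpace

namespace Groth.Agent.Lib.Helper3

open AlgSp

variable {S : Scheme.{u}}

/-- In a locally Noetherian chart, two points with the same image one of which specializes to the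
other are equal. -/
theorem eq_of_specializes_of_ofPt_eq_of_locNoeth {X : Sp S} {U : Over S} (a : (yon S).obj U ⟶ X)
    (ha : RepWith @Etale a) [IsLocallyNoetherian U.left] {u u' : ↥U.left} (hs : u' ⤳ u)
    (he : Points.ofPt a u' = Points.ofPt a u) : u' = u :=
  Groth.Agent.Lib.lead.QFDiscSp.eq_of_specializes_of_dim_eq U.left hs
    (ringKrullDim_stalk_eq_of_ofPt_eq a a ha ha u' u he)

/-- Chart points over an open set of `|X|` without proper specializations are open points. -/
theorem isOpen_singleton_chart_of_no_specializations {X : Sp S} {U : Over S}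
    (a : (yon S).obj U ⟶ X) (ha : RepWith @Etale a) [IsLocallyNoetherian U.left]
    (O : Set (Points X)) (hO : IsOpen O)
    (hns : ∀ x ∈ O, ∀ x' ∈ O, x' ⤳ x → x' = x) (t : ↥U.left) (ht : Points.ofPt a t ∈ O) :
    IsOpen ({t} : Set ↥U.left) := by
  let P : U.left.Opens := ⟨Points.ofPt a ⁻¹' O, hO.preimage (Points.continuous_ofPt a)⟩
  haveI : DiscreteTopology ↥(P : Scheme.{u}) := by
    apply Groth.Agent.Lib.lead.QFCodim.discreteTopology_of_forall_specializes_eq
    intro z z' hz
    have h1 : P.ι z' ⤳ P.ι z := hz.map P.ι.continuous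
    have h2 : Points.ofPt a (P.ι z') ⤳ Points.ofPt a (P.ι z) := h1.map (Points.continuous_ofPt a)
    have hz2 : Points.ofPt a (P.ι z) ∈ O := z.2
    have hz2' : Points.ofPt a (P.ι z') ∈ O := z'.2
    have h3 := hns _ hz2 _ hz2' h2
    exact P.ι.isOpenEmbedding.injective (eq_of_specializes_of_ofPt_eq_of_locNoeth a ha h1 h3)
  let t' : ↥(P : Scheme.{u}) := ⟨t, ht⟩
  have h1 : IsOpen ({t'} : Set ↥(P : Scheme.{u})) := isOpen_discrete _
  have := P.ι.isOpenEmbedding.isOpenMap _ h1
  have e : (⇑P.ι '' ({t'} : Set ↥(P : Scheme.{u})) : Set ↥U.left) = {t} := by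
    ext y
    constructor
    · rintro ⟨w, hw, rfl⟩
      have hw' : w = t' := hw
      rw [hw']; rfl
    · intro hy
      have hy' : y = t := hy
      exact ⟨t', rfl, hy'.symm⟩
  exact Eq.mp (congrArg IsOpen e) this

variable {X : Sp S}
  (hN : ∀ ⦃U : Over S⦄ (a : (yon S).obj U ⟶ X), RepWith @Etale a → IsLocallyNoetherian U.left)

include hN in
theorem isOpen_singleton_chart_of_isOpen {U : Over S} (a : (yon S).obj U ⟶ X)
    (ha : RepWith @Etale a) (t : ↥U.left) (h : IsOpen ({Points.ofPt a t} : Set (Points X))) :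
    IsOpen ({t} : Set ↥U.left) := by
  haveI := hN a ha
  refine isOpen_singleton_chart_of_no_specializations a ha _ h ?_ t rfl
  rintro x rfl x' rfl -
  rfl

include hN in
theorem isClosed_singleton_of_isOpen (hX : IsAlgSpace X)
    (hJ : ∀ ⦃U : Over S⦄ (a : (yon S).obj U ⟶ X), RepWith @Etale a → JacobsonSpace U.left)
    (x : Points X) (h : IsOpen ({x} : Set (Points X))) : IsClosed ({x} : Set (Points X)) := by
  obtain ⟨U, a, hae, has⟩ := hX.atlas
  haveI := hN a hae
  haveI := hJ a hae
  have hq : Topology.IsQuotientMap (Points.ofPt a) :=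
    (isOpenMap_ofPt a hae).isQuotientMap (Points.continuous_ofPt a)
      (fun y => exists_ofPt_eq a has y)
  rw [← hq.isClosed_preimage]
  apply isClosed_of_forall_isOpen_singleton
  intro u hu
  have hu' : Points.ofPt a u = x := hu
  exact isOpen_singleton_chart_of_isOpen hN a hae u (by rw [hu']; exact h)

include hN in
theorem isOpen_singleton_of_isClosed_of_no_generization (hX : IsAlgSpace X)
    (x : Points X) (hc : IsClosed ({x} : Set (Points X)))
    (hg : ∀ x' : Points X, x' ⤳ x → x' = x) : IsOpen ({x} : Set (Points X)) := by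
  obtain ⟨U, a, hae, has⟩ := hX.atlas
  haveI := hN a hae
  obtain ⟨t, rfl⟩ := exists_ofPt_eq a has x
  have hm : t ∈ maxPts ↥U.left := by
    intro t' ht'
    have h1 := hg _ (ht'.map (Points.continuous_ofPt a))
    exact eq_of_specializes_of_ofPt_eq_of_locNoeth a hae ht' h1
  have hct : IsClosed ({t} : Set ↥U.left) := by
    rw [← closure_eq_iff_isClosed]
    apply Set.Subset.antisymm _ subset_closure
    intro s hs
    have hts : t ⤳ s := specializes_iff_mem_closure.2 hs
    have h1 : Points.ofPt a s ∈ closure ({Points.ofPt a t} : Set (Points X)) :=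
      specializes_iff_mem_closure.1 (hts.map (Points.continuous_ofPt a))
    rw [hc.closure_eq] at h1
    exact (eq_of_specializes_of_ofPt_eq_of_locNoeth a hae hts h1.symm).symm
  have := isOpenMap_ofPt a hae _ (isOpen_singleton_of_isClosed_of_mem_maxPts U.left t hct hm)
  simpa using this

include hN in
theorem isOpen_singleton_iff_hasAt_localDim (hX : IsAlgSpace X) (x : Points X) :
    IsOpen ({x} : Set (Points X)) ↔ HasAt (fun U u => FlatMor.localDim ↥U u = 0) X x := by
  constructor
  · intro h
    obtain ⟨U, a, hae, has⟩ := hX.atlas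
    obtain ⟨t, rfl⟩ := exists_ofPt_eq a has x
    exact ⟨U, a, t, hae, rfl, Groth.Agent.Lib.lead.QFRelDim.localDim_eq_zero_of_isOpen_singleton _ t
      (isOpen_singleton_chart_of_isOpen hN a hae t h)⟩
  · rintro ⟨T, c, t, hce, rfl, h0⟩
    haveI := hN c hce
    have := isOpenMap_ofPt c hce _
      (Groth.Agent.Lib.lead.QFRelDim.isOpen_singleton_of_localDim_eq_zero T.left t h0)
    simpa using this

include hN in
/-- If `|X|` is `T0`, an open set of dimension zero consists of open points. -/
theorem isOpen_singleton_of_mem_of_dim_le_zero (hX : IsAlgSpace X) [T0Space (Points X)]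
    (O : Opens (Points X)) (hd : topologicalKrullDim (O : Set (Points X)) ≤ 0) (x : Points X)
    (hx : x ∈ O) : IsOpen ({x} : Set (Points X)) := by
  obtain ⟨U, a, hae, has⟩ := hX.atlas
  haveI := hN a hae
  obtain ⟨t, rfl⟩ := exists_ofPt_eq a has x
  have hns : ∀ x ∈ (O : Set (Points X)), ∀ x' ∈ (O : Set (Points X)), x' ⤳ x → x' = x := by
    intro x hx x' hx' hs
    have h1 : (⟨x', hx'⟩ : (O : Set (Points X))) ⤳ ⟨x, hx⟩ :=
      Topology.IsInducing.subtypeVal.specializes_iff.mp hs
    exact congrArg Subtype.val (eq_of_specializes_of_topologicalKrullDim_le_zero hd h1)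
  have := isOpenMap_ofPt a hae _
    (isOpen_singleton_chart_of_no_specializations a hae _ O.2 hns t hx)
  simpa using this

include hN in
theorem isOpen_singleton_of_localDim_points_eq_zero (hX : IsAlgSpace X) [T0Space (Points X)]
    (x : Points X) (h : FlatMor.localDim (Points X) x = 0) : IsOpen ({x} : Set (Points X)) := by
  have hex : ∃ O : {U : Opens (Points X) // x ∈ U},
      topologicalKrullDim (O.1 : Set (Points X)) ≤ 0 := by
    by_contra hcon
    push Not at hcon
    have h1 : (1 : WithBot ℕ∞) ≤ FlatMor.localDim (Points X) x :=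
      le_iInf fun O => Groth.Agent.Lib.lead.QFRelDim.one_le_of_pos _ (hcon O)
    rw [h] at h1
    exact absurd h1 (by decide)
  obtain ⟨⟨O, hxO⟩, hdim⟩ := hex
  exact isOpen_singleton_of_mem_of_dim_le_zero hN hX O hdim x hxO

end Groth.Agent.Lib.Helper3
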