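import Mathlib
import Groth.Agent.Lib.Helper3.AlgSpLftFieldTop
set_option autoImplicit false
universe u
open CategoryTheory CategoryTheory.Limits AlgebraicGeometry TopologicalSpace

namespace Groth.Agent.Lib.Helper3

open AlgSp

/-- Charts of a space locally of finite type over a field are locally of finite type over it. -/
theorem chart_lft_of_locP_to_field (k : Type u) [Field k] {X : Sp (Spec (CommRingCat.of k))}
    (p : X ⟶ (yon (Spec (CommRingCat.of k))).obj (Over.mk (𝟙 _)))
    (hp : LocP @LocallyOfFiniteType p) {U : Over (Spec (CommRingCat.of k))}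
    (a : (yon (Spec (CommRingCat.of k))).obj U ⟶ X) (ha : RepWith @Etale a) :
    LocallyOfFiniteType U.hom := by
  obtain ⟨φ, hφ⟩ := (yon (Spec (CommRingCat.of k))).map_surjective (a ≫ p)
  have h1 : LocallyOfFiniteType φ.left :=
    hp a (𝟙 _) φ ha (repWith_id _ _) (by rw [hφ, Category.comp_id])
  have h2 : φ.left = U.hom := by simpa using Over.w φ
  rwa [h2] at h1

theorem chart_isLocallyNoetherian_of_locP_to_field (k : Type u) [Field k]
    {X : Sp (Spec (CommRingCat.of k))}
    (p : X ⟶ (yon (Spec (CommRingCat.of k))).obj (Over.mk (𝟙 _)))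
    (hp : LocP @LocallyOfFiniteType p) {U : Over (Spec (CommRingCat.of k))}
    (a : (yon (Spec (CommRingCat.of k))).obj U ⟶ X) (ha : RepWith @Etale a) :
    IsLocallyNoetherian U.left := by
  haveI := chart_lft_of_locP_to_field k p hp a ha
  exact LocallyOfFiniteType.isLocallyNoetherian U.hom

theorem chart_jacobsonSpace_of_locP_to_field (k : Type u) [Field k]
    {X : Sp (Spec (CommRingCat.of k))}
    (p : X ⟶ (yon (Spec (CommRingCat.of k))).obj (Over.mk (𝟙 _)))
    (hp : LocP @LocallyOfFiniteType p) {U : Over (Spec (CommRingCat.of k))}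
    (a : (yon (Spec (CommRingCat.of k))).obj U ⟶ X) (ha : RepWith @Etale a) :
    JacobsonSpace U.left := by
  haveI := chart_lft_of_locP_to_field k p hp a ha
  exact LocallyOfFiniteType.jacobsonSpace U.hom

end Groth.Agent.Lib.Helper3
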