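import Mathlib
import Groth.Agent.Lib.Helper3.AlgSpLftFieldTop
import Groth.Agent.Lib.Helper3.AlgSpIntegralDim
set_option autoImplicit false
universe u
open CategoryTheory CategoryTheory.Limits AlgebraicGeometry TopologicalSpace

namespace Groth.Agent.Lib.Helper3

open AlgSp

variable {S : Scheme.{u}}

theorem topologicalKrullDim_le_zero_of_forall_specializes_eq (T : Type*) [TopologicalSpace T]
    [QuasiSober T] (h : ∀ z z' : T, z' ⤳ z → z' = z) : topologicalKrullDim T ≤ 0 := by
  rw [topologicalKrullDim, Order.krullDim_nonpos_iff_forall_isMax]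
  intro Z Z' hZZ'
  obtain ⟨ξ, hξ⟩ := QuasiSober.sober Z.isIrreducible Z.isClosed
  obtain ⟨ξ', hξ'⟩ := QuasiSober.sober Z'.isIrreducible Z'.isClosed
  have h1 : ξ ∈ (Z' : Set T) := hZZ' hξ.mem
  have h2 : ξ' ⤳ ξ := by
    rw [specializes_iff_mem_closure, hξ'.def]; exact h1
  have h3 := h ξ ξ' h2
  subst h3
  intro x hx
  have : (Z' : Set T) = Z := hξ'.def.symm.trans hξ.def
  have hx' : x ∈ (Z' : Set T) := hx
  rw [this] at hx'; exact hx'

variable {X : Sp S}
  (hN : ∀ ⦃U : Over S⦄ (a : (yon S).obj U ⟶ X), RepWith @Etale a → IsLocallyNoetherian U.left)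

include hN in
theorem discreteTopology_chart_of_discreteTopology_points [DiscreteTopology (Points X)]
    {U : Over S} (a : (yon S).obj U ⟶ X) (ha : RepWith @Etale a) : DiscreteTopology ↥U.left := by
  rw [discreteTopology_iff_isOpen_singleton]
  intro t
  exact isOpen_singleton_chart_of_isOpen hN a ha t (isOpen_discrete _)

include hN in
theorem discreteTopology_points_of_forall_chart (hX : IsAlgSpace X)
    (h : ∀ ⦃U : Over S⦄ (a : (yon S).obj U ⟶ X), RepWith @Etale a →
      ∀ z z' : ↥U.left, z' ⤳ z → z' = z) : DiscreteTopology (Points X) := by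
  obtain ⟨U, a, hae, has⟩ := hX.atlas
  haveI := hN a hae
  haveI := Groth.Agent.Lib.lead.QFCodim.discreteTopology_of_forall_specializes_eq U.left (h a hae)
  rw [discreteTopology_iff_isOpen_singleton]
  intro x
  obtain ⟨t, rfl⟩ := exists_ofPt_eq a has x
  have := isOpenMap_ofPt a hae _ (isOpen_discrete ({t} : Set ↥U.left))
  simpa using this

theorem dim_nonneg_of_nonempty (hX : IsAlgSpace X) [Nonempty (Points X)] : 0 ≤ AlgSp.dim X := by
  obtain ⟨U, a, hae, has⟩ := hX.atlas
  obtain ⟨x⟩ := ‹Nonempty (Points X)›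
  obtain ⟨t, -⟩ := exists_ofPt_eq a has x
  haveI : Nonempty ↥U.left := ⟨t⟩
  exact (Groth.Agent.Lib.lead.QFRelDim.topologicalKrullDim_nonneg_of_nonempty _).trans
    (le_dim_of_chart a hae)

theorem dim_le_zero_of_forall_chart
    (h : ∀ ⦃U : Over S⦄ (a : (yon S).obj U ⟶ X), RepWith @Etale a →
      ∀ z z' : ↥U.left, z' ⤳ z → z' = z) : AlgSp.dim X ≤ 0 :=
  iSup_le fun U => iSup_le fun a => iSup_le fun ha =>
    topologicalKrullDim_le_zero_of_forall_specializes_eq _ (h a ha)

/-- A quasi-compact chart of a decent space with finitely many points is finite. -/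
theorem finite_chart_of_isDecent_of_finite (hd : IsDecent X) [Finite (Points X)] {V : Over S}
    [CompactSpace ↥V.left] (b : (yon S).obj V ⟶ X) (hb : RepWith @Etale b) : Finite ↥V.left := by
  have hcov : (Set.univ : Set ↥V.left) = ⋃ x : Points X, Points.ofPt b ⁻¹' {x} := by
    ext v; simp
  rw [← Set.finite_univ_iff, hcov]
  refine Set.finite_iUnion fun x => ?_
  obtain ⟨p, rfl, -, hq⟩ := hd x
  exact finite_fibre_of_qc_point p hq b hb

end Groth.Agent.Lib.Helper3
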