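import Groth.Agent.Lib.Helper3.AlgSpLocP

set_option autoImplicit false
universe u
open CategoryTheory CategoryTheory.Limits AlgebraicGeometry Opposite MorphismProperty

namespace Groth.Agent.Lib.Helper3

variable {S : Scheme.{u}}

open AlgSp

/-- One chart diagram with surjective source chart suffices to check `LocP P`. -/
theorem locP_of_chart {P : MorphismProperty Scheme.{u}} (hP : IsEtLocal P) {X Y : Sp S}
    (f : X ⟶ Y) {U V : Over S} (a : (yon S).obj U ⟶ X) (hae : RepWith @Etale a)
    (has : RepWith @Surjective a) (b : (yon S).obj V ⟶ Y) (hbe : RepWith @Etale b) (h : U ⟶ V)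
    (w : a ≫ f = (yon S).map h ≫ b) (hh : P h.left) : LocP P f := by
  intro U' V' a' b' h' ha' hb' w'
  -- `W = U ×_X U'`
  have sqW := hae.rep.isPullback a'
  have hsWe : Etale (hae.rep.snd a').left := hae.property_snd a'
  have hsWs : Surjective (hae.rep.snd a').left := has.property a' _ _ sqW
  obtain ⟨φ, hφ⟩ := (yon S).map_surjective (hae.rep.fst a')
  rw [← hφ] at sqW
  have hφe : Etale φ.left := ha'.property a _ _ sqW.flip
  -- `V'' = V ×_Y V'`
  have sqV := hbe.rep.isPullback b'
  have hsVe : Etale (hbe.rep.snd b').left := hbe.property_snd b'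
  obtain ⟨ψ, hψ⟩ := (yon S).map_surjective (hbe.rep.fst b')
  rw [← hψ] at sqV
  have hψe : Etale ψ.left := hb'.property b _ _ sqV.flip
  -- the induced map `W ⟶ V''`
  have hcomm : (yon S).map (φ ≫ h) ≫ b = (yon S).map (hae.rep.snd a' ≫ h') ≫ b' := by
    rw [Functor.map_comp, Functor.map_comp, Category.assoc, ← w, ← Category.assoc, sqW.w,
      Category.assoc, w', Category.assoc]
  obtain ⟨w₀, hw₀⟩ := (yon S).map_surjective (sqV.lift _ _ hcomm)
  have e1 : w₀ ≫ ψ = φ ≫ h := by
    apply (yon S).map_injective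
    rw [Functor.map_comp, hw₀, sqV.lift_fst]
  have e2 : w₀ ≫ hbe.rep.snd b' = hae.rep.snd a' ≫ h' := by
    apply (yon S).map_injective
    rw [Functor.map_comp, hw₀, sqV.lift_snd]
  have h1 : P (φ.left ≫ h.left) := hP.comp_mem _ _ (hP.etale_le _ hφe) hh
  have h2 : P (w₀.left ≫ ψ.left) := by
    rw [← Over.comp_left, e1, Over.comp_left]
    exact h1
  have h3 : P w₀.left := hP.of_postcomp_etale _ ψ.left h2
  have h4 : P (w₀.left ≫ (hbe.rep.snd b').left) := hP.comp_mem _ _ h3 (hP.etale_le _ hsVe)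
  rw [← Over.comp_left, e2, Over.comp_left] at h4
  exact hP.of_comp _ _ hsWe hsWs h4

/-- A morphism of algebraic spaces has `LocP P` as soon as one chart diagram (with surjective
source chart) has `P`. -/
theorem locP_iff_of_chart {P : MorphismProperty Scheme.{u}} (hP : IsEtLocal P) {X Y : Sp S}
    (f : X ⟶ Y) {U V : Over S} (a : (yon S).obj U ⟶ X) (hae : RepWith @Etale a)
    (has : RepWith @Surjective a) (b : (yon S).obj V ⟶ Y) (hbe : RepWith @Etale b) (h : U ⟶ V)
    (w : a ≫ f = (yon S).map h ≫ b) : LocP P f ↔ P h.left :=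
  ⟨fun hf => hf a b h hae hbe w, locP_of_chart hP f a hae has b hbe h w⟩

end Groth.Agent.Lib.Helper3
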