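import Groth.Prelude.Def_AlgSpModX
import Groth.Agent.Lib.Helper3.AlgSpChartPts
import Groth.Agent.Lib.Helper3.AlgSpLocP2
import Groth.Agent.Lib.Helper3.AlgSpLocal

set_option autoImplicit false
universe u
open CategoryTheory CategoryTheory.Limits AlgebraicGeometry Opposite
open AlgSp

namespace Groth.Agent.Lib.Helper3

variable {S : Scheme.{u}}

/-- The square of sheaves obtained from a base change of schemes of a represented pullback, with
its lower map made explicit. -/
theorem exists_univ_square' {X Y : Sp S} {f : X ⟶ Y} {U V : Over S} {g : (yon S).obj U ⟶ Y}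
    {fstV : (yon S).obj V ⟶ X} {sndV : V ⟶ U} (sq : IsPullback fstV ((yon S).map sndV) f g)
    {U' V' : Scheme.{u}} (i₁ : V' ⟶ V.left) (i₂ : U' ⟶ U.left) (f' : V' ⟶ U')
    (h : IsPullback f' i₁ i₂ sndV.left) :
    ∃ (fst'' : (yon S).obj (Over.mk (f' ≫ i₂ ≫ U.hom)) ⟶ X),
      IsPullback fst'' ((yon S).map (Over.homMk f' rfl :
        Over.mk (f' ≫ i₂ ≫ U.hom) ⟶ Over.mk (i₂ ≫ U.hom))) f
        ((yon S).map (Over.homMk i₂ rfl : Over.mk (i₂ ≫ U.hom) ⟶ U) ≫ g) := by
  have hV : sndV.left ≫ U.hom = V.hom := Over.w sndV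
  have hw : i₁ ≫ V.hom = f' ≫ i₂ ≫ U.hom := by
    rw [← hV, ← Category.assoc, ← h.w, Category.assoc]
  let i₂' : Over.mk (i₂ ≫ U.hom) ⟶ U := Over.homMk i₂ rfl
  let i₁' : Over.mk (f' ≫ i₂ ≫ U.hom) ⟶ V := Over.homMk i₁ hw
  let f'' : Over.mk (f' ≫ i₂ ≫ U.hom) ⟶ Over.mk (i₂ ≫ U.hom) := Over.homMk f' rfl
  have sq1 : IsPullback i₁' f'' sndV i₂' := by
    refine IsPullback.of_map (Over.forget S) ?_ ?_
    · ext; exact h.w.symm
    · exact h.flip
  have sq2 := (sq1.map (yon S)).paste_horiz sq
  exact ⟨_, sq2⟩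

/-- A property of morphisms that is local on the target for the Zariski and etale topologies
holds on all chart diagrams of a representable morphism as soon as it holds for the chosen base
changes to the affine objects of the small etale site. -/
theorem locP_of_forall_affine_bcπ {P : MorphismProperty Scheme.{u}} (hP : IsEtLocal P)
    [IsZariskiLocalAtTarget P] {X Z : Sp S} (hX : IsAlgSpace X) (i : Z ⟶ X) (hi : Representable i)
    (H : ∀ (E : EtOver X), IsAffine E.obj.left.left → P (EtOver.bcπ hi E).left) : LocP P i := by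
  obtain ⟨U, b, hbe, hbs⟩ := hX.atlas
  have sq := hi.isPullback b
  have hae : RepWith @Etale (hi.fst b) := MorphismProperty.of_isPullback sq.flip hbe
  have has : RepWith @Surjective (hi.fst b) := MorphismProperty.of_isPullback sq.flip hbs
  refine locP_of_chart hP i (hi.fst b) hae has b hbe (hi.snd b) sq.w ?_
  rw [IsZariskiLocalAtTarget.iff_of_iSup_eq_top (P := P) _ (iSup_affineOpens_eq_top U.left)]
  intro U₀
  have hsq := isPullback_morphismRestrict (hi.snd b).left U₀.1
  obtain ⟨fst'', sq''⟩ := exists_univ_square' sq _ _ _ hsq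
  let E : EtOver X := EtOver.mk (chartRestrict b U₀.1) (chartRestrict_etale b hbe U₀.1)
  have : P.RespectsIso := hP.stableBC.respectsIso
  exact prop_of_isPullback_of_isPullback P (EtOver.isPullback_bcObj hi E) sq'' (H E U₀.2)

end Groth.Agent.Lib.Helper3
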