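import Mathlib
import Groth.Agent.Lib.Helper3.LocFinIrred3
import Groth.Agent.Lib.Helper3.AlgSpChartPts
import Groth.Agent.Lib.Helper3.AlgSpHasAtMor
import Groth.Agent.Lib.Helper3.AlgSpEtaleDim
import Groth.Agent.Lib.lead.QFCodim
set_option autoImplicit false
universe u
open CategoryTheory CategoryTheory.Limits AlgebraicGeometry

namespace Groth.Agent.Lib.Helper3

open AlgSp

variable {S : Scheme.{u}}

theorem locFinIrred_chart {X : Sp S} {U₀ U : Over S} (p₀ : (yon S).obj U₀ ⟶ X)
    (hp₀e : RepWith @Etale p₀) (hp₀s : RepWith @Surjective p₀) (h₀ : LocFinIrred U₀.left)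
    (a : (yon S).obj U ⟶ X) (hae : RepWith @Etale a) : LocFinIrred U.left := by
  obtain ⟨R, pU₀, pU, sq⟩ := exists_pullback_charts p₀ hp₀e.1 a
  haveI : Etale pU₀.left := hae.2 p₀ ((yon S).map pU) pU₀ sq.flip
  haveI : Etale pU.left := hp₀e.2 a ((yon S).map pU₀) pU sq
  haveI : Surjective pU.left := hp₀s.2 a ((yon S).map pU₀) pU sq
  exact locFinIrred_of_etale_of_surjective pU.left (locFinIrred_of_etale pU₀.left h₀)

theorem locFinIrred_of_isEtaleMor {X Y : Sp S} (g : Y ⟶ X) (hg : IsEtaleMor g)
    (hX : EtaleLocally LocFinIrred X) {V : Over S} (b : (yon S).obj V ⟶ Y)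
    (hbe : RepWith @Etale b) : LocFinIrred V.left := by
  obtain ⟨U₀, p₀, hp₀e, hp₀s, h₀⟩ := hX
  exact locFinIrred_chart p₀ hp₀e hp₀s h₀ (b ≫ g) (hg b hbe)

theorem finite_maxPts_of_locFinIrred_of_compactSpace (V : Scheme.{u}) [CompactSpace V]
    (h : LocFinIrred V) : (maxPts V).Finite := by
  have := (locFinIrred_iff V).1 h ⊤ isCompact_univ
  simpa using this

/-- Codimension zero points of a scheme are the points without proper generizations. -/
theorem stalk_dim_zero_iff_mem_maxPts (V : Scheme.{u}) (v : V) :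
    ringKrullDim (V.presheaf.stalk v) = 0 ↔ v ∈ maxPts V := by
  constructor
  · intro h y hy
    exact Groth.Agent.Lib.lead.QFCodim.eq_of_specializes_of_dim_zero V h hy
  · intro h
    obtain ⟨x', hx', hd⟩ := Groth.Agent.Lib.lead.QFCodim.exists_specializes_dim_zero V v
    rwa [h x' hx'] at hd

/-- For a quasi-compact space etale over a space with locally finitely many irreducible components,
the codimension zero points are finite in number. -/
theorem finite_codimZero_of_locFinIrred {X Y : Sp S} (g : Y ⟶ X) (hg : IsEtaleMor g)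
    (hX : EtaleLocally LocFinIrred X) (hY : IsQuasiCompactSp Y) :
    {y : Points Y | HasAt (fun U u => ringKrullDim ↥(U.presheaf.stalk u) = 0) Y y}.Finite := by
  obtain ⟨V, b, hbe, hbs, hVc⟩ := hY
  haveI : CompactSpace ↥V.left := hVc
  have hfin := finite_maxPts_of_locFinIrred_of_compactSpace V.left
    (locFinIrred_of_isEtaleMor g hg hX b hbe)
  refine (hfin.image (Points.ofPt b)).subset ?_
  rintro y ⟨T, c, t, hce, hct, ht0⟩
  obtain ⟨v, hv⟩ := exists_ofPt_eq b hbs y
  refine ⟨v, ?_, hv⟩
  rw [← stalk_dim_zero_iff_mem_maxPts,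
    ringKrullDim_stalk_eq_of_ofPt_eq b c hbe hce v t (by rw [hv, hct])]
  exact ht0

theorem finite_irreducibleComponents_points_of_locFinIrred {X Y : Sp S} (g : Y ⟶ X)
    (hg : IsEtaleMor g) (hX : EtaleLocally LocFinIrred X) (hY : IsQuasiCompactSp Y) :
    (irreducibleComponents (Points Y)).Finite := by
  obtain ⟨V, b, hbe, hbs, hVc⟩ := hY
  haveI : CompactSpace ↥V.left := hVc
  have hfin := finite_maxPts_of_locFinIrred_of_compactSpace V.left
    (locFinIrred_of_isEtaleMor g hg hX b hbe)
  rw [← finite_irreducibleComponents_iff_maxPts] at hfin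
  exact finite_irreducibleComponents_of_surjective (Points.ofPt b) (Points.continuous_ofPt b)
    (fun y => exists_ofPt_eq b hbs y) hfin

/-- A quasi-compact open of an etale chart, as a quasi-compact sheaf etale over the space. -/
theorem isEtaleMor_chartRestrict {X : Sp S} {U : Over S} (a : (yon S).obj U ⟶ X)
    (hae : RepWith @Etale a) (W : U.left.Opens) : IsEtaleMor (chartRestrict a W) := by
  intro T φ hφ
  exact (RepWith @Etale).comp_mem _ _ hφ (chartRestrict_etale a hae W)

theorem isQuasiCompactSp_of_isCompact {U : Over S} (W : U.left.Opens)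
    (hW : IsCompact (W : Set ↥U.left)) :
    IsQuasiCompactSp ((yon S).obj (Over.mk (W.ι ≫ U.hom))) :=
  ⟨Over.mk (W.ι ≫ U.hom), 𝟙 _, repWith_id _ _, repWith_id _ _, isCompact_iff_compactSpace.1 hW⟩

end Groth.Agent.Lib.Helper3
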