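import Groth.Agent.Lib.Helper3.AlgSpLocP5
import Groth.Prelude.Def_AlgSpCov
import Groth.Agent.S9906

set_option autoImplicit false
universe u
open CategoryTheory CategoryTheory.Limits AlgebraicGeometry Opposite MorphismProperty

namespace Groth.Agent.Lib.Helper3

variable {S : Scheme.{u}}

open AlgSp

/-- Family version of `IsEtLocal.of_comp`. -/
theorem IsEtLocal.of_family_comp {P : MorphismProperty Scheme.{u}} (hP : IsEtLocal P)
    [IsZariskiLocalAtSource P] {ι : Type u} {U V : Scheme.{u}} (T : ι → Scheme.{u})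
    (p : ∀ i, T i ⟶ U) (hpe : ∀ i, Etale (p i)) (hps : ∀ x : U, ∃ i, x ∈ Set.range (p i))
    (h : U ⟶ V) (hh : ∀ i, P (p i ≫ h)) : P h := by
  have h1 : Etale (Sigma.desc p) := IsZariskiLocalAtSource.sigmaDesc (P := @Etale) hpe
  have h2 : Surjective (Sigma.desc p) := by
    refine ⟨fun x => ?_⟩
    obtain ⟨i, t, rfl⟩ := hps x
    refine ⟨(Sigma.ι T i) t, ?_⟩
    rw [← Scheme.Hom.comp_apply, Sigma.ι_desc]
  refine hP.of_comp (Sigma.desc p) h h1 h2 ?_
  have : Sigma.desc p ≫ h = Sigma.desc (fun i => p i ≫ h) := by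
    apply Sigma.hom_ext
    intro i
    rw [Sigma.ι_desc, ← Category.assoc, Sigma.ι_desc]
  rw [this]
  exact IsZariskiLocalAtSource.sigmaDesc hh

/-- `LocP P` is etale local on the source for `P` etale-local (in the sense of `IsEtLocal`). -/
theorem isLocalOnSource_etCover_locP {P : MorphismProperty Scheme.{u}} (hP : IsEtLocal P)
    [IsZariskiLocalAtSource P] : IsLocalOnSource (IsEtCover (S := S)) (LocP P) := by
  intro ι X Xi g hX hXi hcov Y f hY
  obtain ⟨hge, hgs⟩ := hcov
  constructor
  · intro hf i
    exact locP_comp hP (hXi i) hX hY (g i) f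
      (locP_mono (fun _ _ k hk => hP.etale_le k hk) (locP_etale_of_isEtaleMor (hge i))) hf
  · intro hf
    obtain ⟨V, b, hbe, hbs⟩ := hY.atlas
    obtain ⟨U, u, h, -, -, hae, has, -, hh⟩ := exists_chart_over hX hY f b hbe
    refine locP_of_chart hP f _ hae (has hbs) b hbe h hh ?_
    set a := u ≫ pullback.fst f b with ha
    -- atlases of the `X i`
    choose W c hce hcs using fun i => (hXi i).atlas
    have hcge : ∀ i, RepWith @Etale (c i ≫ g i) := fun i => hge i (c i) (hce i)
    -- `T i = U ×_X W i`
    have sqT := fun i => hae.rep.isPullback (c i ≫ g i)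
    have hq : ∀ i, Etale (hae.rep.snd (c i ≫ g i)).left := fun i => hae.property_snd _
    choose p hp using fun i => (yon S).map_surjective (hae.rep.fst (c i ≫ g i))
    have sqT' : ∀ i, IsPullback ((yon S).map (p i)) ((yon S).map (hae.rep.snd (c i ≫ g i))) a
        (c i ≫ g i) := fun i => by rw [hp i]; exact sqT i
    have hpe : ∀ i, Etale (p i).left := fun i => (hcge i).property a _ _ (sqT' i).flip
    refine hP.of_family_comp (fun i => (hae.rep.pullback (c i ≫ g i)).left) (fun i => (p i).left)
      hpe ?_ h.left ?_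
    · intro x
      obtain ⟨i, n, hn⟩ := hgs (Points.map a (Points.schemeHomeo U x))
      obtain ⟨w, rfl⟩ := (S9906.repWith_surjective_iff (c i) (hcs i).rep).1 (hcs i) n
      obtain ⟨z, hz, -⟩ := Points.exists_of_isPullback (sqT' i) (Points.schemeHomeo U x) w (by
        rw [← hn]; exact (Points.map_comp _ _ w).symm)
      obtain ⟨t, rfl⟩ := (Points.schemeHomeo _).surjective z
      rw [Points.map_yon_map_apply] at hz
      exact ⟨i, t, (Points.schemeHomeo U).injective hz⟩
    · intro i
      have hae' : RepWith @Etale ((yon S).map (hae.rep.snd (c i ≫ g i)) ≫ c i) :=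
        MorphismProperty.comp_mem _ _ _ ((repWith_yon_map_iff _ _).2 (hq i)) (hce i)
      have := hf i ((yon S).map (hae.rep.snd (c i ≫ g i)) ≫ c i) b (p i ≫ h) hae' hbe (by
        rw [Functor.map_comp, Category.assoc ((yon S).map (p i)), ← hh,
          ← Category.assoc ((yon S).map (p i)), (sqT' i).w]
        simp only [Category.assoc])
      rwa [Over.comp_left] at this

end Groth.Agent.Lib.Helper3
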