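import Groth.Agent.Lib.Helper3.AlgSpMonoPt
import Groth.Agent.Lib.Helper3.AlgSpLocP4
import Groth.Agent.S9906
import Groth.Agent.S9885

set_option autoImplicit false
universe u
open CategoryTheory CategoryTheory.Limits AlgebraicGeometry Opposite

namespace Groth.Agent.Lib.Helper3

variable {S : Scheme.{u}}

open AlgSp

/-- A morphism from the spectrum of a field to an algebraic space which is flat, locally of finite
presentation and surjective is an epimorphism of sheaves. -/
theorem isLocallySurjective_of_fppf_fieldPt {Z : Sp S} (hZ : IsAlgSpace Z)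
    {T : Over S} (p : (yon S).obj T ⟶ Z)
    (hlfp : LocP @LocallyOfFinitePresentation p) (hfl : LocP @Flat p) (hs : IsSurjectiveMor p) :
    Sheaf.IsLocallySurjective p := by
  have hrep : Representable p := hZ.representable_from_yon p
  have h1 : RepWith @Flat p :=
    repWith_of_locP isEtLocal_flat (IsAlgSpace.yon_obj _) hZ p hrep hfl
  have h2 : RepWith @LocallyOfFinitePresentation p :=
    repWith_of_locP isEtLocal_locallyOfFinitePresentation (IsAlgSpace.yon_obj _) hZ p hrep hlfp
  have h3 : RepWith @Surjective p := (Groth.Agent.S9906.repWith_surjective_iff p hrep).2 hs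
  exact Groth.Agent.S9885.result S _ _ p h1 h2 h3

/-- A monomorphism into a space covered fppf by the spectrum of a field is an isomorphism as soon
as its source is nonempty. -/
theorem isIso_of_mono_of_fppf_fieldPt {Z' Z : Sp S} (hZ' : IsAlgSpace Z') (hZ : IsAlgSpace Z)
    (f : Z' ⟶ Z) [Mono f] (k : Type u) [Field k] (str : Spec (CommRingCat.of k) ⟶ S)
    (p : (yon S).obj (Over.mk str) ⟶ Z)
    (hlfp : LocP @LocallyOfFinitePresentation p) (hfl : LocP @Flat p) (hs : IsSurjectiveMor p)
    (hne : Nonempty (Points Z')) : IsIso f := by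
  have hloc := isLocallySurjective_of_fppf_fieldPt hZ p hlfp hfl hs
  have sq := IsPullback.of_hasPullback f p
  have hF : IsAlgSpace (pullback f p) :=
    isAlgSpace_of_isPullback' hZ hZ' (IsAlgSpace.yon_obj _) sq
  have hneF : Nonempty (Points (pullback f p)) := by
    obtain ⟨z'⟩ := hne
    obtain ⟨y, hy⟩ := hs (Points.map f z')
    obtain ⟨w, -, -⟩ := Points.exists_of_isPullback sq z' y hy.symm
    exact ⟨w⟩
  have hiso : IsIso (pullback.snd f p) := isIso_of_mono_to_field hF str _ hneF
  have hfac : (inv (pullback.snd f p) ≫ pullback.fst f p) ≫ f = p := by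
    rw [Category.assoc, pullback.condition, IsIso.inv_hom_id_assoc]
  have hlocf : Sheaf.IsLocallySurjective f :=
    Presheaf.isLocallySurjective_of_isLocallySurjective_fac (J S)
      (f₁ := (inv (pullback.snd f p) ≫ pullback.fst f p).hom) (f₂ := f.hom) (f₃ := p.hom)
      (congrArg (fun k => k.hom) hfac)
  exact (Sheaf.isLocallyBijective_iff_isIso f).1 ⟨isLocallyInjective_of_mono f, hlocf⟩

end Groth.Agent.Lib.Helper3
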