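import Mathlib.AlgebraicGeometry.Morphisms.Etale
import Mathlib.RingTheory.Etale.Field
import Mathlib.AlgebraicGeometry.Limits

set_option autoImplicit false
universe u
open CategoryTheory CategoryTheory.Limits AlgebraicGeometry

namespace Groth.Agent.Lib.Helper3

/-- Every point of a scheme etale over a field is the unique point of an open subscheme which is
the spectrum of a field. -/
theorem exists_field_openImmersion_of_etale_field (k : Type u) [Field k] {E : Scheme.{u}}
    (π : E ⟶ Spec (CommRingCat.of k)) [Etale π] (w : E) :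
    ∃ (k' : Type u) (_ : Field k') (j : Spec (CommRingCat.of k') ⟶ E),
      IsOpenImmersion j ∧ w ∈ Set.range j := by
  obtain ⟨W₀, hW₀, hwW₀, -⟩ := exists_isAffineOpen_mem_and_subset (x := w) (U := ⊤) trivial
  have hg : Etale (hW₀.fromSpec ≫ π) := inferInstance
  obtain ⟨φ, hφ⟩ := Spec.map_surjective (hW₀.fromSpec ≫ π)
  rw [← hφ] at hg
  have hφe : φ.hom.Etale := (HasRingHomProperty.Spec_iff (P := @Etale)).1 hg
  algebraize [φ.hom]
  obtain ⟨I, hI, Ai, hAi, hAlg, e, -⟩ :=
    (Algebra.Etale.iff_exists_algEquiv_prod (K := k) (A := ↑Γ(E, W₀))).1 inferInstance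
  have hiso : IsIso (CommRingCat.ofHom e.toRingEquiv.toRingHom) :=
    (e.toRingEquiv.toCommRingCatIso).isIso_hom
  have hw : w ∈ Set.range hW₀.fromSpec := by
    rw [hW₀.range_fromSpec]
    exact hwW₀
  obtain ⟨y, rfl⟩ := hw
  obtain ⟨z, rfl⟩ := (Spec.map (CommRingCat.ofHom e.toRingEquiv.toRingHom)).homeomorph.surjective y
  obtain ⟨z', rfl⟩ := (sigmaSpec (fun i => CommRingCat.of (Ai i))).homeomorph.surjective z
  obtain ⟨⟨i, t⟩, rfl⟩ := (sigmaMk (fun i => Spec (CommRingCat.of (Ai i)))).surjective z'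
  refine ⟨Ai i, hAi i, Spec.map (CommRingCat.ofHom (Pi.evalRingHom _ i)) ≫
    Spec.map (CommRingCat.ofHom e.toRingEquiv.toRingHom) ≫ hW₀.fromSpec, inferInstance, t, ?_⟩
  rw [sigmaMk_mk, ← ι_sigmaSpec (fun i => CommRingCat.of (Ai i)) i]
  rfl

end Groth.Agent.Lib.Helper3
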