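import Groth.Agent.Lib.Helper3.AlgSpNoethFibre
import Groth.Agent.Lib.Helper3.EtaleFieldPoint

set_option autoImplicit false
universe u
open CategoryTheory CategoryTheory.Limits AlgebraicGeometry Opposite
open AlgSp

namespace Groth.Agent.Lib.Helper3

variable {S : Scheme.{u}}

/-- An algebraic space representable etale over a locally Noetherian one is locally Noetherian. -/
theorem isLocNoethSp_of_repWith_etale {P' P : Sp S} (hP' : IsAlgSpace P') (g : P' ⟶ P)
    (hg : RepWith @Etale g) (hP : IsLocNoethSp P) : IsLocNoethSp P' := by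
  obtain ⟨U, a, hae, has⟩ := hP'.atlas
  exact ⟨U, a, hae, has, isLocallyNoetherian_of_isLocNoethSp hP (a ≫ g)
    ((RepWith @Etale).comp_mem _ _ hae hg)⟩

/-- A morphism from the spectrum of a field hitting the point `t` factors through `Spec κ(t)`. -/
theorem exists_desc_residueField {K : Type u} [Field K] {T : Scheme.{u}}
    (m : Spec (CommRingCat.of K) ⟶ T) (t : T) (ht : m (IsLocalRing.closedPoint K) = t) :
    ∃ c : Spec (CommRingCat.of K) ⟶ Spec (T.residueField t), c ≫ T.fromSpecResidueField t = m := by
  subst ht
  exact ⟨_, Scheme.descResidueField_stalkClosedPointTo_fromSpecResidueField K T m⟩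

theorem surjective_of_field_residueField {K : Type u} [Field K] {T : Scheme.{u}} (t : T)
    (c : Spec (CommRingCat.of K) ⟶ Spec (T.residueField t)) : Surjective c :=
  ⟨fun _ => ⟨IsLocalRing.closedPoint K, Subsingleton.elim _ _⟩⟩

theorem flat_of_field_residueField {K : Type u} [Field K] {T : Scheme.{u}} (t : T)
    (c : Spec (CommRingCat.of K) ⟶ Spec (T.residueField t)) : Flat c := inferInstance


end Groth.Agent.Lib.Helper3
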