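import Groth.Agent.Lib.Helper3.NoethDescent2
import Groth.Agent.Lib.Helper3.AlgSpNoethChart
import Groth.Agent.Lib.Helper3.AlgSpMonoPt
import Groth.Agent.Lib.Helper3.AlgSpFibre

set_option autoImplicit false
universe u
open CategoryTheory CategoryTheory.Limits AlgebraicGeometry Opposite
open AlgSp

namespace Groth.Agent.Lib.Helper3

variable {S : Scheme.{u}}

/-- Local Noetherianity of an algebraic space descends along a base change by a flat, affine,
surjective morphism of schemes. -/
theorem isLocNoethSp_of_isPullback_flat_affine_surjective {Q P : Sp S} (hQ : IsAlgSpace Q)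
    {A B : Over S} (c : B ⟶ A) [Flat c.left] [IsAffineHom c.left] [Surjective c.left]
    (qsnd : Q ⟶ (yon S).obj A) (pfst : P ⟶ Q) (psnd : P ⟶ (yon S).obj B)
    (sq : IsPullback pfst psnd qsnd ((yon S).map c)) (hP : IsLocNoethSp P) : IsLocNoethSp Q := by
  obtain ⟨U, b, hbe, hbs⟩ := hQ.atlas
  obtain ⟨h, hh⟩ := (yon S).map_surjective (b ≫ qsnd)
  obtain ⟨W, pB, pU, sqW⟩ := exists_pullback_charts ((yon S).map c) (representable_yon_map c)
    ((yon S).map h)
  let a' : (yon S).obj W ⟶ P := sq.lift ((yon S).map pU ≫ b) ((yon S).map pB) (by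
    rw [Category.assoc, ← hh, sqW.w])
  have ha'1 : a' ≫ pfst = (yon S).map pU ≫ b := sq.lift_fst _ _ _
  have ha'2 : a' ≫ psnd = (yon S).map pB := sq.lift_snd _ _ _
  have sqa : IsPullback a' ((yon S).map pU) pfst b := by
    refine IsPullback.of_right ?_ ha'1 sq.flip
    rw [ha'2, ← hh]
    exact sqW
  have ha'e : RepWith @Etale a' := MorphismProperty.of_isPullback sqa.flip hbe
  have hWn : IsLocallyNoetherian W.left := isLocallyNoetherian_of_isLocNoethSp hP a' ha'e
  have comm : pB ≫ c = pU ≫ h := (yon S).map_injective (by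
    rw [Functor.map_comp, Functor.map_comp, sqW.w])
  have sqS : IsPullback pB.left pU.left c.left h.left :=
    (IsPullback.of_map (yon S) comm sqW).map (Over.forget S)
  have h1 : Flat pU.left := MorphismProperty.of_isPullback (P := @Flat) sqS inferInstance
  have h2 : IsAffineHom pU.left := MorphismProperty.of_isPullback (P := @IsAffineHom) sqS inferInstance
  have h3 : Surjective pU.left := MorphismProperty.of_isPullback (P := @Surjective) sqS inferInstance
  exact ⟨U, b, hbe, hbs, isLocallyNoetherian_of_flat_affine_surjective pU.left⟩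

end Groth.Agent.Lib.Helper3
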