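import Groth.Agent.Lib.Helper3.AlgSpLocSrc2
import Groth.Agent.Lib.Helper3.AlgSpPoints
import Mathlib.AlgebraicGeometry.Morphisms.Flat

set_option autoImplicit false
universe u
open CategoryTheory CategoryTheory.Limits AlgebraicGeometry Opposite MorphismProperty

namespace Groth.Agent.Lib.Helper3

/-- Openness on an affine scheme can be tested on a finite, flat, jointly surjective family of
affine schemes. -/
theorem isOpen_of_flat_family {Z : Scheme.{u}} [IsAffine Z] {m : ℕ} (W : Fin m → Scheme.{u})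
    (hW : ∀ j, IsAffine (W j)) (c : ∀ j, W j ⟶ Z) (hfl : ∀ j, Flat (c j))
    (hs : ∀ z : Z, ∃ j, z ∈ Set.range (c j)) (O : Set Z)
    (hO : ∀ j, IsOpen ((c j) ⁻¹' O)) : IsOpen O := by
  let π : ∐ W ⟶ Z := Sigma.desc c
  have hπf : Flat π := IsZariskiLocalAtSource.sigmaDesc (P := @Flat) hfl
  have hπs : Surjective π := by
    refine ⟨fun z => ?_⟩
    obtain ⟨j, y, rfl⟩ := hs z
    refine ⟨(Sigma.ι W j) y, ?_⟩
    rw [← Scheme.Hom.comp_apply, Sigma.ι_desc]
  have hπq : QuasiCompact π := inferInstance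
  rw [← (Flat.isQuotientMap_of_surjective π).isOpen_preimage]
  have : π ⁻¹' O = ⋃ j, (Sigma.ι W j) '' ((c j) ⁻¹' O) := by
    ext x
    simp only [Set.mem_preimage, Set.mem_iUnion, Set.mem_image]
    constructor
    · intro hx
      obtain ⟨j, y, rfl⟩ := (sigmaOpenCover W).exists_eq x
      refine ⟨j, y, ?_, rfl⟩
      have : π ((Sigma.ι W j) y) = (c j) y := by
        rw [← Scheme.Hom.comp_apply, Sigma.ι_desc]
      rw [← this]
      exact hx
    · rintro ⟨j, y, hy, rfl⟩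
      have : π ((Sigma.ι W j) y) = (c j) y := by
        rw [← Scheme.Hom.comp_apply, Sigma.ι_desc]
      rw [this]
      exact hy
  rw [this]
  exact isOpen_iUnion fun j => (Sigma.ι W j).isOpenEmbedding.isOpenMap _ (hO j)

variable {S : Scheme.{u}}

open AlgSp

/-- A subset of the points of a sheaf is open as soon as its preimages under the members of a
family admitting standard fpqc refinements are open. -/
theorem isOpen_of_hasStdRefinement {ι : Type u} {T : Sp S} {Ti : ι → Sp S} {g : ∀ i, Ti i ⟶ T}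
    (hcov : HasStdRefinement Ti g) (W : Set (Points T))
    (hW : ∀ i, IsOpen (Points.map (g i) ⁻¹' W)) : IsOpen W := by
  rw [Points.isOpen_iff]
  intro Z h
  rw [isOpen_iff_forall_mem_open]
  intro z hz
  obtain ⟨Z₀, hZ₀, hzZ₀⟩ : ∃ Z₀ : Z.left.Opens, IsAffineOpen Z₀ ∧ z ∈ Z₀ := by
    obtain ⟨_, ⟨Z₀, hZ₀, rfl⟩, hzZ₀, -⟩ :=
      Z.left.isBasis_affineOpens.exists_subset_of_mem_open (Set.mem_univ z) isOpen_univ
    exact ⟨Z₀, hZ₀, hzZ₀⟩
  let Z₀' : Over S := Over.mk (Z₀.ι ≫ Z.hom)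
  let j₀ : Z₀' ⟶ Z := Over.homMk Z₀.ι rfl
  have hZ₀a : IsAffine Z₀'.left := hZ₀
  obtain ⟨m, Wj, c, hWa, hcf, hcs, hl⟩ := hcov Z₀' hZ₀ ((yon S).map j₀ ≫ h)
  have hopen : IsOpen (Points.ofPt ((yon S).map j₀ ≫ h) ⁻¹' W) := by
    refine isOpen_of_flat_family (fun j => (Wj j).left) hWa (fun j => (c j).left) hcf hcs _ ?_
    intro j
    obtain ⟨i, l, hl⟩ := hl j
    have : (c j).left ⁻¹' (Points.ofPt ((yon S).map j₀ ≫ h) ⁻¹' W) =
        Points.ofPt l ⁻¹' (Points.map (g i) ⁻¹' W) := by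
      ext w
      simp only [Set.mem_preimage]
      rw [← Points.ofPt_yon_map_comp, ← hl, Points.map_ofPt]
    rw [this]
    exact (hW i).preimage (Points.continuous_ofPt l)
  refine ⟨Z₀.ι '' (Points.ofPt ((yon S).map j₀ ≫ h) ⁻¹' W), ?_,
    Z₀.ι.isOpenEmbedding.isOpenMap _ hopen, ⟨⟨z, hzZ₀⟩, ?_, rfl⟩⟩
  · rintro _ ⟨y, hy, rfl⟩
    have := Points.ofPt_yon_map_comp j₀ h y
    rw [Set.mem_preimage] at hy ⊢
    rw [this] at hy
    exact hy
  · have := Points.ofPt_yon_map_comp j₀ h ⟨z, hzZ₀⟩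
    rw [Set.mem_preimage, this]
    exact hz

/-- Descent of open subsets along a family admitting standard fpqc refinements. -/
theorem existsUnique_open_descend {ι : Type u} {T : Sp S} {Ti : ι → Sp S} (g : ∀ i, Ti i ⟶ T)
    (hcov : HasStdRefinement Ti g) (Wi : ∀ i, Set (Points (Ti i))) (hW : ∀ i, IsOpen (Wi i))
    (hc : ∀ i j, Points.map (pullback.fst (g i) (g j)) ⁻¹' Wi i =
      Points.map (pullback.snd (g i) (g j)) ⁻¹' Wi j) :
    ∃! W : TopologicalSpace.Opens (Points T),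
      ∀ i, Points.map (g i) ⁻¹' (W : Set (Points T)) = Wi i := by
  have key : ∀ j, Points.map (g j) ⁻¹' (⋃ i, Points.map (g i) '' Wi i) = Wi j := by
    intro j
    ext t
    simp only [Set.mem_preimage, Set.mem_iUnion, Set.mem_image]
    constructor
    · rintro ⟨i, ti, hti, e⟩
      obtain ⟨z, hz1, hz2⟩ := Points.exists_of_isPullback
        (IsPullback.of_hasPullback (g i) (g j)) ti t e
      have : z ∈ Points.map (pullback.fst (g i) (g j)) ⁻¹' Wi i := by
        rw [Set.mem_preimage, hz1]; exact hti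
      rw [hc i j, Set.mem_preimage, hz2] at this
      exact this
    · intro ht
      exact ⟨j, t, ht, rfl⟩
  have hopen : IsOpen (⋃ i, Points.map (g i) '' Wi i) :=
    isOpen_of_hasStdRefinement hcov _ fun j => by rw [key j]; exact hW j
  refine ⟨⟨_, hopen⟩, key, ?_⟩
  intro W' hW'
  ext x
  obtain ⟨i, t, rfl⟩ := hcov.jointly_surjective x
  change Points.map (g i) t ∈ (W' : Set (Points T)) ↔ Points.map (g i) t ∈ ⋃ i, Points.map (g i) '' Wi i
  rw [← Set.mem_preimage, hW' i, ← Set.mem_preimage, key i]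

end Groth.Agent.Lib.Helper3
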