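import Mathlib
import Groth.Agent.Lib.Helper3.AlgSpOpenSub
import Groth.Agent.Lib.Helper3.AlgSpLargestOpen
import Groth.Agent.Lib.Helper3.AlgSpPoints
set_option autoImplicit false
universe u
open CategoryTheory CategoryTheory.Limits AlgebraicGeometry

namespace Groth.Agent.Lib.Helper3

open AlgSp

variable {S : Scheme.{u}}

/-- A commutative square of open immersions over `i : X ⟶ X'` is cartesian as soon as the preimage
of the big open is contained in the small one. -/
theorem isPullback_of_openImmersions {U X U' X' : Sp S} (j : U ⟶ X) (k : U ⟶ U') (i : X ⟶ X')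
    (j' : U' ⟶ X') (hj : RepWith @IsOpenImmersion j) (hj' : RepWith @IsOpenImmersion j')
    (w : j ≫ i = k ≫ j')
    (hsub : Points.map i ⁻¹' Set.range (Points.map j') ⊆ Set.range (Points.map j)) :
    IsPullback j k i j' := by
  have sq := IsPullback.of_hasPullback i j'
  have h1 : RepWith @IsOpenImmersion (pullback.fst i j') :=
    MorphismProperty.of_isPullback sq.flip hj'
  haveI : Mono j := mono_of_repWith_isOpenImmersion j hj
  haveI : Mono (pullback.fst i j') := mono_of_repWith_isOpenImmersion _ h1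
  have hr : Set.range (Points.map (pullback.fst i j')) ⊆ Set.range (Points.map j) := by
    rintro _ ⟨p, rfl⟩
    apply hsub
    refine ⟨Points.map (pullback.snd i j') p, ?_⟩
    rw [← Points.map_comp, ← Points.map_comp, sq.w]
  obtain ⟨d, hd⟩ := exists_factor_of_range_subset j hj (pullback.fst i j') hr
  let c : U ⟶ pullback i j' := pullback.lift j k w
  have hc1 : c ≫ pullback.fst i j' = j := pullback.lift_fst _ _ _
  have hc2 : c ≫ pullback.snd i j' = k := pullback.lift_snd _ _ _
  have hcd : c ≫ d = 𝟙 _ := by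
    rw [← cancel_mono j, Category.assoc, hd, hc1, Category.id_comp]
  have hdc : d ≫ c = 𝟙 _ := by
    rw [← cancel_mono (pullback.fst i j'), Category.assoc, hc1, hd, Category.id_comp]
  exact IsPullback.of_iso_pullback ⟨w⟩ ⟨c, d, hcd, hdc⟩ hc1 hc2

/-- Two open subspaces with the same image on points are isomorphic over the ambient space. -/
theorem exists_iso_of_range_eq {U₁ U₂ X : Sp S} (j₁ : U₁ ⟶ X) (j₂ : U₂ ⟶ X)
    (h₁ : RepWith @IsOpenImmersion j₁) (h₂ : RepWith @IsOpenImmersion j₂)
    (h : Set.range (Points.map j₁) = Set.range (Points.map j₂)) :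
    ∃ e : U₁ ≅ U₂, e.hom ≫ j₂ = j₁ := by
  haveI : Mono j₁ := mono_of_repWith_isOpenImmersion j₁ h₁
  haveI : Mono j₂ := mono_of_repWith_isOpenImmersion j₂ h₂
  obtain ⟨a, ha⟩ := exists_factor_of_range_subset j₂ h₂ j₁ h.le
  obtain ⟨b, hb⟩ := exists_factor_of_range_subset j₁ h₁ j₂ h.ge
  refine ⟨⟨a, b, ?_, ?_⟩, ha⟩
  · rw [← cancel_mono j₁, Category.assoc, hb, ha, Category.id_comp]
  · rw [← cancel_mono j₂, Category.assoc, ha, hb, Category.id_comp]

end Groth.Agent.Lib.Helper3
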