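import Mathlib
import Groth.Agent.Lib.Helper3.QuasiFiniteAtBC
set_option autoImplicit false
universe u
open CategoryTheory CategoryTheory.Limits AlgebraicGeometry

namespace Groth.Agent.Lib.Helper3

/-- Quasi-finiteness at a point passes to any base change. -/
theorem quasiFiniteAt_baseChange {A X Y Z : Scheme.{u}} {fst : A ⟶ X} {snd : A ⟶ Y}
    {f : X ⟶ Z} {g : Y ⟶ Z} (sq : IsPullback fst snd f g) [LocallyOfFiniteType g] (a : A)
    (ha : g.QuasiFiniteAt (snd a)) : fst.QuasiFiniteAt a := by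
  let O := g.quasiFiniteLocus
  have h1 : IsPullback (snd ∣_ O) (snd ⁻¹ᵁ O).ι O.ι snd := isPullback_morphismRestrict snd O
  have h2 := h1.paste_vert sq.flip
  haveI : LocallyQuasiFinite ((snd ⁻¹ᵁ O).ι ≫ fst) :=
    MorphismProperty.of_isPullback h2 (inferInstance : LocallyQuasiFinite (O.ι ≫ g))
  have h3 := ((snd ⁻¹ᵁ O).ι ≫ fst).quasiFiniteAt ⟨a, ha⟩
  rwa [Scheme.Hom.quasiFiniteAt_comp_iff_of_isOpenImmersion] at h3

end Groth.Agent.Lib.Helper3
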