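import Mathlib
import Groth.Agent.Lib.lead.QFRelDim
import Groth.Agent.Lib.Helper3.QuasiFiniteAtBC
import Groth.Agent.Lib.Helper3.QuasiFiniteAtBC2
import Groth.Agent.Lib.Helper3.AlgSpAdaptedChart
import Groth.Agent.Lib.Helper3.AlgSpLocP4
set_option autoImplicit false
universe u
open CategoryTheory CategoryTheory.Limits AlgebraicGeometry

namespace Groth.Agent.Lib.Helper3

open AlgSp Groth.Agent.Lib.lead.QFCodimSp

variable {S : Scheme.{u}}

/-- Quasi-finiteness at a point is compatible with arbitrary base change of algebraic spaces. -/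
theorem hasAtMor_QFQ_baseChange_iff {X Y X'' Y'' : Sp S} (hX : IsAlgSpace X) (hY : IsAlgSpace Y)
    (hX'' : IsAlgSpace X'') (hY'' : IsAlgSpace Y'')
    (f : X ⟶ Y) (g : Y'' ⟶ Y) (b : X'' ⟶ X) (f'' : X'' ⟶ Y'') (sqX : IsPullback b f'' f g)
    (hf : LocP @LocallyOfFiniteType f) (x'' : Points X'') :
    HasAtMor QFQ f'' x'' ↔ HasAtMor QFQ f (Points.map b x'') := by
  have hf'' : LocP @LocallyOfFiniteType f'' :=
    locP_of_isPullback isEtLocal_locallyOfFiniteType hX hY hY'' hX'' f g b f'' sqX hf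
  constructor
  · rintro ⟨U'', V'', a'', b'', h'', u'', ha''e, hb''e, e'', hu'', hq''⟩
    haveI : LocallyOfFiniteType h''.left := hf'' a'' b'' h'' ha''e hb''e e''
    have hq := quasiFiniteAt_of_QFQ h''.left u'' hq''
    obtain ⟨V, bV, hbe, hbs⟩ := hY.atlas
    obtain ⟨U, c, h, hce, -, hae, has, hh, hk⟩ := exists_chart_over hX hY f bV hbe
    obtain ⟨u, hu⟩ := exists_ofPt_eq _ (has hbs) (Points.map b x'')
    haveI : LocallyOfFiniteType h.left := hf _ bV h hae hbe hk
    obtain ⟨G, V₂, g₁, g₂, v, a₂, b₂, g', sqG, ha₂e, hb₂e, e₂, hg'u, hg'x⟩ :=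
      exists_adapted_chart hY hY'' f g b f'' sqX _ bV h hk hae hbe u x'' hu
    have sqG' : IsPullback g₁.left g₂.left h.left v.left := sqG.map (Over.forget S)
    haveI : LocallyOfFiniteType g₂.left := MorphismProperty.of_isPullback sqG' inferInstance
    have h1 : g₂.left.QuasiFiniteAt g' :=
      quasiFiniteAt_of_charts f'' a₂ b₂ g₂ a'' b'' h'' ha₂e hb₂e ha''e hb''e e₂ e'' g' u''
        (by rw [hg'x, hu'']) hq
    have h2 := quasiFiniteAt_of_isPullback sqG'.flip g' h1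
    rw [hg'u] at h2
    exact ⟨U, V, _, bV, h, u, hae, hbe, hk, hu, QFQ_of_quasiFiniteAt h.left u h2⟩
  · rintro ⟨U, V, a, bV, h, u, hae, hbe, e, hu, hq⟩
    haveI : LocallyOfFiniteType h.left := hf a bV h hae hbe e
    have hqa := quasiFiniteAt_of_QFQ h.left u hq
    obtain ⟨G, V₂, g₁, g₂, v, a₂, b₂, g', sqG, ha₂e, hb₂e, e₂, hg'u, hg'x⟩ :=
      exists_adapted_chart hY hY'' f g b f'' sqX a bV h e hae hbe u x'' hu
    have sqG' : IsPullback g₁.left g₂.left h.left v.left := sqG.map (Over.forget S)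
    haveI : LocallyOfFiniteType g₂.left := MorphismProperty.of_isPullback sqG' inferInstance
    have h1 : g₂.left.QuasiFiniteAt g' :=
      quasiFiniteAt_baseChange sqG'.flip g' (by rw [hg'u]; exact hqa)
    exact ⟨G, V₂, a₂, b₂, g₂, g', ha₂e, hb₂e, e₂, hg'x, QFQ_of_quasiFiniteAt g₂.left g' h1⟩

end Groth.Agent.Lib.Helper3
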