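import Groth.Agent.Lib.Helper3.AlgSpRelFibre

set_option autoImplicit false
universe u
open CategoryTheory CategoryTheory.Limits AlgebraicGeometry Opposite

namespace Groth.Agent.Lib.Helper3

variable {S : Scheme.{u}}

open AlgSp

/-- The inclusion of a point of a discrete scheme as an open subscheme, over `S`. -/
noncomputable def ptOpen {F : Over S} [DiscreteTopology ↥F.left] (f : ↥F.left) : F.left.Opens :=
  ⟨{f}, isOpen_discrete _⟩

/-- If `x` is represented by a monomorphism from the spectrum of a field, the fibre of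
`|U ×_X U| → |U| × |U|` over a pair of points above `x` is finite. -/
theorem finite_relation_fibre_of_mono_point {X : Sp S} (p : FieldPt X) [Mono p.toHom]
    {U : Over S} (φ : (yon S).obj U ⟶ X) (hφ : RepWith @Etale φ) (u u' : ↥U.left)
    (hu : Points.ofPt φ u = Points.mk p) (hu' : Points.ofPt φ u' = Points.mk p)
    (R : Over S) (s t : R ⟶ U)
    (sqR : IsPullback ((yon S).map t) ((yon S).map s) φ φ) :
    {r : ↥R.left | s.left r = u ∧ t.left r = u'}.Finite := by
  -- the fibre `F = U ×_X Spec k`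
  obtain ⟨F, pU, pK, sqF⟩ := exists_pullback_charts φ hφ.1 p.toHom
  have hpK : Etale pK.left := hφ.2 p.toHom ((yon S).map pU) pK sqF
  have hdisc : DiscreteTopology ↥F.left := by
    have : Etale (show F.left ⟶ Spec (CommRingCat.of p.K) from pK.left) := hpK
    exact discreteTopology_of_etale_field (show F.left ⟶ Spec (CommRingCat.of p.K) from pK.left)
  have hpt : ∀ v : ↥U.left, Points.ofPt φ v = Points.mk p → ∃ f : ↥F.left, pU.left f = v := by
    intro v hv
    have hv' : Points.ofPt φ v = Points.ofPt p.toHom (IsLocalRing.closedPoint p.K) := by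
      rw [Points.ofPt_toHom]; exact hv
    obtain ⟨w, hw, -⟩ := exists_of_ofPt_eq_of_isPullback sqF v _ hv'
    exact ⟨w, hw⟩
  obtain ⟨f, hf⟩ := hpt u hu
  obtain ⟨f', hf'⟩ := hpt u' hu'
  -- one-point open subschemes
  let O₁ : F.left.Opens := ptOpen f'
  let O₂ : F.left.Opens := ptOpen f
  let F₁ : Over S := Over.mk (O₁.ι ≫ F.hom)
  let F₂ : Over S := Over.mk (O₂.ι ≫ F.hom)
  let ι₁ : F₁ ⟶ F := Over.homMk O₁.ι rfl
  let ι₂ : F₂ ⟶ F := Over.homMk O₂.ι rfl
  let pt₁ : ↥F₁.left := (⟨f', rfl⟩ : ↥O₁)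
  let pt₂ : ↥F₂.left := (⟨f, rfl⟩ : ↥O₂)
  have hsub₁ : Subsingleton ↥F₁.left := by
    refine ⟨fun a b => ?_⟩
    have ha : (a : ↥O₁).1 = f' := (a : ↥O₁).2
    have hb : (b : ↥O₁).1 = f' := (b : ↥O₁).2
    exact Subtype.ext (ha.trans hb.symm)
  have hsub₂ : Subsingleton ↥F₂.left := by
    refine ⟨fun a b => ?_⟩
    have ha : (a : ↥O₂).1 = f := (a : ↥O₂).2
    have hb : (b : ↥O₂).1 = f := (b : ↥O₂).2
    exact Subtype.ext (ha.trans hb.symm)
  have hfin₁ : Finite ↥F₁.left := Finite.of_subsingleton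
  have hfin₂ : Finite ↥F₂.left := Finite.of_subsingleton
  let e₁ : F₁ ⟶ U := ι₁ ≫ pU
  let e₂ : F₂ ⟶ U := ι₂ ≫ pU
  let g₁ : F₁ ⟶ p.pt := ι₁ ≫ pK
  let g₂ : F₂ ⟶ p.pt := ι₂ ≫ pK
  have he₁ : (yon S).map e₁ ≫ φ = (yon S).map g₁ ≫ p.toHom := by
    simp only [e₁, g₁, Functor.map_comp, Category.assoc, sqF.w]
  have he₂ : (yon S).map e₂ ≫ φ = (yon S).map g₂ ≫ p.toHom := by
    simp only [e₂, g₂, Functor.map_comp, Category.assoc, sqF.w]
  have hg₁e : Etale g₁.left := by
    change Etale (O₁.ι ≫ pK.left)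
    infer_instance
  have hg₂e : Etale g₂.left := by
    change Etale (O₂.ι ≫ pK.left)
    infer_instance
  -- iterated pullbacks
  obtain ⟨R₁, r₁R, r₁F, sq₁⟩ := exists_pullback_charts ((yon S).map t)
    (representable_yon_map t) ((yon S).map e₁)
  obtain ⟨R₂, r₂R, r₂F, sq₂⟩ := exists_pullback_charts ((yon S).map (r₁R ≫ s))
    (representable_yon_map _) ((yon S).map e₂)
  have sqA : IsPullback ((yon S).map (r₁R ≫ s)) ((yon S).map r₁F) φ ((yon S).map e₁ ≫ φ) := by
    rw [Functor.map_comp]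
    exact sq₁.paste_horiz sqR.flip
  have sqB : IsPullback ((yon S).map r₂F) ((yon S).map (r₂R ≫ r₁F)) ((yon S).map e₂ ≫ φ)
      ((yon S).map e₁ ≫ φ) := by
    rw [(yon S).map_comp r₂R r₁F]
    exact sq₂.flip.paste_vert sqA
  rw [he₁, he₂] at sqB
  have sqC : IsPullback ((yon S).map r₂F) ((yon S).map (r₂R ≫ r₁F)) ((yon S).map g₂)
      ((yon S).map g₁) := isPullback_of_comp_mono' p.toHom sqB
  have sqD : IsPullback r₂F (r₂R ≫ r₁F) g₂ g₁ := IsPullback.of_map_of_faithful (yon S) sqC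
  have sqE : IsPullback r₂F.left (r₂R ≫ r₁F).left g₂.left g₁.left := sqD.map (Over.forget S)
  -- `R₂` is finite
  have hqc₁ : QuasiCompact g₁.left := quasiCompact_of_finite _
  have hqc : QuasiCompact r₂F.left := MorphismProperty.of_isPullback sqE.flip hqc₁
  have het : Etale r₂F.left := MorphismProperty.of_isPullback sqE.flip hg₁e
  have : CompactSpace ↥R₂.left := QuasiCompact.compactSpace_of_compactSpace r₂F.left
  have hfinR₂ : Finite ↥R₂.left := by
    have : Etale (show R₂.left ⟶ Spec (CommRingCat.of p.K) from r₂F.left ≫ g₂.left) := by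
      change Etale (r₂F.left ≫ g₂.left)
      infer_instance
    exact finite_of_etale_of_compactSpace
      (show R₂.left ⟶ Spec (CommRingCat.of p.K) from r₂F.left ≫ g₂.left)
  -- the fibre is in the image of `R₂`
  refine (Set.finite_range (r₂R ≫ r₁R).left).subset ?_
  rintro r ⟨hrs, hrt⟩
  have h1 : t.left r = e₁.left pt₁ := by rw [hrt]; exact hf'.symm
  obtain ⟨r₁, hr₁, -⟩ := exists_of_eq_of_isPullback_yon sq₁ r pt₁ h1
  have h2 : (r₁R ≫ s).left r₁ = e₂.left pt₂ := by
    change s.left (r₁R.left r₁) = _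
    rw [hr₁, hrs]; exact hf.symm
  obtain ⟨r₂, hr₂, -⟩ := exists_of_eq_of_isPullback_yon sq₂ r₁ pt₂ h2
  refine ⟨r₂, ?_⟩
  change r₁R.left (r₂R.left r₂) = r
  rw [hr₂, hr₁]

end Groth.Agent.Lib.Helper3
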