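import Mathlib
set_option autoImplicit false
open CategoryTheory AlgebraicGeometry
universe u
namespace Groth.Agent.Lib.Helper3

theorem isIso_of_closedImmersion_of_fractionRing {A K : Type u} [CommRing A] [IsDomain A] [Field K]
    [Algebra A K] [IsFractionRing A K] {Z : Scheme.{u}} (i : Z ⟶ Spec (.of A)) [IsClosedImmersion i]
    (g : Spec (.of K) ⟶ Z) (hg : g ≫ i = Spec.map (CommRingCat.ofHom (algebraMap A K))) :
    IsIso i := by
  apply IsClosedImmersion.isIso_of_injective_of_isAffine
  have h1 : Function.Injective (g ≫ i).appTop := by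
    rw [hg]
    have : (Spec.map (CommRingCat.ofHom (algebraMap A K))).appTop =
        (Scheme.ΓSpecIso (.of A)).hom ≫ CommRingCat.ofHom (algebraMap A K) ≫
          (Scheme.ΓSpecIso (.of K)).inv := by
      rw [Scheme.ΓSpecIso_inv_naturality, Iso.hom_inv_id_assoc]
    rw [this]
    simp only [CommRingCat.hom_comp, RingHom.coe_comp]
    refine ((ConcreteCategory.bijective_of_isIso _).1.comp ?_).comp (ConcreteCategory.bijective_of_isIso _).1
    exact IsFractionRing.injective A K
  rw [Scheme.Hom.comp_appTop] at h1
  simp only [CommRingCat.hom_comp, RingHom.coe_comp] at h1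
  exact h1.of_comp

end Groth.Agent.Lib.Helper3
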