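import Groth.Agent.Lib.Helper3.AlgSpProper
import Groth.Agent.Lib.Helper3.FppfLocal2
import Groth.Agent.Lib.Helper3.AlgSpLocP5
import Groth.Agent.Lib.Helper3.AlgSpFibre
import Groth.Agent.S10280
import Groth.Agent.S10290
import Groth.Agent.S9924
import Groth.Agent.S9922
import Groth.Agent.S9213
import Groth.Prelude.Def_AlgSpMor5
set_option autoImplicit false
universe u
open CategoryTheory CategoryTheory.Limits AlgebraicGeometry
open AlgSp

namespace Groth.Agent.Lib.Helper3.SepDvr

theorem isSeparatedMor_of_dvr_uniq (S : Scheme.{u}) {X Y : AlgSp.Space S} (f : X ⟶ Y)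
    (hqs : AlgSp.IsQuasiSeparatedMor f.hom) (hft : AlgSp.LocP @LocallyOfFiniteType f.hom)
    (hY : AlgSp.IsLocNoethSp Y.obj)
    (hDVR : ∀ sq : AlgSp.ValSq f.hom, IsDiscreteValuationRing sq.A → sq.HasUniq) :
    AlgSp.IsSeparatedMor f.hom := by
  refine (Groth.Agent.S10280.result f).1.2 ?_
  have sqP := IsPullback.of_hasPullback f.hom f.hom
  have hP : IsAlgSpace (pullback f.hom f.hom) :=
    isAlgSpace_of_isPullback' Y.property X.property X.property sqP
  obtain ⟨V, q, hqe, hqs', hV⟩ := hY
  have hfst : LocP @LocallyOfFiniteType (pullback.fst f.hom f.hom) :=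
    locP_of_isPullback isEtLocal_locallyOfFiniteType X.property Y.property X.property hP
      f.hom f.hom (pullback.snd f.hom f.hom) (pullback.fst f.hom f.hom) sqP.flip hft
  have hg : LocP @LocallyOfFiniteType (pullback.fst f.hom f.hom ≫ f.hom) :=
    locP_comp isEtLocal_locallyOfFiniteType hP X.property Y.property _ _ hfst hft
  obtain ⟨W, u, h, hue, hus, hwe, hws, hh, hcomm⟩ :=
    exists_chart_over hP Y.property (pullback.fst f.hom f.hom ≫ f.hom) q hqe
  have hlft : LocallyOfFiniteType h.left := hg _ _ h hwe hqe hcomm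
  have hWn : IsLocallyNoetherian W.left := LocallyOfFiniteType.isLocallyNoetherian h.left
  have hrep := Groth.Agent.S9900.repWith_diagonal_lft_mono X.property f.hom
  have sqE := hrep.rep.isPullback (u ≫ pullback.fst (pullback.fst f.hom f.hom ≫ f.hom) q)
  refine Groth.Agent.S9924.isUnivClosedMor_of_etale_cover (pullback.diagonal f.hom) W
    (u ≫ pullback.fst (pullback.fst f.hom f.hom ≫ f.hom) q) hwe (hws hqs') _ _ sqE ?_
  refine Groth.Agent.S9922.isUnivClosedMor_of_repWith
    ((repWith_yon_map_iff @UniversallyClosed _).2 ?_)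
  set k := u ≫ pullback.fst (pullback.fst f.hom f.hom ≫ f.hom) q with hk
  set e := hrep.rep.fst k with he0
  set ι := hrep.rep.snd k with hι0
  have hlftι : LocallyOfFiniteType ι.left := (hrep.property k e ι sqE).1
  have hmono : Mono ι.left := (hrep.property k e ι sqE).2
  have hqc : QuasiCompact ι.left := hqs.property k e ι sqE
  rw [Groth.Agent.S9213.result ι.left]
  intro A _ _ _ x y hw
  let str : Spec (.of A) ⟶ S := y ≫ W.hom
  let ptA : Over S := Over.mk str
  let ptK : Over S := Over.mk (Spec.map (CommRingCat.ofHom (algebraMap A (FractionRing A))) ≫ str)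
  let j : ptK ⟶ ptA := Over.homMk (Spec.map (CommRingCat.ofHom (algebraMap A (FractionRing A)))) rfl
  let i₂o : ptA ⟶ W := Over.homMk y rfl
  let i₁o : ptK ⟶ hrep.rep.pullback k := Over.homMk x (by
    change x ≫ (hrep.rep.pullback k).hom = Spec.map _ ≫ y ≫ W.hom
    rw [← Over.w ι, ← Category.assoc, hw, Category.assoc])
  have hji : i₁o ≫ ι = j ≫ i₂o := by
    apply Over.OverMorphism.ext
    exact hw
  have hyj : (AlgSp.yon S).map j ≫ (AlgSp.yon S).map i₂o ≫ k =
      (AlgSp.yon S).map i₁o ≫ e ≫ pullback.diagonal f.hom := by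
    rw [← Category.assoc, ← Functor.map_comp, ← hji, Functor.map_comp, Category.assoc, sqE.w]
  let sq : AlgSp.ValSq f.hom :=
    { A := A, K := FractionRing A, str := str, top := (AlgSp.yon S).map i₁o ≫ e,
      bot := (AlgSp.yon S).map i₂o ≫ k ≫ pullback.fst f.hom f.hom ≫ f.hom,
      comm := by
        have := congrArg (· ≫ pullback.fst f.hom f.hom ≫ f.hom) hyj
        simp only [Category.assoc, pullback.diagonal_fst_assoc] at this
        rw [Category.assoc]
        exact this.symm }
  have hl := hDVR sq (inferInstanceAs (IsDiscreteValuationRing A))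
    ((AlgSp.yon S).map i₂o ≫ k ≫ pullback.fst f.hom f.hom)
    ((AlgSp.yon S).map i₂o ≫ k ≫ pullback.snd f.hom f.hom) (by
      rw [← Category.assoc, ← Category.assoc]
      erw [hyj]
      simp only [Category.assoc, pullback.diagonal_fst, Category.comp_id]
      rfl) (by simp only [Category.assoc]; rfl) (by
      rw [← Category.assoc, ← Category.assoc]
      erw [hyj]
      simp only [Category.assoc, pullback.diagonal_snd, Category.comp_id]
      rfl) (by
      change ((AlgSp.yon S).map i₂o ≫ k ≫ pullback.snd f.hom f.hom) ≫ f.hom =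
        (AlgSp.yon S).map i₂o ≫ k ≫ pullback.fst f.hom f.hom ≫ f.hom
      simp only [Category.assoc, pullback.condition])
  have hkk : ((AlgSp.yon S).map i₂o ≫ k ≫ pullback.fst f.hom f.hom) ≫ pullback.diagonal f.hom =
      (AlgSp.yon S).map i₂o ≫ k := by
    apply pullback.hom_ext
    · simp only [Category.assoc, pullback.diagonal_fst, Category.comp_id]
    · simp only [Category.assoc, pullback.diagonal_snd, Category.comp_id]
      exact hl
  obtain ⟨σ, hσ⟩ := (AlgSp.yon S).map_surjective (sqE.lift _ _ hkk)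
  have hσι : σ ≫ ι = i₂o := by
    apply (AlgSp.yon S).map_injective
    rw [Functor.map_comp, hσ, sqE.lift_snd]
  have hσι' : σ.left ≫ ι.left = y := by
    rw [← Over.comp_left, hσι]; rfl
  refine ⟨σ.left, hσι', ?_⟩
  rw [← cancel_mono ι.left, Category.assoc, hσι', hw]

end Groth.Agent.Lib.Helper3.SepDvr
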