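import Groth.Agent.Lib.Helper3.AlgSpSmLocal2

set_option autoImplicit false
universe u
open CategoryTheory CategoryTheory.Limits AlgebraicGeometry Opposite MorphismProperty

namespace Groth.Agent.Lib.Helper3

variable {S : Scheme.{u}}

open AlgSp

/-- The graph section `X ⟶ X ×_Z Y` of `f : X ⟶ Y` over an etale `g : Y ⟶ Z` is etale. -/
theorem isEtaleMor_graph {X Y Z : Sp S} (hX : IsAlgSpace X) (hY : IsAlgSpace Y)
    (hZ : IsAlgSpace Z) (f : X ⟶ Y) (g : Y ⟶ Z) (hg : IsEtaleMor g) :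
    IsAlgSpace (pullback (f ≫ g) g) ∧
      IsEtaleMor (pullback.lift (𝟙 X) f (by rw [Category.id_comp]) : X ⟶ pullback (f ≫ g) g) := by
  have sq := IsPullback.of_hasPullback (f ≫ g) g
  have hW : IsAlgSpace (pullback (f ≫ g) g) := isAlgSpace_of_isPullback' hZ hX hY sq
  have hp : IsEtaleMor (pullback.fst (f ≫ g) g) :=
    isEtaleMor_of_isPullback hY hZ hX hW g (f ≫ g) (pullback.snd _ _) (pullback.fst _ _) sq.flip hg
  refine ⟨hW, isEtaleMor_cancel hX hW _ (pullback.fst _ _) hp ?_⟩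
  rw [pullback.lift_fst]
  exact isEtaleMor_id X

variable {P : MorphismProperty (Sp S)}

theorem IsEtaleSmoothLocalST.localOnSource (hP : IsEtaleSmoothLocalST P) :
    IsLocalOnSource (IsEtCover (S := S)) P := by
  intro ι X Xi g hX hXi hcov Y f hY
  constructor
  · intro hf i
    exact hP.precomp (hXi i) hX hY (g i) f (hcov.1 i) hf
  · intro h
    rw [hP.locality hX hY f]
    intro x
    obtain ⟨i, v, hv⟩ := hcov.2 x
    exact ⟨Y, X, Xi i, 𝟙 Y, 𝟙 X, f, g i, v, hY, hX, hXi i, locP_smooth_id Y, IsPullback.of_id_fst,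
      hcov.1 i, by rw [Category.comp_id]; exact hv, h i⟩

theorem IsEtaleSmoothLocalST.localOnBase (hP : IsEtaleSmoothLocalST P) :
    IsLocalOnBase (IsSmCover (S := S)) P := by
  intro ι Y Yi g hY hYi hcov X f hX Xi p q hXi sq
  constructor
  · intro hf i
    exact hP.baseChange hX hY (hXi i) (hYi i) f (g i) (p i) (q i) (sq i) (hcov.1 i) hf
  · intro h
    rw [hP.locality hX hY f]
    intro x
    obtain ⟨i, y, hy⟩ := hcov.2 (Points.map f x)
    obtain ⟨z, hz, -⟩ := Points.exists_of_isPullback (sq i) x y hy.symm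
    exact ⟨Yi i, Xi i, Xi i, g i, q i, p i, 𝟙 _, z, hYi i, hXi i, hXi i, hcov.1 i, sq i,
      isEtaleMor_id _, by rw [Category.id_comp]; exact hz, by rw [Category.id_comp]; exact h i⟩

theorem IsEtaleSmoothLocalST.postcomp (hP : IsEtaleSmoothLocalST P) {X Y Z : Sp S}
    (hX : IsAlgSpace X) (hY : IsAlgSpace Y) (hZ : IsAlgSpace Z) (f : X ⟶ Y) (g : Y ⟶ Z)
    (hf : P f) (hg : IsEtaleMor g) : P (f ≫ g) := by
  rw [hP.locality hX hZ (f ≫ g)]
  intro x
  obtain ⟨hW, he⟩ := isEtaleMor_graph hX hY hZ f g hg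
  exact ⟨Y, pullback (f ≫ g) g, X, g, pullback.fst _ _, pullback.snd _ _, _, x, hY, hW, hX,
    locP_smooth_of_isEtaleMor hg, IsPullback.of_hasPullback _ _, he,
    by rw [pullback.lift_fst]; exact Points.map_id x, by rw [pullback.lift_snd]; exact hf⟩

theorem IsEtaleSmoothLocalST.cancel (hP : IsEtaleSmoothLocalST P) {X Y Z : Sp S}
    (hX : IsAlgSpace X) (hY : IsAlgSpace Y) (hZ : IsAlgSpace Z) (f : X ⟶ Y) (g : Y ⟶ Z)
    (hg : IsEtaleMor g) (hfg : P (f ≫ g)) : P f := by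
  obtain ⟨hW, he⟩ := isEtaleMor_graph hX hY hZ f g hg
  have h1 : P (pullback.snd (f ≫ g) g) :=
    hP.baseChange hX hZ hW hY (f ≫ g) g (pullback.snd _ _) (pullback.fst _ _)
      (IsPullback.of_hasPullback _ _) (locP_smooth_of_isEtaleMor hg) hfg
  have h2 := hP.precomp hX hW hY _ (pullback.snd _ _) he h1
  rwa [pullback.lift_snd] at h2

end Groth.Agent.Lib.Helper3
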