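import Mathlib.AlgebraicGeometry.Morphisms.UniversallyClosed

set_option autoImplicit false
universe u
open CategoryTheory CategoryTheory.Limits AlgebraicGeometry Opposite TopologicalSpace

namespace Groth.Agent.Lib.Helper3

open _root_.PrimeSpectrum MvPolynomial in
/-- Topological core of "universally closed over a field implies quasi-compact": a space `M`
covered by compact opens `O i`, such that some space `N` maps onto `𝔸^I × M` with closed first
projection, is compact. -/
theorem compactSpace_of_closed_projection (K : Type u) [Field K] {I : Type u}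
    {M N : Type*} [TopologicalSpace M] [TopologicalSpace N]
    (O : I → Set M) (hO : ∀ i, IsOpen (O i)) (hOc : ∀ i, IsCompact (O i)) (hcov : ⋃ i, O i = Set.univ)
    (τ : N → PrimeSpectrum (MvPolynomial I K)) (π : N → M) (hτ : Continuous τ) (hπ : Continuous π)
    (hτc : IsClosedMap τ) (hsurj : ∀ t x, ∃ z, τ z = t ∧ π z = x) : CompactSpace M := by
  classical
  let Ti (i : I) : Opens (PrimeSpectrum (MvPolynomial I K)) := basicOpen (MvPolynomial.X i)
  let Z : Set N := (⋃ i, τ ⁻¹' (Ti i) ∩ π ⁻¹' (O i))ᶜ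
  have hZ : IsClosed Z := by
    simp only [Z, isClosed_compl_iff]
    exact isOpen_iUnion fun i ↦ ((Ti i).2.preimage hτ).inter ((hO i).preimage hπ)
  let Zc : Opens (PrimeSpectrum (MvPolynomial I K)) := ⟨(τ '' Z)ᶜ, (hτc _ hZ).isOpen_compl⟩
  let ψ : MvPolynomial I K →ₐ[K] K := MvPolynomial.aeval (fun _ ↦ 1)
  let t : PrimeSpectrum (MvPolynomial I K) := PrimeSpectrum.comap ψ.toRingHom default
  have ht (i : I) : t ∈ Ti i := by
    change ψ (MvPolynomial.X i) ∉ (default : PrimeSpectrum K).asIdeal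
    have : ψ (MvPolynomial.X i) = 1 := by simp [ψ]
    rw [this]
    exact (default : PrimeSpectrum K).isPrime.one_notMem
  have htZc : t ∈ Zc := by
    rintro ⟨z, hz, hzt⟩
    have hx : π z ∈ ⋃ i, O i := by rw [hcov]; trivial
    obtain ⟨i, hi⟩ := Set.mem_iUnion.1 hx
    exact hz (Set.mem_iUnion.2 ⟨i, by rw [Set.mem_preimage, hzt]; exact ht i, hi⟩)
  obtain ⟨U', ⟨g, rfl⟩, htU', hU'le⟩ := Opens.isBasis_iff_nbhd.mp isBasis_basic_opens htZc
  let σ : Finset I := MvPolynomial.vars g
  let φ : MvPolynomial I K →+* MvPolynomial I K :=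
    (MvPolynomial.aeval fun i : I ↦ if i ∈ σ then MvPolynomial.X i else 0).toRingHom
  let t' : PrimeSpectrum (MvPolynomial I K) := PrimeSpectrum.comap φ t
  have ht'g : t' ∈ PrimeSpectrum.basicOpen g :=
    show φ g ∉ t.asIdeal from (show φ g = g from aeval_ite_mem_eq_self g subset_rfl).symm ▸ htU'
  have h : t' ∉ τ '' Z := hU'le ht'g
  suffices ⋃ i ∈ σ, O i = Set.univ from
    ⟨this ▸ Finset.isCompact_biUnion _ fun i _ ↦ hOc i⟩
  rw [Set.iUnion₂_eq_univ_iff]
  contrapose! h
  obtain ⟨x, hx⟩ := h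
  obtain ⟨z, hzt, hzx⟩ := hsurj t' x
  refine ⟨z, ?_, hzt⟩
  simp only [Z, Set.mem_compl_iff, Set.mem_iUnion, Set.mem_inter_iff, Set.mem_preimage, not_exists,
    not_and]
  intro i hi₁ hi₂
  rw [hzt] at hi₁
  rw [hzx] at hi₂
  have hiσ : i ∉ σ := fun hi => hx i hi hi₂
  have : φ (MvPolynomial.X i) = 0 := by simp [φ, hiσ]
  have hi₁' : t ∈ PrimeSpectrum.basicOpen (φ (MvPolynomial.X i)) := hi₁
  rw [this, basicOpen_zero] at hi₁'
  exact hi₁'

end Groth.Agent.Lib.Helper3
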