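import Groth.Agent.Lib.Helper3.AlgSpQC5
import Groth.Agent.Lib.Helper3.UnivClosedCompact

set_option autoImplicit false
universe u
open CategoryTheory CategoryTheory.Limits AlgebraicGeometry Opposite MorphismProperty

namespace Groth.Agent.Lib.Helper3

variable {S : Scheme.{u}}

open AlgSp

theorem subsingleton_points_field {K : Type u} [Field K] (str : Spec (CommRingCat.of K) ⟶ S) :
    Subsingleton (Points ((yon S).obj (Over.mk str))) := by
  have : Subsingleton ↥(Over.mk str).left := by
    change Subsingleton ↥(Spec (CommRingCat.of K))
    infer_instance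
  exact (Points.schemeHomeo (Over.mk str)).symm.injective.subsingleton

/-- An algebraic space universally closed over a field has a compact space of points. -/
theorem compactSpace_points_of_isUnivClosedMor_field {P : Sp S} (hP : IsAlgSpace P) {K : Type u}
    [Field K] (str : Spec (CommRingCat.of K) ⟶ S) (g : P ⟶ (yon S).obj (Over.mk str))
    (hg : IsUnivClosedMor g) : CompactSpace (Points P) := by
  obtain ⟨U, u, hue, hus⟩ := hP.atlas
  have hs := surjective_map_of_repWith hus
  let I := U.left.affineCover.I₀
  let O : I → Set (Points P) := fun i =>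
    Points.map u '' (Points.schemeHomeo U '' Set.range (U.left.affineCover.f i))
  have hO : ∀ i, IsOpen (O i) := fun i =>
    isOpenMap_map_of_etale hue _ ((Points.schemeHomeo U).isOpenMap _
      (U.left.affineCover.f i).isOpenEmbedding.isOpen_range)
  have hOc : ∀ i, IsCompact (O i) := fun i =>
    ((isCompact_range (U.left.affineCover.f i).continuous).image
      (Points.schemeHomeo U).continuous).image (Points.continuous_map u)
  have hcov : ⋃ i, O i = Set.univ := by
    rw [Set.eq_univ_iff_forall]
    intro x
    obtain ⟨z, rfl⟩ := hs x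
    obtain ⟨t, rfl⟩ := (Points.schemeHomeo U).surjective z
    obtain ⟨i, y, rfl⟩ := U.left.affineCover.exists_eq t
    exact Set.mem_iUnion.2 ⟨i, _, ⟨_, ⟨y, rfl⟩, rfl⟩, rfl⟩
  let T : Scheme.{u} := Spec (CommRingCat.of (MvPolynomial I K))
  let q : T ⟶ Spec (CommRingCat.of K) := Spec.map (CommRingCat.ofHom MvPolynomial.C)
  let T' : Over S := Over.mk (q ≫ str)
  let q' : T' ⟶ Over.mk str := Over.homMk q rfl
  have sq := IsPullback.of_hasPullback g ((yon S).map q')
  have hcl : IsClosedMap (Points.map (pullback.snd g ((yon S).map q'))) :=
    hg (IsAlgSpace.yon_obj T') _ _ _ sq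
  let τ : Points (pullback g ((yon S).map q')) → PrimeSpectrum (MvPolynomial I K) :=
    fun z => (Points.schemeHomeo T').symm (Points.map (pullback.snd g ((yon S).map q')) z)
  have hτ : Continuous τ :=
    (Points.schemeHomeo T').symm.continuous.comp (Points.continuous_map _)
  have hτc : IsClosedMap τ := (Points.schemeHomeo T').symm.isClosedMap.comp hcl
  have := subsingleton_points_field str
  refine compactSpace_of_closed_projection K O hO hOc hcov τ
    (Points.map (pullback.fst g ((yon S).map q'))) hτ (Points.continuous_map _) hτc ?_
  intro t x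
  obtain ⟨z, hz1, hz2⟩ := Points.exists_of_isPullback sq x (Points.schemeHomeo T' t)
    (Subsingleton.elim _ _)
  refine ⟨z, ?_, hz1⟩
  change (Points.schemeHomeo T').symm (Points.map (pullback.snd g ((yon S).map q')) z) = t
  rw [hz2, Homeomorph.symm_apply_apply]

end Groth.Agent.Lib.Helper3
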