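import Groth.Agent.Lib.Helper3.AlgSpZarDecent
import Groth.Agent.Lib.Helper3.AlgSpOpenSubsp2

set_option autoImplicit false
universe u
open CategoryTheory CategoryTheory.Limits AlgebraicGeometry Opposite TopologicalSpace

namespace Groth.Agent.Lib.Helper3

variable {S : Scheme.{u}}

open AlgSp

theorem isOpen_range_map_of_isOpenImmersion {F G : Sp S} (j : F ⟶ G)
    (hj : RepWith @IsOpenImmersion j) : IsOpen (Set.range (Points.map j)) := by
  refine (isOpenMap_map_of_etale (MorphismProperty.relative_monotone ?_ _ hj)).isOpen_range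
  intro A B f hf
  have : IsOpenImmersion ((Over.forget S).map f) := hf
  change Etale ((Over.forget S).map f)
  infer_instance

/-- On an algebraic space covered by decent open subspaces, every monomorphism from the spectrum
of a field is representable quasi-compact. -/
theorem repWith_quasiCompact_of_zarCover {X : Sp S} (hX : IsAlgSpace X) {ι : Type*}
    (Xi : ι → Sp S) (j : ∀ i, Xi i ⟶ X) (hj : ∀ i, RepWith @IsOpenImmersion (j i))
    (hcov : ∀ x : Points X, ∃ i, x ∈ Set.range (Points.map (j i)))
    (hd : ∀ i, IsDecent (Xi i)) (g : FieldPt X) [Mono g.toHom] :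
    RepWith @QuasiCompact g.toHom := by
  refine repWith_of_forall_openCover @QuasiCompact g.toHom (hX.representable_from_yon _)
    (fun T k => ?_)
  choose l hl using fun t : ↥T.left => hcov (Points.ofPt k t)
  let O : ↥T.left → T.left.Opens := fun t =>
    ⟨Points.ofPt k ⁻¹' Set.range (Points.map (j (l t))),
      (isOpen_range_map_of_isOpenImmersion _ (hj _)).preimage (Points.continuous_ofPt k)⟩
  have hO : IsOpenCover O := by
    refine IsOpenCover.mk ?_
    rw [eq_top_iff]
    rintro t -
    exact Opens.mem_iSup.2 ⟨t, hl t⟩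
  refine ⟨T.left.openCoverOfIsOpenCover O hO, fun t => ?_⟩
  let Tt : Over S := Over.mk ((O t).ι ≫ T.hom)
  let incl : Tt ⟶ T := Over.homMk (O t).ι rfl
  let kt : (yon S).obj Tt ⟶ X := (yon S).map incl ≫ k
  obtain ⟨V, snd, fst, sq⟩ := hX.representable_from_yon g.toHom kt
  refine ⟨V, fst, snd, sq, ?_⟩
  by_cases hV : IsEmpty ↥V.left
  · exact quasiCompact_of_isEmpty _
  · rw [not_isEmpty_iff] at hV
    obtain ⟨v⟩ := hV
    have hrange : Set.range (Points.map kt) ⊆ Set.range (Points.map (j (l t))) := by
      rw [range_map_eq_range_ofPt]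
      rintro _ ⟨w, rfl⟩
      rw [Points.ofPt_yon_map_comp]
      exact w.2
    obtain ⟨k'', hk''⟩ := exists_factor_of_range_subset (j (l t)) (hj _) kt hrange
    have := mono_of_repWith_isOpenImmersion (j (l t)) (hj _)
    obtain ⟨fst', rfl⟩ := (yon S).map_surjective fst
    have hx : Points.mk g ∈ Set.range (Points.map (j (l t))) := by
      have h1 : Points.mk g = Points.ofPt kt (snd.left v) := by
        rw [← Points.ofPt_toHom g (fst'.left v)]
        exact ofPt_comm_of_isPullback sq v
      rw [h1]
      exact hrange ⟨_, (Points.ofPt_eq_map_ofScheme kt _).symm⟩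
    obtain ⟨gl, hgl, hglq⟩ := exists_factor_qc_of_mem_range hX (j (l t)) (hd _) g hx
    have sq' : IsPullback ((yon S).map fst') ((yon S).map snd) gl k'' :=
      isPullback_of_comp_mono' (j (l t)) (by rw [hgl, hk'']; exact sq)
    exact hglq.2 k'' ((yon S).map fst') snd sq'

/-- An algebraic space covered by decent open subspaces is decent. -/
theorem isDecent_of_zarCover {X : Sp S} (hX : IsAlgSpace X) {ι : Type*}
    (Xi : ι → Sp S) (j : ∀ i, Xi i ⟶ X) (hj : ∀ i, RepWith @IsOpenImmersion (j i))
    (hcov : ∀ x : Points X, ∃ i, x ∈ Set.range (Points.map (j i)))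
    (hd : ∀ i, IsDecent (Xi i)) : IsDecent X := by
  intro x
  obtain ⟨i, z, rfl⟩ := hcov x
  obtain ⟨p, rfl, hpm, -⟩ := hd i z
  have := mono_of_repWith_isOpenImmersion (j i) (hj i)
  have hmono : Mono (p.map (j i)).toHom := by
    rw [FieldPt.toHom_map]; exact @mono_comp _ _ _ _ _ _ hpm _ inferInstance
  exact ⟨p.map (j i), rfl, hmono, repWith_quasiCompact_of_zarCover hX Xi j hj hcov hd _⟩

end Groth.Agent.Lib.Helper3
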