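import Groth.Agent.Lib.Helper3.DecMonoQSep
import Groth.Agent.Lib.Helper3.AlgSpDecent2
import Groth.Agent.S9919
import Groth.Agent.S9903

set_option autoImplicit false
universe u
open CategoryTheory CategoryTheory.Limits AlgebraicGeometry Opposite MorphismProperty

namespace Groth.Agent.Lib.Helper3.DecMono

open Groth.Agent.Lib.Helper3 AlgSp

variable {S : Scheme.{u}}

/-- An algebraic space with a quasi-separated morphism to a scheme is decent. -/
theorem isDecent_of_isQuasiSeparatedMor_to_scheme {Z : Sp S} (hZ : IsAlgSpace Z) {T : Over S}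
    (g : Z ⟶ (yon S).obj T) (hg : IsQuasiSeparatedMor g) : IsDecent Z := by
  intro x
  induction x using Points.ind with
  | h q =>
    obtain ⟨c, hc⟩ := (yon S).map_surjective (q.toHom ≫ g)
    have h1 : RepWith @QuasiCompact (q.toHom ≫ g) := by
      rw [← hc, repWith_yon_map_iff]
      exact quasiCompact_of_field (K := q.K) c.left
    let ZS : Space S := ⟨Z, hZ⟩
    let TS : Space S := ⟨(yon S).obj T, IsAlgSpace.yon_obj T⟩
    let PS : Space S := ⟨(yon S).obj q.pt, IsAlgSpace.yon_obj _⟩
    let qS : PS ⟶ ZS := ObjectProperty.homMk q.toHom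
    let gS : ZS ⟶ TS := ObjectProperty.homMk g
    have h2 : IsQuasiCompactMor (qS ≫ gS).hom := isQuasiCompactMor_of_repWith_quasiCompact _ h1
    have h3 : IsQuasiCompactMor q.toHom := Groth.Agent.S9919.result qS gS h2 hg
    exact exists_qc_mono_point_of_qc hZ q
      (repWith_quasiCompact_of_isQuasiCompactMor _ (hZ.representable_from_yon _) h3)

/-- A quasi-separated morphism of algebraic spaces is decent. -/
theorem isDecentMor_of_isQuasiSeparatedMor {X Y : Sp S} (hX : IsAlgSpace X) (hY : IsAlgSpace Y)
    (f : X ⟶ Y) (hf : IsQuasiSeparatedMor f) : IsDecentMor f := by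
  intro T F' g fst snd sq
  have hF' : IsAlgSpace F' := isAlgSpace_of_isPullback' hY hX (IsAlgSpace.yon_obj T) sq
  exact isDecent_of_isQuasiSeparatedMor_to_scheme hF' snd
    (repWith_diagonal_of_isPullback _ sq hf)

/-- A scheme is decent. -/
theorem isDecent_yon (T : Over S) : IsDecent ((yon S).obj T) := by
  intro x
  obtain ⟨t, rfl⟩ := (Points.schemeEquiv T).surjective x
  have : Mono (𝟙 ((yon S).obj T)) := inferInstance
  obtain ⟨h1, h2⟩ := mono_and_qc_ofPt (𝟙 ((yon S).obj T)) ((RepWith @QuasiCompact).id_mem _) t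
  exact ⟨FieldPt.ofPt (𝟙 _) t, rfl, h1, h2⟩

/-- A representable morphism is decent. -/
theorem isDecentMor_of_representable {X Y : Sp S} (f : X ⟶ Y) (hf : Representable f) :
    IsDecentMor f := by
  intro T F' g fst snd sq
  have hsnd : Representable snd := MorphismProperty.of_isPullback (P := Representable) sq hf
  exact isDecent_of_representable snd hsnd (isDecent_yon T)

end Groth.Agent.Lib.Helper3.DecMono
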