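import Groth.Agent.Lib.Helper3.DecDense4

set_option autoImplicit false
universe u w

namespace Groth.Agent.Lib.Helper3.DecDense

open CategoryTheory CategoryTheory.Limits AlgebraicGeometry Opposite AlgSp
open Groth.Agent.Lib.Helper3 Groth.Agent.Lib.Helper3.GenDense Groth.Agent.Lib.Helper3.GenFinSp
  Groth.Agent.Lib.Helper3.RelNorm Groth.Agent.Lib.Helper3.SchLoc

variable {S : Scheme.{u}}

/-- An algebraic space with a finite etale surjective chart is decent. -/
theorem isDecent_of_finite_etale_surjective_chart {X : Sp S} (hX : IsAlgSpace X) {U : Over S}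
    (a : (yon S).obj U ⟶ X) (hf : RepWith @IsFinite a) (he : RepWith @Etale a)
    (hs : RepWith @Surjective a) : IsDecent X := by
  intro x
  obtain ⟨u, rfl⟩ := exists_ofPt_eq a hs x
  obtain ⟨R, t, s, kp⟩ := exists_pullback_charts a he.1 a
  have hsf : IsFinite s.left := hf.2 a ((yon S).map t) s kp
  have hfin : {r : ↥R.left | s.left r = u ∧ t.left r = u}.Finite :=
    (Scheme.Hom.finite_preimage_singleton s.left u).subset (fun r hr => hr.1)
  obtain ⟨p, hp, hm⟩ := DecMono.exists_mono_point_of_finite_relation_fibre hX a he u u rfl s t kp hfin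
  refine ⟨p, hp, hm, ?_⟩
  refine DecMono.repWith_quasiCompact_of_mono_of_finite_fibres hX p ?_
  intro A ψ hA hψ
  rw [hp]
  obtain ⟨W, pA, pU, sq⟩ := exists_pullback_charts ψ hψ.1 a
  have hpAf : IsFinite pA.left := hf.2 ψ ((yon S).map pU) pA sq.flip
  have hpUe : Etale pU.left := hψ.2 a ((yon S).map pA) pU sq
  have hWa : IsAffine W.left := by
    have : IsAffine A.left := hA
    exact isAffine_of_isAffineHom pA.left
  have hlqf : LocallyQuasiFinite pU.left := locallyQuasiFinite_of_etale pU.left
  have hfinU := OpenSch.finite_setOf_ofPt_eq a hf u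
  have hfinW : (pU.left ⁻¹' {u' : ↥U.left | Points.ofPt a u' = Points.ofPt a u}).Finite :=
    Set.Finite.preimage' hfinU (fun u' _ => finite_preimage_singleton_of_compactSpace pU.left u')
  refine (hfinW.image pA.left).subset ?_
  intro a' ha'
  obtain ⟨w, hw1, hw2⟩ := exists_of_ofPt_eq_of_isPullback sq a' u ha'
  refine ⟨w, ?_, hw1⟩
  change Points.ofPt a (pU.left w) = Points.ofPt a u
  rw [hw2]

/-- **S10353.** -/
theorem main10353 (X : AlgSp.Space S) {U : Over S} (a : (AlgSp.yon S).obj U ⟶ X.obj)
    (hf : AlgSp.RepWith @IsFinite a) (he : AlgSp.RepWith @Etale a)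
    (hs : AlgSp.RepWith @Surjective a) :
    ∃ (X' : AlgSp.Space S) (j : X' ⟶ X), AlgSp.RepWith @IsOpenImmersion j.hom ∧
      X'.obj.obj.IsRepresentable ∧ Dense (Set.range (AlgSp.Points.map j.hom)) :=
  main10337 X (isDecent_of_finite_etale_surjective_chart X.property a hf he hs)

end Groth.Agent.Lib.Helper3.DecDense
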