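import Groth.Agent.Lib.Helper3.RVCMain
import Groth.Agent.Lib.Helper3.AlgSpUC3
import Groth.Agent.S10288
import Groth.Agent.S10280
set_option autoImplicit false
universe u
open CategoryTheory CategoryTheory.Limits AlgebraicGeometry Opposite AlgSp
open Groth.Agent.Lib.Helper3

namespace Groth.Agent.Lib.Helper3.RVC

variable {S : Scheme.{u}}

/-- a dotted arrow is a dotted arrow after the trivial extension -/
theorem hasLiftExt_of_hasLift {F G : Sp S} {f : F ⟶ G} (sq : ValSq f) (h : sq.HasLift) :
    sq.HasLiftExt := by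
  obtain ⟨l, hl1, hl2⟩ := h
  let e : sq.DomExt :=
    { A' := sq.A
      K' := sq.K
      φ := RingHom.id _
      ψ := RingHom.id _
      comm := rfl
      isLocalHom := inferInstance }
  refine ⟨e, (yon S).map (Over.homMk (Spec.map (CommRingCat.ofHom e.φ)) rfl : e.ptA' ⟶ sq.ptA) ≫ l,
    ?_, ?_⟩
  · rw [← Category.assoc, ← Functor.map_comp, ← hl1, ← Category.assoc, ← Functor.map_comp]
    congr 2
    ext
    change Spec.map _ ≫ Spec.map _ = Spec.map _ ≫ Spec.map _
    rw [← Spec.map_comp, ← Spec.map_comp]
    rfl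
  · rw [Category.assoc, hl2]

/-- **S10306**: the refined valuative criterion. -/
theorem main10306 {U X Y : Space S} (f : X ⟶ Y) (h : U ⟶ X)
    (hf : IsQuasiCompactMor f.hom) (hh : IsQuasiCompactMor h.hom)
    (hd : DenseRange (Points.map h.hom))
    (hv : ∀ sq : ValSq f.hom, (∃ t : (yon S).obj sq.ptK ⟶ U.obj, t ≫ h.hom = sq.top) →
      sq.HasUniq ∧ sq.HasLiftExt) :
    IsUnivClosedMor f.hom ∧ (IsQuasiSeparatedMor f.hom → IsSeparatedMor f.hom) := by
  refine ⟨Groth.Agent.S10288.result f hf (existVC_of_refined f h hh hd hv), fun hqs => ?_⟩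
  have hXY : IsAlgSpace (pullback f.hom f.hom) :=
    isAlgSpace_of_isPullback' Y.property X.property X.property (IsPullback.of_hasPullback _ _)
  let XY : Space S := ⟨pullback f.hom f.hom, hXY⟩
  let Δ : X ⟶ XY := ObjectProperty.homMk (pullback.diagonal f.hom)
  have hΔqc : IsQuasiCompactMor Δ.hom := isQuasiCompactMor_of_repWith_quasiCompact _ hqs
  have hvΔ : ∀ sq : ValSq Δ.hom, (∃ t : (yon S).obj sq.ptK ⟶ U.obj, t ≫ h.hom = sq.top) →
      sq.HasUniq ∧ sq.HasLiftExt := by
    intro sq ⟨t, ht⟩
    have hmono : Mono (pullback.diagonal f.hom) := inferInstance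
    refine ⟨?_, ?_⟩
    · intro l l' _ h2 _ h2'
      have h3 : l ≫ pullback.diagonal f.hom = l' ≫ pullback.diagonal f.hom := h2.trans h2'.symm
      exact (cancel_mono (pullback.diagonal f.hom)).1 h3
    · apply hasLiftExt_of_hasLift
      have hcomm : sq.top ≫ pullback.diagonal f.hom = (yon S).map sq.j ≫ sq.bot := sq.comm
      have ha : (yon S).map sq.j ≫ sq.bot ≫ pullback.fst f.hom f.hom = sq.top := by
        rw [← Category.assoc, ← hcomm, Category.assoc, pullback.diagonal_fst, Category.comp_id]
      have hb : (yon S).map sq.j ≫ sq.bot ≫ pullback.snd f.hom f.hom = sq.top := by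
        rw [← Category.assoc, ← hcomm, Category.assoc, pullback.diagonal_snd, Category.comp_id]
      let sqf : ValSq f.hom :=
        { A := sq.A
          K := sq.K
          str := sq.str
          top := sq.top
          bot := (sq.bot ≫ pullback.fst f.hom f.hom) ≫ f.hom
          comm := by
            rw [← Category.assoc, ← Category.assoc, Category.assoc _ sq.bot, ha] }
      obtain ⟨huniq, -⟩ := hv sqf ⟨t, ht⟩
      have hab : sq.bot ≫ pullback.fst f.hom f.hom = sq.bot ≫ pullback.snd f.hom f.hom :=
        huniq _ _ ha rfl hb (by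
          change (sq.bot ≫ pullback.snd f.hom f.hom) ≫ f.hom =
            (sq.bot ≫ pullback.fst f.hom f.hom) ≫ f.hom
          rw [Category.assoc, Category.assoc, pullback.condition])
      refine ⟨sq.bot ≫ pullback.fst f.hom f.hom, ha, ?_⟩
      change (sq.bot ≫ pullback.fst f.hom f.hom) ≫ pullback.diagonal f.hom = sq.bot
      apply pullback.hom_ext
      · rw [Category.assoc, pullback.diagonal_fst, Category.comp_id]
      · rw [Category.assoc, pullback.diagonal_snd, Category.comp_id, hab]
  have hΔuc : IsUnivClosedMor (pullback.diagonal f.hom) :=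
    Groth.Agent.S10288.result Δ hΔqc (existVC_of_refined Δ h hh hd hvΔ)
  exact (Groth.Agent.S10280.result f).1.2 hΔuc

end Groth.Agent.Lib.Helper3.RVC
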