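import Groth.Agent.Lib.Helper3.RDvrMain
import Groth.Agent.S10306
import Groth.Agent.S10290
set_option autoImplicit false
universe u
open CategoryTheory CategoryTheory.Limits AlgebraicGeometry IsLocalRing
open AlgSp
open Groth.Agent.Lib.Helper3

namespace Groth.Agent.Lib.Helper3.RDvr

variable {S : Scheme.{u}}

theorem isQuasiSeparatedMor_of_isSeparatedMor {F G : Sp S} {f : F ⟶ G} (hf : IsSeparatedMor f) :
    IsQuasiSeparatedMor f :=
  MorphismProperty.relative_monotone (fun A B φ hφ => by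
    have : IsClosedImmersion ((Over.forget S).map φ) := hφ
    change QuasiCompact ((Over.forget S).map φ)
    infer_instance) _ hf

theorem main10069 (S : Scheme.{u}) {U X Y : AlgSp.Space S} (h : U ⟶ X) (f : X ⟶ Y)
    (hY : AlgSp.IsLocNoethSp Y.obj)
    (hfs : AlgSp.IsSeparatedMor f.hom) (hft : AlgSp.IsFiniteTypeMor f.hom)
    (hh : AlgSp.IsFiniteTypeMor h.hom) (hdense : Dense (Set.range (AlgSp.Points.map h.hom)))
    (hval : ∀ sq : AlgSp.ValSq (h.hom ≫ f.hom), IsDiscreteValuationRing sq.A →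
      ∃ l : (AlgSp.yon S).obj sq.ptA ⟶ X.obj,
        (AlgSp.yon S).map sq.j ≫ l = sq.top ≫ h.hom ∧ l ≫ f.hom = sq.bot) :
    AlgSp.IsProperMor f.hom := by
  refine ⟨hfs, hft, ?_⟩
  have hfqs := isQuasiSeparatedMor_of_isSeparatedMor hfs
  exact (Groth.Agent.S10306.result f h hft.2 hh.2 hdense (fun sq ⟨t, ht⟩ =>
    ⟨Groth.Agent.S10290.result f hfs sq,
      hasLiftExt_of_refined_dvr h f hY hfqs hft hh hval sq t ht⟩)).1

end Groth.Agent.Lib.Helper3.RDvr
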