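import Groth.Agent.Lib.Helper3.SchLoc4
import Groth.Agent.Lib.Helper3.DecDense5
import Groth.Agent.Lib.Helper3.RDvrFinal
import Groth.Agent.Lib.Helper3.DecMonoQSepMor
import Groth.Agent.Lib.Helper3.AlgSpDecent2

set_option autoImplicit false
universe u w

namespace Groth.Agent.Lib.Helper3.DecDense

open CategoryTheory CategoryTheory.Limits AlgebraicGeometry Opposite AlgSp Topology
open Groth.Agent.Lib.Helper3 Groth.Agent.Lib.Helper3.GenDense Groth.Agent.Lib.Helper3.GenFinSp
  Groth.Agent.Lib.Helper3.RelNorm Groth.Agent.Lib.Helper3.SchLoc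

variable {S : Scheme.{u}}

/-- A subspace (monomorphism) of a decent algebraic space is decent. -/
theorem isDecent_of_mono {X Z : Sp S} (hX : IsAlgSpace X) (hZ : IsAlgSpace Z) (i : Z ⟶ X) [Mono i]
    (hXd : IsDecent X) : IsDecent Z :=
  isDecent_of_isDecentMor i (DecMono.isDecentMor_of_isQuasiSeparatedMor hZ hX i
    (RDvr.isQuasiSeparatedMor_of_isSeparatedMor (Groth.Agent.S9937.isSeparatedMor_of_mono i))) hXd

/-- **S10339.** Points of a decent algebraic space form a quasi-sober space. -/
theorem quasiSober_points_of_isDecent (X : AlgSp.Space S)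
    (hXd : IsDecent X.obj) : QuasiSober (Points X.obj) := by
  refine ⟨?_⟩
  intro T hTirr hTcl
  obtain ⟨Z, i, hicl, hirange, -⟩ := Groth.Agent.S10192.result X T hTcl
  have himono : Mono i.hom := SchIm.mono_of_closedImmersion i.hom hicl
  have hZd : IsDecent Z.obj := isDecent_of_mono X.property Z.property i.hom hXd
  obtain ⟨Z', j, hjo, hrep, hjdense⟩ := DecDense.main10337 Z hZd
  obtain ⟨G, ⟨eG⟩⟩ := hrep
  let e : (yon S).obj G ≅ Z'.obj := isoOfRepresentableBy eG
  -- the embedding `G ⟶ |X|`
  have hiimm : RepWith @IsImmersion i.hom :=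
    repWith_mono (fun _ _ k hk => by
      have : IsClosedImmersion k := hk
      exact (inferInstance : IsImmersion k)) hicl
  have hjimm : RepWith @IsImmersion j.hom := repWith_mono isOpenImmersion_le_isImmersion hjo
  have hiemb := (isEmbedding_map_of_immersion X.property i.hom hiimm).1
  have hjemb := (isEmbedding_map_of_immersion Z.property j.hom hjimm).1
  have heemb : IsEmbedding (Points.map e.hom) := by
    let h : Points ((yon S).obj G) ≃ₜ Points Z'.obj :=
      { toFun := Points.map e.hom
        invFun := Points.map e.inv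
        left_inv := fun x => by rw [← Points.map_comp, e.hom_inv_id, Points.map_id]
        right_inv := fun x => by rw [← Points.map_comp, e.inv_hom_id, Points.map_id]
        continuous_toFun := Points.continuous_map _
        continuous_invFun := Points.continuous_map _ }
    exact h.isEmbedding
  let φ : ↥G.left → Points X.obj := fun g =>
    Points.map i.hom (Points.map j.hom (Points.map e.hom (Points.schemeHomeo G g)))
  have hφ : IsEmbedding φ :=
    hiemb.comp (hjemb.comp (heemb.comp (Points.schemeHomeo G).isEmbedding))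
  -- the range of `φ`
  have hjopen : IsOpen (Set.range (Points.map j.hom)) :=
    (isOpenMap_map_of_etale (repWith_mono isOpenImmersion_le_etale hjo)).isOpen_range
  obtain ⟨W₀, hW₀, hW₀eq⟩ := hiemb.isInducing.isOpen_iff.1 hjopen
  have hrange : Set.range φ = T ∩ W₀ := by
    ext x
    constructor
    · rintro ⟨g, rfl⟩
      refine ⟨hirange ▸ ⟨_, rfl⟩, ?_⟩
      have : Points.map j.hom (Points.map e.hom (Points.schemeHomeo G g)) ∈
          Points.map i.hom ⁻¹' W₀ := hW₀eq ▸ ⟨_, rfl⟩
      exact this
    · rintro ⟨hxT, hxW⟩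
      rw [← hirange] at hxT
      obtain ⟨z, rfl⟩ := hxT
      have hz : z ∈ Points.map i.hom ⁻¹' W₀ := hxW
      rw [hW₀eq] at hz
      obtain ⟨z', rfl⟩ := hz
      obtain ⟨g, hg⟩ := (Points.schemeHomeo G).surjective (Points.map e.inv z')
      refine ⟨g, ?_⟩
      change Points.map i.hom (Points.map j.hom (Points.map e.hom (Points.schemeHomeo G g))) = _
      rw [hg, ← Points.map_comp e.inv, e.inv_hom_id, Points.map_id]
  have hpre : PreirreducibleSpace ↥G.left :=
    preirreducibleSpace_of_isEmbedding φ hφ T W₀ hTirr.isPreirreducible hW₀ hrange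
  -- nonempty
  have hne : Nonempty ↥G.left := by
    obtain ⟨x, hx⟩ := hTirr.nonempty
    rw [← hirange] at hx
    obtain ⟨z, rfl⟩ := hx
    have : Nonempty (Points Z.obj) := ⟨z⟩
    obtain ⟨z', hz'⟩ := hjdense.nonempty
    obtain ⟨z'', rfl⟩ := hz'
    exact ⟨(Points.schemeHomeo G).symm (Points.map e.inv z'')⟩
  have hirrG : IrreducibleSpace ↥G.left := { toPreirreducibleSpace := hpre, toNonempty := hne }
  refine ⟨φ (genericPoint ↥G.left), ?_⟩
  have hgen : IsGenericPoint (genericPoint ↥G.left) Set.univ := genericPoint_spec ↥G.left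
  have h1 := hgen.image hφ.continuous
  rw [Set.image_univ] at h1
  have h2 : closure (Set.range φ) = T := by
    apply Set.Subset.antisymm
    · exact closure_minimal (hrange ▸ Set.inter_subset_left) hTcl
    · rw [hrange]
      refine (isPreirreducible_iff_subset_closure_inter_open T).1 hTirr.isPreirreducible W₀ hW₀ ?_
      obtain ⟨g⟩ := hne
      exact ⟨φ g, hrange ▸ Set.mem_range_self g⟩
  rw [h2] at h1
  exact h1


end Groth.Agent.Lib.Helper3.DecDense
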