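import Groth.Agent.Lib.Helper3.Collapse1
import Groth.Agent.Lib.Helper3.AlgSpUC

set_option autoImplicit false
universe u

namespace Groth.Agent.Lib.Helper3.Collapse

open CategoryTheory CategoryTheory.Limits AlgebraicGeometry Opposite AlgSp
open Groth.Agent.Lib.Helper3

variable {S : Scheme.{u}}

/-- Case (a): finiteness of the image of the fibres gives a finite fibre of the image. -/
theorem exists_finite_fibre_a {X Y B Z : Sp S} (h : X ⟶ Y) (g : Y ⟶ B) (i : Z ⟶ Y) [Mono i]
    (e : X ⟶ Z) (he : e ≫ i = h) (hes : IsSurjectiveMor e) (k : FieldPt B)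
    (h3 : ∀ (Yk : AlgSp.Sp S) (gY : Yk ⟶ Y) (sY : Yk ⟶ (AlgSp.yon S).obj k.pt),
            IsPullback gY sY g k.toHom →
            ∀ (Xk : AlgSp.Sp S) (gX : Xk ⟶ X) (hk' : Xk ⟶ Yk), IsPullback gX hk' h gY →
              (Set.range (AlgSp.Points.map hk')).Finite) :
    ∃ (Zk : Sp S) (fst : Zk ⟶ Z) (snd : Zk ⟶ (yon S).obj k.pt),
      IsPullback fst snd (i ≫ g) k.toHom ∧ Finite (Points Zk) := by
  have sqY := IsPullback.of_hasPullback g k.toHom
  have sqX := IsPullback.of_hasPullback h (pullback.fst g k.toHom)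
  have sqZ := IsPullback.of_hasPullback i (pullback.fst g k.toHom)
  have hfin := h3 _ _ _ sqY _ _ _ sqX
  refine ⟨pullback i (pullback.fst g k.toHom), pullback.fst _ _,
    pullback.snd _ _ ≫ pullback.snd g k.toHom, sqZ.paste_vert sqY, ?_⟩
  -- the lift `Xk ⟶ Zk`
  have hw : (pullback.fst h (pullback.fst g k.toHom) ≫ e) ≫ i =
      pullback.snd h (pullback.fst g k.toHom) ≫ pullback.fst g k.toHom := by
    rw [Category.assoc, he, sqX.w]
  let eK := sqZ.lift _ _ hw
  have heK1 : eK ≫ pullback.fst i (pullback.fst g k.toHom) =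
      pullback.fst h (pullback.fst g k.toHom) ≫ e := sqZ.lift_fst _ _ _
  have heK2 : eK ≫ pullback.snd i (pullback.fst g k.toHom) =
      pullback.snd h (pullback.fst g k.toHom) := sqZ.lift_snd _ _ _
  have sqL : IsPullback eK (pullback.fst h (pullback.fst g k.toHom))
      (pullback.fst i (pullback.fst g k.toHom)) e := by
    refine IsPullback.of_right ?_ heK1 sqZ.flip
    rw [heK2, he]
    exact sqX.flip
  haveI : Mono (pullback.snd i (pullback.fst g k.toHom)) := inferInstance
  have hinj := injective_map_of_mono (pullback.snd i (pullback.fst g k.toHom))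
  have hsub : Set.range (Points.map (pullback.snd i (pullback.fst g k.toHom))) ⊆
      Set.range (Points.map (pullback.snd h (pullback.fst g k.toHom))) := by
    rintro _ ⟨z, rfl⟩
    obtain ⟨x, hx⟩ := hes (Points.map (pullback.fst i (pullback.fst g k.toHom)) z)
    obtain ⟨w, hw1, -⟩ := Points.exists_of_isPullback sqL z x hx.symm
    refine ⟨w, ?_⟩
    rw [← heK2, ← hw1]
    exact Points.map_comp _ _ w
  have hfin2 : (Set.range (Points.map (pullback.snd i (pullback.fst g k.toHom)))).Finite :=
    hfin.subset hsub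
  haveI := hfin2.to_subtype
  exact Finite.of_injective_finite_range hinj

theorem map_toHom_eq {B : Sp S} (p : FieldPt B) (w : Points ((yon S).obj p.pt)) :
    Points.map p.toHom w = Points.mk p := by
  haveI := subsingleton_points_field (S := S) p.str
  have : w = Points.ofPt (𝟙 _) (IsLocalRing.closedPoint p.K) := Subsingleton.elim _ _
  rw [this, Points.map_ofPt, Category.id_comp, Points.ofPt_toHom]

/-- Case (b). -/
theorem exists_finite_fibre_b {X Y B Z : Sp S} (h : X ⟶ Y) (g : Y ⟶ B) (i : Z ⟶ Y) [Mono i]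
    (e : X ⟶ Z) (he : e ≫ i = h) (hes : IsSurjectiveMor e) (b : Points B)
    (hfin : (Points.map h '' (Points.map (h ≫ g) ⁻¹' {b})).Finite) (hdec : IsDecent B) :
    ∃ (p : FieldPt B), Points.mk p = b ∧ ∃ (Zk : Sp S) (fst : Zk ⟶ Z)
      (snd : Zk ⟶ (yon S).obj p.pt), IsPullback fst snd (i ≫ g) p.toHom ∧ Finite (Points Zk) := by
  obtain ⟨p, hp, hmono, -⟩ := hdec b
  haveI := hmono
  refine ⟨p, hp, pullback (i ≫ g) p.toHom, pullback.fst _ _, pullback.snd _ _,
    IsPullback.of_hasPullback _ _, ?_⟩
  haveI : Mono (pullback.fst (i ≫ g) p.toHom) := inferInstance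
  have hinj := injective_map_of_mono (pullback.fst (i ≫ g) p.toHom)
  have hinj2 := injective_map_of_mono i
  -- the fibre of `Z` over `b` is finite
  have hfib : (Points.map (i ≫ g) ⁻¹' {b}).Finite := by
    refine Set.Finite.of_finite_image (f := Points.map i) (hfin.subset ?_) hinj2.injOn
    rintro _ ⟨z, hz, rfl⟩
    obtain ⟨x, rfl⟩ := hes z
    refine ⟨x, ?_, ?_⟩
    · change Points.map (h ≫ g) x = b
      have hz' : Points.map (i ≫ g) (Points.map e x) = b := hz
      rw [← hz', ← he, Category.assoc]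
      exact Points.map_comp _ _ x
    · rw [← he]
      exact Points.map_comp _ _ x
  have hsub : Set.range (Points.map (pullback.fst (i ≫ g) p.toHom)) ⊆
      Points.map (i ≫ g) ⁻¹' {b} := by
    rintro _ ⟨z, rfl⟩
    change Points.map (i ≫ g) (Points.map (pullback.fst (i ≫ g) p.toHom) z) = b
    rw [← Points.map_comp, pullback.condition, Points.map_comp, map_toHom_eq, hp]
  haveI := (hfib.subset hsub).to_subtype
  exact Finite.of_injective_finite_range hinj

end Groth.Agent.Lib.Helper3.Collapse
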