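import Mathlib
import Groth.Agent.Lib.Helper3.AlgSpLftFieldDim
import Groth.Agent.Lib.Helper3.AlgSpFibreQF
import Groth.Agent.Lib.Helper3.AlgSpQFBaseChange
import Groth.Agent.S10338
set_option autoImplicit false
universe u
open CategoryTheory CategoryTheory.Limits AlgebraicGeometry TopologicalSpace

namespace Groth.Agent.Lib.Helper3.FibCond

open AlgSp Groth.Agent.Lib.Helper3 Groth.Agent.Lib.lead.QFCodimSp

variable {S : Scheme.{u}}

section field
variable {X : Sp S} {k : Type u} [Field k] (str : Spec (CommRingCat.of k) ⟶ S)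
  (p : X ⟶ (yon S).obj (Over.mk str)) (hp : LocP @LocallyOfFiniteType p)
include hp

theorem chart_lft {U : Over S} (a : (yon S).obj U ⟶ X) (ha : RepWith @Etale a) :
    ∃ φ : U.left ⟶ Spec (CommRingCat.of k), LocallyOfFiniteType φ := by
  obtain ⟨φ, hφ⟩ := (yon S).map_surjective (a ≫ p)
  have h1 : LocallyOfFiniteType φ.left :=
    hp a (𝟙 _) φ ha (repWith_id _ _) (by rw [hφ, Category.comp_id])
  exact ⟨φ.left, h1⟩

theorem chart_locNoeth {U : Over S} (a : (yon S).obj U ⟶ X) (ha : RepWith @Etale a) :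
    IsLocallyNoetherian U.left := by
  obtain ⟨φ, hφ⟩ := chart_lft str p hp a ha
  exact LocallyOfFiniteType.isLocallyNoetherian φ

theorem chart_jacobson {U : Over S} (a : (yon S).obj U ⟶ X) (ha : RepWith @Etale a) :
    JacobsonSpace U.left := by
  obtain ⟨φ, hφ⟩ := chart_lft str p hp a ha
  exact LocallyOfFiniteType.jacobsonSpace φ

end field

section top
variable {X : Sp S}
  (hN : ∀ ⦃U : Over S⦄ (a : (yon S).obj U ⟶ X), RepWith @Etale a → IsLocallyNoetherian U.left)
  (hJ : ∀ ⦃U : Over S⦄ (a : (yon S).obj U ⟶ X), RepWith @Etale a → JacobsonSpace U.left)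
include hN hJ

theorem pointwise (hX : IsAlgSpace X) (x : Points X) :
    (IsOpen ({x} : Set (Points X)) ↔
        (IsClosed ({x} : Set (Points X)) ∧ ∀ x' : Points X, x' ⤳ x → x' = x)) ∧
      (IsOpen ({x} : Set (Points X)) ↔ HasAt (fun U u => FlatMor.localDim ↥U u = 0) X x) ∧
      (IsDecent X →
        (FlatMor.localDim (Points X) x = 0 ↔ IsOpen ({x} : Set (Points X)))) := by
  refine ⟨⟨fun h => ⟨isClosed_singleton_of_isOpen hN hX hJ x h,
      fun x' hx' => hx'.mem_open h rfl⟩,
    fun h => isOpen_singleton_of_isClosed_of_no_generization hN hX x h.1 h.2⟩,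
    isOpen_singleton_iff_hasAt_localDim hN hX x, fun hd => ?_⟩
  haveI := Groth.Agent.S10338.result ⟨X, hX⟩ hd
  exact ⟨isOpen_singleton_of_localDim_points_eq_zero hN hX x,
    Groth.Agent.Lib.lead.QFRelDim.localDim_eq_zero_of_isOpen_singleton _ x⟩

theorem global (hX : IsAlgSpace X) [Nonempty (Points X)] :
    (DiscreteTopology (Points X) ↔ AlgSp.dim X = 0) ∧
      (DiscreteTopology (Points X) → topologicalKrullDim (Points X) = 0) ∧
      (IsDecent X → topologicalKrullDim (Points X) = 0 → DiscreteTopology (Points X)) ∧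
      (IsDecent X → Finite (Points X) → DiscreteTopology (Points X)) := by
  classical
  have hnn : (0 : WithBot ℕ∞) ≤ AlgSp.dim X := dim_nonneg_of_nonempty hX
  have hnnT : (0 : WithBot ℕ∞) ≤ topologicalKrullDim (Points X) :=
    Groth.Agent.Lib.lead.QFRelDim.topologicalKrullDim_nonneg_of_nonempty _
  have h12 : AlgSp.dim X = 0 → DiscreteTopology (Points X) := by
    intro hdim
    refine discreteTopology_points_of_forall_chart hN hX ?_
    intro U a ha z z' hs
    have h1 : topologicalKrullDim ↥U.left ≤ 0 := (le_dim_of_chart a ha).trans hdim.le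
    exact eq_of_specializes_of_topologicalKrullDim_le_zero h1 hs
  refine ⟨⟨?_, h12⟩, ?_, ?_, ?_⟩
  · intro hdisc
    refine le_antisymm ?_ hnn
    refine dim_le_zero_of_forall_chart ?_
    intro U a ha z z' hs
    haveI := discreteTopology_chart_of_discreteTopology_points hN a ha
    exact (specializes_iff_eq.mp hs)
  · intro hdisc
    exact le_antisymm (topologicalKrullDim_zero_of_discreteTopology _) hnnT
  · intro hd hdim
    haveI : T0Space (Points X) := Groth.Agent.S10338.result ⟨X, hX⟩ hd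
    rw [discreteTopology_iff_isOpen_singleton]
    intro x
    refine isOpen_singleton_of_mem_of_dim_le_zero hN hX ⊤ ?_ x trivial
    exact (topologicalKrullDim_subspace_le _ _).trans hdim.le
  · intro hd hfin
    apply h12
    refine le_antisymm ?_ hnn
    refine dim_le_zero_of_forall_chart ?_
    intro U a ha z z' hs
    obtain ⟨N, hNaff, hzN⟩ := exists_isAffineOpen_mem_and_subset (x := z) (U := ⊤) trivial
    have hz'N : z' ∈ N := hs.mem_open N.2 hzN.1
    haveI : CompactSpace ↥(N : U.left.Opens) := isCompact_iff_compactSpace.mp hNaff.isCompact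
    have hae := chartRestrict_etale a ha N
    haveI := hJ _ hae
    haveI : CompactSpace ↥(Over.mk (N.ι ≫ U.hom)).left := ‹CompactSpace ↥(N : U.left.Opens)›
    haveI : Finite ↥(Over.mk (N.ι ≫ U.hom)).left :=
      finite_chart_of_isDecent_of_finite hd _ hae
    haveI : Finite ↥(N : U.left.Opens) := ‹Finite ↥(Over.mk (N.ι ≫ U.hom)).left›
    haveI : JacobsonSpace ↥(N : U.left.Opens) := ‹JacobsonSpace ↥(Over.mk (N.ι ≫ U.hom)).left›
    have h1 : (⟨z', hz'N⟩ : ↥(N : U.left.Opens)) ⤳ ⟨z, hzN.1⟩ :=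
      Topology.IsInducing.subtypeVal.specializes_iff.mp hs
    exact congrArg Subtype.val (specializes_iff_eq.mp h1)

end top

/-- A morphism of schemes locally of finite type to a discrete scheme which is quasi-finite at a
point has that point open. -/
theorem isOpen_singleton_of_quasiFiniteAt_of_discrete {U V : Scheme.{u}} (h : U ⟶ V)
    [LocallyOfFiniteType h] [DiscreteTopology V] (u : U) (hq : h.QuasiFiniteAt u) :
    IsOpen ({u} : Set U) := by
  rw [Groth.Agent.Lib.lead.QFCodim.quasiFiniteAt_iff_exists_open] at hq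
  obtain ⟨O, hO, hOe⟩ := hq
  rw [← hOe]
  exact hO.inter ((isOpen_discrete ({h u} : Set V)).preimage h.continuous)

section main
variable {X Y Xk : Sp S} (hX : IsAlgSpace X) (hY : IsAlgSpace Y) (hXk : IsAlgSpace Xk)
  (f : X ⟶ Y) (hf : LocP @LocallyOfFiniteType f) (r : FieldPt Y) (fst : Xk ⟶ X)
  (snd : Xk ⟶ (yon S).obj r.pt) (hsq : IsPullback fst snd f r.toHom)
include hX hY hXk hf hsq

theorem locP_snd : LocP @LocallyOfFiniteType snd :=
  locP_of_isPullback isEtLocal_locallyOfFiniteType hX hY (IsAlgSpace.yon_obj _) hXk f r.toHom fst snd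
    hsq hf

theorem hN_fibre ⦃U : Over S⦄ (a : (yon S).obj U ⟶ Xk) (ha : RepWith @Etale a) :
    IsLocallyNoetherian U.left :=
  chart_locNoeth r.str snd (locP_snd hX hY hXk f hf r fst snd hsq) a ha

theorem hJ_fibre ⦃U : Over S⦄ (a : (yon S).obj U ⟶ Xk) (ha : RepWith @Etale a) :
    JacobsonSpace U.left :=
  chart_jacobson r.str snd (locP_snd hX hY hXk f hf r fst snd hsq) a ha

/-- (7) ⇔ (8). -/
theorem hasAt_localDim_iff_QFQ (xt : Points Xk) :
    HasAt (fun U u => FlatMor.localDim ↥U u = 0) Xk xt ↔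
      HasAtMor QFQ f (Points.map fst xt) := by
  constructor
  · intro hz
    obtain ⟨V, bV, hbe, hbs⟩ := hY.atlas
    obtain ⟨U, c, h, hce, -, hae, has, hh, hk⟩ := exists_chart_over hX hY f bV hbe
    obtain ⟨u, hu⟩ := exists_ofPt_eq _ (has hbs) (Points.map fst xt)
    haveI : LocallyOfFiniteType h.left := hf _ bV h hae hbe hk
    have h2 := quasiFiniteAt_of_fibre_localDim_zero f r.K r.str r.toHom fst snd hsq xt hz _ bV h hk
      hae hbe u hu
    exact ⟨U, V, _, bV, h, u, hae, hbe, hk, hu, QFQ_of_quasiFiniteAt h.left u h2⟩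
  · intro hq
    have hq' : HasAtMor QFQ snd xt :=
      (hasAtMor_QFQ_baseChange_iff hX hY hXk (IsAlgSpace.yon_obj _) f r.toHom fst snd hsq hf xt).2 hq
    obtain ⟨U'', V'', a'', b'', h'', u'', ha''e, hb''e, e'', hu'', hq''⟩ := hq'
    have hsnd := locP_snd hX hY hXk f hf r fst snd hsq
    haveI : LocallyOfFiniteType h''.left := hsnd a'' b'' h'' ha''e hb''e e''
    have hqa := quasiFiniteAt_of_QFQ h''.left u'' hq''
    -- `V''` is etale over a field, hence discrete
    obtain ⟨ψ, hψ⟩ := (yon S).map_surjective b''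
    have hψe : Etale ψ.left := (repWith_yon_map_iff _ _).1 (hψ ▸ hb''e)
    obtain ⟨ω, hω⟩ : ∃ ω : V''.left ⟶ Spec (CommRingCat.of r.K), ω = ψ.left := ⟨_, rfl⟩
    have : Etale ω := hω ▸ hψe
    have : LocallyQuasiFinite ω := locallyQuasiFinite_of_unramified ω
    have : DiscreteTopology ↥V''.left :=
      Groth.Agent.Lib.lead.QFDiscSp.discreteTopology_of_locallyQuasiFinite_subsingleton ω
    have ho := isOpen_singleton_of_quasiFiniteAt_of_discrete h''.left u'' hqa
    exact ⟨U'', a'', u'', ha''e, hu'', 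
      Groth.Agent.Lib.lead.QFRelDim.localDim_eq_zero_of_isOpen_singleton _ u'' ho⟩

end main

end Groth.Agent.Lib.Helper3.FibCond
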