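import Mathlib
import Groth.Agent.Lib.Helper3.FibCond1
import Groth.Agent.Lib.lead.RelDimFormulaSp
import Groth.Agent.Lib.Helper3.AlgSpNoSpec
import Groth.Agent.Lib.Helper3.AlgSpGenLift
set_option autoImplicit false
universe u
open CategoryTheory CategoryTheory.Limits AlgebraicGeometry TopologicalSpace

namespace Groth.Agent.Lib.Helper3.FibCond

open AlgSp Groth.Agent.Lib.Helper3 Groth.Agent.Lib.lead.QFCodimSp

variable {S : Scheme.{u}}

/-- In a locally Noetherian scheme, the points of an open set without proper specializations are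
open points. -/
theorem isOpen_singleton_of_open_no_spec (Z : Scheme.{u}) [IsLocallyNoetherian Z] (P : Z.Opens)
    (hns : ∀ z ∈ P, ∀ z' ∈ P, z' ⤳ z → z' = z) (t : Z) (ht : t ∈ P) : IsOpen ({t} : Set Z) := by
  haveI : DiscreteTopology ↥(P : Scheme.{u}) := by
    apply Groth.Agent.Lib.lead.QFCodim.discreteTopology_of_forall_specializes_eq
    intro z z' hz
    have h1 : P.ι z' ⤳ P.ι z := hz.map P.ι.continuous
    exact P.ι.isOpenEmbedding.injective (hns _ z.2 _ z'.2 h1)
  let t' : ↥(P : Scheme.{u}) := ⟨t, ht⟩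
  have h1 : IsOpen ({t'} : Set ↥(P : Scheme.{u})) := isOpen_discrete _
  have := P.ι.isOpenEmbedding.isOpenMap _ h1
  have e : (⇑P.ι '' ({t'} : Set ↥(P : Scheme.{u})) : Set Z) = {t} := by
    ext y
    constructor
    · rintro ⟨w, hw, rfl⟩
      have hw' : w = t' := hw
      rw [hw']; rfl
    · intro hy
      have hy' : y = t := hy
      exact ⟨t', rfl, hy'.symm⟩
  exact Eq.mp (congrArg IsOpen e) this

theorem fiberι_apply_eq {U V : Scheme.{u}} (h : U ⟶ V) (v : V) (z : h.fiber v) :
    h (h.fiberι v z) = v := by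
  have : h.fiberι v z ∈ Set.range (h.fiberι v) := ⟨z, rfl⟩
  rw [h.range_fiberι] at this
  exact this

theorem quasiFiniteAt_iff_isOpen_singleton_fiber {U V : Scheme.{u}} (h : U ⟶ V)
    [LocallyOfFiniteType h] (v : V) (z : h.fiber v) :
    h.QuasiFiniteAt (h.fiberι v z) ↔ IsOpen ({z} : Set (h.fiber v)) := by
  rw [Groth.Agent.Lib.lead.QFCodim.quasiFiniteAt_iff_exists_open, fiberι_apply_eq,
    (h.fiberι v).isEmbedding.isOpen_iff]
  constructor
  · rintro ⟨O, hO, hOe⟩
    refine ⟨O, hO, ?_⟩
    ext z'
    simp only [Set.mem_preimage, Set.mem_singleton_iff]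
    constructor
    · intro hz'
      have : h.fiberι v z' ∈ O ∩ h ⁻¹' {v} := ⟨hz', fiberι_apply_eq h v z'⟩
      rw [hOe] at this
      exact (h.fiberι v).isEmbedding.injective this
    · rintro rfl
      have : h.fiberι v z' ∈ O ∩ h ⁻¹' {v} := by rw [hOe]; rfl
      exact this.1
  · rintro ⟨O, hO, hOe⟩
    refine ⟨O, hO, ?_⟩
    ext u
    simp only [Set.mem_inter_iff, Set.mem_preimage, Set.mem_singleton_iff]
    constructor
    · rintro ⟨hu, huv⟩
      have : u ∈ Set.range (h.fiberι v) := by rw [h.range_fiberι]; exact huv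
      obtain ⟨z', rfl⟩ := this
      have : z' ∈ (h.fiberι v) ⁻¹' O := hu
      rw [hOe] at this
      rw [this]
    · rintro rfl
      refine ⟨?_, fiberι_apply_eq h v z⟩
      have : z ∈ (h.fiberι v) ⁻¹' O := by rw [hOe]; rfl
      exact this

section chart
variable {X Y : Sp S} (f : X ⟶ Y) {U V : Over S} (a : (yon S).obj U ⟶ X)
  (b : (yon S).obj V ⟶ Y) (h : U ⟶ V) (w : a ≫ f = (yon S).map h ≫ b)
  (ha : RepWith @Etale a) (hb : RepWith @Etale b) [LocallyOfFiniteType h.left]

/-- The point of `X` under a point of a fibre of the chart. -/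
noncomputable def pt (v : ↥V.left) (z : h.left.fiber v) : Points X :=
  Points.ofPt a (h.left.fiberι v z)

theorem continuous_pt (v : ↥V.left) : Continuous (pt a h v) :=
  (Points.continuous_ofPt a).comp (h.left.fiberι v).continuous

include w in
theorem map_pt (v : ↥V.left) (z : h.left.fiber v) :
    Points.map f (pt a h v z) = Points.ofPt b v := by
  unfold pt
  rw [← ofPt_map_of_comm f a b h w, fiberι_apply_eq]

include w ha hb in
/-- No proper specializations between points of a fibre of the chart over the same point. -/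
theorem eq_of_specializes_fiber (v : ↥V.left) (z z' : h.left.fiber v) (hs : z' ⤳ z)
    (he : pt a h v z' = pt a h v z) : z' = z := by
  by_contra hne
  have hG : Groth.Agent.Lib.lead.FibreOrder.G h.left (h.left.fiberι v z') =
      Groth.Agent.Lib.lead.FibreOrder.G h.left (h.left.fiberι v z) :=
    Groth.Agent.Lib.lead.RelDimFormulaSp.G_eq_of_charts f a b h a b h ha hb ha hb w w _ _ he
  rw [← Groth.Agent.Lib.lead.FibreOrder.coheight_fiber,
    ← Groth.Agent.Lib.lead.FibreOrder.coheight_fiber] at hG
  have hle : z ≤ z' := hs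
  have hlt : z < z' := by
    refine lt_of_le_not_ge hle ?_
    intro h'
    have h2 : z ⤳ z' := h'
    exact hne (hs.antisymm h2).eq
  have h1 := Order.coheight_add_one_le hlt
  obtain ⟨n, hn⟩ := Groth.Agent.Lib.lead.FibreDimFormula.exists_nat_G h.left (h.left.fiberι v z)
  rw [← Groth.Agent.Lib.lead.FibreOrder.coheight_fiber] at hn
  rw [hG, hn] at h1
  have : ((n + 1 : ℕ) : ℕ∞) ≤ n := by exact_mod_cast h1
  have : n + 1 ≤ n := by exact_mod_cast this
  omega

include w ha hb in
/-- Key lemma: an open subset of a fibre on which specializations do not change the point of `X`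
consists of open points. -/
theorem isOpen_singleton_of_open_fiber (v : ↥V.left) (P : (h.left.fiber v).Opens)
    (hP : ∀ z ∈ P, ∀ z' ∈ P, z' ⤳ z → pt a h v z' = pt a h v z) (z : h.left.fiber v)
    (hz : z ∈ P) : IsOpen ({z} : Set (h.left.fiber v)) := by
  have : LocallyOfFiniteType (h.left.fiberToSpecResidueField v) :=
    MorphismProperty.pullback_snd (P := @LocallyOfFiniteType) _ _ inferInstance
  haveI : IsLocallyNoetherian (h.left.fiber v) :=
    LocallyOfFiniteType.isLocallyNoetherian (h.left.fiberToSpecResidueField v)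
  refine isOpen_singleton_of_open_no_spec _ P ?_ z hz
  intro z₁ hz₁ z₂ hz₂ hs
  exact eq_of_specializes_fiber f a b h w ha hb v z₁ z₂ hs (hP z₁ hz₁ z₂ hz₂ hs)

end chart

end Groth.Agent.Lib.Helper3.FibCond
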