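import Mathlib
import Groth.Agent.Lib.Helper3.FibCond2
set_option autoImplicit false
universe u
open CategoryTheory CategoryTheory.Limits AlgebraicGeometry TopologicalSpace

namespace Groth.Agent.Lib.Helper3.FibCond

open AlgSp Groth.Agent.Lib.Helper3 Groth.Agent.Lib.lead.QFCodimSp

variable {S : Scheme.{u}}

/-- The fibres of etale charts over `x` are finite in affine opens. -/
def FinFib {X : Sp S} (x : Points X) : Prop :=
  ∀ (V : Over S) (b : (yon S).obj V ⟶ X), IsAffine V.left → RepWith @Etale b →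
    (Points.ofPt b ⁻¹' {x}).Finite

theorem finFib_of_isDecent {X : Sp S} (hd : IsDecent X) (x : Points X) : FinFib x := by
  intro V b hV hb
  obtain ⟨p, rfl, -, hq⟩ := hd x
  have : CompactSpace ↥V.left := inferInstance
  exact finite_fibre_of_qc_point p hq b hb

theorem finite_inter_fibre {X : Sp S} (x : Points X) (hx : FinFib x)
    {U : Over S} (a : (yon S).obj U ⟶ X) (ha : RepWith @Etale a) (W₀ : U.left.Opens)
    (hW₀ : IsAffineOpen W₀) : ((W₀ : Set ↥U.left) ∩ Points.ofPt a ⁻¹' {x}).Finite := by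
  have haff : IsAffine (Over.mk (W₀.ι ≫ U.hom)).left := hW₀
  have hfin := hx _ (chartRestrict a W₀) haff (chartRestrict_etale a ha W₀)
  refine (hfin.image (fun w : ↥(Over.mk (W₀.ι ≫ U.hom)).left => (W₀.ι w : ↥U.left))).subset ?_
  rintro u ⟨huW, hu⟩
  refine ⟨(⟨u, huW⟩ : ↥W₀), ?_, rfl⟩
  show Points.ofPt (chartRestrict a W₀) _ = x
  rw [ofPt_chartRestrict]
  exact hu

/-- Over a point with finite fibres in affine charts, the fibre of an etale chart is discrete. -/
theorem exists_open_inter_eq_singleton {Y : Sp S} (y : Points Y) (hy : FinFib y)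
    {V : Over S} (b : (yon S).obj V ⟶ Y) (hb : RepWith @Etale b) (v : ↥V.left)
    (hv : Points.ofPt b v = y) :
    ∃ N : Set ↥V.left, IsOpen N ∧ v ∈ N ∧ ∀ v' ∈ N, Points.ofPt b v' = y → v' = v := by
  classical
  obtain ⟨W₀, hW₀, hvW⟩ : ∃ W₀ : V.left.Opens, IsAffineOpen W₀ ∧ v ∈ W₀ := by
    obtain ⟨_, ⟨W, hW, rfl⟩, huW, -⟩ := (V.left.isBasis_affineOpens).exists_subset_of_mem_open
      (Set.mem_univ v) isOpen_univ
    exact ⟨W, hW, huW⟩
  have hfin := finite_inter_fibre y hy b hb W₀ hW₀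
  set Φ : Set ↥V.left := ((W₀ : Set ↥V.left) ∩ Points.ofPt b ⁻¹' {y}) \ {v} with hΦ
  have hΦfin : Φ.Finite := hfin.subset Set.diff_subset
  have hvΦ : v ∉ closure Φ := by
    intro hcl
    obtain ⟨w', hw', hs⟩ := exists_specializes_of_mem_closure_finite hΦfin hcl
    have := eq_of_specializes_of_finite_fibres y hy b hb v w' hv hw'.1.2 hs
    exact hw'.2 this.symm
  refine ⟨(W₀ : Set ↥V.left) ∩ (closure Φ)ᶜ, W₀.2.inter isClosed_closure.isOpen_compl,
    ⟨hvW, hvΦ⟩, ?_⟩
  rintro v' ⟨hv'W, hv'Φ⟩ hv'y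
  by_contra hne
  exact hv'Φ (subset_closure ⟨⟨hv'W, hv'y⟩, hne⟩)

section chart
variable {X Y : Sp S} (f : X ⟶ Y) {U V : Over S} (a : (yon S).obj U ⟶ X)
  (b : (yon S).obj V ⟶ Y) (h : U ⟶ V) (w : a ≫ f = (yon S).map h ≫ b)
  (ha : RepWith @Etale a) (hb : RepWith @Etale b) [LocallyOfFiniteType h.left]
include w ha hb

/-- (2) ⇒ open point of the chart fibre. -/
theorem isOpen_singleton_fiber_of_isolated (v : ↥V.left) (z : h.left.fiber v)
    (O' : Set (Points X)) (hO' : IsOpen O') (hzO : pt a h v z ∈ O')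
    (hiso : ∀ x' ∈ O', Points.map f x' = Points.ofPt b v → x' = pt a h v z) :
    IsOpen ({z} : Set (h.left.fiber v)) := by
  let P : (h.left.fiber v).Opens := ⟨pt a h v ⁻¹' O', hO'.preimage (continuous_pt a h v)⟩
  refine isOpen_singleton_of_open_fiber f a b h w ha hb v P ?_ z hzO
  intro z₁ hz₁ z₂ hz₂ _
  rw [hiso _ hz₁ (map_pt f a b h w v z₁), hiso _ hz₂ (map_pt f a b h w v z₂)]

/-- open point of the chart fibre ⇒ (2), when the fibre of the target chart is discrete. -/
theorem exists_isolating_open_of_isOpen_singleton_fiber (v : ↥V.left) (z : h.left.fiber v)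
    (hz : IsOpen ({z} : Set (h.left.fiber v)))
    (N : Set ↥V.left) (hN : IsOpen N) (hvN : v ∈ N)
    (hNiso : ∀ v' ∈ N, Points.ofPt b v' = Points.ofPt b v → v' = v) :
    ∃ O' : Set (Points X), IsOpen O' ∧ pt a h v z ∈ O' ∧
      ∀ x' ∈ O', Points.map f x' = Points.ofPt b v → x' = pt a h v z := by
  rw [(h.left.fiberι v).isEmbedding.isOpen_iff] at hz
  obtain ⟨O, hO, hOe⟩ := hz
  have hzO : h.left.fiberι v z ∈ O := by
    have : z ∈ (h.left.fiberι v) ⁻¹' O := by rw [hOe]; rfl
    exact this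
  refine ⟨Points.ofPt a '' (O ∩ h.left ⁻¹' N),
    isOpenMap_ofPt a ha _ (hO.inter (hN.preimage h.left.continuous)),
    ⟨_, ⟨hzO, by show h.left _ ∈ N; rw [fiberι_apply_eq]; exact hvN⟩, rfl⟩, ?_⟩
  rintro x' ⟨u', ⟨hu'O, hu'N⟩, rfl⟩ hx'
  rw [← ofPt_map_of_comm f a b h w] at hx'
  have hv' : h.left u' = v := hNiso _ hu'N hx'
  have : u' ∈ Set.range (h.left.fiberι v) := by rw [h.left.range_fiberι]; exact hv'
  obtain ⟨z', rfl⟩ := this
  have : z' ∈ (h.left.fiberι v) ⁻¹' O := hu'O
  rw [hOe] at this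
  rw [this]
  rfl

/-- (3) ⇒ open point of the chart fibre. -/
theorem isOpen_singleton_fiber_of_closed_of_no_gen (v : ↥V.left) (z : h.left.fiber v)
    (C : Set (Points X)) (hC : IsClosed C) (hzC : pt a h v z ∈ C)
    (hCiso : ∀ x' ∈ C, Points.map f x' = Points.ofPt b v → x' = pt a h v z)
    (hgen : ∀ x', Points.map f x' = Points.ofPt b v → x' ⤳ pt a h v z → x' = pt a h v z) :
    IsOpen ({z} : Set (h.left.fiber v)) := by
  have : LocallyOfFiniteType (h.left.fiberToSpecResidueField v) :=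
    MorphismProperty.pullback_snd (P := @LocallyOfFiniteType) _ _ inferInstance
  haveI : IsLocallyNoetherian (h.left.fiber v) :=
    LocallyOfFiniteType.isLocallyNoetherian (h.left.fiberToSpecResidueField v)
  refine isOpen_singleton_of_isClosed_of_mem_maxPts _ z ?_ ?_
  · rw [← closure_eq_iff_isClosed]
    apply Set.Subset.antisymm _ subset_closure
    intro z₁ hz₁
    have hcl : IsClosed (pt a h v ⁻¹' C) := hC.preimage (continuous_pt a h v)
    have hz₁C : z₁ ∈ pt a h v ⁻¹' C :=
      (hcl.closure_subset_iff.2 (Set.singleton_subset_iff.2 hzC)) hz₁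
    have hs : z ⤳ z₁ := specializes_iff_mem_closure.2 hz₁
    have he : pt a h v z = pt a h v z₁ := (hCiso _ hz₁C (map_pt f a b h w v z₁)).symm
    exact (eq_of_specializes_fiber f a b h w ha hb v z₁ z hs he).symm
  · intro z' hz'
    have h1 : pt a h v z' ⤳ pt a h v z := hz'.map (continuous_pt a h v)
    have he := hgen _ (map_pt f a b h w v z') h1
    exact eq_of_specializes_fiber f a b h w ha hb v z z' hz' he

/-- If all chart points over `x` are open in their fibres and the fibre of the target chart is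
discrete at `v`, then a point of the fibre whose image is a specialization of `x` lies over `x`. -/
theorem pt_eq_of_specializes (v : ↥V.left) (z₁ : h.left.fiber v) (x : Points X)
    (hx : Points.map f x = Points.ofPt b v)
    (hq : ∀ z : h.left.fiber v, pt a h v z = x → IsOpen ({z} : Set (h.left.fiber v)))
    (N : Set ↥V.left) (hN : IsOpen N) (hvN : v ∈ N)
    (hNiso : ∀ v' ∈ N, Points.ofPt b v' = Points.ofPt b v → v' = v)
    (hs : x ⤳ pt a h v z₁) : pt a h v z₁ = x := by
  have : LocallyOfFiniteType (h.left.fiberToSpecResidueField v) :=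
    MorphismProperty.pullback_snd (P := @LocallyOfFiniteType) _ _ inferInstance
  haveI : IsLocallyNoetherian (h.left.fiber v) :=
    LocallyOfFiniteType.isLocallyNoetherian (h.left.fiberToSpecResidueField v)
  have hcl : IsClosed {z : h.left.fiber v | pt a h v z = x} :=
    isClosed_of_forall_isOpen_singleton _ _ hq
  have hmem : z₁ ∈ closure {z : h.left.fiber v | pt a h v z = x} := by
    rw [mem_closure_iff]
    intro M' hM' hz₁M
    rw [(h.left.fiberι v).isEmbedding.isOpen_iff] at hM'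
    obtain ⟨M, hM, rfl⟩ := hM'
    have ho : IsOpen (Points.ofPt a '' (M ∩ h.left ⁻¹' N)) :=
      isOpenMap_ofPt a ha _ (hM.inter (hN.preimage h.left.continuous))
    have h1 : pt a h v z₁ ∈ Points.ofPt a '' (M ∩ h.left ⁻¹' N) :=
      ⟨_, ⟨hz₁M, by show h.left _ ∈ N; rw [fiberι_apply_eq]; exact hvN⟩, rfl⟩
    obtain ⟨u', ⟨hu'M, hu'N⟩, hu'x⟩ := hs.mem_open ho h1
    have hx' : Points.ofPt b (h.left u') = Points.ofPt b v := by
      rw [ofPt_map_of_comm f a b h w, hu'x, hx]
    have hv' : h.left u' = v := hNiso _ hu'N hx'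
    have : u' ∈ Set.range (h.left.fiberι v) := by rw [h.left.range_fiberι]; exact hv'
    obtain ⟨z', rfl⟩ := this
    exact ⟨z', hu'M, hu'x⟩
  rw [hcl.closure_eq] at hmem
  exact hmem

end chart

end Groth.Agent.Lib.Helper3.FibCond
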