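import Mathlib
import Groth.Agent.Lib.Helper3.FibCond3
set_option autoImplicit false
universe u
open CategoryTheory CategoryTheory.Limits AlgebraicGeometry TopologicalSpace

namespace Groth.Agent.Lib.Helper3.FibCond

open AlgSp Groth.Agent.Lib.Helper3 Groth.Agent.Lib.lead.QFCodimSp

variable {S : Scheme.{u}}

theorem qfq_iff_isOpen_fiber {X Y : Sp S} (f : X ⟶ Y) {U V : Over S} (a : (yon S).obj U ⟶ X)
    (b : (yon S).obj V ⟶ Y) (h : U ⟶ V) (w : a ≫ f = (yon S).map h ≫ b)
    (ha : RepWith @Etale a) (hb : RepWith @Etale b) [LocallyOfFiniteType h.left]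
    (v : ↥V.left) (z : h.left.fiber v) :
    HasAtMor QFQ f (pt a h v z) ↔ IsOpen ({z} : Set (h.left.fiber v)) := by
  rw [← quasiFiniteAt_iff_isOpen_singleton_fiber]
  constructor
  · rintro ⟨U₁, V₁, a₁, b₁, h₁, u₁, ha₁, hb₁, w₁, hu₁, hq⟩
    have hq' := quasiFiniteAt_of_QFQ h₁.left u₁ hq
    exact quasiFiniteAt_of_charts f a b h a₁ b₁ h₁ ha hb ha₁ hb₁ w w₁ _ u₁ hu₁.symm hq'
  · intro hq
    exact ⟨U, V, a, b, h, _, ha, hb, w, rfl, QFQ_of_quasiFiniteAt h.left _ hq⟩

section space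
variable {X Y : Sp S} (hX : IsAlgSpace X) (hY : IsAlgSpace Y) (f : X ⟶ Y)
  (hf : LocP @LocallyOfFiniteType f)
include hX hY hf

theorem exists_chart_fiber_point (x : Points X) :
    ∃ (U V : Over S) (a : (yon S).obj U ⟶ X) (b : (yon S).obj V ⟶ Y) (h : U ⟶ V)
      (_ : LocallyOfFiniteType h.left) (v : ↥V.left) (z : h.left.fiber v),
      RepWith @Etale a ∧ RepWith @Etale b ∧ a ≫ f = (yon S).map h ≫ b ∧
        Points.ofPt b v = Points.map f x ∧ pt a h v z = x := by
  obtain ⟨V, bV, hbe, hbs⟩ := hY.atlas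
  obtain ⟨U, c, h, hce, -, hae, has, hh, hk⟩ := exists_chart_over hX hY f bV hbe
  obtain ⟨u, hu⟩ := exists_ofPt_eq _ (has hbs) x
  have hl : LocallyOfFiniteType h.left := hf _ bV h hae hbe hk
  refine ⟨U, V, _, bV, h, hl, h.left u, h.left.asFiber u, hae, hbe, hk, ?_, ?_⟩
  · rw [ofPt_map_of_comm f _ bV h hk u, hu]
  · unfold pt
    rw [Scheme.Hom.fiberι_asFiber]
    exact hu

variable (y : Points Y) (hyfin : FinFib y) (x : Points X) (hx : x ∈ Points.map f ⁻¹' {y})

include hyfin in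
theorem isOpen_fibre_iff_qfq :
    IsOpen ({⟨x, hx⟩} : Set ↥(Points.map f ⁻¹' {y})) ↔ HasAtMor QFQ f x := by
  obtain ⟨U, V, a, b, h, hl, v, z, ha, hb, w, hv, hz⟩ := exists_chart_fiber_point hX hY f hf x
  have hxy : Points.map f x = y := hx
  rw [hxy] at hv
  subst hz
  rw [qfq_iff_isOpen_fiber f a b h w ha hb v z]
  constructor
  · intro ho
    rw [isOpen_induced_iff] at ho
    obtain ⟨O', hO', hOe⟩ := ho
    have hzO : pt a h v z ∈ O' := by
      have : (⟨pt a h v z, hx⟩ : ↥(Points.map f ⁻¹' {y})) ∈ Subtype.val ⁻¹' O' := by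
        rw [hOe]; rfl
      exact this
    refine isOpen_singleton_fiber_of_isolated f a b h w ha hb v z O' hO' hzO ?_
    intro x' hx'O hx'
    rw [hv] at hx'
    have : (⟨x', hx'⟩ : ↥(Points.map f ⁻¹' {y})) ∈ Subtype.val ⁻¹' O' := hx'O
    rw [hOe] at this
    exact congrArg Subtype.val this
  · intro ho
    obtain ⟨N, hN, hvN, hNiso⟩ := exists_open_inter_eq_singleton y hyfin b hb v hv
    obtain ⟨O', hO', hzO, hiso⟩ :=
      exists_isolating_open_of_isOpen_singleton_fiber f a b h w ha hb v z ho N hN hvN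
        (fun v' hv' he => hNiso v' hv' (he.trans hv))
    rw [isOpen_induced_iff]
    refine ⟨O', hO', ?_⟩
    ext ⟨x', hx'⟩
    simp only [Set.mem_preimage, Set.mem_singleton_iff, Subtype.mk.injEq]
    constructor
    · intro hx'O
      exact hiso x' hx'O ((show Points.map f x' = y from hx').trans hv.symm)
    · rintro rfl
      exact hzO

include hyfin in
theorem closed_nogen_fibre_iff_qfq :
    (IsClosed ({⟨x, hx⟩} : Set ↥(Points.map f ⁻¹' {y})) ∧
      ∀ x' : ↥(Points.map f ⁻¹' {y}), x' ⤳ ⟨x, hx⟩ → x' = ⟨x, hx⟩) ↔ HasAtMor QFQ f x := by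
  constructor
  · rintro ⟨hcl, hgen⟩
    obtain ⟨U, V, a, b, h, hl, v, z, ha, hb, w, hv, hz⟩ := exists_chart_fiber_point hX hY f hf x
    have hxy : Points.map f x = y := hx
    rw [hxy] at hv
    subst hz
    rw [qfq_iff_isOpen_fiber f a b h w ha hb v z]
    rw [isClosed_induced_iff] at hcl
    obtain ⟨C, hC, hCe⟩ := hcl
    have hzC : pt a h v z ∈ C := by
      have : (⟨pt a h v z, hx⟩ : ↥(Points.map f ⁻¹' {y})) ∈ Subtype.val ⁻¹' C := by
        rw [hCe]; rfl
      exact this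
    refine isOpen_singleton_fiber_of_closed_of_no_gen f a b h w ha hb v z C hC hzC ?_ ?_
    · intro x' hx'C hx'
      rw [hv] at hx'
      have : (⟨x', hx'⟩ : ↥(Points.map f ⁻¹' {y})) ∈ Subtype.val ⁻¹' C := hx'C
      rw [hCe] at this
      exact congrArg Subtype.val this
    · intro x' hx' hs
      rw [hv] at hx'
      have h1 : (⟨x', hx'⟩ : ↥(Points.map f ⁻¹' {y})) ⤳ ⟨pt a h v z, hx⟩ :=
        Topology.IsInducing.subtypeVal.specializes_iff.mp hs
      exact congrArg Subtype.val (hgen _ h1)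
  · intro hq
    have ho := (isOpen_fibre_iff_qfq hX hY f hf y hyfin x hx).2 hq
    refine ⟨?_, fun x' hx' => hx'.mem_open ho rfl⟩
    rw [← closure_eq_iff_isClosed]
    apply Set.Subset.antisymm _ subset_closure
    rintro ⟨x₁, hx₁⟩ hmem
    have hs : (⟨x, hx⟩ : ↥(Points.map f ⁻¹' {y})) ⤳ ⟨x₁, hx₁⟩ :=
      specializes_iff_mem_closure.2 hmem
    have hs' : x ⤳ x₁ := Topology.IsInducing.subtypeVal.specializes_iff.mpr hs
    obtain ⟨U, V, a, b, h, hl, v, z₁, ha, hb, w, hv, hz⟩ :=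
      exists_chart_fiber_point hX hY f hf x₁
    have hx₁y : Points.map f x₁ = y := hx₁
    rw [hx₁y] at hv
    subst hz
    obtain ⟨N, hN, hvN, hNiso⟩ := exists_open_inter_eq_singleton y hyfin b hb v hv
    have := pt_eq_of_specializes f a b h w ha hb v z₁ x ((show Points.map f x = y from hx).trans
      hv.symm) ?_ N hN hvN (fun v' hv' he => hNiso v' hv' (he.trans hv)) hs'
    · exact Subtype.ext this
    · intro z hz
      rw [← qfq_iff_isOpen_fiber f a b h w ha hb v z, hz]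
      exact hq

end space

end Groth.Agent.Lib.Helper3.FibCond
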