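import Mathlib
import Groth.Agent.Lib.Helper3.FibCond4
set_option autoImplicit false
universe u
open CategoryTheory CategoryTheory.Limits AlgebraicGeometry TopologicalSpace

namespace Groth.Agent.Lib.Helper3.FibCond

open AlgSp Groth.Agent.Lib.Helper3 Groth.Agent.Lib.lead.QFCodimSp

variable {S : Scheme.{u}}

section space
variable {X Y : Sp S} (hX : IsAlgSpace X) (hY : IsAlgSpace Y) (f : X ⟶ Y)
  (hf : LocP @LocallyOfFiniteType f)
  (y : Points Y) (x : Points X) (hx : x ∈ Points.map f ⁻¹' {y})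
include hX hY hf

/-- (1) ⇒ (8) when `|X|` is `T0`. -/
theorem qfq_of_localDim_fibre_zero [T0Space (Points X)]
    (h0 : FlatMor.localDim ↥(Points.map f ⁻¹' {y}) ⟨x, hx⟩ = 0) : HasAtMor QFQ f x := by
  have hex : ∃ O : {U : Opens ↥(Points.map f ⁻¹' {y}) // (⟨x, hx⟩ : ↥(Points.map f ⁻¹' {y})) ∈ U},
      topologicalKrullDim (O.1 : Set ↥(Points.map f ⁻¹' {y})) ≤ 0 := by
    by_contra hcon
    push Not at hcon
    have h1 : (1 : WithBot ℕ∞) ≤ FlatMor.localDim ↥(Points.map f ⁻¹' {y}) ⟨x, hx⟩ :=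
      le_iInf fun O => Groth.Agent.Lib.lead.QFRelDim.one_le_of_pos _ (hcon O)
    rw [h0] at h1
    exact absurd h1 (by decide)
  obtain ⟨⟨O, hxO⟩, hdim⟩ := hex
  obtain ⟨O', hO', hOe⟩ := isOpen_induced_iff.1 O.2
  obtain ⟨U, V, a, b, h, hl, v, z, ha, hb, w, hv, hz⟩ := exists_chart_fiber_point hX hY f hf x
  have hxy : Points.map f x = y := hx
  rw [hxy] at hv
  subst hz
  rw [qfq_iff_isOpen_fiber f a b h w ha hb v z]
  let P : (h.left.fiber v).Opens := ⟨pt a h v ⁻¹' O', hO'.preimage (continuous_pt a h v)⟩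
  have hmemO : ∀ z' : h.left.fiber v, z' ∈ P →
      ∃ hz' : pt a h v z' ∈ Points.map f ⁻¹' {y},
        (⟨pt a h v z', hz'⟩ : ↥(Points.map f ⁻¹' {y})) ∈ (O : Set ↥(Points.map f ⁻¹' {y})) := by
    intro z' hz'
    have h1 : pt a h v z' ∈ Points.map f ⁻¹' {y} := (map_pt f a b h w v z').trans hv
    refine ⟨h1, ?_⟩
    have : (⟨pt a h v z', h1⟩ : ↥(Points.map f ⁻¹' {y})) ∈ Subtype.val ⁻¹' O' := hz'
    rw [hOe] at this
    exact this
  have hzP : z ∈ P := by
    have : (⟨pt a h v z, hx⟩ : ↥(Points.map f ⁻¹' {y})) ∈ Subtype.val ⁻¹' O' := by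
      rw [hOe]; exact hxO
    exact this
  refine isOpen_singleton_of_open_fiber f a b h w ha hb v P ?_ z hzP
  intro z₁ hz₁ z₂ hz₂ hs
  obtain ⟨h1, h1O⟩ := hmemO z₁ hz₁
  obtain ⟨h2, h2O⟩ := hmemO z₂ hz₂
  have hs1 : pt a h v z₂ ⤳ pt a h v z₁ := hs.map (continuous_pt a h v)
  have hs2 : (⟨pt a h v z₂, h2⟩ : ↥(Points.map f ⁻¹' {y})) ⤳ ⟨pt a h v z₁, h1⟩ :=
    Topology.IsInducing.subtypeVal.specializes_iff.mp hs1
  have hs3 : (⟨⟨pt a h v z₂, h2⟩, h2O⟩ : (O : Set ↥(Points.map f ⁻¹' {y}))) ⤳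
      ⟨⟨pt a h v z₁, h1⟩, h1O⟩ :=
    Topology.IsInducing.subtypeVal.specializes_iff.mp hs2
  have := eq_of_specializes_of_topologicalKrullDim_le_zero hdim hs3
  exact congrArg (fun q : (O : Set ↥(Points.map f ⁻¹' {y})) => (q.1.1 : Points X)) this

include hx in
/-- (1') finite fibre ⇒ (8) when the points of the fibre have finite fibres in affine charts. -/
theorem qfq_of_finite_fibre (hfin : (Points.map f ⁻¹' {y}).Finite)
    (hXfin : ∀ x' ∈ Points.map f ⁻¹' {y}, FinFib x') : HasAtMor QFQ f x := by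
  obtain ⟨U, V, a, b, h, hl, v, z, ha, hb, w, hv, hz⟩ := exists_chart_fiber_point hX hY f hf x
  have hxy : Points.map f x = y := hx
  rw [hxy] at hv
  subst hz
  rw [qfq_iff_isOpen_fiber f a b h w ha hb v z]
  obtain ⟨W₀, hW₀, hzW⟩ : ∃ W₀ : U.left.Opens, IsAffineOpen W₀ ∧ h.left.fiberι v z ∈ W₀ := by
    obtain ⟨_, ⟨W, hW, rfl⟩, huW, -⟩ := (U.left.isBasis_affineOpens).exists_subset_of_mem_open
      (Set.mem_univ (h.left.fiberι v z)) isOpen_univ
    exact ⟨W, hW, huW⟩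
  let P : (h.left.fiber v).Opens := (h.left.fiberι v) ⁻¹ᵁ W₀
  have hPfin : (P : Set (h.left.fiber v)).Finite := by
    have h1 : ((W₀ : Set ↥U.left) ∩ Points.ofPt a ⁻¹' (Points.map f ⁻¹' {y})).Finite := by
      have : (W₀ : Set ↥U.left) ∩ Points.ofPt a ⁻¹' (Points.map f ⁻¹' {y}) =
          ⋃ x' ∈ Points.map f ⁻¹' {y}, ((W₀ : Set ↥U.left) ∩ Points.ofPt a ⁻¹' {x'}) := by
        ext u
        simp only [Set.mem_inter_iff, Set.mem_preimage, Set.mem_singleton_iff, Set.mem_iUnion,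
          exists_prop]
        constructor
        · rintro ⟨h1, h2⟩
          exact ⟨_, h2, h1, rfl⟩
        · rintro ⟨x', h2, h1, rfl⟩
          exact ⟨h1, h2⟩
      rw [this]
      exact hfin.biUnion fun x' hx' => finite_inter_fibre x' (hXfin x' hx') a ha W₀ hW₀
    refine Set.Finite.of_finite_image (f := h.left.fiberι v) (h1.subset ?_)
      (h.left.fiberι v).isEmbedding.injective.injOn
    rintro _ ⟨z', hz', rfl⟩
    exact ⟨hz', (map_pt f a b h w v z').trans hv⟩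
  haveI : Finite ↥(P : Set (h.left.fiber v)) := hPfin.to_subtype
  haveI : JacobsonSpace ↥(P : Set (h.left.fiber v)) :=
    JacobsonSpace.of_isOpenEmbedding P.isOpenEmbedding'
  have h1 : IsOpen ({⟨z, hzW⟩} : Set ↥(P : Set (h.left.fiber v))) := isOpen_discrete _
  have := P.isOpenEmbedding'.isOpenMap _ h1
  simpa using this

end space

end Groth.Agent.Lib.Helper3.FibCond
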