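import Mathlib
import Groth.Agent.Lib.Helper3.FibCond5
import Groth.Agent.Lib.Helper3.Collapse2
set_option autoImplicit false
universe u
open CategoryTheory CategoryTheory.Limits AlgebraicGeometry TopologicalSpace

namespace Groth.Agent.Lib.Helper3.FibCond

open AlgSp Groth.Agent.Lib.Helper3 Groth.Agent.Lib.lead.QFCodimSp

variable {S : Scheme.{u}}

section
variable {X Y Xk : Sp S} (f : X ⟶ Y) (r : FieldPt Y) (fst : Xk ⟶ X)
  (snd : Xk ⟶ (yon S).obj r.pt) (hsq : IsPullback fst snd f r.toHom)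
include hsq

theorem mem_fibre (xt : Points Xk) : Points.map fst xt ∈ Points.map f ⁻¹' {Points.mk r} := by
  show Points.map f (Points.map fst xt) = Points.mk r
  rw [← Points.map_comp, hsq.w, Points.map_comp]
  exact Collapse.map_toHom_eq r _

theorem surj_fibre (x : Points X) (hx : x ∈ Points.map f ⁻¹' {Points.mk r}) :
    ∃ xt : Points Xk, Points.map fst xt = x := by
  obtain ⟨z, hz, -⟩ := Points.exists_of_isPullback hsq x
    (Points.ofPt (𝟙 _) (IsLocalRing.closedPoint r.K)) (by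
      rw [show Points.map f x = Points.mk r from hx, Points.map_ofPt, Category.id_comp,
        Points.ofPt_toHom])
  exact ⟨z, hz⟩

end

theorem main10445 {X Y : AlgSp.Space S} (f : X ⟶ Y)
    (hf : AlgSp.LocP @LocallyOfFiniteType f.hom) (r : AlgSp.FieldPt Y.obj) (Xk : AlgSp.Space S) (fst : Xk ⟶ X)
    (snd : Xk.obj ⟶ (AlgSp.yon S).obj r.pt) (hsq : IsPullback fst.hom snd f.hom r.toHom)
    (x : AlgSp.Points X.obj) (hx : x ∈ (AlgSp.Points.map f.hom ⁻¹' {AlgSp.Points.mk r})) (xt : AlgSp.Points Xk.obj)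
    (hxt : AlgSp.Points.map fst.hom xt = x) :
    ((IsOpen ({xt} : Set (AlgSp.Points Xk.obj)) ↔
      IsClosed ({xt} : Set (AlgSp.Points Xk.obj)) ∧ ∀ x' : AlgSp.Points Xk.obj, x' ⤳ xt → x' = xt) ∧
    (IsOpen ({xt} : Set (AlgSp.Points Xk.obj)) ↔ AlgSp.HasAt (fun U u => FlatMor.localDim ↥U u = 0) Xk.obj xt) ∧
    (AlgSp.HasAt (fun U u => FlatMor.localDim ↥U u = 0) Xk.obj xt ↔ AlgSp.HasAtMor (fun U _ h u => ∃ W : U.Opens, u ∈ W ∧ LocallyQuasiFinite (W.ι ≫ h) ∧ LocallyOfFiniteType (W.ι ≫ h)) f.hom x) ∧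
    (AlgSp.IsDecent Xk.obj →
      (FlatMor.localDim (AlgSp.Points Xk.obj) xt = 0 ↔ IsOpen ({xt} : Set (AlgSp.Points Xk.obj)))) ∧
    (AlgSp.IsDecent Y.obj →
      (IsOpen ({(⟨x, hx⟩ : ↥(AlgSp.Points.map f.hom ⁻¹' {AlgSp.Points.mk r}))} : Set ↥(AlgSp.Points.map f.hom ⁻¹' {AlgSp.Points.mk r})) ↔ IsOpen ({xt} : Set (AlgSp.Points Xk.obj))) ∧
      ((IsClosed ({(⟨x, hx⟩ : ↥(AlgSp.Points.map f.hom ⁻¹' {AlgSp.Points.mk r}))} : Set ↥(AlgSp.Points.map f.hom ⁻¹' {AlgSp.Points.mk r})) ∧ ∀ x' : ↥(AlgSp.Points.map f.hom ⁻¹' {AlgSp.Points.mk r}), x' ⤳ (⟨x, hx⟩ : ↥(AlgSp.Points.map f.hom ⁻¹' {AlgSp.Points.mk r})) → x' = (⟨x, hx⟩ : ↥(AlgSp.Points.map f.hom ⁻¹' {AlgSp.Points.mk r}))) ↔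
        IsClosed ({xt} : Set (AlgSp.Points Xk.obj)) ∧ ∀ x' : AlgSp.Points Xk.obj, x' ⤳ xt → x' = xt)) ∧
    (AlgSp.IsDecent Y.obj → AlgSp.IsDecent X.obj →
      (FlatMor.localDim ↥(AlgSp.Points.map f.hom ⁻¹' {AlgSp.Points.mk r}) (⟨x, hx⟩ : ↥(AlgSp.Points.map f.hom ⁻¹' {AlgSp.Points.mk r})) = 0 ↔ IsOpen ({(⟨x, hx⟩ : ↥(AlgSp.Points.map f.hom ⁻¹' {AlgSp.Points.mk r}))} : Set ↥(AlgSp.Points.map f.hom ⁻¹' {AlgSp.Points.mk r}))))) := by
  have hN := hN_fibre X.property Y.property Xk.property f.hom hf r fst.hom snd hsq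
  have hJ := hJ_fibre X.property Y.property Xk.property f.hom hf r fst.hom snd hsq
  obtain ⟨hA, hB, hD⟩ := pointwise hN hJ Xk.property xt
  have hC := hasAt_localDim_iff_QFQ X.property Y.property Xk.property f.hom hf r fst.hom snd hsq xt
  rw [hxt] at hC
  refine ⟨hA, hB, hC, hD, ?_, ?_⟩
  · intro hYd
    have hyfin := finFib_of_isDecent hYd (Points.mk r)
    have h1 := isOpen_fibre_iff_qfq X.property Y.property f.hom hf _ hyfin x hx
    have h2 := closed_nogen_fibre_iff_qfq X.property Y.property f.hom hf _ hyfin x hx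
    exact ⟨h1.trans (hC.symm.trans hB.symm), h2.trans (hC.symm.trans (hB.symm.trans hA))⟩
  · intro hYd hXd
    have hyfin := finFib_of_isDecent hYd (Points.mk r)
    haveI : T0Space (Points X.obj) := Groth.Agent.S10338.result X hXd
    have h1 := isOpen_fibre_iff_qfq X.property Y.property f.hom hf _ hyfin x hx
    exact ⟨fun h0 => h1.2 (qfq_of_localDim_fibre_zero X.property Y.property f.hom hf _ x hx h0),
      fun ho => Groth.Agent.Lib.lead.QFRelDim.localDim_eq_zero_of_isOpen_singleton _ _ ho⟩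

end Groth.Agent.Lib.Helper3.FibCond
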