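import Groth.Agent.Lib.Helper3.PropQF
import Groth.Agent.Lib.lead.FlatDenseDimSp
import Groth.Agent.Lib.lead.QFRelDim

set_option autoImplicit false
universe u

namespace Groth.Agent.Lib.Helper3.FlatPropFin

open CategoryTheory CategoryTheory.Limits AlgebraicGeometry Opposite AlgSp
open Groth.Agent.Lib.Helper3

variable {S : Scheme.{u}}

theorem localDim_nonneg (T : Type*) [TopologicalSpace T] (t : T) : 0 ≤ FlatMor.localDim T t := by
  refine le_iInf fun O => ?_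
  haveI : Nonempty ↥(O.1 : Set T) := ⟨⟨t, O.2⟩⟩
  exact Groth.Agent.Lib.lead.QFRelDim.topologicalKrullDim_nonneg_of_nonempty _

theorem main10654 {X Y V : AlgSp.Space S} (f : X ⟶ Y) (j : V ⟶ Y)
    (hf1 : AlgSp.LocP @Flat f.hom) (hf2 : AlgSp.IsProperMor f.hom)
    (hj1 : AlgSp.RepWith @IsOpenImmersion j.hom) (hj2 : Dense (Set.range (AlgSp.Points.map j.hom)))
    (P : AlgSp.Space S) (fst : P ⟶ X) (snd : P ⟶ V) (hP : IsPullback fst.hom snd.hom f.hom j.hom)
    (hV : AlgSp.IsFiniteMor snd.hom)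
    (h : AlgSp.LocP @LocallyOfFinitePresentation f.hom ∨ AlgSp.IsQuasiCompactMor j.hom) :
    AlgSp.IsFiniteMor f.hom := by
  have hlft : LocP @LocallyOfFiniteType f.hom := hf2.2.1.1
  obtain ⟨hsp, hsq⟩ := PropQF.proper_lqf_of_isFiniteMor snd.hom hV
  have hsl : LocP @LocallyOfFiniteType snd.hom := hsp.2.1.1
  have hV' : ∀ x, AlgSp.HasAtMor (fun _ _ h u => FlatMor.fibreDimAt h u ≤ ((0 : ℕ) : WithBot ℕ∞))
      snd.hom x := by
    intro x
    obtain ⟨U, V', a, b, h', u, hae, hbe, e, hu, hq⟩ :=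
      ((Groth.Agent.Lib.lead.QFRelDim.main snd hsl).1 hsq) x
    refine ⟨U, V', a, b, h', u, hae, hbe, e, hu, ?_⟩
    change FlatMor.fibreDimAt h'.left u ≤ ((0 : ℕ) : WithBot ℕ∞)
    rw [hq]
    simp
  have h0 := Groth.Agent.Lib.lead.FlatDenseDimSp.S10653 f j 0 hf1 hlft hj1 hj2 P fst snd hP hV' h
  have hq : LocP (@LocallyQuasiFinite ⊓ @LocallyOfFiniteType) f.hom := by
    refine (Groth.Agent.Lib.lead.QFRelDim.main f hlft).2 (fun x => ?_)
    obtain ⟨U, V', a, b, h', u, hae, hbe, e, hu, hq⟩ := h0 x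
    refine ⟨U, V', a, b, h', u, hae, hbe, e, hu, ?_⟩
    change FlatMor.fibreDimAt h'.left u = 0
    have h1 : FlatMor.fibreDimAt h'.left u ≤ ((0 : ℕ) : WithBot ℕ∞) := hq
    have h2 : FlatMor.fibreDimAt h'.left u ≤ 0 := by simpa using h1
    exact le_antisymm h2 (localDim_nonneg _ _)
  exact PropQF.isFiniteMor_of_proper_lqf X.property Y.property f.hom hf2.1 hf2.2.1.2 hf2.2.2 hq

end Groth.Agent.Lib.Helper3.FlatPropFin
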