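import Mathlib
import Groth.Agent.Lib.Helper3.FibCond6
import Groth.Agent.Lib.Helper3.FlatPropFin
set_option autoImplicit false
universe u
open CategoryTheory CategoryTheory.Limits AlgebraicGeometry TopologicalSpace

namespace Groth.Agent.Lib.Helper3.FibCond

open AlgSp Groth.Agent.Lib.Helper3 Groth.Agent.Lib.lead.QFCodimSp

variable {S : Scheme.{u}}

theorem main10444 {X Y : AlgSp.Space S} (f : X ⟶ Y)
    (hf : AlgSp.LocP @LocallyOfFiniteType f.hom) (r : AlgSp.FieldPt Y.obj)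
    (hy : AlgSp.Points.mk r ∈ Set.range (AlgSp.Points.map f.hom)) (Xk : AlgSp.Space S) (fst : Xk ⟶ X)
    (snd : Xk.obj ⟶ (AlgSp.yon S).obj r.pt) (hsq : IsPullback fst.hom snd f.hom r.toHom) :
    (DiscreteTopology (AlgSp.Points Xk.obj) ↔ AlgSp.dim Xk.obj = 0) ∧
    (AlgSp.dim Xk.obj = 0 ↔
      ∀ x : AlgSp.Points X.obj, AlgSp.Points.map f.hom x = AlgSp.Points.mk r → AlgSp.HasAtMor (fun U _ h u => ∃ W : U.Opens, u ∈ W ∧ LocallyQuasiFinite (W.ι ≫ h) ∧ LocallyOfFiniteType (W.ι ≫ h)) f.hom x) ∧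
    (DiscreteTopology (AlgSp.Points Xk.obj) → topologicalKrullDim (AlgSp.Points Xk.obj) = 0) ∧
    (AlgSp.IsDecent Xk.obj → topologicalKrullDim (AlgSp.Points Xk.obj) = 0 →
      DiscreteTopology (AlgSp.Points Xk.obj)) ∧
    (AlgSp.IsDecent Xk.obj → Finite (AlgSp.Points Xk.obj) → DiscreteTopology (AlgSp.Points Xk.obj)) ∧
    (Finite (AlgSp.Points Xk.obj) → (AlgSp.Points.map f.hom ⁻¹' {AlgSp.Points.mk r}).Finite) ∧
    (DiscreteTopology ↥(AlgSp.Points.map f.hom ⁻¹' {AlgSp.Points.mk r}) → topologicalKrullDim ↥(AlgSp.Points.map f.hom ⁻¹' {AlgSp.Points.mk r}) = 0) ∧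
    (AlgSp.IsDecent Y.obj → (DiscreteTopology ↥(AlgSp.Points.map f.hom ⁻¹' {AlgSp.Points.mk r}) ↔ DiscreteTopology (AlgSp.Points Xk.obj))) ∧
    (AlgSp.IsDecent Y.obj → AlgSp.IsDecent X.obj →
      (topologicalKrullDim ↥(AlgSp.Points.map f.hom ⁻¹' {AlgSp.Points.mk r}) = 0 → DiscreteTopology ↥(AlgSp.Points.map f.hom ⁻¹' {AlgSp.Points.mk r})) ∧
        ((AlgSp.Points.map f.hom ⁻¹' {AlgSp.Points.mk r}).Finite → DiscreteTopology ↥(AlgSp.Points.map f.hom ⁻¹' {AlgSp.Points.mk r}))) := by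
  have hN := hN_fibre X.property Y.property Xk.property f.hom hf r fst.hom snd hsq
  have hJ := hJ_fibre X.property Y.property Xk.property f.hom hf r fst.hom snd hsq
  obtain ⟨x0, hx0⟩ := hy
  obtain ⟨xt0, hxt0⟩ := surj_fibre f.hom r fst.hom snd hsq x0 hx0
  haveI : Nonempty (Points Xk.obj) := ⟨xt0⟩
  haveI : Nonempty ↥(AlgSp.Points.map f.hom ⁻¹' {AlgSp.Points.mk r}) := ⟨⟨x0, hx0⟩⟩
  obtain ⟨g1, g2, g3, g4⟩ := global hN hJ Xk.property
  have key : ∀ xt : Points Xk.obj, IsOpen ({xt} : Set (Points Xk.obj)) ↔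
      HasAtMor QFQ f.hom (Points.map fst.hom xt) := fun xt =>
    (pointwise hN hJ Xk.property xt).2.1.trans
      (hasAt_localDim_iff_QFQ X.property Y.property Xk.property f.hom hf r fst.hom snd hsq xt)
  refine ⟨g1, ?_, g2, g3, g4, ?_, ?_, ?_, ?_⟩
  · rw [← g1, discreteTopology_iff_isOpen_singleton]
    constructor
    · intro h x hx
      obtain ⟨xt, rfl⟩ := surj_fibre f.hom r fst.hom snd hsq x hx
      exact (key xt).1 (h xt)
    · intro h xt
      exact (key xt).2 (h _ (mem_fibre f.hom r fst.hom snd hsq xt))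
  · intro hfin
    refine (Set.finite_range (Points.map fst.hom)).subset ?_
    intro x hx
    exact surj_fibre f.hom r fst.hom snd hsq x hx
  · intro hdisc
    exact le_antisymm (topologicalKrullDim_zero_of_discreteTopology _)
      (Groth.Agent.Lib.lead.QFRelDim.topologicalKrullDim_nonneg_of_nonempty _)
  · intro hYd
    rw [discreteTopology_iff_isOpen_singleton, discreteTopology_iff_isOpen_singleton]
    constructor
    · intro h xt
      have hx := mem_fibre f.hom r fst.hom snd hsq xt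
      exact ((main10445 f hf r Xk fst snd hsq _ hx xt rfl).2.2.2.2.1 hYd).1.1 (h ⟨_, hx⟩)
    · rintro h ⟨x, hx⟩
      obtain ⟨xt, hxt⟩ := surj_fibre f.hom r fst.hom snd hsq x hx
      exact ((main10445 f hf r Xk fst snd hsq x hx xt hxt).2.2.2.2.1 hYd).1.2 (h xt)
  · intro hYd hXd
    have hyfin := finFib_of_isDecent hYd (Points.mk r)
    constructor
    · intro hdim
      rw [discreteTopology_iff_isOpen_singleton]
      rintro ⟨x, hx⟩
      obtain ⟨xt, hxt⟩ := surj_fibre f.hom r fst.hom snd hsq x hx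
      refine ((main10445 f hf r Xk fst snd hsq x hx xt hxt).2.2.2.2.2 hYd hXd).1 ?_
      refine le_antisymm ?_ (FlatPropFin.localDim_nonneg _ _)
      refine (iInf_le _ (⟨⊤, trivial⟩ :
        {U : Opens ↥(AlgSp.Points.map f.hom ⁻¹' {AlgSp.Points.mk r}) // (⟨x, hx⟩ : ↥(AlgSp.Points.map f.hom ⁻¹' {AlgSp.Points.mk r})) ∈ U})).trans ?_
      exact (topologicalKrullDim_subspace_le _ _).trans hdim.le
    · intro hfin
      rw [discreteTopology_iff_isOpen_singleton]
      rintro ⟨x, hx⟩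
      refine (isOpen_fibre_iff_qfq X.property Y.property f.hom hf _ hyfin x hx).2 ?_
      exact qfq_of_finite_fibre X.property Y.property f.hom hf _ x hx hfin
        (fun x' _ => finFib_of_isDecent hXd x')

end Groth.Agent.Lib.Helper3.FibCond
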