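import Mathlib
import Groth.Agent.Lib.Helper3.FibCond7
set_option autoImplicit false
universe u
open CategoryTheory CategoryTheory.Limits AlgebraicGeometry TopologicalSpace

namespace Groth.Agent.Lib.Helper3.GenUniq

open AlgSp Groth.Agent.Lib.Helper3 Groth.Agent.Lib.lead.QFCodimSp FibCond

variable {S : Scheme.{u}}

section
variable {X Y : AlgSp.Space S} (hXi : AlgSp.IsIntegralSp X.obj) (hYi : AlgSp.IsIntegralSp Y.obj)
  (f : X ⟶ Y) (hd : AlgSp.IsDominantMor f.hom)
  (x : AlgSp.Points X.obj) (hx : IsGenericPoint x (Set.univ : Set (AlgSp.Points X.obj)))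
  (y : AlgSp.Points Y.obj) (hy : IsGenericPoint y (Set.univ : Set (AlgSp.Points Y.obj)))

include hYi hd hx hy in
theorem map_generic : Points.map f.hom x = y := by
  haveI : T0Space (Points Y.obj) := Groth.Agent.S10338.result Y hYi.2.1
  have h1 : IsGenericPoint (Points.map f.hom x) (Set.univ : Set (Points Y.obj)) := by
    have hc : Continuous (Points.map f.hom) := Points.continuous_map f.hom
    have h2 := hx.image hc
    rw [Set.image_univ, hd.closure_range] at h2
    exact h2
  exact h1.eq hy

include hXi hYi hd hx hy in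
theorem qfq_iff_unique (hft : AlgSp.LocP @LocallyOfFiniteType f.hom) :
    HasAtMor QFQ f.hom x ↔ (∀ x' : AlgSp.Points X.obj, AlgSp.Points.map f.hom x' = y → x' = x) := by
  have hxy := map_generic hYi f hd x hx y hy
  have hyfin := finFib_of_isDecent hYi.2.1 y
  have hxF : x ∈ Points.map f.hom ⁻¹' {y} := hxy
  constructor
  · intro hq x' hx'
    have hcl := ((closed_nogen_fibre_iff_qfq X.property Y.property f.hom hft y hyfin x hxF).2 hq).1
    have hs : x ⤳ x' := hx.specializes (Set.mem_univ _)
    have hs' : (⟨x, hxF⟩ : ↥(Points.map f.hom ⁻¹' {y})) ⤳ ⟨x', hx'⟩ :=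
      Topology.IsInducing.subtypeVal.specializes_iff.mp hs
    have := hs'.mem_closed hcl rfl
    exact congrArg Subtype.val this
  · intro hu
    have hfin : (Points.map f.hom ⁻¹' {y}).Finite := by
      refine (Set.finite_singleton x).subset ?_
      intro x' hx'
      exact hu x' hx'
    exact qfq_of_finite_fibre X.property Y.property f.hom hft y x hxF hfin
      (fun x' _ => finFib_of_isDecent hXi.2.1 x')

end

end Groth.Agent.Lib.Helper3.GenUniq
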