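import Groth.Prelude.Def_Dual3
import Mathlib.AlgebraicGeometry.Morphisms.Etale
import Mathlib.AlgebraicGeometry.Morphisms.FormallyUnramified
import Mathlib.RingTheory.AlgebraicIndependent.TranscendenceBasis
import Mathlib.AlgebraicGeometry.Morphisms.QuasiFinite

set_option autoImplicit false
universe u
open CategoryTheory CategoryTheory.Limits AlgebraicGeometry

namespace Groth.Agent.Lib.Helper3

theorem resTrdeg_comp {X Y Z : Scheme.{u}} (f : X ⟶ Y) (g : Y ⟶ Z) (x : X) :
    Dual3.resTrdeg (f ≫ g) x = Dual3.resTrdeg g (f x) + Dual3.resTrdeg f x := by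
  unfold Dual3.resTrdeg
  let i1 : Algebra (Y.residueField (f x)) (X.residueField x) := (f.residueFieldMap x).hom.toAlgebra
  let i2 : Algebra (Z.residueField (g (f x))) (Y.residueField (f x)) :=
    (g.residueFieldMap (f x)).hom.toAlgebra
  let i3 : Algebra (Z.residueField (g (f x))) (X.residueField x) :=
    ((f ≫ g).residueFieldMap x).hom.toAlgebra
  have : IsScalarTower (Z.residueField (g (f x))) (Y.residueField (f x)) (X.residueField x) := by
    refine IsScalarTower.of_algebraMap_eq fun r => ?_
    change ((f ≫ g).residueFieldMap x).hom r = (f.residueFieldMap x).hom ((g.residueFieldMap (f x)).hom r)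
    rw [Scheme.residueFieldMap_comp]
    rfl
  exact (trdeg_add_eq (Z.residueField (g (f x))) (Y.residueField (f x))
    (A := X.residueField x)).symm

theorem resTrdeg_eq_zero_of_etale {X Y : Scheme.{u}} (f : X ⟶ Y) [Etale f] (x : X) :
    Dual3.resTrdeg f x = 0 := by
  unfold Dual3.resTrdeg
  let i1 : Algebra (Y.residueField (f x)) (X.residueField x) := (f.residueFieldMap x).hom.toAlgebra
  have : Algebra.IsSeparable (Y.residueField (f x)) (X.residueField x) := inferInstance
  have : Algebra.IsAlgebraic (Y.residueField (f x)) (X.residueField x) :=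
    Algebra.IsSeparable.isAlgebraic _ _
  exact trdeg_eq_zero

end Groth.Agent.Lib.Helper3

namespace Groth.Agent.Lib.Helper3

theorem resTrdeg_eq_zero_of_locallyQuasiFinite {X Y : Scheme.{u}} (f : X ⟶ Y)
    [LocallyQuasiFinite f] (x : X) : Dual3.resTrdeg f x = 0 := by
  unfold Dual3.resTrdeg
  let i1 : Algebra (Y.residueField (f x)) (X.residueField x) := (f.residueFieldMap x).hom.toAlgebra
  rw [trdeg_eq_zero_iff]
  have hqf : (f.stalkMap x).hom.QuasiFinite := f.quasiFiniteAt x
  algebraize [(f.stalkMap x).hom]
  have : IsLocalHom (algebraMap (Y.presheaf.stalk (f x)) (X.presheaf.stalk x)) :=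
    inferInstanceAs <| IsLocalHom (f.stalkMap x).hom
  suffices h : Algebra.IsAlgebraic
      (IsLocalRing.ResidueField <| Y.presheaf.stalk (f x))
      (IsLocalRing.ResidueField <| X.presheaf.stalk x) by
    convert! h
    refine Algebra.algebra_ext _ _ fun x ↦ ?_
    obtain ⟨x, rfl⟩ := IsLocalRing.residue_surjective x
    rfl
  have h1 : Algebra.QuasiFinite (Y.presheaf.stalk (f x))
      (IsLocalRing.ResidueField <| X.presheaf.stalk x) :=
    inferInstanceAs <| Algebra.QuasiFinite (Y.presheaf.stalk (f x))
      (X.presheaf.stalk x ⧸ IsLocalRing.maximalIdeal (X.presheaf.stalk x))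
  have h2 : Algebra.QuasiFinite (IsLocalRing.ResidueField <| Y.presheaf.stalk (f x))
      (IsLocalRing.ResidueField <| X.presheaf.stalk x) :=
    Algebra.QuasiFinite.of_restrictScalars (Y.presheaf.stalk (f x)) _ _
  have h3 : Module.Finite (IsLocalRing.ResidueField <| Y.presheaf.stalk (f x))
      (IsLocalRing.ResidueField <| X.presheaf.stalk x) := Module.Finite.of_quasiFinite
  exact Algebra.IsAlgebraic.of_finite _ _

end Groth.Agent.Lib.Helper3
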