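import Mathlib
import Groth.Agent.Lib.Helper3.GenUniq1
import Groth.Agent.Lib.Helper3.ResTrdeg
set_option autoImplicit false
universe u
open CategoryTheory CategoryTheory.Limits AlgebraicGeometry TopologicalSpace

namespace Groth.Agent.Lib.Helper3.GenUniq

open AlgSp Groth.Agent.Lib.Helper3 Groth.Agent.Lib.lead.QFCodimSp FibCond

variable {S : Scheme.{u}}

theorem resTrdeg_eq_zero_of_QFQ {U V : Scheme.{u}} (h : U ⟶ V) (u : U) (hq : QFQ U V h u) :
    Dual3.resTrdeg h u = 0 := by
  obtain ⟨W, hu, hqf, -⟩ := hq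
  have h1 := resTrdeg_comp W.ι h ⟨u, hu⟩
  rw [resTrdeg_eq_zero_of_locallyQuasiFinite (W.ι ≫ h)] at h1
  have h2 := (add_eq_zero.1 h1.symm).1
  exact h2

section
variable {X Y : AlgSp.Space S} (hXi : AlgSp.IsIntegralSp X.obj)
  (f : X ⟶ Y) (hft : AlgSp.LocP @LocallyOfFiniteType f.hom)
  (x : AlgSp.Points X.obj) (hx : IsGenericPoint x (Set.univ : Set (AlgSp.Points X.obj)))

include hXi hx in
/-- A chart point over the generic point of an integral space has no proper generizations. -/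
theorem eq_of_specializes_generic {U : Over S} (a : (yon S).obj U ⟶ X.obj)
    (ha : RepWith @Etale a) (u u' : ↥U.left) (hu : Points.ofPt a u = x) (hs : u' ⤳ u) :
    u' = u := by
  haveI : T0Space (Points X.obj) := Groth.Agent.S10338.result X hXi.2.1
  have h1 : Points.ofPt a u' ⤳ x := hu ▸ hs.map (Points.continuous_ofPt a)
  have h2 : x ⤳ Points.ofPt a u' := hx.specializes (Set.mem_univ _)
  have h3 : Points.ofPt a u' = x := (h1.antisymm h2).eq
  exact (eq_of_specializes_of_finite_fibres x (finFib_of_isDecent hXi.2.1 x) a ha u u' hu h3 hs).symm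

include hXi hft hx in
theorem trdeg_zero_iff_qfq :
    HasAtMor (fun _ _ h u => Dual3.resTrdeg h u = 0) f.hom x ↔ HasAtMor QFQ f.hom x := by
  constructor
  · rintro ⟨U, V, a, b, h, u, ha, hb, w, hu, htr⟩
    haveI : LocallyOfFiniteType h.left := hft a b h ha hb w
    refine ⟨U, V, a, b, h, u, ha, hb, w, hu, QFQ_of_quasiFiniteAt h.left u ?_⟩
    rw [Groth.Agent.Lib.lead.QFRelDim.quasiFiniteAt_iff_fibreDimAt_eq_zero]
    have hG : Groth.Agent.Lib.lead.FibreOrder.G h.left u = ((0 : ℕ) : ℕ∞) := by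
      unfold Groth.Agent.Lib.lead.FibreOrder.G
      rw [Nat.cast_zero, Order.coheight_eq_zero]
      intro z hz
      have hs : z.1 ⤳ u := hz
      have := eq_of_specializes_generic hXi x hx a ha u z.1 hu hs
      have hz' : z = ⟨u, rfl⟩ := Subtype.ext this
      rw [hz']
    rw [Groth.Agent.Lib.lead.FibreDimFormula.fibreDimAt_eq h.left u 0 hG]
    have h1 : ((Groth.Agent.Lib.Helper24.FibreDim.tr h.left u : ℕ) : Cardinal.{u}) = 0 := by
      rw [← htr]
      exact (Groth.Agent.Lib.Helper24.FibreDim.tr_spec h.left u).symm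
    have h2 : Groth.Agent.Lib.Helper24.FibreDim.tr h.left u = 0 := by exact_mod_cast h1
    rw [h2]
    rfl
  · rintro ⟨U, V, a, b, h, u, ha, hb, w, hu, hq⟩
    exact ⟨U, V, a, b, h, u, ha, hb, w, hu, resTrdeg_eq_zero_of_QFQ h.left u hq⟩

end

end Groth.Agent.Lib.Helper3.GenUniq
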