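import Groth.Agent.Lib.Helper3.SchImGen0
import Groth.Agent.Lib.Helper3.SchImFlat
import Groth.Agent.Lib.Helper3.SubGrpMono
import Groth.Prelude.Def_Red
set_option autoImplicit false
universe u
open CategoryTheory CategoryTheory.Limits AlgebraicGeometry Opposite
open MonoidalCategory CartesianMonoidalCategory MonObj GrpObj

namespace Groth.Agent.Lib.Helper3.SchIm

theorem isPullback_id_of_mono {C : Type*} [Category C] {A B X : C} (ψ : A ⟶ B) (s : B ⟶ X)
    [Mono s] : IsPullback (𝟙 A) ψ (ψ ≫ s) s := by
  refine IsPullback.of_isLimit' ⟨by simp⟩ ?_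
  refine PullbackCone.IsLimit.mk _ (fun t => t.fst) (fun t => by simp) (fun t => ?_)
    (fun t m h1 _ => by simpa using h1)
  rw [← cancel_mono s, Category.assoc]
  exact t.condition

/-- The generic fibre of the schematic closure of a closed subscheme of the generic fibre. -/
theorem isPullback_toImage_of_closedImmersion {S T₀ Gs HKs Hs : Scheme.{u}} (t : T₀ ⟶ S) [Mono t]
    [Flat t] (πG : Gs ⟶ S) (qH : HKs ⟶ T₀) (a : HKs ⟶ pullback πG t) [IsClosedImmersion a]
    (ha : a ≫ pullback.snd πG t = qH) (js : Hs ⟶ Gs) (φ : HKs ⟶ Hs) [QuasiCompact φ]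
    [IsSchemeTheoreticallyDominant φ] (hφ : φ ≫ js = a ≫ pullback.fst πG t)
    [IsClosedImmersion js] :
    IsPullback φ qH (js ≫ πG) t := by
  have hw : φ ≫ js ≫ πG = qH ≫ t := by
    rw [← Category.assoc, hφ, Category.assoc, pullback.condition, ← Category.assoc, ha]
  let ψ : HKs ⟶ pullback (js ≫ πG) t := pullback.lift φ qH hw
  have hψ1 : ψ ≫ pullback.fst _ _ = φ := pullback.lift_fst _ _ _
  have hψ2 : ψ ≫ pullback.snd _ _ = qH := pullback.lift_snd _ _ _
  let jK : pullback (js ≫ πG) t ⟶ pullback πG t :=
    pullback.map (js ≫ πG) t πG t js (𝟙 _) (𝟙 _) (by simp) (by simp)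
  have hjK : IsClosedImmersion jK :=
    MorphismProperty.pullbackMap (P := @IsClosedImmersion) (inferInstance : IsClosedImmersion js)
      (inferInstance : IsClosedImmersion (𝟙 T₀)) rfl (Category.id_comp t).symm
  have hψj : ψ ≫ jK = a := by
    apply pullback.hom_ext
    · rw [Category.assoc, pullback.lift_fst, ← Category.assoc, hψ1, hφ]
    · rw [Category.assoc, pullback.lift_snd, ← Category.assoc, hψ2, Category.comp_id, ha]
  have hψc : IsClosedImmersion ψ := by
    have : IsClosedImmersion (ψ ≫ jK) := by rw [hψj]; infer_instance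
    exact IsClosedImmersion.of_comp ψ jK
  have hsm : Mono (pullback.fst (js ≫ πG) t) := inferInstance
  have hsf : Flat (pullback.fst (js ≫ πG) t) := inferInstance
  have sq := isPullback_id_of_mono ψ (pullback.fst (js ≫ πG) t)
  rw [hψ1] at sq
  have hψd : IsSchemeTheoreticallyDominant ψ := IsSchemeTheoreticallyDominant.of_isPullback sq
  have hiso : IsIso ψ :=
    IsClosedImmersion.isIso_of_ker_eq ψ (𝟙 _) ψ (Category.comp_id _)
      (ψ.ker_eq_bot.trans (Scheme.Hom.ker_eq_bot (𝟙 _)).symm)
  exact IsPullback.of_iso_pullback ⟨hw⟩ (asIso ψ) hψ1 hψ2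


theorem isIso_mapDesc_of_mono {C : Type*} [Category C] {X Y S T : C} (f : X ⟶ S) (g : Y ⟶ S)
    (i : S ⟶ T) [Mono i] [HasPullback f g] [HasPullback (f ≫ i) (g ≫ i)] :
    IsIso (pullback.mapDesc f g i) := by
  refine ⟨⟨pullback.lift (pullback.fst _ _) (pullback.snd _ _) (by
    rw [← cancel_mono i, Category.assoc, Category.assoc, pullback.condition]), ?_, ?_⟩⟩
  · apply pullback.hom_ext <;>
      simp only [Category.assoc, pullback.lift_fst, pullback.lift_snd, Category.comp_id,
        Category.id_comp, pullback.lift_fst_assoc, pullback.lift_snd_assoc]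
  · apply pullback.hom_ext <;>
      simp only [Category.assoc, pullback.lift_fst, pullback.lift_snd, Category.comp_id,
        Category.id_comp, pullback.lift_fst_assoc, pullback.lift_snd_assoc]

section
variable {S S' : Scheme.{u}} (t : S' ⟶ S) (G : Over S) [GrpObj G]

theorem pullback_map_left_fst {X Y : Over S} (g : X ⟶ Y) :
    ((Over.pullback t).map g).left ≫ pullback.fst Y.hom t = pullback.fst X.hom t ≫ g.left :=
  pullback.lift_fst _ _ _

theorem bc_inv_left_fst :
    (ι[Red.bc t G]).left ≫ pullback.fst G.hom t = pullback.fst G.hom t ≫ (ι[G]).left := by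
  rw [Functor.obj.ι_def]
  exact pullback_map_left_fst t _

theorem bc_one_left_fst :
    (η[Red.bc t G]).left ≫ pullback.fst G.hom t = t ≫ (η[G]).left := by
  rw [Functor.obj.η_def, Over.comp_left, Category.assoc]
  erw [pullback_map_left_fst t η[G]]
  rw [← Category.assoc]
  congr 1
  rw [Over.ε_pullback_left, IsIso.inv_comp_eq]
  have := pullback.condition (f := (𝟙_ (Over S)).hom) (g := t)
  simpa using this

theorem bc_mul_left_fst :
    (μ[Red.bc t G]).left ≫ pullback.fst G.hom t =
      (Functor.LaxMonoidal.μ (Over.pullback t) G G).left ≫ pullback.fst (G ⊗ G).hom t ≫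
        (μ[G]).left := by
  rw [Functor.obj.μ_def, Over.comp_left, Category.assoc]
  congr 1
  exact pullback_map_left_fst t _

end

section
variable {S : Scheme.{u}}

theorem isPullback_whiskerLeft (T G H : Over S) (u : G ⟶ H) :
    IsPullback (T ◁ u).left (snd T G).left (snd T H).left u.left := by
  have A := IsPullback.of_hasPullback T.hom H.hom
  have B := IsPullback.of_hasPullback T.hom G.hom
  have hGH : G.hom = u.left ≫ H.hom := (Over.w u).symm
  refine IsPullback.of_right (h₁₂ := pullback.fst T.hom H.hom) (h₂₂ := H.hom) (v₁₃ := T.hom) ?_ ?_ A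
  · rw [Over.whiskerLeft_left_fst, ← hGH]
    exact B
  · exact Over.whiskerLeft_left_snd u

theorem isPullback_whiskerRight (T G H : Over S) (u : G ⟶ H) :
    IsPullback (u ▷ T).left (fst G T).left (fst H T).left u.left := by
  have A := (IsPullback.of_hasPullback H.hom T.hom).flip
  have B := (IsPullback.of_hasPullback G.hom T.hom).flip
  have hGH : G.hom = u.left ≫ H.hom := (Over.w u).symm
  refine IsPullback.of_right (h₁₂ := pullback.snd H.hom T.hom) (h₂₂ := H.hom) (v₁₃ := T.hom) ?_ ?_ A
  · rw [Over.whiskerRight_left_snd, ← hGH]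
    exact B
  · exact Over.whiskerRight_left_fst u

/-- The tensor square of a quasi-compact scheme theoretically dominant morphism between flat
schemes over `S` is scheme theoretically dominant. -/
theorem isSchemeTheoreticallyDominant_tensorHom {A B : Over S} (u : A ⟶ B) [QuasiCompact u.left]
    [IsSchemeTheoreticallyDominant u.left] [Flat A.hom] [Flat B.hom] :
    IsSchemeTheoreticallyDominant (u ⊗ₘ u).left := by
  rw [MonoidalCategory.tensorHom_def, Over.comp_left]
  have h1 : IsSchemeTheoreticallyDominant (u ▷ A).left := by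
    have sq := (isPullback_whiskerRight A A B u).flip
    have : Flat (fst B A).left := by
      change Flat (pullback.fst B.hom A.hom)
      infer_instance
    exact IsSchemeTheoreticallyDominant.of_isPullback sq
  have h2 : IsSchemeTheoreticallyDominant (B ◁ u).left := by
    have sq := (isPullback_whiskerLeft B A B u).flip
    have : Flat (snd B B).left := by
      change Flat (pullback.snd B.hom B.hom)
      infer_instance
    exact IsSchemeTheoreticallyDominant.of_isPullback sq
  infer_instance

/-- Lifting through a closed immersion in `Over S`. -/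
theorem exists_over_lift {T H G : Over S} (j : H ⟶ G) [IsClosedImmersion j.left] (X : T ⟶ G)
    (h : j.left.ker ≤ X.left.ker) : ∃ l : T ⟶ H, l ≫ j = X := by
  refine ⟨Over.homMk (IsClosedImmersion.lift j.left X.left h) ?_, ?_⟩
  · rw [← Over.w j, ← Category.assoc, IsClosedImmersion.lift_fac, Over.w X]
  · ext
    exact IsClosedImmersion.lift_fac _ _ _

end

end Groth.Agent.Lib.Helper3.SchIm
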