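import Groth.Agent.Lib.Helper3.SepDesc
import Groth.Agent.Lib.Helper3.SchImRed
import Groth.Agent.Lib.Helper3.SchImGrp0
import Groth.Agent.S10192
import Groth.Agent.S10193
import Groth.Agent.S9922
import Groth.Agent.S9937
set_option autoImplicit false
universe u
open CategoryTheory CategoryTheory.Limits AlgebraicGeometry Opposite AlgSp

namespace Groth.Agent.Lib.Helper3.SepDesc

variable {S : Scheme.{u}}

theorem isUnivClosedMor_of_closedImmersion {F G : Sp S} (i : F ⟶ G)
    (hi : RepWith @IsClosedImmersion i) : IsUnivClosedMor i :=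
  Groth.Agent.S9922.isUnivClosedMor_of_repWith (repWith_mono (fun _ _ f hf => by
    have : IsClosedImmersion f := hf
    exact (inferInstance : UniversallyClosed f)) hi)

theorem injective_map_of_mono {F G : Sp S} (i : F ⟶ G) [Mono i] :
    Function.Injective (Points.map i) := by
  have h : InjOnFieldPts i := fun K _ str a b hab => (cancel_mono i).1 hab
  exact h.injective_map

theorem isClosedMap_of_isUnivClosedMor {F G : Sp S} (hG : IsAlgSpace G) (f : F ⟶ G)
    (hf : IsUnivClosedMor f) : IsClosedMap (Points.map f) :=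
  hf hG (𝟙 G) (𝟙 F) f (IsPullback.of_horiz_isIso ⟨by simp⟩)

theorem main10763 {X Y B Z : AlgSp.Space S}
    (a : X ⟶ B) (b : Y ⟶ B) (f : X ⟶ Y) (hcomm : f ≫ b = a)
    (_ha : AlgSp.LocP @LocallyOfFiniteType a.hom) (hb : AlgSp.LocP @LocallyOfFiniteType b.hom)
    (hfc : AlgSp.IsUnivClosedMor f.hom)
    (i : Z ⟶ X) (hi : AlgSp.RepWith @IsClosedImmersion i.hom) (hZ : AlgSp.IsProperMor (i ≫ a).hom) :
    IsClosed (AlgSp.Points.map f.hom '' Set.range (AlgSp.Points.map i.hom)) ∧
      ∃ (Z' : AlgSp.Space S) (i' : Z' ⟶ Y), AlgSp.RepWith @IsClosedImmersion i'.hom ∧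
        Set.range (AlgSp.Points.map i'.hom) = AlgSp.Points.map f.hom '' Set.range (AlgSp.Points.map i.hom) ∧
        AlgSp.IsProperMor (i' ≫ b).hom := by
  have hcl : IsClosed (Points.map f.hom '' Set.range (Points.map i.hom)) :=
    isClosedMap_of_isUnivClosedMor Y.property f.hom hfc _
      (SchIm.isClosed_range_of_closedImmersion i.hom hi)
  refine ⟨hcl, ?_⟩
  obtain ⟨Z', i', hi'cl, hi'r, -⟩ := Groth.Agent.S10192.result Y _ hcl
  obtain ⟨Zr, ir, hircl, hirr, hZrred⟩ := Groth.Agent.S10192.result Z Set.univ isClosed_univ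
  refine ⟨Z', i', hi'cl, hi'r, ?_⟩
  have hi'mono : Mono i'.hom := SchIm.mono_of_closedImmersion _ hi'cl
  have hirsurj : Function.Surjective (Points.map ir.hom) := by
    intro z
    have : z ∈ Set.range (Points.map ir.hom) := by rw [hirr]; trivial
    exact this
  let k : Zr ⟶ Y := ir ≫ i ≫ f
  have hkr : Set.range (Points.map k.hom) =
      Points.map f.hom '' Set.range (Points.map i.hom) := by
    ext y
    constructor
    · rintro ⟨x, rfl⟩
      refine ⟨Points.map i.hom (Points.map ir.hom x), ⟨_, rfl⟩, ?_⟩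
      change _ = Points.map (ir.hom ≫ i.hom ≫ f.hom) x
      rw [Points.map_comp, Points.map_comp]
    · rintro ⟨_, ⟨z, rfl⟩, rfl⟩
      obtain ⟨x, rfl⟩ := hirsurj z
      refine ⟨x, ?_⟩
      change Points.map (ir.hom ≫ i.hom ≫ f.hom) x = _
      rw [Points.map_comp, Points.map_comp]
  obtain ⟨g, hg⟩ := (Groth.Agent.S10193.result i' hi'cl hZrred k).2 (by rw [hkr, hi'r])
  have hg' : g.hom ≫ i'.hom = k.hom := congrArg (fun φ => φ.hom) hg
  -- surjectivity of g
  have hgsurj : IsSurjectiveMor g.hom := by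
    intro z'
    have : Points.map i'.hom z' ∈ Set.range (Points.map k.hom) := by
      rw [hkr, ← hi'r]; exact ⟨z', rfl⟩
    obtain ⟨x, hx⟩ := this
    refine ⟨x, injective_map_of_mono i'.hom ?_⟩
    rw [← Points.map_comp, hg', hx]
  -- g is universally closed
  have hircl' : RepWith @IsClosedImmersion (ir.hom ≫ i.hom) :=
    (RepWith @IsClosedImmersion).comp_mem _ _ hircl hi
  have hkuc : IsUnivClosedMor k.hom :=
    isUnivClosedMor_comp (f := ir.hom ≫ i.hom) (g := f.hom) X.property Y.property.diag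
      (isUnivClosedMor_of_closedImmersion _ hircl') hfc |> fun h => by
        simpa [k, Category.assoc] using h
  have hguc : IsUnivClosedMor g.hom := by
    have sq := SchIm.isPullback_id_of_mono g.hom i'.hom
    rw [hg'] at sq
    exact isUnivClosedMor_of_isPullback sq hkuc
  -- properness of the composite from the reduction
  have hZrprop : IsProperMor (g.hom ≫ (i' ≫ b).hom) := by
    have h1 : g.hom ≫ (i' ≫ b).hom = ir.hom ≫ (i ≫ a).hom := by
      change g.hom ≫ i'.hom ≫ b.hom = ir.hom ≫ i.hom ≫ a.hom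
      rw [← Category.assoc, hg', ← hcomm]
      simp [k, Category.assoc]
    rw [h1]
    exact isProperMor_comp Zr.property Z.property B.property
      (isProperMor_of_repWith_isClosedImmersion _ hircl) hZ
  have hlft : LocP @LocallyOfFiniteType (i' ≫ b).hom :=
    locP_comp isEtLocal_locallyOfFiniteType Z'.property Y.property B.property i'.hom b.hom
      (isProperMor_of_repWith_isClosedImmersion _ hi'cl).2.1.1 hb
  exact isProperMor_of_family (i' ≫ b) hlft (ι := Unit) (fun _ => Zr) (fun _ => g)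
    (fun _ => hguc) (fun _ => hZrprop) (fun w => by
      obtain ⟨x, hx⟩ := hgsurj w
      exact ⟨(), x, hx⟩)

theorem main10765 {X Y : AlgSp.Space S}
    (f : X ⟶ Y) (hf : AlgSp.LocP @LocallyOfFiniteType f.hom)
    {n : ℕ} (Z : Fin n → AlgSp.Space S) (i : ∀ k, Z k ⟶ X)
    (hi : ∀ k, AlgSp.RepWith @IsClosedImmersion (i k).hom) (hZ : ∀ k, AlgSp.IsProperMor (i k ≫ f).hom) :
    ∃ (W : AlgSp.Space S) (j : W ⟶ X), AlgSp.RepWith @IsClosedImmersion j.hom ∧
      Set.range (AlgSp.Points.map j.hom) = ⋃ k, Set.range (AlgSp.Points.map (i k).hom) ∧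
      AlgSp.IsProperMor (j ≫ f).hom := by
  have hcl : IsClosed (⋃ k, Set.range (Points.map (i k).hom)) :=
    isClosed_iUnion_of_finite fun k => SchIm.isClosed_range_of_closedImmersion _ (hi k)
  obtain ⟨W, j, hjcl, hjr, -⟩ := Groth.Agent.S10192.result X _ hcl
  refine ⟨W, j, hjcl, hjr, ?_⟩
  have hjmono : Mono j.hom := SchIm.mono_of_closedImmersion _ hjcl
  have key : ∀ k, ∃ (Zr : Space S) (ir : Zr ⟶ Z k), RepWith @IsClosedImmersion ir.hom ∧
      Function.Surjective (Points.map ir.hom) ∧ IsReducedSp Zr.obj := by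
    intro k
    obtain ⟨Zr, ir, hircl, hirr, hred⟩ := Groth.Agent.S10192.result (Z k) Set.univ isClosed_univ
    refine ⟨Zr, ir, hircl, ?_, hred⟩
    intro z
    have : z ∈ Set.range (Points.map ir.hom) := by rw [hirr]; trivial
    exact this
  choose Zr ir hircl hirsurj hred using key
  have hfac : ∀ k, ∃ g : Zr k ⟶ W, g ≫ j = ir k ≫ i k := by
    intro k
    refine (Groth.Agent.S10193.result j hjcl (hred k) (ir k ≫ i k)).2 ?_
    rw [hjr]
    rintro _ ⟨x, rfl⟩
    refine Set.mem_iUnion.2 ⟨k, Points.map (ir k).hom x, ?_⟩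
    change _ = Points.map ((ir k).hom ≫ (i k).hom) x
    rw [Points.map_comp]
  choose g hg using hfac
  have hg' : ∀ k, (g k).hom ≫ j.hom = (ir k).hom ≫ (i k).hom :=
    fun k => congrArg (fun φ => φ.hom) (hg k)
  have hlft : LocP @LocallyOfFiniteType (j ≫ f).hom :=
    locP_comp isEtLocal_locallyOfFiniteType W.property X.property Y.property j.hom f.hom
      (isProperMor_of_repWith_isClosedImmersion _ hjcl).2.1.1 hf
  refine isProperMor_of_family (j ≫ f) hlft Zr g ?_ ?_ ?_
  · intro k
    have hcl' : RepWith @IsClosedImmersion ((ir k).hom ≫ (i k).hom) :=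
      (RepWith @IsClosedImmersion).comp_mem _ _ (hircl k) (hi k)
    have sq := SchIm.isPullback_id_of_mono (g k).hom j.hom
    rw [hg' k] at sq
    exact isUnivClosedMor_of_isPullback sq (isUnivClosedMor_of_closedImmersion _ hcl')
  · intro k
    have h1 : (g k).hom ≫ (j ≫ f).hom = (ir k).hom ≫ (i k ≫ f).hom := by
      change (g k).hom ≫ j.hom ≫ f.hom = (ir k).hom ≫ (i k).hom ≫ f.hom
      rw [← Category.assoc, hg' k, Category.assoc]
    rw [h1]
    exact isProperMor_comp (Zr k).property (Z k).property Y.property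
      (isProperMor_of_repWith_isClosedImmersion _ (hircl k)) (hZ k)
  · intro w
    have : Points.map j.hom w ∈ ⋃ k, Set.range (Points.map (i k).hom) := by
      rw [← hjr]; exact ⟨w, rfl⟩
    obtain ⟨k, z, hz⟩ := Set.mem_iUnion.1 this
    obtain ⟨x, rfl⟩ := hirsurj k z
    refine ⟨k, x, injective_map_of_mono j.hom ?_⟩
    rw [← Points.map_comp, hg' k, Points.map_comp, hz]

end Groth.Agent.Lib.Helper3.SepDesc
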