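import Groth.Agent.Lib.Helper3.PropQF
import Groth.Agent.Lib.Helper3.SepDesc2

set_option autoImplicit false
universe u w

namespace Groth.Agent.Lib.Helper3.PropQF

open CategoryTheory CategoryTheory.Limits AlgebraicGeometry Opposite AlgSp
open Groth.Agent.Lib.Helper3

variable {S : Scheme.{u}}

/-- Restriction of a chart diagram to an open subspace of the source. -/
theorem hasAtMor_restrict {P : MorphismProperty Scheme.{u}} (hP : IsEtLocal P) {X₀ X Y : Sp S}
    (f : X ⟶ Y) (j : X₀ ⟶ X) (hj : RepWith @IsOpenImmersion j) (z : Points X₀)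
    (H : HasAtMor (NbhdQ P) f (Points.map j z)) : HasAtMor (NbhdQ P) (j ≫ f) z := by
  obtain ⟨U, V, a, b, h, u, hae, hbe, w, hx, W, hu, hPW⟩ := H
  let U₀ : Over S := hj.rep.pullback a
  let o : U₀ ⟶ U := hj.rep.snd a
  let a₀ : (yon S).obj U₀ ⟶ X₀ := hj.rep.fst a
  have sq : IsPullback a₀ ((yon S).map o) j a := hj.rep.isPullback a
  have ho : IsOpenImmersion o.left := hj.property_snd a
  obtain ⟨u₀, hu₀1, hu₀2⟩ := exists_of_isPullback_chart sq z u hx.symm
  have ha₀e : RepWith @Etale a₀ := MorphismProperty.of_isPullback sq.flip hae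
  refine ⟨U₀, V, a₀, b, o ≫ h, u₀, ha₀e, hbe, ?_, hu₀1, o.left ⁻¹ᵁ W, ?_, ?_⟩
  · rw [← Category.assoc, sq.w, Category.assoc, w, Functor.map_comp, Category.assoc]
  · change o.left u₀ ∈ W
    rw [hu₀2]
    exact hu
  · change P ((o.left ⁻¹ᵁ W).ι ≫ o.left ≫ h.left)
    rw [← Category.assoc, ← morphismRestrict_ι, Category.assoc]
    exact hP.comp_mem _ _ (hP.etale_le _ inferInstance) hPW

/-- The quasi-finite locus as an open subspace. -/
theorem exists_qfOpen {X Y : Sp S} (hX : IsAlgSpace X) (hY : IsAlgSpace Y) (f : X ⟶ Y) :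
    ∃ (X₀ : Sp S) (_ : IsAlgSpace X₀) (ι : X₀ ⟶ X), RepWith @IsOpenImmersion ι ∧
      LocP (@LocallyQuasiFinite ⊓ @LocallyOfFiniteType) (ι ≫ f) ∧
      Set.range (Points.map ι) = {x | ZmtGen.QfAt f x} := by
  have hopen : IsOpen {x | ZmtGen.QfAt f x} := by
    rw [isOpen_iff_forall_mem_open]
    intro x hx
    obtain ⟨X', hX', j, hj, hxj, hloc⟩ :=
      exists_open_subspace_of_hasAtMor isEtLocal_locallyQuasiFinite hX f x hx
    have hje : RepWith @Etale j := repWith_mono isOpenImmersion_le_etale hj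
    refine ⟨Set.range (Points.map j), ?_, (isOpenMap_map_of_etale hje).isOpen_range, hxj⟩
    rintro _ ⟨x', rfl⟩
    exact hasAtMor_of_open_subspace isEtLocal_locallyQuasiFinite hX' hY f _ j hj ⟨x', rfl⟩ hloc
  refine ⟨openSub X _, isAlgSpace_openSub hX _ hopen, openSubι X _,
    repWith_isOpenImmersion_openSubι X _ hopen, ?_, range_map_openSubι X _⟩
  refine locP_of_forall_hasAtMor isEtLocal_locallyQuasiFinite (isAlgSpace_openSub hX _ hopen) hY _
    fun z => ?_
  refine hasAtMor_restrict isEtLocal_locallyQuasiFinite f _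
    (repWith_isOpenImmersion_openSubι X _ hopen) z ?_
  have : Points.map (openSubι X {x | ZmtGen.QfAt f x}) z ∈ Set.range (Points.map (openSubι X _)) :=
    ⟨z, rfl⟩
  rw [range_map_openSubι] at this
  exact this

theorem main10650 {X Y : AlgSp.Space S} (f : X ⟶ Y) (y : AlgSp.Points Y.obj)
    (hf : AlgSp.IsProperMor f.hom)
    (hq : ∀ x : AlgSp.Points X.obj, AlgSp.Points.map f.hom x = y → ZmtGen.QfAt f.hom x) :
    ∃ (V : AlgSp.Space S) (j : V ⟶ Y), AlgSp.RepWith @IsOpenImmersion j.hom ∧
      y ∈ Set.range (AlgSp.Points.map j.hom) ∧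
        ∀ (P : AlgSp.Space S) (fst : P ⟶ X) (snd : P ⟶ V), IsPullback fst.hom snd.hom f.hom j.hom →
          AlgSp.IsFiniteMor snd.hom := by
  obtain ⟨X₀, hX₀, ι, hι, hloc, hr⟩ := exists_qfOpen X.property Y.property f.hom
  have hcm : IsClosedMap (Points.map f.hom) :=
    SepDesc.isClosedMap_of_isUnivClosedMor Y.property f.hom hf.2.2
  let Z : Set (Points X.obj) := {x | ZmtGen.QfAt f.hom x}ᶜ
  have hZ : IsClosed Z := by
    rw [isClosed_compl_iff, ← hr]
    exact (isOpenMap_map_of_etale (repWith_mono isOpenImmersion_le_etale hι)).isOpen_range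
  let Ω : Set (Points Y.obj) := (Points.map f.hom '' Z)ᶜ
  have hΩ : IsOpen Ω := (hcm Z hZ).isOpen_compl
  refine ⟨⟨openSub Y.obj Ω, isAlgSpace_openSub Y.property Ω hΩ⟩,
    ObjectProperty.homMk (openSubι Y.obj Ω), repWith_isOpenImmersion_openSubι Y.obj Ω hΩ, ?_, ?_⟩
  · change y ∈ Set.range (Points.map (openSubι Y.obj Ω))
    rw [range_map_openSubι]
    rintro ⟨x, hxZ, hxy⟩
    exact hxZ (hq x hxy)
  · intro P fst snd sq
    change IsPullback fst.hom snd.hom f.hom (openSubι Y.obj Ω) at sq
    have hj : RepWith @IsOpenImmersion (openSubι Y.obj Ω) :=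
      repWith_isOpenImmersion_openSubι Y.obj Ω hΩ
    have hV : IsAlgSpace (openSub Y.obj Ω) := isAlgSpace_openSub Y.property Ω hΩ
    have hprop : IsProperMor snd.hom :=
      isProperMor_of_isPullback X.property Y.property hV P.property sq hf
    -- `fst` factors through the quasi-finite locus
    have hsub : Set.range (Points.map fst.hom) ⊆ Set.range (Points.map ι) := by
      rintro _ ⟨p, rfl⟩
      rw [hr]
      by_contra hcon
      have h1 : Points.map f.hom (Points.map fst.hom p) ∈ Points.map f.hom '' Z := ⟨_, hcon, rfl⟩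
      have h2 : Points.map f.hom (Points.map fst.hom p) ∈ Ω := by
        rw [← Points.map_comp, sq.w, Points.map_comp]
        exact (range_map_openSubι Y.obj Ω).subset (Set.mem_range_self _)
      exact h2 h1
    obtain ⟨φ, hφ⟩ := exists_factor_of_range_subset ι hι fst.hom hsub
    have hιm : Mono ι := mono_of_repWith_isOpenImmersion ι hι
    have hfste : RepWith @IsOpenImmersion fst.hom := MorphismProperty.of_isPullback sq.flip hj
    have hφo : RepWith @IsOpenImmersion φ := by
      have sqφ : IsPullback φ (𝟙 P.obj) ι fst.hom :=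
        (IsPullback.of_horiz_isIso_mono (fst := 𝟙 P.obj) (snd := φ) (f := fst.hom) (g := ι)
          ⟨by rw [Category.id_comp, hφ]⟩).flip
      exact MorphismProperty.of_isPullback sqφ.flip hfste
    have hφl : LocP (@LocallyQuasiFinite ⊓ @LocallyOfFiniteType) φ :=
      locP_of_repWith isEtLocal_locallyQuasiFinite φ
        (repWith_mono (fun _ _ g hg => by
          have : IsOpenImmersion g := hg
          exact ⟨inferInstance, inferInstance⟩) hφo)
    have hcomp : LocP (@LocallyQuasiFinite ⊓ @LocallyOfFiniteType) (snd.hom ≫ openSubι Y.obj Ω) := by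
      rw [← sq.w, ← hφ, Category.assoc]
      exact locP_comp isEtLocal_locallyQuasiFinite P.property hX₀ Y.property φ (ι ≫ f.hom) hφl hloc
    have hsndl : LocP (@LocallyQuasiFinite ⊓ @LocallyOfFiniteType) snd.hom := by
      intro U V a b h ha hb w
      exact hcomp a (b ≫ openSubι Y.obj Ω) h ha
        (MorphismProperty.comp_mem _ _ _ hb (repWith_mono isOpenImmersion_le_etale hj))
        (by rw [← Category.assoc, w, Category.assoc])
    exact isFiniteMor_of_proper_lqf P.property hV snd.hom hprop.1 hprop.2.1.2 hprop.2.2 hsndl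

end Groth.Agent.Lib.Helper3.PropQF
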