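import Mathlib
import Groth.Agent.Lib.Helper3.GenUniq2
import Groth.Agent.Lib.Helper3.QfOpen
import Groth.Agent.Lib.Helper3.AlgSpZarDecent2
set_option autoImplicit false
universe u
open CategoryTheory CategoryTheory.Limits AlgebraicGeometry TopologicalSpace

namespace Groth.Agent.Lib.Helper3.GenUniq

open AlgSp Groth.Agent.Lib.Helper3 Groth.Agent.Lib.lead.QFCodimSp FibCond

variable {S : Scheme.{u}}

/-- A morphism locally quasi-finite is quasi-finite at every point. -/
theorem hasAtMor_QFQ_of_locP {X Y : Sp S} (hX : IsAlgSpace X) (hY : IsAlgSpace Y) (f : X ⟶ Y)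
    (hf : LocP (@LocallyQuasiFinite ⊓ @LocallyOfFiniteType) f) (x : Points X) :
    HasAtMor QFQ f x := by
  have hlft : LocP @LocallyOfFiniteType f := fun U V a b h ha hb w => (hf a b h ha hb w).2
  obtain ⟨U, V, a, b, h, hl, v, z, ha, hb, w, hv, hz⟩ := exists_chart_fiber_point hX hY f hlft x
  have hq : LocallyQuasiFinite h.left := (hf a b h ha hb w).1
  exact ⟨U, V, a, b, h, _, ha, hb, w, hz, QFQ_of_quasiFiniteAt h.left _ (h.left.quasiFiniteAt _)⟩

/-- If `f` is finite over an open subspace containing `f x`, then `f` is quasi-finite at `x`. -/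
theorem hasAtMor_QFQ_of_finite_over_open {X Y V P : Sp S} (hX : IsAlgSpace X) (hY : IsAlgSpace Y)
    (hV : IsAlgSpace V) (f : X ⟶ Y) (hf : LocP @LocallyOfFiniteType f) (j : V ⟶ Y)
    (fst : P ⟶ V) (snd : P ⟶ X) (sq : IsPullback fst snd j f) (hfin : IsFiniteMor fst)
    (x : Points X) (hx : Points.map f x ∈ Set.range (Points.map j)) : HasAtMor QFQ f x := by
  have hP : IsAlgSpace P := isAlgSpace_of_isPullback' hY hV hX sq
  obtain ⟨v, hv⟩ := hx
  obtain ⟨p, -, hp⟩ := Points.exists_of_isPullback sq v x hv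
  have h1 := hasAtMor_QFQ_of_locP hP hV fst (PropQF.proper_lqf_of_isFiniteMor fst hfin).2 p
  have h2 := (hasAtMor_QFQ_baseChange_iff hX hY hP hV f j snd fst sq.flip hf p).1 h1
  rwa [hp] at h2

section
variable {X Y : AlgSp.Space S} (hXi : AlgSp.IsIntegralSp X.obj) (hYi : AlgSp.IsIntegralSp Y.obj)
  (f : X ⟶ Y) (hd : AlgSp.IsDominantMor f.hom)
  (x : AlgSp.Points X.obj) (hx : IsGenericPoint x (Set.univ : Set (AlgSp.Points X.obj)))
  (y : AlgSp.Points Y.obj) (hy : IsGenericPoint y (Set.univ : Set (AlgSp.Points Y.obj)))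

include hy in
theorem generic_mem_range_of_isOpenImmersion {V : Sp S} (j : V ⟶ Y.obj)
    (hj : RepWith @IsOpenImmersion j) (hne : Nonempty (Points V)) :
    y ∈ Set.range (Points.map j) := by
  rw [hy.mem_open_set_iff (isOpen_range_map_of_isOpenImmersion j hj), Set.univ_inter]
  exact Set.range_nonempty _

include hXi hYi hd hx hy in
theorem main10500 (hp : AlgSp.IsProperMor f.hom) :
    (∃ (V : AlgSp.Space S) (j : V ⟶ Y), AlgSp.RepWith @IsOpenImmersion j.hom ∧ Nonempty (AlgSp.Points V.obj) ∧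
      ∀ (P : AlgSp.Space S) (fst : P ⟶ V) (snd : P ⟶ X), IsPullback fst.hom snd.hom j.hom f.hom →
        AlgSp.IsFiniteMor fst.hom) ↔ (∀ x' : AlgSp.Points X.obj, AlgSp.Points.map f.hom x' = y → x' = x) := by
  have hft : LocP @LocallyOfFiniteType f.hom := hp.2.1.1
  have hxy := map_generic hYi f hd x hx y hy
  rw [← qfq_iff_unique hXi hYi f hd x hx y hy hft]
  constructor
  · rintro ⟨V, j, hj, hne, hfin⟩
    have sq := IsPullback.of_hasPullback j.hom f.hom
    have hP : IsAlgSpace (pullback j.hom f.hom) :=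
      isAlgSpace_of_isPullback' Y.property V.property X.property sq
    have h1 := hfin ⟨pullback j.hom f.hom, hP⟩ (ObjectProperty.homMk (pullback.fst j.hom f.hom))
      (ObjectProperty.homMk (pullback.snd j.hom f.hom)) sq
    refine hasAtMor_QFQ_of_finite_over_open X.property Y.property V.property f.hom hft j.hom
      _ _ sq h1 x ?_
    rw [hxy]
    exact generic_mem_range_of_isOpenImmersion y hy j.hom hj hne
  · intro hq
    have hu := (qfq_iff_unique hXi hYi f hd x hx y hy hft).1 hq
    obtain ⟨V, j, hj, hyV, hfin⟩ := PropQF.main10650 f y hp (fun x' hx' => by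
      rw [hu x' hx']; exact hq)
    refine ⟨V, j, hj, ?_, fun P fst snd sq => hfin P snd fst sq.flip⟩
    obtain ⟨v, -⟩ := hyV
    exact ⟨v⟩

end

end Groth.Agent.Lib.Helper3.GenUniq
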