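import Groth.Agent.Lib.Helper3.ResTrdeg
import Mathlib.AlgebraicGeometry.Morphisms.Finite

set_option autoImplicit false
universe u
open CategoryTheory CategoryTheory.Limits AlgebraicGeometry

namespace Groth.Agent.Lib.Helper3

theorem resTrdeg_eq_zero_of_isClosed_of_jacobsonSpace {W V : Scheme.{u}} (h : W ⟶ V)
    [JacobsonSpace V] [LocallyOfFiniteType h] (w : W) (hw : IsClosed ({w} : Set W)) :
    Dual3.resTrdeg h w = 0 := by
  have hci : IsClosedImmersion (W.fromSpecResidueField w) :=
    isClosed_singleton_iff_isClosedImmersion.mp hw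
  have hfin : IsFinite (W.fromSpecResidueField w ≫ h) :=
    (isFinite_iff_locallyOfFiniteType_of_jacobsonSpace
      (f := W.fromSpecResidueField w ≫ h)).mpr inferInstance
  have e := Scheme.Hom.SpecMap_residueFieldMap_fromSpecResidueField h w
  rw [← e] at hfin
  have hfin' : IsFinite (Spec.map (h.residueFieldMap w)) :=
    IsFinite.of_comp _ (V.fromSpecResidueField (h w))
  rw [IsFinite.SpecMap_iff] at hfin'
  unfold Dual3.resTrdeg
  let i1 : Algebra (V.residueField (h w)) (W.residueField w) := (h.residueFieldMap w).hom.toAlgebra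
  rw [trdeg_eq_zero_iff]
  have : Module.Finite (V.residueField (h w)) (W.residueField w) := hfin'
  exact Algebra.IsAlgebraic.of_finite _ _

end Groth.Agent.Lib.Helper3
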