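import Mathlib
import Groth.Agent.Lib.Helper3.ResTrdeg
import Groth.Agent.Lib.Helper3.ResTrdegJacobson
set_option autoImplicit false
universe u
open CategoryTheory CategoryTheory.Limits AlgebraicGeometry TopologicalSpace

namespace Groth.Agent.Lib.Helper3.TrdegFiber

open Groth.Agent.Lib.Helper3

variable {X Y : Scheme.{u}}

theorem residueFieldMap_surjective_of_isPreimmersion (j : X ⟶ Y) [IsPreimmersion j] (x : X) :
    Function.Surjective (j.residueFieldMap x).hom := by
  intro a
  obtain ⟨s, rfl⟩ := IsLocalRing.residue_surjective a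
  obtain ⟨t, rfl⟩ := (j.stalkMap_surjective x) s
  exact ⟨IsLocalRing.residue _ t, rfl⟩

theorem resTrdeg_eq_zero_of_isPreimmersion (j : X ⟶ Y) [IsPreimmersion j] (x : X) :
    Dual3.resTrdeg j x = 0 := by
  unfold Dual3.resTrdeg
  let i1 : Algebra (Y.residueField (j x)) (X.residueField x) := (j.residueFieldMap x).hom.toAlgebra
  have hs : Function.Surjective (algebraMap (Y.residueField (j x)) (X.residueField x)) :=
    residueFieldMap_surjective_of_isPreimmersion j x
  have : Algebra.IsAlgebraic (Y.residueField (j x)) (X.residueField x) :=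
    ⟨fun a => by
      obtain ⟨b, rfl⟩ := hs a
      exact isAlgebraic_algebraMap b⟩
  exact trdeg_eq_zero

theorem resTrdeg_fiberι (h : X ⟶ Y) (v : Y) (z : h.fiber v) :
    Dual3.resTrdeg h (h.fiberι v z) = Dual3.resTrdeg (h.fiberToSpecResidueField v) z := by
  have h1 := resTrdeg_comp (h.fiberι v) h z
  have h2 := resTrdeg_comp (h.fiberToSpecResidueField v) (Y.fromSpecResidueField v) z
  rw [resTrdeg_eq_zero_of_isPreimmersion (h.fiberι v), add_zero] at h1
  rw [resTrdeg_eq_zero_of_isPreimmersion (Y.fromSpecResidueField v), zero_add] at h2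
  rw [← h1, ← h2, h.fiber_fac]

theorem resTrdeg_fiberι_eq_zero_of_isClosed (h : X ⟶ Y) [LocallyOfFiniteType h] (v : Y)
    (z : h.fiber v) (hz : IsClosed ({z} : Set (h.fiber v))) :
    Dual3.resTrdeg h (h.fiberι v z) = 0 := by
  rw [resTrdeg_fiberι]
  have : LocallyOfFiniteType (h.fiberToSpecResidueField v) :=
    MorphismProperty.pullback_snd (P := @LocallyOfFiniteType) _ _ inferInstance
  exact resTrdeg_eq_zero_of_isClosed_of_jacobsonSpace _ z hz

end Groth.Agent.Lib.Helper3.TrdegFiber
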