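import Groth.Agent.S10192
import Groth.Agent.Lib.Helper3.AlgSpDecent2
import Groth.Agent.Lib.Helper3.AlgSpImmersionPts

set_option autoImplicit false
universe u

namespace Groth.Agent.Lib.Helper3.IntClosedSub

open CategoryTheory CategoryTheory.Limits AlgebraicGeometry Opposite AlgSp Topology
open Groth.Agent.Lib.Helper3

variable {S : Scheme.{u}}

theorem irreducibleSpace_of_isEmbedding {A B : Type*} [TopologicalSpace A] [TopologicalSpace B]
    {e : A → B} (he : IsEmbedding e) (h : IsIrreducible (Set.range e)) : IrreducibleSpace A := by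
  obtain ⟨⟨_, a, rfl⟩, hp⟩ := h
  refine { toPreirreducibleSpace := ⟨?_⟩, toNonempty := ⟨a⟩ }
  rintro U V hU hV ⟨u, -, hu⟩ ⟨v, -, hv⟩
  obtain ⟨U', hU', rfl⟩ := he.isInducing.isOpen_iff.1 hU
  obtain ⟨V', hV', rfl⟩ := he.isInducing.isOpen_iff.1 hV
  obtain ⟨_, ⟨w, rfl⟩, hw1, hw2⟩ := hp U' V' hU' hV' ⟨e u, ⟨u, rfl⟩, hu⟩ ⟨e v, ⟨v, rfl⟩, hv⟩
  exact ⟨w, Set.mem_univ _, hw1, hw2⟩

theorem main10496 (X : AlgSp.Space S)
    (hX : AlgSp.IsDecent X.obj) (T : Set (AlgSp.Points X.obj)) (hT : IsClosed T) (hTi : IsIrreducible T) :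
    ∃ (Z : AlgSp.Space S) (i : Z ⟶ X), AlgSp.RepWith @IsClosedImmersion i.hom ∧ AlgSp.IsIntegralSp Z.obj ∧
      Set.range (AlgSp.Points.map i.hom) = T := by
  obtain ⟨Z, i, hi, hr, hred⟩ := Groth.Agent.S10192.result X T hT
  refine ⟨Z, i, hi, ⟨hred, isDecent_of_representable i.hom hi.1 hX, ?_⟩, hr⟩
  have himm : RepWith @IsImmersion i.hom := repWith_mono (fun _ _ g hg => by
    have : IsClosedImmersion g := hg
    infer_instance) hi
  have hemb := (isEmbedding_map_of_immersion X.property i.hom himm).1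
  exact irreducibleSpace_of_isEmbedding hemb (by rw [hr]; exact hTi)

end Groth.Agent.Lib.Helper3.IntClosedSub
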