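import Mathlib
import Groth.Agent.Lib.Helper3.GenUniq3
import Groth.Agent.Lib.Helper3.TrdegFiber
import Groth.Agent.Lib.Helper3.DecMonoQSepMor
import Groth.Agent.Lib.Helper3.AlgSpProper
import Groth.Agent.S10496
import Groth.Agent.Lib.Helper3.DecSober1
import Groth.Agent.Lib.Helper3.AlgSpDecent2
set_option autoImplicit false
universe u
open CategoryTheory CategoryTheory.Limits AlgebraicGeometry TopologicalSpace

namespace Groth.Agent.Lib.Helper3.AltSub

open AlgSp Groth.Agent.Lib.Helper3 FibCond GenUniq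

variable {S : Scheme.{u}}

/-- A point in the closed fibre with residue transcendence degree zero. -/
theorem exists_chart_trdeg_zero {X Y : Sp S} (hX : IsAlgSpace X) (hY : IsAlgSpace Y) (f : X ⟶ Y)
    (hf : LocP @LocallyOfFiniteType f) (x₀ : Points X) :
    ∃ (U V : Over S) (a : (yon S).obj U ⟶ X) (b : (yon S).obj V ⟶ Y) (h : U ⟶ V) (u : ↥U.left),
      RepWith @Etale a ∧ RepWith @Etale b ∧ a ≫ f = (yon S).map h ≫ b ∧
        Points.map f (Points.ofPt a u) = Points.map f x₀ ∧ Dual3.resTrdeg h.left u = 0 := by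
  obtain ⟨U, V, a, b, h, hl, v, z, ha, hb, w, hbv, hpt⟩ := exists_chart_fiber_point hX hY f hf x₀
  have hlft : LocallyOfFiniteType (h.left.fiberToSpecResidueField v) :=
    MorphismProperty.pullback_snd (P := @LocallyOfFiniteType) _ _ inferInstance
  haveI : IsLocallyNoetherian (h.left.fiber v) :=
    LocallyOfFiniteType.isLocallyNoetherian (h.left.fiberToSpecResidueField v)
  obtain ⟨z₀, -, hz₀⟩ := nonempty_inter_closedPoints (X := h.left.fiber v) ⟨z, Set.mem_univ z⟩
    isOpen_univ.isLocallyClosed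
  refine ⟨U, V, a, b, h, h.left.fiberι v z₀, ha, hb, w, ?_, ?_⟩
  · have := map_pt f a b h w v z₀
    unfold pt at this
    rw [this, hbv]
  · exact TrdegFiber.resTrdeg_fiberι_eq_zero_of_isClosed h.left v z₀ hz₀

end Groth.Agent.Lib.Helper3.AltSub

namespace Groth.Agent.Lib.Helper3.AltSub

open AlgSp Groth.Agent.Lib.Helper3 FibCond GenUniq

variable {S : Scheme.{u}}

/-- Restricting a chart to a closed subspace. -/
theorem hasAtMor_trdeg_zero_comp_closedImmersion {Z X Y : Sp S} (i : Z ⟶ X) (f : X ⟶ Y)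
    (hi : RepWith @IsClosedImmersion i) (ζ : Points Z)
    {U V : Over S} (a : (yon S).obj U ⟶ X) (b : (yon S).obj V ⟶ Y) (h : U ⟶ V) (u : ↥U.left)
    (ha : RepWith @Etale a) (hb : RepWith @Etale b) (w : a ≫ f = (yon S).map h ≫ b)
    (hu : Points.ofPt a u = Points.map i ζ) (htr : Dual3.resTrdeg h.left u = 0) :
    HasAtMor (fun _ _ h u => Dual3.resTrdeg h u = 0) (i ≫ f) ζ := by
  obtain ⟨W, pT, fst, sq⟩ := hi.1 a
  have hcl : IsClosedImmersion pT.left := hi.2 a fst pT sq
  have hfe : RepWith @Etale fst := MorphismProperty.of_isPullback (P := RepWith @Etale) sq.flip ha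
  -- the point
  have hy : Points.map i ζ = Points.map a (Points.schemeHomeo U u) := by
    rw [← hu, Points.ofPt_eq]; rfl
  obtain ⟨p, hp1, hp2⟩ := Points.exists_of_isPullback sq ζ _ hy
  obtain ⟨w', rfl⟩ := (Points.schemeHomeo W).surjective p
  rw [Points.map_yon_map_apply] at hp2
  have hw' : pT.left w' = u := (Points.schemeHomeo U).injective hp2
  refine ⟨W, V, fst, b, pT ≫ h, w', hfe, hb, ?_, ?_, ?_⟩
  · rw [← Category.assoc, sq.w, Category.assoc, w, Functor.map_comp, Category.assoc]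
  · rw [Points.ofPt_eq]; exact hp1
  · change Dual3.resTrdeg (pT.left ≫ h.left) w' = 0
    rw [resTrdeg_comp, hw', htr, TrdegFiber.resTrdeg_eq_zero_of_isPreimmersion, add_zero]

end Groth.Agent.Lib.Helper3.AltSub

namespace Groth.Agent.Lib.Helper3.AltSub

open AlgSp Groth.Agent.Lib.Helper3 FibCond GenUniq

variable {S : Scheme.{u}}

theorem main10458 {X Y : AlgSp.Space S} (f : X ⟶ Y)
    (hf : AlgSp.IsProperMor f.hom) (hs : AlgSp.IsSurjectiveMor f.hom) (hY : AlgSp.IsIntegralSp Y.obj) :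
    ∃ (X' : AlgSp.Space S) (i : X' ⟶ X), AlgSp.RepWith @IsClosedImmersion i.hom ∧ AlgSp.IsIntegralSp X'.obj ∧
      AlgSp.IsProperMor (i ≫ f).hom ∧ AlgSp.IsDominantMor (i ≫ f).hom ∧
      ∃ (V : AlgSp.Space S) (j : V ⟶ Y), AlgSp.RepWith @IsOpenImmersion j.hom ∧ Nonempty (AlgSp.Points V.obj) ∧
        ∀ (P : AlgSp.Space S) (fst : P ⟶ V) (snd : P ⟶ X'), IsPullback fst.hom snd.hom j.hom (i ≫ f).hom →
          AlgSp.IsFiniteMor fst.hom := by
  have hqs : IsQuasiSeparatedMor f.hom := by
    refine repWith_mono ?_ hf.1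
    intro A B k hk
    have : IsClosedImmersion k := hk
    infer_instance
  have hXd : IsDecent X.obj := isDecent_of_isDecentMor f.hom
    (DecMono.isDecentMor_of_isQuasiSeparatedMor X.property Y.property f.hom hqs) hY.2.1
  have : QuasiSober (Points Y.obj) := DecDense.quasiSober_points_of_isDecent Y hY.2.1
  have : T0Space (Points Y.obj) := Groth.Agent.S10338.result Y hY.2.1
  have : T0Space (Points X.obj) := Groth.Agent.S10338.result X hXd
  have : IrreducibleSpace (Points Y.obj) := hY.2.2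
  obtain ⟨y, hy⟩ := QuasiSober.sober (IrreducibleSpace.isIrreducible_univ (Points Y.obj)) isClosed_univ
  obtain ⟨x₀, hx₀⟩ := hs y
  obtain ⟨U, V, a, b, h, u, ha, hb, w, hfu, htr⟩ :=
    exists_chart_trdeg_zero X.property Y.property f.hom hf.2.1.1 x₀
  set x₁ := Points.ofPt a u with hx₁
  rw [hx₀] at hfu
  obtain ⟨Z, i, hi, hZi, hrange⟩ := Groth.Agent.S10496.result X hXd (closure {x₁}) isClosed_closure
    isIrreducible_singleton.closure
  have : QuasiSober (Points Z.obj) := DecDense.quasiSober_points_of_isDecent Z hZi.2.1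
  have : IrreducibleSpace (Points Z.obj) := hZi.2.2
  obtain ⟨ζ, hζ⟩ := QuasiSober.sober (IrreducibleSpace.isIrreducible_univ (Points Z.obj)) isClosed_univ
  -- `i ζ = x₁`
  have hiζ : Points.map i.hom ζ = x₁ := by
    have h1 : x₁ ⤳ Points.map i.hom ζ := by
      rw [specializes_iff_mem_closure, ← hrange]
      exact ⟨ζ, rfl⟩
    have h2 : x₁ ∈ Set.range (Points.map i.hom) := by rw [hrange]; exact subset_closure rfl
    obtain ⟨ζ', hζ'⟩ := h2
    have h3 : Points.map i.hom ζ ⤳ x₁ := by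
      rw [← hζ']
      exact (hζ.specializes (Set.mem_univ ζ')).map (Points.continuous_map i.hom)
    exact (h3.antisymm h1).eq
  have hp' : IsProperMor (i ≫ f).hom :=
    isProperMor_comp Z.property X.property Y.property
      (isProperMor_of_repWith_isClosedImmersion i.hom hi) hf
  have hmapζ : Points.map (i ≫ f).hom ζ = y := by
    change Points.map (i.hom ≫ f.hom) ζ = y
    rw [Points.map_comp]
    change Points.map f.hom (Points.map i.hom ζ) = y
    rw [hiζ, hfu]
  have hd' : IsDominantMor (i ≫ f).hom := by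
    change DenseRange _
    rw [DenseRange, dense_iff_closure_eq, ← Set.univ_subset_iff, ← hy.def]
    refine closure_mono ?_
    rintro _ rfl
    exact ⟨ζ, hmapζ⟩
  refine ⟨Z, i, hi, hZi, hp', hd', ?_⟩
  have h0 : HasAtMor (fun _ _ h u => Dual3.resTrdeg h u = 0) (i ≫ f).hom ζ :=
    hasAtMor_trdeg_zero_comp_closedImmersion i.hom f.hom hi ζ a b h u ha hb w hiζ.symm htr
  have hq := (trdeg_zero_iff_qfq hZi (i ≫ f) hp'.2.1.1 ζ hζ).1 h0
  have hu := (qfq_iff_unique hZi hY (i ≫ f) hd' ζ hζ y hy hp'.2.1.1).1 hq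
  exact (main10500 hZi hY (i ≫ f) hd' ζ hζ y hy hp').2 hu

end Groth.Agent.Lib.Helper3.AltSub
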