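import Mathlib.AlgebraicGeometry.Scheme
import Mathlib.AlgebraicGeometry.Restrict

set_option autoImplicit false
universe u
open CategoryTheory CategoryTheory.Limits AlgebraicGeometry Opposite TopologicalSpace

namespace Groth.Agent.Lib.Helper3

theorem isUnit_of_basicOpen_eq_top {Y : Scheme.{u}} (h : Γ(Y, ⊤)) (hh : Y.basicOpen h = ⊤) :
    IsUnit h := by
  apply Y.toRingedSpace.isUnit_of_isUnit_germ ⊤ h
  intro x hx
  have : x ∈ Y.basicOpen h := by rw [hh]; trivial
  exact (Y.mem_basicOpen h x hx).1 this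

theorem isUnit_appTop_of_range_subset {V Y : Scheme.{u}} (g : V ⟶ Y) (h : Γ(Y, ⊤))
    (hg : Set.range g ⊆ (Y.basicOpen h : Set Y)) : IsUnit (g.appTop.hom h) := by
  apply isUnit_of_basicOpen_eq_top
  rw [← Scheme.preimage_basicOpen_top]
  ext x
  simp only [Opens.coe_top, Set.mem_univ, iff_true]
  exact hg ⟨x, rfl⟩

theorem basicOpen_union {Y : Scheme.{u}} (h : Γ(Y, ⊤)) (x : Y) :
    x ∈ Y.basicOpen h ∨ x ∈ Y.basicOpen (1 - h) := by
  rw [Y.mem_basicOpen_top, Y.mem_basicOpen_top, map_sub, map_one]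
  exact IsLocalRing.isUnit_or_isUnit_one_sub_self _

end Groth.Agent.Lib.Helper3
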