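import Mathlib
import Groth.Agent.Lib.lead.SchemeDimIneqGlobal
import Groth.Prelude.Def_EGA4Misc
set_option autoImplicit false
universe u
open CategoryTheory CategoryTheory.Limits AlgebraicGeometry TopologicalSpace

namespace Groth.Agent.Lib.Helper3.BirDim

theorem main18879 {X Y : Scheme.{u}} (f : Y ⟶ X)
    [IsNoetherian X] [IsNoetherian Y] [LocallyOfFiniteType f]
    (hf : RadPt.IsBirational f) (y : Y) :
    ringKrullDim (Y.presheaf.stalk y) ≤ ringKrullDim (X.presheaf.stalk (f.base y)) := by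
  obtain ⟨n, hn⟩ := Groth.Agent.Lib.lead.SchemeDimIneqGlobal.exists_nat_trdeg f y
  have h1 := Groth.Agent.Lib.lead.SchemeDimIneq.main f y n 0 hn (by
    intro ξ hξ _
    have hξg : ξ ∈ genericPoints ↥Y := hξ
    have hfξ : f ξ ∈ genericPoints ↥X := hf.1.mapsTo hξg
    have hbij := (hf.2 (f ξ) hfξ).2 ξ rfl
    letI := (f.residueFieldMap ξ).hom.toAlgebra
    have hs : Function.Surjective (algebraMap (X.residueField (f ξ)) (Y.residueField ξ)) :=
      hbij.2
    have : Algebra.IsAlgebraic (X.residueField (f ξ)) (Y.residueField ξ) :=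
      ⟨fun a => by
        obtain ⟨b, rfl⟩ := hs a
        exact isAlgebraic_algebraMap b⟩
    have h0 : Algebra.trdeg (X.residueField (f ξ)) (Y.residueField ξ) = 0 := trdeg_eq_zero
    rw [h0]
    simp)
  simp only [Nat.cast_zero, add_zero] at h1
  refine le_trans ?_ h1
  have h2 : (0 : WithBot ℕ∞) ≤ (n : WithBot ℕ∞) := by exact_mod_cast (zero_le : (0 : ℕ∞) ≤ (n : ℕ∞))
  calc ringKrullDim (Y.presheaf.stalk y) = ringKrullDim (Y.presheaf.stalk y) + 0 := (add_zero _).symm
    _ ≤ _ := add_le_add_right h2 _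
end Groth.Agent.Lib.Helper3.BirDim
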