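import Groth.Prelude.Def_W4stk3decentspacesp2Birat
import Groth.Prelude.Def_AlgSp4
import Groth.Agent.Lib.Helper3.DecSober1

set_option autoImplicit false

universe u
open CategoryTheory CategoryTheory.Limits AlgebraicGeometry Topology TopologicalSpace
open AlgSp

namespace Groth.Agent.Lib.Helper3.Birat

variable {S : Scheme.{u}}

/-- In a quasi-sober space every point is a specialization of a generic point of an irreducible
component. -/
theorem exists_genericPoint_specializes {α : Type*} [TopologicalSpace α] [QuasiSober α] (y : α) :
    ∃ η ∈ genericPoints α, η ⤳ y := by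
  have hC : irreducibleComponent y ∈ irreducibleComponents α := irreducibleComponent_mem_irreducibleComponents y
  have hirr : IsIrreducible (irreducibleComponent y) := isIrreducible_irreducibleComponent
  have hcl : IsClosed (irreducibleComponent y) := isClosed_irreducibleComponent
  obtain ⟨η, hη⟩ := QuasiSober.sober hirr hcl
  refine ⟨η, ?_, ?_⟩
  · show closure {η} ∈ irreducibleComponents α
    rw [hη]; exact hC
  · rw [specializes_iff_mem_closure, hη]
    exact mem_irreducibleComponent

/-- **S10439.** -/
theorem main10439 {X Y : AlgSp.Space S} (f : X ⟶ Y) (hY : AlgSp.IsDecent Y.obj)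
    (hf : W4stk3decentspacesp2.IsBirational f.hom) : AlgSp.IsDominantMor f.hom := by
  have : QuasiSober (Points Y.obj) := DecDense.quasiSober_points_of_isDecent Y hY
  show DenseRange (Points.map f.hom)
  intro y
  obtain ⟨η, hη, hsp⟩ := exists_genericPoint_specializes y
  obtain ⟨x, -, hx⟩ := hf.bijOn.surjOn hη
  have : η ∈ closure (Set.range (Points.map f.hom)) := subset_closure ⟨x, hx⟩
  exact hsp.mem_closed isClosed_closure this

end Groth.Agent.Lib.Helper3.Birat
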