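import Mathlib.RingTheory.LocalRing.ResidueField.Basic
import Mathlib.RingTheory.IntegralClosure.IsIntegralClosure.Basic
import Mathlib.RingTheory.Ideal.Quotient.Operations

set_option autoImplicit false

namespace Groth.Agent.Lib.Helper3.Birat

open IsLocalRing

/-- If `B → A₁ → A` are homomorphisms of local rings whose composite is local with integral
residue field extension, then `A₁ → A` is local. -/
theorem isLocalHom_of_comp_isIntegral {B A₁ A : Type*} [CommRing B] [CommRing A₁] [CommRing A]
    [IsLocalRing B] [IsLocalRing A₁] [IsLocalRing A] (φ₁ : B →+* A₁) (l : A₁ →+* A)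
    [IsLocalHom (l.comp φ₁)]
    (halg : (ResidueField.map (l.comp φ₁)).IsIntegral) : IsLocalHom l := by
  set p' : Ideal A₁ := (maximalIdeal A).comap l with hp'
  have hp'prime : p'.IsPrime := Ideal.comap_isPrime l (maximalIdeal A)
  -- the map `k → A₁ / p'`
  have h1 : ∀ b ∈ maximalIdeal B, ((Ideal.Quotient.mk p').comp φ₁) b = 0 := by
    intro b hb
    rw [RingHom.comp_apply, Ideal.Quotient.eq_zero_iff_mem, hp', Ideal.mem_comap]
    exact map_nonunit (l.comp φ₁) b hb
  let f₀ : ResidueField B →+* A₁ ⧸ p' := Ideal.Quotient.lift (maximalIdeal B) _ h1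
  have h2 : ∀ a ∈ p', ((residue A).comp l) a = 0 := by
    intro a ha
    rw [RingHom.comp_apply, residue_eq_zero_iff]
    exact ha
  let g₀ : A₁ ⧸ p' →+* ResidueField A := Ideal.Quotient.lift p' _ h2
  have hg₀ : Function.Injective g₀ := by
    apply RingHom.lift_injective_of_ker_le_ideal
    intro a ha
    rw [RingHom.mem_ker, RingHom.comp_apply, residue_eq_zero_iff] at ha
    exact ha
  have hcomp : g₀.comp f₀ = ResidueField.map (l.comp φ₁) := by
    apply Ideal.Quotient.ringHom_ext
    ext b
    rfl
  have hf₀ : f₀.IsIntegral := by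
    apply RingHom.IsIntegral.tower_bot f₀ g₀ hg₀
    rw [hcomp]; exact halg
  have hfield : IsField (A₁ ⧸ p') := by
    let _ : Algebra (ResidueField B) (A₁ ⧸ p') := f₀.toAlgebra
    have : Algebra.IsIntegral (ResidueField B) (A₁ ⧸ p') := ⟨hf₀⟩
    exact isField_of_isIntegral_of_isField' (Field.toIsField (ResidueField B))
  have hmax : p'.IsMaximal := Ideal.Quotient.maximal_of_isField p' hfield
  have : p' = maximalIdeal A₁ := eq_maximalIdeal hmax
  exact ((local_hom_TFAE l).out 0 4).2 this

end Groth.Agent.Lib.Helper3.Birat
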