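import Mathlib.AlgebraicGeometry.Stalk
import Mathlib.AlgebraicGeometry.ResidueField
import Groth.Agent.Lib.Helper3.Birat2

set_option autoImplicit false

universe u
open CategoryTheory CategoryTheory.Limits AlgebraicGeometry Topology TopologicalSpace

namespace Groth.Agent.Lib.Helper3.Birat

/-- If `stalkSpecializes` is a local homomorphism, the two points agree. -/
theorem eq_of_isLocalHom_stalkSpecializes {W : Scheme.{u}} {w w₁ : W} (hs : w ⤳ w₁)
    (hl : IsLocalHom (W.presheaf.stalkSpecializes hs).hom) : w = w₁ := by
  have h1 := Scheme.SpecMap_stalkSpecializes_fromSpecStalk hs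
  have h2 : (Spec.map (W.presheaf.stalkSpecializes hs) ≫ W.fromSpecStalk w₁)
      (IsLocalRing.closedPoint _) = (W.fromSpecStalk w) (IsLocalRing.closedPoint _) := by
    rw [h1]
  rw [Scheme.fromSpecStalk_closedPoint, Scheme.Hom.comp_apply] at h2
  have h3 : (Spec.map (W.presheaf.stalkSpecializes hs)) (IsLocalRing.closedPoint _) =
      IsLocalRing.closedPoint _ := by
    have := hl
    exact IsLocalRing.comap_closedPoint (W.presheaf.stalkSpecializes hs).hom
  rw [h3, Scheme.fromSpecStalk_closedPoint] at h2
  exact h2.symm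

/-- **Lemma R.** A specialization `w ⤳ w₁` inside a fibre of `h` is trivial as soon as the residue
field extension at `w` is integral. -/
theorem eq_of_specializes_of_isIntegral_residueFieldMap {W V : Scheme.{u}} (h : W ⟶ V)
    {w w₁ : W} (hs : w ⤳ w₁) (he : h w = h w₁)
    (halg : (h.residueFieldMap w).hom.IsIntegral) : w = w₁ := by
  apply eq_of_isLocalHom_stalkSpecializes hs
  have hnat := Scheme.Hom.stalkSpecializes_stalkMap h w w₁ hs
  -- the specialization map on `V` is an isomorphism
  set e := V.presheaf.stalkSpecializes (h.base.hom.map_specializes hs) with he'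
  have heiso : IsIso e := by
    have : e = (V.presheaf.stalkCongr (Inseparable.of_eq he.symm)).hom := rfl
    rw [this]; infer_instance
  have hloc : IsLocalHom ((W.presheaf.stalkSpecializes hs).hom.comp (h.stalkMap w₁).hom) := by
    have : (W.presheaf.stalkSpecializes hs).hom.comp (h.stalkMap w₁).hom =
        (h.stalkMap w).hom.comp e.hom := by
      rw [← CommRingCat.hom_comp, ← CommRingCat.hom_comp, hnat]
    rw [this]
    haveI : IsLocalHom e.hom := isLocalHom_of_isIso e
    exact RingHom.isLocalHom_comp _ _
  haveI := hloc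
  apply isLocalHom_of_comp_isIntegral (h.stalkMap w₁).hom (W.presheaf.stalkSpecializes hs).hom
  have heq : (W.presheaf.stalkSpecializes hs).hom.comp (h.stalkMap w₁).hom =
      (h.stalkMap w).hom.comp e.hom := by
    rw [← CommRingCat.hom_comp, ← CommRingCat.hom_comp, hnat]
  haveI : IsLocalHom e.hom := isLocalHom_of_isIso e
  have key : ∀ (f g : ↑(V.presheaf.stalk (h w₁)) →+* ↑(W.presheaf.stalk w)) [IsLocalHom f]
      [IsLocalHom g], f = g → IsLocalRing.ResidueField.map f = IsLocalRing.ResidueField.map g := by
    intro f g _ _ hfg; subst hfg; rfl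
  haveI : IsLocalHom ((h.stalkMap w).hom.comp e.hom) := RingHom.isLocalHom_comp _ _
  rw [key _ _ heq, IsLocalRing.ResidueField.map_comp]
  refine RingHom.IsIntegral.trans _ _ ?_ halg
  apply RingHom.isIntegral_of_surjective
  intro z
  obtain ⟨z, rfl⟩ := IsLocalRing.residue_surjective z
  refine ⟨IsLocalRing.residue _ ((inv e).hom z), ?_⟩
  rw [IsLocalRing.ResidueField.map_residue]
  congr 1
  exact congrArg (fun φ => φ.hom z) (IsIso.inv_hom_id e)

end Groth.Agent.Lib.Helper3.Birat
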