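import Mathlib.AlgebraicGeometry.Stalk
import Mathlib.AlgebraicGeometry.AffineScheme

set_option autoImplicit false

universe u
open CategoryTheory CategoryTheory.Limits AlgebraicGeometry Topology TopologicalSpace

namespace Groth.Agent.Lib.Helper3.Birat

/-- **Lemma F.** A morphism all of whose points are generizations of `x` factors through
`Spec 𝒪_{X,x}`. -/
theorem exists_factor_fromSpecStalk {T X : Scheme.{u}} (ξ : T ⟶ X) (x : X)
    (h : ∀ t : T, ξ t ⤳ x) : ∃ ρ : T ⟶ Spec (X.presheaf.stalk x), ρ ≫ X.fromSpecStalk x = ξ := by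
  obtain ⟨_, ⟨(A : X.Opens), hA, rfl⟩, hxA, -⟩ := (X.isBasis_affineOpens).exists_subset_of_mem_open
    (Set.mem_univ x) isOpen_univ
  have hmem : ∀ t : T, ξ t ∈ A := fun t => (h t).mem_open A.isOpen hxA
  have hle : (⊤ : T.Opens) ≤ ξ ⁻¹ᵁ A := fun t _ => hmem t
  set φ : Γ(X, A) ⟶ Γ(T, ⊤) := ξ.appLE A ⊤ hle with hφ
  have hξ : ξ = T.toSpecΓ ≫ Spec.map φ ≫ hA.fromSpec := by
    haveI : IsIso (⊤ : T.Opens).ι := (inferInstance : IsIso T.topIso.hom)
    rw [← cancel_epi (⊤ : T.Opens).ι]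
    have h1 := Scheme.Opens.toSpecΓ_SpecMap_appLE ξ A ⊤ hle
    rw [Scheme.Opens.toSpecΓ_top, Category.assoc] at h1
    have hA' : IsAffineOpen A := hA
    calc (⊤ : T.Opens).ι ≫ ξ = ξ.resLE A ⊤ hle ≫ Scheme.Opens.ι A := (Scheme.Hom.resLE_comp_ι ξ hle).symm
      _ = ξ.resLE A ⊤ hle ≫ Scheme.Opens.toSpecΓ A ≫ hA'.fromSpec := by rw [hA'.toSpecΓ_fromSpec]
      _ = ((⊤ : T.Opens).ι ≫ T.toSpecΓ ≫ Spec.map φ) ≫ hA'.fromSpec := by
          rw [← Category.assoc, ← h1]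
      _ = _ := by simp only [Category.assoc]
  -- units
  letI : Algebra Γ(X, A) (X.presheaf.stalk x) := TopCat.Presheaf.algebra_section_stalk X.presheaf ⟨x, hxA⟩
  haveI hloc : IsLocalization.AtPrime (X.presheaf.stalk x) (hA.primeIdealOf ⟨x, hxA⟩).asIdeal :=
    hA.isLocalization_stalk ⟨x, hxA⟩
  have hunits : ∀ r : (hA.primeIdealOf ⟨x, hxA⟩).asIdeal.primeCompl, IsUnit (φ.hom r) := by
    intro r
    have hr : IsUnit (X.presheaf.germ A x hxA (r : Γ(X, A))) :=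
      IsLocalization.map_units (X.presheaf.stalk x) r
    apply RingedSpace.isUnit_of_isUnit_germ T.toRingedSpace ⊤
    intro t ht
    have h2 : IsUnit (X.presheaf.germ A (ξ t) (hmem t) (r : Γ(X, A))) := by
      rw [← TopCat.Presheaf.germ_stalkSpecializes_apply X.presheaf hxA (h t)]
      exact hr.map _
    have h3 := Scheme.Hom.germ_stalkMap_apply ξ A t (hmem t) (r : Γ(X, A))
    have h4 : (T.presheaf.germ ⊤ t ht) (φ.hom (r : Γ(X, A))) =
        T.presheaf.germ (ξ ⁻¹ᵁ A) t (hmem t) (ξ.app A (r : Γ(X, A))) := by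
      rw [hφ, Scheme.Hom.appLE]
      exact TopCat.Presheaf.germ_res_apply T.presheaf (homOfLE hle) t ht _
    rw [show (T.toRingedSpace.presheaf.germ ⊤ t ht) (φ.hom (r : Γ(X, A))) =
      (T.presheaf.germ ⊤ t ht) (φ.hom (r : Γ(X, A))) from rfl, h4, ← h3]
    exact h2.map _
  let ψ : X.presheaf.stalk x →+* Γ(T, ⊤) := IsLocalization.lift (M := (hA.primeIdealOf ⟨x, hxA⟩).asIdeal.primeCompl) hunits
  have hψ : X.presheaf.germ A x hxA ≫ CommRingCat.ofHom ψ = φ := by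
    ext r
    exact IsLocalization.lift_eq hunits r
  refine ⟨T.toSpecΓ ≫ Spec.map (CommRingCat.ofHom ψ), ?_⟩
  rw [← hA.fromSpecStalk_eq_fromSpecStalk hxA, IsAffineOpen.fromSpecStalk, Category.assoc,
    ← Spec.map_comp_assoc, hψ, ← hξ]

end Groth.Agent.Lib.Helper3.Birat
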