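import Groth.Prelude.Def_W4stk3decentspacesp2Birat
import Groth.Agent.Lib.Helper3.AlgSpChartPts
import Groth.Agent.Lib.Helper3.AlgSpZarDecent

set_option autoImplicit false

universe u
open CategoryTheory CategoryTheory.Limits AlgebraicGeometry Topology TopologicalSpace
open AlgSp

namespace Groth.Agent.Lib.Helper3.Birat

variable {S : Scheme.{u}}

theorem isIso_stalkMap_of_eq {A B : Scheme.{u}} {f g : A ⟶ B} (e : f = g) (x : A)
    (h : IsIso (f.stalkMap x)) : IsIso (g.stalkMap x) := by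
  subst e; exact h

theorem isIso_stalkMap_of_point_eq {A B : Scheme.{u}} (f : A ⟶ B) {x x' : A} (e : x = x')
    (h : IsIso (f.stalkMap x)) : IsIso (f.stalkMap x') := by
  subst e; exact h

/-- **Lemma T.** Transfer of the local ring isomorphism of a birational chart pair to a prescribed
open subscheme of the target. -/
theorem exists_chart_over {X Y : Sp S} (f : X ⟶ Y) {U' V' : Over S} (a' : (yon S).obj U' ⟶ X)
    (b' : (yon S).obj V' ⟶ Y) (g : U' ⟶ V') (u : ↥U'.left)
    (ha' : RepWith @IsOpenImmersion a') (hb' : RepWith @IsOpenImmersion b')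
    (hcomm : a' ≫ f = (yon S).map g ≫ b') (hiso : IsIso (g.left.stalkMap u))
    {V : Over S} (b : (yon S).obj V ⟶ Y) (hb : RepWith @IsOpenImmersion b) (v : ↥V.left)
    (hv : Points.ofPt b v = Points.map f (Points.ofPt a' u)) :
    ∃ (U₁ : Over S) (a₁ : (yon S).obj U₁ ⟶ X) (g₁ : U₁ ⟶ V) (u₁ : ↥U₁.left),
      RepWith @IsOpenImmersion a₁ ∧ a₁ ≫ f = (yon S).map g₁ ≫ b ∧
        Points.ofPt a₁ u₁ = Points.ofPt a' u ∧ g₁.left u₁ = v ∧ IsIso (g₁.left.stalkMap u₁) := by
  obtain ⟨U₁, g₁, p₁, sq1⟩ := exists_pullback_charts b hb.1 (a' ≫ f)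
  have hp₁ : IsOpenImmersion p₁.left := hb.2 (a' ≫ f) ((yon S).map g₁) p₁ sq1
  rw [Points.map_ofPt] at hv
  obtain ⟨u₁, hu₁v, hu₁u⟩ := exists_of_ofPt_eq_of_isPullback sq1 v u hv
  obtain ⟨V'', q, q', sq2⟩ := exists_pullback_charts b hb.1 b'
  have hq' : IsOpenImmersion q'.left := hb.2 b' ((yon S).map q) q' sq2
  have hq : IsOpenImmersion q.left := hb'.2 b ((yon S).map q') q sq2.flip
  have hw : (yon S).map g₁ ≫ b = (yon S).map (p₁ ≫ g) ≫ b' := by
    rw [Functor.map_comp, Category.assoc, ← hcomm, sq1.w]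
  obtain ⟨m, hm⟩ := (yon S).map_surjective (sq2.lift _ _ hw)
  have hm1 : m ≫ q = g₁ := by
    apply (yon S).map_injective
    rw [Functor.map_comp, hm, sq2.lift_fst]
  have hm2 : m ≫ q' = p₁ ≫ g := by
    apply (yon S).map_injective
    rw [Functor.map_comp, hm, sq2.lift_snd]
  refine ⟨U₁, (yon S).map p₁ ≫ a', g₁, u₁, ?_, ?_, ?_, hu₁v, ?_⟩
  · refine (RepWith @IsOpenImmersion).comp_mem _ _ ?_ ha'
    rw [repWith_yon_map_iff]
    exact hp₁
  · rw [Category.assoc, sq1.w]
  · rw [Points.ofPt_yon_map_comp, hu₁u]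
  · -- stalk isomorphism
    have h1 : IsIso ((p₁.left ≫ g.left).stalkMap u₁) := by
      rw [Scheme.Hom.stalkMap_comp]
      haveI : IsIso (g.left.stalkMap (p₁.left u₁)) := isIso_stalkMap_of_point_eq g.left hu₁u.symm hiso
      haveI : IsIso (p₁.left.stalkMap u₁) := inferInstance
      exact IsIso.comp_isIso' ‹_› ‹_›
    have h2 : IsIso ((m.left ≫ q'.left).stalkMap u₁) :=
      isIso_stalkMap_of_eq (by rw [← Over.comp_left, ← Over.comp_left, hm2]) u₁ h1
    rw [Scheme.Hom.stalkMap_comp] at h2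
    haveI : IsIso (q'.left.stalkMap (m.left u₁)) := inferInstance
    have h3 : IsIso (m.left.stalkMap u₁) :=
      @IsIso.of_isIso_comp_left _ _ _ _ _ (q'.left.stalkMap (m.left u₁)) (m.left.stalkMap u₁) ‹_› h2
    have h4 : IsIso ((m.left ≫ q.left).stalkMap u₁) := by
      rw [Scheme.Hom.stalkMap_comp]
      haveI : IsIso (q.left.stalkMap (m.left u₁)) := inferInstance
      exact IsIso.comp_isIso' ‹_› h3
    exact isIso_stalkMap_of_eq (by rw [← Over.comp_left, hm1]) u₁ h4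

end Groth.Agent.Lib.Helper3.Birat
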