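import Groth.Agent.Lib.Helper3.Birat1
import Groth.Agent.Lib.Helper3.Birat3
import Groth.Agent.Lib.Helper3.Birat5
import Groth.Agent.Lib.Helper3.AlgSpGenLift
import Groth.Agent.Lib.Helper3.AlgSpIntegralDim
import Groth.Agent.S10338
import Mathlib.AlgebraicGeometry.Morphisms.FormallyUnramified
import Mathlib.AlgebraicGeometry.Morphisms.Etale

set_option autoImplicit false

universe u
open CategoryTheory CategoryTheory.Limits AlgebraicGeometry Topology TopologicalSpace
open AlgSp

namespace Groth.Agent.Lib.Helper3.Birat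

variable {S : Scheme.{u}}

theorem eq_of_specializes_genericPoint {α : Type*} [TopologicalSpace α] [T0Space α] {y z : α}
    (hy : y ∈ genericPoints α) (h : z ⤳ y) : z = y := by
  have h1 : closure {y} ⊆ closure {z} := specializes_iff_closure_subset.1 h
  have h2 : IsIrreducible (closure ({z} : Set α)) := isIrreducible_singleton.closure
  have h3 : closure {z} ⊆ closure {y} := hy.2 h2 h1
  exact ((specializes_iff_closure_subset.2 h3).antisymm h).eq.symm

/-- Residue field map of a morphism with an isomorphism on stalks is integral. -/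
theorem isIntegral_residueFieldMap_of_isIso_stalkMap {A B : Scheme.{u}} (g : A ⟶ B) (x : A)
    (h : IsIso (g.stalkMap x)) : (g.residueFieldMap x).hom.IsIntegral := by
  apply RingHom.isIntegral_of_surjective
  intro z
  obtain ⟨z, rfl⟩ := IsLocalRing.residue_surjective z
  refine ⟨IsLocalRing.residue _ ((inv (g.stalkMap x)).hom z), ?_⟩
  change IsLocalRing.ResidueField.map (g.stalkMap x).hom _ = _
  rw [IsLocalRing.ResidueField.map_residue]
  congr 1
  exact congrArg (fun φ => φ.hom z) (IsIso.inv_hom_id (g.stalkMap x))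

theorem isIntegral_residueFieldMap_of_etale {A B : Scheme.{u}} (t : A ⟶ B) [Etale t] (x : A) :
    (t.residueFieldMap x).hom.IsIntegral := by
  letI : Algebra (B.residueField (t x)) (A.residueField x) := (t.residueFieldMap x).hom.toAlgebra
  have : Algebra.IsSeparable (B.residueField (t x)) (A.residueField x) := inferInstance
  have : Algebra.IsIntegral (B.residueField (t x)) (A.residueField x) := inferInstance
  exact this.isIntegral

theorem isIntegral_residueFieldMap_comp {A B C : Scheme.{u}} (f : A ⟶ B) (g : B ⟶ C) (x : A)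
    (hf : (f.residueFieldMap x).hom.IsIntegral) (hg : (g.residueFieldMap (f x)).hom.IsIntegral) :
    ((f ≫ g).residueFieldMap x).hom.IsIntegral := by
  rw [Scheme.residueFieldMap_comp]
  exact RingHom.IsIntegral.trans _ _ hg hf

theorem isIntegral_residueFieldMap_of_comp {A B C : Scheme.{u}} (f : A ⟶ B) (g : B ⟶ C) (x : A)
    (h : ((f ≫ g).residueFieldMap x).hom.IsIntegral) :
    (g.residueFieldMap (f x)).hom.IsIntegral := by
  rw [Scheme.residueFieldMap_comp] at h
  exact RingHom.IsIntegral.tower_bot (g.residueFieldMap (f x)).hom (f.residueFieldMap x).hom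
    (RingHom.injective _) h

/-- **(α)** Over the image of a generic point at which `f` is a local isomorphism (on open
subschemes), the fibre of `|X| → |Y|` is a single point. -/
theorem eq_of_map_eq {X Y : AlgSp.Space S} (f : X ⟶ Y) (hX : IsDecent X.obj) (hY : IsDecent Y.obj)
    (hf : W4stk3decentspacesp2.IsBirational f.hom) (x : Points X.obj)
    (hx : x ∈ genericPoints (Points X.obj))
    {U₁ V : Over S} (a₁ : (yon S).obj U₁ ⟶ X.obj) (b : (yon S).obj V ⟶ Y.obj) (g₁ : U₁ ⟶ V)
    (u₁ : ↥U₁.left) (ha₁ : RepWith @IsOpenImmersion a₁) (hb : RepWith @IsOpenImmersion b)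
    (hcomm : a₁ ≫ f.hom = (yon S).map g₁ ≫ b) (hu₁ : Points.ofPt a₁ u₁ = x)
    (hiso : IsIso (g₁.left.stalkMap u₁))
    (x₁ : Points X.obj) (h : Points.map f.hom x₁ = Points.map f.hom x) : x₁ = x := by
  have hqsX : QuasiSober (Points X.obj) := DecDense.quasiSober_points_of_isDecent X hX
  have hT0Y : T0Space (Points Y.obj) := Groth.Agent.S10338.result Y hY
  -- x specializes to x₁
  have hsp : x ⤳ x₁ := by
    obtain ⟨x', hx', hx'sp⟩ := exists_genericPoint_specializes x₁
    have h1 : Points.map f.hom x' ⤳ Points.map f.hom x := by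
      rw [← h]; exact hx'sp.map (Points.continuous_map f.hom)
    have h2 : Points.map f.hom x' = Points.map f.hom x :=
      eq_of_specializes_genericPoint (hf.bijOn.mapsTo hx) h1
    have h3 : x' = x := hf.bijOn.injOn hx' hx h2
    rw [← h3]; exact hx'sp
  -- a chart at x₁
  obtain ⟨W, e, w₁, hWaff, he, hw₁⟩ := exists_affine_chart_through X.property x₁
  obtain ⟨p, hp, -, hpq⟩ := hX x
  obtain ⟨w, hww₁, hw⟩ := exists_specializes_lift_of_qc_point x₁ p (hp ▸ hsp) hpq e he w₁ hw₁
  rw [hp] at hw
  -- the open subscheme Ŵ of W over V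
  obtain ⟨Wh, hh, pW, sqW⟩ := exists_pullback_charts b hb.1 (e ≫ f.hom)
  have hpW : IsOpenImmersion pW.left := hb.2 (e ≫ f.hom) ((yon S).map hh) pW sqW
  have hbv : Points.ofPt b (g₁.left u₁) = Points.map f.hom x := by
    rw [← Points.ofPt_yon_map_comp, ← hcomm, ← Points.map_ofPt, hu₁]
  obtain ⟨wh₁, hwh₁v, hwh₁w⟩ := exists_of_ofPt_eq_of_isPullback sqW (g₁.left u₁) w₁
    (by rw [hbv, ← Points.map_ofPt, hw₁, h])
  obtain ⟨wh, hwhv, hwhw⟩ := exists_of_ofPt_eq_of_isPullback sqW (g₁.left u₁) w
    (by rw [hbv, ← Points.map_ofPt, hw])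
  have hspW : wh ⤳ wh₁ := by
    rw [← pW.left.isOpenEmbedding.isInducing.specializes_iff, hwhw, hwh₁w]
    exact hww₁
  -- the open subscheme W₁ of W over U₁
  obtain ⟨W₁, t, r, sq⟩ := exists_pullback_charts a₁ ha₁.1 e
  have hr : IsOpenImmersion r.left := ha₁.2 e ((yon S).map t) r sq
  have ht : Etale t.left := he.2 a₁ ((yon S).map r) t sq.flip
  obtain ⟨wt, hwtu, hwtw⟩ := exists_of_ofPt_eq_of_isPullback sq u₁ w (by rw [hu₁, hw])
  have hwn : (yon S).map (t ≫ g₁) ≫ b = (yon S).map r ≫ e ≫ f.hom := by
    rw [Functor.map_comp, Category.assoc, ← hcomm, ← Category.assoc, sq.w, Category.assoc]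
  obtain ⟨n, hn⟩ := (yon S).map_surjective (sqW.lift _ _ hwn)
  have hn1 : n ≫ hh = t ≫ g₁ := by
    apply (yon S).map_injective
    rw [Functor.map_comp, hn, sqW.lift_fst]
  have hn2 : n ≫ pW = r := by
    apply (yon S).map_injective
    rw [Functor.map_comp, hn, sqW.lift_snd]
  have hnl : n.left ≫ pW.left = r.left := by rw [← Over.comp_left, hn2]
  have hnopen : IsOpenImmersion n.left := by
    haveI : IsOpenImmersion (n.left ≫ pW.left) := hnl ▸ hr
    exact IsOpenImmersion.of_comp n.left pW.left
  have hnwt : n.left wt = wh := by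
    apply pW.left.isOpenEmbedding.injective
    rw [← Scheme.Hom.comp_apply, hnl, hwtw, hwhw]
  -- integrality of the residue field extension at wh
  have hint : (hh.left.residueFieldMap wh).hom.IsIntegral := by
    subst hnwt
    have h1 : ((n.left ≫ hh.left).residueFieldMap wt).hom.IsIntegral := by
      have e1 : n.left ≫ hh.left = t.left ≫ g₁.left := by
        rw [← Over.comp_left, ← Over.comp_left, hn1]
      rw [e1]
      exact isIntegral_residueFieldMap_comp t.left g₁.left wt
        (isIntegral_residueFieldMap_of_etale t.left wt)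
        (isIntegral_residueFieldMap_of_isIso_stalkMap g₁.left _
          (isIso_stalkMap_of_point_eq g₁.left hwtu.symm hiso))
    exact isIntegral_residueFieldMap_of_comp n.left hh.left wt h1
  have heq : wh = wh₁ :=
    eq_of_specializes_of_isIntegral_residueFieldMap hh.left hspW (by rw [hwhv, hwh₁v]) hint
  rw [← hw₁, ← hwh₁w, ← heq, hwhw, hw]

end Groth.Agent.Lib.Helper3.Birat
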