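import Groth.Agent.Lib.Helper3.Birat6
import Groth.Agent.Lib.Helper3.Birat4
import Groth.Agent.Lib.Helper3.AlgSpFibre
import Groth.Agent.Lib.Helper3.SchImMain

set_option autoImplicit false

universe u
open CategoryTheory CategoryTheory.Limits AlgebraicGeometry Topology TopologicalSpace
open AlgSp

namespace Groth.Agent.Lib.Helper3.Birat

variable {S : Scheme.{u}}

theorem ofPt_injective_of_isOpenImmersion {X : Sp S} {U : Over S} (a : (yon S).obj U ⟶ X)
    (ha : RepWith @IsOpenImmersion a) : Function.Injective (Points.ofPt a) := by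
  haveI := mono_of_repWith_isOpenImmersion a ha
  rw [Points.ofPt_eq]
  exact (Points.map_injective_of_mono a).comp (Points.schemeHomeo U).injective

/-- Core of S10434, with `v = g₁ u₁`. -/
theorem main10434_aux {X Y : AlgSp.Space S} (f : X ⟶ Y)
    (hX : AlgSp.IsDecent X.obj) (hY : AlgSp.IsDecent Y.obj)
    (hf : W4stk3decentspacesp2.IsBirational f.hom) {V : Over S} (b : (AlgSp.yon S).obj V ⟶ Y.obj)
    (hb : AlgSp.RepWith @IsOpenImmersion b)
    (x : Points X.obj) (hx : x ∈ genericPoints (Points X.obj))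
    {U₁ : Over S} (a₁ : (yon S).obj U₁ ⟶ X.obj) (g₁ : U₁ ⟶ V) (u₁ : ↥U₁.left)
    (ha₁ : RepWith @IsOpenImmersion a₁) (hcomm₁ : a₁ ≫ f.hom = (yon S).map g₁ ≫ b)
    (hu₁ : Points.ofPt a₁ u₁ = x) (hiso₁ : IsIso (g₁.left.stalkMap u₁))
    (hxy : Points.map f.hom x = Points.ofPt b (g₁.left u₁))
    (hv : AlgSp.Points.ofPt b (g₁.left u₁) ∈ genericPoints (AlgSp.Points Y.obj)) {P : AlgSp.Sp S}
    (fst : P ⟶ X.obj)
    (snd : P ⟶ (AlgSp.yon S).obj (Over.mk ((V.left.fromSpecStalk (g₁.left u₁)) ≫ V.hom)))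
    (hP : IsPullback fst snd f.hom ((AlgSp.yon S).map (Over.homMk (V.left.fromSpecStalk (g₁.left u₁)) rfl) ≫ b)) :
    IsIso snd := by
  have hT0Y : T0Space (Points Y.obj) := Groth.Agent.S10338.result Y hY
  -- the section
  set θ := Spec.map (g₁.left.stalkMap u₁) with hθ
  haveI : IsIso θ := by rw [hθ]; infer_instance
  set i := U₁.left.fromSpecStalk u₁ with hi
  have hnat : θ ≫ (V.left.fromSpecStalk (g₁.left u₁)) = i ≫ g₁.left := Scheme.SpecMap_stalkMap_fromSpecStalk g₁.left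
  have hs₀w : (inv θ ≫ i) ≫ U₁.hom = (V.left.fromSpecStalk (g₁.left u₁)) ≫ V.hom := by
    rw [← Over.w g₁, Category.assoc, ← Category.assoc i, ← hnat, Category.assoc,
      IsIso.inv_hom_id_assoc]
  let s₀ : Over.mk ((V.left.fromSpecStalk (g₁.left u₁)) ≫ V.hom) ⟶ U₁ := Over.homMk (inv θ ≫ i) hs₀w
  have hs₀g : s₀ ≫ g₁ = (Over.homMk (V.left.fromSpecStalk (g₁.left u₁)) rfl : Over.mk ((V.left.fromSpecStalk (g₁.left u₁)) ≫ V.hom) ⟶ V) := by
    apply Over.OverMorphism.ext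
    change (inv θ ≫ i) ≫ g₁.left = (V.left.fromSpecStalk (g₁.left u₁))
    rw [Category.assoc, ← hnat, IsIso.inv_hom_id_assoc]
  let s : (yon S).obj (Over.mk ((V.left.fromSpecStalk (g₁.left u₁)) ≫ V.hom)) ⟶ X.obj := (yon S).map s₀ ≫ a₁
  have hsf : s ≫ f.hom = (yon S).map (Over.homMk (V.left.fromSpecStalk (g₁.left u₁)) rfl : Over.mk ((V.left.fromSpecStalk (g₁.left u₁)) ≫ V.hom) ⟶ V) ≫ b := by
    change ((yon S).map s₀ ≫ a₁) ≫ f.hom = _
    rw [Category.assoc, hcomm₁, ← Category.assoc, ← Functor.map_comp, hs₀g]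
  have hsw : s ≫ f.hom = 𝟙 _ ≫ (yon S).map (Over.homMk (V.left.fromSpecStalk (g₁.left u₁)) rfl : Over.mk ((V.left.fromSpecStalk (g₁.left u₁)) ≫ V.hom) ⟶ V) ≫ b := by
    rw [Category.id_comp, hsf]
  let σ := hP.lift s (𝟙 _) hsw
  have hσ1 : σ ≫ fst = s := hP.lift_fst _ _ _
  have hσ2 : σ ≫ snd = 𝟙 _ := hP.lift_snd _ _ _
  -- the key equality
  have hkey : snd ≫ s = fst := by
    have hPalg : IsAlgSpace P :=
      isAlgSpace_of_isPullback' Y.property X.property (IsAlgSpace.yon_obj _) hP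
    obtain ⟨T, c, hce, hcs⟩ := hPalg.atlas
    haveI : Epi c := SchIm.epi_of_etale_surjective c hce hcs
    rw [← cancel_epi c]
    obtain ⟨τ, hτ⟩ := (yon S).map_surjective (c ≫ snd)
    -- the points of `T` all map to `x`
    have hpts : ∀ t : ↥T.left, Points.ofPt (c ≫ fst) t = x := by
      intro t
      apply eq_of_map_eq f hX hY hf x hx a₁ b g₁ u₁ ha₁ hb hcomm₁ hu₁ hiso₁
      rw [hxy, Points.map_ofPt, Category.assoc, hP.w, ← Category.assoc c, ← hτ,
        ← Category.assoc, ← Functor.map_comp, Points.ofPt_yon_map_comp]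
      apply eq_of_specializes_genericPoint hv
      apply Specializes.map _ (Points.continuous_ofPt b)
      have : (τ ≫ (Over.homMk (V.left.fromSpecStalk (g₁.left u₁)) rfl : Over.mk ((V.left.fromSpecStalk (g₁.left u₁)) ≫ V.hom) ⟶ V)).left t ∈ Set.range (V.left.fromSpecStalk (g₁.left u₁)) :=
        ⟨τ.left t, rfl⟩
      rw [Scheme.range_fromSpecStalk] at this
      exact this
    have hrange : Set.range (Points.map (c ≫ fst)) ⊆ Set.range (Points.map a₁) := by
      rintro _ ⟨z, rfl⟩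
      obtain ⟨t, rfl⟩ := (Points.schemeHomeo T).surjective z
      refine ⟨Points.schemeHomeo U₁ u₁, ?_⟩
      have h1 := hpts t
      rw [Points.ofPt_eq_map_ofScheme] at h1 hu₁
      exact hu₁.trans h1.symm
    obtain ⟨g', hg'⟩ := exists_factor_of_range_subset a₁ ha₁ (c ≫ fst) hrange
    obtain ⟨ξ₁, rfl⟩ := (yon S).map_surjective g'
    have hξ₁pt : ∀ t : ↥T.left, ξ₁.left t = u₁ := by
      intro t
      apply ofPt_injective_of_isOpenImmersion a₁ ha₁
      rw [← Points.ofPt_yon_map_comp, hg', hpts t, hu₁]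
    obtain ⟨ρ, hρ⟩ := exists_factor_fromSpecStalk ξ₁.left u₁ (fun t => by rw [hξ₁pt t])
    -- compatibility over `V`
    haveI : Mono b := mono_of_repWith_isOpenImmersion b hb
    have hτg : τ ≫ (Over.homMk (V.left.fromSpecStalk (g₁.left u₁)) rfl : Over.mk ((V.left.fromSpecStalk (g₁.left u₁)) ≫ V.hom) ⟶ V) = ξ₁ ≫ g₁ := by
      apply (yon S).map_injective
      rw [← cancel_mono b, Functor.map_comp, Functor.map_comp, Category.assoc, Category.assoc, hτ,
        Category.assoc, ← hP.w, ← hcomm₁, ← Category.assoc, ← Category.assoc, hg']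
    have hτl : τ.left ≫ (V.left.fromSpecStalk (g₁.left u₁)) = ξ₁.left ≫ g₁.left := congrArg (fun m => m.left) hτg
    have hτe : τ.left ≫ inv θ = ρ := by
      rw [← cancel_mono θ, Category.assoc, IsIso.inv_hom_id, Category.comp_id, ← cancel_mono (V.left.fromSpecStalk (g₁.left u₁)),
        Category.assoc, hnat, ← Category.assoc, hρ, hτl]
    have hτs : τ ≫ s₀ = ξ₁ := by
      apply Over.OverMorphism.ext
      change τ.left ≫ inv θ ≫ i = ξ₁.left
      rw [← Category.assoc, hτe, hρ]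
    change c ≫ snd ≫ (yon S).map s₀ ≫ a₁ = c ≫ fst
    rw [← Category.assoc c, ← hτ, ← Category.assoc, ← Functor.map_comp, hτs, hg']
  refine ⟨σ, ?_, hσ2⟩
  apply hP.hom_ext
  · rw [Category.assoc, hσ1, hkey, Category.id_comp]
  · rw [Category.assoc, hσ2, Category.comp_id, Category.id_comp]

/-- **S10434.** -/
theorem main10434 {X Y : AlgSp.Space S} (f : X ⟶ Y)
    (hX : AlgSp.IsDecent X.obj) (hY : AlgSp.IsDecent Y.obj)
    (hf : W4stk3decentspacesp2.IsBirational f.hom) {V : Over S} (b : (AlgSp.yon S).obj V ⟶ Y.obj)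
    (hb : AlgSp.RepWith @IsOpenImmersion b) (v : ↥V.left)
    (hv : AlgSp.Points.ofPt b v ∈ genericPoints (AlgSp.Points Y.obj)) {P : AlgSp.Sp S} (fst : P ⟶ X.obj)
    (snd : P ⟶ (AlgSp.yon S).obj (Over.mk (V.left.fromSpecStalk v ≫ V.hom)))
    (hP : IsPullback fst snd f.hom ((AlgSp.yon S).map (Over.homMk (V.left.fromSpecStalk v) rfl) ≫ b)) :
    IsIso snd := by
  obtain ⟨x, hx, hxy⟩ := hf.bijOn.surjOn hv
  obtain ⟨U', V', a', b', g, u, ha', hb', hcomm, hu, hiso⟩ := hf.stalkIso x hx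
  obtain ⟨U₁, a₁, g₁, u₁, ha₁, hcomm₁, hu₁, hg₁u₁, hiso₁⟩ :=
    exists_chart_over f.hom a' b' g u ha' hb' hcomm hiso b hb v (by rw [hu, hxy])
  rw [hu] at hu₁
  subst hg₁u₁
  exact main10434_aux f hX hY hf b hb x hx a₁ g₁ u₁ ha₁ hcomm₁ hu₁ hiso₁ hxy hv fst snd hP

end Groth.Agent.Lib.Helper3.Birat
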