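import Mathlib
import Groth.Agent.Lib.Helper3.LocFinIrred3
import Groth.Agent.Lib.Helper3.Birat1
set_option autoImplicit false
universe u
open CategoryTheory CategoryTheory.Limits AlgebraicGeometry Topology TopologicalSpace

namespace Groth.Agent.Lib.Helper3.BiratD

open Groth.Agent.Lib.Helper3

/-- Maximal points (no proper generizations) correspond under open embeddings. -/
theorem mem_maxPts_iff_of_isOpenEmbedding {A B : Type*} [TopologicalSpace A] [TopologicalSpace B]
    {e : A → B} (he : IsOpenEmbedding e) (a : A) : a ∈ maxPts A ↔ e a ∈ maxPts B := by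
  constructor
  · intro ha y hy
    have hyr : y ∈ Set.range e := hy.mem_open he.isOpen_range ⟨a, rfl⟩
    obtain ⟨a', rfl⟩ := hyr
    have : a' ⤳ a := he.isInducing.specializes_iff.1 hy
    rw [ha a' this]
  · intro ha a' ha'
    have : e a' ⤳ e a := he.isInducing.specializes_iff.2 ha'
    exact he.injective (ha _ this)

/-- A dense open subset of a space with finitely many irreducible components contains all generic
points. -/
theorem mem_of_dense_of_mem_genericPoints {B : Type*} [TopologicalSpace B]
    (hfin : (irreducibleComponents B).Finite) {W : Set B} (hWo : IsOpen W) (hWd : Dense W) {x : B}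
    (hx : x ∈ genericPoints B) : x ∈ W := by
  by_contra hxW
  set Z := closure ({x} : Set B) with hZ
  have hZc : Z ∈ irreducibleComponents B := hx
  have hZW : Z ⊆ Wᶜ := closure_minimal (Set.singleton_subset_iff.2 hxW) hWo.isClosed_compl
  -- `W` is contained in the union of the other components
  let 𝒞 : Set (Set B) := irreducibleComponents B \ {Z}
  have h𝒞fin : 𝒞.Finite := hfin.subset Set.diff_subset
  have hWsub : W ⊆ ⋃₀ 𝒞 := by
    intro w hw
    have : w ∈ ⋃₀ irreducibleComponents B := by rw [sUnion_irreducibleComponents]; trivial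
    obtain ⟨Z', hZ', hwZ'⟩ := this
    refine ⟨Z', ⟨hZ', ?_⟩, hwZ'⟩
    rintro (rfl : Z' = Z)
    exact hZW hwZ' hw
  have hcl : IsClosed (⋃₀ 𝒞) := by
    rw [Set.sUnion_eq_biUnion]
    exact h𝒞fin.isClosed_biUnion fun Z' hZ' => isClosed_of_mem_irreducibleComponents Z' hZ'.1
  have huniv : Z ⊆ ⋃₀ 𝒞 := by
    intro z _
    have : z ∈ closure W := hWd z
    exact closure_minimal hWsub hcl this
  obtain ⟨Z', hZ', hZZ'⟩ := (isIrreducible_iff_sUnion_isClosed.1 hZc.1) h𝒞fin.toFinset
    (by
      intro z hz
      rw [Set.Finite.mem_toFinset] at hz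
      exact isClosed_of_mem_irreducibleComponents z hz.1)
    (by rwa [Set.Finite.coe_toFinset])
  rw [Set.Finite.mem_toFinset] at hZ'
  have : Z' ⊆ Z := hZc.2 hZ'.1.1 hZZ'
  exact hZ'.2 (this.antisymm hZZ')

/-- In a quasi-sober space, a set containing all generic points is dense. -/
theorem dense_of_genericPoints_subset {B : Type*} [TopologicalSpace B] [QuasiSober B] {W : Set B}
    (h : genericPoints B ⊆ W) : Dense W := by
  rw [dense_iff_inter_open]
  intro O hO ⟨y, hy⟩
  obtain ⟨η, hη, hsp⟩ := Birat.exists_genericPoint_specializes y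
  exact ⟨η, hsp.mem_open hO hy, h hη⟩

/-- Finiteness of the set of maximal points passes to the source of an injective map preserving
maximal points. -/
theorem finite_maxPts_of_isOpenEmbedding {A B : Type*} [TopologicalSpace A] [TopologicalSpace B]
    {e : A → B} (he : IsOpenEmbedding e) (h : (maxPts B).Finite) : (maxPts A).Finite := by
  refine Set.Finite.of_finite_image (f := e) (h.subset ?_) he.injective.injOn
  rintro _ ⟨a, ha, rfl⟩
  exact (mem_maxPts_iff_of_isOpenEmbedding he a).1 ha

end Groth.Agent.Lib.Helper3.BiratD
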