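import Groth.Agent.Lib.Helper3.DecMonoQC
import Groth.Agent.Lib.Helper3.AlgSpRelFibre2

set_option autoImplicit false
universe u
open CategoryTheory CategoryTheory.Limits AlgebraicGeometry Opposite MorphismProperty

namespace Groth.Agent.Lib.Helper3.DecMono

open Groth.Agent.Lib.Helper3 AlgSp

variable {S : Scheme.{u}}

/-- A monomorphic point whose fibres in all affine etale charts are finite is quasi-compact. -/
theorem repWith_quasiCompact_of_mono_of_finite_fibres {X : Sp S} (hX : IsAlgSpace X)
    (p : FieldPt X) [Mono p.toHom]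
    (hfin : ∀ (A : Over S) (ψ : (yon S).obj A ⟶ X), IsAffine A.left → RepWith @Etale ψ →
      (Points.ofPt ψ ⁻¹' {Points.mk p}).Finite) : RepWith @QuasiCompact p.toHom := by
  obtain ⟨U₀, φ₀, hφe, hφs⟩ := hX.atlas
  obtain ⟨T₀, d, e, sq⟩ := exists_pullback_charts φ₀ hφe.1 p.toHom
  -- `d : T₀ ⟶ U₀` is a monomorphism
  have hdm : Mono ((yon S).map d) := sq.mono_fst_of_mono
  have hdm' : Mono d := (yon S).mono_of_mono_map hdm
  have hdl : Mono d.left := inferInstanceAs (Mono ((Over.forget S).map d))
  have hinj : Function.Injective d.left := d.left.injective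
  have hover : ∀ w : ↥T₀.left, Points.ofPt φ₀ (d.left w) = Points.mk p := by
    intro w
    rw [ofPt_comm_of_isPullback sq w, Points.ofPt_toHom]
  have hdq : QuasiCompact d.left := by
    rw [quasiCompact_iff_forall_isAffineOpen]
    intro A hA
    have hAfin := hfin (Over.mk (A.ι ≫ U₀.hom)) (chartRestrict φ₀ A) hA
      (chartRestrict_etale φ₀ hφe A)
    have h1 : ((d.left ⁻¹ᵁ A : T₀.left.Opens) : Set ↥T₀.left) ⊆
        d.left ⁻¹' (A.ι '' (Points.ofPt (chartRestrict φ₀ A) ⁻¹' {Points.mk p})) := by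
      intro w hw
      refine ⟨⟨d.left w, hw⟩, ?_, rfl⟩
      change Points.ofPt (chartRestrict φ₀ A) _ = _
      rw [ofPt_chartRestrict]
      exact hover w
    exact (((hAfin.image _).preimage hinj.injOn).subset h1).isCompact
  have hdq' : IsQuasiCompactMor ((yon S).map d) :=
    isQuasiCompactMor_of_repWith_quasiCompact _ ((repWith_yon_map_iff _ d).2 hdq)
  have hφE : IsEtaleMor φ₀ := fun V ψ hψ => (RepWith @Etale).comp_mem _ _ hψ hφe
  have h3 : IsQuasiCompactMor p.toHom :=
    isQuasiCompactMor_of_univOpen_surjective_base_change (IsAlgSpace.yon_obj _) hX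
      (IsAlgSpace.yon_obj _) sq.flip (isUnivOpenMor_of_isEtaleMor (IsAlgSpace.yon_obj _) hφE)
      (isSurjectiveMor_of_repWith hφs) hdq'
  exact repWith_quasiCompact_of_isQuasiCompactMor _ (hX.representable_from_yon _) h3

/-- (1) ⇔ (4): finiteness of the fibres over `x` of all affine etale charts and their
relations, versus a quasi-compact monomorphic representative. -/
theorem finite_fibres_affine_etale_iff_exists_qc_mono_point {X : Sp S} (hX : IsAlgSpace X)
    (x : Points X) :
    (∀ (U : Over S) (φ : (yon S).obj U ⟶ X), IsAffine U.left → RepWith @Etale φ →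
        ∀ (R : Over S) (s t : R ⟶ U), IsPullback ((yon S).map t) ((yon S).map s) φ φ →
          (Points.ofPt φ ⁻¹' {x}).Finite ∧ (Points.ofPt ((yon S).map t ≫ φ) ⁻¹' {x}).Finite) ↔
      ∃ p : FieldPt X, Points.mk p = x ∧ Mono p.toHom ∧ RepWith @QuasiCompact p.toHom := by
  constructor
  · intro H
    obtain ⟨U, φ, u, hU, hφ, hu⟩ := exists_affine_chart_through hX x
    obtain ⟨R, t, s, sqR⟩ := exists_pullback_charts φ hφ.1 φ
    have hR := (H U φ hU hφ R s t sqR).2
    have hfin : {r : ↥R.left | s.left r = u ∧ t.left r = u}.Finite := by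
      refine hR.subset ?_
      rintro r ⟨-, hr⟩
      change Points.ofPt ((yon S).map t ≫ φ) r = x
      rw [Points.ofPt_yon_map_comp, hr, hu]
    obtain ⟨p, hp, hm⟩ := exists_mono_point_of_finite_relation_fibre hX φ hφ u u rfl s t sqR hfin
    have hpx : Points.mk p = x := hp.trans hu
    refine ⟨p, hpx, hm, ?_⟩
    refine repWith_quasiCompact_of_mono_of_finite_fibres hX p ?_
    intro A ψ hA hψ
    obtain ⟨R', t', s', sqR'⟩ := exists_pullback_charts ψ hψ.1 ψ
    rw [hpx]
    exact (H A ψ hA hψ R' s' t' sqR').1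
  · rintro ⟨p, rfl, hm, hp⟩ U φ hU hφ R s t sqR
    have : CompactSpace ↥U.left := by
      have : IsAffine U.left := hU
      infer_instance
    have hΦ := finite_fibre_of_qc_point p hp φ hφ
    refine ⟨hΦ, ?_⟩
    have hsub : Points.ofPt ((yon S).map t ≫ φ) ⁻¹' {Points.mk p} ⊆
        ⋃ u ∈ Points.ofPt φ ⁻¹' {Points.mk p}, ⋃ u' ∈ Points.ofPt φ ⁻¹' {Points.mk p},
          {r : ↥R.left | s.left r = u ∧ t.left r = u'} := by
      intro r hr
      have ht : Points.ofPt φ (t.left r) = Points.mk p := by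
        rw [← Points.ofPt_yon_map_comp]; exact hr
      have hs : Points.ofPt φ (s.left r) = Points.mk p := by
        rw [← Points.ofPt_yon_map_comp, ← sqR.w]; exact hr
      simp only [Set.mem_iUnion]
      exact ⟨s.left r, hs, t.left r, ht, rfl, rfl⟩
    refine (Set.Finite.biUnion hΦ fun u hu => Set.Finite.biUnion hΦ fun u' hu' => ?_).subset hsub
    exact finite_relation_fibre_of_mono_point p φ hφ u u' hu hu' R s t sqR

end Groth.Agent.Lib.Helper3.DecMono
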