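import Groth.Agent.Lib.Helper3.DecDense3
import Groth.Agent.Lib.Helper3.DecMonoFib

set_option autoImplicit false
universe u w

namespace Groth.Agent.Lib.Helper3.DecDense

open CategoryTheory CategoryTheory.Limits AlgebraicGeometry Opposite AlgSp
open Groth.Agent.Lib.Helper3 Groth.Agent.Lib.Helper3.GenDense Groth.Agent.Lib.Helper3.GenFinSp
  Groth.Agent.Lib.Helper3.RelNorm Groth.Agent.Lib.Helper3.SchLoc

variable {S : Scheme.{u}}

theorem finFibres_of_isDecent {X : Sp S} (hX : IsAlgSpace X) (hXd : IsDecent X) :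
    FinFibres X := by
  intro U φ hU hφ R s t kp u
  have h := ((DecMono.finite_fibres_affine_etale_iff_exists_qc_mono_point hX
    (Points.ofPt φ u)).2 (hXd _) U φ hU hφ R s t kp).2
  refine h.subset ?_
  intro r hr
  change Points.ofPt ((yon S).map t ≫ φ) r = Points.ofPt φ u
  rw [kp.w, Points.ofPt_yon_map_comp]
  exact congrArg (Points.ofPt φ) hr

/-- **S10337.** -/
theorem main10337 (X : AlgSp.Space S) (hX : AlgSp.IsDecent X.obj) :
    ∃ (X' : AlgSp.Space S) (j : X' ⟶ X), AlgSp.RepWith @IsOpenImmersion j.hom ∧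
      X'.obj.obj.IsRepresentable ∧ Dense (Set.range (AlgSp.Points.map j.hom)) :=
  exists_dense_open_subscheme X (finFibres_of_isDecent X.property hX)

end Groth.Agent.Lib.Helper3.DecDense
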