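import Groth.Agent.Lib.Helper3.BiratD1
import Groth.Agent.Lib.Helper3.Birat7
import Groth.Agent.Lib.Helper3.DecDense4
set_option autoImplicit false
universe u
open CategoryTheory CategoryTheory.Limits AlgebraicGeometry Topology TopologicalSpace
open AlgSp

namespace Groth.Agent.Lib.Helper3.BiratD

open Groth.Agent.Lib.Helper3

variable {S : Scheme.{u}}

/-- A decent algebraic space has a dense open subscheme, given as a chart. -/
theorem exists_dense_open_chart (X : AlgSp.Space S) (hX : IsDecent X.obj) :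
    ∃ (U : Over S) (a : (yon S).obj U ⟶ X.obj), RepWith @IsOpenImmersion a ∧
      Dense (Set.range (Points.ofPt a)) := by
  obtain ⟨X', j, hjo, hrep, hjdense⟩ := DecDense.main10337 X hX
  obtain ⟨G, ⟨eG⟩⟩ := hrep
  let e : (yon S).obj G ≅ X'.obj := isoOfRepresentableBy eG
  refine ⟨G, e.hom ≫ j.hom, ?_, ?_⟩
  · exact (MorphismProperty.cancel_left_of_respectsIso (RepWith (S := S) @IsOpenImmersion) _ _).2 hjo
  · rw [← range_map_eq_range_ofPt]
    have : Set.range (Points.map (e.hom ≫ j.hom)) = Set.range (Points.map j.hom) := by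
      ext x
      constructor
      · rintro ⟨z, rfl⟩
        exact ⟨Points.map e.hom z, by rw [← Points.map_comp]⟩
      · rintro ⟨z, rfl⟩
        refine ⟨Points.map e.inv z, ?_⟩
        rw [← Points.map_comp, ← Category.assoc, e.inv_hom_id, Category.id_comp]
    rw [this]
    exact hjdense

/-- The map `|U| → |X|` of an open-immersion chart is an open embedding. -/
theorem isOpenEmbedding_ofPt {X : Sp S} {U : Over S} (a : (yon S).obj U ⟶ X)
    (ha : RepWith @IsOpenImmersion a) : IsOpenEmbedding (Points.ofPt a) := by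
  refine IsOpenEmbedding.of_continuous_injective_isOpenMap (Points.continuous_ofPt a)
    (Birat.ofPt_injective_of_isOpenImmersion a ha) ?_
  have h1 : IsOpenMap (Points.map a) :=
    isOpenMap_map_of_etale (repWith_mono isOpenImmersion_le_etale ha)
  have : Points.ofPt a = Points.map a ∘ Points.schemeHomeo U := by
    funext u
    exact Points.ofPt_eq_map_ofScheme a u
  rw [this]
  exact h1.comp (Points.schemeHomeo U).isOpenMap

/-- **Lemma T'.** If `f` is a local isomorphism at `x` in one pair of open-immersion charts, then it is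
so in any commutative square of open-immersion charts through `x`. -/
theorem isIso_stalkMap_of_charts {X Y : Sp S} (f : X ⟶ Y) {U' V' : Over S}
    (a' : (yon S).obj U' ⟶ X) (b' : (yon S).obj V' ⟶ Y) (g' : U' ⟶ V') (u' : ↥U'.left)
    (ha' : RepWith @IsOpenImmersion a') (hb' : RepWith @IsOpenImmersion b')
    (hcomm' : a' ≫ f = (yon S).map g' ≫ b') (hiso : IsIso (g'.left.stalkMap u'))
    {U V : Over S} (a : (yon S).obj U ⟶ X) (b : (yon S).obj V ⟶ Y) (g : U ⟶ V) (u : ↥U.left)
    (ha : RepWith @IsOpenImmersion a) (hb : RepWith @IsOpenImmersion b)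
    (hcomm : a ≫ f = (yon S).map g ≫ b) (hu : Points.ofPt a u = Points.ofPt a' u') :
    IsIso (g.left.stalkMap u) := by
  have hv : Points.ofPt b (g.left u) = Points.map f (Points.ofPt a' u') := by
    rw [← hu, Points.map_ofPt, hcomm, Points.ofPt_yon_map_comp]
  obtain ⟨U₁, a₁, g₁, u₁, ha₁, hcomm₁, hu₁, hg₁u₁, hiso₁⟩ :=
    Birat.exists_chart_over f a' b' g' u' ha' hb' hcomm' hiso b hb (g.left u) hv
  -- intersect the charts `a₁` and `a`
  obtain ⟨U₃, r₁, r, sq⟩ := exists_pullback_charts a₁ ha₁.1 a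
  have hr : IsOpenImmersion r.left := ha₁.2 a ((yon S).map r₁) r sq
  have hr₁ : IsOpenImmersion r₁.left := ha.2 a₁ ((yon S).map r) r₁ sq.flip
  obtain ⟨u₃, hu₃1, hu₃⟩ := exists_of_ofPt_eq_of_isPullback sq u₁ u (hu₁.trans hu.symm)
  haveI : Mono b := mono_of_repWith_isOpenImmersion b hb
  have heq : r₁ ≫ g₁ = r ≫ g := by
    apply (yon S).map_injective
    rw [← cancel_mono b, Functor.map_comp, Functor.map_comp, Category.assoc, Category.assoc,
      ← hcomm₁, ← hcomm, ← Category.assoc, ← Category.assoc, sq.w]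
  have heql : r₁.left ≫ g₁.left = r.left ≫ g.left := congrArg (fun m => m.left) heq
  have h1 : IsIso ((r₁.left ≫ g₁.left).stalkMap u₃) := by
    rw [Scheme.Hom.stalkMap_comp]
    haveI : IsIso (g₁.left.stalkMap (r₁.left u₃)) :=
      Birat.isIso_stalkMap_of_point_eq g₁.left hu₃1.symm hiso₁
    haveI : IsIso (r₁.left.stalkMap u₃) := inferInstance
    exact IsIso.comp_isIso' ‹_› ‹_›
  have h2 : IsIso ((r.left ≫ g.left).stalkMap u₃) := Birat.isIso_stalkMap_of_eq heql u₃ h1
  rw [Scheme.Hom.stalkMap_comp] at h2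
  haveI : IsIso (r.left.stalkMap u₃) := inferInstance
  have h3 : IsIso (g.left.stalkMap (r.left u₃)) :=
    @IsIso.of_isIso_comp_right _ _ _ _ _ (g.left.stalkMap (r.left u₃)) (r.left.stalkMap u₃) ‹_› h2
  exact Birat.isIso_stalkMap_of_point_eq g.left hu₃ h3

end Groth.Agent.Lib.Helper3.BiratD
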