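import Groth.Agent.Lib.Helper3.BiratD2
import Groth.Agent.S10338
set_option autoImplicit false
universe u
open CategoryTheory CategoryTheory.Limits AlgebraicGeometry Topology TopologicalSpace
open AlgSp

namespace Groth.Agent.Lib.Helper3.BiratD

open Groth.Agent.Lib.Helper3

variable {S : Scheme.{u}}

/-- A commutative square of open-immersion charts containing all generic points turns a birational
morphism of decent spaces into a birational morphism of schemes. -/
theorem scheme_birational_of_charts {X Y : AlgSp.Space S} (f : X ⟶ Y)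
    (hX : IsDecent X.obj) (hY : IsDecent Y.obj)
    (hXf : (irreducibleComponents (Points X.obj)).Finite)
    (hYf : (irreducibleComponents (Points Y.obj)).Finite)
    (hf : W4stk3decentspacesp2.IsBirational f.hom) {U V : Over S} (a : (yon S).obj U ⟶ X.obj)
    (b : (yon S).obj V ⟶ Y.obj) (g : U ⟶ V)
    (ha : RepWith @IsOpenImmersion a) (hb : RepWith @IsOpenImmersion b)
    (hcomm : a ≫ f.hom = (yon S).map g ≫ b)
    (haG : genericPoints (Points X.obj) ⊆ Set.range (Points.ofPt a)) :
    (irreducibleComponents ↥U.left).Finite ∧ (irreducibleComponents ↥V.left).Finite ∧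
    Set.BijOn (fun x : U.left => g.left.base x) {x : U.left | closure {x} ∈ irreducibleComponents ↥U.left}
      {y : V.left | closure {y} ∈ irreducibleComponents ↥V.left} ∧
    ∀ x : U.left, closure {x} ∈ irreducibleComponents ↥U.left → IsIso (g.left.stalkMap x) := by
  haveI hqsX : QuasiSober (Points X.obj) := DecDense.quasiSober_points_of_isDecent X hX
  haveI hT0X : T0Space (Points X.obj) := Groth.Agent.S10338.result X hX
  haveI hqsY : QuasiSober (Points Y.obj) := DecDense.quasiSober_points_of_isDecent Y hY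
  haveI hT0Y : T0Space (Points Y.obj) := Groth.Agent.S10338.result Y hY
  have heX := isOpenEmbedding_ofPt a ha
  have heY := isOpenEmbedding_ofPt b hb
  have hgX : genericPoints (Points X.obj) = maxPts (Points X.obj) := genericPoints_eq_maxPts _
  have hgY : genericPoints (Points Y.obj) = maxPts (Points Y.obj) := genericPoints_eq_maxPts _
  have hgU : {x : U.left | closure {x} ∈ irreducibleComponents ↥U.left} = maxPts ↥U.left :=
    genericPoints_eq_maxPts _
  have hgV : {y : V.left | closure {y} ∈ irreducibleComponents ↥V.left} = maxPts ↥V.left :=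
    genericPoints_eq_maxPts _
  have hkey : ∀ x : U.left, Points.ofPt b (g.left x) = Points.map f.hom (Points.ofPt a x) := by
    intro x
    rw [Points.map_ofPt, hcomm, Points.ofPt_yon_map_comp]
  have hUgen : ∀ x : U.left, x ∈ maxPts ↥U.left ↔ Points.ofPt a x ∈ genericPoints (Points X.obj) := by
    intro x
    rw [hgX]
    exact mem_maxPts_iff_of_isOpenEmbedding heX x
  have hVgen : ∀ y : V.left, y ∈ maxPts ↥V.left ↔ Points.ofPt b y ∈ genericPoints (Points Y.obj) := by
    intro y
    rw [hgY]
    exact mem_maxPts_iff_of_isOpenEmbedding heY y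
  refine ⟨?_, ?_, ?_, ?_⟩
  · rw [finite_irreducibleComponents_iff_maxPts]
    exact finite_maxPts_of_isOpenEmbedding heX ((finite_irreducibleComponents_iff_maxPts _).1 hXf)
  · rw [finite_irreducibleComponents_iff_maxPts]
    exact finite_maxPts_of_isOpenEmbedding heY ((finite_irreducibleComponents_iff_maxPts _).1 hYf)
  · rw [hgU, hgV]
    refine ⟨?_, ?_, ?_⟩
    · intro x hx
      change g.left x ∈ maxPts ↥V.left
      rw [hVgen, hkey]
      exact hf.bijOn.mapsTo ((hUgen x).1 hx)
    · intro x hx x' hx' hxx'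
      change g.left x = g.left x' at hxx'
      apply heX.injective
      apply hf.bijOn.injOn ((hUgen x).1 hx) ((hUgen x').1 hx')
      rw [← hkey, ← hkey, hxx']
    · intro y hy
      obtain ⟨ξ, hξ, hξy⟩ := hf.bijOn.surjOn ((hVgen y).1 hy)
      obtain ⟨x, rfl⟩ := haG hξ
      refine ⟨x, (hUgen x).2 hξ, ?_⟩
      change g.left x = y
      apply heY.injective
      rw [hkey, hξy]
  · intro x hx
    have hx' : x ∈ maxPts ↥U.left := by rw [← hgU]; exact hx
    obtain ⟨U', V', a', b', g', u', ha', hb', hcomm', hu', hiso⟩ :=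
      hf.stalkIso _ ((hUgen x).1 hx')
    exact isIso_stalkMap_of_charts f.hom a' b' g' u' ha' hb' hcomm' hiso a b g x ha hb hcomm hu'.symm

/-- Over a given open subscheme of `Y` containing all generic points there is an open subscheme of
`X` containing all generic points and mapping into it. -/
theorem exists_chart_square {X Y : AlgSp.Space S} (f : X ⟶ Y)
    (hX : IsDecent X.obj)
    (hXf : (irreducibleComponents (Points X.obj)).Finite)
    (hf : W4stk3decentspacesp2.IsBirational f.hom) {V : Over S}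
    (b : (yon S).obj V ⟶ Y.obj) (hb : RepWith @IsOpenImmersion b)
    (hbG : genericPoints (Points Y.obj) ⊆ Set.range (Points.ofPt b)) :
    ∃ (U : Over S) (a : (yon S).obj U ⟶ X.obj) (g : U ⟶ V), RepWith @IsOpenImmersion a ∧
      a ≫ f.hom = (yon S).map g ≫ b ∧ genericPoints (Points X.obj) ⊆ Set.range (Points.ofPt a) := by
  obtain ⟨U₀, a₀, ha₀, ha₀d⟩ := exists_dense_open_chart X hX
  have ha₀o : IsOpen (Set.range (Points.ofPt a₀)) := (isOpenEmbedding_ofPt a₀ ha₀).isOpen_range
  obtain ⟨U₁, g₁, p₁, sq1⟩ := exists_pullback_charts b hb.1 (a₀ ≫ f.hom)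
  have hp₁ : IsOpenImmersion p₁.left := hb.2 (a₀ ≫ f.hom) ((yon S).map g₁) p₁ sq1
  refine ⟨U₁, (yon S).map p₁ ≫ a₀, g₁, ?_, ?_, ?_⟩
  · refine (RepWith @IsOpenImmersion).comp_mem _ _ ?_ ha₀
    rw [repWith_yon_map_iff]
    exact hp₁
  · rw [Category.assoc, sq1.w]
  · intro ξ hξ
    obtain ⟨u₀, hu₀⟩ := mem_of_dense_of_mem_genericPoints hXf ha₀o ha₀d hξ
    obtain ⟨v₀, hv₀⟩ := hbG (hf.bijOn.mapsTo hξ)
    have h : Points.ofPt b v₀ = Points.ofPt (a₀ ≫ f.hom) u₀ := by
      rw [hv₀, ← hu₀, Points.map_ofPt]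
    obtain ⟨u₁, -, hu₁⟩ := exists_of_ofPt_eq_of_isPullback sq1 v₀ u₀ h
    refine ⟨u₁, ?_⟩
    rw [Points.ofPt_yon_map_comp, hu₁, hu₀]

end Groth.Agent.Lib.Helper3.BiratD
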