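import Groth.Agent.Lib.Helper3.GenFinSp2
import Groth.Agent.Lib.lead.GenFiniteSep
import Groth.Agent.Lib.lead.QFCodimSp

set_option autoImplicit false
universe u w

namespace Groth.Agent.Lib.Helper3.GenFinSp

open CategoryTheory CategoryTheory.Limits AlgebraicGeometry Opposite AlgSp
open Groth.Agent.Lib.Helper3 Groth.Agent.Lib.Helper3.RelNorm

variable {S : Scheme.{u}}

/-- The open subscheme of `T` over `S`. -/
abbrev opOver (T : Over S) (O : T.left.Opens) : Over S := Over.mk (O.ι ≫ T.hom)

/-- The inclusion of the open subscheme. -/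
abbrev opι (T : Over S) (O : T.left.Opens) : opOver T O ⟶ T := Over.homMk O.ι rfl

/-- The restriction of a morphism over an open of the target, over `S`. -/
noncomputable def opRes {T B : Over S} (k : T ⟶ B) (O : B.left.Opens) :
    opOver T (k.left ⁻¹ᵁ O) ⟶ opOver B O :=
  Over.homMk (k.left ∣_ O) (by
    change (k.left ∣_ O) ≫ O.ι ≫ B.hom = (k.left ⁻¹ᵁ O).ι ≫ T.hom
    rw [← Category.assoc, morphismRestrict_ι, Category.assoc, Over.w k])

theorem isPullback_opRes {T B : Over S} (k : T ⟶ B) (O : B.left.Opens) :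
    IsPullback (opι T (k.left ⁻¹ᵁ O)) (opRes k O) k (opι B O) := by
  refine IsPullback.of_map (Over.forget S) ?_ ?_
  · ext
    exact (morphismRestrict_ι k.left O).symm
  · exact (isPullback_morphismRestrict k.left O).flip

/-- **Local generic finiteness**: over an affine etale chart `V` of `Y` with a maximal point `v`
over which `f` is quasi-finite, the base change of `f` to an open neighbourhood of `v` is finite. -/
theorem exists_open_finite {X Y : Sp S} (hX : IsAlgSpace X) (hY : IsAlgSpace Y) (f : X ⟶ Y)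
    (hqs : IsQuasiSeparatedMor f) (hft : IsFiniteTypeMor f) {V : Over S} (hV : IsAffine V.left)
    (b : (yon S).obj V ⟶ Y) (hbe : RepWith @Etale b) (v : ↥V.left)
    (hv : ∀ v' : ↥V.left, v' ⤳ v → v' = v)
    (hqf : ∀ x : Points X, Points.map f x = Points.ofPt b v → ZmtGen.QfAt f x) :
    ∃ O : V.left.Opens, v ∈ O ∧ ∀ (X' : Sp S) (fst : X' ⟶ X)
      (snd : X' ⟶ (yon S).obj (opOver V O)),
      IsPullback fst snd f ((yon S).map (opι V O) ≫ b) → IsFiniteMor snd := by
  have hVa : IsAffine V.left := hV
  -- the base change to `V`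
  let X₁ : Sp S := pullback f b
  let prX : X₁ ⟶ X := pullback.fst f b
  let pr₁ : X₁ ⟶ (yon S).obj V := pullback.snd f b
  have sq₁ : IsPullback prX pr₁ f b := IsPullback.of_hasPullback f b
  have hX₁ : IsAlgSpace X₁ := isAlgSpace_of_isPullback' hY hX (IsAlgSpace.yon_obj V) sq₁
  have hX₁qc : IsQuasiCompactSp X₁ :=
    hft.2 (IsAlgSpace.yon_obj V) (isQuasiCompactSp_yon inferInstance) b prX pr₁ sq₁
  have hprXe : RepWith @Etale prX := MorphismProperty.of_isPullback sq₁.flip hbe
  have hpr₁qs : IsQuasiSeparatedMor pr₁ := repWith_diagonal_of_isPullback _ sq₁ hqs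
  -- the affine chart
  obtain ⟨U, c, hce, hcs, hUa⟩ := exists_affine_chart_of_isQuasiCompactSp hX₁qc
  have hUa' : IsAffine U.left := hUa
  obtain ⟨h, hh⟩ := (yon S).map_surjective (c ≫ pr₁)
  have hae : RepWith @Etale (c ≫ prX) := MorphismProperty.comp_mem _ _ _ hce hprXe
  have hcomm : (c ≫ prX) ≫ f = (yon S).map h ≫ b := by
    rw [Category.assoc, sq₁.w, ← Category.assoc, hh]
  have hlft : LocallyOfFiniteType h.left := hft.1 (c ≫ prX) b h hae hbe hcomm
  have hq : ∀ u : ↥U.left, h.left u = v → h.left.QuasiFiniteAt u := by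
    intro u hu
    have hx : Points.map f (Points.ofPt (c ≫ prX) u) = Points.ofPt b v := by
      rw [Points.map_ofPt, hcomm, SpUC.ofPt_comp_yon_map, hu]
    obtain ⟨U', V', a', b', h', u', ha', hb', w', hx', hQ⟩ := hqf _ hx
    exact Groth.Agent.Lib.lead.QFCodimSp.quasiFiniteAt_of_charts f (c ≫ prX) b h a' b' h' hae hbe
      ha' hb' hcomm w' u u' hx'.symm
      (Groth.Agent.Lib.lead.QFCodimSp.quasiFiniteAt_of_QFQ h'.left u' hQ)
  obtain ⟨O₂, hvO₂, hO₂⟩ := Groth.Agent.Lib.lead.GenFiniteSep.main h.left v hv hq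
  -- the relation
  let R : Over S := hce.rep.pullback c
  let t : R ⟶ U := hce.rep.fst' c
  let s : R ⟶ U := hce.rep.snd c
  have sqR : IsPullback ((yon S).map t) ((yon S).map s) c c := hce.rep.isPullback' c
  have hse : Etale s.left := hce.property_snd c
  have hts : t ≫ h = s ≫ h := by
    apply (yon S).map_injective
    rw [Functor.map_comp, Functor.map_comp, hh, ← Category.assoc, sqR.w, Category.assoc]
  let UU : Over S := pullback h h
  let d : R ⟶ UU := pullback.lift t s hts
  obtain ⟨m', sqd⟩ := isPullback_kernel_diagonal pr₁ c t s sqR h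
    (pullback.fst _ _) (pullback.snd _ _) (IsPullback.of_hasPullback _ _) d
    (pullback.lift_fst _ _ _) (pullback.lift_snd _ _ _) (𝟙 _)
    (by rw [Category.comp_id, hh])
  have hdq : QuasiCompact d.left :=
    (repWith_yon_map_iff _ _).1 (MorphismProperty.of_isPullback sqd hpr₁qs)
  have hUUa : IsAffine UU.left := by
    have sq := (IsPullback.of_hasPullback h h).map (Over.forget S)
    have h1 : IsAffine ((Over.forget S).obj U) := hUa
    have h2 : IsAffineHom ((Over.forget S).map h) := by
      change IsAffineHom h.left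
      infer_instance
    exact IsAffine.of_isPullback sq
  have hdmono : Mono d := by
    refine ⟨fun {T} a₁ a₂ h12 => ?_⟩
    apply (yon S).map_injective
    apply sqR.hom_ext
    · have := congrArg (fun k => k ≫ pullback.fst h h) h12
      simp only [Category.assoc, d, pullback.lift_fst] at this
      rw [← Functor.map_comp, ← Functor.map_comp, this]
    · have := congrArg (fun k => k ≫ pullback.snd h h) h12
      simp only [Category.assoc, d, pullback.lift_snd] at this
      rw [← Functor.map_comp, ← Functor.map_comp, this]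
  have hdmono' : Mono d.left := inferInstanceAs (Mono ((Over.forget S).map d))
  let ρ : R ⟶ V := s ≫ h
  have hρd : ρ = d ≫ pullback.snd h h ≫ h := by
    rw [← Category.assoc, pullback.lift_snd]
  have hρlft : LocallyOfFiniteType ρ.left := by
    change LocallyOfFiniteType (s.left ≫ h.left)
    infer_instance
  have hρsep : IsSeparated ρ.left := by
    rw [hρd]
    change IsSeparated (d.left ≫ (pullback.snd h h ≫ h).left)
    have : IsSeparated (pullback.snd h h ≫ h).left := by
      infer_instance
    infer_instance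
  have hρqc : QuasiCompact ρ.left := by
    rw [hρd]
    change QuasiCompact (d.left ≫ (pullback.snd h h ≫ h).left)
    have : QuasiCompact (pullback.snd h h ≫ h).left := by
      infer_instance
    infer_instance
  have hρq : ∀ r : ↥R.left, ρ.left r = v → ρ.left.QuasiFiniteAt r := by
    intro r hr
    have : LocallyQuasiFinite s.left := locallyQuasiFinite_of_unramified s.left
    exact Groth.Agent.Lib.lead.QFCodim.quasiFiniteAt_comp_of_locallyQuasiFinite s.left h.left r
      (hq _ hr)
  obtain ⟨O₃, hvO₃, hO₃⟩ := Groth.Agent.Lib.lead.GenFiniteSep.main ρ.left v hv hρq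
  -- the common open
  let O : V.left.Opens := O₂ ⊓ O₃
  have hOh : IsFinite (h.left ∣_ O) :=
    Groth.Agent.Lib.lead.GenFiniteSep.isFinite_morphismRestrict_of_le h.left inf_le_left hO₂
  have hOρ : IsFinite (ρ.left ∣_ O) :=
    Groth.Agent.Lib.lead.GenFiniteSep.isFinite_morphismRestrict_of_le ρ.left inf_le_right hO₃
  refine ⟨O, ⟨hvO₂, hvO₃⟩, ?_⟩
  intro X' fst snd sq
  have hX' : IsAlgSpace X' :=
    isAlgSpace_of_isPullback' hY hX (IsAlgSpace.yon_obj _) sq
  -- `X'` as a base change of `X₁`
  have wX : fst ≫ f = (snd ≫ (yon S).map (opι V O)) ≫ b := by rw [Category.assoc]; exact sq.w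
  let fstX : X' ⟶ X₁ := sq₁.lift fst (snd ≫ (yon S).map (opι V O)) wX
  have hfstX1 : fstX ≫ prX = fst := sq₁.lift_fst _ _ _
  have hfstX2 : fstX ≫ pr₁ = snd ≫ (yon S).map (opι V O) := sq₁.lift_snd _ _ _
  have sqX : IsPullback fstX snd pr₁ ((yon S).map (opι V O)) := by
    refine IsPullback.of_right ?_ hfstX2 sq₁
    rw [hfstX1]
    exact sq
  obtain ⟨c', s', t', hc'1, hc'2, sqc', hs'1, ht'1, hs'2, sqR'⟩ :=
    exists_baseChange_chart pr₁ ((yon S).map (opι V O)) c ((yon S).map h) hh ((yon S).map s)
      ((yon S).map t) sqR ((yon S).map (opι U (h.left ⁻¹ᵁ O))) ((yon S).map (opRes h O))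
      ((isPullback_opRes h O).map (yon S))
      ((yon S).map (opι R (ρ.left ⁻¹ᵁ O))) ((yon S).map (opRes ρ O))
      (by
        rw [← Functor.map_comp]
        exact (isPullback_opRes ρ O).map (yon S))
      fstX snd sqX
  obtain ⟨s'', rfl⟩ := (yon S).map_surjective s'
  obtain ⟨t'', rfl⟩ := (yon S).map_surjective t'
  have hc'e : RepWith @Etale c' := MorphismProperty.of_isPullback sqc'.flip hce
  have hc's : RepWith @Surjective c' := MorphismProperty.of_isPullback sqc'.flip hcs
  have hs''h : s'' ≫ opRes h O = opRes ρ O := by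
    apply (yon S).map_injective
    rw [Functor.map_comp]
    exact hs'2
  refine isFiniteMor_of_chart hX' snd c' hc'e hc's (opRes h O) hc'2.symm s'' t'' sqR' hOh ?_
  rw [hs''h]
  exact hOρ

end Groth.Agent.Lib.Helper3.GenFinSp
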