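import Groth.Agent.Lib.Helper3.BiratD3
import Groth.Agent.Lib.Helper3.AlgSpReducedChart
import Groth.Agent.Lib.Helper3.GenFinSp3
import Groth.Agent.S9678
import Groth.Prelude.Def_AlgSp3
set_option autoImplicit false
universe u
open CategoryTheory CategoryTheory.Limits AlgebraicGeometry Topology TopologicalSpace
open AlgSp

namespace Groth.Agent.Lib.Helper3.BiratD

open Groth.Agent.Lib.Helper3 Groth.Agent.Lib.Helper3.GenFinSp

variable {S : Scheme.{u}}

/-- An etale chart of an (etale locally) reduced sheaf is reduced. -/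
theorem isReduced_of_etale_chart {Y : Sp S} (hred : EtaleLocally (fun T => IsReduced T) Y)
    {V : Over S} (b : (yon S).obj V ⟶ Y) (hb : RepWith @Etale b) : IsReduced V.left := by
  obtain ⟨T, p, hpe, hps, hT⟩ := hred
  obtain ⟨W, pE, pU, sq⟩ := exists_pullback_charts b hb.1 p
  have hpU : Etale pU.left := hb.2 p ((yon S).map pE) pU sq
  have hpE : Etale pE.left := hpe.2 b ((yon S).map pU) pE sq.flip
  have hpEs : Surjective pE.left := hps.2 b ((yon S).map pU) pE sq.flip
  have : IsReduced T.left := hT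
  have hWr : IsReduced W.left := isReduced_of_etale_scheme pU.left
  exact isReduced_of_flat_surjective pE.left

/-- The chart of an open subscheme of a chart: range on points. -/
theorem range_ofPt_opι_comp {X : Sp S} {U : Over S} (a : (yon S).obj U ⟶ X) (O : U.left.Opens) :
    Set.range (Points.ofPt ((yon S).map (opι U O) ≫ a)) = Points.ofPt a '' (O : Set ↥U.left) := by
  ext x
  constructor
  · rintro ⟨w, rfl⟩
    refine ⟨w.1, w.2, ?_⟩
    rw [Points.ofPt_yon_map_comp]
    rfl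
  · rintro ⟨w, hw, rfl⟩
    refine ⟨(⟨w, hw⟩ : ↥O), ?_⟩
    rw [Points.ofPt_yon_map_comp]
    rfl

theorem repWith_isOpenImmersion_opι_comp {X : Sp S} {U : Over S} (a : (yon S).obj U ⟶ X)
    (ha : RepWith @IsOpenImmersion a) (O : U.left.Opens) :
    RepWith @IsOpenImmersion ((yon S).map (opι U O) ≫ a) := by
  refine (RepWith @IsOpenImmersion).comp_mem _ _ ?_ ha
  rw [repWith_yon_map_iff]
  change IsOpenImmersion O.ι
  infer_instance

/-- **S10435.** -/
theorem main10435 {X Y : AlgSp.Space S} (f : X ⟶ Y)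
    (hX : AlgSp.IsDecent X.obj) (hY : AlgSp.IsDecent Y.obj)
    (hXf : (irreducibleComponents (AlgSp.Points X.obj)).Finite)
    (hYf : (irreducibleComponents (AlgSp.Points Y.obj)).Finite)
    (hf : W4stk3decentspacesp2.IsBirational f.hom)
    (h : (AlgSp.LocP @LocallyOfFiniteType f.hom ∧ AlgSp.EtaleLocally (fun T => IsReduced T) Y.obj) ∨
      AlgSp.LocP @LocallyOfFinitePresentation f.hom) :
    ∃ (U V : Over S) (a : (AlgSp.yon S).obj U ⟶ X.obj) (b : (AlgSp.yon S).obj V ⟶ Y.obj) (g : U ⟶ V),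
      AlgSp.RepWith @IsOpenImmersion a ∧ AlgSp.RepWith @IsOpenImmersion b ∧
        Dense (Set.range (AlgSp.Points.ofPt a)) ∧ Dense (Set.range (AlgSp.Points.ofPt b)) ∧
          a ≫ f.hom = (AlgSp.yon S).map g ≫ b ∧ IsIso g.left := by
  haveI hqsX : QuasiSober (Points X.obj) := DecDense.quasiSober_points_of_isDecent X hX
  haveI hqsY : QuasiSober (Points Y.obj) := DecDense.quasiSober_points_of_isDecent Y hY
  obtain ⟨V₀, b₀, hb₀, hb₀d⟩ := exists_dense_open_chart Y hY
  have hb₀o : IsOpen (Set.range (Points.ofPt b₀)) := (isOpenEmbedding_ofPt b₀ hb₀).isOpen_range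
  have hbG : genericPoints (Points Y.obj) ⊆ Set.range (Points.ofPt b₀) :=
    fun y hy => mem_of_dense_of_mem_genericPoints hYf hb₀o hb₀d hy
  obtain ⟨U₁, a₁, g₁, ha₁, hcomm₁, haG⟩ := exists_chart_square f hX hXf hf b₀ hb₀ hbG
  obtain ⟨hU₁f, hV₀f, hbij, hiso⟩ :=
    scheme_birational_of_charts f hX hY hXf hYf hf a₁ b₀ g₁ ha₁ hb₀ hcomm₁ haG
  have ha₁e : RepWith @Etale a₁ := repWith_mono isOpenImmersion_le_etale ha₁
  have hb₀e : RepWith @Etale b₀ := repWith_mono isOpenImmersion_le_etale hb₀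
  have hprop : (LocallyOfFiniteType g₁.left ∧ IsReduced V₀.left) ∨
      LocallyOfFinitePresentation g₁.left := by
    rcases h with ⟨hlft, hred⟩ | hlfp
    · exact Or.inl ⟨hlft a₁ b₀ g₁ ha₁e hb₀e hcomm₁, isReduced_of_etale_chart hred b₀ hb₀e⟩
    · exact Or.inr (hlfp a₁ b₀ g₁ ha₁e hb₀e hcomm₁)
  obtain ⟨U, V, hUV, hUd, hVd, hiso'⟩ :=
    Groth.Agent.S9678.result g₁.left hU₁f hV₀f hbij hiso hprop
  let g' : opOver U₁ U ⟶ opOver V₀ V := Over.homMk (g₁.left.resLE V U hUV) (by
    change g₁.left.resLE V U hUV ≫ V.ι ≫ V₀.hom = U.ι ≫ U₁.hom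
    rw [← Category.assoc, Scheme.Hom.resLE_comp_ι, Category.assoc, Over.w g₁])
  refine ⟨opOver U₁ U, opOver V₀ V, (yon S).map (opι U₁ U) ≫ a₁, (yon S).map (opι V₀ V) ≫ b₀, g',
    repWith_isOpenImmersion_opι_comp a₁ ha₁ U, repWith_isOpenImmersion_opι_comp b₀ hb₀ V,
    ?_, ?_, ?_, hiso'⟩
  · rw [range_ofPt_opι_comp]
    exact DenseRange.dense_image (dense_of_genericPoints_subset haG) (Points.continuous_ofPt a₁) hUd
  · rw [range_ofPt_opι_comp]
    exact DenseRange.dense_image hb₀d (Points.continuous_ofPt b₀) hVd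
  · rw [Category.assoc, hcomm₁, ← Category.assoc, ← Category.assoc, ← Functor.map_comp,
      ← Functor.map_comp]
    congr 2
    apply Over.OverMorphism.ext
    change U.ι ≫ g₁.left = g₁.left.resLE V U hUV ≫ V.ι
    rw [Scheme.Hom.resLE_comp_ι]

end Groth.Agent.Lib.Helper3.BiratD
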