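import Groth.Agent.Lib.Helper3.BiratD4
import Groth.Agent.Lib.Helper3.AlgSpOpenSub
set_option autoImplicit false
universe u
open CategoryTheory CategoryTheory.Limits AlgebraicGeometry Topology TopologicalSpace
open AlgSp

namespace Groth.Agent.Lib.Helper3.BiratD

open Groth.Agent.Lib.Helper3 Groth.Agent.Lib.Helper3.GenFinSp

variable {S : Scheme.{u}}

/-- **(K)** If `f` restricts to an isomorphism `U ≅ V` of open subschemes and the preimage of the open
`V' ⊆ V` lies in `U`, then `f⁻¹(V') ⟶ V'` is an isomorphism. -/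
theorem isIso_snd_of_preimage_subset {X Y : Sp S} (f : X ⟶ Y) {U V : Over S}
    (a : (yon S).obj U ⟶ X) (b : (yon S).obj V ⟶ Y) (g : U ⟶ V)
    (ha : RepWith @IsOpenImmersion a) (hb : RepWith @IsOpenImmersion b)
    (hcomm : a ≫ f = (yon S).map g ≫ b) [hg : IsIso g.left] (V' : V.left.Opens)
    (hpre : ∀ x : Points X, Points.map f x ∈ Points.ofPt b '' (V' : Set ↥V.left) →
      x ∈ Set.range (Points.ofPt a))
    {P : Sp S} (fst : P ⟶ X) (snd : P ⟶ (yon S).obj (opOver V V'))
    (hP : IsPullback fst snd f ((yon S).map (opι V V') ≫ b)) : IsIso snd := by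
  set U' : U.left.Opens := g.left ⁻¹ᵁ V' with hU'
  let g' : opOver U U' ⟶ opOver V V' := opRes g V'
  have hg'l : IsIso g'.left := by
    change IsIso (g.left ∣_ V')
    infer_instance
  haveI : IsIso ((Over.forget S).map g') := hg'l
  haveI hg' : IsIso g' := isIso_of_reflects_iso g' (Over.forget S)
  set a' : (yon S).obj (opOver U U') ⟶ X := (yon S).map (opι U U') ≫ a with ha'def
  set b' : (yon S).obj (opOver V V') ⟶ Y := (yon S).map (opι V V') ≫ b with hb'def
  have ha' : RepWith @IsOpenImmersion a' := repWith_isOpenImmersion_opι_comp a ha U'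
  have hb' : RepWith @IsOpenImmersion b' := repWith_isOpenImmersion_opι_comp b hb V'
  have hcomm' : a' ≫ f = (yon S).map g' ≫ b' := by
    rw [ha'def, hb'def, Category.assoc, hcomm, ← Category.assoc, ← Category.assoc,
      ← Functor.map_comp, ← Functor.map_comp, (isPullback_opRes g V').w]
  let σ := hP.lift a' ((yon S).map g') hcomm'
  have hσ1 : σ ≫ fst = a' := hP.lift_fst _ _ _
  have hσ2 : σ ≫ snd = (yon S).map g' := hP.lift_snd _ _ _
  have hfsto : RepWith @IsOpenImmersion fst := MorphismProperty.of_isPullback hP.flip hb'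
  haveI : Mono fst := mono_of_repWith_isOpenImmersion fst hfsto
  haveI : Mono a' := mono_of_repWith_isOpenImmersion a' ha'
  have hbinj := Birat.ofPt_injective_of_isOpenImmersion b hb
  have hrange : Set.range (Points.map fst) ⊆ Set.range (Points.map a') := by
    rintro _ ⟨p, rfl⟩
    obtain ⟨(v' : ↥V'), hv'⟩ := (Points.schemeHomeo (opOver V V')).surjective (Points.map snd p)
    have h1 : Points.map f (Points.map fst p) = Points.ofPt b (v' : ↥V.left) := by
      rw [← Points.map_comp, hP.w, Points.map_comp, ← hv']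
      change Points.map b' (Points.ofScheme _ v') = _
      rw [← Points.ofPt_eq_map_ofScheme, hb'def, Points.ofPt_yon_map_comp]
      rfl
    obtain ⟨u, hu⟩ := hpre (Points.map fst p) ⟨v'.1, v'.2, h1.symm⟩
    have h2 : Points.ofPt b (g.left u) = Points.ofPt b (v' : ↥V.left) := by
      rw [← h1, ← hu, Points.map_ofPt, hcomm, Points.ofPt_yon_map_comp]
    have h3 : g.left u = (v' : ↥V.left) := hbinj h2
    have huU' : u ∈ U' := by
      change g.left u ∈ V'
      rw [h3]
      exact v'.2
    rw [range_map_eq_range_ofPt]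
    refine ⟨(⟨u, huU'⟩ : ↥U'), ?_⟩
    rw [ha'def, Points.ofPt_yon_map_comp, ← hu]
    rfl
  obtain ⟨τ, hτ⟩ := exists_factor_of_range_subset a' ha' fst hrange
  have h1 : σ ≫ τ = 𝟙 _ := by
    rw [← cancel_mono a', Category.assoc, hτ, hσ1, Category.id_comp]
  have h2 : τ ≫ σ = 𝟙 _ := by
    rw [← cancel_mono fst, Category.assoc, hσ1, hτ, Category.id_comp]
  have hτiso : IsIso τ := ⟨σ, h2, h1⟩
  have h3 : snd = τ ≫ (yon S).map g' := by
    rw [← hσ2, ← Category.assoc, h2, Category.id_comp]
  rw [h3]
  infer_instance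

end Groth.Agent.Lib.Helper3.BiratD
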