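import Groth.Agent.Lib.Helper3.BiratD5
import Groth.Agent.Lib.Helper3.AlgSpSep
import Groth.Agent.Lib.Helper3.SchImRed
import Groth.Agent.S9902
set_option autoImplicit false
universe u
open CategoryTheory CategoryTheory.Limits AlgebraicGeometry Topology TopologicalSpace
open AlgSp

namespace Groth.Agent.Lib.Helper3.BiratD

open Groth.Agent.Lib.Helper3 Groth.Agent.Lib.Helper3.GenFinSp

variable {S : Scheme.{u}}

/-- **Separated case.** If `f` is separated and restricts to an isomorphism `U ≅ V` of open
subschemes with `U` dense, then `f⁻¹(V) = U`. -/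
theorem preimage_subset_of_isSeparatedMor {X Y : AlgSp.Space S} (f : X ⟶ Y) {U V : Over S}
    (a : (yon S).obj U ⟶ X.obj) (b : (yon S).obj V ⟶ Y.obj) (g : U ⟶ V)
    (hb : RepWith @IsOpenImmersion b)
    (hcomm : a ≫ f.hom = (yon S).map g ≫ b) [hg : IsIso g.left]
    (had : Dense (Set.range (Points.ofPt a))) (hsep : IsSeparatedMor f.hom)
    (x : Points X.obj) (hx : Points.map f.hom x ∈ Set.range (Points.ofPt b)) :
    x ∈ Set.range (Points.ofPt a) := by
  haveI : IsIso ((Over.forget S).map g) := hg
  haveI hg' : IsIso g := isIso_of_reflects_iso g (Over.forget S)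
  have sq := IsPullback.of_hasPullback f.hom b
  set P := pullback f.hom b with hPdef
  set fst : P ⟶ X.obj := pullback.fst f.hom b with hfst
  set snd : P ⟶ (yon S).obj V := pullback.snd f.hom b with hsnd
  have hPalg : IsAlgSpace P :=
    isAlgSpace_of_isPullback' Y.property X.property (IsAlgSpace.yon_obj _) sq
  have hsw : ((yon S).map (inv g) ≫ a) ≫ f.hom = 𝟙 _ ≫ b := by
    rw [Category.assoc, hcomm, ← Category.assoc, ← Functor.map_comp, IsIso.inv_hom_id,
      CategoryTheory.Functor.map_id]
  let s : (yon S).obj V ⟶ P := sq.lift ((yon S).map (inv g) ≫ a) (𝟙 _) hsw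
  have hs1 : s ≫ fst = (yon S).map (inv g) ≫ a := sq.lift_fst _ _ _
  have hs2 : s ≫ snd = 𝟙 _ := sq.lift_snd _ _ _
  have hsndsep : IsSeparatedMor snd := repWith_diagonal_of_isPullback @IsClosedImmersion sq hsep
  let Pₛ : AlgSp.Space S := ⟨P, hPalg⟩
  let Vₛ : AlgSp.Space S := ⟨(yon S).obj V, IsAlgSpace.yon_obj _⟩
  have hscl : RepWith @IsClosedImmersion s :=
    (Groth.Agent.S9902.result (X := Pₛ) (T := Vₛ) (ObjectProperty.homMk snd)
      (ObjectProperty.homMk s) (by ext1; exact hs2)).2.2.2.2.2.1 hsndsep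
  have hcl : IsClosed (Set.range (Points.map s)) := SchIm.isClosed_range_of_closedImmersion s hscl
  have hfsto : RepWith @IsOpenImmersion fst := MorphismProperty.of_isPullback sq.flip hb
  haveI : Mono fst := mono_of_repWith_isOpenImmersion fst hfsto
  have hfstopen : IsOpenMap (Points.map fst) :=
    isOpenMap_map_of_etale (repWith_mono isOpenImmersion_le_etale hfsto)
  have hD : Dense (Points.map fst ⁻¹' Set.range (Points.ofPt a)) := had.preimage hfstopen
  have hinvg : ∀ u : ↥U.left, (inv g).left (g.left u) = u := by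
    intro u
    have h1 : g.left ≫ (inv g).left = 𝟙 _ := by
      rw [← Over.comp_left, IsIso.hom_inv_id]; rfl
    have := congrArg (fun m : U.left ⟶ U.left => m u) h1
    exact this
  have hsfst : ∀ v : ↥V.left, Points.map fst (Points.map s (Points.ofScheme V v)) =
      Points.ofPt a ((inv g).left v) := by
    intro v
    rw [← Points.map_comp, hs1, ← Points.ofPt_eq_map_ofScheme, Points.ofPt_yon_map_comp]
  have hDsub : Points.map fst ⁻¹' Set.range (Points.ofPt a) ⊆ Set.range (Points.map s) := by
    rintro p ⟨u, hu⟩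
    refine ⟨Points.ofScheme V (g.left u), ?_⟩
    apply Points.map_injective_of_mono fst
    rw [hsfst, hinvg, hu]
  have huniv : Set.range (Points.map s) = Set.univ := by
    apply Set.eq_univ_of_univ_subset
    rw [← hD.closure_eq]
    exact closure_minimal hDsub hcl
  obtain ⟨v, hv⟩ := hx
  obtain ⟨p, hp1, -⟩ := Points.exists_of_isPullback sq x (Points.ofScheme V v)
    (by rw [← hv, Points.ofPt_eq_map_ofScheme])
  have hp : p ∈ Set.range (Points.map s) := by rw [huniv]; trivial
  obtain ⟨z, rfl⟩ := hp
  obtain ⟨v', rfl⟩ := (Points.schemeHomeo V).surjective z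
  refine ⟨(inv g).left v', ?_⟩
  rw [← hp1]
  exact (hsfst v').symm

end Groth.Agent.Lib.Helper3.BiratD
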