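import Groth.Agent.Lib.Helper3.BiratD6
import Groth.Agent.Lib.Helper3.AlgSpQC
import Groth.Agent.Lib.Helper3.AlgSpHasAtMor
import Groth.Agent.Lib.Helper13.BiratRestrict
set_option autoImplicit false
universe u
open CategoryTheory CategoryTheory.Limits AlgebraicGeometry Topology TopologicalSpace
open AlgSp

namespace Groth.Agent.Lib.Helper3.BiratD

open Groth.Agent.Lib.Helper3 Groth.Agent.Lib.Helper3.GenFinSp

variable {S : Scheme.{u}}

/-- **Core claim (quasi-compact case).** For a quasi-compact morphism, a generic point of an open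
subscheme of the target lying in the closure of the image of a closed set lies in the image. -/
theorem mem_image_of_mem_closure_image_of_qc {X Y : Sp S} (f : X ⟶ Y)
    (hqc : IsQuasiCompactMor f) {V : Over S} (b : (yon S).obj V ⟶ Y)
    (hb : RepWith @IsOpenImmersion b) (v : ↥V.left)
    (hv : closure {v} ∈ irreducibleComponents ↥V.left)
    (T : Set (Points X)) (hT : IsClosed T)
    (hcl : Points.ofPt b v ∈ closure (Points.map f '' T)) :
    Points.ofPt b v ∈ Points.map f '' T := by
  obtain ⟨_, ⟨(W : V.left.Opens), hW : IsAffineOpen W, rfl⟩, hvW, -⟩ :=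
    (V.left.isBasis_affineOpens).exists_subset_of_mem_open (Set.mem_univ v) isOpen_univ
  set c : (yon S).obj (opOver V W) ⟶ Y := (yon S).map (opι V W) ≫ b with hc
  have sq := IsPullback.of_hasPullback f c
  set P := pullback f c
  set fst : P ⟶ X := pullback.fst f c
  set snd : P ⟶ (yon S).obj (opOver V W) := pullback.snd f c
  have hWc : CompactSpace ↥(opOver V W).left := by
    have : IsAffine (opOver V W).left := hW
    infer_instance
  obtain ⟨A, e, hee, hes, hA⟩ :=
    hqc (IsAlgSpace.yon_obj _) (isQuasiCompactSp_yon hWc) c fst snd sq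
  haveI : CompactSpace ↥A.left := hA
  obtain ⟨q₀, hq₀⟩ := (yon S).map_surjective (e ≫ snd)
  -- the closed set `T_A`
  let TA : Set ↥A.left := Points.ofPt (e ≫ fst) ⁻¹' T
  have hTA : IsClosed TA := hT.preimage (Points.continuous_ofPt _)
  obtain ⟨R, h, hh⟩ := Groth.Agent.Lib.Helper13.BiratRestrict.exists_range_eq_inter
    (⊤ : A.left.Opens) (by simpa using isCompact_univ) TA hTA
  have hhTA : ∀ r, h.base r ∈ TA := fun r => by
    have : h.base r ∈ Set.range h.base := ⟨r, rfl⟩
    rw [hh] at this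
    exact this.2
  let k : Spec R ⟶ V.left := h ≫ q₀.left ≫ (opι V W).left
  have hιW : ∀ z : ↥(opOver V W).left, (opι V W).left z ∈ W := fun z => by
    change (W.ι (z : ↥W) : ↥V.left) ∈ W
    exact (z : ↥W).2
  have hkW : ∀ r, k.base r ∈ W := fun r => hιW (q₀.left (h r))
  -- the key formula
  have hkey : ∀ α : ↥A.left, Points.map f (Points.ofPt (e ≫ fst) α) =
      Points.ofPt b ((opι V W).left (q₀.left α)) := by
    intro α
    rw [Points.map_ofPt, Category.assoc, sq.w, ← Category.assoc, ← hq₀, hc, ← Category.assoc,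
      ← Functor.map_comp, Points.ofPt_yon_map_comp]
    rfl
  have hclk : v ∈ closure (Set.range k.base) := by
    rw [mem_closure_iff]
    intro O hO hvO
    have hOW : IsOpen (Points.ofPt b '' (O ∩ (W : Set ↥V.left))) :=
      (isOpenEmbedding_ofPt b hb).isOpenMap _ (hO.inter W.2)
    obtain ⟨y, hyO, hyT⟩ := mem_closure_iff.1 hcl _ hOW ⟨v, ⟨hvO, hvW⟩, rfl⟩
    obtain ⟨w, ⟨hwO, hwW⟩, rfl⟩ := hyO
    obtain ⟨x, hxT, hx⟩ := hyT
    have h1 : Points.map f x = Points.map c (Points.ofScheme (opOver V W) (⟨w, hwW⟩ : ↥W)) := by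
      rw [hx, ← Points.ofPt_eq_map_ofScheme, hc, Points.ofPt_yon_map_comp]
      rfl
    obtain ⟨p, hp1, hp2⟩ := Points.exists_of_isPullback sq x _ h1
    obtain ⟨α, hα⟩ := exists_ofPt_eq e hes p
    have hαT : α ∈ TA := by
      change Points.ofPt (e ≫ fst) α ∈ T
      rw [← Points.map_ofPt, hα, hp1]
      exact hxT
    have : α ∈ Set.range h.base := by rw [hh]; exact ⟨trivial, hαT⟩
    obtain ⟨r, rfl⟩ := this
    refine ⟨k.base r, ?_, ⟨r, rfl⟩⟩
    have h2 : Points.ofPt b ((opι V W).left (q₀.left (h.base r))) = Points.ofPt b w := by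
      rw [← hkey, ← Points.map_ofPt, hα, hp1, hx]
    have h3 := Birat.ofPt_injective_of_isOpenImmersion b hb h2
    change (opι V W).left (q₀.left (h.base r)) ∈ O
    rw [h3]
    exact hwO
  obtain ⟨r, hr⟩ :=
    Groth.Agent.Lib.Helper13.BiratRestrict.mem_range_of_mem_closure_range k hW hkW hv hvW hclk
  refine ⟨Points.ofPt (e ≫ fst) (h.base r), hhTA r, ?_⟩
  rw [hkey, ← hr]
  rfl

end Groth.Agent.Lib.Helper3.BiratD
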