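import Groth.Agent.Lib.Helper3.BiratD7
set_option autoImplicit false
universe u
open CategoryTheory CategoryTheory.Limits AlgebraicGeometry Topology TopologicalSpace
open AlgSp

namespace Groth.Agent.Lib.Helper3.BiratD

open Groth.Agent.Lib.Helper3 Groth.Agent.Lib.Helper3.GenFinSp

variable {S : Scheme.{u}}

/-- **Quasi-compact case.** -/
theorem exists_open_preimage_subset_of_qc {X Y : AlgSp.Space S} (f : X ⟶ Y)
    (hX : IsDecent X.obj) (hY : IsDecent Y.obj)
    (hXf : (irreducibleComponents (Points X.obj)).Finite)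
    (hf : W4stk3decentspacesp2.IsBirational f.hom) {U V : Over S}
    (a : (yon S).obj U ⟶ X.obj) (b : (yon S).obj V ⟶ Y.obj)
    (ha : RepWith @IsOpenImmersion a) (hb : RepWith @IsOpenImmersion b)
    (had : Dense (Set.range (Points.ofPt a))) (hqc : IsQuasiCompactMor f.hom) :
    ∃ V' : V.left.Opens, Dense (V' : Set ↥V.left) ∧
      ∀ x : Points X.obj, Points.map f.hom x ∈ Points.ofPt b '' (V' : Set ↥V.left) →
        x ∈ Set.range (Points.ofPt a) := by
  haveI hqsY : QuasiSober (Points Y.obj) := DecDense.quasiSober_points_of_isDecent Y hY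
  haveI hT0Y : T0Space (Points Y.obj) := Groth.Agent.S10338.result Y hY
  have hao : IsOpen (Set.range (Points.ofPt a)) := (isOpenEmbedding_ofPt a ha).isOpen_range
  set T : Set (Points X.obj) := (Set.range (Points.ofPt a))ᶜ with hTdef
  have hT : IsClosed T := hao.isClosed_compl
  set C : Set (Points Y.obj) := closure (Points.map f.hom '' T) with hCdef
  have hC : IsClosed C := isClosed_closure
  let V' : V.left.Opens := ⟨Points.ofPt b ⁻¹' Cᶜ, hC.isOpen_compl.preimage (Points.continuous_ofPt b)⟩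
  refine ⟨V', ?_, ?_⟩
  · apply dense_of_genericPoints_subset
    intro v hv
    change Points.ofPt b v ∉ C
    intro hvC
    obtain ⟨x, hxT, hx⟩ := mem_image_of_mem_closure_image_of_qc f.hom hqc b hb v hv T hT hvC
    -- `ofPt b v` is a generic point of `|Y|`
    have hvm : v ∈ maxPts ↥V.left := by rw [← genericPoints_eq_maxPts]; exact hv
    have hy : Points.ofPt b v ∈ genericPoints (Points Y.obj) := by
      rw [genericPoints_eq_maxPts]
      exact (mem_maxPts_iff_of_isOpenEmbedding (isOpenEmbedding_ofPt b hb) v).1 hvm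
    obtain ⟨ξ, hξ, hξy⟩ := hf.bijOn.surjOn hy
    obtain ⟨U', V'', a', b'', g'', u', ha', hb'', hcomm'', hu', hiso⟩ := hf.stalkIso ξ hξ
    have hxξ : x = ξ := Birat.eq_of_map_eq f hX hY hf ξ hξ a' b'' g'' u' ha' hb'' hcomm'' hu' hiso x
      (hx.trans hξy.symm)
    have hξa : ξ ∈ Set.range (Points.ofPt a) := mem_of_dense_of_mem_genericPoints hXf hao had hξ
    exact hxT (hxξ ▸ hξa)
  · rintro x ⟨v, hvV', hv⟩
    by_contra hxa
    have hvC : Points.ofPt b v ∉ C := hvV'
    apply hvC
    rw [hv]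
    exact subset_closure ⟨x, hxa, rfl⟩

/-- **S10436.** -/
theorem main10436 {X Y : AlgSp.Space S} (f : X ⟶ Y)
    (hX : AlgSp.IsDecent X.obj) (hY : AlgSp.IsDecent Y.obj)
    (hXf : (irreducibleComponents (AlgSp.Points X.obj)).Finite)
    (hYf : (irreducibleComponents (AlgSp.Points Y.obj)).Finite)
    (hf : W4stk3decentspacesp2.IsBirational f.hom)
    (h₁ : AlgSp.IsQuasiCompactMor f.hom ∨ AlgSp.IsSeparatedMor f.hom)
    (h₂ : (AlgSp.LocP @LocallyOfFiniteType f.hom ∧ AlgSp.EtaleLocally (fun T => IsReduced T) Y.obj) ∨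
      AlgSp.LocP @LocallyOfFinitePresentation f.hom) :
    ∃ (V : Over S) (b : (AlgSp.yon S).obj V ⟶ Y.obj), AlgSp.RepWith @IsOpenImmersion b ∧
      Dense (Set.range (AlgSp.Points.ofPt b)) ∧
        ∀ ⦃P : AlgSp.Sp S⦄ (fst : P ⟶ X.obj) (snd : P ⟶ (AlgSp.yon S).obj V),
          IsPullback fst snd f.hom b → IsIso snd := by
  obtain ⟨U, V, a, b, g, ha, hb, had, hbd, hcomm, hg⟩ := main10435 f hX hY hXf hYf hf h₂
  haveI := hg
  obtain ⟨V', hV'd, hpre⟩ : ∃ V' : V.left.Opens, Dense (V' : Set ↥V.left) ∧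
      ∀ x : Points X.obj, Points.map f.hom x ∈ Points.ofPt b '' (V' : Set ↥V.left) →
        x ∈ Set.range (Points.ofPt a) := by
    rcases h₁ with hqc | hsep
    · exact exists_open_preimage_subset_of_qc f hX hY hXf hf a b ha hb had hqc
    · exact ⟨⊤, by simpa using dense_univ, fun x hx =>
        preimage_subset_of_isSeparatedMor f a b g hb hcomm had hsep x
          (Set.image_subset_range _ _ hx)⟩
  refine ⟨opOver V V', (yon S).map (opι V V') ≫ b, repWith_isOpenImmersion_opι_comp b hb V', ?_, ?_⟩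
  · rw [range_ofPt_opι_comp]
    exact DenseRange.dense_image hbd (Points.continuous_ofPt b) hV'd
  · intro P fst snd hP
    exact isIso_snd_of_preimage_subset f.hom a b g ha hb hcomm V' hpre fst snd hP

end Groth.Agent.Lib.Helper3.BiratD
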