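import Groth.Agent.Lib.Helper3.SchLoc4
import Groth.Agent.Lib.Helper3.AlgSpGenLift

set_option autoImplicit false
universe u w

namespace Groth.Agent.Lib.Helper3.SchLoc

open CategoryTheory CategoryTheory.Limits AlgebraicGeometry Opposite AlgSp Topology
open Groth.Agent.Lib.Helper3 Groth.Agent.Lib.Helper3.GenDense Groth.Agent.Lib.Helper3.GenFinSp
  Groth.Agent.Lib.Helper3.RelNorm

variable {S : Scheme.{u}}

theorem zlqs_of_isQuasiSeparatedSp (X : AlgSp.Space S) (hqs : IsQuasiSeparatedSp X.obj) :
    ∃ (ι : Type u) (Xi : ι → AlgSp.Space S) (j : ∀ k, Xi k ⟶ X),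
      AlgSp.IsZarCover (fun k => (Xi k).obj) (fun k => (j k).hom) ∧
        ∀ k, AlgSp.IsQuasiSeparatedSp (Xi k).obj :=
  ⟨PUnit, fun _ => X, fun _ => 𝟙 X,
    ⟨fun _ => Groth.Agent.S9937.repWith_of_isIso @IsOpenImmersion
      (fun g hg => by have := hg; infer_instance) _,
      fun x => ⟨PUnit.unit, x, AlgSp.Points.map_id x⟩⟩, fun _ => hqs⟩

/-- In a decent, quasi-sober, `T0` space of points: codimension 0 points are exactly the generic
points of irreducible components. -/
theorem hasAt_codimZero_iff_isGenericPoint_component (X : AlgSp.Space S)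
    (hd : IsDecent X.obj) [QuasiSober (Points X.obj)] [T0Space (Points X.obj)]
    (x : Points X.obj) :
    HasAt D0 X.obj x ↔ ∃ Z ∈ irreducibleComponents (Points X.obj), IsGenericPoint x Z := by
  constructor
  · intro hx
    refine ⟨closure {x}, ⟨isIrreducible_singleton.closure, ?_⟩, isGenericPoint_closure⟩
    intro Z' hZ' hle
    have hZ'' : IsIrreducible (closure Z') := hZ'.closure
    obtain ⟨η, hη⟩ := QuasiSober.sober hZ'' isClosed_closure
    have hxZ : x ∈ closure Z' := subset_closure (hle (subset_closure rfl))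
    have hηx : η ⤳ x := hη.specializes hxZ
    obtain ⟨p, hp, -, hpq⟩ := hd η
    obtain ⟨U, a, u, hae, hau, hdim⟩ := hx
    obtain ⟨u', hu'u, hu'η⟩ := exists_specializes_lift_of_qc_point x p (hp ▸ hηx) hpq a hae u hau
    have : u' = u := Groth.Agent.Lib.lead.QFCodim.eq_of_specializes_of_dim_zero U.left hdim hu'u
    have hηeq : η = x := by rw [← hp, ← hu'η, this, hau]
    rw [hηeq] at hη
    exact subset_closure.trans hη.def.ge
  · rintro ⟨Z, ⟨hZirr, hZmax⟩, hxZ⟩
    obtain ⟨z₀, hz₀x, hz₀⟩ := exists_codimZero_generization X.property x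
    have h1 : Z ≤ closure {z₀} := by
      rw [← hxZ.def]
      exact closure_minimal (Set.singleton_subset_iff.2 (specializes_iff_mem_closure.1 hz₀x))
        isClosed_closure
    have h2 : closure {z₀} ≤ Z := hZmax isIrreducible_singleton.closure h1
    have hz₀Z : z₀ ∈ Z := h2 (subset_closure rfl)
    have hxz₀ : x ⤳ z₀ := hxZ.specializes hz₀Z
    have : x = z₀ := (hxz₀.antisymm hz₀x).eq
    rw [this]
    exact hz₀

end Groth.Agent.Lib.Helper3.SchLoc
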