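import Groth.Agent.Lib.Helper3.DecSober1
import Groth.Agent.Lib.Helper3.SchLoc5
import Groth.Agent.S10338

set_option autoImplicit false
universe u w

namespace Groth.Agent.Lib.Helper3.DecDense

open CategoryTheory CategoryTheory.Limits AlgebraicGeometry Opposite AlgSp Topology
open Groth.Agent.Lib.Helper3 Groth.Agent.Lib.Helper3.GenDense Groth.Agent.Lib.Helper3.GenFinSp
  Groth.Agent.Lib.Helper3.RelNorm Groth.Agent.Lib.Helper3.SchLoc

variable {S : Scheme.{u}}

/-- An algebraic space etale over a decent algebraic space is decent. -/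
theorem isDecent_of_isEtaleMor {X Y : Sp S} (hX : IsAlgSpace X) (hY : IsAlgSpace Y) (f : Y ⟶ X)
    (hf : IsEtaleMor f) (hXd : IsDecent X) : IsDecent Y := by
  have hffX := finFibres_of_isDecent hX hXd
  intro y
  obtain ⟨V, ψ, v, hV, hψ, hv⟩ := exists_affine_chart_through hY y
  obtain ⟨R, t, s, kp⟩ := exists_pullback_charts ψ hψ.1 ψ
  have hψf : RepWith @Etale (ψ ≫ f) := hf ψ hψ
  obtain ⟨R', t', s', kp'⟩ := exists_pullback_charts (ψ ≫ f) hψf.1 (ψ ≫ f)
  -- the comparison `R ⟶ R'`
  have hw : (yon S).map t ≫ (ψ ≫ f) = (yon S).map s ≫ (ψ ≫ f) := by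
    rw [← Category.assoc, kp.w, Category.assoc]
  let m : R ⟶ R' := (yon S).preimage (kp'.lift ((yon S).map t) ((yon S).map s) hw)
  have hmt : m ≫ t' = t := by
    apply (yon S).map_injective
    rw [Functor.map_comp, Functor.map_preimage, kp'.lift_fst]
  have hms : m ≫ s' = s := by
    apply (yon S).map_injective
    rw [Functor.map_comp, Functor.map_preimage, kp'.lift_snd]
  have hmm : Mono m := by
    refine ⟨fun {Z} g₁ g₂ h => ?_⟩
    apply (yon S).map_injective
    apply kp.hom_ext
    · rw [← Functor.map_comp, ← Functor.map_comp, ← hmt, ← Category.assoc, h, Category.assoc]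
    · rw [← Functor.map_comp, ← Functor.map_comp, ← hms, ← Category.assoc, h, Category.assoc]
  have hml : Mono m.left := inferInstanceAs (Mono ((Over.forget S).map m))
  have hinj : Function.Injective m.left := m.left.injective
  have hfinR' : (s'.left ⁻¹' {v}).Finite := hffX V (ψ ≫ f) hV hψf R' s' t' kp' v
  have hfin : {r : ↥R.left | s.left r = v ∧ t.left r = v}.Finite := by
    refine (hfinR'.preimage hinj.injOn).subset ?_
    rintro r ⟨hr, -⟩
    change s'.left (m.left r) = v
    rw [← Scheme.Hom.comp_apply, ← Over.comp_left, hms]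
    exact hr
  obtain ⟨p, hp, hm⟩ := DecMono.exists_mono_point_of_finite_relation_fibre hY ψ hψ v v rfl s t kp hfin
  have hpy : Points.mk p = y := hp.trans hv
  refine ⟨p, hpy, hm, ?_⟩
  refine DecMono.repWith_quasiCompact_of_mono_of_finite_fibres hY p ?_
  intro A ψ' hA hψ'
  rw [hpy]
  have hψ'f : RepWith @Etale (ψ' ≫ f) := hf ψ' hψ'
  obtain ⟨R'', t'', s'', kp''⟩ := exists_pullback_charts (ψ' ≫ f) hψ'f.1 (ψ' ≫ f)
  have h1 := ((DecMono.finite_fibres_affine_etale_iff_exists_qc_mono_point hX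
    (Points.map f y)).2 (hXd _) A (ψ' ≫ f) hA hψ'f R'' s'' t'' kp'').1
  refine h1.subset ?_
  intro a' ha'
  change Points.ofPt (ψ' ≫ f) a' = Points.map f y
  rw [← Points.map_ofPt]
  exact congrArg (Points.map f) ha'

/-- Codimension `0` is insensitive to etale morphisms. -/
theorem hasAt_codimZero_iff_of_isEtaleMor {X Y : Sp S} (hY : IsAlgSpace Y) (f : Y ⟶ X)
    (hf : IsEtaleMor f) (y : Points Y) : HasAt D0 Y y ↔ HasAt D0 X (Points.map f y) := by
  constructor
  · rintro ⟨U, a, u, ha, hu, hd⟩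
    exact ⟨U, a ≫ f, u, hf a ha, by rw [← Points.map_ofPt, hu], hd⟩
  · intro hx
    obtain ⟨T, τ, t, -, hτ, ht⟩ := exists_affine_chart_through hY y
    refine ⟨T, τ, t, hτ, ht, ?_⟩
    refine dim_zero_of_hasAt hx (τ ≫ f) (hf τ hτ) t ?_
    rw [← Points.map_ofPt, ht]

/-- **S10395.** -/
theorem main10395 {X Y : AlgSp.Space S} (hX : AlgSp.IsDecent X.obj) (f : Y ⟶ X)
    (hf : AlgSp.IsEtaleMor f.hom) (y : AlgSp.Points Y.obj) :
    (∃ T ∈ irreducibleComponents (AlgSp.Points Y.obj), IsGenericPoint y T) ↔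
      (∃ T ∈ irreducibleComponents (AlgSp.Points X.obj),
        IsGenericPoint (AlgSp.Points.map f.hom y) T) := by
  have hY : IsDecent Y.obj := isDecent_of_isEtaleMor X.property Y.property f.hom hf hX
  haveI : QuasiSober (AlgSp.Points X.obj) := quasiSober_points_of_isDecent X hX
  haveI : T0Space (AlgSp.Points X.obj) := Groth.Agent.S10338.result X hX
  haveI : QuasiSober (AlgSp.Points Y.obj) := quasiSober_points_of_isDecent Y hY
  haveI : T0Space (AlgSp.Points Y.obj) := Groth.Agent.S10338.result Y hY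
  rw [← hasAt_codimZero_iff_isGenericPoint_component Y hY y,
    ← hasAt_codimZero_iff_isGenericPoint_component X hX (Points.map f.hom y)]
  exact hasAt_codimZero_iff_of_isEtaleMor Y.property f.hom hf y

end Groth.Agent.Lib.Helper3.DecDense
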