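import Groth.Agent.Lib.Helper3.BiratD8
import Groth.Agent.Lib.Helper3.DecEt1
set_option autoImplicit false
universe u
open CategoryTheory CategoryTheory.Limits AlgebraicGeometry Topology TopologicalSpace
open AlgSp

namespace Groth.Agent.Lib.Helper3.BiratE

open Groth.Agent.Lib.Helper3 Groth.Agent.Lib.Helper3.GenFinSp Groth.Agent.Lib.Helper3.BiratD

variable {S : Scheme.{u}}

/-- Generic points of irreducible components correspond under etale morphisms to a decent space. -/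
theorem mem_genericPoints_iff_of_isEtaleMor {X Y : AlgSp.Space S} (hX : IsDecent X.obj)
    (f : Y ⟶ X) (hf : IsEtaleMor f.hom) (y : Points Y.obj) :
    y ∈ genericPoints (Points Y.obj) ↔ Points.map f.hom y ∈ genericPoints (Points X.obj) := by
  have h := DecDense.main10395 hX f hf y
  constructor
  · intro hy
    obtain ⟨T, hT, hg⟩ := h.1 ⟨_, hy, rfl⟩
    change closure {Points.map f.hom y} ∈ irreducibleComponents _
    rw [hg.def]; exact hT
  · intro hy
    obtain ⟨T, hT, hg⟩ := h.2 ⟨_, hy, rfl⟩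
    change closure {y} ∈ irreducibleComponents _
    rw [hg.def]; exact hT

/-- **(Z-iso)** generalization of S10434: the base change of a birational `f` along a morphism
`Z ⟶ Y` from a scheme all of whose points go to one generic point of `|Y|` is an isomorphism. -/
theorem isIso_snd_of_points_generic {X Y : AlgSp.Space S} (f : X ⟶ Y)
    (hX : IsDecent X.obj) (hY : IsDecent Y.obj)
    (hf : W4stk3decentspacesp2.IsBirational f.hom) {Z : Over S} (c : (yon S).obj Z ⟶ Y.obj)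
    (y : Points Y.obj) (hy : y ∈ genericPoints (Points Y.obj))
    (hcpt : ∀ ζ : ↥Z.left, Points.ofPt c ζ = y) {P : Sp S}
    (fst : P ⟶ X.obj) (snd : P ⟶ (yon S).obj Z) (hP : IsPullback fst snd f.hom c) :
    IsIso snd := by
  obtain ⟨ξ, hξ, hξy⟩ := hf.bijOn.surjOn hy
  obtain ⟨U', V₀, a', b₀, g, u, ha', hb₀, hcomm, hu, hiso⟩ := hf.stalkIso ξ hξ
  set v₀ := g.left u with hv₀def
  have hv₀ : Points.ofPt b₀ v₀ = y := by
    rw [← hξy, ← hu, Points.map_ofPt, hcomm, Points.ofPt_yon_map_comp]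
  have hrange : Set.range (Points.map c) ⊆ Set.range (Points.map b₀) := by
    rw [range_map_eq_range_ofPt, range_map_eq_range_ofPt]
    rintro _ ⟨ζ, rfl⟩
    exact ⟨v₀, by rw [hv₀, hcpt]⟩
  obtain ⟨t', ht'⟩ := exists_factor_of_range_subset b₀ hb₀ c hrange
  obtain ⟨t, rfl⟩ := (yon S).map_surjective t'
  have hb₀inj := Birat.ofPt_injective_of_isOpenImmersion b₀ hb₀
  have htpt : ∀ ζ : ↥Z.left, t.left ζ = v₀ := by
    intro ζ
    apply hb₀inj
    rw [← Points.ofPt_yon_map_comp, ht', hcpt, hv₀]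
  obtain ⟨ρ, hρ⟩ := Birat.exists_factor_fromSpecStalk t.left v₀ (fun ζ => by rw [htpt ζ])
  have hρw : ρ ≫ (V₀.left.fromSpecStalk v₀ ≫ V₀.hom) = Z.hom := by
    rw [← Category.assoc, hρ]
    exact Over.w t
  let ρ' : Z ⟶ Over.mk (V₀.left.fromSpecStalk v₀ ≫ V₀.hom) := Over.homMk ρ hρw
  have hρ'z₀ : ρ' ≫ (Over.homMk (V₀.left.fromSpecStalk v₀) rfl :
      Over.mk (V₀.left.fromSpecStalk v₀ ≫ V₀.hom) ⟶ V₀) = t := by
    apply Over.OverMorphism.ext
    exact hρ
  obtain ⟨c₀, hc₀⟩ : ∃ c₀ : (yon S).obj (Over.mk (V₀.left.fromSpecStalk v₀ ≫ V₀.hom)) ⟶ Y.obj,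
      c₀ = (yon S).map (Over.homMk (V₀.left.fromSpecStalk v₀) rfl) ≫ b₀ := ⟨_, rfl⟩
  have hcc₀ : c = (yon S).map ρ' ≫ c₀ := by
    rw [hc₀, ← Category.assoc, ← Functor.map_comp, hρ'z₀, ht']
  have hv₀gen : Points.ofPt b₀ v₀ ∈ genericPoints (Points Y.obj) := by rw [hv₀]; exact hy
  have sq₀ := IsPullback.of_hasPullback f.hom c₀
  haveI hiso₀ : IsIso (pullback.snd f.hom c₀) := by
    subst hc₀
    exact Birat.main10434 f hX hY hf b₀ hb₀ v₀ hv₀gen _ _ sq₀
  have hw : fst ≫ f.hom = (snd ≫ (yon S).map ρ') ≫ c₀ := by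
    rw [Category.assoc, ← hcc₀, hP.w]
  let m : P ⟶ pullback f.hom c₀ := pullback.lift fst (snd ≫ (yon S).map ρ') hw
  have hm1 : m ≫ pullback.fst f.hom c₀ = fst := pullback.lift_fst _ _ _
  have hm2 : m ≫ pullback.snd f.hom c₀ = snd ≫ (yon S).map ρ' := pullback.lift_snd _ _ _
  have big : IsPullback (m ≫ pullback.fst f.hom c₀) snd f.hom ((yon S).map ρ' ≫ c₀) := by
    rw [hm1, ← hcc₀]; exact hP
  have left := IsPullback.of_right big hm2 sq₀
  exact left.isIso_snd_of_isIso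

/-- The points of `Spec 𝒪_{V,v}` all map to the image of `v` when that image is a generic point. -/
theorem ofPt_fromSpecStalk_eq {Y : AlgSp.Space S} (hY : IsDecent Y.obj) {V : Over S}
    (b : (yon S).obj V ⟶ Y.obj) (v : ↥V.left)
    (hv : Points.ofPt b v ∈ genericPoints (Points Y.obj))
    (ζ : ↥(Over.mk (V.left.fromSpecStalk v ≫ V.hom)).left) :
    Points.ofPt ((yon S).map (Over.homMk (V.left.fromSpecStalk v) rfl :
      Over.mk (V.left.fromSpecStalk v ≫ V.hom) ⟶ V) ≫ b) ζ = Points.ofPt b v := by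
  haveI hT0Y : T0Space (Points Y.obj) := Groth.Agent.S10338.result Y hY
  rw [Points.ofPt_yon_map_comp]
  apply Birat.eq_of_specializes_genericPoint hv
  apply Specializes.map _ (Points.continuous_ofPt b)
  have : (Over.homMk (V.left.fromSpecStalk v) rfl :
      Over.mk (V.left.fromSpecStalk v ≫ V.hom) ⟶ V).left ζ ∈
      Set.range (V.left.fromSpecStalk v) := ⟨ζ, rfl⟩
  rw [Scheme.range_fromSpecStalk] at this
  exact this

end Groth.Agent.Lib.Helper3.BiratE
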