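import Groth.Agent.Lib.Helper3.BiratE1
set_option autoImplicit false
universe u
open CategoryTheory CategoryTheory.Limits AlgebraicGeometry Topology TopologicalSpace
open AlgSp

namespace Groth.Agent.Lib.Helper3.BiratE

open Groth.Agent.Lib.Helper3 Groth.Agent.Lib.Helper3.GenFinSp Groth.Agent.Lib.Helper3.BiratD

variable {S : Scheme.{u}}

section

variable {X Y : AlgSp.Space S} (f : X ⟶ Y) (hX : IsDecent X.obj) (hY : IsDecent Y.obj)
  (hf : W4stk3decentspacesp2.IsBirational f.hom) {V : Over S} (b : (yon S).obj V ⟶ Y.obj)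
  {P : Sp S} (fst : P ⟶ X.obj) (snd : P ⟶ (yon S).obj V) (hP : IsPullback fst snd f.hom b)

include hf hP in
/-- Existence of a point of `X ×_Y V` over a point of `V` lying over a generic point of `Y`. -/
theorem exists_point_over (v : ↥V.left)
    (hv : Points.ofPt b v ∈ genericPoints (Points Y.obj)) :
    ∃ p : Points P, Points.map snd p = Points.ofScheme V v ∧
      Points.map fst p ∈ genericPoints (Points X.obj) := by
  obtain ⟨ξ, hξ, hξy⟩ := hf.bijOn.surjOn hv
  obtain ⟨p, hp1, hp2⟩ := Points.exists_of_isPullback hP ξ (Points.ofScheme V v)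
    (by rw [hξy, Points.ofPt_eq_map_ofScheme])
  exact ⟨p, hp2, hp1 ▸ hξ⟩

include hX hY hf hP in
/-- The base change of `snd` to `Spec 𝒪_{V,v}` is an isomorphism, for `v` over a generic point. -/
theorem isIso_snd_pullback_specStalk (v : ↥V.left)
    (hv : Points.ofPt b v ∈ genericPoints (Points Y.obj)) :
    IsIso (pullback.snd snd ((yon S).map (Over.homMk (V.left.fromSpecStalk v) rfl :
      Over.mk (V.left.fromSpecStalk v ≫ V.hom) ⟶ V))) := by
  have sqZ := IsPullback.of_hasPullback snd ((yon S).map (Over.homMk (V.left.fromSpecStalk v) rfl :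
      Over.mk (V.left.fromSpecStalk v ≫ V.hom) ⟶ V))
  have big := sqZ.paste_horiz hP
  exact isIso_snd_of_points_generic f hX hY hf _ _ hv
    (fun ζ => ofPt_fromSpecStalk_eq hY b v hv ζ) _ _ big

include hX hY hf hP in
/-- Uniqueness of the point of `X ×_Y V` over a point of `V` lying over a generic point of `Y`. -/
theorem eq_of_map_snd_eq (v : ↥V.left)
    (hv : Points.ofPt b v ∈ genericPoints (Points Y.obj)) (p₁ p₂ : Points P)
    (h₁ : Points.map snd p₁ = Points.ofScheme V v) (h₂ : Points.map snd p₂ = Points.ofScheme V v) :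
    p₁ = p₂ := by
  have sqZ := IsPullback.of_hasPullback snd ((yon S).map (Over.homMk (V.left.fromSpecStalk v) rfl :
      Over.mk (V.left.fromSpecStalk v ≫ V.hom) ⟶ V))
  haveI := isIso_snd_pullback_specStalk f hX hY hf b fst snd hP v hv
  let ζ₀ : ↥(Over.mk (V.left.fromSpecStalk v ≫ V.hom)).left :=
    IsLocalRing.closedPoint (V.left.presheaf.stalk v)
  have hζ₀ : Points.map ((yon S).map (Over.homMk (V.left.fromSpecStalk v) rfl :
      Over.mk (V.left.fromSpecStalk v ≫ V.hom) ⟶ V)) (Points.ofScheme _ ζ₀) =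
      Points.ofScheme V v := by
    have h := Points.map_yon_map_apply (Over.homMk (V.left.fromSpecStalk v) rfl :
      Over.mk (V.left.fromSpecStalk v ≫ V.hom) ⟶ V) ζ₀
    refine h.trans ?_
    have h2 : (Over.homMk (V.left.fromSpecStalk v) rfl :
      Over.mk (V.left.fromSpecStalk v ≫ V.hom) ⟶ V).left ζ₀ = v :=
      Scheme.fromSpecStalk_closedPoint
    rw [h2]
    rfl
  obtain ⟨q₁, hq₁a, hq₁b⟩ := Points.exists_of_isPullback sqZ p₁ (Points.ofScheme _ ζ₀)
    (by rw [h₁, hζ₀])
  obtain ⟨q₂, hq₂a, hq₂b⟩ := Points.exists_of_isPullback sqZ p₂ (Points.ofScheme _ ζ₀)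
    (by rw [h₂, hζ₀])
  have : q₁ = q₂ := Points.map_injective_of_mono _ (hq₁b.trans hq₂b.symm)
  rw [← hq₁a, ← hq₂a, this]

end

end Groth.Agent.Lib.Helper3.BiratE
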