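import Groth.Agent.Lib.Helper3.BiratE2
set_option autoImplicit false
universe u
open CategoryTheory CategoryTheory.Limits AlgebraicGeometry Topology TopologicalSpace
open AlgSp

namespace Groth.Agent.Lib.Helper3.BiratE

open Groth.Agent.Lib.Helper3 Groth.Agent.Lib.Helper3.GenFinSp Groth.Agent.Lib.Helper3.BiratD

variable {S : Scheme.{u}}

theorem isIso_of_isIso_SpecMap {R R' : CommRingCat.{u}} (φ : R ⟶ R') (h : IsIso (Spec.map φ)) :
    IsIso φ := by
  haveI : IsIso (Scheme.Spec.map φ.op) := h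
  haveI : IsIso φ.op := isIso_of_reflects_iso φ.op Scheme.Spec
  exact isIso_of_op φ

section

variable {X Y : AlgSp.Space S} (f : X ⟶ Y) (hX : IsDecent X.obj) (hY : IsDecent Y.obj)
  (hf : W4stk3decentspacesp2.IsBirational f.hom) {V : Over S} (b : (yon S).obj V ⟶ Y.obj)
  {P : Sp S} (fst : P ⟶ X.obj) (snd : P ⟶ (yon S).obj V) (hP : IsPullback fst snd f.hom b)

include hX hY hf hP in
/-- **Stalk isomorphism** for the base change of a birational morphism, on an open subscheme of
`X ×_Y V`, at a point over a maximal point of `V` lying over a generic point of `Y`. -/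
theorem isIso_stalkMap_of_chart {U : Over S} (a : (yon S).obj U ⟶ P)
    (ha : RepWith @IsOpenImmersion a) (g : U ⟶ V) (hg : a ≫ snd = (yon S).map g) (u : ↥U.left)
    (hv : Points.ofPt b (g.left u) ∈ genericPoints (Points Y.obj))
    (hvm : ∀ v' : ↥V.left, v' ⤳ g.left u → v' = g.left u) :
    IsIso (g.left.stalkMap u) := by
  have sqZ := IsPullback.of_hasPullback snd
    ((yon S).map (Over.homMk (V.left.fromSpecStalk (g.left u)) rfl :
      Over.mk (V.left.fromSpecStalk (g.left u) ≫ V.hom) ⟶ V))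
  haveI hpsnd := isIso_snd_pullback_specStalk f hX hY hf b fst snd hP (g.left u) hv
  obtain ⟨Z, hZ⟩ : ∃ Z : Over S, Z = Over.mk (V.left.fromSpecStalk (g.left u) ≫ V.hom) := ⟨_, rfl⟩
  obtain ⟨z', hz'⟩ : ∃ z' : Over.mk (V.left.fromSpecStalk (g.left u) ≫ V.hom) ⟶ V,
      z' = Over.homMk (V.left.fromSpecStalk (g.left u)) rfl := ⟨_, rfl⟩
  rw [← hz'] at sqZ hpsnd
  have hz'l : z'.left = V.left.fromSpecStalk (g.left u) := by rw [hz']; rfl
  set pfst := pullback.fst snd ((yon S).map z') with hpfst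
  set psnd := pullback.snd snd ((yon S).map z') with hpsnddef
  set σ := inv psnd ≫ pfst with hσ
  have hσsnd : σ ≫ snd = (yon S).map z' := by
    rw [hσ, Category.assoc, sqZ.w, IsIso.inv_hom_id_assoc]
  have hz'pt : ∀ ζ, z'.left ζ = g.left u := by
    intro ζ
    apply hvm
    have : z'.left ζ ∈ Set.range (V.left.fromSpecStalk (g.left u)) := ⟨ζ, by rw [hz'l]⟩
    rw [Scheme.range_fromSpecStalk] at this
    exact this
  have hau : Points.map snd (Points.ofPt a u) = Points.ofScheme V (g.left u) := by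
    rw [Points.map_ofPt, hg, ← Category.comp_id ((yon S).map g), Points.ofPt_yon_map_comp]
  have hσpt : ∀ ζ, Points.ofPt σ ζ = Points.ofPt a u := by
    intro ζ
    apply eq_of_map_snd_eq f hX hY hf b fst snd hP (g.left u) hv _ _ _ hau
    rw [Points.map_ofPt, hσsnd, ← Category.comp_id ((yon S).map z'), Points.ofPt_yon_map_comp,
      hz'pt]
  have hrange : Set.range (Points.map σ) ⊆ Set.range (Points.map a) := by
    rw [range_map_eq_range_ofPt, range_map_eq_range_ofPt]
    rintro _ ⟨ζ, rfl⟩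
    exact ⟨u, (hσpt ζ).symm⟩
  obtain ⟨s', hs'⟩ := exists_factor_of_range_subset a ha σ hrange
  obtain ⟨s, rfl⟩ := (yon S).map_surjective s'
  haveI : Mono a := mono_of_repWith_isOpenImmersion a ha
  have hsg : s ≫ g = z' := by
    apply (yon S).map_injective
    rw [Functor.map_comp, ← hg, ← Category.assoc, hs', hσsnd]
  have hainj := Birat.ofPt_injective_of_isOpenImmersion a ha
  have hspt : ∀ ζ, s.left ζ = u := by
    intro ζ
    apply hainj
    rw [← Points.ofPt_yon_map_comp, hs', hσpt]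
  obtain ⟨ρ, hρ⟩ := Birat.exists_factor_fromSpecStalk s.left u (fun ζ => by rw [hspt ζ])
  set φ := g.left.stalkMap u with hφ
  set θ := Spec.map φ with hθ
  have hnat : θ ≫ V.left.fromSpecStalk (g.left u) = U.left.fromSpecStalk u ≫ g.left :=
    Scheme.SpecMap_stalkMap_fromSpecStalk g.left
  -- (i)
  have h1 : ρ ≫ θ = 𝟙 _ := by
    rw [← cancel_mono (V.left.fromSpecStalk (g.left u)), Category.assoc, hnat, ← Category.assoc, hρ,
      Category.id_comp, ← Over.comp_left, hsg, hz'l]
  -- (ii)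
  have hθw : θ ≫ (V.left.fromSpecStalk (g.left u) ≫ V.hom) = U.left.fromSpecStalk u ≫ U.hom := by
    rw [← Category.assoc, hnat, Category.assoc, Over.w g]
  let T : Over S := Over.mk (U.left.fromSpecStalk u ≫ U.hom)
  let iT : T ⟶ U := Over.homMk (U.left.fromSpecStalk u) rfl
  let θ' : T ⟶ Over.mk (V.left.fromSpecStalk (g.left u) ≫ V.hom) := Over.homMk θ hθw
  have hiTg : iT ≫ g = θ' ≫ z' := by
    apply Over.OverMorphism.ext
    change U.left.fromSpecStalk u ≫ g.left = θ ≫ z'.left
    rw [hz'l, hnat]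
  have hkey : (yon S).map θ' ≫ σ = (yon S).map iT ≫ a := by
    have w₁ : ((yon S).map θ' ≫ σ) ≫ snd = (yon S).map θ' ≫ (yon S).map z' := by
      rw [Category.assoc, hσsnd]
    have w₂ : ((yon S).map iT ≫ a) ≫ snd = (yon S).map θ' ≫ (yon S).map z' := by
      rw [Category.assoc, hg, ← Functor.map_comp, ← Functor.map_comp, hiTg]
    have e : sqZ.lift _ _ w₁ = sqZ.lift _ _ w₂ := by
      rw [← cancel_mono psnd, sqZ.lift_snd, sqZ.lift_snd]
    have := congrArg (fun l => l ≫ pfst) e
    simpa only [sqZ.lift_fst] using this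
  have hθs : θ' ≫ s = iT := by
    apply (yon S).map_injective
    rw [← cancel_mono a, Functor.map_comp, Category.assoc, hs', hkey]
  have h2 : θ ≫ ρ = 𝟙 _ := by
    rw [← cancel_mono (U.left.fromSpecStalk u), Category.assoc, hρ, Category.id_comp]
    exact congrArg (fun m => m.left) hθs
  have hθiso : IsIso θ := ⟨ρ, h2, h1⟩
  exact isIso_of_isIso_SpecMap φ hθiso

end

end Groth.Agent.Lib.Helper3.BiratE
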