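import Groth.Agent.Lib.Helper3.BiratE3
import Groth.Agent.Lib.Helper3.SchLoc5
import Groth.Agent.Lib.Helper3.AlgSpDecent2
set_option autoImplicit false
universe u
open CategoryTheory CategoryTheory.Limits AlgebraicGeometry Topology TopologicalSpace
open AlgSp

namespace Groth.Agent.Lib.Helper3.BiratE

open Groth.Agent.Lib.Helper3 Groth.Agent.Lib.Helper3.GenFinSp Groth.Agent.Lib.Helper3.BiratD
  Groth.Agent.Lib.Helper3.GenDense Groth.Agent.Lib.Helper3.SchLoc Groth.Agent.Lib.Helper3.DecDense
  Groth.Agent.Lib.Helper3.RelNorm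

variable {S : Scheme.{u}}

/-- **S10437.** -/
theorem main10437 {X Y : AlgSp.Space S} (f : X ⟶ Y)
    (hX : AlgSp.IsDecent X.obj) (hY : AlgSp.IsDecent Y.obj)
    (hXf : (irreducibleComponents (AlgSp.Points X.obj)).Finite)
    (hYf : (irreducibleComponents (AlgSp.Points Y.obj)).Finite)
    (hf : W4stk3decentspacesp2.IsBirational f.hom) {V : Over S} [IsAffine V.left]
    (b : (AlgSp.yon S).obj V ⟶ Y.obj)
    (hb : AlgSp.RepWith @Etale b) {P : AlgSp.Sp S} (fst : P ⟶ X.obj) (snd : P ⟶ (AlgSp.yon S).obj V)
    (hP : IsPullback fst snd f.hom b) :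
    AlgSp.IsDecent P ∧ (irreducibleComponents (AlgSp.Points P)).Finite ∧
      (irreducibleComponents (AlgSp.Points ((AlgSp.yon S).obj V))).Finite ∧
        W4stk3decentspacesp2.IsBirational snd := by
  have hPalg : IsAlgSpace P :=
    isAlgSpace_of_isPullback' Y.property X.property (IsAlgSpace.yon_obj _) hP
  have hfste : RepWith @Etale fst := MorphismProperty.of_isPullback hP.flip hb
  have hPd : IsDecent P := isDecent_of_representable fst hfste.1 hX
  let Pₛ : AlgSp.Space S := ⟨P, hPalg⟩
  let Vₛ : AlgSp.Space S := ⟨(yon S).obj V, IsAlgSpace.yon_obj _⟩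
  have hfstE : IsEtaleMor fst := isEtaleMor_of_repWith_etale hfste
  have hbE : IsEtaleMor b := isEtaleMor_of_repWith_etale hb
  haveI hqsX : QuasiSober (Points X.obj) := quasiSober_points_of_isDecent X hX
  haveI hT0X : T0Space (Points X.obj) := Groth.Agent.S10338.result X hX
  haveI hqsY : QuasiSober (Points Y.obj) := quasiSober_points_of_isDecent Y hY
  haveI hT0Y : T0Space (Points Y.obj) := Groth.Agent.S10338.result Y hY
  haveI hqsP : QuasiSober (Points P) := quasiSober_points_of_isDecent Pₛ hPd
  haveI hT0P : T0Space (Points P) := Groth.Agent.S10338.result Pₛ hPd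
  haveI hT0V : T0Space (Points ((yon S).obj V)) := (Points.schemeHomeo V).symm.isEmbedding.t0Space
  have hgenP : ∀ p : Points P, p ∈ genericPoints (Points P) ↔
      Points.map fst p ∈ genericPoints (Points X.obj) :=
    mem_genericPoints_iff_of_isEtaleMor hX (ObjectProperty.homMk fst : Pₛ ⟶ X) hfstE
  have hgenV : ∀ v' : Points ((yon S).obj V), v' ∈ genericPoints (Points ((yon S).obj V)) ↔
      Points.map b v' ∈ genericPoints (Points Y.obj) :=
    mem_genericPoints_iff_of_isEtaleMor hY (ObjectProperty.homMk b : Vₛ ⟶ Y) hbE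
  -- the finite set `T`
  have hYgen : (genericPoints (Points Y.obj)).Finite := by
    rw [genericPoints_eq_maxPts]
    exact (finite_irreducibleComponents_iff_maxPts _).1 hYf
  have hfib : ∀ y : Points Y.obj, (Points.ofPt b ⁻¹' {y}).Finite := by
    intro y
    obtain ⟨p, hp, -, hq⟩ := hY y
    rw [← hp]
    exact finite_fibre_of_qc_point p hq b hb
  have hT : {v : ↥V.left | Points.ofPt b v ∈ genericPoints (Points Y.obj)}.Finite := by
    have : {v : ↥V.left | Points.ofPt b v ∈ genericPoints (Points Y.obj)} =
        ⋃ y ∈ genericPoints (Points Y.obj), Points.ofPt b ⁻¹' {y} := by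
      ext v
      simp
    rw [this]
    exact hYgen.biUnion (fun y _ => hfib y)
  have hVl : (irreducibleComponents ↥V.left).Finite := by
    rw [finite_irreducibleComponents_iff_maxPts]
    refine hT.subset ?_
    intro v hv
    have hd := dim_zero_of_maximal V.left v hv
    have h0 : HasAt D0 Y.obj (Points.ofPt b v) := ⟨V, b, v, hb, rfl, hd⟩
    obtain ⟨T, hTc, hg⟩ := (hasAt_codimZero_iff_isGenericPoint_component Y hY _).1 h0
    change closure {Points.ofPt b v} ∈ irreducibleComponents _
    rw [hg.def]; exact hTc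
  have hVf : (irreducibleComponents (Points ((yon S).obj V))).Finite :=
    finite_irreducibleComponents_of_surjective (Points.schemeHomeo V)
      (Points.schemeHomeo V).continuous (Points.schemeHomeo V).surjective hVl
  have hbofS : ∀ v : ↥V.left, Points.map b (Points.schemeHomeo V v) = Points.ofPt b v :=
    fun v => (Points.ofPt_eq_map_ofScheme b v).symm
  -- BijOn
  have hmaps : Set.MapsTo (Points.map snd) (genericPoints (Points P))
      (genericPoints (Points ((yon S).obj V))) := by
    intro p hp
    rw [hgenV, ← Points.map_comp, ← hP.w, Points.map_comp]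
    exact hf.bijOn.mapsTo ((hgenP p).1 hp)
  have hbij : Set.BijOn (Points.map snd) (genericPoints (Points P))
      (genericPoints (Points ((yon S).obj V))) := by
    refine ⟨hmaps, ?_, ?_⟩
    · intro p₁ hp₁ p₂ hp₂ h12
      obtain ⟨v, hv⟩ := (Points.schemeHomeo V).surjective (Points.map snd p₁)
      have hvgen : Points.ofPt b v ∈ genericPoints (Points Y.obj) := by
        have := hmaps hp₁
        rw [hgenV, ← hv, hbofS] at this
        exact this
      exact eq_of_map_snd_eq f hX hY hf b fst snd hP v hvgen p₁ p₂ hv.symm (h12 ▸ hv.symm)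
    · intro v' hv'
      obtain ⟨v, rfl⟩ := (Points.schemeHomeo V).surjective v'
      have hvgen : Points.ofPt b v ∈ genericPoints (Points Y.obj) := by
        rw [hgenV, hbofS] at hv'
        exact hv'
      obtain ⟨p, hp1, hp2⟩ := exists_point_over f hf b fst snd hP v hvgen
      exact ⟨p, (hgenP p).2 hp2, hp1⟩
  have hfinV : (genericPoints (Points ((yon S).obj V))).Finite := by
    refine (hT.image (Points.schemeHomeo V)).subset ?_
    intro v' hv'
    obtain ⟨v, rfl⟩ := (Points.schemeHomeo V).surjective v'
    refine ⟨v, ?_, rfl⟩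
    rw [hgenV, hbofS] at hv'
    exact hv'
  have hPf : (irreducibleComponents (Points P)).Finite := by
    rw [finite_irreducibleComponents_iff_maxPts, ← genericPoints_eq_maxPts]
    exact Set.Finite.of_injOn hbij.mapsTo hbij.injOn hfinV
  refine ⟨hPd, hPf, hVf, hbij, ?_⟩
  intro p hp
  obtain ⟨U, a, ha, had⟩ := exists_dense_open_chart Pₛ hPd
  have hao : IsOpen (Set.range (Points.ofPt a)) := (isOpenEmbedding_ofPt a ha).isOpen_range
  obtain ⟨u, hu⟩ := mem_of_dense_of_mem_genericPoints hPf hao had hp
  obtain ⟨g, hg⟩ := (yon S).map_surjective (a ≫ snd)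
  have hsndp : Points.map snd p = Points.schemeHomeo V (g.left u) := by
    rw [← hu, Points.map_ofPt, ← hg, ← Category.comp_id ((yon S).map g), Points.ofPt_yon_map_comp]
    rfl
  have hgen' : Points.schemeHomeo V (g.left u) ∈ genericPoints (Points ((yon S).obj V)) := by
    rw [← hsndp]; exact hmaps hp
  have hvgen : Points.ofPt b (g.left u) ∈ genericPoints (Points Y.obj) := by
    rw [hgenV, hbofS] at hgen'
    exact hgen'
  have hvm : ∀ v' : ↥V.left, v' ⤳ g.left u → v' = g.left u := by
    intro v' hv'
    apply (Points.schemeHomeo V).injective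
    exact Birat.eq_of_specializes_genericPoint hgen' (hv'.map (Points.schemeHomeo V).continuous)
  refine ⟨U, V, a, 𝟙 _, g, u, ha, repWith_id @IsOpenImmersion V, ?_, hu, ?_⟩
  · rw [Category.comp_id, hg]
  · exact isIso_stalkMap_of_chart f hX hY hf b fst snd hP a ha g hg.symm u hvgen hvm

end Groth.Agent.Lib.Helper3.BiratE
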