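import Mathlib
import Groth.Agent.Lib.Helper3.BiratD1
import Groth.Agent.Lib.Helper13.IntBirational
set_option autoImplicit false
universe u
open CategoryTheory CategoryTheory.Limits AlgebraicGeometry Topology TopologicalSpace

namespace Groth.Agent.Lib.Helper3.IntBir

open Groth.Agent.Lib.Helper3

/-- The open set of points lying on no irreducible component other than `closure {η}`. -/
def compOpen {V : Type*} [TopologicalSpace V] (η : V) : Set V :=
  (⋃ η' ∈ maxPts V \ {η}, closure {η'})ᶜ

theorem isOpen_compOpen {V : Type*} [TopologicalSpace V] (h : (maxPts V).Finite) (η : V) :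
    IsOpen (compOpen η) := by
  have hc : IsClosed (⋃ η' ∈ maxPts V \ {η}, closure ({η'} : Set V)) :=
    (h.subset Set.diff_subset).isClosed_biUnion fun _ _ => isClosed_closure
  exact hc.isOpen_compl

theorem mem_compOpen_self {V : Type*} [TopologicalSpace V] {η : V} (hη : η ∈ maxPts V) :
    η ∈ compOpen η := by
  intro h
  simp only [Set.mem_iUnion] at h
  obtain ⟨η', ⟨hη', hne⟩, hmem⟩ := h
  have : η' ⤳ η := specializes_iff_mem_closure.2 hmem
  exact hne (hη η' this)

theorem specializes_of_mem_compOpen {V : Type*} [TopologicalSpace V] [QuasiSober V] [T0Space V]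
    {η v : V} (hv : v ∈ compOpen η) : η ⤳ v := by
  obtain ⟨η', hη', hsp⟩ := Birat.exists_genericPoint_specializes v
  rw [genericPoints_eq_maxPts] at hη'
  by_cases h : η' = η
  · rw [← h]; exact hsp
  · exfalso
    apply hv
    simp only [Set.mem_iUnion]
    exact ⟨η', ⟨hη', h⟩, specializes_iff_mem_closure.1 hsp⟩

/-- In a scheme whose local rings are domains, a point has a unique generic generization. -/
theorem eq_of_specializes_of_isDomain_stalk {V : Scheme.{u}} {v η η' : V}
    [IsDomain (V.presheaf.stalk v)] (hη : η ∈ maxPts V) (hη' : η' ∈ maxPts V)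
    (h : η ⤳ v) (h' : η' ⤳ v) : η = η' := by
  have hr := Scheme.range_fromSpecStalk (X := V) (x := v)
  obtain ⟨p, hp⟩ : η ∈ Set.range (V.fromSpecStalk v) := by rw [hr]; exact h
  obtain ⟨p', hp'⟩ : η' ∈ Set.range (V.fromSpecStalk v) := by rw [hr]; exact h'
  let o : Spec (V.presheaf.stalk v) := ⟨⊥, Ideal.isPrime_bot⟩
  have ho : ∀ q : Spec (V.presheaf.stalk v), o ⤳ q := by
    intro q
    exact (PrimeSpectrum.le_iff_specializes (R := V.presheaf.stalk v) o q).1 bot_le
  have h1 : V.fromSpecStalk v o ⤳ η := hp ▸ (ho p).map (V.fromSpecStalk v).continuous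
  have h2 : V.fromSpecStalk v o ⤳ η' := hp' ▸ (ho p').map (V.fromSpecStalk v).continuous
  rw [← hη _ h1, ← hη' _ h2]

end Groth.Agent.Lib.Helper3.IntBir
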