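import Mathlib
import Groth.Agent.Lib.Helper3.IntBir1
set_option autoImplicit false
universe u
open CategoryTheory CategoryTheory.Limits AlgebraicGeometry Topology TopologicalSpace

namespace Groth.Agent.Lib.Helper3.IntBir

open Groth.Agent.Lib.Helper3

theorem irreducibleSpace_of_forall_specializes {A : Type*} [TopologicalSpace A] (a : A)
    (h : ∀ x, a ⤳ x) : IrreducibleSpace A := by
  rw [irreducibleSpace_def]
  have : (Set.univ : Set A) = closure {a} :=
    (Set.eq_univ_of_forall fun x => specializes_iff_mem_closure.1 (h x)).symm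
  change IsIrreducible (Set.univ : Set A)
  rw [this]
  exact isIrreducible_singleton.closure

theorem isGenericPoint_top_of_forall_specializes {A : Type*} [TopologicalSpace A] (a : A)
    (h : ∀ x, a ⤳ x) : IsGenericPoint a (⊤ : Set A) := by
  rw [isGenericPoint_def]
  exact Set.eq_univ_of_forall fun x => specializes_iff_mem_closure.1 (h x)

/-- Over the open `compOpen η` an integral birational morphism to a normal scheme is an
isomorphism. -/
theorem isIso_morphismRestrict_compOpen {W V : Scheme.{u}} (d : W ⟶ V) [IsIntegralHom d]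
    (hnorm : ∀ v : V, IsDomain (V.presheaf.stalk v) ∧ IsIntegrallyClosed (V.presheaf.stalk v))
    [IsReduced W]
    (hbij : Set.BijOn (fun x : W => d.base x) (genericPoints W) (genericPoints V))
    (hiso : ∀ x ∈ genericPoints W, IsIso (d.stalkMap x)) (η : V) (hη : η ∈ maxPts V)
    (O : V.Opens) (hO : (O : Set V) = compOpen η) : IsIso (d ∣_ O) := by
  have hgV : genericPoints V = maxPts V := genericPoints_eq_maxPts _
  have hgW : genericPoints W = maxPts W := genericPoints_eq_maxPts _
  obtain ⟨ξ, hξ, hξη⟩ := hbij.surjOn (hgV ▸ hη)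
  have hξη' : d ξ = η := hξη
  have hηO : η ∈ O := by
    change η ∈ (O : Set V)
    rw [hO]; exact mem_compOpen_self hη
  have hξO : ξ ∈ d ⁻¹ᵁ O := by
    change d ξ ∈ O
    rw [hξη']; exact hηO
  haveI : ∀ x : V, _root_.IsReduced (V.presheaf.stalk x) := fun x => by
    haveI := (hnorm x).1
    infer_instance
  haveI : IsReduced V := isReduced_of_isReduced_stalk V
  haveI : IsReduced O.toScheme := isReduced_of_isOpenImmersion O.ι
  haveI : IsReduced (d ⁻¹ᵁ O).toScheme := isReduced_of_isOpenImmersion (d ⁻¹ᵁ O).ι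
  -- generic points
  have hOsp : ∀ x : ↥O, (⟨η, hηO⟩ : ↥O) ⤳ x := by
    intro x
    refine Topology.IsInducing.subtypeVal.specializes_iff.1 ?_
    apply specializes_of_mem_compOpen
    rw [← hO]; exact x.2
  have hWsp : ∀ w : ↥(d ⁻¹ᵁ O), (⟨ξ, hξO⟩ : ↥(d ⁻¹ᵁ O)) ⤳ w := by
    intro w
    refine Topology.IsInducing.subtypeVal.specializes_iff.1 ?_
    obtain ⟨ξ', hξ', hsp⟩ := Birat.exists_genericPoint_specializes (w : W)
    have h1 : d ξ' ⤳ d (w : W) := hsp.map d.continuous
    have h2 : d ξ' ∈ O := h1.mem_open O.2 w.2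
    have h3 : d ξ' ∈ maxPts V := hgV ▸ hbij.mapsTo hξ'
    have h4 : η ⤳ d ξ' := by
      apply specializes_of_mem_compOpen
      rw [← hO]; exact h2
    have h5 : d ξ' = d ξ := by rw [hξη']; exact (h3 η h4).symm
    have h6 : ξ' = ξ := hbij.injOn hξ' hξ h5
    exact h6 ▸ hsp
  haveI : IrreducibleSpace ↥O.toScheme := irreducibleSpace_of_forall_specializes _ hOsp
  haveI : IrreducibleSpace ↥(d ⁻¹ᵁ O).toScheme := irreducibleSpace_of_forall_specializes _ hWsp
  haveI : IsIntegral O.toScheme := isIntegral_of_irreducibleSpace_of_isReduced _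
  haveI : IsIntegral (d ⁻¹ᵁ O).toScheme := isIntegral_of_irreducibleSpace_of_isReduced _
  haveI : IsIntegralHom (d ∣_ O) :=
    IsZariskiLocalAtTarget.restrict (P := @IsIntegralHom) inferInstance O
  have hgenO : genericPoint O.toScheme = ⟨η, hηO⟩ :=
    (genericPoint_spec O.toScheme).eq (isGenericPoint_top_of_forall_specializes _ hOsp)
  have hgenW : genericPoint (d ⁻¹ᵁ O).toScheme = ⟨ξ, hξO⟩ :=
    (genericPoint_spec (d ⁻¹ᵁ O).toScheme).eq (isGenericPoint_top_of_forall_specializes _ hWsp)
  refine Groth.Agent.Lib.Helper13.IntBirational.isIso_of_isIntegralHom_of_birational (d ∣_ O) ?_ ?_ ?_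
  · intro y
    haveI := (hnorm y.1).2
    exact IsIntegrallyClosed.of_equiv (O.stalkIso y).commRingCatIsoToRingEquiv.symm
  · rw [hgenW, hgenO]
    apply Subtype.ext
    rw [morphismRestrict_base_coe]
    exact hξη'
  · rw [hgenW]
    have h1 : IsIso (d.stalkMap ξ) := hiso ξ hξ
    have h2 : IsIso ((d ∣_ O).stalkMap ⟨ξ, hξO⟩) :=
      ((MorphismProperty.isomorphisms _).arrow_mk_iso_iff
        (morphismRestrictStalkMap d O ⟨ξ, hξO⟩)).2 h1
    exact (ConcreteCategory.bijective_of_isIso _).2

/-- **Integral birational morphisms to normal schemes** (finitely many irreducible components) are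
isomorphisms. -/
theorem isIso_of_isIntegralHom_birational_normal {W V : Scheme.{u}} (d : W ⟶ V) [IsIntegralHom d]
    (hnorm : ∀ v : V, IsDomain (V.presheaf.stalk v) ∧ IsIntegrallyClosed (V.presheaf.stalk v))
    (hVf : (irreducibleComponents V).Finite) [IsReduced W]
    (hbij : Set.BijOn (fun x : W => d.base x) (genericPoints W) (genericPoints V))
    (hiso : ∀ x ∈ genericPoints W, IsIso (d.stalkMap x)) : IsIso d := by
  have hGfin : (maxPts V).Finite := (finite_irreducibleComponents_iff_maxPts V).1 hVf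
  let O : maxPts V → V.Opens := fun η => ⟨compOpen η.1, isOpen_compOpen hGfin η.1⟩
  have hcover : ⨆ η, O η = ⊤ := by
    rw [eq_top_iff]
    intro v _
    obtain ⟨η, hη, hsp⟩ := Birat.exists_genericPoint_specializes v
    rw [genericPoints_eq_maxPts] at hη
    rw [Opens.mem_iSup]
    refine ⟨⟨η, hη⟩, ?_⟩
    intro hmem
    simp only [Set.mem_iUnion] at hmem
    obtain ⟨η', ⟨hη', hne⟩, hcl⟩ := hmem
    haveI := (hnorm v).1
    exact hne (eq_of_specializes_of_isDomain_stalk hη' hη (specializes_iff_mem_closure.2 hcl) hsp)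
  refine (IsZariskiLocalAtTarget.iff_of_iSup_eq_top (P := .isomorphisms Scheme) _ hcover).mpr
    fun η => ?_
  rw [MorphismProperty.isomorphisms.iff]
  exact isIso_morphismRestrict_compOpen d hnorm hbij hiso η.1 η.2 (O η) rfl

end Groth.Agent.Lib.Helper3.IntBir
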