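import Groth.Agent.Lib.Helper3.BiratE4
import Groth.Agent.Lib.Helper3.IntBir2
import Groth.Agent.Lib.Helper3.AlgSpFpqcLocal
import Groth.Agent.Lib.Helper3.AlgSpFppfFpqc
set_option autoImplicit false
universe u
open CategoryTheory CategoryTheory.Limits AlgebraicGeometry Topology TopologicalSpace
open AlgSp

namespace Groth.Agent.Lib.Helper3.BiratE

open Groth.Agent.Lib.Helper3 Groth.Agent.Lib.Helper3.GenFinSp Groth.Agent.Lib.Helper3.BiratD

variable {S : Scheme.{u}}

/-- **Affine normal etale chart**: the base change of an integral birational morphism (reduced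
source) to an affine etale chart with normal local rings is an isomorphism. -/
theorem isIso_of_affine_normal_chart {X Y : AlgSp.Space S} (f : X ⟶ Y)
    (hX : IsDecent X.obj) (hY : IsDecent Y.obj)
    (hXf : (irreducibleComponents (Points X.obj)).Finite)
    (hYf : (irreducibleComponents (Points Y.obj)).Finite)
    (hf : W4stk3decentspacesp2.IsBirational f.hom)
    (hXr : EtaleLocally (fun T => IsReduced T) X.obj) {V W : Over S} [IsAffine V.left]
    (b : (yon S).obj V ⟶ Y.obj) (hb : RepWith @Etale b)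
    (hVn : ∀ v : ↥V.left, IsDomain ↥(V.left.presheaf.stalk v) ∧
      IsIntegrallyClosed ↥(V.left.presheaf.stalk v))
    (i : W ⟶ V) (fst : (yon S).obj W ⟶ X.obj) (sq : IsPullback fst ((yon S).map i) f.hom b)
    (hint : IsIntegralHom i.left) : IsIso ((yon S).map i) := by
  obtain ⟨hWd, hWf, hVf, hbir⟩ := main10437 f hX hY hXf hYf hf b hb fst ((yon S).map i) sq
  have hVd : IsDecent ((yon S).obj V) := isDecent_of_representable b hb.1 hY
  let Wₛ : AlgSp.Space S := ⟨(yon S).obj W, IsAlgSpace.yon_obj _⟩
  let Vₛ : AlgSp.Space S := ⟨(yon S).obj V, IsAlgSpace.yon_obj _⟩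
  have haG : genericPoints (Points ((yon S).obj W)) ⊆
      Set.range (Points.ofPt (𝟙 ((yon S).obj W))) := by
    intro x _
    exact (Points.schemeHomeo W).surjective x
  obtain ⟨hWlf, hVlf, hbij, hiso⟩ :=
    scheme_birational_of_charts (X := Wₛ) (Y := Vₛ) (ObjectProperty.homMk ((yon S).map i)) hWd hVd
      hWf hVf hbir (𝟙 _) (𝟙 _) i (repWith_id @IsOpenImmersion W) (repWith_id @IsOpenImmersion V)
      (by rw [Category.id_comp, Category.comp_id]; rfl) haG
  have hfste : RepWith @Etale fst := MorphismProperty.of_isPullback sq.flip hb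
  haveI : IsReduced W.left := isReduced_of_etale_chart hXr fst hfste
  haveI := hint
  haveI : IsIso i.left :=
    IntBir.isIso_of_isIntegralHom_birational_normal i.left hVn hVlf hbij hiso
  haveI : IsIso ((Over.forget S).map i) := ‹IsIso i.left›
  haveI : IsIso i := isIso_of_reflects_iso i (Over.forget S)
  infer_instance

/-- **S10438.** -/
theorem main10438 {X Y : AlgSp.Space S} (f : X ⟶ Y)
    (hX : AlgSp.IsDecent X.obj) (hY : AlgSp.IsDecent Y.obj)
    (hXf : (irreducibleComponents (AlgSp.Points X.obj)).Finite)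
    (hYf : (irreducibleComponents (AlgSp.Points Y.obj)).Finite)
    (hi : AlgSp.IsIntegralMor f.hom) (hf : W4stk3decentspacesp2.IsBirational f.hom)
    (hYn : AlgSp.EtaleLocally (fun T => ∀ t : ↥T, IsDomain ↥(T.presheaf.stalk t) ∧
      IsIntegrallyClosed ↥(T.presheaf.stalk t)) Y.obj)
    (hXr : AlgSp.EtaleLocally (fun T => IsReduced T) X.obj) : IsIso f.hom := by
  obtain ⟨T, p, hpe, hps, hTn⟩ := hYn
  let ι : Type u := T.left.affineOpens
  let V : ι → Over S := fun i => opOver T i.1
  let b : ∀ i : ι, (yon S).obj (V i) ⟶ Y.obj := fun i => (yon S).map (opι T i.1) ≫ p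
  have hVa : ∀ i : ι, IsAffine (V i).left := fun i => i.2
  have hbe : ∀ i : ι, RepWith @Etale (b i) := fun i => by
    refine MorphismProperty.comp_mem _ _ _ ?_ hpe
    rw [repWith_yon_map_iff]
    change Etale (Scheme.Opens.ι i.1)
    infer_instance
  have hbfl : ∀ i, LocP @Flat (b i) := fun i => by
    refine locP_of_repWith isEtLocal_flat _ (MorphismProperty.relative_monotone ?_ _ (hbe i))
    intro A B k hk
    have : Etale ((Over.forget S).map k) := hk
    change Flat ((Over.forget S).map k)
    infer_instance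
  have hbfp : ∀ i, LocP @LocallyOfFinitePresentation (b i) := fun i => by
    refine locP_of_repWith isEtLocal_locallyOfFinitePresentation _
      (MorphismProperty.relative_monotone ?_ _ (hbe i))
    intro A B k hk
    have : Etale ((Over.forget S).map k) := hk
    change LocallyOfFinitePresentation ((Over.forget S).map k)
    infer_instance
  have hsurj : ∀ y : Points Y.obj, ∃ i : ι, y ∈ Set.range (Points.map (b i)) := by
    intro y
    obtain ⟨t, rfl⟩ := exists_ofPt_eq p hps y
    obtain ⟨_, ⟨i, hi', rfl⟩, hti, -⟩ :=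
      (T.left.isBasis_affineOpens).exists_subset_of_mem_open (Set.mem_univ t) isOpen_univ
    refine ⟨⟨i, hi'⟩, ?_⟩
    rw [range_map_eq_range_ofPt, range_ofPt_opι_comp]
    exact ⟨t, hti, rfl⟩
  have hYi : ∀ i : ι, IsAlgSpace ((yon S).obj (V i)) := fun i => IsAlgSpace.yon_obj _
  have hcov : IsFpqcCover (fun i : ι => (yon S).obj (V i)) b :=
    ⟨hbfl, hasStdRefinement_of_isFppfCover Y.property _ b hYi
      ⟨fun i => ⟨hbfl i, hbfp i⟩, hsurj⟩⟩
  choose W ii fst sq hWa hint using fun i : ι => hi (hVa i) (b i)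
  have hXi : ∀ i : ι, IsAlgSpace ((yon S).obj (W i)) := fun i => IsAlgSpace.yon_obj _
  refine (isLocalOnBase_fpqc_isomorphisms (fun i : ι => (yon S).obj (V i)) b
    Y.property hYi hcov f.hom X.property (fun i => (yon S).obj (W i))
    (fun i => (yon S).map (ii i)) fst hXi sq).2 ?_
  intro i
  change IsIso ((yon S).map (ii i))
  haveI := hVa i
  refine isIso_of_affine_normal_chart f hX hY hXf hYf hf hXr (b i) (hbe i) ?_ (ii i) (fst i) (sq i)
    (hint i)
  intro v
  obtain ⟨h1, h2⟩ := hTn v.1
  let e := (i.1.stalkIso v).commRingCatIsoToRingEquiv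
  exact ⟨e.toMulEquiv.isDomain _, IsIntegrallyClosed.of_equiv e.symm⟩

end Groth.Agent.Lib.Helper3.BiratE
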