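import Groth.Agent.Lib.Helper3.SchImIdeal2
import Groth.Agent.Lib.Helper3.ImmFpqcDesc
import Groth.Prelude.Def_Neron
import Mathlib.RingTheory.Flat.TorsionFree
import Mathlib.Algebra.Category.Ring.Instances
set_option autoImplicit false
universe u
open CategoryTheory CategoryTheory.Limits AlgebraicGeometry Opposite

namespace Groth.Agent.Lib.Helper3.SchIm


/-- A ring over a Dedekind domain `R` which embeds into an algebra over the fraction field of `R`
is flat over `R`. -/
theorem flat_of_injective_of_fractionRing {R K A B : Type u} [CommRing R] [IsDedekindDomain R]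
    [Field K] [Algebra R K] [IsFractionRing R K] [CommRing A] [CommRing B] (φ : R →+* A)
    (ψ : A →+* B) (hψ : Function.Injective ψ) (κ : K →+* B)
    (h : κ.comp (algebraMap R K) = ψ.comp φ) : φ.Flat := by
  algebraize [φ, κ, ψ.comp φ]
  have : IsScalarTower R K B := IsScalarTower.of_algebraMap_eq' h.symm
  have h1 : Module.Flat R K := IsLocalization.flat K (nonZeroDivisors R)
  have h2 : Module.Flat R B := Module.Flat.trans R K B
  have h3 : Module.IsTorsionFree R B := inferInstance
  have h4 : Module.IsTorsionFree R A := by
    refine Function.Injective.moduleIsTorsionFree ψ hψ ?_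
    intro r a
    rw [Algebra.smul_def, Algebra.smul_def, map_mul]
    rfl
  change Module.Flat R A
  infer_instance



/-- A factorization of a quasi-compact morphism through a closed immersion with the same
kernel is scheme theoretically dominant. -/
theorem isSchemeTheoreticallyDominant_of_ker_eq {C U W : Scheme.{u}} (c : C ⟶ U)
    [IsClosedImmersion c] (h : W ⟶ U) [QuasiCompact h] (l : W ⟶ C) (hl : l ≫ c = h)
    (hk : c.ker = h.ker) : IsSchemeTheoreticallyDominant l := by
  have hk' : c.ker = h.imageι.ker := by rw [Scheme.IdealSheafData.ker_subschemeι, hk]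
  have hiso : IsIso (IsClosedImmersion.lift c h.imageι hk'.le) :=
    IsClosedImmersion.isIso_lift c h.imageι hk'
  have hdom := ImmDesc.isSchemeTheoreticallyDominant_toImage h
  have : l = h.toImage ≫ IsClosedImmersion.lift c h.imageι hk'.le := by
    rw [← cancel_mono c, Category.assoc, IsClosedImmersion.lift_fac, h.toImage_imageι, hl]
  rw [this]
  infer_instance

/-- A morphism to a scheme theoretically dominant... kernel of composite. -/
theorem ker_comp_of_isSchemeTheoreticallyDominant {W C U : Scheme.{u}} (l : W ⟶ C)
    [IsSchemeTheoreticallyDominant l] (c : C ⟶ U) : (l ≫ c).ker = c.ker := by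
  rw [← Scheme.IdealSheafData.map_ker, l.ker_eq_bot, Scheme.IdealSheafData.map_bot]



/-- A scheme over a Dedekind domain receiving a quasi-compact scheme theoretically dominant
morphism from a scheme over the fraction field is flat. -/
theorem flat_of_dominant_of_genPt (R : Type u) [CommRing R] [IsDedekindDomain R]
    {C W : Scheme.{u}} (π : C ⟶ Spec (CommRingCat.of R)) (l : W ⟶ C) [QuasiCompact l]
    [IsSchemeTheoreticallyDominant l] (ν : W ⟶ Spec (CommRingCat.of (FractionRing R)))
    (hν : ν ≫ Neron.genPt R = l ≫ π) : Flat π := by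
  rw [HasRingHomProperty.iff_of_source_openCover (P := @Flat) C.affineCover]
  intro i
  have hdom : IsSchemeTheoreticallyDominant (pullback.snd l (C.affineCover.f i)) := inferInstance
  have hqc : QuasiCompact (pullback.snd l (C.affineCover.f i)) := inferInstance
  have hinj : Function.Injective (pullback.snd l (C.affineCover.f i)).appTop.hom :=
    (pullback.snd l (C.affineCover.f i)).app_injective ⊤
  have hcomm : (pullback.fst l (C.affineCover.f i) ≫ ν) ≫ Neron.genPt R =
      pullback.snd l (C.affineCover.f i) ≫ (C.affineCover.f i ≫ π) := by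
    rw [Category.assoc, hν, ← Category.assoc, pullback.condition, Category.assoc]
  rw [← RingHom.Flat.respectsIso.cancel_left_isIso (Scheme.ΓSpecIso (CommRingCat.of R)).inv]
  refine flat_of_injective_of_fractionRing (K := FractionRing R) _ _ hinj
    ((Scheme.ΓSpecIso (CommRingCat.of (FractionRing R))).inv ≫
      (pullback.fst l (C.affineCover.f i) ≫ ν).appTop).hom ?_
  have h1 := congrArg (fun f => (Scheme.ΓSpecIso (CommRingCat.of R)).inv ≫ f.appTop) hcomm
  simp only [Scheme.Hom.comp_appTop] at h1
  have h2 := Scheme.ΓSpecIso_inv_naturality (CommRingCat.ofHom (algebraMap R (FractionRing R)))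
  have h3 : CommRingCat.ofHom (algebraMap R (FractionRing R)) ≫
      (Scheme.ΓSpecIso (CommRingCat.of (FractionRing R))).inv ≫
        (pullback.fst l (C.affineCover.f i) ≫ ν).appTop =
      ((Scheme.ΓSpecIso (CommRingCat.of R)).inv ≫ (C.affineCover.f i ≫ π).appTop) ≫
        (pullback.snd l (C.affineCover.f i)).appTop := by
    rw [← Category.assoc, h2, Category.assoc, Category.assoc]
    simpa [Scheme.Hom.comp_appTop] using h1
  exact congrArg CommRingCat.Hom.hom h3



theorem isSchemeTheoreticallyDominant_Spec_map {A B : CommRingCat.{u}} (φ : A ⟶ B)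
    (h : Function.Injective φ.hom) : IsSchemeTheoreticallyDominant (Spec.map φ) := by
  rw [isSchemeTheoreticallyDominant_iff, Scheme.ker_of_isAffine]
  have h1 : RingHom.ker (Spec.map φ).appTop.hom = ⊥ := by
    rw [← RingHom.injective_iff_ker_eq_bot]
    have h2 := Scheme.ΓSpecIso_naturality φ
    have h3 : (Spec.map φ).appTop = (Scheme.ΓSpecIso A).hom ≫ φ ≫ (Scheme.ΓSpecIso B).inv := by
      rw [← Category.assoc, ← h2, Category.assoc, Iso.hom_inv_id, Category.comp_id]
    rw [h3]
    have i1 : Function.Injective (Scheme.ΓSpecIso A).hom.hom :=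
      (ConcreteCategory.bijective_of_isIso (Scheme.ΓSpecIso A).hom).1
    have i2 : Function.Injective (Scheme.ΓSpecIso B).inv.hom :=
      (ConcreteCategory.bijective_of_isIso (Scheme.ΓSpecIso B).inv).1
    simp only [CommRingCat.hom_comp, RingHom.coe_comp]
    exact i2.comp (h.comp i1)
  rw [h1]
  exact map_bot (Scheme.IdealSheafData.equivOfIsAffine (X := Spec A)).symm

theorem isSchemeTheoreticallyDominant_genPt (R : Type u) [CommRing R] [IsDomain R] :
    IsSchemeTheoreticallyDominant (Neron.genPt R) :=
  isSchemeTheoreticallyDominant_Spec_map _ (IsFractionRing.injective R (FractionRing R))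

theorem flat_genPt (R : Type u) [CommRing R] [IsDomain R] : Flat (Neron.genPt R) := by
  rw [Neron.genPt, HasRingHomProperty.Spec_iff (P := @Flat)]
  exact RingHom.flat_algebraMap_iff.mpr (IsLocalization.flat _ (nonZeroDivisors R))

theorem mono_genPt (R : Type u) [CommRing R] [IsDomain R] : Mono (Neron.genPt R) := by
  have h1 : Epi (CommRingCat.ofHom (algebraMap R (FractionRing R))) :=
    IsLocalization.epi (nonZeroDivisors R) (FractionRing R)
  have h2 : Mono (CommRingCat.ofHom (algebraMap R (FractionRing R))).op := inferInstance
  exact Scheme.Spec.map_mono (CommRingCat.ofHom (algebraMap R (FractionRing R))).op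

end Groth.Agent.Lib.Helper3.SchIm
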