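import Groth.Prelude.Def_Grpd
import Groth.Agent.Lib.Helper3.SchImGen0
import Groth.Agent.Lib.Helper3.SchImGrp0
set_option autoImplicit false
universe u
open CategoryTheory CategoryTheory.Limits AlgebraicGeometry

namespace Groth.Agent.Lib.Helper3.GrpdSub

open Grpd

theorem lift_congr {C : Type*} [Category C] {X Y Z T : C} {f : X ⟶ Z} {g : Y ⟶ Z} [HasPullback f g]
    {a a' : T ⟶ X} {b b' : T ⟶ Y} (h : a ≫ f = b ≫ g) (ha : a = a') (hb : b = b')
    (h' : a' ≫ f = b' ≫ g) : pullback.lift a b h = pullback.lift a' b' h' := by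
  subst ha hb; rfl

variable {S : Scheme.{u}} (G : GroupoidScheme S)

/-- an idempotent arrow is an identity -/
theorem eq_e_of_idem {T : Scheme.{u}} (x : T ⟶ G.R) (hst : x ≫ G.s = x ≫ G.t)
    (hid : pullback.lift x x hst ≫ G.c = x) : x = x ≫ G.t ≫ G.e := by
  have h1 := G.comp_e x
  have h2 := G.comp_i x
  have h3 := G.assoc x x (x ≫ G.i) hst (by rw [Category.assoc, G.i_t])
  -- x = x ∘ e(s x) = x ∘ (x ∘ x⁻¹) = (x ∘ x) ∘ x⁻¹ = x ∘ x⁻¹ = e (t x)
  calc x = pullback.lift x (x ≫ G.s ≫ G.e) (by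
          rw [Category.assoc, Category.assoc, G.e_t, Category.comp_id]) ≫ G.c := h1.symm
    _ = pullback.lift x (pullback.lift x (x ≫ G.i) (by rw [Category.assoc, G.i_t]) ≫ G.c)
          (hst.trans (G.comp_t x (x ≫ G.i) (by rw [Category.assoc, G.i_t])).symm) ≫ G.c := by
        congr 1
        apply lift_congr _ rfl
        rw [h2, ← Category.assoc, hst, Category.assoc]
    _ = pullback.lift (pullback.lift x x hst ≫ G.c) (x ≫ G.i)
          ((G.comp_s x x hst).trans (by rw [Category.assoc, G.i_t])) ≫ G.c := h3.symm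
    _ = pullback.lift x (x ≫ G.i) (by rw [Category.assoc, G.i_t]) ≫ G.c := by
        congr 1
        exact lift_congr _ hid rfl _
    _ = x ≫ G.t ≫ G.e := h2

/-- a left inverse is the inverse -/
theorem eq_i_of_comp_eq {T : Scheme.{u}} (x y : T ⟶ G.R) (hyx : y ≫ G.s = x ≫ G.t)
    (h : pullback.lift y x hyx ≫ G.c = x ≫ G.s ≫ G.e) : y = x ≫ G.i := by
  have h1 := G.comp_e y
  have h2 := G.comp_i x
  have h3 := G.assoc y x (x ≫ G.i) hyx (by rw [Category.assoc, G.i_t])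
  have h4 := G.e_comp (x ≫ G.i)
  calc y = pullback.lift y (y ≫ G.s ≫ G.e) (by
          rw [Category.assoc, Category.assoc, G.e_t, Category.comp_id]) ≫ G.c := h1.symm
    _ = pullback.lift y (pullback.lift x (x ≫ G.i) (by rw [Category.assoc, G.i_t]) ≫ G.c)
          (hyx.trans (G.comp_t x (x ≫ G.i) (by rw [Category.assoc, G.i_t])).symm) ≫ G.c := by
        congr 1
        apply lift_congr _ rfl
        rw [h2, ← Category.assoc, hyx, Category.assoc]
    _ = pullback.lift (pullback.lift y x hyx ≫ G.c) (x ≫ G.i)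
          ((G.comp_s y x hyx).trans (by rw [Category.assoc, G.i_t])) ≫ G.c := h3.symm
    _ = pullback.lift ((x ≫ G.i) ≫ G.t ≫ G.e) (x ≫ G.i) (by
          simp only [Category.assoc, G.e_s, Category.comp_id]) ≫ G.c := by
        congr 1
        apply lift_congr _ _ rfl
        rw [h, Category.assoc, ← Category.assoc G.i, G.i_t]
    _ = x ≫ G.i := h4

end Groth.Agent.Lib.Helper3.GrpdSub

namespace Groth.Agent.Lib.Helper3.GrpdSub

open Grpd

variable {S : Scheme.{u}} {G₁ G₂ : GroupoidScheme S} (f : GroupoidScheme.Hom G₁ G₂)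

/-- a morphism of groupoid schemes preserves identities -/
theorem hom_e : G₁.e ≫ f.fR = f.fU ≫ G₂.e := by
  have hs : (G₁.e ≫ f.fR) ≫ G₂.s = f.fU := by
    rw [Category.assoc, f.comm_s, ← Category.assoc, G₁.e_s, Category.id_comp]
  have ht : (G₁.e ≫ f.fR) ≫ G₂.t = f.fU := by
    rw [Category.assoc, f.comm_t, ← Category.assoc, G₁.e_t, Category.id_comp]
  have hst : (G₁.e ≫ f.fR) ≫ G₂.s = (G₁.e ≫ f.fR) ≫ G₂.t := hs.trans ht.symm
  have hee : G₁.e ≫ G₁.s = G₁.e ≫ G₁.t := by rw [G₁.e_s, G₁.e_t]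
  have h1 : pullback.lift G₁.e G₁.e hee ≫ G₁.c = G₁.e := by
    have := G₁.comp_e G₁.e
    refine Eq.trans ?_ this
    congr 1
    apply lift_congr _ rfl
    rw [← Category.assoc, G₁.e_s, Category.id_comp]
  have h2 := f.comm_c G₁.e G₁.e hee
  have hid : pullback.lift (G₁.e ≫ f.fR) (G₁.e ≫ f.fR) hst ≫ G₂.c = G₁.e ≫ f.fR := by
    rw [← h2, h1]
  have := eq_e_of_idem G₂ (G₁.e ≫ f.fR) hst hid
  rw [this, ← Category.assoc, ht]

/-- a morphism of groupoid schemes preserves inverses -/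
theorem hom_i : G₁.i ≫ f.fR = f.fR ≫ G₂.i := by
  have hyx : (G₁.i ≫ f.fR) ≫ G₂.s = f.fR ≫ G₂.t := by
    rw [Category.assoc, f.comm_s, ← Category.assoc, G₁.i_s, f.comm_t]
  have hi1 : G₁.i ≫ G₁.s = 𝟙 G₁.R ≫ G₁.t := by rw [G₁.i_s, Category.id_comp]
  have h1 : pullback.lift G₁.i (𝟙 G₁.R) hi1 ≫ G₁.c = G₁.s ≫ G₁.e := by
    have := G₁.i_comp (𝟙 G₁.R)
    refine Eq.trans ?_ (this.trans (Category.id_comp _))
    exact congrArg (· ≫ G₁.c) (lift_congr _ (Category.id_comp _).symm rfl _)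
  have h2 := f.comm_c G₁.i (𝟙 G₁.R) hi1
  have h3 : pullback.lift (G₁.i ≫ f.fR) f.fR hyx ≫ G₂.c = f.fR ≫ G₂.s ≫ G₂.e := by
    have : pullback.lift (G₁.i ≫ f.fR) f.fR hyx =
        pullback.lift (G₁.i ≫ f.fR) (𝟙 G₁.R ≫ f.fR) (by
          rw [Category.id_comp]; exact hyx) :=
      lift_congr _ rfl (Category.id_comp _).symm _
    rw [this, ← h2, h1, Category.assoc, hom_e f, ← Category.assoc, ← f.comm_s, Category.assoc]
  exact eq_i_of_comp_eq G₂ f.fR (G₁.i ≫ f.fR) hyx h3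

end Groth.Agent.Lib.Helper3.GrpdSub

namespace Groth.Agent.Lib.Helper3.GrpdSub

open Grpd

section sub

variable {S : Scheme.{u}} (G : GroupoidScheme S) {Z : Scheme.{u}} (ι : Z ⟶ G.R) [Mono ι]
  (e' : G.U ⟶ Z) (he : e' ≫ ι = G.e)
  (i' : Z ⟶ Z) (hi : i' ≫ ι = ι ≫ G.i)
  (c' : pullback (ι ≫ G.s) (ι ≫ G.t) ⟶ Z)
  (hc : c' ≫ ι = pullback.map (ι ≫ G.s) (ι ≫ G.t) G.s G.t ι ι (𝟙 _)
    (by rw [Category.comp_id]) (by rw [Category.comp_id]) ≫ G.c)

include hc in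
theorem sub_hc {T : Scheme.{u}} (α β : T ⟶ Z) (h : α ≫ ι ≫ G.s = β ≫ ι ≫ G.t) :
    (pullback.lift α β h ≫ c') ≫ ι =
      pullback.lift (α ≫ ι) (β ≫ ι) (by rw [Category.assoc, Category.assoc, h]) ≫ G.c := by
  rw [Category.assoc, hc, ← Category.assoc]
  congr 1
  apply pullback.hom_ext
  · rw [Category.assoc]
    erw [pullback.lift_fst]
    rw [pullback.lift_fst_assoc, pullback.lift_fst]
  · rw [Category.assoc]
    erw [pullback.lift_snd]
    rw [pullback.lift_snd_assoc, pullback.lift_snd]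

/-- the subgroupoid on a subscheme of arrows stable under identity, inverse, composition -/
noncomputable def sub : GroupoidScheme S where
  U := G.U
  R := Z
  pU := G.pU
  pR := ι ≫ G.pR
  s := ι ≫ G.s
  t := ι ≫ G.t
  e := e'
  i := i'
  c := c'
  s_over := by rw [Category.assoc, G.s_over]
  t_over := by rw [Category.assoc, G.t_over]
  comp_s := by
    intro T α β h
    rw [← Category.assoc, sub_hc G ι c' hc α β h, G.comp_s, Category.assoc]
  comp_t := by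
    intro T α β h
    rw [← Category.assoc, sub_hc G ι c' hc α β h, G.comp_t, Category.assoc]
  assoc := by
    intro T α β γ h₁ h₂
    rw [← cancel_mono ι]
    refine (sub_hc G ι c' hc _ _ _).trans (Eq.trans ?_ (sub_hc G ι c' hc _ _ _).symm)
    have h₁' : (α ≫ ι) ≫ G.s = (β ≫ ι) ≫ G.t := by rw [Category.assoc, Category.assoc, h₁]
    have h₂' : (β ≫ ι) ≫ G.s = (γ ≫ ι) ≫ G.t := by rw [Category.assoc, Category.assoc, h₂]
    have := G.assoc (α ≫ ι) (β ≫ ι) (γ ≫ ι) h₁' h₂'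
    refine Eq.trans ?_ (this.trans ?_)
    · exact congrArg (· ≫ G.c) (lift_congr _ (sub_hc G ι c' hc α β h₁) rfl _)
    · exact congrArg (· ≫ G.c) (lift_congr _ rfl (sub_hc G ι c' hc β γ h₂).symm _)
  e_s := by rw [← Category.assoc, he, G.e_s]
  e_t := by rw [← Category.assoc, he, G.e_t]
  comp_e := by
    intro T α
    rw [← cancel_mono ι, sub_hc G ι c' hc]
    refine Eq.trans ?_ (G.comp_e (α ≫ ι))
    refine congrArg (· ≫ G.c) (lift_congr _ rfl ?_ _)
    simp only [Category.assoc, he]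
  e_comp := by
    intro T α
    rw [← cancel_mono ι, sub_hc G ι c' hc]
    refine Eq.trans ?_ (G.e_comp (α ≫ ι))
    refine congrArg (· ≫ G.c) (lift_congr _ ?_ rfl _)
    simp only [Category.assoc, he]
  i_s := by rw [← Category.assoc, hi, Category.assoc, G.i_s]
  i_t := by rw [← Category.assoc, hi, Category.assoc, G.i_t]
  comp_i := by
    intro T α
    rw [← cancel_mono ι, sub_hc G ι c' hc]
    refine Eq.trans ?_ ((G.comp_i (α ≫ ι)).trans ?_)
    · refine congrArg (· ≫ G.c) (lift_congr _ rfl ?_ _)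
      simp only [Category.assoc, hi]
    · simp only [Category.assoc, he]
  i_comp := by
    intro T α
    rw [← cancel_mono ι, sub_hc G ι c' hc]
    refine Eq.trans ?_ ((G.i_comp (α ≫ ι)).trans ?_)
    · refine congrArg (· ≫ G.c) (lift_congr _ ?_ rfl _)
      simp only [Category.assoc, hi]
    · simp only [Category.assoc, he]

/-- the inclusion of the subgroupoid -/
noncomputable def subHom : GroupoidScheme.Hom (sub G ι e' he i' hi c' hc) G where
  fU := 𝟙 G.U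
  fR := ι
  fU_over := Category.id_comp _
  comm_s := by change ι ≫ G.s = (ι ≫ G.s) ≫ 𝟙 _; rw [Category.comp_id]
  comm_t := by change ι ≫ G.t = (ι ≫ G.t) ≫ 𝟙 _; rw [Category.comp_id]
  comm_c := by
    intro T α β h
    exact sub_hc G ι c' hc α β h

end sub

end Groth.Agent.Lib.Helper3.GrpdSub

namespace Groth.Agent.Lib.Helper3.GrpdSub

open Grpd Groth.Agent.Lib.Helper3.SchIm

/-- a morphism into the target of a closed immersion factors through it as soon as it does after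
precomposition with a schematically dominant morphism -/
theorem exists_lift_of_dominant {W Z Z' R : Scheme.{u}} (ι : Z ⟶ R) [IsClosedImmersion ι]
    (l : W ⟶ Z') [IsSchemeTheoreticallyDominant l] (x : Z' ⟶ R) (y : W ⟶ Z)
    (h : l ≫ x = y ≫ ι) : ∃ x' : Z' ⟶ Z, x' ≫ ι = x := by
  have h1 : ι.ker ≤ x.ker := by
    rw [← ker_comp_of_isSchemeTheoreticallyDominant l x, h]
    exact Scheme.Hom.le_ker_comp y ι
  exact ⟨IsClosedImmersion.lift ι x h1, IsClosedImmersion.lift_fac _ _ _⟩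

/-- fibre products of schematically dominant quasi-compact morphisms over a base over which
everything is flat -/
theorem dom_pullback_map {A₁ A₂ B₁ B₂ U : Scheme.{u}} (a₁ : A₁ ⟶ U) (a₂ : A₂ ⟶ U) (b₁ : B₁ ⟶ U)
    (b₂ : B₂ ⟶ U) (u₁ : A₁ ⟶ B₁) (u₂ : A₂ ⟶ B₂) (h₁ : a₁ ≫ 𝟙 U = u₁ ≫ b₁) (h₂ : a₂ ≫ 𝟙 U = u₂ ≫ b₂)
    [IsSchemeTheoreticallyDominant u₁] [QuasiCompact u₁] [IsSchemeTheoreticallyDominant u₂]
    [QuasiCompact u₂] [Flat a₂] [Flat b₁] :
    IsSchemeTheoreticallyDominant (pullback.map a₁ a₂ b₁ b₂ u₁ u₂ (𝟙 U) h₁ h₂) := by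
  have e₁ : a₁ = u₁ ≫ b₁ := by rw [← h₁, Category.comp_id]
  have e₂ : a₂ = u₂ ≫ b₂ := by rw [← h₂, Category.comp_id]
  have hid : a₂ ≫ 𝟙 U = 𝟙 A₂ ≫ a₂ := by rw [Category.comp_id, Category.id_comp]
  have hid' : b₁ ≫ 𝟙 U = 𝟙 B₁ ≫ b₁ := by rw [Category.comp_id, Category.id_comp]
  let m₁ := pullback.map a₁ a₂ b₁ a₂ u₁ (𝟙 A₂) (𝟙 U) h₁ hid
  let m₂ := pullback.map b₁ a₂ b₁ b₂ (𝟙 B₁) u₂ (𝟙 U) hid' h₂
  have m₁f : m₁ ≫ pullback.fst b₁ a₂ = pullback.fst a₁ a₂ ≫ u₁ := pullback.lift_fst _ _ _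
  have m₁s : m₁ ≫ pullback.snd b₁ a₂ = pullback.snd a₁ a₂ ≫ 𝟙 A₂ := pullback.lift_snd _ _ _
  have m₂f : m₂ ≫ pullback.fst b₁ b₂ = pullback.fst b₁ a₂ ≫ 𝟙 B₁ := pullback.lift_fst _ _ _
  have m₂s : m₂ ≫ pullback.snd b₁ b₂ = pullback.snd b₁ a₂ ≫ u₂ := pullback.lift_snd _ _ _
  have hm : pullback.map a₁ a₂ b₁ b₂ u₁ u₂ (𝟙 U) h₁ h₂ = m₁ ≫ m₂ := by
    apply pullback.hom_ext
    · rw [Category.assoc, m₂f, Category.comp_id, m₁f]
      exact pullback.lift_fst _ _ _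
    · rw [Category.assoc, m₂s, reassoc_of% m₁s]
      exact pullback.lift_snd _ _ _
  have sq1 : IsPullback (pullback.fst a₁ a₂) m₁ u₁ (pullback.fst b₁ a₂) := by
    refine IsPullback.of_bot (v₂₁ := pullback.snd b₁ a₂) (v₂₂ := b₁) (h₃₁ := a₂) ?_ ?_
      (IsPullback.of_hasPullback b₁ a₂)
    · rw [m₁s, Category.comp_id, ← e₁]
      exact IsPullback.of_hasPullback a₁ a₂
    · exact m₁f.symm
  have sq2 : IsPullback (pullback.snd b₁ a₂) m₂ u₂ (pullback.snd b₁ b₂) := by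
    refine IsPullback.of_bot (v₂₁ := pullback.fst b₁ b₂) (v₂₂ := b₂) (h₃₁ := b₁) ?_ ?_
      (IsPullback.of_hasPullback b₁ b₂).flip
    · rw [m₂f, Category.comp_id, ← e₂]
      exact (IsPullback.of_hasPullback b₁ a₂).flip
    · exact m₂s.symm
  have : IsSchemeTheoreticallyDominant m₁ := IsSchemeTheoreticallyDominant.of_isPullback sq1
  have : IsSchemeTheoreticallyDominant m₂ := IsSchemeTheoreticallyDominant.of_isPullback sq2
  rw [hm]
  infer_instance

end Groth.Agent.Lib.Helper3.GrpdSub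

namespace Groth.Agent.Lib.Helper3.GrpdSub

open Grpd Groth.Agent.Lib.Helper3.SchIm

theorem flat_of_iso_Spec_field {X U : Scheme.{u}} (k : Type u) [Field k]
    (eU : U ≅ Spec (CommRingCat.of k)) (f : X ⟶ U) : Flat f := by
  have h : Flat (f ≫ eU.hom) := inferInstance
  have : f = (f ≫ eU.hom) ≫ eU.inv := by rw [Category.assoc, eU.hom_inv_id, Category.comp_id]
  rw [this]
  infer_instance

theorem main (S : Scheme.{u}) (G₁ G₂ : Grpd.GroupoidScheme S) (f : Grpd.GroupoidScheme.Hom G₁ G₂)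
    [IsIso f.fU] [QuasiCompact f.fR] (k : Type u) [Field k] (eU : G₂.U ≅ Spec (CommRingCat.of k)) :
    ∃ (G' : Grpd.GroupoidScheme S) (ψ : Grpd.GroupoidScheme.Hom G' G₂),
      IsIso ψ.fU ∧ IsClosedImmersion ψ.fR ∧ ψ.fR.ker = f.fR.ker := by
  obtain ⟨a, ha⟩ : ∃ a, a = f.fR := ⟨_, rfl⟩
  have : QuasiCompact a := by rw [ha]; infer_instance
  obtain ⟨ι, hι⟩ : ∃ ι, ι = a.imageι := ⟨_, rfl⟩
  have : IsClosedImmersion ι := by rw [hι]; infer_instance
  have hfac : a.toImage ≫ ι = a := by rw [hι]; exact a.toImage_imageι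
  have : IsSchemeTheoreticallyDominant a.toImage :=
    Groth.Agent.Lib.Helper3.ImmDesc.isSchemeTheoreticallyDominant_toImage a
  -- identity
  have he : (inv f.fU ≫ G₁.e ≫ a.toImage) ≫ ι = G₂.e := by
    rw [Category.assoc, Category.assoc, hfac, ha, hom_e f, IsIso.inv_hom_id_assoc]
  -- inverse
  obtain ⟨i', hi'⟩ := exists_lift_of_dominant ι a.toImage (ι ≫ G₂.i) (G₁.i ≫ a.toImage) (by
    rw [← Category.assoc, hfac, Category.assoc, hfac, ha, hom_i f])
  -- composition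
  have hs1 : G₁.s ≫ f.fU = a.toImage ≫ ι ≫ G₂.s := by rw [← Category.assoc, hfac, ha, f.comm_s]
  have ht1 : G₁.t ≫ f.fU = a.toImage ≫ ι ≫ G₂.t := by rw [← Category.assoc, hfac, ha, f.comm_t]
  have hfl : ∀ {X : Scheme.{u}} (g : X ⟶ G₂.U), Flat g := fun g => flat_of_iso_Spec_field k eU g
  have := hfl (G₁.t ≫ f.fU)
  have := hfl (ι ≫ G₂.s)
  obtain ⟨m, hm, hmf, hms⟩ : ∃ m : pullback (G₁.s ≫ f.fU) (G₁.t ≫ f.fU) ⟶
      pullback (ι ≫ G₂.s) (ι ≫ G₂.t), IsSchemeTheoreticallyDominant m ∧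
      m ≫ pullback.fst _ _ = pullback.fst _ _ ≫ a.toImage ∧
      m ≫ pullback.snd _ _ = pullback.snd _ _ ≫ a.toImage :=
    ⟨pullback.map (G₁.s ≫ f.fU) (G₁.t ≫ f.fU) (ι ≫ G₂.s)
      (ι ≫ G₂.t) a.toImage a.toImage (𝟙 _) (by rw [Category.comp_id, hs1])
      (by rw [Category.comp_id, ht1]), dom_pullback_map _ _ _ _ _ _ _ _,
      pullback.lift_fst _ _ _, pullback.lift_snd _ _ _⟩
  obtain ⟨d, hd, hdf, hds⟩ : ∃ d : pullback G₁.s G₁.t ⟶ pullback (G₁.s ≫ f.fU) (G₁.t ≫ f.fU),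
      IsIso d ∧ d ≫ pullback.fst _ _ = pullback.fst _ _ ∧ d ≫ pullback.snd _ _ = pullback.snd _ _ :=
    ⟨pullback.mapDesc G₁.s G₁.t f.fU, isIso_mapDesc_of_mono _ _ _,
      (pullback.lift_fst _ _ _).trans (Category.comp_id _),
      (pullback.lift_snd _ _ _).trans (Category.comp_id _)⟩
  obtain ⟨l, hl_def⟩ : ∃ l, l = d ≫ m := ⟨_, rfl⟩
  have : IsSchemeTheoreticallyDominant l := by rw [hl_def]; infer_instance
  have hlf : l ≫ pullback.fst (ι ≫ G₂.s) (ι ≫ G₂.t) = pullback.fst G₁.s G₁.t ≫ a.toImage := by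
    rw [hl_def, Category.assoc, hmf, reassoc_of% hdf]
  have hls : l ≫ pullback.snd (ι ≫ G₂.s) (ι ≫ G₂.t) = pullback.snd G₁.s G₁.t ≫ a.toImage := by
    rw [hl_def, Category.assoc, hms, reassoc_of% hds]
  obtain ⟨mι, hmι, hmιf, hmιs⟩ : ∃ mι : pullback (ι ≫ G₂.s) (ι ≫ G₂.t) ⟶ pullback G₂.s G₂.t,
      mι = pullback.map (ι ≫ G₂.s) (ι ≫ G₂.t) G₂.s G₂.t ι ι (𝟙 _)
        (by rw [Category.comp_id]) (by rw [Category.comp_id]) ∧
      mι ≫ pullback.fst _ _ = pullback.fst _ _ ≫ ι ∧ mι ≫ pullback.snd _ _ = pullback.snd _ _ ≫ ι :=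
    ⟨pullback.map (ι ≫ G₂.s) (ι ≫ G₂.t) G₂.s G₂.t ι ι (𝟙 _)
        (by rw [Category.comp_id]) (by rw [Category.comp_id]), rfl,
      pullback.lift_fst _ _ _, pullback.lift_snd _ _ _⟩
  have hcomm := f.comm_c (pullback.fst G₁.s G₁.t) (pullback.snd G₁.s G₁.t) pullback.condition
  have hl : l ≫ mι ≫ G₂.c = (G₁.c ≫ a.toImage) ≫ ι := by
    rw [Category.assoc, hfac]
    have e1 : pullback.lift (pullback.fst G₁.s G₁.t) (pullback.snd G₁.s G₁.t) pullback.condition =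
        𝟙 _ := by apply pullback.hom_ext <;> simp
    rw [e1, Category.id_comp] at hcomm
    have hcomm' : G₁.c ≫ a = _ := (congrArg (fun x => G₁.c ≫ x) ha).trans hcomm
    rw [hcomm', ← Category.assoc]
    congr 1
    apply pullback.hom_ext
    · rw [Category.assoc, hmιf, reassoc_of% hlf, pullback.lift_fst, hfac, ha]
    · rw [Category.assoc, hmιs, reassoc_of% hls, pullback.lift_snd, hfac, ha]
  obtain ⟨c', hc'⟩ := exists_lift_of_dominant ι l (mι ≫ G₂.c) (G₁.c ≫ a.toImage) hl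
  rw [hmι] at hc'
  refine ⟨sub G₂ ι _ he i' hi' c' hc', subHom G₂ ι _ he i' hi' c' hc', ?_, ?_, ?_⟩
  · change IsIso (𝟙 _); infer_instance
  · change IsClosedImmersion ι; infer_instance
  · change ι.ker = _
    rw [hι, ← ha]
    exact Scheme.IdealSheafData.ker_subschemeι _

end Groth.Agent.Lib.Helper3.GrpdSub
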