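import Mathlib
import Groth.Prelude.Def_Grpd
import Groth.Agent.Lib.Helper3.GrpdSub

set_option autoImplicit false
universe u

namespace Groth.Agent.Lib.Helper3.GP

open CategoryTheory CategoryTheory.Limits AlgebraicGeometry Grpd
open Groth.Agent.Lib.Helper3.GrpdSub

variable {S : Scheme.{u}} (G : GroupoidScheme S) {T : Scheme.{u}}

open Classical in
/-- total composition of `T`-points of the arrows of a groupoid scheme -/
noncomputable def cmp (α β : T ⟶ G.R) : T ⟶ G.R :=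
  if h : α ≫ G.s = β ≫ G.t then pullback.lift α β h ≫ G.c else α

variable {G}

theorem cmp_eq {α β : T ⟶ G.R} (h : α ≫ G.s = β ≫ G.t) :
    cmp G α β = pullback.lift α β h ≫ G.c := dif_pos h

theorem cmp_s {α β : T ⟶ G.R} (h : α ≫ G.s = β ≫ G.t) : cmp G α β ≫ G.s = β ≫ G.s := by
  rw [cmp_eq h]; exact G.comp_s α β h

theorem cmp_t {α β : T ⟶ G.R} (h : α ≫ G.s = β ≫ G.t) : cmp G α β ≫ G.t = α ≫ G.t := by
  rw [cmp_eq h]; exact G.comp_t α β h

theorem cmp_assoc {α β γ : T ⟶ G.R} (h₁ : α ≫ G.s = β ≫ G.t) (h₂ : β ≫ G.s = γ ≫ G.t) :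
    cmp G (cmp G α β) γ = cmp G α (cmp G β γ) := by
  have h3 : cmp G α β ≫ G.s = γ ≫ G.t := (cmp_s h₁).trans h₂
  have h4 : α ≫ G.s = cmp G β γ ≫ G.t := h₁.trans (cmp_t h₂).symm
  rw [cmp_eq h3, cmp_eq h4]
  have := G.assoc α β γ h₁ h₂
  convert this using 2
  · exact lift_congr _ (cmp_eq h₁) rfl _
  · exact lift_congr _ rfl (cmp_eq h₂) _

theorem cmp_e_right {α : T ⟶ G.R} {x : T ⟶ G.U} (h : α ≫ G.s = x) : cmp G α (x ≫ G.e) = α := by
  subst h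
  have h' : α ≫ G.s = ((α ≫ G.s) ≫ G.e) ≫ G.t := by
    rw [Category.assoc, G.e_t, Category.comp_id]
  rw [cmp_eq h']
  have := G.comp_e α
  convert this using 2
  exact lift_congr _ rfl (Category.assoc _ _ _) _

theorem cmp_e_left {α : T ⟶ G.R} {x : T ⟶ G.U} (h : α ≫ G.t = x) : cmp G (x ≫ G.e) α = α := by
  subst h
  have h' : ((α ≫ G.t) ≫ G.e) ≫ G.s = α ≫ G.t := by
    rw [Category.assoc, G.e_s, Category.comp_id]
  rw [cmp_eq h']
  have := G.e_comp α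
  convert this using 2
  exact lift_congr _ (Category.assoc _ _ _) rfl _

theorem cmp_i_right (α : T ⟶ G.R) : cmp G α (α ≫ G.i) = (α ≫ G.t) ≫ G.e := by
  have h' : α ≫ G.s = (α ≫ G.i) ≫ G.t := by rw [Category.assoc, G.i_t]
  rw [cmp_eq h', Category.assoc]
  exact G.comp_i α

theorem cmp_i_left (α : T ⟶ G.R) : cmp G (α ≫ G.i) α = (α ≫ G.s) ≫ G.e := by
  have h' : (α ≫ G.i) ≫ G.s = α ≫ G.t := by rw [Category.assoc, G.i_s]
  rw [cmp_eq h', Category.assoc]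
  exact G.i_comp α

theorem i_s' (α : T ⟶ G.R) : (α ≫ G.i) ≫ G.s = α ≫ G.t := by rw [Category.assoc, G.i_s]

theorem i_t' (α : T ⟶ G.R) : (α ≫ G.i) ≫ G.t = α ≫ G.s := by rw [Category.assoc, G.i_t]

theorem e_s' (x : T ⟶ G.U) : (x ≫ G.e) ≫ G.s = x := by rw [Category.assoc, G.e_s, Category.comp_id]

theorem e_t' (x : T ⟶ G.U) : (x ≫ G.e) ≫ G.t = x := by rw [Category.assoc, G.e_t, Category.comp_id]

theorem precomp_cmp {T' : Scheme.{u}} (f : T' ⟶ T) {α β : T ⟶ G.R} (h : α ≫ G.s = β ≫ G.t) :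
    f ≫ cmp G α β = cmp G (f ≫ α) (f ≫ β) := by
  have h' : (f ≫ α) ≫ G.s = (f ≫ β) ≫ G.t := by
    rw [Category.assoc, Category.assoc, h]
  rw [cmp_eq h, cmp_eq h', ← Category.assoc]
  congr 1
  apply pullback.hom_ext
  · rw [Category.assoc, pullback.lift_fst, pullback.lift_fst]
  · rw [Category.assoc, pullback.lift_snd, pullback.lift_snd]

theorem cmp_hom {G' : GroupoidScheme S} (φ : GroupoidScheme.Hom G G') {α β : T ⟶ G.R}
    (h : α ≫ G.s = β ≫ G.t) : cmp G α β ≫ φ.fR = cmp G' (α ≫ φ.fR) (β ≫ φ.fR) := by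
  have h' : (α ≫ φ.fR) ≫ G'.s = (β ≫ φ.fR) ≫ G'.t := by
    rw [Category.assoc, Category.assoc, φ.comm_s, φ.comm_t, ← Category.assoc, ← Category.assoc, h]
  rw [cmp_eq h, cmp_eq h']
  exact φ.comm_c α β h

/-- cancellation: left multiplication by an arrow is injective -/
theorem cmp_left_cancel {α β γ : T ⟶ G.R} (h₁ : α ≫ G.s = β ≫ G.t) (h₂ : α ≫ G.s = γ ≫ G.t)
    (h : cmp G α β = cmp G α γ) : β = γ := by
  have e1 : cmp G (α ≫ G.i) (cmp G α β) = β := by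
    rw [← cmp_assoc (i_s' α) h₁, cmp_i_left, cmp_e_left h₁.symm]
  have e2 : cmp G (α ≫ G.i) (cmp G α γ) = γ := by
    rw [← cmp_assoc (i_s' α) h₂, cmp_i_left, cmp_e_left h₂.symm]
  rw [← e1, ← e2, h]

theorem cmp_right_cancel {α β γ : T ⟶ G.R} (h₁ : α ≫ G.s = γ ≫ G.t) (h₂ : β ≫ G.s = γ ≫ G.t)
    (h : cmp G α γ = cmp G β γ) : α = β := by
  have e1 : cmp G (cmp G α γ) (γ ≫ G.i) = α := by
    rw [cmp_assoc h₁ (i_t' γ).symm, cmp_i_right, cmp_e_right h₁]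
  have e2 : cmp G (cmp G β γ) (γ ≫ G.i) = β := by
    rw [cmp_assoc h₂ (i_t' γ).symm, cmp_i_right, cmp_e_right h₂]
  rw [← e1, ← e2, h]

end Groth.Agent.Lib.Helper3.GP
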