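import Mathlib
import Groth.Prelude.Def_Grpd
import Groth.Prelude.Def_AlgSp
import Groth.Agent.Lib.Helper3.GrpdPt
import Groth.Agent.Lib.Helper4.GrpdDense

set_option autoImplicit false
universe u

namespace Groth.Agent.Lib.Helper3.Boot

open CategoryTheory CategoryTheory.Limits AlgebraicGeometry Grpd
open Groth.Agent.Lib.Helper3 Groth.Agent.Lib.Helper3.GP

set_option backward.isDefEq.respectTransparency false

variable {S : Scheme.{u}} (H : GroupoidScheme S)

/-- `x ∘ y⁻¹ = e(a)` forces `x = y` -/
theorem eq_of_cmp_inv_eq_e {T : Scheme.{u}} (x y : T ⟶ H.R) (a : T ⟶ H.U)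
    (hxy : x ≫ H.s = y ≫ H.s) (h : cmp H x (y ≫ H.i) = a ≫ H.e) : x = y ∧ a = y ≫ H.t := by
  have hcond : x ≫ H.s = (y ≫ H.i) ≫ H.t := by rw [i_t', hxy]
  have ha : a = x ≫ H.t := by
    have : cmp H x (y ≫ H.i) ≫ H.t = (a ≫ H.e) ≫ H.t := by rw [h]
    rw [cmp_t hcond, e_t'] at this
    exact this.symm
  have e1 : cmp H (cmp H x (y ≫ H.i)) y = x := by
    rw [cmp_assoc hcond (i_s' y), cmp_i_left, cmp_e_right hxy]
  have hxt : x ≫ H.t = y ≫ H.t := by
    have h2 : cmp H x (y ≫ H.i) ≫ H.s = y ≫ H.t := by rw [cmp_s hcond, i_s']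
    rw [h, e_s'] at h2
    rw [← ha, h2]
  have e2 : cmp H (a ≫ H.e) y = y := cmp_e_left (by rw [ha, hxt])
  rw [h, e2] at e1
  exact ⟨e1.symm, by rw [ha, hxt]⟩

/-- `(x, y) ↦ x ∘ y⁻¹` on `R ×_{s,U,s} R` -/
noncomputable def nu : pullback H.s H.s ⟶ H.R :=
  cmp H (pullback.fst H.s H.s) (pullback.snd H.s H.s ≫ H.i)

theorem nu_cond : pullback.fst H.s H.s ≫ H.s = (pullback.snd H.s H.s ≫ H.i) ≫ H.t := by
  rw [i_t', pullback.condition]

theorem precomp_nu {T : Scheme.{u}} (k : T ⟶ pullback H.s H.s) :
    k ≫ nu H = cmp H (k ≫ pullback.fst H.s H.s) ((k ≫ pullback.snd H.s H.s) ≫ H.i) := by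
  unfold nu
  rw [precomp_cmp _ (nu_cond H), Category.assoc]

/-- the diagonal of `s` is the base change of the identity section -/
theorem isPullback_diagonal_s :
    IsPullback H.t (pullback.diagonal H.s) H.e (nu H) := by
  have w : H.t ≫ H.e = pullback.diagonal H.s ≫ nu H := by
    rw [precomp_nu, pullback.diagonal_fst, pullback.diagonal_snd]
    rw [cmp_i_right (G := H) (𝟙 H.R), Category.id_comp]
  refine IsPullback.of_isLimit (c := PullbackCone.mk H.t (pullback.diagonal H.s) w) ?_
  have key : ∀ c : PullbackCone H.e (nu H),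
      c.snd ≫ pullback.fst H.s H.s = c.snd ≫ pullback.snd H.s H.s ∧
        c.fst = (c.snd ≫ pullback.snd H.s H.s) ≫ H.t := by
    intro c
    have hc := c.condition
    rw [precomp_nu] at hc
    exact eq_of_cmp_inv_eq_e H _ _ c.fst
      (by rw [Category.assoc, Category.assoc, pullback.condition]) hc.symm
  refine PullbackCone.IsLimit.mk w (fun c => c.snd ≫ pullback.snd H.s H.s) ?_ ?_ ?_
  · intro c
    exact (key c).2.symm
  · intro c
    apply pullback.hom_ext
    · rw [Category.assoc, pullback.diagonal_fst, Category.comp_id, (key c).1]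
    · rw [Category.assoc, pullback.diagonal_snd, Category.comp_id]
  · intro c m h1 h2
    rw [← h2, Category.assoc, pullback.diagonal_snd, Category.comp_id]

instance isOpenImmersion_diagonal_s [IsOpenImmersion H.e] :
    IsOpenImmersion (pullback.diagonal H.s) :=
  MorphismProperty.of_isPullback (P := @IsOpenImmersion) (isPullback_diagonal_s H) inferInstance

theorem etale_s_of_isOpenImmersion_e [IsOpenImmersion H.e] [Flat H.s]
    [LocallyOfFinitePresentation H.s] : Etale H.s := by
  rw [Etale.iff_flat_and_formallyUnramified]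
  exact ⟨inferInstance, inferInstance, inferInstance⟩

theorem etale_t_of_isOpenImmersion_e [IsOpenImmersion H.e] [Flat H.s]
    [LocallyOfFinitePresentation H.s] : Etale H.t := by
  haveI := etale_s_of_isOpenImmersion_e H
  haveI := Groth.Agent.Lib.Helper4.GrpdDense.isIso_i H
  rw [← H.i_s]
  infer_instance


/-- the structure maps of a groupoid scheme as morphisms over `S` -/
noncomputable abbrev UO : Over S := Over.mk H.pU
noncomputable abbrev RO : Over S := Over.mk H.pR
noncomputable abbrev sO : RO H ⟶ UO H := Over.homMk H.s H.s_over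
noncomputable abbrev tO : RO H ⟶ UO H := Over.homMk H.t H.t_over

theorem mono_j_thin [Mono H.j] {T : Scheme.{u}} (a b : T ⟶ H.R) (hs : a ≫ H.s = b ≫ H.s)
    (ht : a ≫ H.t = b ≫ H.t) : a = b := by
  rw [← cancel_mono H.j]
  unfold GroupoidScheme.j
  apply pullback.hom_ext
  · rw [Category.assoc, Category.assoc, pullback.lift_fst, ht]
  · rw [Category.assoc, Category.assoc, pullback.lift_snd, hs]

theorem isEqvRel_of_mono_j [Mono H.j] : AlgSp.IsEqvRel (sO H) (tO H) := by
  refine ⟨fun T r r' ht hs => ?_, fun T => ⟨fun x => ?_, ?_, ?_⟩⟩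
  · ext
    apply mono_j_thin H
    · have := congrArg (fun k => k.left) hs
      simpa using this
    · have := congrArg (fun k => k.left) ht
      simpa using this
  · refine ⟨Over.homMk (x.left ≫ H.e) ?_, ?_, ?_⟩
    · show (x.left ≫ H.e) ≫ H.pR = T.hom
      rw [← H.s_over, ← Category.assoc, e_s']
      exact Over.w x
    · ext
      show (x.left ≫ H.e) ≫ H.t = x.left
      rw [e_t']
    · ext
      show (x.left ≫ H.e) ≫ H.s = x.left
      rw [e_s']
  · rintro x y ⟨r, h1, h2⟩
    have h1' : r.left ≫ H.t = x.left := by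
      have := congrArg (fun k => k.left) h1
      simpa using this
    have h2' : r.left ≫ H.s = y.left := by
      have := congrArg (fun k => k.left) h2
      simpa using this
    refine ⟨Over.homMk (r.left ≫ H.i) ?_, ?_, ?_⟩
    · show (r.left ≫ H.i) ≫ H.pR = T.hom
      rw [← H.s_over, ← Category.assoc, i_s', h1']
      exact Over.w x
    · ext
      show (r.left ≫ H.i) ≫ H.t = y.left
      rw [i_t', h2']
    · ext
      show (r.left ≫ H.i) ≫ H.s = x.left
      rw [i_s', h1']
  · rintro x y z ⟨r, h1, h2⟩ ⟨r', h1', h2'⟩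
    have e1 : r.left ≫ H.t = x.left := by
      have := congrArg (fun k => k.left) h1
      simpa using this
    have e2 : r.left ≫ H.s = y.left := by
      have := congrArg (fun k => k.left) h2
      simpa using this
    have e1' : r'.left ≫ H.t = y.left := by
      have := congrArg (fun k => k.left) h1'
      simpa using this
    have e2' : r'.left ≫ H.s = z.left := by
      have := congrArg (fun k => k.left) h2'
      simpa using this
    have hc : r.left ≫ H.s = r'.left ≫ H.t := by rw [e2, e1']
    refine ⟨Over.homMk (cmp H r.left r'.left) ?_, ?_, ?_⟩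
    · show cmp H r.left r'.left ≫ H.pR = T.hom
      rw [← H.s_over, ← Category.assoc, cmp_s hc, e2']
      exact Over.w z
    · ext
      show cmp H r.left r'.left ≫ H.t = x.left
      rw [cmp_t hc, e1]
    · ext
      show cmp H r.left r'.left ≫ H.s = z.left
      rw [cmp_s hc, e2']

end Groth.Agent.Lib.Helper3.Boot
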