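import Groth.Agent.Lib.Helper3.QuotRelOpen

set_option autoImplicit false

universe u
open CategoryTheory CategoryTheory.Limits AlgebraicGeometry Opposite AlgSp

namespace Groth.Agent.Lib.Helper3.QuotRel

variable {S : Scheme.{u}} {R U R' U' : Over S} (s t : R ⟶ U) (g : U' ⟶ U) (s' t' : R' ⟶ U')
  (r : R' ⟶ R)

include s t g in
theorem exists_lift_of_restrict
    (hsq : IsPullback (prod.lift t' s') r (prod.map g g) (prod.lift t s))
    {T : Over S} (a b : T ⟶ U') (ρ : T ⟶ R) (h1 : ρ ≫ t = a ≫ g) (h2 : ρ ≫ s = b ≫ g) :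
    ∃ l : T ⟶ R', l ≫ t' = a ∧ l ≫ s' = b ∧ l ≫ r = ρ := by
  have hcomm : prod.lift a b ≫ prod.map g g = ρ ≫ prod.lift t s := by
    apply Limits.prod.hom_ext
    · rw [Category.assoc, Category.assoc, prod.map_fst, prod.lift_fst, prod.lift_fst_assoc, h1]
    · rw [Category.assoc, Category.assoc, prod.map_snd, prod.lift_snd, prod.lift_snd_assoc, h2]
  refine ⟨hsq.lift (prod.lift a b) ρ hcomm, ?_, ?_, hsq.lift_snd _ _ _⟩
  · have := congrArg (fun k => k ≫ prod.fst) (hsq.lift_fst (prod.lift a b) ρ hcomm)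
    simpa only [Category.assoc, prod.lift_fst] using this
  · have := congrArg (fun k => k ≫ prod.snd) (hsq.lift_fst (prod.lift a b) ρ hcomm)
    simpa only [Category.assoc, prod.lift_snd] using this

include s t g in
theorem restrict_hom_ext
    (hsq : IsPullback (prod.lift t' s') r (prod.map g g) (prod.lift t s))
    {T : Over S} (l l' : T ⟶ R') (h1 : l ≫ t' = l' ≫ t') (h2 : l ≫ s' = l' ≫ s')
    (h3 : l ≫ r = l' ≫ r) : l = l' := by
  refine hsq.hom_ext ?_ h3
  apply Limits.prod.hom_ext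
  · rw [Category.assoc, Category.assoc, prod.lift_fst, h1]
  · rw [Category.assoc, Category.assoc, prod.lift_snd, h2]

/-- étaleness of the source map of a restricted relation, from its universal property. -/
theorem etale_of_univ (c1 : t' ≫ g = r ≫ t) (c2 : s' ≫ g = r ≫ s)
    (hex : ∀ {T : Over S} (a b : T ⟶ U') (ρ : T ⟶ R), ρ ≫ t = a ≫ g → ρ ≫ s = b ≫ g →
      ∃ l : T ⟶ R', l ≫ t' = a ∧ l ≫ s' = b ∧ l ≫ r = ρ)
    (hext : ∀ {T : Over S} (l l' : T ⟶ R'), l ≫ t' = l' ≫ t' → l ≫ s' = l' ≫ s' →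
      l ≫ r = l' ≫ r → l = l')
    [Etale s.left] [Etale g.left] : Etale s'.left := by
  let A : Over S := pullback s g
  let a₁ : A ⟶ R := pullback.fst s g
  let a₂ : A ⟶ U' := pullback.snd s g
  have sqA : IsPullback a₁ a₂ s g := IsPullback.of_hasPullback _ _
  have sqAL : IsPullback a₁.left a₂.left s.left g.left := sqA.map (Over.forget S)
  have ha₂ : Etale a₂.left := MorphismProperty.of_isPullback (P := @Etale) sqAL inferInstance
  let m : R' ⟶ A := sqA.lift r s' c2.symm
  have hm1 : m ≫ a₁ = r := sqA.lift_fst _ _ _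
  have hm2 : m ≫ a₂ = s' := sqA.lift_snd _ _ _
  have w : m ≫ a₁ ≫ t = t' ≫ g := by rw [← Category.assoc, hm1, c1]
  have hc : ∀ c : PullbackCone (a₁ ≫ t) g, ∃ l : c.pt ⟶ R',
      l ≫ t' = c.snd ∧ l ≫ s' = c.fst ≫ a₂ ∧ l ≫ r = c.fst ≫ a₁ := by
    intro c
    refine hex c.snd (c.fst ≫ a₂) (c.fst ≫ a₁) ?_ ?_
    · rw [Category.assoc]; exact c.condition
    · rw [Category.assoc, Category.assoc, sqA.w]
  choose lc hlc1 hlc2 hlc3 using hc
  have sqM : IsPullback m t' (a₁ ≫ t) g := by
    refine IsPullback.of_isLimit (c := PullbackCone.mk m t' w) ?_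
    refine PullbackCone.IsLimit.mk w lc ?_ ?_ ?_
    · intro c
      refine sqA.hom_ext ?_ ?_
      · rw [Category.assoc, hm1, hlc3]
      · rw [Category.assoc, hm2, hlc2]
    · intro c
      exact hlc1 c
    · intro c l' h1 h2
      refine hext _ _ ?_ ?_ ?_
      · rw [h2, hlc1]
      · rw [hlc2, ← h1, Category.assoc, hm2]
      · rw [hlc3, ← h1, Category.assoc, hm1]
  have sqML : IsPullback m.left t'.left (a₁ ≫ t).left g.left := sqM.map (Over.forget S)
  have hm : Etale m.left := MorphismProperty.of_isPullback (P := @Etale) sqML.flip inferInstance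
  have : s'.left = m.left ≫ a₂.left := by rw [← Over.comp_left, hm2]
  rw [this]
  infer_instance

/-- the restriction of an étale equivalence relation along an étale morphism is an étale
equivalence relation. -/
theorem isEtaleEqvRel_of_restrict
    (hsq : IsPullback (prod.lift t' s') r (prod.map g g) (prod.lift t s))
    (h : IsEtaleEqvRel s t) [Etale g.left] : IsEtaleEqvRel s' t' := by
  obtain ⟨c1, c2⟩ := restrict_comm s t g s' t' r hsq
  have hiff : ∀ {T : Over S} (a b : T ⟶ U'), (∃ l : T ⟶ R', l ≫ t' = a ∧ l ≫ s' = b) ↔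
      (∃ ρ : T ⟶ R, ρ ≫ t = a ≫ g ∧ ρ ≫ s = b ≫ g) := by
    intro T a b
    constructor
    · rintro ⟨l, rfl, rfl⟩
      exact ⟨l ≫ r, by rw [Category.assoc, Category.assoc, c1],
        by rw [Category.assoc, Category.assoc, c2]⟩
    · rintro ⟨ρ, h1, h2⟩
      obtain ⟨l, hl1, hl2, -⟩ := exists_lift_of_restrict s t g s' t' r hsq a b ρ h1 h2
      exact ⟨l, hl1, hl2⟩
  have := h.etale_left
  have := h.etale_right
  refine ⟨⟨?_, ?_⟩, ?_, ?_⟩
  · intro T l l' h1 h2
    refine restrict_hom_ext s t g s' t' r hsq l l' h1 h2 ?_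
    apply h.injective T
    · rw [Category.assoc, Category.assoc, ← c1, ← Category.assoc, ← Category.assoc, h1]
    · rw [Category.assoc, Category.assoc, ← c2, ← Category.assoc, ← Category.assoc, h2]
  · intro T
    have hE := h.equivalence T
    refine ⟨?_, ?_, ?_⟩
    · intro a
      rw [hiff]
      exact hE.refl _
    · intro a b hab
      rw [hiff] at hab ⊢
      exact hE.symm hab
    · intro a b c hab hbc
      rw [hiff] at hab hbc ⊢
      exact hE.trans hab hbc
  · exact etale_of_univ s t g s' t' r c1 c2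
      (fun a b ρ h1 h2 => exists_lift_of_restrict s t g s' t' r hsq a b ρ h1 h2)
      (fun l l' h1 h2 h3 => restrict_hom_ext s t g s' t' r hsq l l' h1 h2 h3)
  · exact etale_of_univ t s g t' s' r c2 c1
      (fun a b ρ h1 h2 => by
        obtain ⟨l, hl1, hl2, hl3⟩ := exists_lift_of_restrict s t g s' t' r hsq b a ρ h2 h1
        exact ⟨l, hl2, hl1, hl3⟩)
      (fun l l' h1 h2 h3 => restrict_hom_ext s t g s' t' r hsq l l' h2 h1 h3)

end Groth.Agent.Lib.Helper3.QuotRel
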