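import Mathlib
import Groth.Prelude.Def_Grpd
import Groth.Prelude.Def_AlgSp
import Groth.Agent.Lib.Helper3.BootA
import Groth.Agent.Lib.Helper3.QuotRelOpen
import Groth.Agent.Lib.Helper3.QuotRelRestrict

set_option autoImplicit false
universe u

namespace Groth.Agent.Lib.Helper3.Boot

open CategoryTheory CategoryTheory.Limits AlgebraicGeometry Grpd AlgSp
open Groth.Agent.Lib.Helper3 Groth.Agent.Lib.Helper3.GP

set_option backward.isDefEq.respectTransparency false

variable {S : Scheme.{u}}

/-- `(R', s', t')` is the restriction of the relation `(R, s, t)` on `U` along `g : U' ⟶ U`, in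
terms of `T`-points -/
structure IsRestr {R U R' U' : Over S} (s t : R ⟶ U) (g : U' ⟶ U) (s' t' : R' ⟶ U')
    (r : R' ⟶ R) : Prop where
  c1 : t' ≫ g = r ≫ t
  c2 : s' ≫ g = r ≫ s
  hex : ∀ {T : Over S} (a b : T ⟶ U') (ρ : T ⟶ R), ρ ≫ t = a ≫ g → ρ ≫ s = b ≫ g →
    ∃ l : T ⟶ R', l ≫ t' = a ∧ l ≫ s' = b ∧ l ≫ r = ρ
  hext : ∀ {T : Over S} (l l' : T ⟶ R'), l ≫ t' = l' ≫ t' → l ≫ s' = l' ≫ s' →
    l ≫ r = l' ≫ r → l = l'

namespace IsRestr

variable {R U R' U' : Over S} {s t : R ⟶ U} {g : U' ⟶ U} {s' t' : R' ⟶ U'} {r : R' ⟶ R}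

theorem isPullback (h : IsRestr s t g s' t' r) :
    IsPullback (prod.lift t' s') r (prod.map g g) (prod.lift t s) := by
  have w : prod.lift t' s' ≫ prod.map g g = r ≫ prod.lift t s := by
    apply Limits.prod.hom_ext
    · rw [Category.assoc, Category.assoc, prod.map_fst, prod.lift_fst, prod.lift_fst_assoc, h.c1]
    · rw [Category.assoc, Category.assoc, prod.map_snd, prod.lift_snd, prod.lift_snd_assoc, h.c2]
  have hc : ∀ c : PullbackCone (prod.map g g) (prod.lift t s), ∃ l : c.pt ⟶ R',
      l ≫ t' = c.fst ≫ prod.fst ∧ l ≫ s' = c.fst ≫ prod.snd ∧ l ≫ r = c.snd := by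
    intro c
    have h1 := congrArg (fun k => k ≫ prod.fst) c.condition
    have h2 := congrArg (fun k => k ≫ prod.snd) c.condition
    simp only [Category.assoc, prod.map_fst, prod.map_snd, prod.lift_fst, prod.lift_snd] at h1 h2
    exact h.hex _ _ c.snd h1.symm h2.symm
  choose lc hlc1 hlc2 hlc3 using hc
  refine IsPullback.of_isLimit (c := PullbackCone.mk _ _ w) ?_
  refine PullbackCone.IsLimit.mk w lc ?_ ?_ ?_
  · intro c
    apply Limits.prod.hom_ext
    · rw [Category.assoc, prod.lift_fst, hlc1]
    · rw [Category.assoc, prod.lift_snd, hlc2]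
  · intro c
    exact hlc3 c
  · intro c m h1 h2
    refine h.hext _ _ ?_ ?_ ?_
    · rw [hlc1, ← h1, Category.assoc, prod.lift_fst]
    · rw [hlc2, ← h1, Category.assoc, prod.lift_snd]
    · rw [hlc3, h2]

theorem comp {R'' U'' : Over S} {g' : U'' ⟶ U'} {s'' t'' : R'' ⟶ U''} {r' : R'' ⟶ R'}
    (h : IsRestr s t g s' t' r) (h' : IsRestr s' t' g' s'' t'' r') :
    IsRestr s t (g' ≫ g) s'' t'' (r' ≫ r) where
  c1 := by rw [← Category.assoc, h'.c1, Category.assoc, h.c1, Category.assoc]
  c2 := by rw [← Category.assoc, h'.c2, Category.assoc, h.c2, Category.assoc]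
  hex := by
    intro T a b ρ h1 h2
    obtain ⟨l, hl1, hl2, hl3⟩ := h.hex (a ≫ g') (b ≫ g') ρ (by rw [h1, Category.assoc])
      (by rw [h2, Category.assoc])
    obtain ⟨l', hl1', hl2', hl3'⟩ := h'.hex a b l hl1 hl2
    exact ⟨l', hl1', hl2', by rw [← Category.assoc, hl3', hl3]⟩
  hext := by
    intro T l l' h1 h2 h3
    refine h'.hext _ _ h1 h2 ?_
    refine h.hext _ _ ?_ ?_ (by rw [Category.assoc, Category.assoc, h3])
    · rw [Category.assoc, Category.assoc, ← h'.c1, ← Category.assoc, ← Category.assoc, h1]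
    · rw [Category.assoc, Category.assoc, ← h'.c2, ← Category.assoc, ← Category.assoc, h2]

/-- a property of morphisms of schemes stable under base change and composition passes to the
source map of a restriction -/
theorem prop_s (h : IsRestr s t g s' t' r) (P : MorphismProperty Scheme.{u})
    [P.IsStableUnderBaseChange] [P.IsStableUnderComposition] (hs : P s.left) (hg : P g.left) :
    P s'.left := by
  let A : Over S := pullback s g
  let a₁ : A ⟶ R := pullback.fst s g
  let a₂ : A ⟶ U' := pullback.snd s g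
  have sqA : IsPullback a₁ a₂ s g := IsPullback.of_hasPullback _ _
  have sqAL : IsPullback a₁.left a₂.left s.left g.left := sqA.map (Over.forget S)
  have ha₂ : P a₂.left := MorphismProperty.of_isPullback (P := P) sqAL hs
  let m : R' ⟶ A := sqA.lift r s' h.c2.symm
  have hm1 : m ≫ a₁ = r := sqA.lift_fst _ _ _
  have hm2 : m ≫ a₂ = s' := sqA.lift_snd _ _ _
  have w : m ≫ a₁ ≫ t = t' ≫ g := by rw [← Category.assoc, hm1, h.c1]
  have hc : ∀ c : PullbackCone (a₁ ≫ t) g, ∃ l : c.pt ⟶ R',
      l ≫ t' = c.snd ∧ l ≫ s' = c.fst ≫ a₂ ∧ l ≫ r = c.fst ≫ a₁ := by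
    intro c
    refine h.hex c.snd (c.fst ≫ a₂) (c.fst ≫ a₁) ?_ ?_
    · rw [Category.assoc]; exact c.condition
    · rw [Category.assoc, Category.assoc, sqA.w]
  choose lc hlc1 hlc2 hlc3 using hc
  have sqM : IsPullback m t' (a₁ ≫ t) g := by
    refine IsPullback.of_isLimit (c := PullbackCone.mk m t' w) ?_
    refine PullbackCone.IsLimit.mk w lc ?_ ?_ ?_
    · intro c
      refine sqA.hom_ext ?_ ?_
      · rw [Category.assoc, hm1, hlc3]
      · rw [Category.assoc, hm2, hlc2]
    · intro c
      exact hlc1 c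
    · intro c l' h1 h2
      refine h.hext _ _ ?_ ?_ ?_
      · rw [h2, hlc1]
      · rw [hlc2, ← h1, Category.assoc, hm2]
      · rw [hlc3, ← h1, Category.assoc, hm1]
  have sqML : IsPullback m.left t'.left (a₁ ≫ t).left g.left := sqM.map (Over.forget S)
  have hm : P m.left := MorphismProperty.of_isPullback (P := P) sqML.flip hg
  have : s'.left = m.left ≫ a₂.left := by rw [← Over.comp_left, hm2]
  rw [this]
  exact P.comp_mem _ _ hm ha₂

theorem symm (h : IsRestr s t g s' t' r) : IsRestr t s g t' s' r where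
  c1 := h.c2
  c2 := h.c1
  hex := by
    intro T a b ρ h1 h2
    obtain ⟨l, hl1, hl2, hl3⟩ := h.hex b a ρ h2 h1
    exact ⟨l, hl2, hl1, hl3⟩
  hext := by
    intro T l l' h1 h2 h3
    exact h.hext l l' h2 h1 h3

theorem prop_t (h : IsRestr s t g s' t' r) (P : MorphismProperty Scheme.{u})
    [P.IsStableUnderBaseChange] [P.IsStableUnderComposition] (ht : P t.left) (hg : P g.left) :
    P t'.left := h.symm.prop_s P ht hg

end IsRestr

/-- a cartesian morphism of groupoid schemes exhibits the source as a restriction -/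
theorem isRestr_of_hom {G' G : GroupoidScheme S} (φ : GroupoidScheme.Hom G' G)
    (hsq : IsPullback φ.fR G'.j G.j
      (pullback.map G'.pU G'.pU G.pU G.pU φ.fU φ.fU (𝟙 S)
        ((Category.comp_id _).trans φ.fU_over.symm) ((Category.comp_id _).trans φ.fU_over.symm)))
    (hR : φ.fR ≫ G.pR = G'.pR) :
    IsRestr (sO G) (tO G) (Over.homMk φ.fU φ.fU_over : UO G' ⟶ UO G) (sO G') (tO G')
      (Over.homMk φ.fR hR : RO G' ⟶ RO G) where
  c1 := by
    ext
    show G'.t ≫ φ.fU = φ.fR ≫ G.t
    exact φ.comm_t.symm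
  c2 := by
    ext
    show G'.s ≫ φ.fU = φ.fR ≫ G.s
    exact φ.comm_s.symm
  hex := by
    intro T a b ρ h1 h2
    have h1' : ρ.left ≫ G.t = a.left ≫ φ.fU := by
      have := congrArg (fun k => k.left) h1
      simpa using this
    have h2' : ρ.left ≫ G.s = b.left ≫ φ.fU := by
      have := congrArg (fun k => k.left) h2
      simpa using this
    have hab : a.left ≫ G'.pU = b.left ≫ G'.pU := (Over.w a).trans (Over.w b).symm
    have hcond : ρ.left ≫ G.j = pullback.lift a.left b.left hab ≫
        pullback.map G'.pU G'.pU G.pU G.pU φ.fU φ.fU (𝟙 S)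
          ((Category.comp_id _).trans φ.fU_over.symm)
          ((Category.comp_id _).trans φ.fU_over.symm) := by
      unfold GroupoidScheme.j
      apply pullback.hom_ext
      · rw [Category.assoc, Category.assoc, pullback.lift_fst, pullback.lift_fst,
          pullback.lift_fst_assoc, h1']
      · rw [Category.assoc, Category.assoc, pullback.lift_snd, pullback.lift_snd,
          pullback.lift_snd_assoc, h2']
    have hl1 := hsq.lift_fst _ _ hcond
    have hl2 := hsq.lift_snd _ _ hcond
    have hlt : hsq.lift _ _ hcond ≫ G'.t = a.left := by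
      have := congrArg (fun k => k ≫ pullback.fst G'.pU G'.pU) hl2
      simp only [Category.assoc, pullback.lift_fst] at this
      unfold GroupoidScheme.j at this
      rw [pullback.lift_fst] at this
      exact this
    have hls : hsq.lift _ _ hcond ≫ G'.s = b.left := by
      have := congrArg (fun k => k ≫ pullback.snd G'.pU G'.pU) hl2
      simp only [Category.assoc, pullback.lift_snd] at this
      unfold GroupoidScheme.j at this
      rw [pullback.lift_snd] at this
      exact this
    refine ⟨Over.homMk (hsq.lift _ _ hcond) ?_, ?_, ?_, ?_⟩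
    · show hsq.lift _ _ hcond ≫ G'.pR = T.hom
      rw [← G'.s_over, ← Category.assoc, hls]
      exact Over.w b
    · ext
      exact hlt
    · ext
      exact hls
    · ext
      exact hl1
  hext := by
    intro T l l' h1 h2 h3
    ext
    have h1' : l.left ≫ G'.t = l'.left ≫ G'.t := by
      have := congrArg (fun k => k.left) h1
      simpa using this
    have h2' : l.left ≫ G'.s = l'.left ≫ G'.s := by
      have := congrArg (fun k => k.left) h2
      simpa using this
    have h3' : l.left ≫ φ.fR = l'.left ≫ φ.fR := by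
      have := congrArg (fun k => k.left) h3
      simpa using this
    refine hsq.hom_ext h3' ?_
    unfold GroupoidScheme.j
    apply pullback.hom_ext
    · rw [Category.assoc, Category.assoc, pullback.lift_fst, h1']
    · rw [Category.assoc, Category.assoc, pullback.lift_snd, h2']

theorem hom_fR_over {G' G : GroupoidScheme S} (φ : GroupoidScheme.Hom G' G) :
    φ.fR ≫ G.pR = G'.pR := by
  rw [← G.s_over, ← Category.assoc, φ.comm_s, Category.assoc, φ.fU_over, G'.s_over]

end Groth.Agent.Lib.Helper3.Boot
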