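import Mathlib
import Groth.Agent.Lib.Helper3.GQQuotGlue
import Groth.Prelude.Def_Mor2

set_option autoImplicit false
universe u

namespace Groth.Agent.Lib.Helper3.GQ

open CategoryTheory CategoryTheory.Limits AlgebraicGeometry Opposite AlgSp
open Groth.Agent.Lib.Helper3 Groth.Agent.Lib.Helper4

/-- a scheme all of whose closed subsets contain a point whose orbit lies in an affine open is
covered by invariant affine opens. -/
theorem exists_invariant_affine_cover {S : Scheme.{u}} (G : Grpd.GroupoidScheme S)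
    [IsFinite G.s] [Flat G.s] [LocallyOfFinitePresentation G.s]
    (h3 : ∀ Z : Set ↥G.U, IsClosed Z → Z.Nonempty →
      ∃ u ∈ Z, ∃ W : G.U.Opens, IsAffineOpen W ∧ ∀ r : ↥G.R, G.s r = u → G.t r ∈ W) (u₀ : ↥G.U) :
    ∃ W : G.U.Opens, IsAffineOpen W ∧ u₀ ∈ W ∧ G.s ⁻¹ᵁ W = G.t ⁻¹ᵁ W := by
  by_contra hne
  push Not at hne
  let Ω : Set ↥G.U := ⋃ (W : G.U.Opens) (_ : IsAffineOpen W ∧ G.s ⁻¹ᵁ W = G.t ⁻¹ᵁ W), (W : Set ↥G.U)
  have hΩopen : IsOpen Ω := isOpen_iUnion fun W => isOpen_iUnion fun _ => W.2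
  have hZ : (Ωᶜ).Nonempty := by
    refine ⟨u₀, fun hmem => ?_⟩
    obtain ⟨W, ⟨hWaff, hWinv⟩, huW⟩ := Set.mem_iUnion₂.1 hmem
    exact hne W hWaff huW hWinv
  obtain ⟨u, huZ, V, hV, huV⟩ := h3 Ωᶜ hΩopen.isClosed_compl hZ
  obtain ⟨W, hWaff, huW, hWinv⟩ := GrpdAffOpen.main S G u V hV huV
  exact huZ (Set.mem_iUnion₂.2 ⟨W, ⟨hWaff, hWinv⟩, huW⟩)

theorem main10235 {S : Scheme.{u}} (G : Grpd.GroupoidScheme S)
    (hs : Mor2.IsFinLocFree G.s) (ht : Mor2.IsFinLocFree G.t)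
    (heq : AlgSp.IsEqvRel (Over.homMk G.s G.s_over : Over.mk G.pR ⟶ Over.mk G.pU) (Over.homMk G.t G.t_over : Over.mk G.pR ⟶ Over.mk G.pU))
    (h3 : ∀ Z : Set ↥G.U, IsClosed Z → Z.Nonempty →
      ∃ u ∈ Z, ∃ W : G.U.Opens, IsAffineOpen W ∧ ∀ r : ↥G.R, G.s r = u → G.t r ∈ W) :
    ∃ (M : Over S) (m : Over.mk G.pU ⟶ M), Mor2.IsFinLocFree m.left ∧ IsPullback G.t G.s m.left m.left ∧
      QuotSh.IsQuotient Scheme.fppfPrecoverage (Over.homMk G.s G.s_over : Over.mk G.pR ⟶ Over.mk G.pU) (Over.homMk G.t G.t_over : Over.mk G.pR ⟶ Over.mk G.pU) m := by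
  obtain ⟨hsfin, hsflat, hslfp⟩ := hs
  haveI := hsfin
  haveI := hsflat
  haveI := hslfp
  let sO : Over.mk G.pR ⟶ Over.mk G.pU := Over.homMk G.s G.s_over
  let tO : Over.mk G.pR ⟶ Over.mk G.pU := Over.homMk G.t G.t_over
  haveI : IsFinite sO.left := hsfin
  haveI : Flat sO.left := hsflat
  haveI : LocallyOfFinitePresentation sO.left := hslfp
  obtain ⟨M, m, hfin, hflat, hlfp, hsurj, kpO⟩ :=
    exists_quotient_of_cover sO tO heq (exists_invariant_affine_cover G h3)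
  refine ⟨M, m, ⟨hfin, hflat, hlfp⟩, kpO.map (Over.forget S), ?_⟩
  refine QuotIff.isQuotient_of_isKernelPair _ sO tO m kpO.flip ?_
  rw [EpiRep.epi_repMap_iff_generate]
  haveI := hflat
  haveI := hlfp
  haveI := hsurj
  exact Precoverage.generate_mem_toGrothendieck (Scheme.Hom.singleton_mem_fppfPrecoverage m.left)

end Groth.Agent.Lib.Helper3.GQ
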