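import Mathlib
import Groth.Agent.Lib.Helper3.GrpdPt
import Groth.Agent.Lib.Helper3.GQRelQuot
import Groth.Prelude.Def_AlgSp

set_option autoImplicit false
universe u

namespace Groth.Agent.Lib.Helper3.SubQ

open CategoryTheory CategoryTheory.Limits AlgebraicGeometry Grpd
open Groth.Agent.Lib.Helper3.GrpdSub Groth.Agent.Lib.Helper3.GP

variable {S : Scheme.{u}} (G : GroupoidScheme S) {P : Scheme.{u}} (ιP : P ⟶ G.R)

section thin

variable [Mono (ιP ≫ G.j)] {T : Scheme.{u}}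

include G in
theorem P_thin (p q : T ⟶ P) (hs : (p ≫ ιP) ≫ G.s = (q ≫ ιP) ≫ G.s)
    (ht : (p ≫ ιP) ≫ G.t = (q ≫ ιP) ≫ G.t) : p = q := by
  rw [← cancel_mono (ιP ≫ G.j)]
  apply pullback.hom_ext
  · simp only [GroupoidScheme.j, Category.assoc, pullback.lift_fst]
    simpa using ht
  · simp only [GroupoidScheme.j, Category.assoc, pullback.lift_snd]
    simpa using hs

end thin

variable (eP : G.U ⟶ P) (heP : eP ≫ ιP = G.e) (iP : P ⟶ P) (hiP : iP ≫ ιP = ιP ≫ G.i)
  (cP : pullback (ιP ≫ G.s) (ιP ≫ G.t) ⟶ P)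
  (hcP : cP ≫ ιP = pullback.map (ιP ≫ G.s) (ιP ≫ G.t) G.s G.t ιP ιP (𝟙 G.U)
    (Category.comp_id _) (Category.comp_id _) ≫ G.c)
  {T : Scheme.{u}}

include heP in
theorem P_id (x : T ⟶ G.U) : (x ≫ eP) ≫ ιP = x ≫ G.e := by rw [Category.assoc, heP]

include hiP in
theorem P_inv (p : T ⟶ P) : (p ≫ iP) ≫ ιP = (p ≫ ιP) ≫ G.i := by
  rw [Category.assoc, hiP, Category.assoc]

include hcP in
theorem P_cmp (p q : T ⟶ P) (h : (p ≫ ιP) ≫ G.s = (q ≫ ιP) ≫ G.t) :
    ∃ w : T ⟶ P, w ≫ ιP = cmp G (p ≫ ιP) (q ≫ ιP) := by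
  refine ⟨pullback.lift p q (by simpa using h) ≫ cP, ?_⟩
  rw [Category.assoc, hcP, cmp_eq h, ← Category.assoc]
  congr 1
  apply pullback.hom_ext
  · rw [Category.assoc, pullback.lift_fst, pullback.lift_fst_assoc, pullback.lift_fst]
  · rw [Category.assoc, pullback.lift_snd, pullback.lift_snd_assoc, pullback.lift_snd]

include heP in
theorem P_eq_e [Mono (ιP ≫ G.j)] (p : T ⟶ P) (h : (p ≫ ιP) ≫ G.s = (p ≫ ιP) ≫ G.t) :
    p ≫ ιP = ((p ≫ ιP) ≫ G.s) ≫ G.e := by
  have : p = ((p ≫ ιP) ≫ G.s) ≫ eP := by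
    apply P_thin G ιP
    · rw [P_id G ιP eP heP, e_s']
    · rw [P_id G ιP eP heP, e_t', h]
  conv_lhs => rw [this]
  exact P_id G ιP eP heP _

/-- the structure maps of `P` as morphisms over `S` -/
noncomputable abbrev PO : Over S := Over.mk (ιP ≫ G.pR)
noncomputable abbrev UO : Over S := Over.mk G.pU
noncomputable abbrev RO : Over S := Over.mk G.pR

noncomputable abbrev sPO : PO G ιP ⟶ UO G :=
  Over.homMk (ιP ≫ G.s) ((Category.assoc _ _ _).trans (congrArg (ιP ≫ ·) G.s_over))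

noncomputable abbrev tPO : PO G ιP ⟶ UO G :=
  Over.homMk (ιP ≫ G.t) ((Category.assoc _ _ _).trans (congrArg (ιP ≫ ·) G.t_over))

include heP hiP hcP in
theorem isEqvRel_P [Mono (ιP ≫ G.j)] : AlgSp.IsEqvRel (sPO G ιP) (tPO G ιP) := by
  refine ⟨fun T r r' ht hs => ?_, fun T => ⟨fun x => ?_, ?_, ?_⟩⟩
  · ext
    apply P_thin G ιP
    · have := congrArg (fun k => k.left) hs
      simpa using this
    · have := congrArg (fun k => k.left) ht
      simpa using this
  · refine ⟨Over.homMk (x.left ≫ eP) ?_, ?_, ?_⟩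
    · show (x.left ≫ eP) ≫ ιP ≫ G.pR = T.hom
      rw [← Category.assoc, P_id G ιP eP heP, Category.assoc, ← G.s_over, ← Category.assoc G.e,
        G.e_s, Category.id_comp]
      exact Over.w x
    · ext
      show (x.left ≫ eP) ≫ ιP ≫ G.t = x.left
      rw [← Category.assoc, P_id G ιP eP heP, e_t']
    · ext
      show (x.left ≫ eP) ≫ ιP ≫ G.s = x.left
      rw [← Category.assoc, P_id G ιP eP heP, e_s']
  · rintro x y ⟨r, h1, h2⟩
    have h1' : (r.left ≫ ιP) ≫ G.t = x.left := by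
      have := congrArg (fun k => k.left) h1
      simpa using this
    have h2' : (r.left ≫ ιP) ≫ G.s = y.left := by
      have := congrArg (fun k => k.left) h2
      simpa using this
    refine ⟨Over.homMk (r.left ≫ iP) ?_, ?_, ?_⟩
    · show (r.left ≫ iP) ≫ ιP ≫ G.pR = T.hom
      rw [← Category.assoc, P_inv G ιP iP hiP, ← G.s_over, ← Category.assoc, i_s', h1']
      exact Over.w x
    · ext
      show (r.left ≫ iP) ≫ ιP ≫ G.t = y.left
      rw [← Category.assoc, P_inv G ιP iP hiP, i_t', h2']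
    · ext
      show (r.left ≫ iP) ≫ ιP ≫ G.s = x.left
      rw [← Category.assoc, P_inv G ιP iP hiP, i_s', h1']
  · rintro x y z ⟨r, h1, h2⟩ ⟨r', h1', h2'⟩
    have e1 : (r.left ≫ ιP) ≫ G.t = x.left := by
      have := congrArg (fun k => k.left) h1
      simpa using this
    have e2 : (r.left ≫ ιP) ≫ G.s = y.left := by
      have := congrArg (fun k => k.left) h2
      simpa using this
    have e1' : (r'.left ≫ ιP) ≫ G.t = y.left := by
      have := congrArg (fun k => k.left) h1'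
      simpa using this
    have e2' : (r'.left ≫ ιP) ≫ G.s = z.left := by
      have := congrArg (fun k => k.left) h2'
      simpa using this
    have hc : (r.left ≫ ιP) ≫ G.s = (r'.left ≫ ιP) ≫ G.t := e2.trans e1'.symm
    obtain ⟨w, hw⟩ := P_cmp G ιP cP hcP r.left r'.left hc
    refine ⟨Over.homMk w ?_, ?_, ?_⟩
    · show w ≫ ιP ≫ G.pR = T.hom
      rw [← Category.assoc, hw, ← G.s_over, ← Category.assoc, cmp_s hc, e2']
      exact Over.w z
    · ext
      show w ≫ ιP ≫ G.t = x.left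
      rw [← Category.assoc, hw, cmp_t hc, e1]
    · ext
      show w ≫ ιP ≫ G.s = z.left
      rw [← Category.assoc, hw, cmp_s hc, e2']

end Groth.Agent.Lib.Helper3.SubQ
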