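import Mathlib
import Groth.Agent.Lib.Helper3.SubQ1

set_option autoImplicit false
universe u

namespace Groth.Agent.Lib.Helper3.SubQ

open CategoryTheory CategoryTheory.Limits AlgebraicGeometry Grpd
open Groth.Agent.Lib.Helper3.GrpdSub Groth.Agent.Lib.Helper3.GP

variable {S : Scheme.{u}} (G : GroupoidScheme S) {P : Scheme.{u}} (ιP : P ⟶ G.R)

theorem cmp_inv_cmp {T : Scheme.{u}} {α β : T ⟶ G.R} (h : α ≫ G.s = β ≫ G.t) :
    cmp G (α ≫ G.i) (cmp G α β) = β := by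
  rw [← cmp_assoc (i_s' α) h, cmp_i_left, cmp_e_left h.symm]

theorem cmp_cmp_inv {T : Scheme.{u}} {α β : T ⟶ G.R} (h : α ≫ G.s = β ≫ G.t) :
    cmp G (cmp G α β) (β ≫ G.i) = α := by
  rw [cmp_assoc h (i_t' β).symm, cmp_i_right, cmp_e_right h]

/-- triples `(p, r, p')` with `p, p'` in `P` and `p ∘ r ∘ p'` defined -/
noncomputable abbrev Rel : Scheme.{u} :=
  pullback (pullback.snd (ιP ≫ G.s) G.t ≫ G.s) (ιP ≫ G.t)

noncomputable abbrev prP : Rel G ιP ⟶ P := pullback.fst _ _ ≫ pullback.fst _ _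
noncomputable abbrev prR : Rel G ιP ⟶ G.R := pullback.fst _ _ ≫ pullback.snd _ _
noncomputable abbrev prP' : Rel G ιP ⟶ P := pullback.snd _ _

theorem prP_prR : (prP G ιP ≫ ιP) ≫ G.s = prR G ιP ≫ G.t := by
  simp only [Category.assoc]
  rw [← pullback.condition]

theorem prR_prP' : prR G ιP ≫ G.s = (prP' G ιP ≫ ιP) ≫ G.t := by
  simp only [Category.assoc]
  rw [← pullback.condition]

/-- the target map `(p, r, p') ↦ p ∘ r ∘ p'` -/
noncomputable def tRel : Rel G ιP ⟶ G.R :=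
  cmp G (cmp G (prP G ιP ≫ ιP) (prR G ιP)) (prP' G ιP ≫ ιP)

variable {T : Scheme.{u}}

noncomputable def mkRel (p : T ⟶ P) (r : T ⟶ G.R) (p' : T ⟶ P)
    (h1 : (p ≫ ιP) ≫ G.s = r ≫ G.t) (h2 : r ≫ G.s = (p' ≫ ιP) ≫ G.t) : T ⟶ Rel G ιP :=
  pullback.lift (pullback.lift p r (by simpa using h1)) p' (by
    rw [pullback.lift_snd_assoc]; simpa using h2)

variable (p : T ⟶ P) (r : T ⟶ G.R) (p' : T ⟶ P)
    (h1 : (p ≫ ιP) ≫ G.s = r ≫ G.t) (h2 : r ≫ G.s = (p' ≫ ιP) ≫ G.t)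

@[simp] theorem mkRel_prP : mkRel G ιP p r p' h1 h2 ≫ prP G ιP = p := by
  unfold mkRel
  rw [pullback.lift_fst_assoc, pullback.lift_fst]

@[simp] theorem mkRel_prR : mkRel G ιP p r p' h1 h2 ≫ prR G ιP = r := by
  unfold mkRel
  rw [pullback.lift_fst_assoc, pullback.lift_snd]

@[simp] theorem mkRel_prP' : mkRel G ιP p r p' h1 h2 ≫ prP' G ιP = p' := by
  unfold mkRel
  rw [pullback.lift_snd]

theorem comp_tRel (x : T ⟶ Rel G ιP) :
    x ≫ tRel G ιP = cmp G (cmp G ((x ≫ prP G ιP) ≫ ιP) (x ≫ prR G ιP)) ((x ≫ prP' G ιP) ≫ ιP) := by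
  unfold tRel
  have hA := prP_prR G ιP
  have hB := prR_prP' G ιP
  rw [precomp_cmp x ((cmp_s hA).trans hB), precomp_cmp x hA]
  simp only [Category.assoc]

theorem mkRel_tRel : mkRel G ιP p r p' h1 h2 ≫ tRel G ιP = cmp G (cmp G (p ≫ ιP) r) (p' ≫ ιP) := by
  rw [comp_tRel, mkRel_prP, mkRel_prR, mkRel_prP']

theorem Rel_hom_ext {x y : T ⟶ Rel G ιP} (hp : x ≫ prP G ιP = y ≫ prP G ιP)
    (hr : x ≫ prR G ιP = y ≫ prR G ιP) (hp' : x ≫ prP' G ιP = y ≫ prP' G ιP) : x = y := by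
  apply pullback.hom_ext
  · apply pullback.hom_ext
    · simpa using hp
    · simpa using hr
  · exact hp'

theorem comp_prP_prR (x : T ⟶ Rel G ιP) :
    ((x ≫ prP G ιP) ≫ ιP) ≫ G.s = (x ≫ prR G ιP) ≫ G.t := by
  have := congrArg (x ≫ ·) (prP_prR G ιP)
  simpa using this

theorem comp_prR_prP' (x : T ⟶ Rel G ιP) :
    (x ≫ prR G ιP) ≫ G.s = ((x ≫ prP' G ιP) ≫ ιP) ≫ G.t := by
  have := congrArg (x ≫ ·) (prR_prP' G ιP)
  simpa using this

theorem tRel_s : tRel G ιP ≫ G.s = (prP' G ιP ≫ ιP) ≫ G.s := by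
  unfold tRel
  rw [cmp_s ((cmp_s (prP_prR G ιP)).trans (prR_prP' G ιP))]

theorem tRel_t : tRel G ιP ≫ G.t = (prP G ιP ≫ ιP) ≫ G.t := by
  unfold tRel
  rw [cmp_t ((cmp_s (prP_prR G ιP)).trans (prR_prP' G ιP)), cmp_t (prP_prR G ιP)]

theorem tRel_over : tRel G ιP ≫ G.pR = prR G ιP ≫ G.pR := by
  rw [← G.s_over, ← Category.assoc, tRel_s]
  conv_rhs => rw [← Category.assoc, prR_prP']
  simp only [Category.assoc, G.s_over, G.t_over]

noncomputable abbrev RelO : Over S := Over.mk (prR G ιP ≫ G.pR)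

noncomputable abbrev sRelO : RelO G ιP ⟶ RO G := Over.homMk (prR G ιP) rfl

noncomputable abbrev tRelO : RelO G ιP ⟶ RO G := Over.homMk (tRel G ιP) (tRel_over G ιP)

section eqv

variable (eP : G.U ⟶ P) (heP : eP ≫ ιP = G.e) (iP : P ⟶ P) (hiP : iP ≫ ιP = ιP ≫ G.i)
  (cP : pullback (ιP ≫ G.s) (ιP ≫ G.t) ⟶ P)
  (hcP : cP ≫ ιP = pullback.map (ιP ≫ G.s) (ιP ≫ G.t) G.s G.t ιP ιP (𝟙 G.U)
    (Category.comp_id _) (Category.comp_id _) ≫ G.c)

include heP hiP hcP in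
theorem isEqvRel_Rel [Mono ιP] [Mono (ιP ≫ G.j)] :
    AlgSp.IsEqvRel (sRelO G ιP) (tRelO G ιP) := by
  refine ⟨fun T x y ht hs => ?_, fun T => ⟨fun x => ?_, ?_, ?_⟩⟩
  · -- injectivity
    have hs' : x.left ≫ prR G ιP = y.left ≫ prR G ιP := congrArg (fun k => k.left) hs
    have ht' : x.left ≫ tRel G ιP = y.left ≫ tRel G ιP := congrArg (fun k => k.left) ht
    have hxA := comp_prP_prR G ιP x.left
    have hxB := comp_prR_prP' G ιP x.left
    have hyA := comp_prP_prR G ιP y.left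
    have hyB := comp_prR_prP' G ιP y.left
    rw [comp_tRel, comp_tRel] at ht'
    -- p' = q'
    have hp' : x.left ≫ prP' G ιP = y.left ≫ prP' G ιP := by
      apply P_thin G ιP
      · have := congrArg (· ≫ G.s) ht'
        rwa [cmp_s ((cmp_s hxA).trans hxB), cmp_s ((cmp_s hyA).trans hyB)] at this
      · rw [← hxB, ← hyB, hs']
    rw [← hp', ← hs'] at ht'
    have h3 := cmp_right_cancel ((cmp_s hxA).trans hxB) (by
      rw [cmp_s (hyA.trans (by rw [hs'])), hxB]) ht'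
    have h4 := cmp_right_cancel hxA (hyA.trans (by rw [hs'])) h3
    have hp : x.left ≫ prP G ιP = y.left ≫ prP G ιP := by
      rwa [cancel_mono] at h4
    ext
    exact Rel_hom_ext G ιP hp hs' hp'
  · -- reflexivity
    let r := x.left
    have h1 : (((r ≫ G.t) ≫ eP) ≫ ιP) ≫ G.s = r ≫ G.t := by
      rw [P_id G ιP eP heP, e_s']
    have h2 : r ≫ G.s = (((r ≫ G.s) ≫ eP) ≫ ιP) ≫ G.t := by
      rw [P_id G ιP eP heP, e_t']
    refine ⟨Over.homMk (mkRel G ιP ((r ≫ G.t) ≫ eP) r ((r ≫ G.s) ≫ eP) h1 h2) ?_, ?_, ?_⟩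
    · show mkRel G ιP _ _ _ h1 h2 ≫ prR G ιP ≫ G.pR = T.hom
      rw [← Category.assoc, mkRel_prR]
      exact Over.w x
    · ext
      show mkRel G ιP _ _ _ h1 h2 ≫ tRel G ιP = r
      rw [mkRel_tRel, P_id G ιP eP heP, P_id G ιP eP heP, cmp_e_left rfl, cmp_e_right rfl]
    · ext
      show mkRel G ιP _ _ _ h1 h2 ≫ prR G ιP = r
      rw [mkRel_prR]
  · -- symmetry
    rintro a b ⟨w, hw1, hw2⟩
    have hw1' : w.left ≫ tRel G ιP = a.left := congrArg (fun k => k.left) hw1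
    have hw2' : w.left ≫ prR G ιP = b.left := congrArg (fun k => k.left) hw2
    set p := w.left ≫ prP G ιP with hp
    set p' := w.left ≫ prP' G ιP with hp'
    have hA : (p ≫ ιP) ≫ G.s = b.left ≫ G.t := by
      rw [← hw2']; exact comp_prP_prR G ιP w.left
    have hB : b.left ≫ G.s = (p' ≫ ιP) ≫ G.t := by
      rw [← hw2']; exact comp_prR_prP' G ιP w.left
    have ha : a.left = cmp G (cmp G (p ≫ ιP) b.left) (p' ≫ ιP) := by
      rw [← hw1', comp_tRel, hw2']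
    have hAB : cmp G (p ≫ ιP) b.left ≫ G.s = (p' ≫ ιP) ≫ G.t := (cmp_s hA).trans hB
    have h1 : ((p ≫ iP) ≫ ιP) ≫ G.s = a.left ≫ G.t := by
      rw [P_inv G ιP iP hiP, i_s', ha, cmp_t hAB, cmp_t hA]
    have h2 : a.left ≫ G.s = ((p' ≫ iP) ≫ ιP) ≫ G.t := by
      rw [P_inv G ιP iP hiP, i_t', ha, cmp_s hAB]
    refine ⟨Over.homMk (mkRel G ιP (p ≫ iP) a.left (p' ≫ iP) h1 h2) ?_, ?_, ?_⟩
    · show mkRel G ιP _ _ _ h1 h2 ≫ prR G ιP ≫ G.pR = T.hom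
      rw [← Category.assoc, mkRel_prR]
      exact Over.w a
    · ext
      show mkRel G ιP _ _ _ h1 h2 ≫ tRel G ιP = b.left
      rw [mkRel_tRel, P_inv G ιP iP hiP, P_inv G ιP iP hiP]
      have e1 : cmp G ((p ≫ ιP) ≫ G.i) a.left = cmp G b.left (p' ≫ ιP) := by
        rw [ha, cmp_assoc hA hB, cmp_inv_cmp G (hA.trans (cmp_t hB).symm)]
      rw [e1, cmp_cmp_inv G hB]
    · ext
      show mkRel G ιP _ _ _ h1 h2 ≫ prR G ιP = a.left
      rw [mkRel_prR]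
  · -- transitivity
    rintro a b c ⟨w, hw1, hw2⟩ ⟨v, hv1, hv2⟩
    have hw1' : w.left ≫ tRel G ιP = a.left := congrArg (fun k => k.left) hw1
    have hw2' : w.left ≫ prR G ιP = b.left := congrArg (fun k => k.left) hw2
    have hv1' : v.left ≫ tRel G ιP = b.left := congrArg (fun k => k.left) hv1
    have hv2' : v.left ≫ prR G ιP = c.left := congrArg (fun k => k.left) hv2
    set p := w.left ≫ prP G ιP with hp
    set p' := w.left ≫ prP' G ιP with hp'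
    set q := v.left ≫ prP G ιP with hq
    set q' := v.left ≫ prP' G ιP with hq'
    have hA : (p ≫ ιP) ≫ G.s = b.left ≫ G.t := by
      rw [← hw2']; exact comp_prP_prR G ιP w.left
    have hB : b.left ≫ G.s = (p' ≫ ιP) ≫ G.t := by
      rw [← hw2']; exact comp_prR_prP' G ιP w.left
    have hC : (q ≫ ιP) ≫ G.s = c.left ≫ G.t := by
      rw [← hv2']; exact comp_prP_prR G ιP v.left
    have hD : c.left ≫ G.s = (q' ≫ ιP) ≫ G.t := by
      rw [← hv2']; exact comp_prR_prP' G ιP v.left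
    have ha : a.left = cmp G (cmp G (p ≫ ιP) b.left) (p' ≫ ιP) := by
      rw [← hw1', comp_tRel, hw2']
    have hb : b.left = cmp G (cmp G (q ≫ ιP) c.left) (q' ≫ ιP) := by
      rw [← hv1', comp_tRel, hv2']
    have hCD : cmp G (q ≫ ιP) c.left ≫ G.s = (q' ≫ ιP) ≫ G.t := (cmp_s hC).trans hD
    have hbt : b.left ≫ G.t = (q ≫ ιP) ≫ G.t := by rw [hb, cmp_t hCD, cmp_t hC]
    have hbs : b.left ≫ G.s = (q' ≫ ιP) ≫ G.s := by rw [hb, cmp_s hCD]
    have hpq : (p ≫ ιP) ≫ G.s = (q ≫ ιP) ≫ G.t := hA.trans hbt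
    have hq'p' : (q' ≫ ιP) ≫ G.s = (p' ≫ ιP) ≫ G.t := hbs.symm.trans hB
    obtain ⟨x, hx⟩ := P_cmp G ιP cP hcP p q hpq
    obtain ⟨x', hx'⟩ := P_cmp G ιP cP hcP q' p' hq'p'
    have h1 : (x ≫ ιP) ≫ G.s = c.left ≫ G.t := by rw [hx, cmp_s hpq, hC]
    have h2 : c.left ≫ G.s = (x' ≫ ιP) ≫ G.t := by rw [hx', cmp_t hq'p', hD]
    refine ⟨Over.homMk (mkRel G ιP x c.left x' h1 h2) ?_, ?_, ?_⟩
    · show mkRel G ιP _ _ _ h1 h2 ≫ prR G ιP ≫ G.pR = T.hom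
      rw [← Category.assoc, mkRel_prR]
      exact Over.w c
    · ext
      show mkRel G ιP _ _ _ h1 h2 ≫ tRel G ιP = a.left
      rw [mkRel_tRel, hx, hx', ha, hb]
      -- ((p q) c) (q' p') = (p ((q c) q')) p'
      rw [cmp_assoc hpq hC,
        ← cmp_assoc ((cmp_s (hpq.trans (cmp_t hC).symm)).trans ((cmp_s hC).trans hD)) hq'p',
        cmp_assoc (hpq.trans (cmp_t hC).symm) hCD]
    · ext
      show mkRel G ιP _ _ _ h1 h2 ≫ prR G ιP = c.left
      rw [mkRel_prR]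

end eqv

end Groth.Agent.Lib.Helper3.SubQ
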