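import Mathlib
import Groth.Agent.Lib.Helper3.SubQ2
import Groth.Agent.Lib.Helper3.QFAff
import Groth.Agent.Lib.Helper3.GQQuotGlue
import Groth.Agent.Lib.Helper4.GrpdAffOpen

set_option autoImplicit false
universe u

namespace Groth.Agent.Lib.Helper3.SubQ

open CategoryTheory CategoryTheory.Limits AlgebraicGeometry Grpd
open Groth.Agent.Lib.Helper3.GrpdSub Groth.Agent.Lib.Helper3.GP Groth.Agent.Lib.Helper3.GQ
open Groth.Agent.Lib.Helper4

variable {S : Scheme.{u}} (G : GroupoidScheme S) {P : Scheme.{u}} (ιP : P ⟶ G.R)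

instance prR_isFinite [IsFinite (ιP ≫ G.s)] [IsFinite (ιP ≫ G.t)] : IsFinite (prR G ιP) := by
  unfold prR; infer_instance

instance prR_flat [Flat (ιP ≫ G.s)] [Flat (ιP ≫ G.t)] : Flat (prR G ιP) := by
  unfold prR; infer_instance

instance prR_lfp [LocallyOfFinitePresentation (ιP ≫ G.s)]
    [LocallyOfFinitePresentation (ιP ≫ G.t)] : LocallyOfFinitePresentation (prR G ιP) := by
  unfold prR; infer_instance

/-- finite subsets of `R` lie in affine opens -/
theorem exists_isAffineOpen_R [IsAffine G.U] [IsSeparated G.j] [LocallyQuasiFinite G.j]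
    [LocallyOfFiniteType G.j] (E : Set G.R) (hE : E.Finite) :
    ∃ V : G.R.Opens, IsAffineOpen V ∧ E ⊆ V := by
  let f : G.R ⟶ pullback (G.pU ≫ terminal.from S) (G.pU ≫ terminal.from S) :=
    G.j ≫ pullback.mapDesc G.pU G.pU (terminal.from S)
  haveI : IsSeparated f := inferInstance
  haveI : LocallyQuasiFinite f := inferInstance
  haveI : LocallyOfFiniteType f := inferInstance
  exact QFAff.exists_isAffineOpen_of_finite f E hE

section quot

variable (eP : G.U ⟶ P) (heP : eP ≫ ιP = G.e) (iP : P ⟶ P) (hiP : iP ≫ ιP = ιP ≫ G.i)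
  (cP : pullback (ιP ≫ G.s) (ιP ≫ G.t) ⟶ P)
  (hcP : cP ≫ ιP = pullback.map (ιP ≫ G.s) (ιP ≫ G.t) G.s G.t ιP ιP (𝟙 G.U)
    (Category.comp_id _) (Category.comp_id _) ≫ G.c)

include heP hiP hcP in
/-- the quotient of `R` by the two-sided action of `P` -/
theorem exists_Rbar [IsAffine G.U] [IsSeparated G.j] [LocallyQuasiFinite G.j]
    [LocallyOfFiniteType G.j] [Mono ιP] [Mono (ιP ≫ G.j)]
    [IsFinite (ιP ≫ G.s)] [Flat (ιP ≫ G.s)] [LocallyOfFinitePresentation (ιP ≫ G.s)]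
    [IsFinite (ιP ≫ G.t)] [Flat (ιP ≫ G.t)] [LocallyOfFinitePresentation (ιP ≫ G.t)] :
    ∃ (M : Over S) (ρ : RO G ⟶ M), IsFinite ρ.left ∧ Flat ρ.left ∧
      LocallyOfFinitePresentation ρ.left ∧ Surjective ρ.left ∧
      IsPullback (tRelO G ιP) (sRelO G ιP) ρ ρ := by
  have hE := isEqvRel_Rel G ιP eP heP iP hiP cP hcP
  haveI : IsFinite (sRelO G ιP).left := prR_isFinite G ιP
  haveI : Flat (sRelO G ιP).left := prR_flat G ιP
  haveI : LocallyOfFinitePresentation (sRelO G ιP).left := prR_lfp G ιP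
  refine exists_quotient_of_cover (sRelO G ιP) (tRelO G ιP) hE (fun r => ?_)
  let 𝒢 := ofEqvRel (sRelO G ιP) (tRelO G ιP) hE
  haveI : IsFinite 𝒢.s := prR_isFinite G ιP
  haveI : Flat 𝒢.s := prR_flat G ιP
  haveI : LocallyOfFinitePresentation 𝒢.s := prR_lfp G ιP
  let E : Set G.R := tRel G ιP '' (prR G ιP ⁻¹' {r})
  have hEfin : E.Finite := (Scheme.Hom.finite_preimage_singleton (prR G ιP) r).image _
  obtain ⟨V, hV, hEV⟩ := exists_isAffineOpen_R G E hEfin
  exact GrpdAffOpen.main S 𝒢 r V hV (fun x hx => hEV ⟨x, hx, rfl⟩)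

end quot

end Groth.Agent.Lib.Helper3.SubQ
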