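import Mathlib
import Groth.Agent.Lib.Helper3.SubQ2

set_option autoImplicit false
universe u

namespace Groth.Agent.Lib.Helper3.SubQ

open CategoryTheory CategoryTheory.Limits AlgebraicGeometry Grpd
open Groth.Agent.Lib.Helper3.GrpdSub Groth.Agent.Lib.Helper3.GP

variable {S : Scheme.{u}} (G : GroupoidScheme S) {P : Scheme.{u}} (ιP : P ⟶ G.R)

theorem inv_cmp {T : Scheme.{u}} {α β : T ⟶ G.R} (h : α ≫ G.s = β ≫ G.t) :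
    cmp G α β ≫ G.i = cmp G (β ≫ G.i) (α ≫ G.i) := by
  -- both are left inverses... use cancellation
  have h1 : (β ≫ G.i) ≫ G.s = (α ≫ G.i) ≫ G.t := by rw [i_s', i_t', h]
  have h2 : cmp G (β ≫ G.i) (α ≫ G.i) ≫ G.s = cmp G α β ≫ G.t := by
    rw [cmp_s h1, i_s', cmp_t h]
  apply cmp_right_cancel (γ := cmp G α β) (by rw [i_s']) h2
  rw [cmp_i_left, cmp_assoc h1 (by rw [i_s', cmp_t h]), ← cmp_assoc (i_s' α) h, cmp_i_left,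
    cmp_e_left h.symm, cmp_i_left, cmp_s h]

variable {Ub Rb : Scheme.{u}} (φ : G.U ⟶ Ub) (ρ : G.R ⟶ Rb)
  (kU : IsPullback (ιP ≫ G.t) (ιP ≫ G.s) φ φ)
  (kR : IsPullback (tRel G ιP) (prR G ιP) ρ ρ)
  {T : Scheme.{u}}

include kR in
theorem rho_rel (x : T ⟶ Rel G ιP) : (x ≫ tRel G ιP) ≫ ρ = (x ≫ prR G ιP) ≫ ρ := by
  rw [Category.assoc, Category.assoc, kR.w]

include kR in
theorem rho_cmp_both (p : T ⟶ P) (r : T ⟶ G.R) (p' : T ⟶ P)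
    (h1 : (p ≫ ιP) ≫ G.s = r ≫ G.t) (h2 : r ≫ G.s = (p' ≫ ιP) ≫ G.t) :
    cmp G (cmp G (p ≫ ιP) r) (p' ≫ ιP) ≫ ρ = r ≫ ρ := by
  have := rho_rel G ιP ρ kR (mkRel G ιP p r p' h1 h2)
  rwa [mkRel_tRel, mkRel_prR] at this

include kR in
theorem exists_of_rho_eq (a a' : T ⟶ G.R) (h : a ≫ ρ = a' ≫ ρ) :
    ∃ p p' : T ⟶ P, (p ≫ ιP) ≫ G.s = a' ≫ G.t ∧ a' ≫ G.s = (p' ≫ ιP) ≫ G.t ∧
      a = cmp G (cmp G (p ≫ ιP) a') (p' ≫ ιP) := by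
  let x := kR.lift a a' h
  have hx1 : x ≫ tRel G ιP = a := kR.lift_fst _ _ _
  have hx2 : x ≫ prR G ιP = a' := kR.lift_snd _ _ _
  refine ⟨x ≫ prP G ιP, x ≫ prP' G ιP, ?_, ?_, ?_⟩
  · rw [← hx2]; exact comp_prP_prR G ιP x
  · rw [← hx2]; exact comp_prR_prP' G ιP x
  · rw [← hx1, comp_tRel, hx2]

include kU in
theorem exists_of_phi_eq (x y : T ⟶ G.U) (h : x ≫ φ = y ≫ φ) :
    ∃ p : T ⟶ P, (p ≫ ιP) ≫ G.t = x ∧ (p ≫ ιP) ≫ G.s = y := by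
  refine ⟨kU.lift x y h, ?_, ?_⟩
  · rw [Category.assoc]; exact kU.lift_fst _ _ _
  · rw [Category.assoc]; exact kU.lift_snd _ _ _

include kU in
theorem phi_P (p : T ⟶ P) : ((p ≫ ιP) ≫ G.t) ≫ φ = ((p ≫ ιP) ≫ G.s) ≫ φ := by
  have := kU.w
  simp only [Category.assoc] at this ⊢
  rw [this]

section desc

variable (iP : P ⟶ P) (hiP : iP ≫ ιP = ιP ≫ G.i)

include kU kR in
theorem sbar_cond {Z : Scheme.{u}} (g₁ g₂ : Z ⟶ G.R) (h : g₁ ≫ ρ = g₂ ≫ ρ) :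
    g₁ ≫ G.s ≫ φ = g₂ ≫ G.s ≫ φ := by
  obtain ⟨p, p', hA, hB, rfl⟩ := exists_of_rho_eq G ιP ρ kR g₁ g₂ h
  rw [← Category.assoc, cmp_s ((cmp_s hA).trans hB), ← Category.assoc, hB]
  exact (phi_P G ιP φ kU p').symm

include kU kR in
theorem tbar_cond {Z : Scheme.{u}} (g₁ g₂ : Z ⟶ G.R) (h : g₁ ≫ ρ = g₂ ≫ ρ) :
    g₁ ≫ G.t ≫ φ = g₂ ≫ G.t ≫ φ := by
  obtain ⟨p, p', hA, hB, rfl⟩ := exists_of_rho_eq G ιP ρ kR g₁ g₂ h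
  rw [← Category.assoc, cmp_t ((cmp_s hA).trans hB), cmp_t hA, ← Category.assoc, ← hA]
  exact phi_P G ιP φ kU p

variable [EffectiveEpi φ] [EffectiveEpi ρ]

/-- the source map of the quotient groupoid -/
noncomputable def sbar : Rb ⟶ Ub :=
  EffectiveEpi.desc ρ (G.s ≫ φ) (fun g₁ g₂ h => sbar_cond G ιP φ ρ kU kR g₁ g₂ h)

/-- the target map of the quotient groupoid -/
noncomputable def tbar : Rb ⟶ Ub :=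
  EffectiveEpi.desc ρ (G.t ≫ φ) (fun g₁ g₂ h => tbar_cond G ιP φ ρ kU kR g₁ g₂ h)

@[reassoc]
theorem rho_sbar : ρ ≫ sbar G ιP φ ρ kU kR = G.s ≫ φ := EffectiveEpi.fac _ _ _

@[reassoc]
theorem rho_tbar : ρ ≫ tbar G ιP φ ρ kU kR = G.t ≫ φ := EffectiveEpi.fac _ _ _

omit [EffectiveEpi φ] [EffectiveEpi ρ] in
include kR hiP in
theorem ibar_cond {Z : Scheme.{u}} (g₁ g₂ : Z ⟶ G.R) (h : g₁ ≫ ρ = g₂ ≫ ρ) :
    g₁ ≫ G.i ≫ ρ = g₂ ≫ G.i ≫ ρ := by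
  obtain ⟨p, p', hA, hB, rfl⟩ := exists_of_rho_eq G ιP ρ kR g₁ g₂ h
  have hAB := (cmp_s hA).trans hB
  rw [← Category.assoc, inv_cmp G hAB, inv_cmp G hA, ← P_inv G ιP iP hiP, ← P_inv G ιP iP hiP]
  have h1 : ((p' ≫ iP) ≫ ιP) ≫ G.s = (g₂ ≫ G.i) ≫ G.t := by
    rw [P_inv G ιP iP hiP, i_s', i_t', hB]
  have h2 : (g₂ ≫ G.i) ≫ G.s = ((p ≫ iP) ≫ ιP) ≫ G.t := by
    rw [P_inv G ιP iP hiP, i_s', i_t', hA]
  rw [← cmp_assoc h1 h2, rho_cmp_both G ιP ρ kR _ _ _ h1 h2, Category.assoc]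

/-- the inverse map of the quotient groupoid -/
noncomputable def ibar : Rb ⟶ Rb :=
  EffectiveEpi.desc ρ (G.i ≫ ρ) (fun g₁ g₂ h => ibar_cond G ιP ρ kR iP hiP g₁ g₂ h)

@[reassoc]
theorem rho_ibar : ρ ≫ ibar G ιP ρ kR iP hiP = G.i ≫ ρ := EffectiveEpi.fac _ _ _

omit [EffectiveEpi φ] [EffectiveEpi ρ] in
include kU kR hiP in
theorem ebar_cond {Z : Scheme.{u}} (g₁ g₂ : Z ⟶ G.U) (h : g₁ ≫ φ = g₂ ≫ φ) :
    g₁ ≫ G.e ≫ ρ = g₂ ≫ G.e ≫ ρ := by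
  obtain ⟨p, hp1, hp2⟩ := exists_of_phi_eq G ιP φ kU g₁ g₂ h
  -- e(t p) = p ∘ e(s p) ∘ p⁻¹
  have h1 : (p ≫ ιP) ≫ G.s = (g₂ ≫ G.e) ≫ G.t := by rw [e_t', hp2]
  have h2 : (g₂ ≫ G.e) ≫ G.s = ((p ≫ iP) ≫ ιP) ≫ G.t := by
    rw [e_s', P_inv G ιP iP hiP, i_t', hp2]
  have := rho_cmp_both G ιP ρ kR p (g₂ ≫ G.e) (p ≫ iP) h1 h2
  rw [cmp_e_right hp2, P_inv G ιP iP hiP, cmp_i_right, hp1] at this
  rw [← Category.assoc, this, Category.assoc]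

/-- the identity map of the quotient groupoid -/
noncomputable def ebar : Ub ⟶ Rb :=
  EffectiveEpi.desc φ (G.e ≫ ρ) (fun g₁ g₂ h => ebar_cond G ιP φ ρ kU kR iP hiP g₁ g₂ h)

@[reassoc]
theorem phi_ebar : φ ≫ ebar G ιP φ ρ kU kR iP hiP = G.e ≫ ρ := EffectiveEpi.fac _ _ _

end desc

end Groth.Agent.Lib.Helper3.SubQ
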