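import Mathlib
import Groth.Agent.Lib.Helper3.SubQ4

set_option autoImplicit false
universe u

namespace Groth.Agent.Lib.Helper3.SubQ

open CategoryTheory CategoryTheory.Limits AlgebraicGeometry Grpd
open Groth.Agent.Lib.Helper3.GrpdSub Groth.Agent.Lib.Helper3.GP

variable {S : Scheme.{u}} (G : GroupoidScheme S) {P : Scheme.{u}} (ιP : P ⟶ G.R)
  {Ub Rb : Scheme.{u}} (φ : G.U ⟶ Ub) (ρ : G.R ⟶ Rb)
  (kU : IsPullback (ιP ≫ G.t) (ιP ≫ G.s) φ φ)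
  (kR : IsPullback (tRel G ιP) (prR G ιP) ρ ρ)
  (eP : G.U ⟶ P) (heP : eP ≫ ιP = G.e)
  (cP : pullback (ιP ≫ G.s) (ιP ≫ G.t) ⟶ P)
  (hcP : cP ≫ ιP = pullback.map (ιP ≫ G.s) (ιP ≫ G.t) G.s G.t ιP ιP (𝟙 G.U)
    (Category.comp_id _) (Category.comp_id _) ≫ G.c)
  {T : Scheme.{u}}

include kR heP in
theorem rho_cmp_left (p : T ⟶ P) (r : T ⟶ G.R) (h1 : (p ≫ ιP) ≫ G.s = r ≫ G.t) :
    cmp G (p ≫ ιP) r ≫ ρ = r ≫ ρ := by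
  have h2 : r ≫ G.s = (((r ≫ G.s) ≫ eP) ≫ ιP) ≫ G.t := by rw [P_id G ιP eP heP, e_t']
  have := rho_cmp_both G ιP ρ kR p r ((r ≫ G.s) ≫ eP) h1 h2
  rwa [P_id G ιP eP heP, cmp_e_right (cmp_s h1)] at this

include kR heP in
theorem rho_cmp_right (r : T ⟶ G.R) (p' : T ⟶ P) (h2 : r ≫ G.s = (p' ≫ ιP) ≫ G.t) :
    cmp G r (p' ≫ ιP) ≫ ρ = r ≫ ρ := by
  have h1 : (((r ≫ G.t) ≫ eP) ≫ ιP) ≫ G.s = r ≫ G.t := by rw [P_id G ιP eP heP, e_s']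
  have := rho_cmp_both G ιP ρ kR ((r ≫ G.t) ≫ eP) r p' h1 h2
  rwa [P_id G ιP eP heP, cmp_e_left rfl] at this

/-- the unique arrow of `P` joining the source of `a` to the target of `b` -/
noncomputable def mid (a b : T ⟶ G.R) (h : (a ≫ G.s) ≫ φ = (b ≫ G.t) ≫ φ) : T ⟶ P :=
  kU.lift (a ≫ G.s) (b ≫ G.t) h

theorem mid_t (a b : T ⟶ G.R) (h : (a ≫ G.s) ≫ φ = (b ≫ G.t) ≫ φ) :
    (mid G ιP φ kU a b h ≫ ιP) ≫ G.t = a ≫ G.s := by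
  rw [Category.assoc]; exact kU.lift_fst _ _ _

theorem mid_s (a b : T ⟶ G.R) (h : (a ≫ G.s) ≫ φ = (b ≫ G.t) ≫ φ) :
    (mid G ιP φ kU a b h ≫ ιP) ≫ G.s = b ≫ G.t := by
  rw [Category.assoc]; exact kU.lift_snd _ _ _

/-- composition through the unique arrow of `P` -/
noncomputable def cc (a b : T ⟶ G.R) (h : (a ≫ G.s) ≫ φ = (b ≫ G.t) ≫ φ) : T ⟶ Rb :=
  cmp G (cmp G a (mid G ιP φ kU a b h ≫ ιP)) b ≫ ρ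

theorem precomp_cc {T' : Scheme.{u}} (x : T' ⟶ T) (a b : T ⟶ G.R)
    (h : (a ≫ G.s) ≫ φ = (b ≫ G.t) ≫ φ) :
    x ≫ cc G ιP φ ρ kU a b h = cc G ιP φ ρ kU (x ≫ a) (x ≫ b) (by
      simp only [Category.assoc] at h ⊢; rw [h]) := by
  unfold cc
  have hm : x ≫ mid G ιP φ kU a b h = mid G ιP φ kU (x ≫ a) (x ≫ b) (by
      simp only [Category.assoc] at h ⊢; rw [h]) := by
    apply kU.hom_ext
    · rw [Category.assoc]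
      unfold mid
      rw [kU.lift_fst, kU.lift_fst, Category.assoc]
    · rw [Category.assoc]
      unfold mid
      rw [kU.lift_snd, kU.lift_snd, Category.assoc]
  have h1 : a ≫ G.s = (mid G ιP φ kU a b h ≫ ιP) ≫ G.t := (mid_t G ιP φ kU a b h).symm
  have h2 : cmp G a (mid G ιP φ kU a b h ≫ ιP) ≫ G.s = b ≫ G.t :=
    (cmp_s h1).trans (mid_s G ιP φ kU a b h)
  rw [← Category.assoc, precomp_cmp x h2, precomp_cmp x h1, ← Category.assoc x, hm]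

section congr

variable [Mono (ιP ≫ G.j)]

include kR heP hcP in
theorem cc_congr_left (a₁ a₂ b : T ⟶ G.R) (ha : a₁ ≫ ρ = a₂ ≫ ρ)
    (h₁ : (a₁ ≫ G.s) ≫ φ = (b ≫ G.t) ≫ φ) (h₂ : (a₂ ≫ G.s) ≫ φ = (b ≫ G.t) ≫ φ) :
    cc G ιP φ ρ kU a₁ b h₁ = cc G ιP φ ρ kU a₂ b h₂ := by
  obtain ⟨p, p', hA, hB, rfl⟩ := exists_of_rho_eq G ιP ρ kR a₁ a₂ ha
  have hAB := (cmp_s hA).trans hB
  set a₁ := cmp G (cmp G (p ≫ ιP) a₂) (p' ≫ ιP) with ha₁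
  set π₁ := mid G ιP φ kU a₁ b h₁ with hπ₁
  set π₂ := mid G ιP φ kU a₂ b h₂ with hπ₂
  have t1 : (π₁ ≫ ιP) ≫ G.t = (p' ≫ ιP) ≫ G.s := by
    rw [mid_t, ha₁, cmp_s hAB]
  have s1 : (π₁ ≫ ιP) ≫ G.s = b ≫ G.t := mid_s _ _ _ _ _ _ _
  have t2 : (π₂ ≫ ιP) ≫ G.t = a₂ ≫ G.s := mid_t _ _ _ _ _ _ _
  have s2 : (π₂ ≫ ιP) ≫ G.s = b ≫ G.t := mid_s _ _ _ _ _ _ _
  obtain ⟨w, hw⟩ := P_cmp G ιP cP hcP p' π₁ t1.symm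
  have hwπ : w = π₂ := by
    apply P_thin G ιP
    · rw [hw, cmp_s t1.symm, s1, s2]
    · rw [hw, cmp_t t1.symm, ← hB, t2]
  unfold cc
  rw [← hπ₁, ← hπ₂]
  have e1 : cmp G (cmp G a₁ (π₁ ≫ ιP)) b =
      cmp G (p ≫ ιP) (cmp G (cmp G a₂ (π₂ ≫ ιP)) b) := by
    rw [ha₁, cmp_assoc hAB t1.symm, ← hw, hwπ, cmp_assoc hA t2.symm,
      cmp_assoc (hA.trans (cmp_t t2.symm).symm) ((cmp_s t2.symm).trans s2)]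
  rw [e1]
  exact rho_cmp_left G ιP ρ kR eP heP p _ (by
    rw [cmp_t ((cmp_s t2.symm).trans s2), cmp_t t2.symm, hA])

include kR heP hcP in
theorem cc_congr_right (a b₁ b₂ : T ⟶ G.R) (hb : b₁ ≫ ρ = b₂ ≫ ρ)
    (h₁ : (a ≫ G.s) ≫ φ = (b₁ ≫ G.t) ≫ φ) (h₂ : (a ≫ G.s) ≫ φ = (b₂ ≫ G.t) ≫ φ) :
    cc G ιP φ ρ kU a b₁ h₁ = cc G ιP φ ρ kU a b₂ h₂ := by
  obtain ⟨q, q', hC, hD, rfl⟩ := exists_of_rho_eq G ιP ρ kR b₁ b₂ hb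
  have hCD := (cmp_s hC).trans hD
  set b₁ := cmp G (cmp G (q ≫ ιP) b₂) (q' ≫ ιP) with hb₁
  set π₁ := mid G ιP φ kU a b₁ h₁ with hπ₁
  set π₂ := mid G ιP φ kU a b₂ h₂ with hπ₂
  have t1 : (π₁ ≫ ιP) ≫ G.t = a ≫ G.s := mid_t _ _ _ _ _ _ _
  have s1 : (π₁ ≫ ιP) ≫ G.s = (q ≫ ιP) ≫ G.t := by
    rw [mid_s, hb₁, cmp_t hCD, cmp_t hC]
  have t2 : (π₂ ≫ ιP) ≫ G.t = a ≫ G.s := mid_t _ _ _ _ _ _ _
  have s2 : (π₂ ≫ ιP) ≫ G.s = b₂ ≫ G.t := mid_s _ _ _ _ _ _ _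
  obtain ⟨w, hw⟩ := P_cmp G ιP cP hcP π₁ q s1
  have hwπ : w = π₂ := by
    apply P_thin G ιP
    · rw [hw, cmp_s s1, hC, s2]
    · rw [hw, cmp_t s1, t1, t2]
  unfold cc
  rw [← hπ₁, ← hπ₂]
  have hX : cmp G a (π₁ ≫ ιP) ≫ G.s = (q ≫ ιP) ≫ G.t := (cmp_s t1.symm).trans s1
  have e1 : cmp G (cmp G a (π₁ ≫ ιP)) b₁ =
      cmp G (cmp G (cmp G a (π₂ ≫ ιP)) b₂) (q' ≫ ιP) := by
    rw [hb₁, ← cmp_assoc (hX.trans (cmp_t hC).symm) hCD, ← cmp_assoc hX hC,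
      cmp_assoc t1.symm s1, ← hw, hwπ]
  rw [e1]
  exact rho_cmp_right G ιP ρ kR eP heP _ q' (by
    rw [cmp_s ((cmp_s t2.symm).trans s2), hD])

end congr

end Groth.Agent.Lib.Helper3.SubQ
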