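import Mathlib
import Groth.Agent.Lib.Helper3.SubQ5

set_option autoImplicit false
universe u

namespace Groth.Agent.Lib.Helper3.SubQ

open CategoryTheory CategoryTheory.Limits AlgebraicGeometry Grpd
open Groth.Agent.Lib.Helper3.GrpdSub Groth.Agent.Lib.Helper3.GP

variable {S : Scheme.{u}} (G : GroupoidScheme S) {P : Scheme.{u}} (ιP : P ⟶ G.R)
  {Ub Rb : Scheme.{u}} (φ : G.U ⟶ Ub) (ρ : G.R ⟶ Rb)
  (kU : IsPullback (ιP ≫ G.t) (ιP ≫ G.s) φ φ)
  (kR : IsPullback (tRel G ιP) (prR G ιP) ρ ρ)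
  (eP : G.U ⟶ P) (heP : eP ≫ ιP = G.e)
  (cP : pullback (ιP ≫ G.s) (ιP ≫ G.t) ⟶ P)
  (hcP : cP ≫ ιP = pullback.map (ιP ≫ G.s) (ιP ≫ G.t) G.s G.t ιP ιP (𝟙 G.U)
    (Category.comp_id _) (Category.comp_id _) ≫ G.c)
  [Mono (ιP ≫ G.j)]
  [Surjective φ] [Flat φ] [LocallyOfFinitePresentation φ]
  [Surjective ρ] [Flat ρ] [LocallyOfFinitePresentation ρ]

/-- pairs of arrows composable up to `P` -/
noncomputable abbrev DD : Scheme.{u} := pullback (G.s ≫ φ) (G.t ≫ φ)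

/-- the cover of the composable pairs of the quotient -/
noncomputable def kap : DD G φ ⟶ pullback (sbar G ιP φ ρ kU kR) (tbar G ιP φ ρ kU kR) :=
  pullback.map (G.s ≫ φ) (G.t ≫ φ) (sbar G ιP φ ρ kU kR) (tbar G ιP φ ρ kU kR) ρ ρ (𝟙 Ub)
    ((Category.comp_id _).trans (rho_sbar G ιP φ ρ kU kR).symm)
    ((Category.comp_id _).trans (rho_tbar G ιP φ ρ kU kR).symm)

instance kap_surjective : Surjective (kap G ιP φ ρ kU kR) :=
  MorphismProperty.pullbackMap (P := @Surjective) ‹Surjective ρ› ‹Surjective ρ›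
    (rho_sbar G ιP φ ρ kU kR).symm (rho_tbar G ιP φ ρ kU kR).symm

instance kap_flat : Flat (kap G ιP φ ρ kU kR) :=
  MorphismProperty.pullbackMap (P := @Flat) ‹Flat ρ› ‹Flat ρ›
    (rho_sbar G ιP φ ρ kU kR).symm (rho_tbar G ιP φ ρ kU kR).symm

instance kap_lfp : LocallyOfFinitePresentation (kap G ιP φ ρ kU kR) :=
  MorphismProperty.pullbackMap (P := @LocallyOfFinitePresentation)
    ‹LocallyOfFinitePresentation ρ› ‹LocallyOfFinitePresentation ρ›
    (rho_sbar G ιP φ ρ kU kR).symm (rho_tbar G ιP φ ρ kU kR).symm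

/-- composition on the cover -/
noncomputable def ff : DD G φ ⟶ Rb :=
  cc G ιP φ ρ kU (pullback.fst _ _) (pullback.snd _ _) (by
    simp only [Category.assoc]; exact pullback.condition)

include heP hcP in
theorem ff_cond {Z : Scheme.{u}} (g₁ g₂ : Z ⟶ DD G φ)
    (h : g₁ ≫ kap G ιP φ ρ kU kR = g₂ ≫ kap G ιP φ ρ kU kR) :
    g₁ ≫ ff G ιP φ ρ kU = g₂ ≫ ff G ιP φ ρ kU := by
  have h1 : (g₁ ≫ pullback.fst _ _) ≫ ρ = (g₂ ≫ pullback.fst _ _) ≫ ρ := by
    have := congrArg (· ≫ pullback.fst _ _) h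
    unfold kap at this
    simp only [Category.assoc, pullback.lift_fst] at this
    simpa using this
  have h2 : (g₁ ≫ pullback.snd _ _) ≫ ρ = (g₂ ≫ pullback.snd _ _) ≫ ρ := by
    have := congrArg (· ≫ pullback.snd _ _) h
    unfold kap at this
    simp only [Category.assoc, pullback.lift_snd] at this
    simpa using this
  unfold ff
  rw [precomp_cc, precomp_cc]
  have hc1 : ((g₁ ≫ pullback.fst (G.s ≫ φ) (G.t ≫ φ)) ≫ G.s) ≫ φ =
      ((g₁ ≫ pullback.snd (G.s ≫ φ) (G.t ≫ φ)) ≫ G.t) ≫ φ := by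
    simp only [Category.assoc]; rw [pullback.condition]
  have hc2 : ((g₂ ≫ pullback.fst (G.s ≫ φ) (G.t ≫ φ)) ≫ G.s) ≫ φ =
      ((g₂ ≫ pullback.snd (G.s ≫ φ) (G.t ≫ φ)) ≫ G.t) ≫ φ := by
    simp only [Category.assoc]; rw [pullback.condition]
  have hc3 : ((g₂ ≫ pullback.fst (G.s ≫ φ) (G.t ≫ φ)) ≫ G.s) ≫ φ =
      ((g₁ ≫ pullback.snd (G.s ≫ φ) (G.t ≫ φ)) ≫ G.t) ≫ φ := by
    rw [← hc1]
    have := congrArg (· ≫ sbar G ιP φ ρ kU kR) h1
    simp only [Category.assoc, rho_sbar] at this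
    simp only [Category.assoc]
    exact this.symm
  rw [cc_congr_left G ιP φ ρ kU kR eP heP cP hcP _ _ _ h1 hc1 hc3,
    cc_congr_right G ιP φ ρ kU kR eP heP cP hcP _ _ _ h2 hc3 hc2]

/-- the composition of the quotient groupoid -/
noncomputable def cbar :
    pullback (sbar G ιP φ ρ kU kR) (tbar G ιP φ ρ kU kR) ⟶ Rb :=
  EffectiveEpi.desc (kap G ιP φ ρ kU kR) (ff G ιP φ ρ kU)
    (fun g₁ g₂ h => ff_cond G ιP φ ρ kU kR eP heP cP hcP g₁ g₂ h)

theorem kap_cbar : kap G ιP φ ρ kU kR ≫ cbar G ιP φ ρ kU kR eP heP cP hcP = ff G ιP φ ρ kU :=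
  EffectiveEpi.fac _ _ _

include heP in
/-- the defining property of the composition of the quotient groupoid -/
theorem lift_cbar {T : Scheme.{u}} (a b : T ⟶ G.R) (h : a ≫ G.s = b ≫ G.t) :
    pullback.lift (a ≫ ρ) (b ≫ ρ) (by
      rw [Category.assoc, Category.assoc, rho_sbar, rho_tbar, ← Category.assoc, ← Category.assoc, h])
      ≫ cbar G ιP φ ρ kU kR eP heP cP hcP = cmp G a b ≫ ρ := by
  have hD : a ≫ (G.s ≫ φ) = b ≫ (G.t ≫ φ) := by
    rw [← Category.assoc, ← Category.assoc, h]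
  have e1 : pullback.lift (a ≫ ρ) (b ≫ ρ) (by
      rw [Category.assoc, Category.assoc, rho_sbar, rho_tbar, ← Category.assoc, ← Category.assoc, h])
      = pullback.lift a b hD ≫ kap G ιP φ ρ kU kR := by
    apply pullback.hom_ext
    · rw [pullback.lift_fst, Category.assoc]
      unfold kap
      rw [pullback.lift_fst, pullback.lift_fst_assoc]
    · rw [pullback.lift_snd, Category.assoc]
      unfold kap
      rw [pullback.lift_snd, pullback.lift_snd_assoc]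
  rw [e1, Category.assoc, kap_cbar]
  unfold ff
  rw [precomp_cc]
  unfold cc
  have hc : ((pullback.lift a b hD ≫ pullback.fst (G.s ≫ φ) (G.t ≫ φ)) ≫ G.s) ≫ φ =
      ((pullback.lift a b hD ≫ pullback.snd (G.s ≫ φ) (G.t ≫ φ)) ≫ G.t) ≫ φ := by
    rw [pullback.lift_fst, pullback.lift_snd, h]
  set π := mid G ιP φ kU (pullback.lift a b hD ≫ pullback.fst (G.s ≫ φ) (G.t ≫ φ))
    (pullback.lift a b hD ≫ pullback.snd (G.s ≫ φ) (G.t ≫ φ)) hc with hπ
  have t1 : (π ≫ ιP) ≫ G.t = a ≫ G.s := by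
    rw [mid_t, pullback.lift_fst]
  have s1 : (π ≫ ιP) ≫ G.s = a ≫ G.s := by
    rw [mid_s, pullback.lift_snd, h]
  have hπe : π ≫ ιP = (a ≫ G.s) ≫ G.e := by
    rw [P_eq_e G ιP eP heP π (s1.trans t1.symm), s1]
  rw [pullback.lift_fst, pullback.lift_snd, hπe, cmp_e_right rfl]

end Groth.Agent.Lib.Helper3.SubQ
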