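import Mathlib
import Groth.Agent.Lib.Helper3.SubQ6

set_option autoImplicit false
universe u

namespace Groth.Agent.Lib.Helper3.SubQ

open CategoryTheory CategoryTheory.Limits AlgebraicGeometry Grpd
open Groth.Agent.Lib.Helper3.GrpdSub Groth.Agent.Lib.Helper3.GP

variable {S : Scheme.{u}} (G : GroupoidScheme S) {P : Scheme.{u}} (ιP : P ⟶ G.R)
  {Ub Rb : Scheme.{u}} (φ : G.U ⟶ Ub) (ρ : G.R ⟶ Rb)
  (kU : IsPullback (ιP ≫ G.t) (ιP ≫ G.s) φ φ)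
  (kR : IsPullback (tRel G ιP) (prR G ιP) ρ ρ)
  (eP : G.U ⟶ P) (heP : eP ≫ ιP = G.e) (iP : P ⟶ P) (hiP : iP ≫ ιP = ιP ≫ G.i)
  (cP : pullback (ιP ≫ G.s) (ιP ≫ G.t) ⟶ P)
  (hcP : cP ≫ ιP = pullback.map (ιP ≫ G.s) (ιP ≫ G.t) G.s G.t ιP ιP (𝟙 G.U)
    (Category.comp_id _) (Category.comp_id _) ≫ G.c)
  [Mono (ιP ≫ G.j)]
  [Surjective φ] [Flat φ] [LocallyOfFinitePresentation φ]
  [Surjective ρ] [Flat ρ] [LocallyOfFinitePresentation ρ]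
  {T : Scheme.{u}}

omit [LocallyOfFinitePresentation ρ] in
theorem exists_lift1 (α : T ⟶ Rb) :
    ∃ (T' : Scheme.{u}) (c : T' ⟶ T) (a : T' ⟶ G.R), Epi c ∧ a ≫ ρ = c ≫ α := by
  refine ⟨pullback α ρ, pullback.fst α ρ, pullback.snd α ρ, ?_, pullback.condition.symm⟩
  exact Flat.epi_of_flat_of_surjective _

include kU kR heP in
omit [Surjective φ] [Flat φ] [LocallyOfFinitePresentation φ]
  [Surjective ρ] [Flat ρ] [LocallyOfFinitePresentation ρ] [Mono (ιP ≫ G.j)] in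
theorem exists_adjust (a b₀ : T ⟶ G.R) (h : (a ≫ G.s) ≫ φ = (b₀ ≫ G.t) ≫ φ) :
    ∃ b : T ⟶ G.R, a ≫ G.s = b ≫ G.t ∧ b ≫ ρ = b₀ ≫ ρ := by
  have hs := mid_s G ιP φ kU a b₀ h
  have ht := mid_t G ιP φ kU a b₀ h
  refine ⟨cmp G (mid G ιP φ kU a b₀ h ≫ ιP) b₀, ?_, ?_⟩
  · rw [cmp_t hs, ht]
  · exact rho_cmp_left G ιP ρ kR eP heP _ _ hs

include heP in
theorem exists_lift2 (α β : T ⟶ Rb)
    (h : α ≫ sbar G ιP φ ρ kU kR = β ≫ tbar G ιP φ ρ kU kR) :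
    ∃ (T' : Scheme.{u}) (c : T' ⟶ T) (a b : T' ⟶ G.R), Epi c ∧ a ≫ ρ = c ≫ α ∧
      b ≫ ρ = c ≫ β ∧ a ≫ G.s = b ≫ G.t := by
  obtain ⟨T₁, c₁, a₁, hc₁, ha₁⟩ := exists_lift1 G ρ α
  obtain ⟨T₂, c₂, b₀, hc₂, hb₀⟩ := exists_lift1 G ρ (c₁ ≫ β)
  have hab : ((c₂ ≫ a₁) ≫ G.s) ≫ φ = (b₀ ≫ G.t) ≫ φ := by
    have e1 : ((c₂ ≫ a₁) ≫ G.s) ≫ φ = (c₂ ≫ a₁ ≫ ρ) ≫ sbar G ιP φ ρ kU kR := by
      simp only [Category.assoc, rho_sbar]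
    have e2 : (b₀ ≫ G.t) ≫ φ = (b₀ ≫ ρ) ≫ tbar G ιP φ ρ kU kR := by
      simp only [Category.assoc, rho_tbar]
    rw [e1, e2, ha₁, hb₀]
    simp only [Category.assoc, h]
  obtain ⟨b, hb1, hb2⟩ := exists_adjust G ιP φ ρ kU kR eP heP (c₂ ≫ a₁) b₀ hab
  refine ⟨T₂, c₂ ≫ c₁, c₂ ≫ a₁, b, epi_comp _ _, ?_, ?_, hb1⟩
  · rw [Category.assoc, ha₁, Category.assoc]
  · rw [hb2, hb₀, Category.assoc]

include heP in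
theorem exists_lift3 (α β γ : T ⟶ Rb)
    (h₁ : α ≫ sbar G ιP φ ρ kU kR = β ≫ tbar G ιP φ ρ kU kR)
    (h₂ : β ≫ sbar G ιP φ ρ kU kR = γ ≫ tbar G ιP φ ρ kU kR) :
    ∃ (T' : Scheme.{u}) (c : T' ⟶ T) (a b d : T' ⟶ G.R), Epi c ∧ a ≫ ρ = c ≫ α ∧
      b ≫ ρ = c ≫ β ∧ d ≫ ρ = c ≫ γ ∧ a ≫ G.s = b ≫ G.t ∧ b ≫ G.s = d ≫ G.t := by
  obtain ⟨T₁, c₁, a, b, hc₁, ha, hb, hab⟩ := exists_lift2 G ιP φ ρ kU kR eP heP α β h₁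
  obtain ⟨T₂, c₂, d₀, hc₂, hd₀⟩ := exists_lift1 G ρ (c₁ ≫ γ)
  have hbd : ((c₂ ≫ b) ≫ G.s) ≫ φ = (d₀ ≫ G.t) ≫ φ := by
    have e1 : ((c₂ ≫ b) ≫ G.s) ≫ φ = (c₂ ≫ b ≫ ρ) ≫ sbar G ιP φ ρ kU kR := by
      simp only [Category.assoc, rho_sbar]
    have e2 : (d₀ ≫ G.t) ≫ φ = (d₀ ≫ ρ) ≫ tbar G ιP φ ρ kU kR := by
      simp only [Category.assoc, rho_tbar]
    rw [e1, e2, hb, hd₀]
    simp only [Category.assoc, h₂]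
  obtain ⟨d, hd1, hd2⟩ := exists_adjust G ιP φ ρ kU kR eP heP (c₂ ≫ b) d₀ hbd
  refine ⟨T₂, c₂ ≫ c₁, c₂ ≫ a, c₂ ≫ b, d, epi_comp _ _, ?_, ?_, ?_, ?_, hd1⟩
  · rw [Category.assoc, ha, Category.assoc]
  · rw [Category.assoc, hb, Category.assoc]
  · rw [hd2, hd₀, Category.assoc]
  · rw [Category.assoc, Category.assoc, hab]

include heP in
/-- computing the composition of the quotient on lifts -/
theorem precomp_lift_cbar {T' : Scheme.{u}} (c : T' ⟶ T) (α β : T ⟶ Rb)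
    (h : α ≫ sbar G ιP φ ρ kU kR = β ≫ tbar G ιP φ ρ kU kR) (a b : T' ⟶ G.R)
    (ha : a ≫ ρ = c ≫ α) (hb : b ≫ ρ = c ≫ β) (hab : a ≫ G.s = b ≫ G.t) :
    c ≫ pullback.lift α β h ≫ cbar G ιP φ ρ kU kR eP heP cP hcP = cmp G a b ≫ ρ := by
  rw [← lift_cbar G ιP φ ρ kU kR eP heP cP hcP a b hab, ← Category.assoc]
  congr 1
  apply pullback.hom_ext
  · rw [Category.assoc, pullback.lift_fst, pullback.lift_fst, ha]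
  · rw [Category.assoc, pullback.lift_snd, pullback.lift_snd, hb]

end Groth.Agent.Lib.Helper3.SubQ
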