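import Mathlib
import Groth.Agent.Lib.Helper3.SubQ7

set_option autoImplicit false
universe u

namespace Groth.Agent.Lib.Helper3.SubQ

open CategoryTheory CategoryTheory.Limits AlgebraicGeometry Grpd
open Groth.Agent.Lib.Helper3.GrpdSub Groth.Agent.Lib.Helper3.GP

variable {S : Scheme.{u}} (G : GroupoidScheme S) {P : Scheme.{u}} (ιP : P ⟶ G.R)
  {Ub Rb : Scheme.{u}} (φ : G.U ⟶ Ub) (ρ : G.R ⟶ Rb)
  (kU : IsPullback (ιP ≫ G.t) (ιP ≫ G.s) φ φ)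
  (kR : IsPullback (tRel G ιP) (prR G ιP) ρ ρ)
  (eP : G.U ⟶ P) (heP : eP ≫ ιP = G.e) (iP : P ⟶ P) (hiP : iP ≫ ιP = ιP ≫ G.i)
  (cP : pullback (ιP ≫ G.s) (ιP ≫ G.t) ⟶ P)
  (hcP : cP ≫ ιP = pullback.map (ιP ≫ G.s) (ιP ≫ G.t) G.s G.t ιP ιP (𝟙 G.U)
    (Category.comp_id _) (Category.comp_id _) ≫ G.c)
  [Mono (ιP ≫ G.j)]
  [Surjective φ] [Flat φ] [LocallyOfFinitePresentation φ]
  [Surjective ρ] [Flat ρ] [LocallyOfFinitePresentation ρ]
  (pUb : Ub ⟶ S) (pRb : Rb ⟶ S) (hφ : φ ≫ pUb = G.pU) (hρ : ρ ≫ pRb = G.pR)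

local notation "s̄" => sbar G ιP φ ρ kU kR
local notation "t̄" => tbar G ιP φ ρ kU kR
local notation "ē" => ebar G ιP φ ρ kU kR iP hiP
local notation "ī" => ibar G ιP ρ kR iP hiP
local notation "c̄" => cbar G ιP φ ρ kU kR eP heP cP hcP

include hφ hρ in
theorem sbar_over : s̄ ≫ pUb = pRb := by
  rw [← cancel_epi ρ, rho_sbar_assoc, hφ, G.s_over, hρ]

include hφ hρ in
theorem tbar_over : t̄ ≫ pUb = pRb := by
  rw [← cancel_epi ρ, rho_tbar_assoc, hφ, G.t_over, hρ]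

theorem ebar_s : ē ≫ s̄ = 𝟙 Ub := by
  rw [← cancel_epi φ, phi_ebar_assoc, rho_sbar, ← Category.assoc, G.e_s, Category.id_comp,
    Category.comp_id]

theorem ebar_t : ē ≫ t̄ = 𝟙 Ub := by
  rw [← cancel_epi φ, phi_ebar_assoc, rho_tbar, ← Category.assoc, G.e_t, Category.id_comp,
    Category.comp_id]

theorem ibar_s : ī ≫ s̄ = t̄ := by
  rw [← cancel_epi ρ, rho_ibar_assoc, rho_sbar, ← Category.assoc, G.i_s, rho_tbar]

theorem ibar_t : ī ≫ t̄ = s̄ := by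
  rw [← cancel_epi ρ, rho_ibar_assoc, rho_tbar, ← Category.assoc, G.i_t, rho_sbar]

variable {T : Scheme.{u}}

theorem cbar_s (α β : T ⟶ Rb) (h : α ≫ s̄ = β ≫ t̄) :
    (pullback.lift α β h ≫ c̄) ≫ s̄ = β ≫ s̄ := by
  obtain ⟨T', c, a, b, hc, ha, hb, hab⟩ := exists_lift2 G ιP φ ρ kU kR eP heP α β h
  rw [← cancel_epi c, ← Category.assoc,
    precomp_lift_cbar G ιP φ ρ kU kR eP heP cP hcP c α β h a b ha hb hab, Category.assoc, rho_sbar,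
    ← Category.assoc, cmp_s hab, ← Category.assoc, ← hb, Category.assoc, Category.assoc, rho_sbar]

theorem cbar_t (α β : T ⟶ Rb) (h : α ≫ s̄ = β ≫ t̄) :
    (pullback.lift α β h ≫ c̄) ≫ t̄ = α ≫ t̄ := by
  obtain ⟨T', c, a, b, hc, ha, hb, hab⟩ := exists_lift2 G ιP φ ρ kU kR eP heP α β h
  rw [← cancel_epi c, ← Category.assoc,
    precomp_lift_cbar G ιP φ ρ kU kR eP heP cP hcP c α β h a b ha hb hab, Category.assoc, rho_tbar,
    ← Category.assoc, cmp_t hab, ← Category.assoc, ← ha, Category.assoc, Category.assoc, rho_tbar]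

theorem cbar_assoc (α β γ : T ⟶ Rb) (h₁ : α ≫ s̄ = β ≫ t̄) (h₂ : β ≫ s̄ = γ ≫ t̄) :
    pullback.lift (pullback.lift α β h₁ ≫ c̄) γ
        ((cbar_s G ιP φ ρ kU kR eP heP cP hcP α β h₁).trans h₂) ≫ c̄ =
      pullback.lift α (pullback.lift β γ h₂ ≫ c̄)
        (h₁.trans (cbar_t G ιP φ ρ kU kR eP heP cP hcP β γ h₂).symm) ≫ c̄ := by
  obtain ⟨T', c, a, b, d, hc, ha, hb, hd, hab, hbd⟩ :=
    exists_lift3 G ιP φ ρ kU kR eP heP α β γ h₁ h₂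
  have e1 := precomp_lift_cbar G ιP φ ρ kU kR eP heP cP hcP c α β h₁ a b ha hb hab
  have e2 := precomp_lift_cbar G ιP φ ρ kU kR eP heP cP hcP c β γ h₂ b d hb hd hbd
  rw [← cancel_epi c,
    precomp_lift_cbar G ιP φ ρ kU kR eP heP cP hcP c _ γ _ (cmp G a b) d e1.symm hd
      ((cmp_s hab).trans hbd),
    precomp_lift_cbar G ιP φ ρ kU kR eP heP cP hcP c α _ _ a (cmp G b d) ha e2.symm
      (hab.trans (cmp_t hbd).symm), cmp_assoc hab hbd]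

theorem cbar_e (α : T ⟶ Rb) :
    pullback.lift α (α ≫ s̄ ≫ ē) (by
      rw [Category.assoc, Category.assoc, ebar_t, Category.comp_id]) ≫ c̄ = α := by
  obtain ⟨T', c, a, hc, ha⟩ := exists_lift1 G ρ α
  have hb : ((a ≫ G.s) ≫ G.e) ≫ ρ = c ≫ α ≫ s̄ ≫ ē := by
    rw [← Category.assoc c, ← ha]
    simp only [Category.assoc, rho_sbar_assoc, phi_ebar]
  rw [← cancel_epi c,
    precomp_lift_cbar G ιP φ ρ kU kR eP heP cP hcP c α _ _ a ((a ≫ G.s) ≫ G.e) ha hb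
      (e_t' _).symm, cmp_e_right rfl, ha]

theorem e_cbar (α : T ⟶ Rb) :
    pullback.lift (α ≫ t̄ ≫ ē) α (by
      rw [Category.assoc, Category.assoc, ebar_s, Category.comp_id]) ≫ c̄ = α := by
  obtain ⟨T', c, a, hc, ha⟩ := exists_lift1 G ρ α
  have hb : ((a ≫ G.t) ≫ G.e) ≫ ρ = c ≫ α ≫ t̄ ≫ ē := by
    rw [← Category.assoc c, ← ha]
    simp only [Category.assoc, rho_tbar_assoc, phi_ebar]
  rw [← cancel_epi c,
    precomp_lift_cbar G ιP φ ρ kU kR eP heP cP hcP c _ α _ ((a ≫ G.t) ≫ G.e) a hb ha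
      (e_s' _), cmp_e_left rfl, ha]

theorem cbar_i (α : T ⟶ Rb) :
    pullback.lift α (α ≫ ī) (by rw [Category.assoc, ibar_t]) ≫ c̄ = α ≫ t̄ ≫ ē := by
  obtain ⟨T', c, a, hc, ha⟩ := exists_lift1 G ρ α
  have hb : (a ≫ G.i) ≫ ρ = c ≫ α ≫ ī := by
    rw [← Category.assoc c, ← ha]
    simp only [Category.assoc, rho_ibar]
  rw [← cancel_epi c,
    precomp_lift_cbar G ιP φ ρ kU kR eP heP cP hcP c α _ _ a (a ≫ G.i) ha hb
      (i_t' a).symm, cmp_i_right, ← Category.assoc c, ← ha]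
  simp only [Category.assoc, rho_tbar_assoc, phi_ebar]

theorem i_cbar (α : T ⟶ Rb) :
    pullback.lift (α ≫ ī) α (by rw [Category.assoc, ibar_s]) ≫ c̄ = α ≫ s̄ ≫ ē := by
  obtain ⟨T', c, a, hc, ha⟩ := exists_lift1 G ρ α
  have hb : (a ≫ G.i) ≫ ρ = c ≫ α ≫ ī := by
    rw [← Category.assoc c, ← ha]
    simp only [Category.assoc, rho_ibar]
  rw [← cancel_epi c,
    precomp_lift_cbar G ιP φ ρ kU kR eP heP cP hcP c _ α _ (a ≫ G.i) a hb ha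
      (i_s' a), cmp_i_left, ← Category.assoc c, ← ha]
  simp only [Category.assoc, rho_sbar_assoc, phi_ebar]

/-- the quotient groupoid -/
noncomputable def quotGrpd : GroupoidScheme S where
  U := Ub
  R := Rb
  pU := pUb
  pR := pRb
  s := s̄
  t := t̄
  e := ē
  i := ī
  c := c̄
  s_over := sbar_over G ιP φ ρ kU kR pUb pRb hφ hρ
  t_over := tbar_over G ιP φ ρ kU kR pUb pRb hφ hρ
  comp_s := cbar_s G ιP φ ρ kU kR eP heP cP hcP
  comp_t := cbar_t G ιP φ ρ kU kR eP heP cP hcP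
  assoc := cbar_assoc G ιP φ ρ kU kR eP heP cP hcP
  e_s := ebar_s G ιP φ ρ kU kR iP hiP
  e_t := ebar_t G ιP φ ρ kU kR iP hiP
  comp_e := cbar_e G ιP φ ρ kU kR eP heP iP hiP cP hcP
  e_comp := e_cbar G ιP φ ρ kU kR eP heP iP hiP cP hcP
  i_s := ibar_s G ιP φ ρ kU kR iP hiP
  i_t := ibar_t G ιP φ ρ kU kR iP hiP
  comp_i := cbar_i G ιP φ ρ kU kR eP heP iP hiP cP hcP
  i_comp := i_cbar G ιP φ ρ kU kR eP heP iP hiP cP hcP

/-- the quotient morphism of groupoids -/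
noncomputable def quotHom :
    GroupoidScheme.Hom G (quotGrpd G ιP φ ρ kU kR eP heP iP hiP cP hcP pUb pRb hφ hρ) where
  fU := φ
  fR := ρ
  fU_over := hφ
  comm_s := rho_sbar G ιP φ ρ kU kR
  comm_t := rho_tbar G ιP φ ρ kU kR
  comm_c α β h := by
    show (pullback.lift α β h ≫ G.c) ≫ ρ = pullback.lift (α ≫ ρ) (β ≫ ρ) _ ≫ c̄
    rw [lift_cbar G ιP φ ρ kU kR eP heP cP hcP α β h, cmp_eq h]

end Groth.Agent.Lib.Helper3.SubQ
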