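import Mathlib
import Groth.Agent.Lib.Helper3.SubQ8

set_option autoImplicit false
universe u

namespace Groth.Agent.Lib.Helper3.SubQ

open CategoryTheory CategoryTheory.Limits AlgebraicGeometry Grpd
open Groth.Agent.Lib.Helper3.GrpdSub Groth.Agent.Lib.Helper3.GP

variable {S : Scheme.{u}} (G : GroupoidScheme S) {P : Scheme.{u}} (ιP : P ⟶ G.R)
  {Ub Rb : Scheme.{u}} (φ : G.U ⟶ Ub) (ρ : G.R ⟶ Rb)
  (kU : IsPullback (ιP ≫ G.t) (ιP ≫ G.s) φ φ)
  (kR : IsPullback (tRel G ιP) (prR G ιP) ρ ρ)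
  (eP : G.U ⟶ P) (heP : eP ≫ ιP = G.e) (iP : P ⟶ P) (hiP : iP ≫ ιP = ιP ≫ G.i)
  (cP : pullback (ιP ≫ G.s) (ιP ≫ G.t) ⟶ P)
  (hcP : cP ≫ ιP = pullback.map (ιP ≫ G.s) (ιP ≫ G.t) G.s G.t ιP ιP (𝟙 G.U)
    (Category.comp_id _) (Category.comp_id _) ≫ G.c)
  [Mono (ιP ≫ G.j)]
  [Surjective φ] [Flat φ] [LocallyOfFinitePresentation φ]
  [Surjective ρ] [Flat ρ] [LocallyOfFinitePresentation ρ]
  (pUb : Ub ⟶ S) (pRb : Rb ⟶ S) (hφ : φ ≫ pUb = G.pU) (hρ : ρ ≫ pRb = G.pR)
  {T : Scheme.{u}}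

omit [Mono (ιP ≫ G.j)] [Surjective φ] [Flat φ] [LocallyOfFinitePresentation φ]
  [Surjective ρ] [Flat ρ] [LocallyOfFinitePresentation ρ] in
theorem j_fst' (H : GroupoidScheme S) : H.j ≫ pullback.fst H.pU H.pU = H.t :=
  pullback.lift_fst _ _ _

omit [Mono (ιP ≫ G.j)] [Surjective φ] [Flat φ] [LocallyOfFinitePresentation φ]
  [Surjective ρ] [Flat ρ] [LocallyOfFinitePresentation ρ] in
theorem j_snd' (H : GroupoidScheme S) : H.j ≫ pullback.snd H.pU H.pU = H.s :=
  pullback.lift_snd _ _ _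

include kR heP in
omit [Surjective φ] [Flat φ] [LocallyOfFinitePresentation φ]
  [Surjective ρ] [Flat ρ] [LocallyOfFinitePresentation ρ] in
/-- arrows with the same image in the quotient and the same source and target agree -/
theorem eq_of_rho_eq (r r' : T ⟶ G.R) (h : r ≫ ρ = r' ≫ ρ) (hs : r ≫ G.s = r' ≫ G.s)
    (ht : r ≫ G.t = r' ≫ G.t) : r = r' := by
  obtain ⟨p, p', hA, hB, rfl⟩ := exists_of_rho_eq G ιP ρ kR r r' h
  have hAB := (cmp_s hA).trans hB
  rw [cmp_s hAB] at hs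
  rw [cmp_t hAB, cmp_t hA] at ht
  have hp : p ≫ ιP = ((p ≫ ιP) ≫ G.s) ≫ G.e :=
    P_eq_e G ιP eP heP p (hA.trans ht.symm)
  have hp' : p' ≫ ιP = ((p' ≫ ιP) ≫ G.s) ≫ G.e :=
    P_eq_e G ιP eP heP p' (hs.trans hB)
  rw [hp, hp', cmp_e_left hA.symm, cmp_e_right (hs.symm)]

theorem isPullback_j :
    IsPullback ρ G.j (quotGrpd G ιP φ ρ kU kR eP heP iP hiP cP hcP pUb pRb hφ hρ).j
      (pullback.map G.pU G.pU pUb pUb φ φ (𝟙 S) ((Category.comp_id _).trans hφ.symm)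
        ((Category.comp_id _).trans hφ.symm)) := by
  let jb : Rb ⟶ pullback pUb pUb :=
    pullback.lift (tbar G ιP φ ρ kU kR) (sbar G ιP φ ρ kU kR)
      ((tbar_over G ιP φ ρ kU kR pUb pRb hφ hρ).trans
        (sbar_over G ιP φ ρ kU kR pUb pRb hφ hρ).symm)
  let mp : pullback G.pU G.pU ⟶ pullback pUb pUb :=
    pullback.map G.pU G.pU pUb pUb φ φ (𝟙 S) ((Category.comp_id _).trans hφ.symm)
        ((Category.comp_id _).trans hφ.symm)
  show IsPullback ρ G.j jb mp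
  have jb1 : jb ≫ pullback.fst pUb pUb = tbar G ιP φ ρ kU kR := pullback.lift_fst _ _ _
  have jb2 : jb ≫ pullback.snd pUb pUb = sbar G ιP φ ρ kU kR := pullback.lift_snd _ _ _
  have mp1 : mp ≫ pullback.fst pUb pUb = pullback.fst G.pU G.pU ≫ φ := pullback.lift_fst _ _ _
  have mp2 : mp ≫ pullback.snd pUb pUb = pullback.snd G.pU G.pU ≫ φ := pullback.lift_snd _ _ _
  have hw : ρ ≫ jb = G.j ≫ mp := by
    apply pullback.hom_ext
    · rw [Category.assoc, jb1, Category.assoc, mp1, ← Category.assoc, j_fst']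
      exact rho_tbar G ιP φ ρ kU kR
    · rw [Category.assoc, jb2, Category.assoc, mp2, ← Category.assoc, j_snd']
      exact rho_sbar G ιP φ ρ kU kR
  refine IsPullback.mk' hw ?_ ?_
  · intro T r r' h1 h2
    have ht : r ≫ G.t = r' ≫ G.t := by
      have := congrArg (· ≫ pullback.fst _ _) h2
      simp only [Category.assoc] at this
      rwa [j_fst'] at this
    have hs : r ≫ G.s = r' ≫ G.s := by
      have := congrArg (· ≫ pullback.snd _ _) h2
      simp only [Category.assoc] at this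
      rwa [j_snd'] at this
    exact eq_of_rho_eq G ιP ρ kR eP heP r r' h1 hs ht
  · intro T a b hab
    -- the components
    have hx : a ≫ tbar G ιP φ ρ kU kR = (b ≫ pullback.fst _ _) ≫ φ := by
      have := congrArg (· ≫ pullback.fst _ _) hab
      simp only [Category.assoc] at this
      rw [jb1, mp1, ← Category.assoc] at this
      exact this
    have hy : a ≫ sbar G ιP φ ρ kU kR = (b ≫ pullback.snd _ _) ≫ φ := by
      have := congrArg (· ≫ pullback.snd _ _) hab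
      simp only [Category.assoc] at this
      rw [jb2, mp2, ← Category.assoc] at this
      exact this
    set x := b ≫ pullback.fst G.pU G.pU with hxdef
    set y := b ≫ pullback.snd G.pU G.pU with hydef
    -- the cover
    let c := pullback.fst a ρ
    let r₀ := pullback.snd a ρ
    have hr₀ : r₀ ≫ ρ = c ≫ a := pullback.condition.symm
    have h1 : (c ≫ x) ≫ φ = (r₀ ≫ G.t) ≫ φ := by
      rw [Category.assoc, ← hx, ← Category.assoc, ← hr₀]
      simp only [Category.assoc, rho_tbar]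
    have h2 : (r₀ ≫ G.s) ≫ φ = (c ≫ y) ≫ φ := by
      rw [Category.assoc (c), ← hy, ← Category.assoc c, ← hr₀]
      simp only [Category.assoc, rho_sbar]
    obtain ⟨p, hp1, hp2⟩ := exists_of_phi_eq G ιP φ kU _ _ h1
    obtain ⟨p', hp'1, hp'2⟩ := exists_of_phi_eq G ιP φ kU _ _ h2
    let r' := cmp G (cmp G (p ≫ ιP) r₀) (p' ≫ ιP)
    have hAB : cmp G (p ≫ ιP) r₀ ≫ G.s = (p' ≫ ιP) ≫ G.t := (cmp_s hp2).trans hp'1.symm
    have hr't : r' ≫ G.t = c ≫ x := by
      show cmp G (cmp G (p ≫ ιP) r₀) (p' ≫ ιP) ≫ G.t = _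
      rw [cmp_t hAB, cmp_t hp2, hp1]
    have hr's : r' ≫ G.s = c ≫ y := by
      show cmp G (cmp G (p ≫ ιP) r₀) (p' ≫ ιP) ≫ G.s = _
      rw [cmp_s hAB, hp'2]
    have hr'ρ : r' ≫ ρ = c ≫ a := by
      show cmp G (cmp G (p ≫ ιP) r₀) (p' ≫ ιP) ≫ ρ = _
      rw [rho_cmp_both G ιP ρ kR p r₀ p' hp2 hp'1.symm, hr₀]
    have hdesc : ∀ {Z : Scheme.{u}} (g₁ g₂ : Z ⟶ pullback a ρ), g₁ ≫ c = g₂ ≫ c →
        g₁ ≫ r' = g₂ ≫ r' := by
      intro Z g₁ g₂ hg
      apply eq_of_rho_eq G ιP ρ kR eP heP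
      · rw [Category.assoc, Category.assoc, hr'ρ, ← Category.assoc, ← Category.assoc, hg]
      · rw [Category.assoc, Category.assoc, hr's]
        exact (Category.assoc _ _ _).symm.trans ((congrArg (· ≫ y) hg).trans (Category.assoc _ _ _))
      · rw [Category.assoc, Category.assoc, hr't]
        exact (Category.assoc _ _ _).symm.trans ((congrArg (· ≫ x) hg).trans (Category.assoc _ _ _))
    let r : T ⟶ G.R := EffectiveEpi.desc c r' hdesc
    have hcr : c ≫ r = r' := EffectiveEpi.fac c r' hdesc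
    refine ⟨r, ?_, ?_⟩
    · rw [← cancel_epi c, ← Category.assoc, hcr, hr'ρ]
    · apply pullback.hom_ext
      · rw [← cancel_epi c, Category.assoc, j_fst', ← Category.assoc, hcr, hr't]
      · rw [← cancel_epi c, Category.assoc, j_snd', ← Category.assoc, hcr, hr's]

end Groth.Agent.Lib.Helper3.SubQ
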