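import Mathlib
import Groth.Agent.Lib.Helper3.SubQ9
import Groth.Agent.Lib.Helper3.SubQ3
import Groth.Agent.Lib.Helper3.GQ10235
import Groth.Prelude.Def_QuotSh

set_option autoImplicit false
universe u

namespace Groth.Agent.Lib.Helper3.SubQ

open CategoryTheory CategoryTheory.Limits AlgebraicGeometry Grpd
open Groth.Agent.Lib.Helper3.GrpdSub Groth.Agent.Lib.Helper3.GP Groth.Agent.Lib.Helper3.GQ
open Groth.Agent.Lib.Helper4

theorem main10140 (S : Scheme.{u}) (G : Grpd.GroupoidScheme S) [IsAffine G.U]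
    [IsSeparated G.j] [LocallyQuasiFinite G.j] [LocallyOfFiniteType G.j]
    (P : Scheme.{u}) (ιP : P ⟶ G.R) [Mono ιP]
    (he : ∃ eP : G.U ⟶ P, eP ≫ ιP = G.e) (hi : ∃ iP : P ⟶ P, iP ≫ ιP = ιP ≫ G.i)
    (hc : ∃ cP : pullback (ιP ≫ G.s) (ιP ≫ G.t) ⟶ P,
      cP ≫ ιP = pullback.map (ιP ≫ G.s) (ιP ≫ G.t) G.s G.t ιP ιP (𝟙 G.U) (Category.comp_id _) (Category.comp_id _) ≫ G.c)
    [IsFinite (ιP ≫ G.s)] [Flat (ιP ≫ G.s)] [LocallyOfFinitePresentation (ιP ≫ G.s)]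
    [IsFinite (ιP ≫ G.t)] [Flat (ιP ≫ G.t)] [LocallyOfFinitePresentation (ιP ≫ G.t)] [Mono (ιP ≫ G.j)] :
    ∃ (H : Grpd.GroupoidScheme S) (φ : Grpd.GroupoidScheme.Hom G H),
      IsAffine H.U ∧
      QuotSh.IsQuotient Scheme.fppfPrecoverage
        (Over.homMk (ιP ≫ G.s) ((Category.assoc _ _ _).trans (congrArg (ιP ≫ ·) G.s_over)) :
          (Over.mk (ιP ≫ G.pR) : Over S) ⟶ Over.mk G.pU)
        (Over.homMk (ιP ≫ G.t) ((Category.assoc _ _ _).trans (congrArg (ιP ≫ ·) G.t_over)) :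
          (Over.mk (ιP ≫ G.pR) : Over S) ⟶ Over.mk G.pU)
        (Over.homMk φ.fU φ.fU_over : Over.mk G.pU ⟶ Over.mk H.pU) ∧
      IsFinite φ.fU ∧ Flat φ.fU ∧ LocallyOfFinitePresentation φ.fU ∧
      IsPullback (ιP ≫ G.t) (ιP ≫ G.s) φ.fU φ.fU ∧
      IsPullback φ.fR G.j H.j
        (pullback.map G.pU G.pU H.pU H.pU φ.fU φ.fU (𝟙 S)
          ((Category.comp_id _).trans φ.fU_over.symm) ((Category.comp_id _).trans φ.fU_over.symm)) := by
  obtain ⟨eP, heP⟩ := he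
  obtain ⟨iP, hiP⟩ := hi
  obtain ⟨cP, hcP⟩ := hc
  have hE := isEqvRel_P G ιP eP heP iP hiP cP hcP
  haveI : IsAffine (UO G).left := ‹IsAffine G.U›
  haveI : IsAffine (PO G ιP).left := isAffine_of_isAffineHom (ιP ≫ G.s)
  haveI : IsFinite (sPO G ιP).left := ‹IsFinite (ιP ≫ G.s)›
  haveI : Flat (sPO G ιP).left := ‹Flat (ιP ≫ G.s)›
  haveI : LocallyOfFinitePresentation (sPO G ιP).left :=
    ‹LocallyOfFinitePresentation (ιP ≫ G.s)›
  obtain ⟨MU, φO, hMaff, hφfin, hφflat, hφlfp, hφsurj, kpU⟩ :=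
    exists_affine_quotient (sPO G ιP) (tPO G ιP) hE
  obtain ⟨MR, ρO, hρfin, hρflat, hρlfp, hρsurj, kpR⟩ :=
    exists_Rbar G ιP eP heP iP hiP cP hcP
  have kU : IsPullback (ιP ≫ G.t) (ιP ≫ G.s) φO.left φO.left := kpU.map (Over.forget S)
  have kR : IsPullback (tRel G ιP) (prR G ιP) ρO.left ρO.left := kpR.map (Over.forget S)
  haveI := hφflat
  haveI := hφlfp
  haveI := hφsurj
  haveI := hρflat
  haveI := hρlfp
  haveI := hρsurj
  have hφw : φO.left ≫ MU.hom = G.pU := Over.w φO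
  have hρw : ρO.left ≫ MR.hom = G.pR := Over.w ρO
  refine ⟨quotGrpd G ιP φO.left ρO.left kU kR eP heP iP hiP cP hcP MU.hom MR.hom hφw hρw,
    quotHom G ιP φO.left ρO.left kU kR eP heP iP hiP cP hcP MU.hom MR.hom hφw hρw,
    hMaff, ?_, hφfin, hφflat, hφlfp, kU,
    isPullback_j G ιP φO.left ρO.left kU kR eP heP iP hiP cP hcP MU.hom MR.hom hφw hρw⟩
  have hq := QuotIff.isQuotient_of_isKernelPair _ (sPO G ιP) (tPO G ιP) φO kpU.flip (by
    rw [EpiRep.epi_repMap_iff_generate]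
    exact Precoverage.generate_mem_toGrothendieck
      (Scheme.Hom.singleton_mem_fppfPrecoverage φO.left))
  exact hq

end Groth.Agent.Lib.Helper3.SubQ
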