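import Mathlib
import Groth.Prelude.Def_Grpd
import Groth.Prelude.Def_AlgSp
import Groth.Agent.Lib.Helper3.BootA
import Groth.Agent.Lib.Helper3.BootB
import Groth.Agent.Lib.Helper3.SubQ10
import Groth.Agent.Lib.Helper3.GQOpenQuot
import Groth.Agent.Lib.Helper3.QuotRelMain
import Groth.Agent.Lib.Helper3.QAffDescGen
import Groth.Agent.Lib.Helper3.EtSrcLocalFlat
import Groth.Agent.Lib.Helper21.FlatDescS

set_option autoImplicit false
universe u

namespace Groth.Agent.Lib.Helper3.Boot

open CategoryTheory CategoryTheory.Limits AlgebraicGeometry Grpd AlgSp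
open Groth.Agent.Lib.Helper3 Groth.Agent.Lib.Helper3.GP

set_option backward.isDefEq.respectTransparency false

variable {S : Scheme.{u}}

/-- two quotients of the same sheaf with the same kernel pair are isomorphic -/
theorem nonempty_iso_of_kernelPair {A K F₁ F₂ : Sp S} (k₁ k₂ : K ⟶ A) (π₁ : A ⟶ F₁)
    (π₂ : A ⟶ F₂) (h₁ : Sheaf.IsLocallySurjective π₁) (h₂ : Sheaf.IsLocallySurjective π₂)
    (kp₁ : IsPullback k₁ k₂ π₁ π₁) (kp₂ : IsPullback k₁ k₂ π₂ π₂) : Nonempty (F₁ ≅ F₂) := by
  obtain ⟨a, ha⟩ := GQ.exists_desc_of_kernelPair π₁ h₁ k₁ k₂ kp₁ π₂ kp₂.w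
  obtain ⟨b, hb⟩ := GQ.exists_desc_of_kernelPair π₂ h₂ k₁ k₂ kp₂ π₁ kp₁.w
  haveI : Epi π₁ := (Sheaf.isLocallySurjective_iff_epi _).1 h₁
  haveI : Epi π₂ := (Sheaf.isLocallySurjective_iff_epi _).1 h₂
  refine ⟨⟨a, b, ?_, ?_⟩⟩
  · rw [← cancel_epi π₁, ← Category.assoc, ha, hb, Category.comp_id]
  · rw [← cancel_epi π₂, ← Category.assoc, hb, ha, Category.comp_id]

section cartesian

variable {G' H : GroupoidScheme S} (φ : GroupoidScheme.Hom G' H)
  (hsq : IsPullback φ.fR G'.j H.j
    (pullback.map G'.pU G'.pU H.pU H.pU φ.fU φ.fU (𝟙 S)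
      ((Category.comp_id _).trans φ.fU_over.symm) ((Category.comp_id _).trans φ.fU_over.symm)))

include hsq

theorem fR_mem (P : MorphismProperty Scheme.{u}) [P.IsStableUnderBaseChange]
    [P.IsStableUnderComposition] (h : P φ.fU) : P φ.fR :=
  MorphismProperty.of_isPullback (P := P) hsq.flip
    (MorphismProperty.pullbackMap h h φ.fU_over.symm φ.fU_over.symm)

variable [Surjective φ.fU] [Flat φ.fU] [LocallyOfFinitePresentation φ.fU] [IsFinite φ.fU]

theorem surjective_fR : Surjective φ.fR := fR_mem φ hsq @Surjective inferInstance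
theorem flat_fR : Flat φ.fR := fR_mem φ hsq @Flat inferInstance
theorem lfp_fR : LocallyOfFinitePresentation φ.fR :=
  fR_mem φ hsq @LocallyOfFinitePresentation inferInstance
theorem isFinite_fR : IsFinite φ.fR := fR_mem φ hsq @IsFinite inferInstance

theorem mono_j_of_cartesian [Mono G'.j] : Mono H.j := by
  have hΦs : Surjective (pullback.map G'.pU G'.pU H.pU H.pU φ.fU φ.fU (𝟙 S)
      ((Category.comp_id _).trans φ.fU_over.symm) ((Category.comp_id _).trans φ.fU_over.symm)) :=
    MorphismProperty.pullbackMap (P := @Surjective) inferInstance inferInstance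
      φ.fU_over.symm φ.fU_over.symm
  have hΦf : Flat (pullback.map G'.pU G'.pU H.pU H.pU φ.fU φ.fU (𝟙 S)
      ((Category.comp_id _).trans φ.fU_over.symm) ((Category.comp_id _).trans φ.fU_over.symm)) :=
    MorphismProperty.pullbackMap (P := @Flat) inferInstance inferInstance
      φ.fU_over.symm φ.fU_over.symm
  have hΦq : IsFinite (pullback.map G'.pU G'.pU H.pU H.pU φ.fU φ.fU (𝟙 S)
      ((Category.comp_id _).trans φ.fU_over.symm) ((Category.comp_id _).trans φ.fU_over.symm)) :=
    MorphismProperty.pullbackMap (P := @IsFinite) inferInstance inferInstance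
      φ.fU_over.symm φ.fU_over.symm
  have : (MorphismProperty.monomorphisms Scheme.{u}) H.j := by
    rw [← MorphismProperty.diagonal_isomorphisms]
    refine MorphismProperty.of_isPullback_of_descendsAlong
      (P := (MorphismProperty.isomorphisms Scheme.{u}).diagonal)
      (Q := (@Surjective ⊓ @Flat ⊓ @QuasiCompact : MorphismProperty Scheme.{u})) hsq.flip
      ⟨⟨hΦs, hΦf⟩, inferInstance⟩ ?_
    rw [MorphismProperty.diagonal_isomorphisms]
    exact MorphismProperty.monomorphisms.infer_property G'.j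
  exact this

theorem flat_s_of_cartesian [Flat G'.s] : Flat H.s := by
  haveI := flat_fR φ hsq
  haveI := surjective_fR φ hsq
  refine flat_of_flat_surjective_comp φ.fR H.s ?_
  rw [φ.comm_s]; infer_instance

theorem flat_t_of_cartesian [Flat G'.t] : Flat H.t := by
  haveI := flat_fR φ hsq
  haveI := surjective_fR φ hsq
  refine flat_of_flat_surjective_comp φ.fR H.t ?_
  rw [φ.comm_t]; infer_instance

theorem lfp_s_of_cartesian [LocallyOfFinitePresentation G'.s] :
    LocallyOfFinitePresentation H.s := by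
  haveI := flat_fR φ hsq
  haveI := surjective_fR φ hsq
  haveI := lfp_fR φ hsq
  haveI : LocallyOfFinitePresentation (φ.fR ≫ H.s) := by rw [φ.comm_s]; infer_instance
  exact Groth.Agent.Lib.Helper21.FlatDesc.locallyOfFinitePresentation_of_fppf_comp φ.fR H.s

theorem lfp_t_of_cartesian [LocallyOfFinitePresentation G'.t] :
    LocallyOfFinitePresentation H.t := by
  haveI := flat_fR φ hsq
  haveI := surjective_fR φ hsq
  haveI := lfp_fR φ hsq
  haveI : LocallyOfFinitePresentation (φ.fR ≫ H.t) := by rw [φ.comm_t]; infer_instance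
  exact Groth.Agent.Lib.Helper21.FlatDesc.locallyOfFinitePresentation_of_fppf_comp φ.fR H.t

omit [Surjective φ.fU] [Flat φ.fU] [LocallyOfFinitePresentation φ.fU] [IsFinite φ.fU] in
theorem isPullback_e {P : Scheme.{u}} (ιP : P ⟶ G'.R) [Mono ιP] [Mono G'.j] [Mono H.j]
    (kp : IsPullback (ιP ≫ G'.t) (ιP ≫ G'.s) φ.fU φ.fU) :
    IsPullback ιP (ιP ≫ G'.s ≫ φ.fU) φ.fR H.e := by
  have w : ιP ≫ φ.fR = (ιP ≫ G'.s ≫ φ.fU) ≫ H.e := by
    apply mono_j_thin H
    · rw [Category.assoc, φ.comm_s, e_s']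
    · rw [Category.assoc, φ.comm_t, e_t']
      have := kp.w
      simp only [Category.assoc] at this
      exact this
  refine IsPullback.of_isLimit (c := PullbackCone.mk _ _ w) ?_
  have key : ∀ c : PullbackCone φ.fR H.e, (c.fst ≫ G'.t) ≫ φ.fU = c.snd ∧
      (c.fst ≫ G'.s) ≫ φ.fU = c.snd := by
    intro c
    constructor
    · rw [Category.assoc, ← φ.comm_t, ← Category.assoc, c.condition, e_t']
    · rw [Category.assoc, ← φ.comm_s, ← Category.assoc, c.condition, e_s']
  have hl : ∀ c : PullbackCone φ.fR H.e,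
      kp.lift (c.fst ≫ G'.t) (c.fst ≫ G'.s) ((key c).1.trans (key c).2.symm) ≫ ιP = c.fst := by
    intro c
    apply mono_j_thin G'
    · have := kp.lift_snd (c.fst ≫ G'.t) (c.fst ≫ G'.s) ((key c).1.trans (key c).2.symm)
      rw [Category.assoc]; exact this
    · have := kp.lift_fst (c.fst ≫ G'.t) (c.fst ≫ G'.s) ((key c).1.trans (key c).2.symm)
      rw [Category.assoc]; exact this
  refine PullbackCone.IsLimit.mk w
    (fun c => kp.lift (c.fst ≫ G'.t) (c.fst ≫ G'.s) ((key c).1.trans (key c).2.symm)) hl ?_ ?_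
  · intro c
    rw [← Category.assoc, hl c, ← Category.assoc]
    exact (key c).2
  · intro c m h1 h2
    rw [← cancel_mono ιP, h1, hl c]

theorem isOpenImmersion_e_of_cartesian {P : Scheme.{u}} (ιP : P ⟶ G'.R) [IsOpenImmersion ιP]
    [Mono G'.j] (kp : IsPullback (ιP ≫ G'.t) (ιP ≫ G'.s) φ.fU φ.fU) : IsOpenImmersion H.e := by
  haveI := mono_j_of_cartesian φ hsq
  haveI := flat_fR φ hsq
  haveI := surjective_fR φ hsq
  haveI := isFinite_fR φ hsq
  exact MorphismProperty.of_isPullback_of_descendsAlong (P := @IsOpenImmersion)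
    (Q := (@Surjective ⊓ @Flat ⊓ @QuasiCompact : MorphismProperty Scheme.{u}))
    (isPullback_e φ hsq ιP kp) ⟨⟨inferInstance, inferInstance⟩, inferInstance⟩ inferInstance

end cartesian

end Groth.Agent.Lib.Helper3.Boot
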