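import Mathlib
import Groth.Prelude.Def_Grpd
import Groth.Prelude.Def_AlgSp
import Groth.Agent.Lib.Helper3.BootC

set_option autoImplicit false
universe u

namespace Groth.Agent.Lib.Helper3.Boot

open CategoryTheory CategoryTheory.Limits AlgebraicGeometry Grpd AlgSp
open Groth.Agent.Lib.Helper3 Groth.Agent.Lib.Helper3.GP
open Groth.Agent.Lib.Helper3.GrpdSub Groth.Agent.Lib.Helper3.GQ Groth.Agent.Lib.Helper3.SubQ
open Groth.Agent.Lib.Helper4

set_option backward.isDefEq.respectTransparency false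

variable {S : Scheme.{u}}

/-- `S10140` with the surjectivity of the quotient map exported -/
theorem main10140' (G : Grpd.GroupoidScheme S) [IsAffine G.U]
    [IsSeparated G.j] [LocallyQuasiFinite G.j] [LocallyOfFiniteType G.j]
    (P : Scheme.{u}) (ιP : P ⟶ G.R) [Mono ιP]
    (he : ∃ eP : G.U ⟶ P, eP ≫ ιP = G.e) (hi : ∃ iP : P ⟶ P, iP ≫ ιP = ιP ≫ G.i)
    (hc : ∃ cP : pullback (ιP ≫ G.s) (ιP ≫ G.t) ⟶ P,
      cP ≫ ιP = pullback.map (ιP ≫ G.s) (ιP ≫ G.t) G.s G.t ιP ιP (𝟙 G.U) (Category.comp_id _) (Category.comp_id _) ≫ G.c)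
    [IsFinite (ιP ≫ G.s)] [Flat (ιP ≫ G.s)] [LocallyOfFinitePresentation (ιP ≫ G.s)]
    [IsFinite (ιP ≫ G.t)] [Flat (ιP ≫ G.t)] [LocallyOfFinitePresentation (ιP ≫ G.t)] [Mono (ιP ≫ G.j)] :
    ∃ (H : Grpd.GroupoidScheme S) (φ : Grpd.GroupoidScheme.Hom G H),
      IsAffine H.U ∧ Surjective φ.fU ∧
      IsFinite φ.fU ∧ Flat φ.fU ∧ LocallyOfFinitePresentation φ.fU ∧
      IsPullback (ιP ≫ G.t) (ιP ≫ G.s) φ.fU φ.fU ∧
      IsPullback φ.fR G.j H.j
        (pullback.map G.pU G.pU H.pU H.pU φ.fU φ.fU (𝟙 S)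
          ((Category.comp_id _).trans φ.fU_over.symm) ((Category.comp_id _).trans φ.fU_over.symm)) := by
  obtain ⟨eP, heP⟩ := he
  obtain ⟨iP, hiP⟩ := hi
  obtain ⟨cP, hcP⟩ := hc
  have hE := isEqvRel_P G ιP eP heP iP hiP cP hcP
  haveI : IsAffine (SubQ.UO G).left := ‹IsAffine G.U›
  haveI : IsAffine (PO G ιP).left := isAffine_of_isAffineHom (ιP ≫ G.s)
  haveI : IsFinite (sPO G ιP).left := ‹IsFinite (ιP ≫ G.s)›
  haveI : Flat (sPO G ιP).left := ‹Flat (ιP ≫ G.s)›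
  haveI : LocallyOfFinitePresentation (sPO G ιP).left :=
    ‹LocallyOfFinitePresentation (ιP ≫ G.s)›
  obtain ⟨MU, φO, hMaff, hφfin, hφflat, hφlfp, hφsurj, kpU⟩ :=
    exists_affine_quotient (sPO G ιP) (tPO G ιP) hE
  obtain ⟨MR, ρO, hρfin, hρflat, hρlfp, hρsurj, kpR⟩ :=
    exists_Rbar G ιP eP heP iP hiP cP hcP
  have kU : IsPullback (ιP ≫ G.t) (ιP ≫ G.s) φO.left φO.left := kpU.map (Over.forget S)
  have kR : IsPullback (tRel G ιP) (prR G ιP) ρO.left ρO.left := kpR.map (Over.forget S)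
  haveI := hφflat
  haveI := hφlfp
  haveI := hφsurj
  haveI := hρflat
  haveI := hρlfp
  haveI := hρsurj
  have hφw : φO.left ≫ MU.hom = G.pU := Over.w φO
  have hρw : ρO.left ≫ MR.hom = G.pR := Over.w ρO
  exact ⟨quotGrpd G ιP φO.left ρO.left kU kR eP heP iP hiP cP hcP MU.hom MR.hom hφw hρw,
    quotHom G ιP φO.left ρO.left kU kR eP heP iP hiP cP hcP MU.hom MR.hom hφw hρw,
    hMaff, hφsurj, hφfin, hφflat, hφlfp, kU,
    isPullback_j G ιP φO.left ρO.left kU kR eP heP iP hiP cP hcP MU.hom MR.hom hφw hρw⟩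


/-- the quasi-split case: a groupoid scheme with affine base which is an equivalence relation
with flat lfp source and target and admits an open subgroupoid finite over the base has an
algebraic space as quotient -/
theorem isAlgSpace_of_quasiSplit (G' : GroupoidScheme S) [IsAffine G'.U] [Mono G'.j]
    [LocallyOfFiniteType G'.j] [Flat G'.s] [LocallyOfFinitePresentation G'.s] [Flat G'.t]
    [LocallyOfFinitePresentation G'.t] (P : Scheme.{u}) (ιP : P ⟶ G'.R) [IsOpenImmersion ιP]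
    (he : ∃ eP : G'.U ⟶ P, eP ≫ ιP = G'.e) (hi : ∃ iP : P ⟶ P, iP ≫ ιP = ιP ≫ G'.i)
    (hc : ∃ cP : pullback (ιP ≫ G'.s) (ιP ≫ G'.t) ⟶ P,
      cP ≫ ιP = pullback.map (ιP ≫ G'.s) (ιP ≫ G'.t) G'.s G'.t ιP ιP (𝟙 G'.U)
        (Category.comp_id _) (Category.comp_id _) ≫ G'.c)
    [IsFinite (ιP ≫ G'.s)] [IsFinite (ιP ≫ G'.t)]
    {F : Sp S} (π : (yon S).obj (Boot.UO G') ⟶ F) (hπ : Sheaf.IsLocallySurjective π)
    (kp : IsPullback ((yon S).map (tO G')) ((yon S).map (sO G')) π π) : IsAlgSpace F := by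
  obtain ⟨H, φ, hHaff, hφs, hφfin, hφflat, hφlfp, kU, hsq⟩ := main10140' G' P ιP he hi hc
  haveI := hφs
  haveI := hφfin
  haveI := hφflat
  haveI := hφlfp
  haveI := mono_j_of_cartesian φ hsq
  haveI := flat_s_of_cartesian φ hsq
  haveI := lfp_s_of_cartesian φ hsq
  haveI := isOpenImmersion_e_of_cartesian φ hsq ιP kU
  have hes : Etale H.s := etale_s_of_isOpenImmersion_e H
  have het : Etale H.t := etale_t_of_isOpenImmersion_e H
  have hEt : IsEtaleEqvRel (sO H) (tO H) := ⟨isEqvRel_of_mono_j H, hes, het⟩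
  obtain ⟨pres, hAlg⟩ := QuotRel.isPresentation_and_isAlgSpace (sO H) (tO H) hEt
  have hR := (isRestr_of_hom φ hsq (hom_fR_over φ)).isPullback
  have kp₂ := QuotRel.isPullback_restrict (sO H) (tO H)
    (Over.homMk φ.fU φ.fU_over : Boot.UO G' ⟶ Boot.UO H) (sO G') (tO G')
    (Over.homMk φ.fR (hom_fR_over φ) : Boot.RO G' ⟶ Boot.RO H) hR
    (QuotRel.quotMap (sO H) (tO H)) pres.isPullback
  have hs₂ : Sheaf.IsLocallySurjective ((yon S).map
      (Over.homMk φ.fU φ.fU_over : Boot.UO G' ⟶ Boot.UO H) ≫ QuotRel.quotMap (sO H) (tO H)) := by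
    haveI : Flat (Over.homMk φ.fU φ.fU_over : Boot.UO G' ⟶ Boot.UO H).left := hφflat
    haveI : LocallyOfFinitePresentation
      (Over.homMk φ.fU φ.fU_over : Boot.UO G' ⟶ Boot.UO H).left := hφlfp
    haveI : Surjective (Over.homMk φ.fU φ.fU_over : Boot.UO G' ⟶ Boot.UO H).left := hφs
    haveI := QAffDesc.isLocallySurjective_yon_map_of_fppf
      (Over.homMk φ.fU φ.fU_over : Boot.UO G' ⟶ Boot.UO H)
    haveI : Sheaf.IsLocallySurjective (QuotRel.quotMap (sO H) (tO H)) :=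
      (Sheaf.isLocallySurjective_iff_epi _).2 inferInstance
    infer_instance
  obtain ⟨e⟩ := nonempty_iso_of_kernelPair _ _ π _ hπ hs₂ kp kp₂
  exact hAlg.of_iso e.symm

end Groth.Agent.Lib.Helper3.Boot
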