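import Mathlib
import Groth.Prelude.Def_Grpd
import Groth.Agent.Lib.Helper3.GrpdPt

set_option autoImplicit false
universe u

namespace Groth.Agent.Lib.Helper3.Spl

open CategoryTheory CategoryTheory.Limits AlgebraicGeometry Grpd
open Groth.Agent.Lib.Helper3 Groth.Agent.Lib.Helper3.GP

set_option backward.isDefEq.respectTransparency false

section defs

variable {S : Scheme.{u}} (G : GroupoidScheme S) {V : Scheme.{u}} (h : V ⟶ G.U)

/-- `X_h = R ×_{s,U,h} V`. -/
noncomputable abbrev XX : Scheme.{u} := pullback G.s h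

/-- arrows of the restriction of `G` along `h`: `(R ×_{s,U,h} V) ×_{t,U,h} V` -/
noncomputable abbrev RV : Scheme.{u} := pullback (pullback.fst G.s h ≫ G.t) h

noncomputable def toX : RV G h ⟶ XX G h := pullback.fst _ _
noncomputable def fR : RV G h ⟶ G.R := pullback.fst _ _ ≫ pullback.fst _ _
noncomputable def sV : RV G h ⟶ V := pullback.fst _ _ ≫ pullback.snd _ _
noncomputable def tV : RV G h ⟶ V := pullback.snd _ _

@[reassoc] theorem fR_s : fR G h ≫ G.s = sV G h ≫ h := by
  simp only [fR, sV, Category.assoc, pullback.condition]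

@[reassoc] theorem fR_t : fR G h ≫ G.t = tV G h ≫ h := by
  simp only [fR, tV, Category.assoc]; exact pullback.condition

theorem toX_fst : toX G h ≫ pullback.fst _ _ = fR G h := rfl
theorem toX_snd : toX G h ≫ pullback.snd _ _ = sV G h := rfl

variable {G h} {T : Scheme.{u}}

/-- the `T`-point `(a, r, b)` of the restriction -/
noncomputable def mk (a : T ⟶ V) (r : T ⟶ G.R) (b : T ⟶ V) (ht : r ≫ G.t = a ≫ h)
    (hs : r ≫ G.s = b ≫ h) : T ⟶ RV G h :=
  pullback.lift (pullback.lift r b hs) a (by rw [pullback.lift_fst_assoc]; exact ht)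

@[simp] theorem mk_fR (a : T ⟶ V) (r : T ⟶ G.R) (b : T ⟶ V) (ht : r ≫ G.t = a ≫ h)
    (hs : r ≫ G.s = b ≫ h) : mk a r b ht hs ≫ fR G h = r := by
  simp [mk, fR]

@[simp] theorem mk_sV (a : T ⟶ V) (r : T ⟶ G.R) (b : T ⟶ V) (ht : r ≫ G.t = a ≫ h)
    (hs : r ≫ G.s = b ≫ h) : mk a r b ht hs ≫ sV G h = b := by
  simp [mk, sV]

@[simp] theorem mk_tV (a : T ⟶ V) (r : T ⟶ G.R) (b : T ⟶ V) (ht : r ≫ G.t = a ≫ h)
    (hs : r ≫ G.s = b ≫ h) : mk a r b ht hs ≫ tV G h = a := by
  simp [mk, tV]

theorem hom_ext' {x y : T ⟶ RV G h} (h1 : x ≫ fR G h = y ≫ fR G h)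
    (h2 : x ≫ sV G h = y ≫ sV G h) (h3 : x ≫ tV G h = y ≫ tV G h) : x = y := by
  apply pullback.hom_ext
  · apply pullback.hom_ext
    · simpa [fR] using h1
    · simpa [sV] using h2
  · exact h3

theorem mk_congr {a a' : T ⟶ V} {r r' : T ⟶ G.R} {b b' : T ⟶ V} (ha : a = a') (hr : r = r')
    (hb : b = b') (ht : r ≫ G.t = a ≫ h) (hs : r ≫ G.s = b ≫ h) :
    mk a r b ht hs = mk a' r' b' (by subst ha hr; exact ht) (by subst hb hr; exact hs) := by
  subst ha hr hb; rfl

theorem eq_mk (x : T ⟶ RV G h) : x = mk (x ≫ tV G h) (x ≫ fR G h) (x ≫ sV G h)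
    (by rw [Category.assoc, fR_t, Category.assoc]) (by rw [Category.assoc, fR_s, Category.assoc]) := by
  apply hom_ext' <;> simp

theorem precomp_mk {T' : Scheme.{u}} (f : T' ⟶ T) (a : T ⟶ V) (r : T ⟶ G.R) (b : T ⟶ V)
    (ht : r ≫ G.t = a ≫ h) (hs : r ≫ G.s = b ≫ h) :
    f ≫ mk a r b ht hs = mk (f ≫ a) (f ≫ r) (f ≫ b) (by rw [Category.assoc, ht, Category.assoc])
      (by rw [Category.assoc, hs, Category.assoc]) := by
  apply hom_ext' <;> simp

end defs

section grpd

variable {S : Scheme.{u}} (G : GroupoidScheme S) {V : Scheme.{u}} (h : V ⟶ G.U)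

theorem c_cond : (pullback.fst (sV G h) (tV G h) ≫ fR G h) ≫ G.s =
    (pullback.snd (sV G h) (tV G h) ≫ fR G h) ≫ G.t := by
  rw [Category.assoc, Category.assoc, fR_s, fR_t, pullback.condition_assoc]

/-- composition of the restriction -/
noncomputable def cV : pullback (sV G h) (tV G h) ⟶ RV G h :=
  mk (pullback.fst _ _ ≫ tV G h) (cmp G (pullback.fst _ _ ≫ fR G h) (pullback.snd _ _ ≫ fR G h))
    (pullback.snd _ _ ≫ sV G h)
    (by rw [cmp_t (c_cond G h), Category.assoc, Category.assoc, fR_t])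
    (by rw [cmp_s (c_cond G h), Category.assoc, Category.assoc, fR_s])

variable {G h} {T : Scheme.{u}}

theorem pt_cond {α β : T ⟶ RV G h} (hc : α ≫ sV G h = β ≫ tV G h) :
    (α ≫ fR G h) ≫ G.s = (β ≫ fR G h) ≫ G.t := by
  rw [Category.assoc, Category.assoc, fR_s, fR_t, ← Category.assoc, hc, Category.assoc]

theorem lift_cV {α β : T ⟶ RV G h} (hc : α ≫ sV G h = β ≫ tV G h) :
    pullback.lift α β hc ≫ cV G h = mk (α ≫ tV G h) (cmp G (α ≫ fR G h) (β ≫ fR G h)) (β ≫ sV G h)
      (by rw [cmp_t (pt_cond hc), Category.assoc, Category.assoc, fR_t])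
      (by rw [cmp_s (pt_cond hc), Category.assoc, Category.assoc, fR_s]) := by
  rw [cV, precomp_mk]
  apply mk_congr
  · rw [pullback.lift_fst_assoc]
  · rw [precomp_cmp _ (c_cond G h), pullback.lift_fst_assoc, pullback.lift_snd_assoc]
  · rw [pullback.lift_snd_assoc]

variable (G h)

/-- the restriction of a groupoid scheme along `h : V ⟶ U` -/
noncomputable def restrict : GroupoidScheme S where
  U := V
  R := RV G h
  pU := h ≫ G.pU
  pR := fR G h ≫ G.pR
  s := sV G h
  t := tV G h
  e := mk (𝟙 V) (h ≫ G.e) (𝟙 V) (by rw [Category.assoc, G.e_t, Category.comp_id, Category.id_comp])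
    (by rw [Category.assoc, G.e_s, Category.comp_id, Category.id_comp])
  i := mk (sV G h) (fR G h ≫ G.i) (tV G h) (by rw [Category.assoc, G.i_t, fR_s])
    (by rw [Category.assoc, G.i_s, fR_t])
  c := cV G h
  s_over := by rw [← G.s_over, fR_s_assoc]
  t_over := by rw [← G.t_over, fR_t_assoc]
  comp_s := by
    intro T α β hc
    rw [lift_cV hc, mk_sV]
  comp_t := by
    intro T α β hc
    rw [lift_cV hc, mk_tV]
  assoc := by
    intro T α β γ h₁ h₂
    have k1 : ∀ (x y : T ⟶ RV G h) (hx : x ≫ sV G h = y ≫ tV G h),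
        (pullback.lift x y hx ≫ cV G h) ≫ fR G h = cmp G (x ≫ fR G h) (y ≫ fR G h) :=
      fun x y hx => by rw [lift_cV hx, mk_fR]
    have k2 : ∀ (x y : T ⟶ RV G h) (hx : x ≫ sV G h = y ≫ tV G h),
        (pullback.lift x y hx ≫ cV G h) ≫ sV G h = y ≫ sV G h :=
      fun x y hx => by rw [lift_cV hx, mk_sV]
    have k3 : ∀ (x y : T ⟶ RV G h) (hx : x ≫ sV G h = y ≫ tV G h),
        (pullback.lift x y hx ≫ cV G h) ≫ tV G h = x ≫ tV G h :=
      fun x y hx => by rw [lift_cV hx, mk_tV]
    apply hom_ext'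
    · rw [k1, k1, k1, k1]
      exact cmp_assoc (pt_cond h₁) (pt_cond h₂)
    · rw [k2, k2, k2]
    · rw [k3, k3, k3]
  e_s := mk_sV _ _ _ _ _
  e_t := mk_tV _ _ _ _ _
  comp_e := by
    intro T α
    rw [lift_cV]
    apply hom_ext'
    · rw [mk_fR]
      simp only [Category.assoc, mk_fR]
      rw [← Category.assoc, ← Category.assoc]
      apply cmp_e_right
      rw [Category.assoc, fR_s, Category.assoc]
    · simp
    · simp
  e_comp := by
    intro T α
    rw [lift_cV]
    apply hom_ext'
    · rw [mk_fR]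
      simp only [Category.assoc, mk_fR]
      rw [← Category.assoc, ← Category.assoc]
      apply cmp_e_left
      rw [Category.assoc, fR_t, Category.assoc]
    · simp
    · simp
  i_s := mk_sV _ _ _ _ _
  i_t := mk_tV _ _ _ _ _
  comp_i := by
    intro T α
    rw [lift_cV]
    apply hom_ext'
    · rw [mk_fR]
      simp only [Category.assoc, mk_fR]
      rw [← Category.assoc (α) (fR G h) G.i, cmp_i_right]
      simp only [Category.assoc, fR_t_assoc]
    · simp
    · simp
  i_comp := by
    intro T α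
    rw [lift_cV]
    apply hom_ext'
    · rw [mk_fR]
      simp only [Category.assoc, mk_fR]
      rw [← Category.assoc (α) (fR G h) G.i, cmp_i_left]
      simp only [Category.assoc, fR_s_assoc]
    · simp
    · simp

/-- the canonical morphism from the restriction -/
noncomputable def restrictHom : GroupoidScheme.Hom (restrict G h) G where
  fU := h
  fR := fR G h
  fU_over := rfl
  comm_s := fR_s G h
  comm_t := fR_t G h
  comm_c := by
    intro T α β hc
    have hc' : α ≫ sV G h = β ≫ tV G h := hc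
    have h1 : pullback.lift α β hc ≫ (restrict G h).c = pullback.lift α β hc' ≫ cV G h := rfl
    rw [h1, lift_cV hc', mk_fR, cmp_eq (pt_cond hc')]

theorem restrict_j_fst : (restrict G h).j ≫ pullback.fst _ _ = tV G h := by
  unfold GroupoidScheme.j
  exact pullback.lift_fst _ _ _

theorem restrict_j_snd : (restrict G h).j ≫ pullback.snd _ _ = sV G h := by
  unfold GroupoidScheme.j
  exact pullback.lift_snd _ _ _

theorem isPullback_j :
    IsPullback (restrictHom G h).fR (restrict G h).j G.j
      (pullback.map (restrict G h).pU (restrict G h).pU G.pU G.pU (restrictHom G h).fU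
        (restrictHom G h).fU (𝟙 S)
        ((Category.comp_id _).trans (restrictHom G h).fU_over.symm)
        ((Category.comp_id _).trans (restrictHom G h).fU_over.symm)) := by
  have hjt : G.j ≫ pullback.fst _ _ = G.t := by
    unfold GroupoidScheme.j; exact pullback.lift_fst _ _ _
  have hjs : G.j ≫ pullback.snd _ _ = G.s := by
    unfold GroupoidScheme.j; exact pullback.lift_snd _ _ _
  refine IsPullback.mk ⟨?_⟩ ⟨PullbackCone.IsLimit.mk _ ?_ ?_ ?_ ?_⟩
  · apply pullback.hom_ext
    · rw [Category.assoc, hjt, Category.assoc, pullback.lift_fst, ← Category.assoc,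
        restrict_j_fst]
      exact fR_t G h
    · rw [Category.assoc, hjs, Category.assoc, pullback.lift_snd, ← Category.assoc,
        restrict_j_snd]
      exact fR_s G h
  · intro c
    refine mk (c.snd ≫ pullback.fst _ _) c.fst (c.snd ≫ pullback.snd _ _) ?_ ?_
    · have := c.condition =≫ pullback.fst _ _
      rw [Category.assoc, hjt, Category.assoc, pullback.lift_fst] at this
      rw [this, Category.assoc]; rfl
    · have := c.condition =≫ pullback.snd _ _
      rw [Category.assoc, hjs, Category.assoc, pullback.lift_snd] at this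
      rw [this, Category.assoc]; rfl
  · intro c
    exact mk_fR _ _ _ _ _
  · intro c
    apply pullback.hom_ext
    · rw [Category.assoc, restrict_j_fst]; exact mk_tV _ _ _ _ _
    · rw [Category.assoc, restrict_j_snd]; exact mk_sV _ _ _ _ _
  · intro c m h1 h2
    apply hom_ext'
    · rw [mk_fR]; exact h1
    · rw [mk_sV, ← h2, Category.assoc, restrict_j_snd]
    · rw [mk_tV, ← h2, Category.assoc, restrict_j_fst]

end grpd

end Groth.Agent.Lib.Helper3.Spl
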