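import Mathlib

set_option autoImplicit false
universe u

namespace Groth.Agent.Lib.Helper3.Spl

open CategoryTheory CategoryTheory.Limits AlgebraicGeometry

set_option backward.isDefEq.respectTransparency false

/-- points of a pullback square surject onto compatible pairs of points -/
theorem exists_preimage_of_isPullback {P X Y Z : Scheme.{u}} {fst : P ⟶ X} {snd : P ⟶ Y}
    {f : X ⟶ Z} {g : Y ⟶ Z} (sq : IsPullback fst snd f g) (x : X) (y : Y) (hxy : f x = g y) :
    ∃ p : P, fst p = x ∧ snd p = y := by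
  obtain ⟨z, hz1, hz2⟩ := Scheme.Pullback.exists_preimage_pullback x y hxy
  refine ⟨sq.isoPullback.inv z, ?_, ?_⟩
  · rw [← Scheme.Hom.comp_apply, sq.isoPullback_inv_fst]; exact hz1
  · rw [← Scheme.Hom.comp_apply, sq.isoPullback_inv_snd]; exact hz2

/-- the locus of points of the base over which two subsets of the total space have the same
fibre -/
def eqLoc {X Y : Scheme.{u}} (f : X ⟶ Y) (A B : Set X) : Set Y :=
  {y | ∀ x, f x = y → (x ∈ A ↔ x ∈ B)}

theorem preimage_eqLoc {X' X Y' Y : Scheme.{u}} {g' : X' ⟶ X} {f' : X' ⟶ Y'} {f : X ⟶ Y}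
    {h : Y' ⟶ Y} (sq : IsPullback g' f' f h) (A B : Set X) :
    h ⁻¹' eqLoc f A B = eqLoc f' (g' ⁻¹' A) (g' ⁻¹' B) := by
  ext y'
  constructor
  · intro hy x' hx'
    have : f (g' x') = h y' := by
      rw [← Scheme.Hom.comp_apply, sq.w, Scheme.Hom.comp_apply, hx']
    exact hy (g' x') this
  · intro hy x hx
    obtain ⟨x', rfl, hx'2⟩ := exists_preimage_of_isPullback sq x y' hx
    exact hy x' hx'2

/-- an open and closed part of `X` that is finite over `Y` -/
structure FinClopen {X Y : Scheme.{u}} (f : X ⟶ Y) (A : X.Opens) : Prop where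
  isClosed : IsClosed (A : Set X)
  isFinite : IsFinite (A.ι ≫ f)

theorem FinClopen.isClosed_image {X Y : Scheme.{u}} {f : X ⟶ Y} {A : X.Opens}
    (hA : FinClopen f A) {K : Set X} (hK : IsClosed K) (hKA : K ⊆ A) : IsClosed (f '' K) := by
  have := hA.isFinite
  have h1 : f '' K = (A.ι ≫ f) '' (A.ι ⁻¹' K) := by
    ext y
    constructor
    · rintro ⟨x, hx, rfl⟩
      exact ⟨⟨x, hKA hx⟩, hx, rfl⟩
    · rintro ⟨a, ha, rfl⟩
      exact ⟨A.ι a, ha, rfl⟩
  rw [h1]
  exact (A.ι ≫ f).isClosedMap _ (hK.preimage A.ι.continuous)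

theorem FinClopen.preimage {X' X Y' Y : Scheme.{u}} {g' : X' ⟶ X} {f' : X' ⟶ Y'} {f : X ⟶ Y}
    {h : Y' ⟶ Y} (sq : IsPullback g' f' f h) {A : X.Opens} (hA : FinClopen f A) :
    FinClopen f' (g' ⁻¹ᵁ A) := by
  refine ⟨hA.isClosed.preimage g'.continuous, ?_⟩
  have sq2 := (isPullback_morphismRestrict g' A).paste_vert sq
  exact MorphismProperty.of_isPullback (P := @IsFinite) sq2 hA.isFinite

theorem isClopen_eqLoc {X Y : Scheme.{u}} (f : X ⟶ Y) (hf : IsOpenMap f) {A B : X.Opens}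
    (hA : FinClopen f A) (hB : FinClopen f B) : IsClopen (eqLoc f (A : Set X) (B : Set X)) := by
  have h1 : eqLoc f (A : Set X) (B : Set X) =
      (f '' ((A : Set X) \ B) ∪ f '' ((B : Set X) \ A))ᶜ := by
    ext y
    simp only [eqLoc, Set.mem_ofPred_eq, Set.mem_compl_iff, Set.mem_union, Set.mem_image,
      Set.mem_sdiff, not_or, not_exists, not_and]
    constructor
    · intro hy
      refine ⟨fun x hx hxy => hx.2 ((hy x hxy).1 hx.1), fun x hx hxy => hx.2 ((hy x hxy).2 hx.1)⟩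
    · rintro ⟨h1, h2⟩ x hxy
      constructor
      · intro hxA
        by_contra hxB
        exact h1 x ⟨hxA, hxB⟩ hxy
      · intro hxB
        by_contra hxA
        exact h2 x ⟨hxB, hxA⟩ hxy
  rw [h1]
  constructor
  · -- closed : complement of an open set
    rw [isClosed_compl_iff]
    exact (hf _ (A.2.sdiff hB.isClosed)).union (hf _ (B.2.sdiff hA.isClosed))
  · rw [isOpen_compl_iff]
    exact (hA.isClosed_image (hA.isClosed.sdiff B.2) Set.sdiff_subset).union
      (hB.isClosed_image (hB.isClosed.sdiff A.2) Set.sdiff_subset)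

theorem range_subset_eqLoc_iff {X Y T XT : Scheme.{u}} {f : X ⟶ Y} {ρ : T ⟶ Y} {g' : XT ⟶ X}
    {f' : XT ⟶ T} (sq : IsPullback g' f' f ρ) (A B : Set X) :
    Set.range ρ ⊆ eqLoc f A B ↔ ∀ x : XT, g' x ∈ A ↔ g' x ∈ B := by
  constructor
  · intro hr x
    have h1 : ρ (f' x) ∈ eqLoc f A B := hr ⟨f' x, rfl⟩
    refine h1 (g' x) ?_
    rw [← Scheme.Hom.comp_apply, sq.w, Scheme.Hom.comp_apply]
  · rintro hx _ ⟨t, rfl⟩
    have : t ∈ ρ ⁻¹' eqLoc f A B := by
      rw [preimage_eqLoc sq]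
      intro x _
      exact hx x
    exact this

end Groth.Agent.Lib.Helper3.Spl
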