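import Mathlib
import Groth.Prelude.Def_Grpd
import Groth.Agent.Lib.Helper3.GrpdPt
import Groth.Agent.Lib.Helper3.SplA
import Groth.Agent.Lib.Helper3.SplB

set_option autoImplicit false
universe u

namespace Groth.Agent.Lib.Helper3.Spl

open CategoryTheory CategoryTheory.Limits AlgebraicGeometry Grpd
open Groth.Agent.Lib.Helper3 Groth.Agent.Lib.Helper3.GP

set_option backward.isDefEq.respectTransparency false

section

variable {S : Scheme.{u}} {G : GroupoidScheme S} {V : Scheme.{u}} {h : V ⟶ G.U}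

/-- the `Y`-point `(x, b)` of `X_h = R ×_{s,U,h} V` -/
noncomputable def pt {Y : Scheme.{u}} (x : Y ⟶ G.R) (b : Y ⟶ V) (hx : x ≫ G.s = b ≫ h) :
    Y ⟶ XX G h := pullback.lift x b hx

@[simp] theorem pt_fst {Y : Scheme.{u}} (x : Y ⟶ G.R) (b : Y ⟶ V) (hx : x ≫ G.s = b ≫ h) :
    pt x b hx ≫ pullback.fst _ _ = x := pullback.lift_fst _ _ _

@[simp] theorem pt_snd {Y : Scheme.{u}} (x : Y ⟶ G.R) (b : Y ⟶ V) (hx : x ≫ G.s = b ≫ h) :
    pt x b hx ≫ pullback.snd _ _ = b := pullback.lift_snd _ _ _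

theorem precomp_pt {Y Y' : Scheme.{u}} (w : Y' ⟶ Y) (x : Y ⟶ G.R) (b : Y ⟶ V)
    (hx : x ≫ G.s = b ≫ h) :
    w ≫ pt x b hx = pt (w ≫ x) (w ≫ b) (by rw [Category.assoc, hx, Category.assoc]) := by
  apply pullback.hom_ext <;> simp [pt]

theorem pt_congr {Y : Scheme.{u}} {x x' : Y ⟶ G.R} {b b' : Y ⟶ V} (e1 : x = x') (e2 : b = b')
    (hx : x ≫ G.s = b ≫ h) : pt x b hx = pt x' b' (by subst e1 e2; exact hx) := by
  subst e1 e2; rfl

theorem pt_ext {Y : Scheme.{u}} {ξ ξ' : Y ⟶ XX G h}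
    (e1 : ξ ≫ pullback.fst _ _ = ξ' ≫ pullback.fst _ _)
    (e2 : ξ ≫ pullback.snd _ _ = ξ' ≫ pullback.snd _ _) : ξ = ξ' :=
  pullback.hom_ext e1 e2

end

section InP

variable {S : Scheme.{u}} (G : GroupoidScheme S) {V : Scheme.{u}} (h : V ⟶ G.U)
  (Z : (XX G h).Opens)

/-- the `T`-point `(a, r, b)` of the restriction carries the family `Z_b` to the family `Z_a`
under right translation by `r` -/
def InP {T : Scheme.{u}} (a : T ⟶ V) (r : T ⟶ G.R) (b : T ⟶ V) : Prop :=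
  ∀ (Y : Scheme.{u}) (x : Y ⟶ G.R) (y : Y ⟶ T) (hx : x ≫ G.s = (y ≫ a) ≫ h)
    (hx' : cmp G x (y ≫ r) ≫ G.s = (y ≫ b) ≫ h) (p : Y),
    pt x (y ≫ a) hx p ∈ Z ↔ pt (cmp G x (y ≫ r)) (y ≫ b) hx' p ∈ Z

variable {G h Z}

theorem InP.precomp {T T' : Scheme.{u}} {a : T ⟶ V} {r : T ⟶ G.R} {b : T ⟶ V}
    (H : InP G h Z a r b) (w : T' ⟶ T) : InP G h Z (w ≫ a) (w ≫ r) (w ≫ b) := by
  intro Y x y hx hx' p
  have e1 : pt x (y ≫ w ≫ a) hx = pt x ((y ≫ w) ≫ a) (by rw [hx]; simp) :=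
    pt_congr rfl (Category.assoc _ _ _).symm _
  have e2 : pt (cmp G x (y ≫ w ≫ r)) (y ≫ w ≫ b) hx' =
      pt (cmp G x ((y ≫ w) ≫ r)) ((y ≫ w) ≫ b)
        (by rw [Category.assoc, Category.assoc]; exact hx') :=
    pt_congr (by rw [Category.assoc]) (Category.assoc _ _ _).symm _
  rw [e1, e2]
  exact H Y x (y ≫ w) _ _ p

theorem inP_id (b : V ⟶ V) (hb : b = 𝟙 V) : InP G h Z b (h ≫ G.e) b := by
  subst hb
  intro Y x y hx hx' p
  have : cmp G x (y ≫ h ≫ G.e) = x := by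
    rw [← Category.assoc]
    apply cmp_e_right
    rw [hx]; simp
  rw [pt_congr this rfl]

theorem InP.comp {T : Scheme.{u}} {a a' b : T ⟶ V} {r r' : T ⟶ G.R}
    (hrt : r ≫ G.t = a ≫ h) (hrs : r ≫ G.s = b ≫ h) (hr't : r' ≫ G.t = a' ≫ h)
    (hr's : r' ≫ G.s = a ≫ h)
    (H : InP G h Z a r b) (H' : InP G h Z a' r' a) : InP G h Z a' (cmp G r' r) b := by
  intro Y x y hx hx' p
  have c1 : x ≫ G.s = (y ≫ r') ≫ G.t := by
    rw [hx, Category.assoc, Category.assoc, hr't]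
  have c2 : (y ≫ r') ≫ G.s = (y ≫ r) ≫ G.t := by
    rw [Category.assoc, Category.assoc, hr's, hrt]
  have c3 : r' ≫ G.s = r ≫ G.t := by rw [hr's, hrt]
  have k1 : cmp G x (y ≫ r') ≫ G.s = (y ≫ a) ≫ h := by
    rw [cmp_s c1, Category.assoc, hr's, Category.assoc]
  have k2 : cmp G (cmp G x (y ≫ r')) (y ≫ r) ≫ G.s = (y ≫ b) ≫ h := by
    rw [cmp_s ((cmp_s c1).trans c2), Category.assoc, hrs, Category.assoc]
  have e : cmp G x (y ≫ cmp G r' r) = cmp G (cmp G x (y ≫ r')) (y ≫ r) := by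
    rw [precomp_cmp y c3, cmp_assoc c1 c2]
  rw [H' Y x y hx k1 p, H Y (cmp G x (y ≫ r')) y k1 k2 p, pt_congr e rfl]

theorem InP.inv {T : Scheme.{u}} {a b : T ⟶ V} {r : T ⟶ G.R} (hrs : r ≫ G.s = b ≫ h)
    (H : InP G h Z a r b) : InP G h Z b (r ≫ G.i) a := by
  intro Y x y hx hx' p
  have c1 : x ≫ G.s = (y ≫ r ≫ G.i) ≫ G.t := by
    rw [hx, Category.assoc, Category.assoc, Category.assoc, G.i_t, hrs]
  have c2 : (y ≫ r ≫ G.i) ≫ G.s = (y ≫ r) ≫ G.t := by
    simp only [Category.assoc, G.i_s]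
  have k1 : cmp G x (y ≫ r ≫ G.i) ≫ G.s = (y ≫ a) ≫ h := hx'
  have e : cmp G (cmp G x (y ≫ r ≫ G.i)) (y ≫ r) = x := by
    rw [cmp_assoc c1 c2]
    have : cmp G (y ≫ r ≫ G.i) (y ≫ r) = ((y ≫ r) ≫ G.s) ≫ G.e := by
      rw [← Category.assoc]; exact cmp_i_left (y ≫ r)
    rw [this]
    apply cmp_e_right
    rw [hx]; simp [hrs]
  have k2 : cmp G (cmp G x (y ≫ r ≫ G.i)) (y ≫ r) ≫ G.s = (y ≫ b) ≫ h := by
    rw [e]; exact hx
  rw [H Y (cmp G x (y ≫ r ≫ G.i)) y k1 k2 p, pt_congr e rfl]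

end InP

section Pdef

variable {S : Scheme.{u}} (G : GroupoidScheme S) {V : Scheme.{u}} (h : V ⟶ G.U)

/-- `M = R ×_{s,U} R_V` (over `t_V ≫ h`) -/
noncomputable abbrev MM : Scheme.{u} := pullback G.s (tV G h ≫ h)

/-- `(x, ρ) ↦ (x, t ρ)` -/
noncomputable def m₁ : MM G h ⟶ XX G h :=
  pt (pullback.fst _ _) (pullback.snd _ _ ≫ tV G h) (by rw [pullback.condition, Category.assoc])

theorem m_cond : (pullback.fst G.s (tV G h ≫ h)) ≫ G.s =
    (pullback.snd G.s (tV G h ≫ h) ≫ fR G h) ≫ G.t := by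
  rw [pullback.condition, Category.assoc, fR_t]

/-- `(x, ρ) ↦ (x ∘ r, s ρ)` -/
noncomputable def m₂ : MM G h ⟶ XX G h :=
  pt (cmp G (pullback.fst _ _) (pullback.snd _ _ ≫ fR G h)) (pullback.snd _ _ ≫ sV G h)
    (by rw [cmp_s (m_cond G h), Category.assoc, fR_s, Category.assoc])

theorem isPullback_m₁ :
    IsPullback (m₁ G h) (pullback.snd _ _) (pullback.snd G.s h) (tV G h) := by
  have right : IsPullback (pullback.fst G.s h) (pullback.snd G.s h) G.s h :=
    IsPullback.of_hasPullback _ _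
  have big : IsPullback (m₁ G h ≫ pullback.fst G.s h) (pullback.snd G.s (tV G h ≫ h)) G.s
      (tV G h ≫ h) := by
    have : m₁ G h ≫ pullback.fst G.s h = pullback.fst G.s (tV G h ≫ h) := pt_fst _ _ _
    rw [this]
    exact IsPullback.of_hasPullback _ _
  exact IsPullback.of_right big (pt_snd _ _ _) right

theorem isPullback_m₂ :
    IsPullback (m₂ G h) (pullback.snd _ _) (pullback.snd G.s h) (sV G h) := by
  refine IsPullback.mk ⟨pt_snd _ _ _⟩ ⟨PullbackCone.IsLimit.mk _ ?_ ?_ ?_ ?_⟩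
  · intro c
    have hy : (c.fst ≫ pullback.fst _ _) ≫ G.s = ((c.snd ≫ fR G h) ≫ G.i) ≫ G.t := by
      rw [Category.assoc, pullback.condition, ← Category.assoc, c.condition]
      simp only [Category.assoc, G.i_t, fR_s]
    refine pullback.lift (cmp G (c.fst ≫ pullback.fst _ _) ((c.snd ≫ fR G h) ≫ G.i)) c.snd ?_
    rw [cmp_s hy]
    simp only [Category.assoc, G.i_s, fR_t]
  · intro c
    have hy : (c.fst ≫ pullback.fst _ _) ≫ G.s = ((c.snd ≫ fR G h) ≫ G.i) ≫ G.t := by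
      rw [Category.assoc, pullback.condition, ← Category.assoc, c.condition]
      simp only [Category.assoc, G.i_t, fR_s]
    have hy2 : ((c.snd ≫ fR G h) ≫ G.i) ≫ G.s = (c.snd ≫ fR G h) ≫ G.t := by
      simp only [Category.assoc, G.i_s]
    apply pt_ext
    · rw [m₂, Category.assoc, pt_fst, precomp_cmp _ (m_cond G h), pullback.lift_fst,
        pullback.lift_snd_assoc, cmp_assoc hy hy2, cmp_i_left]
      apply cmp_e_right
      rw [Category.assoc, pullback.condition, ← Category.assoc, c.condition]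
      simp only [Category.assoc, fR_s]
    · rw [m₂, Category.assoc, pt_snd, pullback.lift_snd_assoc]
      exact c.condition.symm
  · intro c
    exact pullback.lift_snd _ _ _
  · intro c m hm1 hm2
    have hy : (c.fst ≫ pullback.fst _ _) ≫ G.s = ((c.snd ≫ fR G h) ≫ G.i) ≫ G.t := by
      rw [Category.assoc, pullback.condition, ← Category.assoc, c.condition]
      simp only [Category.assoc, G.i_t, fR_s]
    apply pullback.hom_ext
    · rw [pullback.lift_fst]
      have hm : (m ≫ pullback.fst _ _) ≫ G.s = (c.snd ≫ fR G h) ≫ G.t := by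
        rw [Category.assoc, pullback.condition, ← Category.assoc, hm2]
        simp only [Category.assoc, fR_t]
      have e1 : cmp G (m ≫ pullback.fst _ _) (c.snd ≫ fR G h) = c.fst ≫ pullback.fst _ _ := by
        rw [← hm1, m₂, Category.assoc, pt_fst, precomp_cmp _ (m_cond G h), ← Category.assoc m,
          hm2]
      have hy3 : (c.snd ≫ fR G h) ≫ G.s = ((c.snd ≫ fR G h) ≫ G.i) ≫ G.t := by
        simp only [Category.assoc, G.i_t]
      rw [← e1, cmp_assoc hm hy3, cmp_i_right]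
      symm
      apply cmp_e_right
      exact hm
    · rw [pullback.lift_snd]; exact hm2

/-- the locus of arrows of the restriction carrying `Z` to `Z` under right translation -/
def Pset (Z : (XX G h).Opens) : Set (RV G h) :=
  eqLoc (pullback.snd G.s (tV G h ≫ h)) (m₁ G h ⁻¹' Z) (m₂ G h ⁻¹' Z)

variable {G h}

theorem isClopen_Pset [Flat G.s] [LocallyOfFinitePresentation G.s] {Z : (XX G h).Opens}
    (hZ : FinClopen (pullback.snd G.s h) Z) : IsClopen (Pset G h Z) := by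
  have h1 : FinClopen (pullback.snd G.s (tV G h ≫ h)) (m₁ G h ⁻¹ᵁ Z) :=
    hZ.preimage (isPullback_m₁ G h)
  have h2 : FinClopen (pullback.snd G.s (tV G h ≫ h)) (m₂ G h ⁻¹ᵁ Z) :=
    hZ.preimage (isPullback_m₂ G h)
  exact isClopen_eqLoc _ (pullback.snd G.s (tV G h ≫ h)).isOpenMap h1 h2

theorem range_subset_Pset_iff {Z : (XX G h).Opens} {T : Scheme.{u}} (ρ : T ⟶ RV G h) :
    Set.range ρ ⊆ Pset G h Z ↔ InP G h Z (ρ ≫ tV G h) (ρ ≫ fR G h) (ρ ≫ sV G h) := by
  let g' : pullback G.s (ρ ≫ tV G h ≫ h) ⟶ MM G h :=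
    pullback.lift (pullback.fst _ _) (pullback.snd _ _ ≫ ρ)
      (by rw [pullback.condition, Category.assoc])
  have sq : IsPullback g' (pullback.snd _ _) (pullback.snd G.s (tV G h ≫ h)) ρ := by
    have right : IsPullback (pullback.fst G.s (tV G h ≫ h)) (pullback.snd G.s (tV G h ≫ h)) G.s
        (tV G h ≫ h) := IsPullback.of_hasPullback _ _
    have big : IsPullback (g' ≫ pullback.fst G.s (tV G h ≫ h))
        (pullback.snd G.s (ρ ≫ tV G h ≫ h)) G.s (ρ ≫ tV G h ≫ h) := by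
      have : g' ≫ pullback.fst G.s (tV G h ≫ h) = pullback.fst G.s (ρ ≫ tV G h ≫ h) :=
        pullback.lift_fst _ _ _
      rw [this]
      exact IsPullback.of_hasPullback _ _
    exact IsPullback.of_right big (pullback.lift_snd _ _ _) right
  rw [Pset, range_subset_eqLoc_iff sq]
  have cnd : pullback.fst G.s (ρ ≫ tV G h ≫ h) ≫ G.s =
      (pullback.snd G.s (ρ ≫ tV G h ≫ h) ≫ ρ ≫ fR G h) ≫ G.t := by
    rw [pullback.condition]; simp only [Category.assoc, fR_t]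
  have e1 : g' ≫ m₁ G h = pt (pullback.fst _ _) (pullback.snd _ _ ≫ ρ ≫ tV G h)
      (by rw [pullback.condition]; simp only [Category.assoc]) := by
    rw [m₁, precomp_pt]
    apply pt_congr
    · exact pullback.lift_fst _ _ _
    · simp only [g', pullback.lift_snd_assoc, Category.assoc]
  have e2 : g' ≫ m₂ G h = pt (cmp G (pullback.fst _ _) (pullback.snd _ _ ≫ ρ ≫ fR G h))
      (pullback.snd _ _ ≫ ρ ≫ sV G h)
      (by rw [cmp_s cnd]; simp only [Category.assoc, fR_s]) := by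
    rw [m₂, precomp_pt]
    apply pt_congr
    · rw [precomp_cmp _ (m_cond G h), pullback.lift_fst, pullback.lift_snd_assoc, Category.assoc]
    · simp only [g', pullback.lift_snd_assoc, Category.assoc]
  constructor
  · intro H Y x y hx hx' p
    have hx2 : x ≫ G.s = y ≫ ρ ≫ tV G h ≫ h := by rw [hx]; simp only [Category.assoc]
    let w : Y ⟶ pullback G.s (ρ ≫ tV G h ≫ h) := pullback.lift x y hx2
    have hw1 : w ≫ pullback.fst _ _ = x := pullback.lift_fst _ _ _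
    have hw2 : w ≫ pullback.snd _ _ = y := pullback.lift_snd _ _ _
    have t1 : w ≫ g' ≫ m₁ G h = pt x (y ≫ ρ ≫ tV G h) hx := by
      rw [e1, precomp_pt]
      apply pt_congr
      · exact hw1
      · rw [← Category.assoc, hw2]
    have t2 : w ≫ g' ≫ m₂ G h = pt (cmp G x (y ≫ ρ ≫ fR G h)) (y ≫ ρ ≫ sV G h) hx' := by
      rw [e2, precomp_pt]
      apply pt_congr
      · rw [precomp_cmp _ cnd, hw1, ← Category.assoc, hw2]
      · rw [← Category.assoc, hw2]
    have := H (w p)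
    rw [← t1, ← t2]
    exact this
  · intro H x
    have := H _ (pullback.fst G.s (ρ ≫ tV G h ≫ h)) (pullback.snd G.s (ρ ≫ tV G h ≫ h))
      (by rw [pullback.condition]; simp only [Category.assoc])
      (by rw [cmp_s cnd]; simp only [Category.assoc, fR_s]) x
    have t1 : m₁ G h (g' x) = (g' ≫ m₁ G h) x := rfl
    have t2 : m₂ G h (g' x) = (g' ≫ m₂ G h) x := rfl
    simp only [Set.mem_preimage]
    rw [t1, t2, e1, e2]
    exact this

end Pdef

section Pgrp

variable {S : Scheme.{u}} {G : GroupoidScheme S} [Flat G.s] [LocallyOfFinitePresentation G.s]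
  {V : Scheme.{u}} {h : V ⟶ G.U} {Z : (XX G h).Opens}

/-- the open subscheme `P` of the arrows of the restriction -/
def Pop (hZ : FinClopen (pullback.snd G.s h) Z) : (RV G h).Opens :=
  ⟨Pset G h Z, (isClopen_Pset hZ).isOpen⟩

theorem isClosed_Pop (hZ : FinClopen (pullback.snd G.s h) Z) :
    IsClosed ((Pop hZ : (RV G h).Opens) : Set (RV G h)) := (isClopen_Pset hZ).isClosed

theorem factors_iff (hZ : FinClopen (pullback.snd G.s h) Z) {T : Scheme.{u}} (ρ : T ⟶ RV G h) :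
    (∃ ρ' : T ⟶ (Pop hZ).toScheme, ρ' ≫ (Pop hZ).ι = ρ) ↔
      InP G h Z (ρ ≫ tV G h) (ρ ≫ fR G h) (ρ ≫ sV G h) := by
  rw [← range_subset_Pset_iff]
  constructor
  · rintro ⟨ρ', rfl⟩ _ ⟨t, rfl⟩
    have : (ρ' ≫ (Pop hZ).ι) t = (Pop hZ).ι (ρ' t) := rfl
    rw [this]
    exact (ρ' t).2
  · intro H
    have H' : Set.range ρ ⊆ Set.range (Pop hZ).ι := by
      rw [Scheme.Opens.range_ι]; exact H
    exact ⟨IsOpenImmersion.lift (Pop hZ).ι ρ H', IsOpenImmersion.lift_fac _ _ _⟩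

theorem inP_ι (hZ : FinClopen (pullback.snd G.s h) Z) :
    InP G h Z ((Pop hZ).ι ≫ tV G h) ((Pop hZ).ι ≫ fR G h) ((Pop hZ).ι ≫ sV G h) :=
  (factors_iff hZ _).1 ⟨𝟙 _, Category.id_comp _⟩

theorem exists_eP (hZ : FinClopen (pullback.snd G.s h) Z) :
    ∃ eP : V ⟶ (Pop hZ).toScheme, eP ≫ (Pop hZ).ι = (restrict G h).e := by
  rw [factors_iff]
  have h1 : (restrict G h).e ≫ tV G h = 𝟙 V := (restrict G h).e_t
  have h2 : (restrict G h).e ≫ sV G h = 𝟙 V := (restrict G h).e_s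
  have h3 : (restrict G h).e ≫ fR G h = h ≫ G.e := by simp [restrict]
  rw [h1, h2, h3]
  exact inP_id _ rfl

theorem exists_iP (hZ : FinClopen (pullback.snd G.s h) Z) :
    ∃ iP : (Pop hZ).toScheme ⟶ (Pop hZ).toScheme,
      iP ≫ (Pop hZ).ι = (Pop hZ).ι ≫ (restrict G h).i := by
  rw [factors_iff]
  have h1 : (restrict G h).i ≫ tV G h = sV G h := (restrict G h).i_t
  have h2 : (restrict G h).i ≫ sV G h = tV G h := (restrict G h).i_s
  have h3 : (restrict G h).i ≫ fR G h = fR G h ≫ G.i := by simp [restrict]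
  simp only [Category.assoc, h1, h2, h3]
  have := (inP_ι hZ).inv (by rw [Category.assoc, fR_s, Category.assoc])
  simpa only [Category.assoc] using this

theorem exists_cP (hZ : FinClopen (pullback.snd G.s h) Z) :
    ∃ cP : pullback ((Pop hZ).ι ≫ (restrict G h).s) ((Pop hZ).ι ≫ (restrict G h).t) ⟶
        (Pop hZ).toScheme,
      cP ≫ (Pop hZ).ι = pullback.map ((Pop hZ).ι ≫ (restrict G h).s)
        ((Pop hZ).ι ≫ (restrict G h).t) (restrict G h).s (restrict G h).t (Pop hZ).ι (Pop hZ).ι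
        (𝟙 (restrict G h).U) (Category.comp_id _) (Category.comp_id _) ≫ (restrict G h).c := by
  rw [factors_iff]
  have hcond : (pullback.fst ((Pop hZ).ι ≫ (restrict G h).s) ((Pop hZ).ι ≫ (restrict G h).t) ≫
      (Pop hZ).ι) ≫ sV G h =
      (pullback.snd ((Pop hZ).ι ≫ (restrict G h).s) ((Pop hZ).ι ≫ (restrict G h).t) ≫
        (Pop hZ).ι) ≫ tV G h := by
    rw [Category.assoc, Category.assoc]; exact pullback.condition
  have hmap : pullback.map ((Pop hZ).ι ≫ (restrict G h).s) ((Pop hZ).ι ≫ (restrict G h).t)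
      (restrict G h).s (restrict G h).t (Pop hZ).ι (Pop hZ).ι (𝟙 (restrict G h).U)
      (Category.comp_id _) (Category.comp_id _) =
      pullback.lift (f := sV G h) (g := tV G h) _ _ hcond := by
    unfold pullback.map
    apply pullback.hom_ext
    · rw [pullback.lift_fst]; exact (pullback.lift_fst _ _ _).symm
    · rw [pullback.lift_snd]; exact (pullback.lift_snd _ _ _).symm
  have hc : (restrict G h).c = cV G h := rfl
  rw [hmap, hc, lift_cV hcond, mk_tV, mk_fR, mk_sV]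
  have H1 := (inP_ι hZ).precomp
    (pullback.fst ((Pop hZ).ι ≫ (restrict G h).s) ((Pop hZ).ι ≫ (restrict G h).t))
  have H2 := (inP_ι hZ).precomp
    (pullback.snd ((Pop hZ).ι ≫ (restrict G h).s) ((Pop hZ).ι ≫ (restrict G h).t))
  have e : pullback.snd ((Pop hZ).ι ≫ (restrict G h).s) ((Pop hZ).ι ≫ (restrict G h).t) ≫
      (Pop hZ).ι ≫ tV G h =
      pullback.fst ((Pop hZ).ι ≫ (restrict G h).s) ((Pop hZ).ι ≫ (restrict G h).t) ≫
        (Pop hZ).ι ≫ sV G h := by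
    rw [← Category.assoc, ← Category.assoc, hcond]
  rw [e] at H2
  have := InP.comp
    (by have := e =≫ h; simpa only [Category.assoc, fR_t] using this)
    (by simp only [Category.assoc, fR_s])
    (by simp only [Category.assoc, fR_t])
    (by simp only [Category.assoc, fR_s]) H2 H1
  simpa only [Category.assoc] using this

/-- the morphism `P ⟶ X_h`, `(a, r, b) ↦ (r, b)` -/
noncomputable def kap (hZ : FinClopen (pullback.snd G.s h) Z) : (Pop hZ).toScheme ⟶ XX G h :=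
  (Pop hZ).ι ≫ toX G h

/-- the identity section of `X_h` -/
noncomputable def eX (G : GroupoidScheme S) (h : V ⟶ G.U) : V ⟶ XX G h :=
  pt (h ≫ G.e) (𝟙 V) (by rw [Category.assoc, G.e_s, Category.comp_id, Category.id_comp])

theorem kap_mem (hZ : FinClopen (pullback.snd G.s h) Z) (he : ∀ v : V, eX G h v ∈ Z)
    (p : (Pop hZ).toScheme) : kap hZ p ∈ Z := by
  obtain ⟨ι, hι⟩ : ∃ ι, ι = (Pop hZ).ι := ⟨_, rfl⟩
  have hin := inP_ι hZ
  unfold kap
  rw [← hι] at hin ⊢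
  have hx : ((ι ≫ tV G h ≫ h) ≫ G.e) ≫ G.s = (𝟙 _ ≫ ι ≫ tV G h) ≫ h := by
    simp only [Category.assoc, G.e_s, Category.comp_id, Category.id_comp]
  have ecmp : cmp G ((ι ≫ tV G h ≫ h) ≫ G.e) (𝟙 _ ≫ ι ≫ fR G h) = ι ≫ fR G h := by
    rw [Category.id_comp]
    apply cmp_e_left
    simp only [Category.assoc, fR_t]
  have hx' : cmp G ((ι ≫ tV G h ≫ h) ≫ G.e) (𝟙 _ ≫ ι ≫ fR G h) ≫ G.s =
      (𝟙 _ ≫ ι ≫ sV G h) ≫ h := by
    rw [ecmp]; simp only [Category.assoc, fR_s, Category.id_comp]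
  have := hin _ ((ι ≫ tV G h ≫ h) ≫ G.e) (𝟙 _) hx hx' p
  have e1 : pt ((ι ≫ tV G h ≫ h) ≫ G.e) (𝟙 _ ≫ ι ≫ tV G h) hx = (ι ≫ tV G h) ≫ eX G h := by
    rw [eX, precomp_pt]
    apply pt_congr
    · simp only [Category.assoc]
    · simp only [Category.id_comp, Category.comp_id]
  have e2 : pt (cmp G ((ι ≫ tV G h ≫ h) ≫ G.e) (𝟙 _ ≫ ι ≫ fR G h)) (𝟙 _ ≫ ι ≫ sV G h) hx' =
      ι ≫ toX G h := by
    apply pt_ext
    · rw [pt_fst, ecmp, Category.assoc]; rfl
    · rw [pt_snd, Category.id_comp, Category.assoc]; rfl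
  rw [e1, e2] at this
  exact this.1 (he _)

/-- the monomorphism property of the family `Z`: a point of `V` is determined by its image in
`U` and the fibre of `Z` over it -/
def MonoZ (G : GroupoidScheme S) (h : V ⟶ G.U) (Z : (XX G h).Opens) : Prop :=
  ∀ {T : Scheme.{u}} (c : T ⟶ G.U) (b₁ b₂ : T ⟶ V) (h₁ : b₁ ≫ h = c) (h₂ : b₂ ≫ h = c),
    (∀ x : (pullback G.s c : Scheme.{u}),
      pt (pullback.fst G.s c) (pullback.snd G.s c ≫ b₁)
          (by rw [pullback.condition, Category.assoc, h₁]) x ∈ Z ↔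
        pt (pullback.fst G.s c) (pullback.snd G.s c ≫ b₂)
          (by rw [pullback.condition, Category.assoc, h₂]) x ∈ Z) → b₁ = b₂

theorem mono_kap (hZ : FinClopen (pullback.snd G.s h) Z) (hm : MonoZ G h Z) : Mono (kap hZ) := by
  constructor
  intro T ρ₁ ρ₂ hρ
  obtain ⟨ι, hι⟩ : ∃ ι, ι = (Pop hZ).ι := ⟨_, rfl⟩
  have hin := inP_ι hZ
  unfold kap at hρ
  rw [← hι] at hin hρ
  have hfR : ρ₁ ≫ ι ≫ fR G h = ρ₂ ≫ ι ≫ fR G h := by
    have := hρ =≫ pullback.fst _ _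
    simpa only [Category.assoc, toX_fst] using this
  have hsV : ρ₁ ≫ ι ≫ sV G h = ρ₂ ≫ ι ≫ sV G h := by
    have := hρ =≫ pullback.snd _ _
    simpa only [Category.assoc, toX_snd] using this
  have H1 := hin.precomp ρ₁
  have H2 := hin.precomp ρ₂
  rw [← hfR, ← hsV] at H2
  have hfRt : ρ₁ ≫ ι ≫ fR G h ≫ G.t = ρ₂ ≫ ι ≫ tV G h ≫ h := by
    have := hfR =≫ G.t
    simpa only [Category.assoc, fR_t] using this
  have htV : ρ₁ ≫ ι ≫ tV G h = ρ₂ ≫ ι ≫ tV G h := by
    refine hm (ρ₁ ≫ ι ≫ fR G h ≫ G.t) _ _ (by simp only [Category.assoc, fR_t])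
      (by rw [hfRt]; simp only [Category.assoc]) ?_
    intro x
    have c0 : pullback.fst G.s (ρ₁ ≫ ι ≫ fR G h ≫ G.t) ≫ G.s =
        (pullback.snd G.s (ρ₁ ≫ ι ≫ fR G h ≫ G.t) ≫ ρ₁ ≫ ι ≫ fR G h) ≫ G.t := by
      rw [pullback.condition]; simp only [Category.assoc]
    have k : cmp G (pullback.fst G.s (ρ₁ ≫ ι ≫ fR G h ≫ G.t))
        (pullback.snd G.s (ρ₁ ≫ ι ≫ fR G h ≫ G.t) ≫ ρ₁ ≫ ι ≫ fR G h) ≫ G.s =
        (pullback.snd G.s (ρ₁ ≫ ι ≫ fR G h ≫ G.t) ≫ ρ₁ ≫ ι ≫ sV G h) ≫ h := by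
      rw [cmp_s c0]; simp only [Category.assoc, fR_s]
    rw [H1 _ (pullback.fst _ _) (pullback.snd _ _)
      (by rw [pullback.condition]; simp only [Category.assoc, fR_t]) k x]
    rw [H2 _ (pullback.fst _ _) (pullback.snd _ _)
      (by rw [pullback.condition, hfRt]; simp only [Category.assoc]) k x]
  haveI : Mono ι := by rw [hι]; infer_instance
  rw [← cancel_mono ι]
  apply hom_ext'
  · simpa only [Category.assoc] using hfR
  · simpa only [Category.assoc] using hsV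
  · simpa only [Category.assoc] using htV

theorem isOpenImmersion_kap [Etale h] (hZ : FinClopen (pullback.snd G.s h) Z)
    (hm : MonoZ G h Z) : IsOpenImmersion (kap hZ) := by
  haveI := mono_kap hZ hm
  haveI : Etale (toX G h) := by unfold toX; infer_instance
  haveI : Etale (kap hZ) := by unfold kap; infer_instance
  exact IsOpenImmersion.of_flat_of_mono _

end Pgrp

end Groth.Agent.Lib.Helper3.Spl
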