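import Mathlib
import Groth.Prelude.Def_Grpd
import Groth.Agent.Lib.Helper3.GrpdPt
import Groth.Agent.Lib.Helper3.SplA
import Groth.Agent.Lib.Helper3.SplB
import Groth.Agent.Lib.Helper3.SplC
import Groth.Agent.Lib.Helper4.GrpdDense

set_option autoImplicit false
universe u

namespace Groth.Agent.Lib.Helper3.Spl

open CategoryTheory CategoryTheory.Limits AlgebraicGeometry Grpd
open Groth.Agent.Lib.Helper3 Groth.Agent.Lib.Helper3.GP

set_option backward.isDefEq.respectTransparency false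

theorem pt_apply_congr {S : Scheme.{u}} {G : GroupoidScheme S} {V : Scheme.{u}} {h : V ⟶ G.U}
    {Y : Scheme.{u}} {x x' : Y ⟶ G.R} {b b' : Y ⟶ V} (e1 : x = x') (e2 : b = b')
    (hx : x ≫ G.s = b ≫ h) (hx' : x' ≫ G.s = b' ≫ h) (p : Y) :
    pt x b hx p = pt x' b' hx' p := by
  subst e1 e2; rfl

section restr

variable {S : Scheme.{u}} {G : GroupoidScheme S} {V : Scheme.{u}} {h : V ⟶ G.U} (W : V.Opens)

/-- `X_{h|W} ⟶ X_h` -/
noncomputable def jX (h : V ⟶ G.U) (W : V.Opens) : XX G (W.ι ≫ h) ⟶ XX G h :=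
  pt (pullback.fst _ _) (pullback.snd _ _ ≫ W.ι) (by rw [pullback.condition, Category.assoc])

theorem isPullback_jX :
    IsPullback (jX h W) (pullback.snd _ _) (pullback.snd G.s h) W.ι := by
  have right : IsPullback (pullback.fst G.s h) (pullback.snd G.s h) G.s h :=
    IsPullback.of_hasPullback _ _
  have big : IsPullback (jX h W ≫ pullback.fst G.s h) (pullback.snd G.s (W.ι ≫ h)) G.s
      (W.ι ≫ h) := by
    have : jX h W ≫ pullback.fst G.s h = pullback.fst G.s (W.ι ≫ h) := pt_fst _ _ _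
    rw [this]
    exact IsPullback.of_hasPullback _ _
  exact IsPullback.of_right big (pt_snd _ _ _) right

instance : IsOpenImmersion (jX h W) :=
  MorphismProperty.of_isPullback (P := @IsOpenImmersion) (isPullback_jX W).flip inferInstance

theorem pt_jX {Y : Scheme.{u}} (x : Y ⟶ G.R) (b : Y ⟶ W.toScheme) (hx : x ≫ G.s = b ≫ W.ι ≫ h) :
    pt x b hx ≫ jX h W = pt x (b ≫ W.ι) (by rw [hx, Category.assoc]) := by
  rw [jX, precomp_pt]
  apply pt_congr
  · exact pt_fst _ _ _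
  · rw [← Category.assoc, pt_snd]

/-- the restricted family -/
noncomputable def ZW (Z : (XX G h).Opens) : (XX G (W.ι ≫ h)).Opens := jX h W ⁻¹ᵁ Z

theorem finClopen_ZW {Z : (XX G h).Opens} (hZ : FinClopen (pullback.snd G.s h) Z) :
    FinClopen (pullback.snd G.s (W.ι ≫ h)) (ZW W Z) := hZ.preimage (isPullback_jX W)

theorem eX_jX : eX G (W.ι ≫ h) ≫ jX h W = W.ι ≫ eX G h := by
  rw [eX, pt_jX, eX, precomp_pt]
  apply pt_congr
  · rw [Category.assoc]
  · rw [Category.id_comp, Category.comp_id]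

theorem e_mem_ZW {Z : (XX G h).Opens} (he : ∀ v : V, eX G h v ∈ Z) (w : W.toScheme) :
    eX G (W.ι ≫ h) w ∈ ZW W Z := by
  show jX h W (eX G (W.ι ≫ h) w) ∈ Z
  have : jX h W (eX G (W.ι ≫ h) w) = (eX G (W.ι ≫ h) ≫ jX h W) w := rfl
  rw [this, eX_jX]
  exact he _

theorem monoZ_ZW {Z : (XX G h).Opens} (hm : MonoZ G h Z) : MonoZ G (W.ι ≫ h) (ZW W Z) := by
  intro T c b₁ b₂ h₁ h₂ H
  rw [← cancel_mono W.ι]
  refine hm c (b₁ ≫ W.ι) (b₂ ≫ W.ι) (by rw [Category.assoc, h₁]) (by rw [Category.assoc, h₂]) ?_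
  intro x
  have e1 := pt_jX W (pullback.fst G.s c) (pullback.snd G.s c ≫ b₁)
    (by rw [pullback.condition, Category.assoc, h₁])
  have e2 := pt_jX W (pullback.fst G.s c) (pullback.snd G.s c ≫ b₂)
    (by rw [pullback.condition, Category.assoc, h₂])
  have := H x
  change jX h W _ ∈ Z ↔ jX h W _ ∈ Z at this
  have t1 : ∀ (f : (pullback G.s c : Scheme.{u}) ⟶ XX G (W.ι ≫ h)),
      jX h W (f x) = (f ≫ jX h W) x := fun _ => rfl
  rw [t1, t1, e1, e2] at this
  convert this using 2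
  · exact pt_apply_congr rfl (Category.assoc _ _ _).symm _ _ _
  · exact pt_apply_congr rfl (Category.assoc _ _ _).symm _ _ _

theorem inP_ZW_iff {Z : (XX G h).Opens} {T : Scheme.{u}} (a : T ⟶ W.toScheme) (r : T ⟶ G.R)
    (b : T ⟶ W.toScheme) :
    InP G (W.ι ≫ h) (ZW W Z) a r b ↔ InP G h Z (a ≫ W.ι) r (b ≫ W.ι) := by
  have t1 : ∀ {Y : Scheme.{u}} (f : Y ⟶ XX G (W.ι ≫ h)) (p : Y),
      jX h W (f p) = (f ≫ jX h W) p := fun _ _ => rfl
  constructor
  · intro H Y x y hx hx' p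
    have hx2 : x ≫ G.s = (y ≫ a) ≫ W.ι ≫ h := by rw [hx]; simp only [Category.assoc]
    have hx2' : cmp G x (y ≫ r) ≫ G.s = (y ≫ b) ≫ W.ι ≫ h := by
      rw [hx']; simp only [Category.assoc]
    have := H Y x y hx2 hx2' p
    change jX h W _ ∈ Z ↔ jX h W _ ∈ Z at this
    rw [t1, t1, pt_jX, pt_jX] at this
    convert this using 2
    · exact pt_apply_congr rfl (Category.assoc _ _ _).symm _ _ _
    · exact pt_apply_congr rfl (Category.assoc _ _ _).symm _ _ _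
  · intro H Y x y hx hx' p
    have hx2 : x ≫ G.s = (y ≫ a ≫ W.ι) ≫ h := by rw [hx]; simp only [Category.assoc]
    have hx2' : cmp G x (y ≫ r) ≫ G.s = (y ≫ b ≫ W.ι) ≫ h := by
      rw [hx']; simp only [Category.assoc]
    have := H Y x y hx2 hx2' p
    change jX h W _ ∈ Z ↔ jX h W _ ∈ Z
    rw [t1, t1, pt_jX, pt_jX]
    convert this using 2
    · exact pt_apply_congr rfl (Category.assoc _ _ _) _ _ _
    · exact pt_apply_congr rfl (Category.assoc _ _ _) _ _ _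

/-- arrows of the restriction to `W` map to arrows of the restriction to `V` -/
noncomputable def jR (h : V ⟶ G.U) (W : V.Opens) : RV G (W.ι ≫ h) ⟶ RV G h :=
  mk (tV G (W.ι ≫ h) ≫ W.ι) (fR G (W.ι ≫ h)) (sV G (W.ι ≫ h) ≫ W.ι)
    (by rw [fR_t, Category.assoc]) (by rw [fR_s, Category.assoc])

@[reassoc] theorem jR_tV : jR h W ≫ tV G h = tV G (W.ι ≫ h) ≫ W.ι := mk_tV _ _ _ _ _
@[reassoc] theorem jR_sV : jR h W ≫ sV G h = sV G (W.ι ≫ h) ≫ W.ι := mk_sV _ _ _ _ _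
@[reassoc] theorem jR_fR : jR h W ≫ fR G h = fR G (W.ι ≫ h) := mk_fR _ _ _ _ _

theorem jR_toX : jR h W ≫ toX G h = toX G (W.ι ≫ h) ≫ jX h W := by
  apply pt_ext
  · rw [Category.assoc, toX_fst, jR_fR, Category.assoc, jX, pt_fst, toX_fst]
  · rw [Category.assoc, toX_snd, jR_sV, Category.assoc, jX, pt_snd, ← Category.assoc, toX_snd]

theorem exists_jR_eq (ρ : RV G h) (hs : sV G h ρ ∈ W) (ht : tV G h ρ ∈ W) :
    ∃ ρ' : RV G (W.ι ≫ h), jR h W ρ' = ρ := by
  let c := (RV G h).fromSpecResidueField ρ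
  have hcs : Set.range (c ≫ sV G h) ⊆ Set.range W.ι := by
    rintro _ ⟨z, rfl⟩
    rw [Scheme.Opens.range_ι]
    have : (c ≫ sV G h) z = sV G h (c z) := rfl
    rw [this, Scheme.fromSpecResidueField_apply]
    exact hs
  have hct : Set.range (c ≫ tV G h) ⊆ Set.range W.ι := by
    rintro _ ⟨z, rfl⟩
    rw [Scheme.Opens.range_ι]
    have : (c ≫ tV G h) z = tV G h (c z) := rfl
    rw [this, Scheme.fromSpecResidueField_apply]
    exact ht
  let a := IsOpenImmersion.lift W.ι (c ≫ tV G h) hct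
  let b := IsOpenImmersion.lift W.ι (c ≫ sV G h) hcs
  have ha : a ≫ W.ι = c ≫ tV G h := IsOpenImmersion.lift_fac _ _ _
  have hb : b ≫ W.ι = c ≫ sV G h := IsOpenImmersion.lift_fac _ _ _
  let ρT : Spec ((RV G h).residueField ρ) ⟶ RV G (W.ι ≫ h) :=
    mk a (c ≫ fR G h) b (by rw [Category.assoc, fR_t, ← Category.assoc a, ha, Category.assoc])
      (by rw [Category.assoc, fR_s, ← Category.assoc b, hb, Category.assoc])
  have hρT : ρT ≫ jR h W = c := by
    apply hom_ext'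
    · rw [Category.assoc, jR_fR, mk_fR]
    · rw [Category.assoc, jR_sV, ← Category.assoc, mk_sV, hb]
    · rw [Category.assoc, jR_tV, ← Category.assoc, mk_tV, ha]
  obtain ⟨z⟩ : Nonempty (Spec ((RV G h).residueField ρ)) := inferInstance
  refine ⟨ρT z, ?_⟩
  have : jR h W (ρT z) = (ρT ≫ jR h W) z := rfl
  rw [this, hρT, Scheme.fromSpecResidueField_apply]

variable [Flat G.s] [LocallyOfFinitePresentation G.s]

theorem pop_ZW {Z : (XX G h).Opens} (hZ : FinClopen (pullback.snd G.s h) Z)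
    (ρ' : RV G (W.ι ≫ h)) : ρ' ∈ Pop (finClopen_ZW W hZ) ↔ jR h W ρ' ∈ Pop hZ := by
  constructor
  · intro hρ
    have H := inP_ι (finClopen_ZW W hZ)
    rw [inP_ZW_iff] at H
    have H2 : InP G h Z (((Pop (finClopen_ZW W hZ)).ι ≫ jR h W) ≫ tV G h)
        (((Pop (finClopen_ZW W hZ)).ι ≫ jR h W) ≫ fR G h)
        (((Pop (finClopen_ZW W hZ)).ι ≫ jR h W) ≫ sV G h) := by
      simpa only [Category.assoc, jR_tV, jR_sV, jR_fR] using H
    obtain ⟨f, hf⟩ := (factors_iff hZ _).2 H2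
    have : jR h W ρ' = ((Pop (finClopen_ZW W hZ)).ι ≫ jR h W) ⟨ρ', hρ⟩ := rfl
    rw [this, ← hf]
    exact (f ⟨ρ', hρ⟩).2
  · intro hρ
    let O : (RV G (W.ι ≫ h)).Opens := jR h W ⁻¹ᵁ (Pop hZ)
    have hO : ρ' ∈ O := hρ
    have hfac : ∃ f : O.toScheme ⟶ (Pop hZ).toScheme, f ≫ (Pop hZ).ι = O.ι ≫ jR h W := by
      have hr : Set.range (O.ι ≫ jR h W) ⊆ Set.range (Pop hZ).ι := by
        rintro _ ⟨z, rfl⟩
        rw [Scheme.Opens.range_ι]
        exact z.2
      exact ⟨IsOpenImmersion.lift _ _ hr, IsOpenImmersion.lift_fac _ _ _⟩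
    have H := (factors_iff hZ _).1 hfac
    have H2 : InP G h Z ((O.ι ≫ tV G (W.ι ≫ h)) ≫ W.ι) (O.ι ≫ fR G (W.ι ≫ h))
        ((O.ι ≫ sV G (W.ι ≫ h)) ≫ W.ι) := by
      simpa only [Category.assoc, jR_tV, jR_sV, jR_fR] using H
    rw [← inP_ZW_iff] at H2
    obtain ⟨f, hf⟩ := (factors_iff (finClopen_ZW W hZ) _).2 H2
    have : ρ' = O.ι ⟨ρ', hO⟩ := rfl
    rw [this, ← hf]
    exact (f ⟨ρ', hO⟩).2

/-- invariance criterion: over an open `W` of `V` above which the whole of `Z` lies in the range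
of `κ` and which is stable under the partial action, `κ_W` is onto `Z_W`. -/
theorem range_kap_ZW [Etale h] {Z : (XX G h).Opens} (hZ : FinClopen (pullback.snd G.s h) Z)
    (ha : ∀ z : XX G h, z ∈ Z → pullback.snd G.s h z ∈ W → z ∈ Set.range (kap hZ))
    (hb : ∀ p : (Pop hZ).toScheme, sV G h ((Pop hZ).ι p) ∈ W → tV G h ((Pop hZ).ι p) ∈ W)
    (z' : XX G (W.ι ≫ h)) (hz' : z' ∈ ZW W Z) : z' ∈ Set.range (kap (finClopen_ZW W hZ)) := by
  have hz : jX h W z' ∈ Z := hz'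
  have hzW : pullback.snd G.s h (jX h W z') ∈ W := by
    have : pullback.snd G.s h (jX h W z') = (jX h W ≫ pullback.snd G.s h) z' := rfl
    rw [this, jX, pt_snd]
    exact (pullback.snd G.s (W.ι ≫ h) z').2
  obtain ⟨p, hp⟩ := ha _ hz hzW
  have hsp : sV G h ((Pop hZ).ι p) ∈ W := by
    have : sV G h ((Pop hZ).ι p) = pullback.snd G.s h (kap hZ p) := rfl
    rw [this, hp]; exact hzW
  have htp := hb p hsp
  obtain ⟨ρ', hρ'⟩ := exists_jR_eq W _ hsp htp
  have hmem : ρ' ∈ Pop (finClopen_ZW W hZ) := by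
    rw [pop_ZW, hρ']; exact p.2
  refine ⟨⟨ρ', hmem⟩, ?_⟩
  apply (jX h W).isOpenEmbedding.injective
  have e1 : jX h W (kap (finClopen_ZW W hZ) ⟨ρ', hmem⟩) = (jR h W ≫ toX G h) ρ' := by
    rw [jR_toX]; rfl
  rw [e1, ← hp]
  have : (jR h W ≫ toX G h) ρ' = toX G h (jR h W ρ') := rfl
  rw [this, hρ']
  rfl

end restr

section fin

variable {S : Scheme.{u}} {G : GroupoidScheme S} {V : Scheme.{u}} {h : V ⟶ G.U}
  [Flat G.s] [LocallyOfFinitePresentation G.s] [Etale h] {Z : (XX G h).Opens}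

theorem isFinite_s (hZ : FinClopen (pullback.snd G.s h) Z) (he : ∀ v : V, eX G h v ∈ Z)
    (hm : MonoZ G h Z) (hsurj : ∀ z : XX G h, z ∈ Z → z ∈ Set.range (kap hZ)) :
    IsFinite ((Pop hZ).ι ≫ (restrict G h).s) := by
  haveI := isOpenImmersion_kap hZ hm
  have hr : Set.range (kap hZ) = Set.range Z.ι := by
    rw [Scheme.Opens.range_ι]
    apply Set.Subset.antisymm
    · rintro _ ⟨p, rfl⟩
      exact kap_mem hZ he p
    · intro z hz
      exact hsurj z hz
  let e := IsOpenImmersion.isoOfRangeEq (kap hZ) Z.ι hr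
  have he' : e.hom ≫ Z.ι = kap hZ := IsOpenImmersion.isoOfRangeEq_hom_fac _ _ _
  have h1 : (Pop hZ).ι ≫ (restrict G h).s = e.hom ≫ (Z.ι ≫ pullback.snd G.s h) := by
    rw [← Category.assoc, he', kap, Category.assoc]; rfl
  rw [h1]
  exact (MorphismProperty.cancel_left_of_respectsIso @IsFinite e.hom _).2 hZ.isFinite

theorem isFinite_t (hZ : FinClopen (pullback.snd G.s h) Z) (he : ∀ v : V, eX G h v ∈ Z)
    (hm : MonoZ G h Z) (hsurj : ∀ z : XX G h, z ∈ Z → z ∈ Set.range (kap hZ)) :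
    IsFinite ((Pop hZ).ι ≫ (restrict G h).t) := by
  obtain ⟨iP, hiP⟩ := exists_iP hZ
  have hii : iP ≫ iP = 𝟙 _ := by
    rw [← cancel_mono (Pop hZ).ι, Category.assoc, hiP, ← Category.assoc, hiP, Category.assoc,
      Groth.Agent.Lib.Helper4.GrpdDense.i_i, Category.id_comp]
    exact Category.comp_id _
  haveI : IsIso iP := ⟨iP, hii, hii⟩
  have h1 : (Pop hZ).ι ≫ (restrict G h).t = iP ≫ ((Pop hZ).ι ≫ (restrict G h).s) := by
    rw [← Category.assoc, hiP, Category.assoc, (restrict G h).i_s]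
  rw [h1]
  exact (MorphismProperty.cancel_left_of_respectsIso @IsFinite iP _).2
    (isFinite_s hZ he hm hsurj)

end fin

end Groth.Agent.Lib.Helper3.Spl
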