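import Mathlib
import Groth.Prelude.Def_Grpd
import Groth.Agent.Lib.Helper3.GrpdPt
import Groth.Agent.Lib.Helper3.GrpdSub
import Groth.Agent.Lib.Helper3.SplA
import Groth.Agent.Lib.Helper3.SplB
import Groth.Agent.Lib.Helper3.SplC
import Groth.Agent.Lib.Helper3.SplD
import Groth.Agent.Lib.Helper4.GrpdAffOpen

set_option autoImplicit false
universe u

namespace Groth.Agent.Lib.Helper3.Spl

open CategoryTheory CategoryTheory.Limits AlgebraicGeometry Grpd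
open Groth.Agent.Lib.Helper3 Groth.Agent.Lib.Helper3.GP

set_option backward.isDefEq.respectTransparency false

section top

variable {P X V : Type*} [TopologicalSpace P] [TopologicalSpace X] [TopologicalSpace V]
  (κ : P → X) (hκ : Topology.IsOpenEmbedding κ) (Z : Set X) (hZc : IsClosed Z)
  (hκZ : Set.range κ ⊆ Z) (π : X → V)
  (hπ : ∀ K : Set X, IsClosed K → K ⊆ Z → IsClosed (π '' K)) (τ : P → V) (hτ : Continuous τ)

/-- the points of `V` over which all of `Z` lies in the range of `κ` -/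
def NN : Set V := {v | ∀ z ∈ Z, π z = v → z ∈ Set.range κ}

include hκ hZc hπ in
theorem isOpen_NN : IsOpen (NN κ Z π) := by
  have h1 : NN κ Z π = (π '' (Z \ Set.range κ))ᶜ := by
    ext v
    simp only [NN, Set.mem_ofPred_eq, Set.mem_compl_iff, Set.mem_image, Set.mem_sdiff, not_exists,
      not_and, and_imp]
    constructor
    · intro H z hz hzr hzv
      exact hzr (H z hz hzv)
    · intro H z hz hzv
      by_contra hzr
      exact H z hz hzr hzv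
  rw [h1, isOpen_compl_iff]
  exact hπ _ (hZc.sdiff hκ.isOpen_range) Set.sdiff_subset

/-- the part of `NN` that is mapped into `NN` by the partial action -/
def WW : Set V := {v | v ∈ NN κ Z π ∧ ∀ p, π (κ p) = v → τ p ∈ NN κ Z π}

include hκ hZc hκZ hπ hτ in
theorem isOpen_WW : IsOpen (WW κ Z π τ) := by
  have hN := isOpen_NN κ hκ Z hZc π hπ
  set C : Set P := τ ⁻¹' (NN κ Z π)ᶜ with hC
  have hCc : IsClosed C := (hN.isClosed_compl).preimage hτ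
  have hKZ : closure (κ '' C) ⊆ Z :=
    closure_minimal ((Set.image_subset_range _ _).trans hκZ) hZc
  have hmem : ∀ p, κ p ∈ closure (κ '' C) → p ∈ C := by
    intro p hp
    have : p ∈ closure C := by
      rw [hκ.isInducing.closure_eq_preimage_closure_image]; exact hp
    rwa [hCc.closure_eq] at this
  have h1 : WW κ Z π τ = NN κ Z π ∩ (π '' closure (κ '' C))ᶜ := by
    ext v
    constructor
    · rintro ⟨hvN, hv⟩
      refine ⟨hvN, ?_⟩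
      rintro ⟨z, hz, rfl⟩
      obtain ⟨p, rfl⟩ := hvN z (hKZ hz) rfl
      exact hmem p hz (hv p rfl)
    · rintro ⟨hvN, hv⟩
      refine ⟨hvN, fun p hp => ?_⟩
      by_contra hn
      exact hv ⟨κ p, subset_closure ⟨p, hn, rfl⟩, hp⟩
  rw [h1]
  exact hN.inter (hπ _ isClosed_closure hKZ).isOpen_compl

end top

section shrink

variable {S : Scheme.{u}} {G : GroupoidScheme S} {V : Scheme.{u}} {h : V ⟶ G.U}
  [Flat G.s] [LocallyOfFinitePresentation G.s] {Z : (XX G h).Opens}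

/-- over the point `v₁` the whole of `Z` lies in the range of `κ`, and the partial action fixes
`v₁` -/
def H2 (hZ : FinClopen (pullback.snd G.s h) Z) (v₁ : V) : Prop :=
  ∀ z₀ : XX G h, z₀ ∈ Z → pullback.snd G.s h z₀ = v₁ →
    ∃ ρ₀ : (Pop hZ).toScheme, kap hZ ρ₀ = z₀ ∧ tV G h ((Pop hZ).ι ρ₀) = v₁

omit [Flat G.s] [LocallyOfFinitePresentation G.s] in
theorem jX_snd_apply (W : V.Opens) (z : XX G (W.ι ≫ h)) :
    pullback.snd G.s h (jX h W z) = W.ι (pullback.snd G.s (W.ι ≫ h) z) := by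
  have : pullback.snd G.s h (jX h W z) = (jX h W ≫ pullback.snd G.s h) z := rfl
  rw [this, jX, pt_snd]; rfl

theorem H2_ZW (hZ : FinClopen (pullback.snd G.s h) Z) (W : V.Opens) (w₁ : W.toScheme)
    (H : H2 hZ (W.ι w₁)) : H2 (finClopen_ZW W hZ) w₁ := by
  intro z₀' hz₀' hw
  have hz₀ : jX h W z₀' ∈ Z := hz₀'
  have hπ : pullback.snd G.s h (jX h W z₀') = W.ι w₁ := by rw [jX_snd_apply, hw]
  obtain ⟨ρ₀, hρ1, hρ2⟩ := H _ hz₀ hπ
  have hs : sV G h ((Pop hZ).ι ρ₀) ∈ W := by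
    have : sV G h ((Pop hZ).ι ρ₀) = pullback.snd G.s h (kap hZ ρ₀) := rfl
    rw [this, hρ1, hπ]; exact w₁.2
  have ht : tV G h ((Pop hZ).ι ρ₀) ∈ W := by rw [hρ2]; exact w₁.2
  obtain ⟨ρ', hρ'⟩ := exists_jR_eq W _ hs ht
  have hmem : ρ' ∈ Pop (finClopen_ZW W hZ) := by
    rw [pop_ZW, hρ']; exact ρ₀.2
  refine ⟨⟨ρ', hmem⟩, ?_, ?_⟩
  · apply (jX h W).isOpenEmbedding.injective
    have e1 : jX h W (kap (finClopen_ZW W hZ) ⟨ρ', hmem⟩) = (jR h W ≫ toX G h) ρ' := by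
      rw [jR_toX]; rfl
    rw [e1, ← hρ1]
    have : (jR h W ≫ toX G h) ρ' = toX G h (jR h W ρ') := rfl
    rw [this, hρ']
    rfl
  · apply W.ι.isOpenEmbedding.injective
    have e1 : W.ι (tV G (W.ι ≫ h) ρ') = (jR h W ≫ tV G h) ρ' := by rw [jR_tV]; rfl
    have e2 : (jR h W ≫ tV G h) ρ' = tV G h (jR h W ρ') := rfl
    show W.ι (tV G (W.ι ≫ h) ρ') = W.ι w₁
    rw [e1, e2, hρ', hρ2]

theorem H2_tV_eq [Etale h] (hZ : FinClopen (pullback.snd G.s h) Z) (he : ∀ v : V, eX G h v ∈ Z)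
    (hm : MonoZ G h Z) {v₁ : V}
    (H : H2 hZ v₁) (p : (Pop hZ).toScheme) (hp : sV G h ((Pop hZ).ι p) = v₁) :
    tV G h ((Pop hZ).ι p) = v₁ := by
  haveI := isOpenImmersion_kap hZ hm
  have hz : kap hZ p ∈ Z := kap_mem hZ he p
  obtain ⟨ρ₀, h1, h2⟩ := H _ hz hp
  have : ρ₀ = p := (kap hZ).isOpenEmbedding.injective h1
  rw [← this]; exact h2

omit [Flat G.s] [LocallyOfFinitePresentation G.s] in
theorem flat_sV [Etale h] [Flat G.s] : Flat (sV G h) := by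
  unfold sV; infer_instance

omit [Flat G.s] [LocallyOfFinitePresentation G.s] in
theorem lfp_sV [Etale h] [LocallyOfFinitePresentation G.s] :
    LocallyOfFinitePresentation (sV G h) := by
  unfold sV; infer_instance

theorem exists_affine_invariant [Etale h] (hZ : FinClopen (pullback.snd G.s h) Z)
    (he : ∀ v : V, eX G h v ∈ Z) (hm : MonoZ G h Z) (v₁ : V) (H : H2 hZ v₁) :
    ∃ (W₀ : V.Opens) (W : W₀.toScheme.Opens) (w₁ : W.toScheme), IsAffineOpen W ∧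
      W₀.ι (W.ι w₁) = v₁ ∧
      ∀ z : XX G (W.ι ≫ W₀.ι ≫ h), z ∈ ZW W (ZW W₀ Z) →
        z ∈ Set.range (kap (finClopen_ZW W (finClopen_ZW W₀ hZ))) := by
  haveI := isOpenImmersion_kap hZ hm
  -- the subgroupoid `P` as a groupoid scheme
  obtain ⟨eP, heP⟩ := exists_eP hZ
  obtain ⟨iP, hiP⟩ := exists_iP hZ
  obtain ⟨cP, hcP⟩ := exists_cP hZ
  let GP := GrpdSub.sub (restrict G h) (Pop hZ).ι eP heP iP hiP cP hcP
  have hGs : ∀ p : (Pop hZ).toScheme, GP.s p = sV G h ((Pop hZ).ι p) := fun _ => rfl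
  have hGt : ∀ p : (Pop hZ).toScheme, GP.t p = tV G h ((Pop hZ).ι p) := fun _ => rfl
  -- topological data
  have hκ : Topology.IsOpenEmbedding (kap hZ) := (kap hZ).isOpenEmbedding
  have hκZ : Set.range (kap hZ) ⊆ (Z : Set (XX G h)) := by
    rintro _ ⟨p, rfl⟩; exact kap_mem hZ he p
  have hπ : ∀ K : Set (XX G h), IsClosed K → K ⊆ (Z : Set (XX G h)) →
      IsClosed (pullback.snd G.s h '' K) := fun K hK hKZ => hZ.isClosed_image hK hKZ
  have hτ : Continuous ((Pop hZ).ι ≫ tV G h) := ((Pop hZ).ι ≫ tV G h).continuous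
  have hσ : ∀ p : (Pop hZ).toScheme,
      pullback.snd G.s h (kap hZ p) = sV G h ((Pop hZ).ι p) := fun _ => rfl
  let W₀ : V.Opens := ⟨WW (kap hZ) (Z : Set (XX G h)) (pullback.snd G.s h)
      ((Pop hZ).ι ≫ tV G h), isOpen_WW _ hκ _ hZ.isClosed hκZ _ hπ _ hτ⟩
  have hv₁N : v₁ ∈ NN (kap hZ) (Z : Set (XX G h)) (pullback.snd G.s h) := by
    intro z hz hzv
    obtain ⟨ρ₀, h1, -⟩ := H z hz hzv
    exact ⟨ρ₀, h1⟩
  have hv₁ : v₁ ∈ W₀ := by
    refine ⟨hv₁N, fun p hp => ?_⟩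
    have : ((Pop hZ).ι ≫ tV G h) p = v₁ := H2_tV_eq hZ he hm H p hp
    rw [this]; exact hv₁N
  have ha₀ : ∀ z : XX G h, z ∈ Z → pullback.snd G.s h z ∈ W₀ → z ∈ Set.range (kap hZ) :=
    fun z hz hzW => hzW.1 z hz rfl
  have hb₀ : ∀ p : (Pop hZ).toScheme, sV G h ((Pop hZ).ι p) ∈ W₀ → tV G h ((Pop hZ).ι p) ∈ W₀ := by
    intro p hp
    refine ⟨hp.2 p rfl, fun p' hp' => ?_⟩
    have hc : GP.s p' = GP.t p := by rw [hGs, hGt]; exact hp'
    obtain ⟨p'', h1, h2⟩ := Groth.Agent.Lib.Helper4.GrpdInvOpen.pt_comp GP p' p hc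
    have : ((Pop hZ).ι ≫ tV G h) p' = ((Pop hZ).ι ≫ tV G h) p'' := h2.symm
    rw [this]
    exact hp.2 p'' h1
  have hsurj₀ := range_kap_ZW W₀ hZ ha₀ hb₀
  -- the datum over `W₀`
  have hZ₀ := finClopen_ZW W₀ hZ
  have he₀ := e_mem_ZW W₀ he
  have hm₀ : MonoZ G (W₀.ι ≫ h) (ZW W₀ Z) := monoZ_ZW W₀ hm
  haveI := isOpenImmersion_kap hZ₀ hm₀
  let v₀ : W₀.toScheme := ⟨v₁, hv₁⟩
  have H₀ : H2 hZ₀ v₀ := H2_ZW hZ W₀ v₀ H
  obtain ⟨eP₀, heP₀⟩ := exists_eP hZ₀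
  obtain ⟨iP₀, hiP₀⟩ := exists_iP hZ₀
  obtain ⟨cP₀, hcP₀⟩ := exists_cP hZ₀
  let G₀ := GrpdSub.sub (restrict G (W₀.ι ≫ h)) (Pop hZ₀).ι eP₀ heP₀ iP₀ hiP₀ cP₀ hcP₀
  have hG₀s : ∀ p : (Pop hZ₀).toScheme, G₀.s p = sV G (W₀.ι ≫ h) ((Pop hZ₀).ι p) := fun _ => rfl
  have hG₀t : ∀ p : (Pop hZ₀).toScheme, G₀.t p = tV G (W₀.ι ≫ h) ((Pop hZ₀).ι p) := fun _ => rfl
  haveI : IsFinite G₀.s := isFinite_s hZ₀ he₀ hm₀ hsurj₀
  haveI : Flat (sV G (W₀.ι ≫ h)) := flat_sV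
  haveI : LocallyOfFinitePresentation (sV G (W₀.ι ≫ h)) := lfp_sV
  haveI : Flat G₀.s := by
    show Flat ((Pop hZ₀).ι ≫ sV G (W₀.ι ≫ h)); infer_instance
  haveI : LocallyOfFinitePresentation G₀.s := by
    show LocallyOfFinitePresentation ((Pop hZ₀).ι ≫ sV G (W₀.ι ≫ h)); infer_instance
  obtain ⟨_, ⟨A, hA, rfl⟩, hv₀A, -⟩ := W₀.toScheme.isBasis_affineOpens.exists_subset_of_mem_open
    (Set.mem_univ v₀) isOpen_univ
  have huA : ∀ r : G₀.R, G₀.s r = v₀ → G₀.t r ∈ A := by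
    intro r hr
    have : G₀.t r = v₀ := H2_tV_eq hZ₀ he₀ hm₀ H₀ r hr
    rw [this]; exact hv₀A
  obtain ⟨W, hW, hv₀W, hinv⟩ := Groth.Agent.Lib.Helper4.GrpdAffOpen.main S G₀ v₀ A hA huA
  refine ⟨W₀, W, ⟨v₀, hv₀W⟩, hW, rfl, ?_⟩
  apply range_kap_ZW W hZ₀
  · intro z hz _
    exact hsurj₀ z hz
  · intro p hp
    have h1 : p ∈ G₀.s ⁻¹ᵁ W := hp
    rw [hinv] at h1
    exact h1

end shrink

end Groth.Agent.Lib.Helper3.Spl
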