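import Mathlib
import Groth.Prelude.Def_Grpd
import Groth.Agent.Lib.Helper3.GrpdPt
import Groth.Agent.Lib.Helper3.SplA
import Groth.Agent.Lib.Helper3.SplB
import Groth.Agent.Lib.Helper3.SplC
import Groth.Agent.Lib.Helper3.SplD
import Groth.Agent.Lib.Helper3.SplE

set_option autoImplicit false
universe u

namespace Groth.Agent.Lib.Helper3.Spl

open CategoryTheory CategoryTheory.Limits AlgebraicGeometry Grpd
open Groth.Agent.Lib.Helper3 Groth.Agent.Lib.Helper3.GP

set_option backward.isDefEq.respectTransparency false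

/-- a preimmersion induces isomorphisms of residue fields -/
theorem isIso_residueFieldMap_of_isPreimmersion {Z S : Scheme.{u}} (j : Z ⟶ S) [IsPreimmersion j]
    (z : Z) : IsIso (j.residueFieldMap z) := by
  have hsurj : Function.Surjective (j.residueFieldMap z) := by
    have h1 : Function.Surjective (S.residue (j z) ≫ j.residueFieldMap z) := by
      rw [Scheme.residue_residueFieldMap]
      exact (Scheme.residue_surjective Z z).comp (j.stalkMap_surjective z)
    intro y
    obtain ⟨x, hx⟩ := h1 y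
    exact ⟨S.residue (j z) x, hx⟩
  have hinj : Function.Injective (j.residueFieldMap z) := (j.residueFieldMap z).hom.injective
  exact (ConcreteCategory.isIso_iff_bijective _).mpr ⟨hinj, hsurj⟩

/-- lifting a field-valued point along a morphism inducing an isomorphism of residue fields -/
theorem exists_lift_of_isIso_residueFieldMap {V U : Scheme.{u}} (h : V ⟶ U) (v₁ : V)
    [IsIso (h.residueFieldMap v₁)] (K : Type u) [Field K] (f : Spec (.of K) ⟶ U)
    (hf : f (IsLocalRing.closedPoint K) = h v₁) :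
    ∃ a : Spec (.of K) ⟶ V, a ≫ h = f ∧ ∀ q, a q = v₁ := by
  let φ₀ := Scheme.descResidueField (Scheme.stalkClosedPointTo f)
  let φ : V.residueField v₁ ⟶ .of K :=
    inv (h.residueFieldMap v₁) ≫ (U.residueFieldCongr hf).inv ≫ φ₀
  refine ⟨Spec.map φ ≫ V.fromSpecResidueField v₁, ?_, fun q => ?_⟩
  · rw [Category.assoc, ← Scheme.Hom.SpecMap_residueFieldMap_fromSpecResidueField,
      ← Spec.map_comp_assoc]
    have : h.residueFieldMap v₁ ≫ φ = (U.residueFieldCongr hf).inv ≫ φ₀ := by
      simp only [φ, IsIso.hom_inv_id_assoc]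
    rw [this, Spec.map_comp, Category.assoc]
    have h2 : Spec.map (U.residueFieldCongr hf).inv ≫ U.fromSpecResidueField (h v₁) =
        U.fromSpecResidueField (f (IsLocalRing.closedPoint K)) := by
      rw [← Scheme.residueFieldCongr_fromSpecResidueField hf, ← Spec.map_comp_assoc,
        Iso.hom_inv_id, Spec.map_id, Category.id_comp]
    rw [h2]
    exact Scheme.descResidueField_stalkClosedPointTo_fromSpecResidueField K U f
  · rw [Scheme.Hom.comp_apply, Scheme.fromSpecResidueField_apply]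

/-- a field-valued point whose image lies in the range of a preimmersion factors through it -/
theorem exists_fac_of_isPreimmersion {Y X : Scheme.{u}} (j : Y ⟶ X) [IsPreimmersion j]
    (K : Type u) [Field K] (f : Spec (.of K) ⟶ X)
    (hf : f (IsLocalRing.closedPoint K) ∈ Set.range j) :
    ∃ a : Spec (.of K) ⟶ Y, a ≫ j = f := by
  obtain ⟨y, hy⟩ := hf
  haveI := isIso_residueFieldMap_of_isPreimmersion j y
  obtain ⟨a, ha, -⟩ := exists_lift_of_isIso_residueFieldMap j y K f hy.symm
  exact ⟨a, ha⟩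

section H2

variable {S : Scheme.{u}} {G : GroupoidScheme S} {V : Scheme.{u}} {h : V ⟶ G.U}
  [Flat G.s] [LocallyOfFinitePresentation G.s] {Z : (XX G h).Opens}

/-- the translation-stability condition on a set `Φ` of arrows -/
def Star (G : GroupoidScheme S) (Φ : Set G.R) : Prop :=
  ∀ (L : Type u) [Field L] (x z : Spec (.of L) ⟶ G.R), x ≫ G.s = z ≫ G.t →
    ∀ q, z q ∈ Φ → (x q ∈ Φ ↔ (cmp G x z) q ∈ Φ)

theorem H2_of_star (hZ : FinClopen (pullback.snd G.s h) Z) (Φ : Set G.R) (u : G.U) (v₁ : V)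
    (hv₁ : h v₁ = u) [IsIso (h.residueFieldMap v₁)] (hΦt : ∀ r ∈ Φ, G.t r = u)
    (fib : ∀ x : XX G h, pullback.snd G.s h x = v₁ → (x ∈ Z ↔ pullback.fst G.s h x ∈ Φ))
    (hstar : Star G Φ) : H2 hZ v₁ := by
  intro z₀ hz₀ hπ
  let K : Type u := (XX G h).residueField z₀
  let ζ : Spec (.of K) ⟶ XX G h := (XX G h).fromSpecResidueField z₀
  have hζ : ∀ q, ζ q = z₀ := fun q => Scheme.fromSpecResidueField_apply _ _
  let r : Spec (.of K) ⟶ G.R := ζ ≫ pullback.fst _ _
  let b : Spec (.of K) ⟶ V := ζ ≫ pullback.snd _ _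
  have hr : ∀ q, r q = pullback.fst G.s h z₀ := fun q => by
    show pullback.fst G.s h (ζ q) = _; rw [hζ]
  have hb : ∀ q, b q = v₁ := fun q => by
    show pullback.snd G.s h (ζ q) = _; rw [hζ, hπ]
  have hrΦ : ∀ q, r q ∈ Φ := fun q => by rw [hr]; exact (fib z₀ hπ).1 hz₀
  have hf : (r ≫ G.t) (IsLocalRing.closedPoint K) = h v₁ := by
    show G.t (r _) = _
    rw [hΦt _ (hrΦ _), hv₁]
  obtain ⟨a, ha, haq⟩ := exists_lift_of_isIso_residueFieldMap h v₁ K (r ≫ G.t) hf
  have hrs : r ≫ G.s = b ≫ h := by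
    simp only [r, b, Category.assoc, pullback.condition]
  let ρ : Spec (.of K) ⟶ RV G h := mk a r b ha.symm hrs
  have hin : InP G h Z (ρ ≫ tV G h) (ρ ≫ fR G h) (ρ ≫ sV G h) := by
    rw [mk_tV, mk_fR, mk_sV]
    intro Y x y hx hx' p
    have h1 : pullback.snd G.s h (pt x (y ≫ a) hx p) = v₁ := by
      have : pullback.snd G.s h (pt x (y ≫ a) hx p) = (pt x (y ≫ a) hx ≫ pullback.snd G.s h) p :=
        rfl
      rw [this, pt_snd]; exact haq _
    have h2 : pullback.snd G.s h (pt (cmp G x (y ≫ r)) (y ≫ b) hx' p) = v₁ := by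
      have : pullback.snd G.s h (pt (cmp G x (y ≫ r)) (y ≫ b) hx' p) =
          (pt (cmp G x (y ≫ r)) (y ≫ b) hx' ≫ pullback.snd G.s h) p := rfl
      rw [this, pt_snd]; exact hb _
    rw [fib _ h1, fib _ h2]
    have e1 : pullback.fst G.s h (pt x (y ≫ a) hx p) = x p := by
      have : pullback.fst G.s h (pt x (y ≫ a) hx p) = (pt x (y ≫ a) hx ≫ pullback.fst G.s h) p :=
        rfl
      rw [this, pt_fst]
    have e2 : pullback.fst G.s h (pt (cmp G x (y ≫ r)) (y ≫ b) hx' p) = (cmp G x (y ≫ r)) p := by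
      have : pullback.fst G.s h (pt (cmp G x (y ≫ r)) (y ≫ b) hx' p) =
          (pt (cmp G x (y ≫ r)) (y ≫ b) hx' ≫ pullback.fst G.s h) p := rfl
      rw [this, pt_fst]
    rw [e1, e2]
    let L : Type u := Y.residueField p
    let ξ : Spec (.of L) ⟶ Y := Y.fromSpecResidueField p
    have hξ : ∀ q, ξ q = p := fun q => Scheme.fromSpecResidueField_apply _ _
    have hc : x ≫ G.s = (y ≫ r) ≫ G.t := by
      rw [hx, Category.assoc, Category.assoc, ha]
    have hc' : (ξ ≫ x) ≫ G.s = (ξ ≫ y ≫ r) ≫ G.t := by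
      rw [Category.assoc, hc]; simp only [Category.assoc]
    obtain ⟨q⟩ : Nonempty (Spec (.of L)) := inferInstance
    have := hstar L (ξ ≫ x) (ξ ≫ y ≫ r) hc' q (by
      show r (y (ξ q)) ∈ Φ
      exact hrΦ _)
    rw [← precomp_cmp ξ hc] at this
    have t1 : (ξ ≫ x) q = x p := by show x (ξ q) = _; rw [hξ]
    have t2 : (ξ ≫ cmp G x (y ≫ r)) q = (cmp G x (y ≫ r)) p := by
      show (cmp G x (y ≫ r)) (ξ q) = _; rw [hξ]
    rw [t1, t2] at this
    exact this
  obtain ⟨ρ', hρ'⟩ := (factors_iff hZ ρ).2 hin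
  obtain ⟨q⟩ : Nonempty (Spec (.of K)) := inferInstance
  refine ⟨ρ' q, ?_, ?_⟩
  · have : kap hZ (ρ' q) = ((ρ' ≫ (Pop hZ).ι) ≫ toX G h) q := rfl
    rw [this, hρ']
    have e : ρ ≫ toX G h = ζ := by
      apply pt_ext
      · rw [Category.assoc, toX_fst, mk_fR]
      · rw [Category.assoc, toX_snd, mk_sV]
    rw [e, hζ]
  · have : tV G h ((Pop hZ).ι (ρ' q)) = ((ρ' ≫ (Pop hZ).ι) ≫ tV G h) q := rfl
    rw [this, hρ', mk_tV, haq]

end H2

section stars

variable {S : Scheme.{u}} (G : GroupoidScheme S)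

theorem isImmersion_e : IsImmersion G.e := by
  haveI : IsImmersion (G.e ≫ G.s) := by rw [G.e_s]; infer_instance
  exact IsImmersion.of_comp G.e G.s

theorem star_e (u : G.U) : Star G {G.e u} := by
  intro L _ x z hxz q hz
  haveI := isImmersion_e G
  have hq : q = IsLocalRing.closedPoint L := Subsingleton.elim _ _
  obtain ⟨a, ha⟩ := exists_fac_of_isPreimmersion G.e L z (by
    rw [← hq]; exact ⟨u, (Set.mem_singleton_iff.1 hz).symm⟩)
  have h1 : x ≫ G.s = a := by rw [hxz, ← ha, Category.assoc, G.e_t, Category.comp_id]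
  have h2 : cmp G x z = x := by rw [← ha]; exact cmp_e_right h1
  rw [h2]

theorem star_st (u : G.U) : Star G {r | G.s r = u ∧ G.t r = u} := by
  intro L _ x z hxz q hz
  have hc1 : (cmp G x z ≫ G.s) q = (z ≫ G.s) q := by rw [cmp_s hxz]
  have hc2 : (cmp G x z ≫ G.t) q = (x ≫ G.t) q := by rw [cmp_t hxz]
  have hx1 : (x ≫ G.s) q = (z ≫ G.t) q := by rw [hxz]
  simp only [Set.mem_ofPred_eq]
  constructor
  · rintro ⟨-, h2⟩
    exact ⟨hc1.trans hz.1, hc2.trans h2⟩
  · rintro ⟨-, h2⟩
    exact ⟨hx1.trans hz.2, hc2.symm.trans h2⟩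

/-- the image in `R` of the points of the stabilizer lying over `u` -/
def stabSet (u : G.U) : Set G.R :=
  {r | ∃ g : G.stabilizer, G.stabilizerToU g = u ∧
    (pullback.fst G.j G.diag : G.stabilizer ⟶ G.R) g = r}

theorem stab_fst_t : (pullback.fst G.j G.diag) ≫ G.t = pullback.snd G.j G.diag := by
  have := congrArg (· ≫ pullback.fst G.pU G.pU) (pullback.condition (f := G.j) (g := G.diag))
  simp only [Category.assoc] at this
  unfold GroupoidScheme.j GroupoidScheme.diag at this
  rw [pullback.lift_fst, pullback.lift_fst, Category.comp_id] at this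
  exact this

theorem stab_fst_s : (pullback.fst G.j G.diag) ≫ G.s = pullback.snd G.j G.diag := by
  have := congrArg (· ≫ pullback.snd G.pU G.pU) (pullback.condition (f := G.j) (g := G.diag))
  simp only [Category.assoc] at this
  unfold GroupoidScheme.j GroupoidScheme.diag at this
  rw [pullback.lift_snd, pullback.lift_snd, Category.comp_id] at this
  exact this

theorem mem_stabSet_iff (u : G.U) (L : Type u) [Field L] (w : Spec (.of L) ⟶ G.R)
    (q : Spec (.of L)) : w q ∈ stabSet G u ↔ (w ≫ G.s = w ≫ G.t ∧ G.s (w q) = u) := by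
  haveI : IsImmersion G.diag := inferInstanceAs (IsImmersion (pullback.diagonal G.pU))
  constructor
  · rintro ⟨g, hg1, hg2⟩
    have hq : q = IsLocalRing.closedPoint L := Subsingleton.elim _ _
    obtain ⟨a, ha⟩ := exists_fac_of_isPreimmersion (pullback.fst G.j G.diag) L w (by
      rw [← hq]; exact ⟨g, hg2⟩)
    refine ⟨?_, ?_⟩
    · rw [← ha, Category.assoc, Category.assoc, stab_fst_s, stab_fst_t]
    · rw [← hg2, ← hg1]
      have : G.s ((pullback.fst G.j G.diag : G.stabilizer ⟶ G.R) g) =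
          (pullback.fst G.j G.diag ≫ G.s) g := rfl
      rw [this, stab_fst_s]; rfl
  · rintro ⟨h1, h2⟩
    let g : Spec (.of L) ⟶ G.stabilizer := pullback.lift w (w ≫ G.s) (by
      apply pullback.hom_ext
      · unfold GroupoidScheme.j GroupoidScheme.diag
        rw [Category.assoc, Category.assoc, pullback.lift_fst, pullback.lift_fst,
          Category.comp_id, h1]
      · unfold GroupoidScheme.j GroupoidScheme.diag
        rw [Category.assoc, Category.assoc, pullback.lift_snd, pullback.lift_snd,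
          Category.comp_id])
    refine ⟨g q, ?_, ?_⟩
    · have : G.stabilizerToU (g q) = (g ≫ pullback.snd G.j G.diag) q := rfl
      rw [this, pullback.lift_snd]; exact h2
    · have : (pullback.fst G.j G.diag : G.stabilizer ⟶ G.R) (g q) =
          (g ≫ pullback.fst G.j G.diag) q := rfl
      rw [this, pullback.lift_fst]

theorem star_stab (u : G.U) : Star G (stabSet G u) := by
  intro L _ x z hxz q hz
  rw [mem_stabSet_iff] at hz ⊢
  rw [mem_stabSet_iff]
  obtain ⟨hz1, hz2⟩ := hz
  have hxs : x ≫ G.s = z ≫ G.s := by rw [hxz, hz1]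
  have hq1 : G.s (x q) = u := by
    have : G.s (x q) = (x ≫ G.s) q := rfl
    rw [this, hxs]; exact hz2
  have hq2 : G.s ((cmp G x z) q) = u := by
    have : G.s ((cmp G x z) q) = (cmp G x z ≫ G.s) q := rfl
    rw [this, cmp_s hxz]; exact hz2
  constructor
  · rintro ⟨h1, -⟩
    refine ⟨?_, hq2⟩
    rw [cmp_s hxz, cmp_t hxz, ← h1, hxs]
  · rintro ⟨h1, -⟩
    refine ⟨?_, hq1⟩
    rw [cmp_s hxz, cmp_t hxz] at h1
    rw [hxs, h1]

end stars

end Groth.Agent.Lib.Helper3.Spl
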