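import Mathlib
import Groth.Prelude.Def_Grpd
import Groth.Agent.Lib.Helper3.GrpdPt
import Groth.Agent.Lib.Helper3.SplA
import Groth.Agent.Lib.Helper3.SplB
import Groth.Agent.Lib.Helper3.SplC
import Groth.Agent.Lib.Helper3.SplD
import Groth.Agent.Lib.Helper3.SplE
import Groth.Agent.Lib.Helper3.SplF
import Groth.Agent.Lib.helper19.QFL3

set_option autoImplicit false
universe u

namespace Groth.Agent.Lib.Helper3.Spl

open CategoryTheory CategoryTheory.Limits AlgebraicGeometry Grpd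
open Groth.Agent.Lib.Helper3 Groth.Agent.Lib.Helper3.GP

set_option backward.isDefEq.respectTransparency false

theorem main_of_datum {S : Scheme.{u}} (G : GroupoidScheme S) [Flat G.s]
    [LocallyOfFinitePresentation G.s] {V : Scheme.{u}} (h : V ⟶ G.U) [Etale h]
    (Z : (XX G h).Opens) (hZ : FinClopen (pullback.snd G.s h) Z) (he : ∀ v : V, eX G h v ∈ Z)
    (hm : MonoZ G h Z) (v₁ : V) (u : G.U) (hv₁ : h v₁ = u) (hres : IsIso (h.residueFieldMap v₁))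
    (H : H2 hZ v₁) (Φ : Set G.R)
    (fib : ∀ x : XX G h, pullback.snd G.s h x = v₁ → (x ∈ Z ↔ pullback.fst G.s h x ∈ Φ)) :
    ∃ (G' : Grpd.GroupoidScheme S) (φ : Grpd.GroupoidScheme.Hom G' G) (u' : ↥G'.U),
      IsAffine G'.U ∧ Etale φ.fU ∧ φ.fU u' = u ∧ IsIso (φ.fU.residueFieldMap u') ∧
      IsPullback φ.fR G'.j G.j
        (pullback.map G'.pU G'.pU G.pU G.pU φ.fU φ.fU (𝟙 S)
          ((Category.comp_id _).trans φ.fU_over.symm) ((Category.comp_id _).trans φ.fU_over.symm)) ∧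
      ∃ (P : Scheme.{u}) (ιP : P ⟶ G'.R), IsOpenImmersion ιP ∧
        (∃ eP : G'.U ⟶ P, eP ≫ ιP = G'.e) ∧ (∃ iP : P ⟶ P, iP ≫ ιP = ιP ≫ G'.i) ∧
        (∃ cP : pullback (ιP ≫ G'.s) (ιP ≫ G'.t) ⟶ P,
          cP ≫ ιP = pullback.map (ιP ≫ G'.s) (ιP ≫ G'.t) G'.s G'.t ιP ιP (𝟙 G'.U)
            (Category.comp_id _) (Category.comp_id _) ≫ G'.c) ∧
        IsFinite (ιP ≫ G'.s) ∧ IsFinite (ιP ≫ G'.t) ∧
        ∀ r' : ↥G'.R, G'.s r' = u' → G'.t r' = u' → φ.fR r' ∈ Φ → ∃ p : ↥P, ιP p = r' := by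
  obtain ⟨W₀, W, w₁, hW, hw₁, hsurj⟩ := exists_affine_invariant hZ he hm v₁ H
  have hZ₀ := finClopen_ZW W₀ hZ
  have he₀ := e_mem_ZW W₀ he
  have hm₀ : MonoZ G (W₀.ι ≫ h) (ZW W₀ Z) := monoZ_ZW W₀ hm
  have hZ₁ := finClopen_ZW W hZ₀
  have he₁ := e_mem_ZW W he₀
  have hm₁ : MonoZ G (W.ι ≫ W₀.ι ≫ h) (ZW W (ZW W₀ Z)) := monoZ_ZW W hm₀
  have H' : H2 hZ (W₀.ι (W.ι w₁)) := by rw [hw₁]; exact H
  have H₀ : H2 hZ₀ (W.ι w₁) := H2_ZW hZ W₀ _ H'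
  have H₁ : H2 hZ₁ w₁ := H2_ZW hZ₀ W _ H₀
  haveI : IsIso ((W.ι ≫ W₀.ι ≫ h).residueFieldMap w₁) := by
    rw [Scheme.residueFieldMap_comp, Scheme.residueFieldMap_comp]
    haveI : IsIso (h.residueFieldMap (W₀.ι (W.ι w₁))) :=
      Groth.Agent.Lib.Helper19.QFL.isIso_residueFieldMap_of_eq h hw₁.symm hres
    infer_instance
  refine ⟨restrict G (W.ι ≫ W₀.ι ≫ h), restrictHom G (W.ι ≫ W₀.ι ≫ h), w₁, hW,
    (inferInstance : Etale (W.ι ≫ W₀.ι ≫ h)), ?_,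
    (inferInstance : IsIso ((W.ι ≫ W₀.ι ≫ h).residueFieldMap w₁)), isPullback_j G _,
    (Pop hZ₁).toScheme, (Pop hZ₁).ι, inferInstance, exists_eP hZ₁, exists_iP hZ₁, exists_cP hZ₁,
    isFinite_s hZ₁ he₁ hm₁ hsurj, isFinite_t hZ₁ he₁ hm₁ hsurj, ?_⟩
  · show h (W₀.ι (W.ι w₁)) = u
    rw [hw₁, hv₁]
  · intro r' hs' ht' hΦ
    -- the point of `X` under `r'`
    have hx1 : pullback.snd G.s h (jX h W₀ (jX (W₀.ι ≫ h) W (toX G (W.ι ≫ W₀.ι ≫ h) r'))) = v₁ := by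
      rw [jX_snd_apply, jX_snd_apply]
      have : pullback.snd G.s (W.ι ≫ W₀.ι ≫ h) (toX G (W.ι ≫ W₀.ι ≫ h) r') = w₁ := hs'
      rw [this, hw₁]
    have hx2 : pullback.fst G.s h (jX h W₀ (jX (W₀.ι ≫ h) W (toX G (W.ι ≫ W₀.ι ≫ h) r'))) ∈ Φ := by
      have : pullback.fst G.s h (jX h W₀ (jX (W₀.ι ≫ h) W (toX G (W.ι ≫ W₀.ι ≫ h) r'))) =
          ((toX G (W.ι ≫ W₀.ι ≫ h) ≫ jX (W₀.ι ≫ h) W ≫ jX h W₀) ≫ pullback.fst G.s h) r' := rfl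
      rw [this]
      have e : (toX G (W.ι ≫ W₀.ι ≫ h) ≫ jX (W₀.ι ≫ h) W ≫ jX h W₀) ≫ pullback.fst G.s h =
          fR G (W.ι ≫ W₀.ι ≫ h) := by
        simp only [Category.assoc, jX, pt_fst, toX_fst]
      rw [e]
      exact hΦ
    have hxZ : toX G (W.ι ≫ W₀.ι ≫ h) r' ∈ ZW W (ZW W₀ Z) := (fib _ hx1).2 hx2
    obtain ⟨ρ₀, h1, h2⟩ := H₁ _ hxZ hs'
    refine ⟨ρ₀, ?_⟩
    refine Groth.Agent.Lib.Helper19.QFL.eq_of_fst_eq_of_snd_eq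
      (pullback.fst G.s (W.ι ≫ W₀.ι ≫ h) ≫ G.t) (W.ι ≫ W₀.ι ≫ h) _ r' ?_ h1 (h2.trans ht'.symm)
    exact Groth.Agent.Lib.Helper19.QFL.isIso_residueFieldMap_of_eq _ ht'.symm inferInstance

end Groth.Agent.Lib.Helper3.Spl
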