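import Mathlib
import Groth.Prelude.Def_Grpd
import Groth.Agent.Lib.Helper3.GrpdPt
import Groth.Agent.Lib.Helper3.SplA
import Groth.Agent.Lib.Helper3.SplB
import Groth.Agent.Lib.Helper3.SplC
import Groth.Agent.Lib.Helper3.SplD
import Groth.Agent.Lib.Helper3.SplE
import Groth.Agent.Lib.helper19.QFL6

set_option autoImplicit false
universe u

namespace Groth.Agent.Lib.Helper3.Spl

open CategoryTheory CategoryTheory.Limits AlgebraicGeometry Grpd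
open Groth.Agent.Lib.Helper3 Groth.Agent.Lib.Helper3.GP

set_option backward.isDefEq.respectTransparency false

theorem eX_fst_apply {S : Scheme.{u}} (G : GroupoidScheme S) {V : Scheme.{u}} (h : V ⟶ G.U)
    (v : V) : pullback.fst G.s h (eX G h v) = G.e (h v) := by
  have : pullback.fst G.s h (eX G h v) = (eX G h ≫ pullback.fst G.s h) v := rfl
  rw [this, eX, pt_fst]; rfl

theorem eX_snd_apply {S : Scheme.{u}} (G : GroupoidScheme S) {V : Scheme.{u}} (h : V ⟶ G.U)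
    (v : V) : pullback.snd G.s h (eX G h v) = v := by
  have : pullback.snd G.s h (eX G h v) = (eX G h ≫ pullback.snd G.s h) v := rfl
  rw [this, eX, pt_snd]; rfl

theorem jX_fst_apply {S : Scheme.{u}} {G : GroupoidScheme S} {V : Scheme.{u}} {h : V ⟶ G.U}
    (W : V.Opens) (z : XX G (W.ι ≫ h)) :
    pullback.fst G.s h (jX h W z) = pullback.fst G.s (W.ι ≫ h) z := by
  have : pullback.fst G.s h (jX h W z) = (jX h W ≫ pullback.fst G.s h) z := rfl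
  rw [this, jX, pt_fst]

theorem exists_chart {S : Scheme.{u}} (G : GroupoidScheme S) [IsSeparated G.s]
    [LocallyOfFiniteType G.s] (u : G.U) (Φ : Set G.R) (hΦfin : Φ.Finite)
    (hΦs : ∀ r ∈ Φ, G.s r = u) (hΦq : ∀ r ∈ Φ, G.s.QuasiFiniteAt r) (heΦ : G.e u ∈ Φ) :
    ∃ (U₁ : Scheme.{u}) (g : U₁ ⟶ G.U) (u₁ : U₁) (F₁ : (XX G g).Opens), IsAffine U₁ ∧ Etale g ∧
      g u₁ = u ∧ IsIso (g.residueFieldMap u₁) ∧ FinClopen (pullback.snd G.s g) F₁ ∧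
      (∀ a : U₁, eX G g a ∈ F₁) ∧
      ∀ x : XX G g, pullback.snd G.s g x = u₁ → (x ∈ F₁ ↔ pullback.fst G.s g x ∈ Φ) := by
  classical
  haveI : Finite ↥Φ := hΦfin.to_subtype
  obtain ⟨n, ⟨eqv⟩⟩ := Finite.exists_equiv_fin ↥Φ
  let x : Fin n → G.R := fun i => (eqv.symm i).1
  have hxΦ : ∀ i, x i ∈ Φ := fun i => (eqv.symm i).2
  have hs : ∀ i, G.s (x i) = u := fun i => hΦs _ (hxΦ i)
  have hx : ∀ i, G.s.QuasiFiniteAt (x i) := fun i => hΦq _ (hxΦ i)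
  obtain ⟨U₀, g₀, u₀, hg₀, hu₀, hres, V, v, hV⟩ :=
    Groth.Agent.Lib.Helper19.QFL6.main_core_sep G.s u x hs hx
  haveI := hg₀
  obtain ⟨hFc, hFf⟩ := Groth.Agent.Lib.Helper19.QFL6.finite_finsetSup (pullback.snd G.s g₀) V
    (fun i => (hV i).2.1) (fun i => (hV i).2.2.1) Finset.univ
  let F₀ : (XX G g₀).Opens := Finset.univ.sup V
  have hF₀ : FinClopen (pullback.snd G.s g₀) F₀ := ⟨hFc, hFf⟩
  have hmemF₀ : ∀ y : XX G g₀, y ∈ F₀ ↔ ∃ i, y ∈ V i := by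
    intro y
    show y ∈ (Finset.univ.sup V : (XX G g₀).Opens) ↔ _
    rw [← SetLike.mem_coe, TopologicalSpace.Opens.coe_finset_sup]
    simp
  have fib₀ : ∀ y : XX G g₀, pullback.snd G.s g₀ y = u₀ →
      (y ∈ F₀ ↔ pullback.fst G.s g₀ y ∈ Φ) := by
    intro y hy
    rw [hmemF₀]
    constructor
    · rintro ⟨i, hi⟩
      have := (hV i).2.2.2.2.1 y hi hy
      rw [this, (hV i).2.2.2.2.2]
      exact hxΦ i
    · intro hyΦ
      let i : Fin n := eqv ⟨_, hyΦ⟩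
      have hxi : x i = pullback.fst G.s g₀ y := by
        show (eqv.symm (eqv ⟨_, hyΦ⟩)).1 = _
        rw [Equiv.symm_apply_apply]
      refine ⟨i, ?_⟩
      have hvi := hV i
      have hres' : IsIso (g₀.residueFieldMap (pullback.snd G.s g₀ (v i))) :=
        Groth.Agent.Lib.Helper19.QFL.isIso_residueFieldMap_of_eq g₀ hvi.2.2.2.1.symm hres
      have : y = v i := Groth.Agent.Lib.Helper19.QFL.eq_of_fst_eq_of_snd_eq G.s g₀ y (v i) hres'
        (hxi.symm.trans hvi.2.2.2.2.2.symm) (hy.trans hvi.2.2.2.1.symm)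
      rw [this]; exact hvi.1
  let O : U₀.Opens := eX G g₀ ⁻¹ᵁ F₀
  have hu₀O : u₀ ∈ O := by
    show eX G g₀ u₀ ∈ F₀
    rw [fib₀ _ (eX_snd_apply G g₀ u₀), eX_fst_apply, hu₀]
    exact heΦ
  obtain ⟨_, ⟨A', hA', rfl⟩, hu₀A', hAO'⟩ :=
    U₀.isBasis_affineOpens.exists_subset_of_mem_open hu₀O O.2
  obtain ⟨A, hAA'⟩ : ∃ A : U₀.Opens, A = A' := ⟨A', rfl⟩
  have hA : IsAffineOpen A := hAA' ▸ hA'
  have hu₀A : u₀ ∈ A := hAA' ▸ hu₀A'
  have hAO : (A : Set U₀) ⊆ O := hAA' ▸ hAO'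
  refine ⟨A.toScheme, A.ι ≫ g₀, ⟨u₀, hu₀A⟩, ZW A F₀, hA, inferInstance, hu₀, ?_,
    finClopen_ZW A hF₀, ?_, ?_⟩
  · rw [Scheme.residueFieldMap_comp]
    haveI : IsIso (g₀.residueFieldMap (A.ι ⟨u₀, hu₀A⟩)) := hres
    infer_instance
  · intro a
    show jX g₀ A (eX G (A.ι ≫ g₀) a) ∈ F₀
    have : jX g₀ A (eX G (A.ι ≫ g₀) a) = (eX G (A.ι ≫ g₀) ≫ jX g₀ A) a := rfl
    rw [this, eX_jX]
    exact hAO a.2
  · intro y hy
    have h1 : pullback.snd G.s g₀ (jX g₀ A y) = u₀ := by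
      rw [jX_snd_apply, hy]; rfl
    have := fib₀ _ h1
    rw [jX_fst_apply] at this
    exact this

end Groth.Agent.Lib.Helper3.Spl
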