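import Mathlib
import Groth.Prelude.Def_Grpd
import Groth.Prelude.Def_AlgSp
import Groth.Agent.Lib.Helper3.GrpdPt
import Groth.Agent.Lib.Helper3.SplA
import Groth.Agent.Lib.Helper3.SplB
import Groth.Agent.Lib.Helper3.SplC

set_option autoImplicit false
universe u

namespace Groth.Agent.Lib.Helper3.Spl

open CategoryTheory CategoryTheory.Limits AlgebraicGeometry Grpd
open Groth.Agent.Lib.Helper3 Groth.Agent.Lib.Helper3.GP

set_option backward.isDefEq.respectTransparency false

section E

variable {S : Scheme.{u}} (G : GroupoidScheme S) {U₁ : Scheme.{u}} (g : U₁ ⟶ G.U)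

/-- `U₁ ×_U U₁` -/
noncomputable abbrev U2 : Scheme.{u} := pullback g g

/-- `R ×_{s,U} (U₁ ×_U U₁)` -/
noncomputable abbrev X2 : Scheme.{u} := pullback G.s (pullback.fst g g ≫ g)

noncomputable def n₁ : X2 G g ⟶ XX G g :=
  pt (pullback.fst _ _) (pullback.snd _ _ ≫ pullback.fst g g)
    (by rw [pullback.condition, Category.assoc])

noncomputable def n₂ : X2 G g ⟶ XX G g :=
  pt (pullback.fst _ _) (pullback.snd _ _ ≫ pullback.snd g g)
    (by rw [pullback.condition, Category.assoc]; congr 1; exact pullback.condition)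

theorem isPullback_n₁ :
    IsPullback (n₁ G g) (pullback.snd _ _) (pullback.snd G.s g) (pullback.fst g g) := by
  have right : IsPullback (pullback.fst G.s g) (pullback.snd G.s g) G.s g :=
    IsPullback.of_hasPullback _ _
  have big : IsPullback (n₁ G g ≫ pullback.fst G.s g) (pullback.snd G.s (pullback.fst g g ≫ g))
      G.s (pullback.fst g g ≫ g) := by
    have : n₁ G g ≫ pullback.fst G.s g = pullback.fst G.s (pullback.fst g g ≫ g) := pt_fst _ _ _
    rw [this]
    exact IsPullback.of_hasPullback _ _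
  exact IsPullback.of_right big (pt_snd _ _ _) right

theorem isPullback_n₂ :
    IsPullback (n₂ G g) (pullback.snd _ _) (pullback.snd G.s g) (pullback.snd g g) := by
  have right : IsPullback (pullback.fst G.s g) (pullback.snd G.s g) G.s g :=
    IsPullback.of_hasPullback _ _
  have big : IsPullback (n₂ G g ≫ pullback.fst G.s g) (pullback.snd G.s (pullback.fst g g ≫ g))
      G.s (pullback.snd g g ≫ g) := by
    have : n₂ G g ≫ pullback.fst G.s g = pullback.fst G.s (pullback.fst g g ≫ g) := pt_fst _ _ _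
    rw [this, show pullback.snd g g ≫ g = pullback.fst g g ≫ g from pullback.condition.symm]
    exact IsPullback.of_hasPullback _ _
  exact IsPullback.of_right big (pt_snd _ _ _) right

/-- the locus in `U₁ ×_U U₁` over which the two pullbacks of `F₁` agree -/
def Eset (F₁ : (XX G g).Opens) : Set (U2 G g) :=
  eqLoc (pullback.snd G.s (pullback.fst g g ≫ g)) (n₁ G g ⁻¹' F₁) (n₂ G g ⁻¹' F₁)

variable {G g}

theorem isClopen_Eset [Flat G.s] [LocallyOfFinitePresentation G.s] {F₁ : (XX G g).Opens}
    (hF : FinClopen (pullback.snd G.s g) F₁) : IsClopen (Eset G g F₁) := by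
  have h1 : FinClopen (pullback.snd G.s (pullback.fst g g ≫ g)) (n₁ G g ⁻¹ᵁ F₁) :=
    hF.preimage (isPullback_n₁ G g)
  have h2 : FinClopen (pullback.snd G.s (pullback.fst g g ≫ g)) (n₂ G g ⁻¹ᵁ F₁) :=
    hF.preimage (isPullback_n₂ G g)
  exact isClopen_eqLoc _ (pullback.snd G.s (pullback.fst g g ≫ g)).isOpenMap h1 h2

/-- two `T`-points of `U₁` with the same image in `U` and the same pullback of `F₁` -/
def RelF (G : GroupoidScheme S) (g : U₁ ⟶ G.U) (F₁ : (XX G g).Opens) {T : Scheme.{u}}
    (a b : T ⟶ U₁) : Prop :=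
  ∃ (c : T ⟶ G.U) (ha : a ≫ g = c) (hb : b ≫ g = c), ∀ x : (pullback G.s c : Scheme.{u}),
    pt (pullback.fst G.s c) (pullback.snd G.s c ≫ a)
        (by rw [pullback.condition, Category.assoc, ha]) x ∈ F₁ ↔
      pt (pullback.fst G.s c) (pullback.snd G.s c ≫ b)
        (by rw [pullback.condition, Category.assoc, hb]) x ∈ F₁

theorem RelF.refl {F₁ : (XX G g).Opens} {T : Scheme.{u}} (a : T ⟶ U₁) : RelF G g F₁ a a :=
  ⟨_, rfl, rfl, fun _ => Iff.rfl⟩

theorem RelF.symm {F₁ : (XX G g).Opens} {T : Scheme.{u}} {a b : T ⟶ U₁} (h : RelF G g F₁ a b) :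
    RelF G g F₁ b a := by
  obtain ⟨c, ha, hb, H⟩ := h
  exact ⟨c, hb, ha, fun x => (H x).symm⟩

theorem RelF.trans {F₁ : (XX G g).Opens} {T : Scheme.{u}} {a b d : T ⟶ U₁}
    (h : RelF G g F₁ a b) (h' : RelF G g F₁ b d) : RelF G g F₁ a d := by
  obtain ⟨c, ha, hb, H⟩ := h
  obtain ⟨c', hb', hd, H'⟩ := h'
  obtain rfl : c = c' := hb.symm.trans hb'
  exact ⟨c, ha, hd, fun x => (H x).trans (H' x)⟩

theorem RelF.precomp {F₁ : (XX G g).Opens} {T T' : Scheme.{u}} {a b : T ⟶ U₁}
    (h : RelF G g F₁ a b) (w : T' ⟶ T) : RelF G g F₁ (w ≫ a) (w ≫ b) := by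
  obtain ⟨c, ha, hb, H⟩ := h
  refine ⟨w ≫ c, by rw [Category.assoc, ha], by rw [Category.assoc, hb], fun x => ?_⟩
  let k : pullback G.s (w ≫ c) ⟶ pullback G.s c :=
    pullback.lift (pullback.fst _ _) (pullback.snd _ _ ≫ w) (by rw [pullback.condition, Category.assoc])
  have hk1 : k ≫ pullback.fst G.s c = pullback.fst G.s (w ≫ c) := pullback.lift_fst _ _ _
  have hk2 : k ≫ pullback.snd G.s c = pullback.snd G.s (w ≫ c) ≫ w := pullback.lift_snd _ _ _
  have := H (k x)
  have e1 : ∀ (d : T ⟶ U₁) (hd : d ≫ g = c),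
      k ≫ pt (pullback.fst G.s c) (pullback.snd G.s c ≫ d)
        (by rw [pullback.condition, Category.assoc, hd]) =
      pt (pullback.fst G.s (w ≫ c)) (pullback.snd G.s (w ≫ c) ≫ w ≫ d)
        (by rw [pullback.condition]; simp only [Category.assoc, hd]) := by
    intro d hd
    rw [precomp_pt]
    apply pt_congr
    · exact hk1
    · rw [← Category.assoc, hk2, Category.assoc]
  have t1 : ∀ (f : (pullback G.s c : Scheme.{u}) ⟶ XX G g), f (k x) = (k ≫ f) x := fun _ => rfl
  rw [t1, t1, e1 a ha, e1 b hb] at this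
  exact this

theorem range_subset_Eset_iff {F₁ : (XX G g).Opens} {T : Scheme.{u}} (a b : T ⟶ U₁)
    (hab : a ≫ g = b ≫ g) :
    Set.range (pullback.lift a b hab) ⊆ Eset G g F₁ ↔ RelF G g F₁ a b := by
  set ρ := pullback.lift a b hab with hρ
  have hρ1 : ρ ≫ pullback.fst g g = a := pullback.lift_fst _ _ _
  have hρ2 : ρ ≫ pullback.snd g g = b := pullback.lift_snd _ _ _
  let g' : pullback G.s (a ≫ g) ⟶ X2 G g :=
    pullback.lift (pullback.fst _ _) (pullback.snd _ _ ≫ ρ)
      (by rw [pullback.condition, Category.assoc, ← Category.assoc ρ, hρ1])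
  have sq : IsPullback g' (pullback.snd _ _) (pullback.snd G.s (pullback.fst g g ≫ g)) ρ := by
    have right : IsPullback (pullback.fst G.s (pullback.fst g g ≫ g))
        (pullback.snd G.s (pullback.fst g g ≫ g)) G.s (pullback.fst g g ≫ g) :=
      IsPullback.of_hasPullback _ _
    have big : IsPullback (g' ≫ pullback.fst G.s (pullback.fst g g ≫ g))
        (pullback.snd G.s (a ≫ g)) G.s (ρ ≫ pullback.fst g g ≫ g) := by
      have : g' ≫ pullback.fst G.s (pullback.fst g g ≫ g) = pullback.fst G.s (a ≫ g) :=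
        pullback.lift_fst _ _ _
      rw [this, show ρ ≫ pullback.fst g g ≫ g = a ≫ g by rw [← Category.assoc, hρ1]]
      exact IsPullback.of_hasPullback _ _
    exact IsPullback.of_right big (pullback.lift_snd _ _ _) right
  rw [Eset, range_subset_eqLoc_iff sq]
  have e1 : g' ≫ n₁ G g = pt (pullback.fst _ _) (pullback.snd _ _ ≫ a)
      (by rw [pullback.condition, Category.assoc]) := by
    rw [n₁, precomp_pt]
    apply pt_congr
    · exact pullback.lift_fst _ _ _
    · simp only [g', pullback.lift_snd_assoc, Category.assoc, hρ1]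
  have e2 : g' ≫ n₂ G g = pt (pullback.fst _ _) (pullback.snd _ _ ≫ b)
      (by rw [pullback.condition, Category.assoc, hab]) := by
    rw [n₂, precomp_pt]
    apply pt_congr
    · exact pullback.lift_fst _ _ _
    · simp only [g', pullback.lift_snd_assoc, Category.assoc, hρ2]
  have t1 : ∀ (f : X2 G g ⟶ XX G g) (x : (pullback G.s (a ≫ g) : Scheme.{u})),
      f (g' x) = (g' ≫ f) x := fun _ _ => rfl
  constructor
  · intro H
    refine ⟨a ≫ g, rfl, hab.symm, fun x => ?_⟩
    have := H x
    simp only [Set.mem_preimage] at this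
    rw [t1, t1, e1, e2] at this
    exact this
  · rintro ⟨c, ha, hb, H⟩ x
    subst ha
    have := H x
    simp only [Set.mem_preimage]
    rw [t1, t1, e1, e2]
    exact this

end E

section Ov

variable {S : Scheme.{u}} (G : GroupoidScheme S) [Flat G.s] [LocallyOfFinitePresentation G.s]
  {U₁ : Scheme.{u}} (g : U₁ ⟶ G.U) {F₁ : (XX G g).Opens}

/-- the equivalence relation as an open subscheme of `U₁ ×_U U₁` -/
def Eop (hF : FinClopen (pullback.snd G.s g) F₁) : (U2 G g).Opens :=
  ⟨Eset G g F₁, (isClopen_Eset hF).isOpen⟩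

variable {G g}

theorem isClosed_Eop (hF : FinClopen (pullback.snd G.s g) F₁) :
    IsClosed ((Eop G g hF : (U2 G g).Opens) : Set (U2 G g)) := (isClopen_Eset hF).isClosed

theorem factors_Eop_iff (hF : FinClopen (pullback.snd G.s g) F₁) {T : Scheme.{u}}
    (a b : T ⟶ U₁) :
    (∃ ρ : T ⟶ (Eop G g hF).toScheme, ρ ≫ (Eop G g hF).ι ≫ pullback.fst g g = a ∧
      ρ ≫ (Eop G g hF).ι ≫ pullback.snd g g = b) ↔ RelF G g F₁ a b := by
  constructor
  · rintro ⟨ρ, rfl, rfl⟩
    have hab : (ρ ≫ (Eop G g hF).ι ≫ pullback.fst g g) ≫ g =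
        (ρ ≫ (Eop G g hF).ι ≫ pullback.snd g g) ≫ g := by
      simp only [Category.assoc, pullback.condition]
    rw [← range_subset_Eset_iff _ _ hab]
    have e : pullback.lift _ _ hab = ρ ≫ (Eop G g hF).ι := by
      apply pullback.hom_ext
      · rw [pullback.lift_fst, Category.assoc]
      · rw [pullback.lift_snd, Category.assoc]
    rw [e]
    rintro _ ⟨t, rfl⟩
    exact (ρ t).2
  · intro H
    have hab : a ≫ g = b ≫ g := by
      obtain ⟨c, ha, hb, -⟩ := H
      rw [ha, hb]
    have hr := (range_subset_Eset_iff a b hab).2 H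
    have hr' : Set.range (pullback.lift a b hab) ⊆ Set.range (Eop G g hF).ι := by
      rw [Scheme.Opens.range_ι]; exact hr
    refine ⟨IsOpenImmersion.lift (Eop G g hF).ι _ hr', ?_, ?_⟩
    · rw [← Category.assoc, IsOpenImmersion.lift_fac, pullback.lift_fst]
    · rw [← Category.assoc, IsOpenImmersion.lift_fac, pullback.lift_snd]

variable (G g)

/-- `U₁` over `S` -/
noncomputable def U1o : Over S := Over.mk (g ≫ G.pU)

/-- `U` over `S` -/
noncomputable def Uo : Over S := Over.mk G.pU

/-- `g` over `S` -/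
noncomputable def go : U1o G g ⟶ Uo G := Over.homMk g rfl

variable {G g}

/-- `E` over `S` -/
noncomputable def Eo (hF : FinClopen (pullback.snd G.s g) F₁) : Over S :=
  Over.mk ((Eop G g hF).ι ≫ pullback.fst g g ≫ g ≫ G.pU)

noncomputable def tE (hF : FinClopen (pullback.snd G.s g) F₁) : Eo hF ⟶ U1o G g :=
  Over.homMk ((Eop G g hF).ι ≫ pullback.fst g g) (by simp [Eo, U1o])

noncomputable def sE (hF : FinClopen (pullback.snd G.s g) F₁) : Eo hF ⟶ U1o G g :=
  Over.homMk ((Eop G g hF).ι ≫ pullback.snd g g) (by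
    simp only [Eo, U1o, Over.mk_hom, Category.assoc]
    rw [← Category.assoc (pullback.snd g g), ← pullback.condition, Category.assoc])

theorem sE_go (hF : FinClopen (pullback.snd G.s g) F₁) : sE hF ≫ go G g = tE hF ≫ go G g := by
  apply Over.OverMorphism.ext
  simp only [Over.comp_left, sE, tE, go, Over.homMk_left, Category.assoc, pullback.condition]

theorem isEqvRel_E (hF : FinClopen (pullback.snd G.s g) F₁) :
    AlgSp.IsEqvRel (sE hF) (tE hF) := by
  have key : ∀ (T : Over S) (a b : T ⟶ U1o G g),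
      (∃ r : T ⟶ Eo hF, r ≫ tE hF = a ∧ r ≫ sE hF = b) ↔ RelF G g F₁ a.left b.left := by
    intro T a b
    rw [← factors_Eop_iff hF]
    constructor
    · rintro ⟨r, rfl, rfl⟩
      exact ⟨r.left, rfl, rfl⟩
    · rintro ⟨ρ, h1, h2⟩
      have hw : ρ ≫ (Eo hF).hom = T.hom := by
        have := Over.w a
        simp only [Eo, Over.mk_hom]
        rw [← Category.assoc, ← Category.assoc, Category.assoc ρ, h1]
        exact this
      refine ⟨Over.homMk ρ hw, ?_, ?_⟩
      · apply Over.OverMorphism.ext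
        simp only [Over.comp_left, Over.homMk_left, tE]
        exact h1
      · apply Over.OverMorphism.ext
        simp only [Over.comp_left, Over.homMk_left, sE]
        exact h2
  refine ⟨?_, fun T => ?_⟩
  · intro T r r' ht hs
    apply Over.OverMorphism.ext
    rw [← cancel_mono (Eop G g hF).ι]
    apply pullback.hom_ext
    · have := congrArg (fun f => f.left) ht
      simpa only [Over.comp_left, tE, Over.homMk_left, Category.assoc] using this
    · have := congrArg (fun f => f.left) hs
      simpa only [Over.comp_left, sE, Over.homMk_left, Category.assoc] using this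
  · refine ⟨fun a => ?_, fun {a b} h => ?_, fun {a b c} h h' => ?_⟩
    · rw [key]; exact RelF.refl _
    · rw [key] at h ⊢; exact h.symm
    · rw [key] at h h' ⊢; exact h.trans h'

theorem isEtaleEqvRel_E [Etale g] (hF : FinClopen (pullback.snd G.s g) F₁) :
    AlgSp.IsEtaleEqvRel (sE hF) (tE hF) := by
  refine ⟨isEqvRel_E hF, ?_, ?_⟩
  · show Etale ((Eop G g hF).ι ≫ pullback.snd g g)
    infer_instance
  · show Etale ((Eop G g hF).ι ≫ pullback.fst g g)
    infer_instance

end Ov

end Groth.Agent.Lib.Helper3.Spl
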