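import Mathlib

set_option autoImplicit false
universe v u

namespace Groth.Agent.Lib.Helper3.Spl

open CategoryTheory CategoryTheory.Limits

section cat

variable {C : Type u} [Category.{v} C] [HasPullbacks C] {A A₂ K Q Y : C}
  {a : A ⟶ Y} {p₁ p₂ : A₂ ⟶ A} (sqA : IsPullback p₁ p₂ a a) (π : A ⟶ Q) (f : Q ⟶ Y)
  (hπ : π ≫ f = a)

include sqA hπ in
theorem phi_cond : (p₁ ≫ π) ≫ f = (p₂ ≫ π) ≫ f := by
  rw [Category.assoc, Category.assoc, hπ, sqA.w]

/-- `A ×_Y A ⟶ Q ×_Y Q` -/
noncomputable def phiMap : A₂ ⟶ pullback f f :=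
  pullback.lift (p₁ ≫ π) (p₂ ≫ π) (phi_cond sqA π f hπ)

theorem phiMap_fst : phiMap sqA π f hπ ≫ pullback.fst f f = p₁ ≫ π := pullback.lift_fst _ _ _
theorem phiMap_snd : phiMap sqA π f hπ ≫ pullback.snd f f = p₂ ≫ π := pullback.lift_snd _ _ _

/-- `A ×_Y A ⟶ Q ×_Y Q` has every property of `π` that is stable under base change and
composition -/
theorem phiMap_mem (P : MorphismProperty C) [P.IsStableUnderBaseChange]
    [P.IsStableUnderComposition] (h : P π) : P (phiMap sqA π f hπ) := by
  let m1 : A₂ ⟶ pullback f a := pullback.lift (p₁ ≫ π) p₂ (by rw [Category.assoc, hπ, sqA.w])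
  let m2 : pullback f a ⟶ pullback f f :=
    pullback.map f a f f (𝟙 Q) π (𝟙 Y) (by simp) (by rw [hπ, Category.comp_id])
  have m1f : m1 ≫ pullback.fst f a = p₁ ≫ π := pullback.lift_fst _ _ _
  have m1s : m1 ≫ pullback.snd f a = p₂ := pullback.lift_snd _ _ _
  have m2f : m2 ≫ pullback.fst f f = pullback.fst f a := by
    rw [show m2 ≫ pullback.fst f f = pullback.fst f a ≫ 𝟙 Q from pullback.lift_fst _ _ _,
      Category.comp_id]
  have m2s : m2 ≫ pullback.snd f f = pullback.snd f a ≫ π := pullback.lift_snd _ _ _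
  have hm : phiMap sqA π f hπ = m1 ≫ m2 := by
    apply pullback.hom_ext
    · rw [phiMap_fst, Category.assoc, m2f, m1f]
    · rw [phiMap_snd, Category.assoc, m2s, ← Category.assoc, m1s]
  have sq1 : IsPullback m1 p₁ (pullback.fst f a) π := by
    refine IsPullback.of_right (h₁₂ := pullback.snd f a) (h₂₂ := f) (v₁₃ := a) ?_ m1f
      (IsPullback.of_hasPullback f a).flip
    rw [m1s, hπ]
    exact sqA.flip
  have sq2 : IsPullback m2 (pullback.snd f a) (pullback.snd f f) π := by
    refine IsPullback.of_right (h₁₂ := pullback.fst f f) (h₂₂ := f) (v₁₃ := f) ?_ m2s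
      (IsPullback.of_hasPullback f f)
    rw [m2f, hπ]
    exact IsPullback.of_hasPullback f a
  have h1 : P m1 := MorphismProperty.of_isPullback sq1.flip h
  have h2 : P m2 := MorphismProperty.of_isPullback sq2.flip h
  rw [hm]
  exact P.comp_mem _ _ h1 h2

variable {k₁ k₂ : K ⟶ A} (kp : IsPullback k₁ k₂ π π) (ι : K ⟶ A₂) (hι1 : ι ≫ p₁ = k₁)
  (hι2 : ι ≫ p₂ = k₂)

include kp hι1 hι2 in
/-- the kernel pair of `π` is the pullback of the relative diagonal of `Q` over `Y` -/
theorem isPullback_diagonal_phiMap :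
    IsPullback (k₁ ≫ π) ι (pullback.diagonal f) (phiMap sqA π f hπ) := by
  refine IsPullback.mk ⟨?_⟩ ⟨PullbackCone.IsLimit.mk _ ?_ ?_ ?_ ?_⟩
  · apply pullback.hom_ext
    · rw [Category.assoc, pullback.diagonal_fst, Category.comp_id, Category.assoc, phiMap_fst,
        ← Category.assoc, hι1]
    · rw [Category.assoc, pullback.diagonal_snd, Category.comp_id, Category.assoc, phiMap_snd,
        ← Category.assoc, hι2, kp.w]
  · intro c
    refine kp.lift (c.snd ≫ p₁) (c.snd ≫ p₂) ?_
    have h1 := c.condition =≫ pullback.fst f f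
    have h2 := c.condition =≫ pullback.snd f f
    simp only [Category.assoc, pullback.diagonal_fst, pullback.diagonal_snd, Category.comp_id,
      phiMap_fst, phiMap_snd] at h1 h2
    rw [Category.assoc, Category.assoc, ← h1, ← h2]
  · intro c
    have h1 := c.condition =≫ pullback.fst f f
    simp only [Category.assoc, pullback.diagonal_fst, Category.comp_id, phiMap_fst] at h1
    rw [← Category.assoc, kp.lift_fst, Category.assoc, ← h1]
  · intro c
    apply sqA.hom_ext
    · rw [Category.assoc, hι1, kp.lift_fst]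
    · rw [Category.assoc, hι2, kp.lift_snd]
  · intro c m hm1 hm2
    apply kp.hom_ext
    · rw [kp.lift_fst, ← hm2, Category.assoc, hι1]
    · rw [kp.lift_snd, ← hm2, Category.assoc, hι2]

end cat

end Groth.Agent.Lib.Helper3.Spl
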