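import Mathlib
import Groth.Prelude.Def_Grpd
import Groth.Prelude.Def_AlgSp
import Groth.Agent.Lib.Helper3.SplI
import Groth.Agent.Lib.Helper3.SplJ
import Groth.Agent.Lib.Helper3.QuotRelMain
import Groth.Agent.Lib.Helper3.AlgSpLocP2
import Groth.Agent.Lib.Helper3.Rep0418G
import Groth.Agent.Lib.Helper3.SchImCartier0
import Groth.Agent.Lib.Helper3.FpqcDescRepWith
import Groth.Agent.Lib.Helper3.FpqcDescInst
import Groth.Agent.Lib.Helper3.AlgSpFibre

set_option autoImplicit false
universe u

namespace Groth.Agent.Lib.Helper3.Spl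

open CategoryTheory CategoryTheory.Limits AlgebraicGeometry Grpd AlgSp
open Groth.Agent.Lib.Helper3 Groth.Agent.Lib.Helper3.GP

set_option backward.isDefEq.respectTransparency false

variable {S : Scheme.{u}}

/-- being a closed immersion can be checked on one etale surjective chart of the target -/
theorem repWith_isClosedImmersion_of_chart {X F : Sp S} (hX : IsAlgSpace X) (hF : IsAlgSpace F)
    (j : F ⟶ X) {V P : Over S} (φ : (yon S).obj V ⟶ X) (hφe : RepWith @Etale φ)
    (hφs : RepWith @Surjective φ) (w : P ⟶ V) (fst : (yon S).obj P ⟶ F)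
    (sq : IsPullback fst ((yon S).map w) j φ) (hw : IsClosedImmersion w.left) :
    RepWith @IsClosedImmersion j := by
  have hcov := SchIm.isFpqcCover_of_etale_surjective hX φ hφe hφs
  refine (FpqcDesc.isLocalOnBase_fpqc_repWith (S := S) @IsClosedImmersion
    (fun A B k hk => by have : IsClosedImmersion k := hk; infer_instance)
    (fun _ : PUnit.{u+1} => (yon S).obj V)
    (fun _ => φ) hX (fun _ => IsAlgSpace.yon_obj V) hcov j hF (fun _ => (yon S).obj P)
    (fun _ => (yon S).map w) (fun _ => fst) (fun _ => IsAlgSpace.yon_obj P) (fun _ => sq)).2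
    (fun _ => ?_)
  exact (repWith_yon_map_iff _ w).2 hw


variable (G : GroupoidScheme S) [Flat G.s] [LocallyOfFinitePresentation G.s]
  {U₁ : Scheme.{u}} (g : U₁ ⟶ G.U) {F₁ : (XX G g).Opens}

/-- `U₁ ×_U U₁` over `S` -/
noncomputable def U2o : Over S := Over.mk (pullback.fst g g ≫ g ≫ G.pU)

noncomputable def p₁o : U2o G g ⟶ U1o G g := Over.homMk (pullback.fst g g) rfl

noncomputable def p₂o : U2o G g ⟶ U1o G g := Over.homMk (pullback.snd g g) (by
  simp only [U2o, U1o, Over.mk_hom]
  rw [pullback.condition_assoc])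

omit [Flat G.s] [LocallyOfFinitePresentation G.s] in
theorem isPullback_po : IsPullback (p₁o G g) (p₂o G g) (go G g) (go G g) := by
  refine IsPullback.of_map (Over.forget S) ?_ ?_
  · apply Over.OverMorphism.ext
    simp only [Over.comp_left, p₁o, p₂o, go, Over.homMk_left, pullback.condition]
  · exact IsPullback.of_hasPullback g g

variable {G g}

noncomputable def ιo (hF : FinClopen (pullback.snd G.s g) F₁) : Eo hF ⟶ U2o G g :=
  Over.homMk (Eop G g hF).ι rfl

theorem ιo_p₁ (hF : FinClopen (pullback.snd G.s g) F₁) : ιo hF ≫ p₁o G g = tE hF := by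
  apply Over.OverMorphism.ext
  simp only [Over.comp_left, ιo, p₁o, tE, Over.homMk_left]

theorem ιo_p₂ (hF : FinClopen (pullback.snd G.s g) F₁) : ιo hF ≫ p₂o G g = sE hF := by
  apply Over.OverMorphism.ext
  simp only [Over.comp_left, ιo, p₂o, sE, Over.homMk_left]

theorem exists_quotient_space [Etale g] (hF : FinClopen (pullback.snd G.s g) F₁) :
    ∃ (Q : Sp S) (π : (yon S).obj (U1o G g) ⟶ Q) (hQ : Q ⟶ (yon S).obj (Uo G)),
      IsPresentation (sE hF) (tE hF) π ∧ IsAlgSpace Q ∧ π ≫ hQ = (yon S).map (go G g) := by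
  obtain ⟨pres, hAlg⟩ := QuotRel.isPresentation_and_isAlgSpace (sE hF) (tE hF) (isEtaleEqvRel_E hF)
  obtain ⟨hQ, hπQ⟩ := QuotRel.exists_desc_quotMap (s := sE hF) (t := tE hF) ((yon S).map (go G g))
    (by rw [← Functor.map_comp, ← Functor.map_comp, sE_go])
  exact ⟨_, _, hQ, pres, hAlg, hπQ⟩

theorem exists_quotient_repr [Etale g] (hF : FinClopen (pullback.snd G.s g) F₁) :
    ∃ (V : Over S) (π : (yon S).obj (U1o G g) ⟶ (yon S).obj V)
      (hQ : (yon S).obj V ⟶ (yon S).obj (Uo G)),
      IsPresentation (sE hF) (tE hF) π ∧ π ≫ hQ = (yon S).map (go G g) := by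
  obtain ⟨Q, π, hQ, pres, hAlg, hπQ⟩ := exists_quotient_space hF
  have hloc : LocP (@LocallyQuasiFinite ⊓ @LocallyOfFiniteType) hQ :=
    locP_of_chart isEtLocal_locallyQuasiFinite hQ π pres.etale pres.surjective (𝟙 _)
      (repWith_id _ _) (go G g) (by rw [hπQ, Category.comp_id])
      (isEtLocal_locallyQuasiFinite.etale_le g inferInstance)
  have hsep : IsSeparatedMor hQ := by
    have sqA := (isPullback_po G g).map (yon S)
    have hφe : RepWith @Etale (phiMap sqA π hQ hπQ) := phiMap_mem sqA π hQ hπQ _ pres.etale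
    have hφs : RepWith @Surjective (phiMap sqA π hQ hπQ) :=
      phiMap_mem sqA π hQ hπQ _ pres.surjective
    have sqD := isPullback_diagonal_phiMap sqA π hQ hπQ pres.isPullback ((yon S).map (ιo hF))
      (by rw [← Functor.map_comp, ιo_p₁]) (by rw [← Functor.map_comp, ιo_p₂])
    have hPB : IsAlgSpace (pullback hQ hQ) :=
      isAlgSpace_of_isPullback' (IsAlgSpace.yon_obj _) hAlg hAlg (IsPullback.of_hasPullback hQ hQ)
    have hci : IsClosedImmersion (ιo hF).left := by
      show IsClosedImmersion (Eop G g hF).ι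
      exact IsClosedImmersion.of_isPreimmersion _ (by
        rw [Scheme.Opens.range_ι]; exact isClosed_Eop hF)
    exact repWith_isClosedImmersion_of_chart hPB hAlg _ (phiMap sqA π hQ hπQ) hφe hφs (ιo hF) _
      sqD hci
  have hrep : Q.obj.IsRepresentable :=
    Rep0418.isRepresentable_of_forall_schPt hAlg
      (fun x => Rep0418.schPt_of_lqf_separated hAlg hQ hloc hsep x)
  obtain ⟨V, ⟨r⟩⟩ := hrep.has_representation
  let e : (yon S).obj V ≅ Q := AlgSp.isoOfRepresentableBy r
  refine ⟨V, π ≫ e.inv, e.hom ≫ hQ, ?_, by rw [Category.assoc, Iso.inv_hom_id_assoc, hπQ]⟩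
  refine ⟨pres.eqvRel, ?_, ?_, ?_⟩
  · exact (RepWith @Etale).comp_mem _ _ pres.etale
      (Groth.Agent.S9937.repWith_of_isIso _ (fun k hk => by have := hk; infer_instance) e.inv)
  · exact (RepWith @Surjective).comp_mem _ _ pres.surjective
      (Groth.Agent.S9937.repWith_of_isIso _ (fun k hk => by have := hk; infer_instance) e.inv)
  · exact IsPullback.of_iso pres.isPullback (Iso.refl _) (Iso.refl _) (Iso.refl _) e.symm
      (by simp) (by simp) (by simp) (by simp)


theorem exists_quotient_scheme [Etale g] (hF : FinClopen (pullback.snd G.s g) F₁) :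
    ∃ (V : Scheme.{u}) (q : U₁ ⟶ V) (h : V ⟶ G.U), q ≫ h = g ∧ Etale q ∧ Surjective q ∧ Etale h ∧
      IsPullback ((Eop G g hF).ι ≫ pullback.fst g g) ((Eop G g hF).ι ≫ pullback.snd g g) q q := by
  obtain ⟨V, π, hQ, pres, hπQ⟩ := exists_quotient_repr hF
  obtain ⟨qo, rfl⟩ := (yon S).map_surjective π
  obtain ⟨ho, rfl⟩ := (yon S).map_surjective hQ
  have hqh : qo ≫ ho = go G g := (yon S).map_injective (by rw [Functor.map_comp, hπQ])
  have hqh' : qo.left ≫ ho.left = g := by
    have := congrArg (fun k => k.left) hqh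
    simpa [go] using this
  have hqe : Etale qo.left := (repWith_yon_map_iff _ qo).1 pres.etale
  have hqs : Surjective qo.left := (repWith_yon_map_iff _ qo).1 pres.surjective
  refine ⟨V.left, qo.left, ho.left, hqh', hqe, hqs, ?_, ?_⟩
  · exact etale_of_etale_surjective_comp qo.left ho.left (by rw [hqh']; infer_instance)
  · have sq : IsPullback (tE hF) (sE hF) qo qo := IsPullback.of_map (yon S)
      (by
        apply (yon S).map_injective
        rw [Functor.map_comp, Functor.map_comp]
        exact pres.isPullback.w) pres.isPullback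
    exact sq.map (Over.forget S)

end Groth.Agent.Lib.Helper3.Spl
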