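import Mathlib
import Groth.Prelude.Def_Grpd
import Groth.Prelude.Def_AlgSp
import Groth.Agent.Lib.Helper3.GrpdPt
import Groth.Agent.Lib.Helper3.SplA
import Groth.Agent.Lib.Helper3.SplB
import Groth.Agent.Lib.Helper3.SplC
import Groth.Agent.Lib.Helper3.SplD
import Groth.Agent.Lib.Helper3.SplI
import Groth.Agent.Lib.Helper4.AffineDescent
import Groth.Agent.Lib.helper19.QFL6

set_option autoImplicit false
universe u

namespace Groth.Agent.Lib.Helper3.Spl

open CategoryTheory CategoryTheory.Limits AlgebraicGeometry Grpd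
open Groth.Agent.Lib.Helper3 Groth.Agent.Lib.Helper3.GP

set_option backward.isDefEq.respectTransparency false

section jq

variable {S : Scheme.{u}} {G : GroupoidScheme S} {U₁ V : Scheme.{u}} (q : U₁ ⟶ V) (h : V ⟶ G.U)

/-- `X_{q ≫ h} ⟶ X_h` -/
noncomputable def jq : XX G (q ≫ h) ⟶ XX G h :=
  pt (pullback.fst _ _) (pullback.snd _ _ ≫ q) (by rw [pullback.condition, Category.assoc])

theorem jq_fst : jq q h ≫ pullback.fst G.s h = pullback.fst G.s (q ≫ h) := pt_fst _ _ _

theorem jq_snd : jq q h ≫ pullback.snd G.s h = pullback.snd G.s (q ≫ h) ≫ q := pt_snd _ _ _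

theorem isPullback_jq :
    IsPullback (jq q h) (pullback.snd _ _) (pullback.snd G.s h) q := by
  have right : IsPullback (pullback.fst G.s h) (pullback.snd G.s h) G.s h :=
    IsPullback.of_hasPullback _ _
  have big : IsPullback (jq q h ≫ pullback.fst G.s h) (pullback.snd G.s (q ≫ h)) G.s
      (q ≫ h) := by
    rw [jq_fst]
    exact IsPullback.of_hasPullback _ _
  exact IsPullback.of_right big (jq_snd q h) right

theorem pt_jq {Y : Scheme.{u}} (x : Y ⟶ G.R) (b : Y ⟶ U₁) (hx : x ≫ G.s = b ≫ q ≫ h) :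
    pt x b hx ≫ jq q h = pt x (b ≫ q) (by rw [hx, Category.assoc]) := by
  rw [jq, precomp_pt]
  apply pt_congr
  · exact pt_fst _ _ _
  · rw [← Category.assoc, pt_snd]

theorem eX_jq : eX G (q ≫ h) ≫ jq q h = q ≫ eX G h := by
  rw [eX, pt_jq, eX, precomp_pt]
  apply pt_congr
  · rw [Category.assoc]
  · rw [Category.id_comp, Category.comp_id]

instance [Etale q] : Etale (jq q h) :=
  MorphismProperty.of_isPullback (P := @Etale) (isPullback_jq q h).flip inferInstance

instance [Surjective q] : Surjective (jq q h) :=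
  MorphismProperty.of_isPullback (P := @Surjective) (isPullback_jq q h).flip inferInstance

end jq

section descend

variable {S : Scheme.{u}} {G : GroupoidScheme S} [Flat G.s] [LocallyOfFinitePresentation G.s]
  {U₁ V : Scheme.{u}} {q : U₁ ⟶ V} {h : V ⟶ G.U} {F₁ : (XX G (q ≫ h)).Opens}
  (hF : FinClopen (pullback.snd G.s (q ≫ h)) F₁)
  (kp : IsPullback ((Eop G (q ≫ h) hF).ι ≫ pullback.fst (q ≫ h) (q ≫ h))
    ((Eop G (q ≫ h) hF).ι ≫ pullback.snd (q ≫ h) (q ≫ h)) q q)

include kp in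
/-- `F₁` is saturated for `jq` -/
theorem sat_of_kp (x y : XX G (q ≫ h)) (hxy : jq q h x = jq q h y) : x ∈ F₁ ↔ y ∈ F₁ := by
  obtain ⟨κ, hκ1, hκ2⟩ := Scheme.Pullback.exists_preimage_pullback (f := jq q h) (g := jq q h)
    x y hxy
  set k₁ := pullback.fst (jq q h) (jq q h) with hk₁
  set k₂ := pullback.snd (jq q h) (jq q h) with hk₂
  have hk : k₁ ≫ jq q h = k₂ ≫ jq q h := pullback.condition
  have hkf : k₁ ≫ pullback.fst G.s (q ≫ h) = k₂ ≫ pullback.fst G.s (q ≫ h) := by
    rw [← jq_fst q h, ← Category.assoc, hk, Category.assoc]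
  have hks : (k₁ ≫ pullback.snd G.s (q ≫ h)) ≫ q = (k₂ ≫ pullback.snd G.s (q ≫ h)) ≫ q := by
    rw [Category.assoc, Category.assoc, ← jq_snd q h, ← Category.assoc, hk, Category.assoc]
  have hrel : RelF G (q ≫ h) F₁ (k₁ ≫ pullback.snd G.s (q ≫ h))
      (k₂ ≫ pullback.snd G.s (q ≫ h)) :=
    (factors_Eop_iff hF _ _).1 ⟨kp.lift _ _ hks, kp.lift_fst _ _ hks, kp.lift_snd _ _ hks⟩
  obtain ⟨c, ha, hb, H⟩ := hrel
  let σ : pullback (jq q h) (jq q h) ⟶ pullback G.s c :=
    pullback.lift (k₁ ≫ pullback.fst G.s (q ≫ h)) (𝟙 _) (by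
      rw [Category.id_comp, ← ha, Category.assoc, Category.assoc, pullback.condition])
  have hσ1 : σ ≫ pullback.fst G.s c = k₁ ≫ pullback.fst G.s (q ≫ h) := pullback.lift_fst _ _ _
  have hσ2 : σ ≫ pullback.snd G.s c = 𝟙 _ := pullback.lift_snd _ _ _
  have e1 : σ ≫ pt (pullback.fst G.s c) (pullback.snd G.s c ≫ k₁ ≫ pullback.snd G.s (q ≫ h))
      (by rw [pullback.condition, Category.assoc, ha]) = k₁ := by
    apply pt_ext
    · rw [Category.assoc, pt_fst, hσ1]
    · rw [Category.assoc, pt_snd, ← Category.assoc, hσ2, Category.id_comp]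
  have e2 : σ ≫ pt (pullback.fst G.s c) (pullback.snd G.s c ≫ k₂ ≫ pullback.snd G.s (q ≫ h))
      (by rw [pullback.condition, Category.assoc, hb]) = k₂ := by
    apply pt_ext
    · rw [Category.assoc, pt_fst, hσ1, hkf]
    · rw [Category.assoc, pt_snd, ← Category.assoc, hσ2, Category.id_comp]
  have := H (σ κ)
  have h1 : pt (pullback.fst G.s c) (pullback.snd G.s c ≫ k₁ ≫ pullback.snd G.s (q ≫ h))
      (by rw [pullback.condition, Category.assoc, ha]) (σ κ) = x := by
    rw [← hκ1, ← Scheme.Hom.comp_apply, e1]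
  have h2 : pt (pullback.fst G.s c) (pullback.snd G.s c ≫ k₂ ≫ pullback.snd G.s (q ≫ h))
      (by rw [pullback.condition, Category.assoc, hb]) (σ κ) = y := by
    rw [← hκ2, ← Scheme.Hom.comp_apply, e2]
  rw [h1, h2] at this
  exact this

/-- the descended family, as a set -/
def Zset (q : U₁ ⟶ V) (h : V ⟶ G.U) (F₁ : (XX G (q ≫ h)).Opens) : Set (XX G h) :=
  jq q h '' (F₁ : Set (XX G (q ≫ h)))

include kp in
theorem preimage_Zset : jq q h ⁻¹' Zset q h F₁ = (F₁ : Set (XX G (q ≫ h))) := by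
  ext x
  constructor
  · rintro ⟨y, hy, hyx⟩
    exact (sat_of_kp hF kp y x hyx).1 hy
  · intro hx
    exact ⟨x, hx, rfl⟩

omit [Flat G.s] [LocallyOfFinitePresentation G.s] in
theorem isOpen_Zset [Etale q] : IsOpen (Zset q h F₁) :=
  (jq q h).isOpenMap _ F₁.isOpen

include kp in
theorem isClosed_Zset [Etale q] [Surjective q] : IsClosed (Zset q h F₁) := by
  have hc : (Zset q h F₁)ᶜ = jq q h '' ((F₁ : Set (XX G (q ≫ h)))ᶜ) := by
    ext x
    constructor
    · intro hx
      obtain ⟨y, rfl⟩ := (jq q h).surjective x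
      refine ⟨y, fun hy => hx ⟨y, hy, rfl⟩, rfl⟩
    · rintro ⟨y, hy, rfl⟩ hx
      apply hy
      have : y ∈ jq q h ⁻¹' Zset q h F₁ := hx
      rw [preimage_Zset hF kp] at this
      exact this
  rw [← isOpen_compl_iff, hc]
  exact (jq q h).isOpenMap _ hF.isClosed.isOpen_compl

/-- the descended family -/
def Zop (q' : U₁ ⟶ V) (h' : V ⟶ G.U) (F₁' : (XX G (q' ≫ h')).Opens) [Etale q'] :
    (XX G h').Opens :=
  ⟨Zset q' h' F₁', isOpen_Zset⟩

include kp in
theorem preimage_Zop [Etale q] : jq q h ⁻¹ᵁ Zop q h F₁ = F₁ :=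
  TopologicalSpace.Opens.ext (preimage_Zset hF kp)

include kp in
theorem mem_Zop_iff [Etale q] (x : XX G (q ≫ h)) : jq q h x ∈ Zop q h F₁ ↔ x ∈ F₁ := by
  have := preimage_Zset hF kp
  constructor
  · intro hx
    have h' : x ∈ jq q h ⁻¹' Zset q h F₁ := hx
    rw [this] at h'
    exact h'
  · intro hx
    exact ⟨x, hx, rfl⟩

include kp in
theorem finClopen_Zop [Etale q] [Surjective q] :
    FinClopen (pullback.snd G.s h) (Zop q h F₁) := by
  refine ⟨isClosed_Zset hF kp, ?_⟩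
  have sq := ((isPullback_morphismRestrict (jq q h) (Zop q h F₁)).paste_vert
    (isPullback_jq q h)).flip
  haveI : IsFinite ((jq q h ⁻¹ᵁ Zop q h F₁).ι ≫ pullback.snd G.s (q ≫ h)) := by
    rw [preimage_Zop hF kp]
    exact hF.isFinite
  haveI := Groth.Agent.Lib.Helper4.AffineDescent.descendsAlong_isFinite.{u}
  exact MorphismProperty.of_isPullback_of_descendsAlong (P := @IsFinite)
    (Q := (@Surjective ⊓ @Flat ⊓ @LocallyOfFinitePresentation : MorphismProperty Scheme.{u})) sq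
    ⟨⟨inferInstance, inferInstance⟩, inferInstance⟩ inferInstance

omit [Flat G.s] [LocallyOfFinitePresentation G.s] in
theorem e_mem_Zop [Etale q] [Surjective q] (he : ∀ a : U₁, eX G (q ≫ h) a ∈ F₁) (v : V) :
    eX G h v ∈ Zop q h F₁ := by
  obtain ⟨a, rfl⟩ := q.surjective v
  refine ⟨eX G (q ≫ h) a, he a, ?_⟩
  rw [← Scheme.Hom.comp_apply, eX_jq, Scheme.Hom.comp_apply]

include kp in
theorem fib_Zop [Etale q] (u₁ : U₁) (Φ : Set G.R)
    (fib₁ : ∀ x : XX G (q ≫ h), pullback.snd G.s (q ≫ h) x = u₁ →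
      (x ∈ F₁ ↔ pullback.fst G.s (q ≫ h) x ∈ Φ)) :
    ∀ x : XX G h, pullback.snd G.s h x = q u₁ →
      (x ∈ Zop q h F₁ ↔ pullback.fst G.s h x ∈ Φ) := by
  intro x hx
  obtain ⟨y, hy1, hy2⟩ := exists_preimage_of_isPullback (isPullback_jq q h) x u₁ hx
  have hfst : pullback.fst G.s h x = pullback.fst G.s (q ≫ h) y := by
    rw [← hy1, ← Scheme.Hom.comp_apply, jq_fst]
  rw [hfst, ← hy1, mem_Zop_iff hF kp, fib₁ y hy2]

include kp in
theorem monoZ_aux [Etale q] {T T' : Scheme.{u}} (c : T ⟶ G.U) (b₁ b₂ : T ⟶ V)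
    (h₁ : b₁ ≫ h = c) (h₂ : b₂ ≫ h = c)
    (H : ∀ x : (pullback G.s c : Scheme.{u}),
      pt (pullback.fst G.s c) (pullback.snd G.s c ≫ b₁)
          (by rw [pullback.condition, Category.assoc, h₁]) x ∈ Zop q h F₁ ↔
        pt (pullback.fst G.s c) (pullback.snd G.s c ≫ b₂)
          (by rw [pullback.condition, Category.assoc, h₂]) x ∈ Zop q h F₁)
    (w : T' ⟶ T) (d₁ d₂ : T' ⟶ U₁) (hw1 : d₁ ≫ q = w ≫ b₁) (hw2 : d₂ ≫ q = w ≫ b₂) :
    w ≫ b₁ = w ≫ b₂ := by
  have hd1 : d₁ ≫ q ≫ h = w ≫ c := by rw [← Category.assoc, hw1, Category.assoc, h₁]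
  have hd2 : d₂ ≫ q ≫ h = w ≫ c := by rw [← Category.assoc, hw2, Category.assoc, h₂]
  have hrel : RelF G (q ≫ h) F₁ d₁ d₂ := by
    refine ⟨w ≫ c, hd1, hd2, ?_⟩
    intro x
    let k : pullback G.s (w ≫ c) ⟶ pullback G.s c :=
      pullback.lift (pullback.fst _ _) (pullback.snd _ _ ≫ w)
        (by rw [pullback.condition, Category.assoc])
    have k1 : k ≫ pullback.fst G.s c = pullback.fst _ _ := pullback.lift_fst _ _ _
    have k2 : k ≫ pullback.snd G.s c = pullback.snd _ _ ≫ w := pullback.lift_snd _ _ _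
    have e1 : pt (pullback.fst G.s (w ≫ c)) (pullback.snd G.s (w ≫ c) ≫ d₁)
        (by rw [pullback.condition, Category.assoc, hd1]) ≫ jq q h =
        k ≫ pt (pullback.fst G.s c) (pullback.snd G.s c ≫ b₁)
          (by rw [pullback.condition, Category.assoc, h₁]) := by
      rw [pt_jq, precomp_pt]
      apply pt_congr
      · rw [k1]
      · rw [← Category.assoc k, k2, Category.assoc, Category.assoc, hw1]
    have e2 : pt (pullback.fst G.s (w ≫ c)) (pullback.snd G.s (w ≫ c) ≫ d₂)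
        (by rw [pullback.condition, Category.assoc, hd2]) ≫ jq q h =
        k ≫ pt (pullback.fst G.s c) (pullback.snd G.s c ≫ b₂)
          (by rw [pullback.condition, Category.assoc, h₂]) := by
      rw [pt_jq, precomp_pt]
      apply pt_congr
      · rw [k1]
      · rw [← Category.assoc k, k2, Category.assoc, Category.assoc, hw2]
    rw [← mem_Zop_iff hF kp, ← mem_Zop_iff hF kp, ← Scheme.Hom.comp_apply, e1,
      ← Scheme.Hom.comp_apply, e2, Scheme.Hom.comp_apply, Scheme.Hom.comp_apply]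
    exact H (k x)
  obtain ⟨ρ, hρ1, hρ2⟩ := (factors_Eop_iff hF _ _).2 hrel
  have hcq : d₁ ≫ q = d₂ ≫ q := by
    rw [← hρ1, ← hρ2, Category.assoc, Category.assoc, Category.assoc, Category.assoc]
    congr 1
    simpa only [Category.assoc] using kp.w
  rw [← hw1, ← hw2, hcq]

include kp in
theorem monoZ_Zop [Etale q] [Surjective q] : MonoZ G h (Zop q h F₁) := by
  intro T c b₁ b₂ h₁ h₂ H
  have hw := monoZ_aux hF kp c b₁ b₂ h₁ h₂ H
    (pullback.fst (pullback.fst b₁ q ≫ b₂) q ≫ pullback.fst b₁ q)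
    (pullback.fst (pullback.fst b₁ q ≫ b₂) q ≫ pullback.snd b₁ q)
    (pullback.snd (pullback.fst b₁ q ≫ b₂) q)
    (by rw [Category.assoc, Category.assoc, pullback.condition])
    (by rw [Category.assoc, pullback.condition])
  haveI : Epi (pullback.fst (pullback.fst b₁ q ≫ b₂) q ≫ pullback.fst b₁ q) :=
    Flat.epi_of_flat_of_surjective _
  exact (cancel_epi _).1 hw

end descend

/-- if the composite of residue field maps is an isomorphism, so is the first one -/
theorem isIso_residueFieldMap_of_comp {U₁ V Y : Scheme.{u}} (q : U₁ ⟶ V) (h : V ⟶ Y) (u₁ : U₁)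
    [IsIso ((q ≫ h).residueFieldMap u₁)] : IsIso (h.residueFieldMap (q u₁)) := by
  have hc : (q ≫ h).residueFieldMap u₁ = h.residueFieldMap (q u₁) ≫ q.residueFieldMap u₁ :=
    Scheme.residueFieldMap_comp q h u₁
  have hiso : IsIso (h.residueFieldMap (q u₁) ≫ q.residueFieldMap u₁) := by
    rw [← hc]; infer_instance
  have hbij := (ConcreteCategory.isIso_iff_bijective _).1 hiso
  have hB : Function.Bijective (q.residueFieldMap u₁).hom := by
    refine ⟨(q.residueFieldMap u₁).hom.injective, fun z => ?_⟩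
    obtain ⟨y, hy⟩ := hbij.2 z
    exact ⟨(h.residueFieldMap (q u₁)).hom y, hy⟩
  haveI : IsIso (q.residueFieldMap u₁) := (ConcreteCategory.isIso_iff_bijective _).2 hB
  exact IsIso.of_isIso_comp_right (h.residueFieldMap (q u₁)) (q.residueFieldMap u₁)

end Groth.Agent.Lib.Helper3.Spl
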