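import Mathlib
import Groth.Prelude.Def_Grpd
import Groth.Prelude.Def_AlgSp
import Groth.Prelude.Def_Dual3
import Groth.Agent.Lib.Helper3.SplF
import Groth.Agent.Lib.Helper3.SplG
import Groth.Agent.Lib.Helper3.SplH
import Groth.Agent.Lib.Helper3.SplK
import Groth.Agent.Lib.Helper3.SplL

set_option autoImplicit false
universe u

namespace Groth.Agent.Lib.Helper3.Spl

open CategoryTheory CategoryTheory.Limits AlgebraicGeometry Grpd
open Groth.Agent.Lib.Helper3 Groth.Agent.Lib.Helper3.GP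

set_option backward.isDefEq.respectTransparency false

/-- the bootstrap theorem for a finite translation-stable set `Φ` of arrows from `u` to `u` at
which `s` is quasi-finite -/
theorem main_of_star {S : Scheme.{u}} (G : GroupoidScheme S) [Flat G.s]
    [LocallyOfFinitePresentation G.s] [IsSeparated G.s] (u : G.U) (Φ : Set G.R)
    (hΦfin : Φ.Finite) (hΦs : ∀ r ∈ Φ, G.s r = u) (hΦt : ∀ r ∈ Φ, G.t r = u)
    (hΦq : ∀ r ∈ Φ, G.s.QuasiFiniteAt r) (heΦ : G.e u ∈ Φ) (hstar : Star G Φ) :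
    ∃ (G' : Grpd.GroupoidScheme S) (φ : Grpd.GroupoidScheme.Hom G' G) (u' : ↥G'.U),
      IsAffine G'.U ∧ Etale φ.fU ∧ φ.fU u' = u ∧ IsIso (φ.fU.residueFieldMap u') ∧
      IsPullback φ.fR G'.j G.j
        (pullback.map G'.pU G'.pU G.pU G.pU φ.fU φ.fU (𝟙 S)
          ((Category.comp_id _).trans φ.fU_over.symm) ((Category.comp_id _).trans φ.fU_over.symm)) ∧
      ∃ (P : Scheme.{u}) (ιP : P ⟶ G'.R), IsOpenImmersion ιP ∧
        (∃ eP : G'.U ⟶ P, eP ≫ ιP = G'.e) ∧ (∃ iP : P ⟶ P, iP ≫ ιP = ιP ≫ G'.i) ∧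
        (∃ cP : pullback (ιP ≫ G'.s) (ιP ≫ G'.t) ⟶ P,
          cP ≫ ιP = pullback.map (ιP ≫ G'.s) (ιP ≫ G'.t) G'.s G'.t ιP ιP (𝟙 G'.U)
            (Category.comp_id _) (Category.comp_id _) ≫ G'.c) ∧
        IsFinite (ιP ≫ G'.s) ∧ IsFinite (ιP ≫ G'.t) ∧
        ∀ r' : ↥G'.R, G'.s r' = u' → G'.t r' = u' → φ.fR r' ∈ Φ → ∃ p : ↥P, ιP p = r' := by
  obtain ⟨U₁, g, u₁, F₁, -, hg, hgu, hres, hF, he, fib₁⟩ :=
    exists_chart G u Φ hΦfin hΦs hΦq heΦ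
  haveI := hg
  obtain ⟨V, q, h, rfl, hq, hqs, hh, kp⟩ := exists_quotient_scheme (G := G) (g := g) hF
  haveI := hq
  haveI := hqs
  haveI := hh
  haveI := hres
  have hZ := finClopen_Zop hF kp
  have heZ := e_mem_Zop (q := q) (h := h) he
  have hm : MonoZ G h (Zop q h F₁) := monoZ_Zop hF kp
  have hv₁ : h (q u₁) = u := hgu
  haveI hres' : IsIso (h.residueFieldMap (q u₁)) := isIso_residueFieldMap_of_comp q h u₁
  have fib := fib_Zop hF kp u₁ Φ fib₁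
  have H := H2_of_star hZ Φ u (q u₁) hv₁ hΦt fib hstar
  exact main_of_datum G h (Zop q h F₁) hZ heZ hm (q u₁) u hv₁ hres' H Φ fib


theorem quasiFiniteAt_of_dual3 {X Y : Scheme.{u}} (g : X ⟶ Y) [LocallyOfFiniteType g] (x : X)
    (h : Dual3.QuasiFiniteAt g x) : g.QuasiFiniteAt x :=
  Scheme.Hom.quasiFiniteAt_iff_isOpen_singleton_asFiber.2 h

theorem e_s_apply {S : Scheme.{u}} (G : GroupoidScheme S) (u : G.U) : G.s (G.e u) = u := by
  rw [← Scheme.Hom.comp_apply, G.e_s]; rfl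

theorem e_t_apply {S : Scheme.{u}} (G : GroupoidScheme S) (u : G.U) : G.t (G.e u) = u := by
  rw [← Scheme.Hom.comp_apply, G.e_t]; rfl

/-- S12202 -/
theorem main12202 (S : Scheme.{u}) (G : Grpd.GroupoidScheme S) [IsAffine G.U]
    [IsSeparated G.s] [IsSeparated G.t] [Flat G.s] [Flat G.t]
    [LocallyOfFinitePresentation G.s] [LocallyOfFinitePresentation G.t]
    (u : ↥G.U) (hqf : Dual3.QuasiFiniteAt G.s (G.e u)) :
    ∃ (G' : Grpd.GroupoidScheme S) (φ : Grpd.GroupoidScheme.Hom G' G) (u' : ↥G'.U),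
      IsAffine G'.U ∧ Etale φ.fU ∧ φ.fU u' = u ∧ IsIso (φ.fU.residueFieldMap u') ∧
      IsPullback φ.fR G'.j G.j
        (pullback.map G'.pU G'.pU G.pU G.pU φ.fU φ.fU (𝟙 S)
          ((Category.comp_id _).trans φ.fU_over.symm) ((Category.comp_id _).trans φ.fU_over.symm)) ∧
      ∃ (P : Scheme.{u}) (ιP : P ⟶ G'.R), IsOpenImmersion ιP ∧
        (∃ eP : G'.U ⟶ P, eP ≫ ιP = G'.e) ∧ (∃ iP : P ⟶ P, iP ≫ ιP = ιP ≫ G'.i) ∧
        (∃ cP : pullback (ιP ≫ G'.s) (ιP ≫ G'.t) ⟶ P,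
          cP ≫ ιP = pullback.map (ιP ≫ G'.s) (ιP ≫ G'.t) G'.s G'.t ιP ιP (𝟙 G'.U)
            (Category.comp_id _) (Category.comp_id _) ≫ G'.c) ∧
        IsFinite (ιP ≫ G'.s) ∧ IsFinite (ιP ≫ G'.t) := by
  obtain ⟨G', φ, u', h1, h2, h3, h4, h5, P, ιP, h6, h7, h8, h9, h10, h11, -⟩ :=
    main_of_star G u {G.e u} (Set.finite_singleton _)
      (fun r hr => by rw [Set.mem_singleton_iff.1 hr]; exact e_s_apply G u)
      (fun r hr => by rw [Set.mem_singleton_iff.1 hr]; exact e_t_apply G u)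
      (fun r hr => by
        rw [Set.mem_singleton_iff.1 hr]; exact quasiFiniteAt_of_dual3 _ _ hqf)
      rfl (star_e G u)
  exact ⟨G', φ, u', h1, h2, h3, h4, h5, P, ιP, h6, h7, h8, h9, h10, h11⟩

/-- S12203 -/
theorem main12203 (S : Scheme.{u}) (G : Grpd.GroupoidScheme S) [IsAffine G.U]
    [IsSeparated G.s] [IsSeparated G.t] [Flat G.s] [Flat G.t]
    [LocallyOfFinitePresentation G.s] [LocallyOfFinitePresentation G.t]
    (u : ↥G.U) (hfin : Set.Finite {r : ↥G.R | G.s r = u ∧ G.t r = u})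
    (hqf : ∀ r : ↥G.R, G.s r = u → G.t r = u → Dual3.QuasiFiniteAt G.s r) :
    ∃ (G' : Grpd.GroupoidScheme S) (φ : Grpd.GroupoidScheme.Hom G' G) (u' : ↥G'.U),
      IsAffine G'.U ∧ Etale φ.fU ∧ φ.fU u' = u ∧ IsIso (φ.fU.residueFieldMap u') ∧
      IsPullback φ.fR G'.j G.j
        (pullback.map G'.pU G'.pU G.pU G.pU φ.fU φ.fU (𝟙 S)
          ((Category.comp_id _).trans φ.fU_over.symm) ((Category.comp_id _).trans φ.fU_over.symm)) ∧
      ∃ (P : Scheme.{u}) (ιP : P ⟶ G'.R), IsOpenImmersion ιP ∧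
        (∃ eP : G'.U ⟶ P, eP ≫ ιP = G'.e) ∧ (∃ iP : P ⟶ P, iP ≫ ιP = ιP ≫ G'.i) ∧
        (∃ cP : pullback (ιP ≫ G'.s) (ιP ≫ G'.t) ⟶ P,
          cP ≫ ιP = pullback.map (ιP ≫ G'.s) (ιP ≫ G'.t) G'.s G'.t ιP ιP (𝟙 G'.U)
            (Category.comp_id _) (Category.comp_id _) ≫ G'.c) ∧
        IsFinite (ιP ≫ G'.s) ∧ IsFinite (ιP ≫ G'.t) ∧
        ∀ r' : ↥G'.R, G'.s r' = u' → G'.t r' = u' → ∃ p : ↥P, ιP p = r' := by
  obtain ⟨G', φ, u', h1, h2, h3, h4, h5, P, ιP, h6, h7, h8, h9, h10, h11, h12⟩ :=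
    main_of_star G u {r : ↥G.R | G.s r = u ∧ G.t r = u} hfin
      (fun r hr => hr.1) (fun r hr => hr.2)
      (fun r hr => quasiFiniteAt_of_dual3 _ _ (hqf r hr.1 hr.2))
      ⟨e_s_apply G u, e_t_apply G u⟩ (star_st G u)
  refine ⟨G', φ, u', h1, h2, h3, h4, h5, P, ιP, h6, h7, h8, h9, h10, h11, ?_⟩
  intro r' hs' ht'
  refine h12 r' hs' ht' ⟨?_, ?_⟩
  · have : G.s (φ.fR r') = φ.fU (G'.s r') := by
      rw [← Scheme.Hom.comp_apply, φ.comm_s, Scheme.Hom.comp_apply]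
    rw [this, hs', h3]
  · have : G.t (φ.fR r') = φ.fU (G'.t r') := by
      rw [← Scheme.Hom.comp_apply, φ.comm_t, Scheme.Hom.comp_apply]
    rw [this, ht', h3]

end Groth.Agent.Lib.Helper3.Spl
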