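import Mathlib
import Groth.Prelude.Def_Grpd
import Groth.Prelude.Def_AlgSp
import Groth.Prelude.Def_Dual3
import Groth.Agent.Lib.Helper3.SplM

set_option autoImplicit false
universe u

namespace Groth.Agent.Lib.Helper3.Spl

open CategoryTheory CategoryTheory.Limits AlgebraicGeometry Grpd
open Groth.Agent.Lib.Helper3 Groth.Agent.Lib.Helper3.GP

set_option backward.isDefEq.respectTransparency false

variable {S : Scheme.{u}}

theorem j_fst (G : GroupoidScheme S) : G.j ≫ pullback.fst G.pU G.pU = G.t := by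
  unfold GroupoidScheme.j; exact pullback.lift_fst _ _ _

theorem j_snd (G : GroupoidScheme S) : G.j ≫ pullback.snd G.pU G.pU = G.s := by
  unfold GroupoidScheme.j; exact pullback.lift_snd _ _ _

theorem diag_fst (G : GroupoidScheme S) : G.diag ≫ pullback.fst G.pU G.pU = 𝟙 _ := by
  unfold GroupoidScheme.diag; exact pullback.lift_fst _ _ _

theorem diag_snd (G : GroupoidScheme S) : G.diag ≫ pullback.snd G.pU G.pU = 𝟙 _ := by
  unfold GroupoidScheme.diag; exact pullback.lift_snd _ _ _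

/-- the induced map on stabilizers -/
noncomputable def stabMap {G' G : GroupoidScheme S} (φ : GroupoidScheme.Hom G' G) :
    G'.stabilizer ⟶ G.stabilizer :=
  pullback.lift (pullback.fst G'.j G'.diag ≫ φ.fR) (pullback.snd G'.j G'.diag ≫ φ.fU) (by
    apply pullback.hom_ext
    · rw [Category.assoc, Category.assoc, Category.assoc, Category.assoc, j_fst, diag_fst,
        Category.comp_id, φ.comm_t, ← Category.assoc, stab_fst_t]
    · rw [Category.assoc, Category.assoc, Category.assoc, Category.assoc, j_snd, diag_snd,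
        Category.comp_id, φ.comm_s, ← Category.assoc, stab_fst_s])

theorem stabMap_fst {G' G : GroupoidScheme S} (φ : GroupoidScheme.Hom G' G) :
    stabMap φ ≫ pullback.fst G.j G.diag = pullback.fst G'.j G'.diag ≫ φ.fR :=
  pullback.lift_fst _ _ _

theorem stabMap_snd {G' G : GroupoidScheme S} (φ : GroupoidScheme.Hom G' G) :
    stabMap φ ≫ pullback.snd G.j G.diag = pullback.snd G'.j G'.diag ≫ φ.fU :=
  pullback.lift_snd _ _ _

/-- S19957 -/
theorem main19957 (S : Scheme.{u}) (G : Grpd.GroupoidScheme S) [IsAffine G.U]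
    [IsSeparated G.s] [IsSeparated G.t] [Flat G.s] [Flat G.t]
    [LocallyOfFinitePresentation G.s] [LocallyOfFinitePresentation G.t]
    (u : ↥G.U) (hfin : Set.Finite {g : ↥G.stabilizer | G.stabilizerToU g = u})
    (hqf : ∀ g : ↥G.stabilizer, G.stabilizerToU g = u →
      Dual3.QuasiFiniteAt G.s ((pullback.fst G.j G.diag : G.stabilizer ⟶ G.R) g)) :
    ∃ (G' : Grpd.GroupoidScheme S) (φ : Grpd.GroupoidScheme.Hom G' G) (u' : ↥G'.U),
      IsAffine G'.U ∧ Etale φ.fU ∧ φ.fU u' = u ∧ IsIso (φ.fU.residueFieldMap u') ∧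
      IsPullback φ.fR G'.j G.j
        (pullback.map G'.pU G'.pU G.pU G.pU φ.fU φ.fU (𝟙 S)
          ((Category.comp_id _).trans φ.fU_over.symm) ((Category.comp_id _).trans φ.fU_over.symm)) ∧
      ∃ (P : Scheme.{u}) (ιP : P ⟶ G'.R), IsOpenImmersion ιP ∧
        (∃ eP : G'.U ⟶ P, eP ≫ ιP = G'.e) ∧ (∃ iP : P ⟶ P, iP ≫ ιP = ιP ≫ G'.i) ∧
        (∃ cP : pullback (ιP ≫ G'.s) (ιP ≫ G'.t) ⟶ P,
          cP ≫ ιP = pullback.map (ιP ≫ G'.s) (ιP ≫ G'.t) G'.s G'.t ιP ιP (𝟙 G'.U)
            (Category.comp_id _) (Category.comp_id _) ≫ G'.c) ∧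
        IsFinite (ιP ≫ G'.s) ∧ IsFinite (ιP ≫ G'.t) ∧
        ∀ g' : ↥G'.stabilizer, G'.stabilizerToU g' = u' →
          ∃ p : ↥P, ιP p = (pullback.fst G'.j G'.diag : G'.stabilizer ⟶ G'.R) g' := by
  have hΦfin : (stabSet G u).Finite := by
    refine (hfin.image (pullback.fst G.j G.diag : G.stabilizer ⟶ G.R)).subset ?_
    rintro r ⟨g, hg1, hg2⟩
    exact ⟨g, hg1, hg2⟩
  have hs : ∀ (G : GroupoidScheme S) (g : G.stabilizer),
      G.s ((pullback.fst G.j G.diag : G.stabilizer ⟶ G.R) g) = G.stabilizerToU g := by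
    intro G g
    rw [← Scheme.Hom.comp_apply, stab_fst_s]; rfl
  have ht : ∀ (G : GroupoidScheme S) (g : G.stabilizer),
      G.t ((pullback.fst G.j G.diag : G.stabilizer ⟶ G.R) g) = G.stabilizerToU g := by
    intro G g
    rw [← Scheme.Hom.comp_apply, stab_fst_t]; rfl
  obtain ⟨G', φ, u', h1, h2, h3, h4, h5, P, ιP, h6, h7, h8, h9, h10, h11, h12⟩ :=
    main_of_star G u (stabSet G u) hΦfin
      (by rintro r ⟨g, hg1, rfl⟩; rw [hs, hg1])
      (by rintro r ⟨g, hg1, rfl⟩; rw [ht, hg1])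
      (by rintro r ⟨g, hg1, rfl⟩; exact quasiFiniteAt_of_dual3 _ _ (hqf g hg1))
      ⟨G.eStab u, by
        show (G.eStab ≫ pullback.snd G.j G.diag) u = u
        unfold GroupoidScheme.eStab
        rw [pullback.lift_snd]; rfl, by
        show (G.eStab ≫ pullback.fst G.j G.diag) u = G.e u
        unfold GroupoidScheme.eStab
        rw [pullback.lift_fst]⟩ (star_stab G u)
  refine ⟨G', φ, u', h1, h2, h3, h4, h5, P, ιP, h6, h7, h8, h9, h10, h11, ?_⟩
  intro g' hg'
  refine h12 _ ((hs G' g').trans hg') ((ht G' g').trans hg') ⟨stabMap φ g', ?_, ?_⟩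
  · show (stabMap φ ≫ pullback.snd G.j G.diag) g' = u
    rw [stabMap_snd, Scheme.Hom.comp_apply]
    show φ.fU (G'.stabilizerToU g') = u
    rw [hg', h3]
  · show (stabMap φ ≫ pullback.fst G.j G.diag) g' = _
    rw [stabMap_fst, Scheme.Hom.comp_apply]
    rfl

end Groth.Agent.Lib.Helper3.Spl
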