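import Mathlib
import Groth.Prelude.Def_Grpd
import Groth.Prelude.Def_AlgSp
import Groth.Prelude.Def_Dual3
import Groth.Agent.Lib.Helper3.BootD
import Groth.Agent.Lib.Helper3.SplN
import Groth.Agent.Lib.Helper3.GQRel
import Groth.Agent.Lib.Helper3.SpCoprod4
import Groth.Agent.Lib.Helper3.AlgSpLocSrc2
import Groth.Agent.Lib.Helper3.AlgSpPoints
import Groth.Agent.S9906

set_option autoImplicit false
universe u

namespace Groth.Agent.Lib.Helper3.Boot

open CategoryTheory CategoryTheory.Limits AlgebraicGeometry Grpd AlgSp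
open Groth.Agent.Lib.Helper3 Groth.Agent.Lib.Helper3.GP

set_option backward.isDefEq.respectTransparency false

variable {S : Scheme.{u}}

/-- every point of the target of a locally surjective map from a scheme comes from a point of
the scheme -/
theorem exists_ofPt_eq_of_isLocallySurjective {F : Sp S} {U : Over S} (π : (yon S).obj U ⟶ F)
    (hπ : Sheaf.IsLocallySurjective π) (x : Points F) : ∃ u : U.left, Points.ofPt π u = x := by
  obtain ⟨K, _, str, a, rfl⟩ := Points.exists_hom x
  rw [Groth.Agent.S9906.mk_fieldPtOfHom_eq_ofPt]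
  have hmem := hπ.imageSieve_mem ((AlgSp.J S).uliftYonedaEquiv.{u+1} a)
  obtain ⟨T', g, t', ⟨b, hb⟩, ht'⟩ :=
    exists_mem_sieve_of_mem_J _ hmem
      (IsLocalRing.closedPoint K : ↥(Over.mk str).left)
  have hb' : (AlgSp.J S).uliftYonedaEquiv.{u+1}.symm b ≫ π = (AlgSp.yon S).map g ≫ a := by
    apply (AlgSp.J S).uliftYonedaEquiv.{u+1}.injective
    rw [(AlgSp.J S).uliftYonedaEquiv_comp.{u+1}, Equiv.apply_symm_apply,
      ← (AlgSp.J S).uliftYonedaEquiv_naturality]
    exact hb
  obtain ⟨β, hβ⟩ := (yon S).map_surjective ((AlgSp.J S).uliftYonedaEquiv.{u+1}.symm b)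
  refine ⟨β.left t', ?_⟩
  rw [← ht', ← Points.ofPt_yon_map_comp β π t', hβ, hb', Points.ofPt_yon_map_comp]


section transfer

variable {G' G : GroupoidScheme S} (φ : GroupoidScheme.Hom G' G)
  (sq : IsPullback φ.fR G'.j G.j
    (pullback.map G'.pU G'.pU G.pU G.pU φ.fU φ.fU (𝟙 S)
      ((Category.comp_id _).trans φ.fU_over.symm) ((Category.comp_id _).trans φ.fU_over.symm)))

include sq

theorem mono_j_of_hom [Mono G.j] : Mono G'.j :=
  MorphismProperty.of_isPullback (P := MorphismProperty.monomorphisms Scheme.{u}) sq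
    (MorphismProperty.monomorphisms.infer_property G.j)

theorem lft_j_of_hom [LocallyOfFiniteType G.j] : LocallyOfFiniteType G'.j :=
  MorphismProperty.of_isPullback (P := @LocallyOfFiniteType) sq inferInstance

theorem prop_s_of_hom (P : MorphismProperty Scheme.{u}) [P.IsStableUnderBaseChange]
    [P.IsStableUnderComposition] (hs : P G.s) (hg : P φ.fU) : P G'.s :=
  (isRestr_of_hom φ sq (hom_fR_over φ)).prop_s P hs hg

theorem prop_t_of_hom (P : MorphismProperty Scheme.{u}) [P.IsStableUnderBaseChange]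
    [P.IsStableUnderComposition] (ht : P G.t) (hg : P φ.fU) : P G'.t :=
  (isRestr_of_hom φ sq (hom_fR_over φ)).prop_t P ht hg

end transfer

open Groth.Agent.Lib.Helper3.Spl in
/-- around every point of `U`, the quotient sheaf of a flat lfp locally quasi-finite equivalence
relation has an open subsheaf which is an algebraic space (groupoid form) -/
theorem exists_open_algSpace_nbhd_grpd (G : GroupoidScheme S) [Mono G.j]
    [Flat G.s] [LocallyOfFinitePresentation G.s] [LocallyQuasiFinite G.s]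
    [Flat G.t] [LocallyOfFinitePresentation G.t] [LocallyQuasiFinite G.t]
    {F : Sp S} (π : (yon S).obj (Boot.UO G) ⟶ F) (hπ : Sheaf.IsLocallySurjective π)
    (kp : IsPullback ((yon S).map (tO G)) ((yon S).map (sO G)) π π) (u : G.U) :
    ∃ (F' : Sp S) (f : F' ⟶ F), IsAlgSpace F' ∧ RepWith @IsOpenImmersion f ∧
      Points.ofPt π (u : (Boot.UO G).left) ∈ Set.range (Points.map f) := by
  haveI : LocallyOfFiniteType G.j := by
    haveI : LocallyOfFiniteType (G.j ≫ pullback.snd G.pU G.pU) := by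
      rw [Spl.j_snd]; infer_instance
    exact locallyOfFiniteType_of_comp G.j (pullback.snd G.pU G.pU)
  obtain ⟨W, hW, huW, -⟩ := exists_isAffineOpen_mem_and_subset (x := u) (U := ⊤) trivial
  -- first restriction: to the affine open `W`
  obtain ⟨GW, hGW⟩ : ∃ GW : GroupoidScheme S, GW = Spl.restrict G W.ι := ⟨_, rfl⟩
  obtain ⟨φW, sqW, hφWU⟩ : ∃ (φW : GroupoidScheme.Hom GW G), IsPullback φW.fR GW.j G.j
      (pullback.map GW.pU GW.pU G.pU G.pU φW.fU φW.fU (𝟙 S)
        ((Category.comp_id _).trans φW.fU_over.symm)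
        ((Category.comp_id _).trans φW.fU_over.symm)) ∧ IsOpenImmersion φW.fU ∧
        ∃ w₀ : GW.U, φW.fU w₀ = u := by
    subst hGW
    exact ⟨Spl.restrictHom G W.ι, Spl.isPullback_j G W.ι,
      (inferInstance : IsOpenImmersion W.ι), ⟨u, huW⟩, rfl⟩
  obtain ⟨hφWoi, w₀, hw₀⟩ := hφWU
  haveI : IsAffine GW.U := by subst hGW; exact hW
  haveI := hφWoi
  haveI : Mono GW.j := mono_j_of_hom φW sqW
  haveI : LocallyOfFiniteType GW.j := lft_j_of_hom φW sqW
  haveI : Flat GW.s := prop_s_of_hom φW sqW @Flat inferInstance inferInstance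
  haveI : Flat GW.t := prop_t_of_hom φW sqW @Flat inferInstance inferInstance
  haveI : LocallyOfFinitePresentation GW.s :=
    prop_s_of_hom φW sqW @LocallyOfFinitePresentation inferInstance inferInstance
  haveI : LocallyOfFinitePresentation GW.t :=
    prop_t_of_hom φW sqW @LocallyOfFinitePresentation inferInstance inferInstance
  haveI : LocallyQuasiFinite GW.s :=
    prop_s_of_hom φW sqW @LocallyQuasiFinite inferInstance inferInstance
  haveI : IsSeparated GW.s := by rw [← Spl.j_snd GW]; infer_instance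
  haveI : IsSeparated GW.t := by rw [← Spl.j_fst GW]; infer_instance
  have hqf : Dual3.QuasiFiniteAt GW.s (GW.e w₀) :=
    Scheme.Hom.quasiFiniteAt_iff_isOpen_singleton_asFiber.1 (GW.s.quasiFiniteAt _)
  obtain ⟨G', φ, u', hG'aff, hφet, hφu, -, sq', P, ιP, hιP, he, hi, hc, hfs, hft⟩ :=
    Spl.main12202 S GW w₀ hqf
  haveI := hG'aff
  haveI := hφet
  haveI := hιP
  haveI := hfs
  haveI := hft
  haveI : Mono G'.j := mono_j_of_hom φ sq'
  haveI : LocallyOfFiniteType G'.j := lft_j_of_hom φ sq'
  haveI : Flat G'.s := prop_s_of_hom φ sq' @Flat inferInstance inferInstance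
  haveI : Flat G'.t := prop_t_of_hom φ sq' @Flat inferInstance inferInstance
  haveI : LocallyOfFinitePresentation G'.s :=
    prop_s_of_hom φ sq' @LocallyOfFinitePresentation inferInstance inferInstance
  haveI : LocallyOfFinitePresentation G'.t :=
    prop_t_of_hom φ sq' @LocallyOfFinitePresentation inferInstance inferInstance
  -- the quotient of the restricted relation
  have hπ' : Sheaf.IsLocallySurjective (QuotRel.quotMap (sO G') (tO G')) :=
    (Sheaf.isLocallySurjective_iff_epi _).2 inferInstance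
  have kp' := QuotRel.isPullback_of_isEqvRel (isEqvRel_of_mono_j G')
    (QuotRel.quotMap (sO G') (tO G')) (QuotRel.quotMap_coeq _ _)
    (QuotRel.exists_desc_quotMap _ _ (QuotRel.toG _ _) (QuotRel.toG_coeq _ _))
  have hAlg := isAlgSpace_of_quasiSplit G' P ιP he hi hc _ hπ' kp'
  -- the composite restriction
  have hRR := (isRestr_of_hom φW sqW (hom_fR_over φW)).comp
    (isRestr_of_hom φ sq' (hom_fR_over φ))
  obtain ⟨g_o, hg_o⟩ : ∃ g_o : Boot.UO G' ⟶ Boot.UO G, g_o =
      (Over.homMk φ.fU φ.fU_over : Boot.UO G' ⟶ Boot.UO GW) ≫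
        (Over.homMk φW.fU φW.fU_over : Boot.UO GW ⟶ Boot.UO G) := ⟨_, rfl⟩
  rw [← hg_o] at hRR
  have hgl : g_o.left = φ.fU ≫ φW.fU := by rw [hg_o]; rfl
  have hcoeq : (yon S).map (sO G') ≫ (yon S).map g_o ≫ π =
      (yon S).map (tO G') ≫ (yon S).map g_o ≫ π := by
    have e1 := congrArg (fun k => (yon S).map k) hRR.c2
    have e2 := congrArg (fun k => (yon S).map k) hRR.c1
    simp only [Functor.map_comp] at e1 e2
    rw [← Category.assoc, ← Category.assoc, e1, e2]
    simp only [Category.assoc]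
    rw [kp.w]
  obtain ⟨f, hf⟩ := QuotRel.exists_desc_quotMap (sO G') (tO G') ((yon S).map g_o ≫ π) hcoeq
  haveI : Flat g_o.left := by rw [hgl]; infer_instance
  haveI : LocallyOfFinitePresentation g_o.left := by rw [hgl]; infer_instance
  haveI : Flat (sO G).left := ‹Flat G.s›
  haveI : LocallyOfFinitePresentation (sO G).left := ‹LocallyOfFinitePresentation G.s›
  have hopen := QuotRel.repWith_isOpenImmersion_of_restrict (sO G) (tO G) g_o (sO G') (tO G') _
    hRR.isPullback π hπ kp _ hπ' (QuotRel.quotMap_coeq _ _) f hf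
  refine ⟨_, f, hAlg, hopen,
    ⟨Points.ofPt (QuotRel.quotMap (sO G') (tO G')) (u' : (Boot.UO G').left), ?_⟩⟩
  rw [Points.map_ofPt, hf, Points.ofPt_yon_map_comp]
  congr 1
  rw [hgl]
  show φW.fU (φ.fU u') = u
  rw [hφu, hw₀]


/-- the locally quasi-finite case of the bootstrap theorem (groupoid form) -/
theorem isAlgSpace_of_lqf_grpd (G : GroupoidScheme S) [Mono G.j]
    [Flat G.s] [LocallyOfFinitePresentation G.s] [LocallyQuasiFinite G.s]
    [Flat G.t] [LocallyOfFinitePresentation G.t] [LocallyQuasiFinite G.t]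
    {F : Sp S} (π : (yon S).obj (Boot.UO G) ⟶ F) (hπ : Sheaf.IsLocallySurjective π)
    (kp : IsPullback ((yon S).map (tO G)) ((yon S).map (sO G)) π π) : IsAlgSpace F := by
  choose F' f hAlg hopen hmem using
    (fun u : G.U => exists_open_algSpace_nbhd_grpd G π hπ kp u)
  refine isAlgSpace_of_zarCover F' f ⟨hopen, fun x => ?_⟩ hAlg
  obtain ⟨u, rfl⟩ := exists_ofPt_eq_of_isLocallySurjective π hπ x
  exact ⟨u, hmem u⟩

/-- the locally quasi-finite case of the bootstrap theorem -/
theorem isAlgSpace_of_lqf {R U : Over S} (s t : R ⟶ U) (h : IsEqvRel s t)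
    [Flat s.left] [LocallyOfFinitePresentation s.left] [LocallyQuasiFinite s.left]
    [Flat t.left] [LocallyOfFinitePresentation t.left] [LocallyQuasiFinite t.left]
    {F : Sp S} (π : (yon S).obj U ⟶ F) (hπ : Sheaf.IsLocallySurjective π)
    (kp : IsPullback ((yon S).map t) ((yon S).map s) π π) : IsAlgSpace F := by
  haveI : Mono (GQ.ofEqvRel s t h).j := GQ.ofEqvRel_mono_j s t h
  haveI : Flat (GQ.ofEqvRel s t h).s := ‹Flat s.left›
  haveI : LocallyOfFinitePresentation (GQ.ofEqvRel s t h).s :=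
    ‹LocallyOfFinitePresentation s.left›
  haveI : LocallyQuasiFinite (GQ.ofEqvRel s t h).s := ‹LocallyQuasiFinite s.left›
  haveI : Flat (GQ.ofEqvRel s t h).t := ‹Flat t.left›
  haveI : LocallyOfFinitePresentation (GQ.ofEqvRel s t h).t :=
    ‹LocallyOfFinitePresentation t.left›
  haveI : LocallyQuasiFinite (GQ.ofEqvRel s t h).t := ‹LocallyQuasiFinite t.left›
  let ε : R ≅ Boot.RO (GQ.ofEqvRel s t h) := Over.isoMk (Iso.refl R.left) (by
    show 𝟙 R.left ≫ s.left ≫ U.hom = R.hom
    rw [Category.id_comp]; exact Over.w s)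
  have hεt : ε.hom ≫ tO (GQ.ofEqvRel s t h) = t := by
    ext
    show 𝟙 R.left ≫ t.left = t.left
    rw [Category.id_comp]
  have hεs : ε.hom ≫ sO (GQ.ofEqvRel s t h) = s := by
    ext
    show 𝟙 R.left ≫ s.left = s.left
    rw [Category.id_comp]
  have kp' : IsPullback ((yon S).map (tO (GQ.ofEqvRel s t h)))
      ((yon S).map (sO (GQ.ofEqvRel s t h))) π π :=
    IsPullback.of_iso kp ((yon S).mapIso ε) (Iso.refl _) (Iso.refl _) (Iso.refl _)
      (by rw [Iso.refl_hom, Category.comp_id, Functor.mapIso_hom, ← Functor.map_comp, hεt])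
      (by rw [Iso.refl_hom, Category.comp_id, Functor.mapIso_hom, ← Functor.map_comp, hεs])
      (by simp) (by simp)
  exact isAlgSpace_of_lqf_grpd (GQ.ofEqvRel s t h) π hπ kp'

/-- the fppf quotient of a flat lfp locally quasi-finite equivalence relation is an algebraic
space -/
theorem isAlgSpace_quot_of_lqf {R U : Over S} (s t : R ⟶ U) (h : IsEqvRel s t)
    [Flat s.left] [LocallyOfFinitePresentation s.left] [LocallyQuasiFinite s.left]
    [Flat t.left] [LocallyOfFinitePresentation t.left] [LocallyQuasiFinite t.left] :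
    IsAlgSpace (QuotSh.quot Scheme.fppfPrecoverage s t) :=
  isAlgSpace_of_lqf s t h (QuotRel.quotMap s t)
    ((Sheaf.isLocallySurjective_iff_epi _).2 inferInstance)
    (QuotRel.isPullback_of_isEqvRel h (QuotRel.quotMap s t) (QuotRel.quotMap_coeq _ _)
      (QuotRel.exists_desc_quotMap _ _ (QuotRel.toG _ _) (QuotRel.toG_coeq _ _)))

end Groth.Agent.Lib.Helper3.Boot
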