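import Mathlib.AlgebraicGeometry.Morphisms.ClosedImmersion
import Mathlib.AlgebraicGeometry.Morphisms.FinitePresentation
import Mathlib.RingTheory.FinitePresentation

set_option autoImplicit false
universe u
open CategoryTheory CategoryTheory.Limits AlgebraicGeometry

namespace Groth.Agent.Lib.Helper3

theorem ker_fg_iff_finitePresentation_of_surjective {A B : Type u} [CommRing A] [CommRing B]
    (φ : A →+* B) (hφ : Function.Surjective φ) : φ.FinitePresentation ↔ (RingHom.ker φ).FG := by
  constructor
  · intro h
    algebraize [φ]
    have := Algebra.FinitePresentation.ker_fG_of_surjective (Algebra.ofId A B) hφ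
    exact this
  · exact RingHom.FinitePresentation.of_surjective φ hφ

/-- A closed immersion into an affine scheme is locally of finite presentation exactly when its
kernel ideal on global sections is finitely generated. -/
theorem closedImmersion_lfp_iff_ker_fg {A B : Scheme.{u}} [IsAffine B] (g : A ⟶ B)
    [IsClosedImmersion g] : LocallyOfFinitePresentation g ↔ (RingHom.ker g.appTop.hom).FG := by
  obtain ⟨h1, h2⟩ := IsClosedImmersion.isAffine_surjective_of_isAffine g
  rw [HasRingHomProperty.iff_of_isAffine (P := @LocallyOfFinitePresentation)]
  exact ker_fg_iff_finitePresentation_of_surjective _ h2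

end Groth.Agent.Lib.Helper3
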