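import Groth.Agent.Lib.Helper3.AlgSpResTrdeg
import Groth.Agent.Lib.Helper3.ResTrdegJacobson
import Groth.Agent.Lib.Helper3.AlgSpLocP

set_option autoImplicit false
universe u
open CategoryTheory CategoryTheory.Limits AlgebraicGeometry
open AlgSp

namespace Groth.Agent.Lib.Helper3

/-- A point of the source of a locally quasi-finite morphism over a closed point is closed. -/
theorem isClosed_singleton_of_locallyQuasiFinite {A B : Scheme.{u}} (p : A ⟶ B)
    [LocallyQuasiFinite p] (w : A) (h : IsClosed ({p w} : Set B)) : IsClosed ({w} : Set A) := by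
  have hd : _root_.IsDiscrete (p ⁻¹' {p w}) := p.isDiscrete_preimage_singleton (p w)
  have hs : IsClosed (p ⁻¹' {p w}) := h.preimage p.continuous
  have : DiscreteTopology (p ⁻¹' {p w}) := isDiscrete_iff_discreteTopology.1 hd
  have h1 : IsClosed (Subtype.val '' ({⟨w, rfl⟩} : Set (p ⁻¹' {p w}))) :=
    hs.isClosedEmbedding_subtypeVal.isClosedMap _ (isClosed_discrete _)
  simpa using h1

end Groth.Agent.Lib.Helper3
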