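import Mathlib
import Groth.Agent.Lib.Helper3.RNFinal

set_option autoImplicit false
universe u w

namespace Groth.Agent.Lib.Helper3.RelNorm

open CategoryTheory CategoryTheory.Limits AlgebraicGeometry Opposite AlgSp
open Groth.Agent.Lib.Helper3

variable {S : Scheme.{u}}

theorem main10295 {Y X : AlgSp.Space S} (f : Y ⟶ X)
    (hqc : AlgSp.IsQuasiCompactMor f.hom) (hqs : AlgSp.IsQuasiSeparatedMor f.hom) :
    ∃ (X' : AlgSp.Space S) (ν : X' ⟶ X) (f' : Y ⟶ X'),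
      AlgSp.IsRelNormalization f.hom ν.hom f'.hom := by
  obtain ⟨X', ν, f', hf, hX', hν, hUN⟩ := exists_UN X.property f.hom hqc hqs
  exact ⟨⟨X', hX'⟩, ObjectProperty.homMk ν, ObjectProperty.homMk f',
    isRelNormalization_of_UN etale_le_smooth X.property f.hom ν f' hf hν hUN⟩

theorem main10297 {Y X X' W YW X'W : AlgSp.Space S} (f : Y ⟶ X)
    (hqc : AlgSp.IsQuasiCompactMor f.hom) (hqs : AlgSp.IsQuasiSeparatedMor f.hom) (ν : X' ⟶ X)
    (f' : Y ⟶ X')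
    (hn : AlgSp.IsRelNormalization f.hom ν.hom f'.hom) (w : W ⟶ X)
    (hw : AlgSp.IsEtaleMor w.hom)
    (a : YW ⟶ Y) (fW : YW ⟶ W) (sq1 : IsPullback a.hom fW.hom f.hom w.hom)
    (b : X'W ⟶ X') (νW : X'W ⟶ W) (sq2 : IsPullback b.hom νW.hom ν.hom w.hom)
    (f'W : YW ⟶ X'W) (c1 : f'W ≫ νW = fW) (c2 : f'W ≫ b = a ≫ f') :
    AlgSp.IsRelNormalization fW.hom νW.hom f'W.hom := by
  have hUN := un_of_isRelNormalization X.property X'.property f.hom hqc hqs ν.hom f'.hom hn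
  have hUNe : UN @Etale f.hom ν.hom f'.hom hn.1 := hUN.mono etale_le_smooth
  have key := normAt_of_UN (le_refl _) hUNe hn.2.1 W.property w.hom
    (fun W₁ w₁ _ h => hw w₁ h)
  rw [normAt_iff_of_isPullback hn.1 w.hom sq1 sq2 f'W.hom (congrArg (fun k => k.hom) c1)
    (congrArg (fun k => k.hom) c2)] at key
  exact key

theorem main10612 {X₁ X₂ Y₁ Y₂ X₁' P : AlgSp.Space S}
    (f₁ : Y₁ ⟶ X₁) (φ : X₂ ⟶ X₁) (f₂ : Y₂ ⟶ X₂) (ψ : Y₂ ⟶ Y₁)
    (hsq : IsPullback ψ.hom f₂.hom f₁.hom φ.hom)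
    (hqc : AlgSp.IsQuasiCompactMor f₁.hom) (hqs : AlgSp.IsQuasiSeparatedMor f₁.hom)
    (hφ : AlgSp.LocP @Smooth φ.hom)
    (ν₁ : X₁' ⟶ X₁) (f₁' : Y₁ ⟶ X₁')
    (hn : AlgSp.IsRelNormalization f₁.hom ν₁.hom f₁'.hom)
    (ν₂ : P ⟶ X₂) (ρ : P ⟶ X₁') (hP : IsPullback ρ.hom ν₂.hom ν₁.hom φ.hom)
    (f₂' : Y₂ ⟶ P) (w₁ : f₂' ≫ ν₂ = f₂) (w₂ : f₂' ≫ ρ = ψ ≫ f₁') :
    AlgSp.IsRelNormalization f₂.hom ν₂.hom f₂'.hom := by
  have hUN := un_of_isRelNormalization X₁.property X₁'.property f₁.hom hqc hqs ν₁.hom f₁'.hom hn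
  have key := normAt_of_UN etale_le_smooth hUN hn.2.1 X₂.property φ.hom (by
    intro W₁ w₁ _ h
    exact repWith_of_locP isEtLocal_smooth (IsAlgSpace.yon_obj W₁) X₁.property _
      (X₁.property.representable_from_yon _)
      (locP_comp isEtLocal_smooth (IsAlgSpace.yon_obj W₁) X₂.property X₁.property w₁ φ.hom
        (locP_of_repWith isEtLocal_smooth w₁ h) hφ))
  rw [normAt_iff_of_isPullback hn.1 φ.hom hsq hP f₂'.hom (congrArg (fun k => k.hom) w₁)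
    (congrArg (fun k => k.hom) w₂)] at key
  exact key

end Groth.Agent.Lib.Helper3.RelNorm
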