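import Groth.Agent.Lib.Helper3.RNAff6
import Groth.Agent.Lib.Helper3.RNResults
import Groth.Agent.Lib.Helper3.AlgSpEtaleDim

set_option autoImplicit false
universe u

namespace Groth.Agent.Lib.Helper3.RelNorm

open CategoryTheory CategoryTheory.Limits AlgebraicGeometry Opposite AlgSp TensorProduct
open Groth.Agent.Lib.Helper3

variable {S : Scheme.{u}}

variable {A : Type u} [CommRing A] (str : Spec (CommRingCat.of A) ⟶ S)

/-- **Existence of an affine presentation** of a quasi-compact quasi-separated algebraic space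
over an affine base. -/
theorem exists_isPres_etale {Y : Sp S} (f : Y ⟶ (yon S).obj (Over.mk str))
    (hqc : IsQuasiCompactMor f) (hqs : IsQuasiSeparatedMor f) :
    ∃ (C D : Type u) (_ : CommRing C) (_ : CommRing D) (_ : Algebra A C) (_ : Algebra A D)
      (p₁ p₂ : C →ₐ[A] D) (v : (yon S).obj (specOver str C) ⟶ Y), IsPres str f p₁ p₂ v ∧ RepWith @Etale v := by
  -- `Y` is quasi-compact
  have hWc : CompactSpace ↥(Over.mk str).left :=
    inferInstanceAs (CompactSpace ↥(Spec (CommRingCat.of A)))
  have hYqc : IsQuasiCompactSp Y :=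
    hqc (IsAlgSpace.yon_obj _) (isQuasiCompactSp_yon hWc) (𝟙 _) (𝟙 Y) f
      (IsPullback.of_horiz_isIso ⟨by simp⟩)
  obtain ⟨V, v₀, hv₀e, hv₀s, hVa⟩ := exists_affine_chart_of_isQuasiCompactSp hYqc
  obtain ⟨π₀, hπ₀⟩ := (yon S).map_surjective (v₀ ≫ f)
  obtain ⟨C, _, _, eV, heV⟩ := exists_specOver_iso str V hVa π₀
  let v : (yon S).obj (specOver str C) ⟶ Y := (yon S).map eV.hom ≫ v₀
  have hve : RepWith @Etale v := MorphismProperty.RespectsIso.precomp _ _ _ hv₀e
  have hvs : RepWith @Surjective v := MorphismProperty.RespectsIso.precomp _ _ _ hv₀s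
  have hvl : Sheaf.IsLocallySurjective v :=
    Groth.Agent.S9883.isLocallySurjective_of_etale_surjective _ hve hvs
  have hcomm : v ≫ f = (yon S).map (specOverBase str C) := by
    rw [Category.assoc, ← hπ₀, ← Functor.map_comp, heV]
  -- the kernel pair
  let K₀ : Over S := hve.rep.pullback v
  let k₁ : K₀ ⟶ specOver str C := hve.rep.fst' v
  let k₂ : K₀ ⟶ specOver str C := hve.rep.snd v
  have kp : IsPullback ((yon S).map k₁) ((yon S).map k₂) v v := hve.rep.isPullback' v
  have hk12 : k₁ ≫ specOverBase str C = k₂ ≫ specOverBase str C := by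
    apply (yon S).map_injective
    rw [Functor.map_comp, Functor.map_comp, ← hcomm, ← Category.assoc, kp.w, Category.assoc]
  -- `K₀` is quasi-compact
  let VV : Over S := pullback (specOverBase str C) (specOverBase str C)
  let d : K₀ ⟶ VV := pullback.lift k₁ k₂ hk12
  obtain ⟨m', sqd⟩ := isPullback_kernel_diagonal f v k₁ k₂ kp (specOverBase str C)
    (pullback.fst _ _) (pullback.snd _ _) (IsPullback.of_hasPullback _ _) d
    (pullback.lift_fst _ _ _) (pullback.lift_snd _ _ _) (𝟙 _)
    (by rw [Category.comp_id, hcomm])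
  have hdq : QuasiCompact d.left :=
    (repWith_yon_map_iff _ _).1 (MorphismProperty.of_isPullback sqd hqs)
  have hVVa : IsAffine VV.left := by
    have sq := (IsPullback.of_hasPullback (specOverBase str C) (specOverBase str C)).map
      (Over.forget S)
    have h1 : IsAffine ((Over.forget S).obj (specOver str C)) :=
      inferInstanceAs (IsAffine (Spec (CommRingCat.of C)))
    have h2 : IsAffineHom ((Over.forget S).map (specOverBase str C)) := by
      change IsAffineHom (Spec.map _)
      infer_instance
    exact IsAffine.of_isPullback sq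
  have hK₀c : CompactSpace ↥K₀.left := QuasiCompact.compactSpace_of_compactSpace d.left
  -- affine cover of `K₀`
  obtain ⟨M, m, hms, hme, hMa⟩ := Scheme.exists_hom_isAffine_of_isZariskiLocalAtSource @Etale K₀.left
  let K : Over S := Over.mk (m ≫ K₀.hom)
  let mK : K ⟶ K₀ := Over.homMk m rfl
  obtain ⟨D, _, _, eK, heK⟩ := exists_specOver_iso str K hMa (mK ≫ k₁ ≫ specOverBase str C)
  obtain ⟨q, hqdef⟩ : ∃ q : specOver str D ⟶ K₀, q = eK.hom ≫ mK := ⟨_, rfl⟩
  have hq1 : (q ≫ k₁) ≫ specOverBase str C = specOverBase str D := by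
    rw [← heK, hqdef, Category.assoc, Category.assoc]
  have hq2 : (q ≫ k₂) ≫ specOverBase str C = specOverBase str D := by
    rw [Category.assoc, ← hk12, ← Category.assoc, hq1]
  obtain ⟨p₁, hp₁⟩ := exists_algHom_of_hom str (q ≫ k₁) hq1
  obtain ⟨p₂, hp₂⟩ := exists_algHom_of_hom str (q ≫ k₂) hq2
  have hqe : Etale q.left := by
    rw [hqdef]
    change Etale (eK.hom.left ≫ m)
    have : IsIso eK.hom.left := inferInstanceAs (IsIso ((Over.forget S).map eK.hom))
    infer_instance
  have hqs' : Surjective q.left := by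
    rw [hqdef]
    change Surjective (eK.hom.left ≫ m)
    have : IsIso eK.hom.left := inferInstanceAs (IsIso ((Over.forget S).map eK.hom))
    infer_instance
  refine ⟨C, D, inferInstance, inferInstance, inferInstance, inferInstance, p₁, p₂, v,
    ⟨hvl, hcomm, ?_, ?_⟩, hve⟩
  · rw [hp₁, hp₂, Functor.map_comp, Functor.map_comp, Category.assoc, Category.assoc, kp.w]
  · intro T a b hab
    obtain ⟨r, hr⟩ := (yon S).map_surjective (kp.lift _ _ hab)
    have hr1 : r ≫ k₁ = a := by
      apply (yon S).map_injective
      rw [Functor.map_comp, hr, kp.lift_fst]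
    have hr2 : r ≫ k₂ = b := by
      apply (yon S).map_injective
      rw [Functor.map_comp, hr, kp.lift_snd]
    let T' : Over S := pullback r q
    have hpe : Etale (pullback.fst r q).left := MorphismProperty.of_isPullback (P := @Etale)
      ((IsPullback.of_hasPullback r q).flip.map (Over.forget S)) hqe
    have hps : Surjective (pullback.fst r q).left :=
      MorphismProperty.of_isPullback (P := @Surjective)
        ((IsPullback.of_hasPullback r q).flip.map (Over.forget S)) hqs'
    refine ⟨Sieve.generate (Presieve.ofArrows (fun _ : Unit => T') (fun _ => pullback.fst r q)),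
      generate_ofArrows_mem_J_of_fppf _ _ (fun _ => inferInstance) (fun _ => inferInstance)
        (fun t => ⟨(), hps.surj t⟩), ?_⟩
    rintro T'' φ ⟨Y', h', g', ⟨_⟩, rfl⟩
    refine ⟨h' ≫ pullback.snd r q, ?_, ?_⟩
    · rw [hp₁, Category.assoc, ← Category.assoc (pullback.snd r q), ← pullback.condition,
        Category.assoc, hr1, Category.assoc]
    · rw [hp₂, Category.assoc, ← Category.assoc (pullback.snd r q), ← pullback.condition,
        Category.assoc, hr2, Category.assoc]

end Groth.Agent.Lib.Helper3.RelNorm
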