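import Groth.Agent.Lib.Helper3.CodimNorm1
import Groth.Agent.Lib.Helper3.AlgSpIntegralDim
import Groth.Agent.Lib.Helper3.AlgSpPoints
import Groth.Agent.Lib.Helper3.SpUC
import Groth.Agent.S9937

set_option autoImplicit false
universe u

namespace Groth.Agent.Lib.Helper3.RelNorm

open CategoryTheory CategoryTheory.Limits AlgebraicGeometry Opposite AlgSp TensorProduct
open Groth.Agent.Lib.Helper3

variable {S : Scheme.{u}}

/-- The local ring of `Spec R` at a point has dimension zero iff the point is a minimal prime. -/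
theorem dim_stalk_spec_eq_zero_iff (R : CommRingCat.{u}) (x : ↥(Spec R)) :
    ringKrullDim ((Spec R).presheaf.stalk x) = 0 ↔ x.asIdeal ∈ minimalPrimes R := by
  let k : Algebra ↑R ↑((Spec R).presheaf.stalk x) := StructureSheaf.stalkAlgebra (↑R) x
  have : IsLocalization.AtPrime (↑((Spec R).presheaf.stalk x)) x.asIdeal :=
    StructureSheaf.IsLocalization.to_stalk R x
  rw [IsLocalization.AtPrime.ringKrullDim_eq_height x.asIdeal ((Spec R).presheaf.stalk x),
    ← Ideal.height_eq_zero_iff]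
  exact_mod_cast Iff.rfl

abbrev D0 : ∀ U : Scheme.{u}, ↥U → Prop := fun U u => ringKrullDim ↥(U.presheaf.stalk u) = 0

/-- `HasAt D0` holds at every chart point. -/
theorem dim_zero_of_hasAt {X : Sp S} {x : Points X} (hx : HasAt D0 X x) {U : Over S}
    (a : (yon S).obj U ⟶ X) (ha : RepWith @Etale a) (u : ↥U.left) (hu : Points.ofPt a u = x) :
    ringKrullDim ↥(U.left.presheaf.stalk u) = 0 := by
  obtain ⟨E, e, ε, he, hε, hdim⟩ := hx
  rw [ringKrullDim_stalk_eq_of_ofPt_eq a e ha he u ε (hu.trans hε.symm)]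
  exact hdim

/-- `HasAt D0` lifts along representable etale morphisms. -/
theorem hasAt_of_etale {X X₁ : Sp S} (hX₁ : IsAlgSpace X₁) (p : X₁ ⟶ X) (hp : RepWith @Etale p)
    (z : Points X₁) (hx : HasAt D0 X (Points.map p z)) : HasAt D0 X₁ z := by
  obtain ⟨T, τ, t, -, hτ, ht⟩ := exists_affine_chart_through hX₁ z
  refine ⟨T, τ, t, hτ, ht, ?_⟩
  refine dim_zero_of_hasAt hx (τ ≫ p) (MorphismProperty.comp_mem _ _ _ hτ hp) t ?_
  rw [← Points.map_ofPt, ht]

/-- `HasAt D0` descends along representable etale morphisms. -/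
theorem hasAt_map_of_etale {X X₁ : Sp S} (p : X₁ ⟶ X) (hp : RepWith @Etale p)
    (z : Points X₁) (hz : HasAt D0 X₁ z) : HasAt D0 X (Points.map p z) := by
  obtain ⟨E, e, ε, he, hε, hdim⟩ := hz
  exact ⟨E, e ≫ p, ε, MorphismProperty.comp_mem _ _ _ he hp, by rw [← Points.map_ofPt, hε], hdim⟩

variable {A : Type u} [CommRing A] (str : Spec (CommRingCat.of A) ⟶ S)

/-- The affine case. -/
theorem exists_codimZero_lift_affine {Y : Sp S} (f : Y ⟶ (yon S).obj (Over.mk str))
    (hqc : IsQuasiCompactMor f) (hqs : IsQuasiSeparatedMor f) {X' : Sp S} (hX' : IsAlgSpace X')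
    (ν : X' ⟶ (yon S).obj (Over.mk str)) (f' : Y ⟶ X') (hn : IsRelNormalization f ν f')
    (x' : Points X') (hx' : HasAt D0 X' x') :
    ∃ y : Points Y, HasAt D0 Y y ∧ Points.map f' y = x' := by
  obtain ⟨C, D, _, _, _, _, p₁, p₂, v, hP, hve⟩ := exists_isPres_etale str f hqc hqs
  have hN := isNormRing_normSub p₁ p₂
  obtain ⟨f'₀, hf'v, hf₀, hn₀⟩ := crit str f hP hN
  obtain ⟨e, he1, he2⟩ := isRelNormalization_unique hX' (IsAlgSpace.yon_obj _) hn hn₀
  obtain ⟨a', ha'⟩ := (Points.schemeHomeo (specOver str (normSub p₁ p₂))).surjective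
    (Points.map e.hom x')
  have he' : RepWith @Etale e.inv :=
    Groth.Agent.S9937.repWith_of_isIso @Etale (fun g _ => inferInstance) e.inv
  have hpt : Points.ofPt e.inv a' = x' := by
    rw [Points.ofPt_eq_map_ofScheme]
    change Points.map e.inv (Points.schemeHomeo _ a') = x'
    rw [ha', ← Points.map_comp, e.hom_inv_id, Points.map_id]
  have hdim' : ringKrullDim ↥((specOver str (normSub p₁ p₂)).left.presheaf.stalk a') = 0 :=
    dim_zero_of_hasAt hx' e.inv he' a' hpt
  have hmin : a'.asIdeal ∈ minimalPrimes (normSub p₁ p₂) :=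
    (dim_stalk_spec_eq_zero_iff (CommRingCat.of (normSub p₁ p₂)) a').1 hdim'
  let a'' : PrimeSpectrum ↥(normSub p₁ p₂) := a'
  obtain ⟨q, hq, hqc'⟩ := Ideal.exists_minimalPrimes_comap_eq (I := ⊥)
    (normSub p₁ p₂).val.toRingHom a''.asIdeal (by
      have : Ideal.comap (normSub p₁ p₂).val.toRingHom ⊥ = ⊥ :=
        Ideal.comap_bot_of_injective _ hN.inj
      rw [this]
      exact hmin)
  have hqp : q.IsPrime := hq.1.1
  let c : ↥(Spec (CommRingCat.of C)) := ⟨q, hqp⟩
  have hc : (specOverMap str (normSub p₁ p₂).val).left c = a' := PrimeSpectrum.ext hqc'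
  have hcdim : ringKrullDim ↥((specOver str C).left.presheaf.stalk c) = 0 :=
    (dim_stalk_spec_eq_zero_iff (CommRingCat.of C) c).2 hq
  refine ⟨Points.ofPt v c, ⟨specOver str C, v, c, hve, rfl, hcdim⟩, ?_⟩
  rw [Points.map_ofPt]
  have : v ≫ f' = (yon S).map (specOverMap str (normSub p₁ p₂).val) ≫ e.inv := by
    rw [← hf'v, Category.assoc, ← he1, Category.assoc, e.hom_inv_id, Category.comp_id]
  rw [this, SpUC.ofPt_comp_yon_map, hc, hpt]

end Groth.Agent.Lib.Helper3.RelNorm
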