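import Groth.Agent.Lib.Helper3.CodimNorm2
import Groth.Agent.Lib.Helper3.RNMain

set_option autoImplicit false
universe u

namespace Groth.Agent.Lib.Helper3.RelNorm

open CategoryTheory CategoryTheory.Limits AlgebraicGeometry Opposite AlgSp TensorProduct
open Groth.Agent.Lib.Helper3

variable {S : Scheme.{u}}

theorem main10317 {Y X X' : AlgSp.Space S} (f : Y ⟶ X)
    (hqc : AlgSp.IsQuasiCompactMor f.hom) (hqs : AlgSp.IsQuasiSeparatedMor f.hom) (ν : X' ⟶ X)
    (f' : Y ⟶ X')
    (hn : AlgSp.IsRelNormalization f.hom ν.hom f'.hom) (x' : AlgSp.Points X'.obj)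
    (hx' : AlgSp.HasAt D0 X'.obj x') :
    ∃ y : AlgSp.Points Y.obj, AlgSp.HasAt D0 Y.obj y ∧ AlgSp.Points.map f'.hom y = x' := by
  obtain ⟨U, φ, u, hU, hφ, hu⟩ := exists_affine_chart_through X.property (Points.map ν.hom x')
  have hU' : IsAffine U.left := hU
  -- a literal spectrum
  let A : Type u := Γ(U.left, ⊤)
  let str : Spec (CommRingCat.of A) ⟶ S := U.left.isoSpec.inv ≫ U.hom
  let eW : Over.mk str ≅ U := Over.isoMk U.left.isoSpec.symm rfl
  let w : (yon S).obj (Over.mk str) ⟶ X.obj := (yon S).map eW.hom ≫ φ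
  have hwe : RepWith @Etale w := MorphismProperty.RespectsIso.precomp _ _ _ hφ
  have hWa : IsAffine (Over.mk str).left := inferInstanceAs (IsAffine (Spec (CommRingCat.of A)))
  let w₀ : ↥(Over.mk str).left := eW.inv.left u
  have hw₀ : Points.ofPt w w₀ = Points.map ν.hom x' := by
    rw [SpUC.ofPt_comp_yon_map, ← hu]
    congr 1
    change (eW.inv.left ≫ eW.hom.left) u = u
    rw [← Over.comp_left, eW.inv_hom_id]
    rfl
  -- the base change
  have hUN := un_of_isRelNormalization X.property X'.property f.hom hqc hqs ν.hom f'.hom hn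
  have key : NormAt f.hom ν.hom f'.hom hn.1 w :=
    (hUN.mono etale_le_smooth) w hWa hwe
  rw [normAt_def] at key
  have sqX := IsPullback.of_hasPullback ν.hom w
  have sqY := IsPullback.of_hasPullback f.hom w
  have hX'W : IsAlgSpace (pullback ν.hom w) :=
    isAlgSpace_of_isPullback' X.property X'.property (IsAlgSpace.yon_obj _) sqX
  have hpe : RepWith @Etale (pullback.fst ν.hom w) := MorphismProperty.of_isPullback sqX.flip hwe
  have hpe' : RepWith @Etale (pullback.fst f.hom w) := MorphismProperty.of_isPullback sqY.flip hwe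
  -- lift the point
  obtain ⟨z, hz1, -⟩ := Points.exists_of_isPullback sqX x' (Points.ofScheme _ w₀) (by
    rw [← hw₀, Points.ofPt_eq_map_ofScheme])
  have hz : HasAt D0 (pullback ν.hom w) z := hasAt_of_etale hX'W _ hpe z (by rw [hz1]; exact hx')
  obtain ⟨yW, hyW, hyz⟩ := exists_codimZero_lift_affine str (pullback.snd f.hom w)
    (isQuasiCompactMor_snd hqc w) (isQuasiSeparatedMor_snd hqs w) hX'W (pullback.snd ν.hom w)
    (bcMap f.hom ν.hom f'.hom hn.1 w) key z hz
  refine ⟨Points.map (pullback.fst f.hom w) yW, hasAt_map_of_etale _ hpe' yW hyW, ?_⟩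
  rw [← Points.map_comp, ← bcMap_fst f.hom ν.hom f'.hom hn.1 w, Points.map_comp, hyz, hz1]

end Groth.Agent.Lib.Helper3.RelNorm
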