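import Groth.Agent.Lib.Helper3.SchImQC3
set_option autoImplicit false
universe u
open CategoryTheory CategoryTheory.Limits AlgebraicGeometry Opposite AlgSp

namespace Groth.Agent.Lib.Helper3.SchIm

variable {S : Scheme.{u}}

/-- **Flat base change of the scheme theoretic image** of a quasi-compact morphism. -/
theorem isSchImage_of_flat_base_change' {X Y V Z VX ZX : Space S} (f : X ⟶ Y)
    (hf : LocP @Flat f.hom) (g : V ⟶ Y) (hg : IsQuasiCompactMor g.hom) (i : Z ⟶ Y)
    (hZ : IsSchImage g.hom i.hom)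
    (g₁ : VX ⟶ V) (gX : VX ⟶ X) (sqV : IsPullback g₁.hom gX.hom g.hom f.hom)
    (i₁ : ZX ⟶ Z) (iX : ZX ⟶ X) (sqZ : IsPullback i₁.hom iX.hom i.hom f.hom) :
    IsSchImage gX.hom iX.hom := by
  obtain ⟨R, U, W, s, t, p, hp, e, h, hw, hêe, hês, hqc⟩ := exists_good_chart g hg
  obtain ⟨Z₀, i₀, q₀, hZ₀, sqZ₀⟩ := isSchImage_of_good_chart g s t p hp e h hw hêe hês
  obtain ⟨ε, hε⟩ := isSchImage_unique Z₀.property Z.property hZ₀ hZ
  have sqZc : IsPullback (q₀ ≫ ε.hom) ((yon S).map (Over.homMk h.left.ker.subschemeι rfl :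
        Over.mk (h.left.ker.subschemeι ≫ U.hom) ⟶ U)) i.hom p := by
    refine IsPullback.of_iso sqZ₀ (Iso.refl _) ε (Iso.refl _) (Iso.refl _) ?_ ?_ ?_ ?_
    · simp
    · simp
    · simpa using hε.symm
    · simp
  obtain ⟨U', u, φ, hue, hus, hp'e, hp's, hφ, hcomm⟩ :=
    exists_chart_over X.property Y.property f.hom p hp.etale
  have hp's' := hp's hp.surjective
  have hφflat : Flat φ.left := hf _ p φ hp'e hp.etale hcomm
  have hwX : ((yon S).map (pullback.fst h φ) ≫ e) ≫ g.hom =
      ((yon S).map (pullback.snd h φ) ≫ (u ≫ pullback.fst f.hom p)) ≫ f.hom := by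
    rw [Category.assoc, hw, ← Category.assoc, ← Functor.map_comp, pullback.condition,
      Functor.map_comp, Category.assoc, Category.assoc, hcomm]
  have heX : sqV.lift _ _ hwX ≫ gX.hom =
      (yon S).map (pullback.snd h φ) ≫ (u ≫ pullback.fst f.hom p) := sqV.lift_snd _ _ _
  obtain ⟨qC', sqC', hqC'⟩ := exists_chart_of_base_change sqZ _ (q₀ ≫ ε.hom) p sqZc _ φ hcomm
  have hi : RepWith @IsClosedImmersion iX.hom := MorphismProperty.of_isPullback sqZ hZ.1
  obtain ⟨g', hg'⟩ := hZ.2.1
  refine ⟨hi, ⟨sqZ.lift (g₁.hom ≫ g') gX.hom (by rw [Category.assoc, hg']; exact sqV.w),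
    sqZ.lift_snd _ _ _⟩, ?_⟩
  rintro Z' i' hZ' hi' ⟨f'', hf''⟩
  obtain ⟨D, d, fstD, sqD⟩ := hi'.1 (u ≫ pullback.fst f.hom p)
  have hd : IsClosedImmersion d.left := hi'.property _ fstD d sqD
  have hmono' : Mono i' := mono_of_closedImmersion _ hi'
  have hw' : (sqV.lift _ _ hwX ≫ f'') ≫ i' =
      (yon S).map (pullback.snd h φ) ≫ (u ≫ pullback.fst f.hom p) := by
    rw [Category.assoc, hf'']; exact heX
  obtain ⟨h₁, hh₁⟩ := (yon S).map_surjective (sqD.lift _ _ hw')
  have hh₁d : h₁ ≫ d = pullback.snd h φ := by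
    apply (yon S).map_injective
    rw [Functor.map_comp, hh₁]
    exact sqD.lift_snd _ _ hw'
  have hle : d.left.ker ≤ (pullback.snd h φ).left.ker := by
    rw [← hh₁d, Over.comp_left]
    exact Scheme.Hom.le_ker_comp _ _
  have hkerc : (pullback.snd (Over.homMk h.left.ker.subschemeι rfl :
        Over.mk (h.left.ker.subschemeι ≫ U.hom) ⟶ U) φ).left.ker =
      (pullback.snd h φ).left.ker := by
    rw [ker_over_pullback_snd, ker_over_pullback_snd, ← ker_comap_of_flat h.left φ.left]
    change (pullback.fst φ.left h.left.ker.subschemeι).ker = _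
    rw [Scheme.IdealSheafData.ker_fst_of_isClosedImmersion, Scheme.IdealSheafData.ker_subschemeι]
  let m : pullback (Over.homMk h.left.ker.subschemeι rfl :
        Over.mk (h.left.ker.subschemeι ≫ U.hom) ⟶ U) φ ⟶ D :=
    Over.homMk (IsClosedImmersion.lift d.left (pullback.snd (Over.homMk h.left.ker.subschemeι rfl :
        Over.mk (h.left.ker.subschemeι ≫ U.hom) ⟶ U) φ).left (by rw [hkerc]; exact hle)) (by
      rw [← Over.w d, IsClosedImmersion.lift_fac_assoc, Over.w])
  have hm : m ≫ d = pullback.snd _ φ := by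
    ext; exact IsClosedImmersion.lift_fac _ _ _
  have hqC'epi : Epi qC' := epi_of_etale_surjective _
    (MorphismProperty.of_isPullback sqC'.flip hp'e) (MorphismProperty.of_isPullback sqC'.flip hp's')
  obtain ⟨k, -, hk⟩ := exists_lift_of_epi_mono qC' i' ((yon S).map m ≫ fstD) iX.hom (by
    rw [Category.assoc, sqD.w, ← Category.assoc, ← Functor.map_comp, hm, sqC'.w])
  exact ⟨k, hk⟩

/-- The image of a quasi-compact morphism is dense in its scheme theoretic image. -/
theorem range_subset_closure_of_quasiCompact {Y V Z : Space S} (g : V ⟶ Y)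
    (hg : IsQuasiCompactMor g.hom) (i : Z ⟶ Y) (hZ : IsSchImage g.hom i.hom) :
    Set.range (Points.map i.hom) ⊆ closure (Set.range (Points.map g.hom)) := by
  obtain ⟨R, U, W, s, t, p, hp, e, h, hw, hêe, hês, hqc⟩ := exists_good_chart g hg
  obtain ⟨Z₀, i₀, q₀, hZ₀, sqZ₀⟩ := isSchImage_of_good_chart g s t p hp e h hw hêe hês
  obtain ⟨ε, hε⟩ := isSchImage_unique Z₀.property Z.property hZ₀ hZ
  have hq₀s : RepWith @Surjective q₀ := MorphismProperty.of_isPullback sqZ₀.flip hp.surjective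
  have hcont : Continuous (fun x : ↥U.left => Points.map p (Points.schemeHomeo U x)) :=
    (Points.continuous_map p).comp (Points.schemeHomeo U).continuous
  have himg : ∀ x ∈ Set.range h.left, Points.map p (Points.schemeHomeo U x) ∈
      Set.range (Points.map g.hom) := by
    rintro _ ⟨w, rfl⟩
    refine ⟨Points.map e (Points.schemeHomeo W w), ?_⟩
    rw [← Points.map_comp, hw, Points.map_comp, Points.map_yon_map_apply]
  rintro _ ⟨z, rfl⟩
  obtain ⟨z₀, rfl⟩ : ∃ z₀, Points.map ε.hom z₀ = z :=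
    ⟨Points.map ε.inv z, by rw [← Points.map_comp, Iso.inv_hom_id, Points.map_id]⟩
  obtain ⟨c₀, rfl⟩ := surjective_map_of_repWith hq₀s z₀
  obtain ⟨c, rfl⟩ := (Points.schemeHomeo _).surjective c₀
  have h1 : Points.map i.hom (Points.map ε.hom (Points.map q₀ (Points.schemeHomeo _ c))) =
      Points.map p (Points.schemeHomeo U (h.left.ker.subschemeι c)) := by
    rw [← Points.map_comp, hε, ← Points.map_comp, sqZ₀.w, Points.map_comp,
      Points.map_yon_map_apply]
    rfl
  rw [h1]
  have hc : h.left.ker.subschemeι c ∈ closure (Set.range h.left) := by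
    rw [← Scheme.Hom.support_ker, ← Scheme.IdealSheafData.range_subschemeι]
    exact ⟨c, rfl⟩
  have := image_closure_subset_closure_image hcont (Set.mem_image_of_mem _ hc)
  refine closure_mono ?_ this
  rintro _ ⟨x, hx, rfl⟩
  exact himg x hx

end Groth.Agent.Lib.Helper3.SchIm
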