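import Groth.Agent.Lib.Helper3.FinGeomFib
import Groth.Agent.Lib.Helper3.SchImMain
import Groth.Agent.Lib.Helper3.SchImQC4
import Groth.Agent.Lib.Helper3.SepDesc2
import Groth.Agent.Lib.Helper3.AlgSpProper
import Groth.Agent.Lib.Helper3.AlgSpUC3
import Groth.Agent.Lib.Helper3.AlgSpInj

set_option autoImplicit false
universe u

namespace Groth.Agent.Lib.Helper3.Collapse

open CategoryTheory CategoryTheory.Limits AlgebraicGeometry Opposite AlgSp
open Groth.Agent.Lib.Helper3

variable {S : Scheme.{u}}

theorem injective_map_of_mono {F G : Sp S} (i : F ⟶ G) [Mono i] :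
    Function.Injective (Points.map i) := by
  have : InjOnFieldPts i := fun K _ str a b hab => (cancel_mono i).1 hab
  exact this.injective_map

/-- Cancellation: if `h ≫ g` is proper and `g` is separated then `h` is proper. -/
theorem isProperMor_of_comp {X Y B : Sp S} (hX : IsAlgSpace X) (hY : IsAlgSpace Y)
    (hB : IsAlgSpace B) (h : X ⟶ Y) (g : Y ⟶ B) (hf : IsProperMor (h ≫ g))
    (hg : IsSeparatedMor g) : IsProperMor h := by
  have sqΓ := pullback_lift_diagonal_isPullback h g
  have hΓ : RepWith @IsClosedImmersion (pullback.lift (𝟙 X) h (by simp) : X ⟶ pullback (h ≫ g) g) :=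
    MorphismProperty.of_isPullback sqΓ hg
  have sq := IsPullback.of_hasPullback (h ≫ g) g
  have hP : IsAlgSpace (pullback (h ≫ g) g) := isAlgSpace_of_isPullback' hB hX hY sq
  have h2 : IsProperMor (pullback.snd (h ≫ g) g) := isProperMor_of_isPullback hX hB hY hP sq hf
  have h1 := isProperMor_of_repWith_isClosedImmersion _ hΓ
  have := isProperMor_comp hX hP hY h1 h2
  rwa [pullback.lift_snd] at this

theorem exists_proper_schImage {X Y B : AlgSp.Space S} (h : X ⟶ Y) (g : Y ⟶ B)
    (hf : IsProperMor (h.hom ≫ g.hom)) (hg1 : IsSeparatedMor g.hom)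
    (hg2 : LocP @LocallyOfFiniteType g.hom) :
    ∃ (Z : AlgSp.Space S) (i : Z ⟶ Y) (e : X.obj ⟶ Z.obj), RepWith @IsClosedImmersion i.hom ∧
      e ≫ i.hom = h.hom ∧ IsSurjectiveMor e ∧ IsProperMor (i.hom ≫ g.hom) := by
  have hh : IsProperMor h.hom :=
    isProperMor_of_comp X.property Y.property B.property h.hom g.hom hf hg1
  obtain ⟨Z, i, hZ⟩ := SchIm.exists_isSchImage h
  obtain ⟨e, he⟩ := hZ.2.1
  have hi := hZ.1
  haveI : Mono i.hom := SchIm.mono_of_closedImmersion _ hi
  have hcl : IsClosedMap (Points.map h.hom) :=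
    SepDesc.isClosedMap_of_isUnivClosedMor Y.property h.hom hh.2.2
  have hsub := SchIm.range_subset_closure_of_quasiCompact h hh.2.1.2 i hZ
  have hes : IsSurjectiveMor e := by
    intro z
    have hz : Points.map i.hom z ∈ closure (Set.range (Points.map h.hom)) := hsub ⟨z, rfl⟩
    rw [(hcl.isClosed_range).closure_eq] at hz
    obtain ⟨x, hx⟩ := hz
    refine ⟨x, injective_map_of_mono i.hom ?_⟩
    rw [← hx, ← he]
    exact (Points.map_comp _ _ x).symm
  have hip := isProperMor_of_repWith_isClosedImmersion i.hom hi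
  refine ⟨Z, i, e, hi, he, hes, isSeparatedMor_comp hip.1 hg1, ⟨?_, ?_⟩, ?_⟩
  · exact locP_comp isEtLocal_locallyOfFiniteType Z.property Y.property B.property i.hom g.hom
      hip.2.1.1 hg2
  · refine isQuasiCompactMor_of_surjective_comp Z.property B.property e (i.hom ≫ g.hom) hes ?_
    rw [← Category.assoc, he]
    exact hf.2.1.2
  · refine isUnivClosedMor_of_surjective_comp e (i.hom ≫ g.hom) hes ?_
    rw [← Category.assoc, he]
    exact hf.2.2

end Groth.Agent.Lib.Helper3.Collapse
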