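import Groth.Agent.Lib.Helper3.Collapse2

set_option autoImplicit false
universe u

namespace Groth.Agent.Lib.Helper3.Collapse

open CategoryTheory CategoryTheory.Limits AlgebraicGeometry Opposite AlgSp
open Groth.Agent.Lib.Helper3

variable {S : Scheme.{u}}

theorem main10651 {X Y B : AlgSp.Space S} (h : X ⟶ Y) (f : X ⟶ B) (g : Y ⟶ B) (hc : h ≫ g = f)
    (b : AlgSp.Points B.obj) (k : AlgSp.FieldPt B.obj) (hk : AlgSp.Points.mk k = b)
    (hf : AlgSp.IsProperMor f.hom) (hg1 : AlgSp.IsSeparatedMor g.hom) (hg2 : AlgSp.LocP @LocallyOfFiniteType g.hom)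
    (h3 : (∀ (Yk : AlgSp.Sp S) (gY : Yk ⟶ Y.obj) (sY : Yk ⟶ (AlgSp.yon S).obj k.pt),
            IsPullback gY sY g.hom k.toHom →
            ∀ (Xk : AlgSp.Sp S) (gX : Xk ⟶ X.obj) (hk' : Xk ⟶ Yk), IsPullback gX hk' h.hom gY →
              (Set.range (AlgSp.Points.map hk')).Finite) ∨
          ((AlgSp.Points.map h.hom '' (AlgSp.Points.map f.hom ⁻¹' {b})).Finite ∧ AlgSp.IsDecent B.obj)) :
    ∃ (B' : AlgSp.Space S) (j : B' ⟶ B), AlgSp.RepWith @IsOpenImmersion j.hom ∧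
      b ∈ Set.range (AlgSp.Points.map j.hom) ∧
        ∀ (YB : AlgSp.Space S) (gY : YB ⟶ Y) (sY : YB ⟶ B'), IsPullback gY.hom sY.hom g.hom j.hom →
          ∀ (XB : AlgSp.Space S) (gX : XB ⟶ X) (hB : XB ⟶ YB), IsPullback gX.hom hB.hom h.hom gY.hom →
            ∃ (Z : AlgSp.Space S) (i : Z ⟶ YB) (e : XB ⟶ Z), AlgSp.RepWith @IsClosedImmersion i.hom ∧
              AlgSp.IsFiniteMor (i ≫ sY).hom ∧ e ≫ i = hB := by
  have hc' : h.hom ≫ g.hom = f.hom := congrArg (fun φ => φ.hom) hc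
  have hf' : IsProperMor (h.hom ≫ g.hom) := by rw [hc']; exact hf
  obtain ⟨Z, i, e, hi, he, hes, hq⟩ := exists_proper_schImage h g hf' hg1 hg2
  haveI : Mono i.hom := SchIm.mono_of_closedImmersion _ hi
  -- a representative of `b` with finite fibre
  obtain ⟨p, hp, Zk, fst, snd, sqk, hfin⟩ : ∃ (p : FieldPt B.obj), Points.mk p = b ∧
      ∃ (Zk : Sp S) (fst : Zk ⟶ Z.obj) (snd : Zk ⟶ (yon S).obj p.pt),
        IsPullback fst snd (i.hom ≫ g.hom) p.toHom ∧ Finite (Points Zk) := by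
    rcases h3 with h3 | ⟨h3, hdec⟩
    · obtain ⟨Zk, fst, snd, sq, hfin⟩ := exists_finite_fibre_a h.hom g.hom i.hom e he hes k h3
      exact ⟨k, hk, Zk, fst, snd, sq, hfin⟩
    · rw [← hc'] at h3
      exact exists_finite_fibre_b h.hom g.hom i.hom e he hes b h3 hdec
  obtain ⟨B', j, hj, hb, hfinB⟩ := FinGeomFib.main10750 (i ≫ g) hq p Zk fst snd sqk hfin
  refine ⟨B', j, hj, hp ▸ hb, ?_⟩
  intro YB gY sY sqY XB gX hB sqX
  have sqZ := IsPullback.of_hasPullback i.hom gY.hom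
  let Z' : AlgSp.Space S := ⟨pullback i.hom gY.hom,
    isAlgSpace_of_isPullback' Y.property Z.property YB.property sqZ⟩
  let i' : Z' ⟶ YB := ObjectProperty.homMk (pullback.snd i.hom gY.hom)
  let fZ : Z' ⟶ Z := ObjectProperty.homMk (pullback.fst i.hom gY.hom)
  have hw : (gX.hom ≫ e) ≫ i.hom = hB.hom ≫ gY.hom := by
    rw [Category.assoc, he, sqX.w]
  let e' : XB ⟶ Z' := ObjectProperty.homMk (sqZ.lift _ _ hw)
  refine ⟨Z', i', e', MorphismProperty.of_isPullback sqZ hi, ?_, ?_⟩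
  · exact hfinB Z' fZ (i' ≫ sY) (sqZ.paste_vert sqY)
  · apply ObjectProperty.hom_ext
    exact sqZ.lift_snd _ _ _

end Groth.Agent.Lib.Helper3.Collapse
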