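import Mathlib

set_option autoImplicit false
open Topology TopologicalSpace Set

namespace Groth.Agent.Lib.Helper3.ConstrTop

set_option backward.isDefEq.respectTransparency false

variable {X : Type*} [TopologicalSpace X]

/-- In a compact space constructible sets are clopen for the constructible topology. -/
theorem isOpen_constructibleTopology_of_isConstructible [CompactSpace X] {s : Set X}
    (hs : IsConstructible s) :
    IsOpen[constructibleTopology X] s ∧ IsOpen[constructibleTopology X] sᶜ := by
  induction hs using IsConstructible.empty_union_induction with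
  | open_retrocompact U hUopen hUcomp =>
    have hc : IsCompact U := by simpa using hUcomp isCompact_univ isOpen_univ
    exact ⟨hc.isOpen_constructibleTopology_of_isOpen hUopen,
      IsCompact.isOpen_constructibleTopology_of_isClosed (by simpa using hc)
        hUopen.isClosed_compl⟩
  | union s hs t ht hs' ht' =>
    refine ⟨@IsOpen.union _ _ _ (constructibleTopology X) hs'.1 ht'.1, ?_⟩
    rw [Set.compl_union]
    exact @IsOpen.inter _ (constructibleTopology X) _ _ hs'.2 ht'.2
  | compl s hs hs' => exact ⟨hs'.2, by rw [compl_compl]; exact hs'.1⟩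

/-- The constructible topology of a prespectral `T0` space is Hausdorff. -/
theorem t2Space_withConstructibleTopology [T0Space X] [PrespectralSpace X] :
    T2Space (WithConstructibleTopology X) := by
  refine ⟨fun x y hxy => ?_⟩
  have hne : x.ofTopology ≠ y.ofTopology := fun h => hxy (WithTopology.ofTopology_injective _ h)
  obtain ⟨U, hU, hUxy⟩ := exists_isOpen_xor_mem hne
  have hopen : ∀ V : Set X, IsOpen V → IsCompact V →
      IsOpen (WithTopology.ofTopology ⁻¹' V : Set (WithConstructibleTopology X)) ∧
      IsOpen (WithTopology.ofTopology ⁻¹' Vᶜ : Set (WithConstructibleTopology X)) := by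
    intro V hV hVc
    constructor
    · rw [WithTopology.isOpen_iff]
      exact hVc.isOpen_constructibleTopology_of_isOpen hV
    · rw [WithTopology.isOpen_iff]
      change IsOpen[constructibleTopology X] Vᶜ
      exact IsCompact.isOpen_constructibleTopology_of_isClosed (by simpa using hVc)
        hV.isClosed_compl
  rcases hUxy with ⟨hx, hy⟩ | ⟨hy, hx⟩
  · obtain ⟨V, ⟨hV, hVc⟩, hxV, hVU⟩ :=
      (PrespectralSpace.isTopologicalBasis (X := X)).exists_subset_of_mem_open hx hU
    refine ⟨_, _, (hopen V hV hVc).1, (hopen V hV hVc).2, hxV, fun h => hy (hVU h), ?_⟩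
    exact Disjoint.preimage _ disjoint_compl_right
  · obtain ⟨V, ⟨hV, hVc⟩, hyV, hVU⟩ :=
      (PrespectralSpace.isTopologicalBasis (X := X)).exists_subset_of_mem_open hy hU
    refine ⟨_, _, (hopen V hV hVc).2, (hopen V hV hVc).1, fun h => hx (hVU h), hyV, ?_⟩
    exact Disjoint.preimage _ disjoint_compl_left

/-- **Descent of constructibility along a surjective spectral map.** -/
theorem isConstructible_of_preimage {A B : Type*} [TopologicalSpace A] [TopologicalSpace B]
    [CompactSpace A] [QuasiSober A] [PrespectralSpace A] [QuasiSeparatedSpace A]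
    [T0Space B] [PrespectralSpace B] [QuasiSeparatedSpace B]
    (f : A → B) (hf : Continuous f) (hsurj : Function.Surjective f)
    (hspec : ∀ s : Set B, IsOpen s → IsCompact s → IsCompact (f ⁻¹' s))
    (E : Set B) (hE : IsConstructible (f ⁻¹' E)) : IsConstructible E := by
  let f' : WithConstructibleTopology A → WithConstructibleTopology B :=
    fun a => WithTopology.toTopology _ (f a.ofTopology)
  have key : Continuous[constructibleTopology A, constructibleTopology B] f := by
    refine continuous_generateFrom_iff.2 (fun s hs => ?_)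
    rcases hs with ⟨ho, hc⟩ | ⟨hcl, hc⟩
    · exact (hspec s ho hc).isOpen_constructibleTopology_of_isOpen (ho.preimage hf)
    · refine IsCompact.isOpen_constructibleTopology_of_isClosed ?_ (hcl.preimage hf)
      rw [← Set.preimage_compl]
      exact hspec _ hcl.isOpen_compl hc
  have hf' : Continuous f' := by
    rw [continuous_def]
    intro s hs
    rw [WithTopology.isOpen_iff] at hs ⊢
    exact (continuous_def.1 key) _ hs
  haveI : T2Space (WithConstructibleTopology B) := t2Space_withConstructibleTopology
  have hsurj' : Function.Surjective f' := by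
    intro b
    obtain ⟨a, ha⟩ := hsurj b.ofTopology
    exact ⟨WithTopology.toTopology _ a, congrArg (WithTopology.toTopology _) ha⟩
  have hq : IsQuotientMap f' := (hf'.isClosedMap).isQuotientMap hf' hsurj'
  obtain ⟨ho, hoc⟩ := isOpen_constructibleTopology_of_isConstructible hE
  let E' : Set (WithConstructibleTopology B) := WithTopology.ofTopology ⁻¹' E
  have hE'o : IsOpen E' := by
    rw [← hq.isOpen_preimage, WithTopology.isOpen_iff]
    exact ho
  have hE'c : IsClosed E' := by
    rw [← isOpen_compl_iff, ← hq.isOpen_preimage, WithTopology.isOpen_iff]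
    exact hoc
  haveI : CompactSpace (WithConstructibleTopology B) := hsurj'.compactSpace hf'
  have hE'k : IsCompact E' := hE'c.isCompact
  have hEo : IsOpen[constructibleTopology B] E := (WithTopology.isOpen_iff _).1 hE'o
  have hEk : @IsCompact B (constructibleTopology B) E := by
    have h1 := @IsCompact.image _ _ _ (constructibleTopology B) _ _ hE'k
      (WithTopology.continuous_ofTopology (constructibleTopology B))
    rwa [Set.image_preimage_eq _ (WithTopology.ofTopology_surjective _)] at h1
  have hbasis := @TopologicalSpace.isTopologicalBasis_of_subbasis B (constructibleTopology B)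
    (constructibleTopologySubbasis B) rfl
  have hcover : ∀ x : E, ∃ F : Set (Set B), F.Finite ∧ F ⊆ constructibleTopologySubbasis B ∧
      x.1 ∈ ⋂₀ F ∧ ⋂₀ F ⊆ E := by
    intro x
    obtain ⟨v, ⟨F, ⟨hFf, hFs⟩, rfl⟩, hxv, hvE⟩ :=
      @TopologicalSpace.IsTopologicalBasis.exists_subset_of_mem_open B (constructibleTopology B)
        _ hbasis x.1 E x.2 hEo
    exact ⟨F, hFf, hFs, hxv, hvE⟩
  choose F hFf hFs hxF hFE using hcover
  have hFo : ∀ x : E, IsOpen[constructibleTopology B] (⋂₀ F x) := by
    intro x
    refine @Set.Finite.isOpen_sInter _ (constructibleTopology B) _ (hFf x) (fun s hs => ?_)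
    exact TopologicalSpace.isOpen_generateFrom_of_mem (hFs x hs)
  obtain ⟨t, ht⟩ := @IsCompact.elim_finite_subcover B (constructibleTopology B) E _ hEk
    (fun x : E => ⋂₀ F x) hFo (fun x hx => Set.mem_iUnion.2 ⟨⟨x, hx⟩, hxF ⟨x, hx⟩⟩)
  have hEeq : E = ⋃ x ∈ t, ⋂₀ F x := by
    apply Set.Subset.antisymm ht
    exact Set.iUnion₂_subset fun x _ => hFE x
  rw [hEeq]
  refine IsConstructible.biUnion t.finite_toSet (fun x _ => ?_)
  refine IsConstructible.sInter (hFf x) (fun s hs => ?_)
  rcases hFs x hs with ⟨ho, hc⟩ | ⟨hcl, hc⟩
  · exact hc.isConstructible ho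
  · exact (hc.isConstructible hcl.isOpen_compl).of_compl

end Groth.Agent.Lib.Helper3.ConstrTop
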