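import Groth.Agent.Lib.Helper3.SchLoc5
import Groth.Agent.Lib.Helper3.AlgSpQC4
import Groth.Agent.Lib.Helper3.AlgSpQC

set_option autoImplicit false
universe u w

namespace Groth.Agent.Lib.Helper3.SchLoc

open CategoryTheory CategoryTheory.Limits AlgebraicGeometry Opposite AlgSp Topology
open Groth.Agent.Lib.Helper3 Groth.Agent.Lib.Helper3.GenDense Groth.Agent.Lib.Helper3.GenFinSp
  Groth.Agent.Lib.Helper3.RelNorm

variable {S : Scheme.{u}}

/-- **Points of a quasi-compact quasi-separated algebraic space form a spectral space.** -/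
theorem main10201 [QuasiSeparatedSpace ↥S] (X : AlgSp.Space S)
    (hqc : AlgSp.IsQuasiCompactSp X.obj) (hqs : AlgSp.IsQuasiSeparatedSp X.obj) :
    SpectralSpace (AlgSp.Points X.obj) := by
  obtain ⟨hsober, hT0⟩ := main10199 X (zlqs_of_isQuasiSeparatedSp X hqs)
  have hcompact : CompactSpace (Points X.obj) := compactSpace_points_of_isQuasiCompactSp hqc
  obtain ⟨U, a, hae, has, hUa⟩ := exists_affine_chart_of_isQuasiCompactSp hqc
  have hUa' : IsAffine U.left := hUa
  have haopen : IsOpenMap (Points.ofPt a) := isOpenMap_ofPt a hae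
  have hacont : Continuous (Points.ofPt a) := Points.continuous_ofPt a
  -- compact opens of the form `a(D)`
  have hbasis : ∀ (x : Points X.obj) (Ω : Set (Points X.obj)), x ∈ Ω → IsOpen Ω →
      ∃ D : Set ↥U.left, IsOpen D ∧ IsCompact D ∧ x ∈ Points.ofPt a '' D ∧
        Points.ofPt a '' D ⊆ Ω := by
    intro x Ω hxΩ hΩ
    obtain ⟨u, rfl⟩ := exists_ofPt_eq a has x
    obtain ⟨_, ⟨D, hD, rfl⟩, huD, hDΩ⟩ := (U.left.isBasis_affineOpens).exists_subset_of_mem_open
      (show u ∈ Points.ofPt a ⁻¹' Ω from hxΩ) (hΩ.preimage hacont)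
    exact ⟨D, D.isOpen, hD.isCompact, ⟨u, huD, rfl⟩, Set.image_subset_iff.2 hDΩ⟩
  have hpre : PrespectralSpace (Points X.obj) := by
    refine PrespectralSpace.of_isTopologicalBasis
      (B := {Ω | ∃ D : Set ↥U.left, IsOpen D ∧ IsCompact D ∧ Ω = Points.ofPt a '' D}) ?_ ?_
    · refine TopologicalSpace.isTopologicalBasis_of_isOpen_of_nhds ?_ ?_
      · rintro _ ⟨D, hD, -, rfl⟩
        exact haopen D hD
      · intro x Ω hxΩ hΩ
        obtain ⟨D, hD, hDc, hxD, hDΩ⟩ := hbasis x Ω hxΩ hΩ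
        exact ⟨_, ⟨D, hD, hDc, rfl⟩, hxD, hDΩ⟩
    · rintro _ ⟨D, -, hDc, rfl⟩
      exact hDc.image hacont
  -- every compact open is the image of a compact open of `U`
  have hlift : ∀ Ω : Set (Points X.obj), IsOpen Ω → IsCompact Ω →
      ∃ D : Set ↥U.left, IsOpen D ∧ IsCompact D ∧ Ω = Points.ofPt a '' D := by
    intro Ω hΩ hΩc
    have hch : ∀ x : Ω, ∃ D : Set ↥U.left, IsOpen D ∧ IsCompact D ∧
        x.1 ∈ Points.ofPt a '' D ∧ Points.ofPt a '' D ⊆ Ω := fun x => hbasis x.1 Ω x.2 hΩ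
    choose D hD hDc hxD hDΩ using hch
    obtain ⟨t, ht⟩ := hΩc.elim_finite_subcover (fun x : Ω => Points.ofPt a '' D x)
      (fun x => haopen _ (hD x)) (fun x hx => Set.mem_iUnion.2 ⟨⟨x, hx⟩, hxD ⟨x, hx⟩⟩)
    refine ⟨⋃ x ∈ t, D x, isOpen_biUnion fun x _ => hD x,
      t.finite_toSet.isCompact_biUnion fun x _ => hDc x, ?_⟩
    apply Set.Subset.antisymm
    · rw [Set.image_iUnion₂]
      exact ht
    · rw [Set.image_iUnion₂]
      exact Set.iUnion₂_subset fun x _ => hDΩ x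
  -- the relation is quasi-compact and quasi-separated
  obtain ⟨R, t, s, kp⟩ := exists_pullback_charts a hae.1 a
  have sqD := isPullback_diag_of_isPullback kp
  rw [prod_lift_yon'] at sqD
  replace sqD := isPullback_shift_iso sqD
  have hqcd : QuasiCompact (prod.lift t s).left := hqs.2 _ _ _ sqD
  have : CompactSpace ↥(pullback U.hom U.hom) := inferInstance
  have : CompactSpace ↥(U ⨯ U).left :=
    (Over.prodLeftIsoPullback U U).hom.homeomorph.symm.compactSpace
  have hRc : CompactSpace ↥R.left :=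
    QuasiCompact.compactSpace_of_compactSpace (prod.lift t s).left
  have heq : IsEqvRel s t := DecMono.isEqvRel_of_kernelPair a s t kp
  have hsep : IsSeparated s.left := OnePt.isSeparated_of_isEqvRel s t heq
  have hRqs : QuasiSeparatedSpace ↥R.left := quasiSeparatedSpace_of_quasiSeparated s.left
  have hqsX : QuasiSeparatedSpace (Points X.obj) := by
    refine ⟨fun Ω₁ Ω₂ hΩ₁ hΩ₁c hΩ₂ hΩ₂c => ?_⟩
    obtain ⟨D₁, hD₁, hD₁c, rfl⟩ := hlift Ω₁ hΩ₁ hΩ₁c
    obtain ⟨D₂, hD₂, hD₂c, rfl⟩ := hlift Ω₂ hΩ₂ hΩ₂c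
    have h1 : IsCompact (t.left ⁻¹' D₁) :=
      QuasiCompact.isCompact_preimage (f := t.left) D₁ hD₁ hD₁c
    have h2 : IsCompact (s.left ⁻¹' D₂) :=
      QuasiCompact.isCompact_preimage (f := s.left) D₂ hD₂ hD₂c
    have hK : IsCompact (t.left ⁻¹' D₁ ∩ s.left ⁻¹' D₂) :=
      QuasiSeparatedSpace.inter_isCompact _ _ (hD₁.preimage t.left.continuous) h1
        (hD₂.preimage s.left.continuous) h2
    have himg : Points.ofPt a '' D₁ ∩ Points.ofPt a '' D₂ =
        (fun r => Points.ofPt a (t.left r)) '' (t.left ⁻¹' D₁ ∩ s.left ⁻¹' D₂) := by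
      ext x
      constructor
      · rintro ⟨⟨d₁, hd₁, rfl⟩, ⟨d₂, hd₂, h⟩⟩
        obtain ⟨r, hr1, hr2⟩ := exists_of_ofPt_eq_of_isPullback kp d₁ d₂ h.symm
        exact ⟨r, ⟨by rw [Set.mem_preimage, hr1]; exact hd₁, by rw [Set.mem_preimage, hr2]; exact hd₂⟩,
          by change Points.ofPt a (t.left r) = _; rw [hr1]⟩
      · rintro ⟨r, ⟨hr1, hr2⟩, rfl⟩
        refine ⟨⟨t.left r, hr1, rfl⟩, ⟨s.left r, hr2, ?_⟩⟩
        have := congrArg (fun k => Points.ofPt k r) kp.w
        simp only [SpUC.ofPt_comp_yon_map] at this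
        exact this.symm
    rw [himg]
    exact hK.image (hacont.comp t.left.continuous)
  exact { toT0Space := hT0, toCompactSpace := hcompact, toQuasiSober := hsober,
          toQuasiSeparatedSpace := hqsX, toPrespectralSpace := hpre }

end Groth.Agent.Lib.Helper3.SchLoc
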