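import Mathlib
import Groth.Prelude.Def_AlgSpDec
import Groth.Agent.Lib.Helper3.ConstrTopA
import Groth.Agent.Lib.Helper3.SchLoc6
import Groth.Agent.Lib.Helper3.AlgSpQC7
import Groth.Agent.Lib.Helper3.QSepChart
import Groth.Agent.Lib.Helper3.AlgSpOpenSubsp
import Groth.Agent.Lib.Helper3.SpUC

set_option autoImplicit false
universe u
open CategoryTheory CategoryTheory.Limits AlgebraicGeometry Opposite Topology
open AlgSp
open Groth.Agent.Lib.Helper3 Groth.Agent.Lib.Helper3.GenDense

namespace Groth.Agent.Lib.Helper3.ConstrSp

set_option backward.isDefEq.respectTransparency false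

variable {S : Scheme.{u}}

/-- The open subspace on an open set of points is an open embedding on points. -/
theorem isOpenEmbedding_map_openSubι {X : Sp S} (hX : IsAlgSpace X) (W : Set (Points X))
    (hW : IsOpen W) : IsOpenEmbedding (Points.map (openSubι X W)) := by
  have hj := repWith_isOpenImmersion_openSubι X W hW
  exact ⟨(isEmbedding_map_of_immersion hX (openSubι X W)
      (repWith_mono isOpenImmersion_le_isImmersion hj)).1,
    (isOpenMap_map_of_etale (repWith_mono isOpenImmersion_le_etale hj)).isOpen_range⟩

/-- The open subspace on a compact open set of points is quasi-compact. -/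
theorem isQuasiCompactSp_openSub {X : Sp S} (hX : IsAlgSpace X) (W : Set (Points X))
    (hW : IsOpen W) (hWc : IsCompact W) : IsQuasiCompactSp (openSub X W) := by
  have hemb := isOpenEmbedding_map_openSubι hX W hW
  haveI : CompactSpace (Points (openSub X W)) := by
    rw [← isCompact_univ_iff, hemb.isInducing.isCompact_iff, Set.image_univ, range_map_openSubι]
    exact hWc
  exact isQuasiCompactSp_of_compactSpace_points (isAlgSpace_openSub hX W hW)

/-- **A morphism from a quasi-compact scheme to a quasi-separated algebraic space is spectral on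
points.** -/
theorem isCompact_preimage_ofPt [QuasiSeparatedSpace ↥S] {X : Sp S} (hX : IsAlgSpace X)
    (hqs : IsQuasiSeparatedSp X) {U : Over S} [CompactSpace ↥U.left] (a : (yon S).obj U ⟶ X)
    (Ω : Set (Points X)) (hΩ : IsOpen Ω) (hΩc : IsCompact Ω) :
    IsCompact (Points.ofPt a ⁻¹' Ω) := by
  have hqcm : IsQuasiCompactMor a :=
    isQuasiCompactMor_of_isQuasiCompactSp_of_isQuasiSeparatedSp (IsAlgSpace.yon_obj U) a
      (isQuasiCompactSp_yon inferInstance) hqs
  obtain ⟨V, fst, snd, sq, hsnd, hrange⟩ := exists_isPullback_openSubι X Ω hΩ a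
  have hV : IsQuasiCompactSp ((yon S).obj V) :=
    hqcm (isAlgSpace_openSub hX Ω hΩ) (isQuasiCompactSp_openSub hX Ω hΩ hΩc) (openSubι X Ω)
      ((yon S).map snd) fst sq.flip
  haveI := compactSpace_of_isQuasiCompactSp_yon hV
  rw [← hrange]
  exact isCompact_range snd.left.continuous

/-- **Etale locally constructible subsets of a quasi-compact quasi-separated algebraic space are
constructible.** -/
theorem isConstructible_of_etale_locally [QuasiSeparatedSpace ↥S] (X : AlgSp.Space S)
    (hqc : IsQuasiCompactSp X.obj) (hqs : IsQuasiSeparatedSp X.obj) (E : Set (Points X.obj))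
    (hE : ∀ (U : Over S) (a : (yon S).obj U ⟶ X.obj), RepWith @Etale a →
      IsLocallyConstructible (Points.ofPt a ⁻¹' E)) : IsConstructible E := by
  haveI : SpectralSpace (Points X.obj) := SchLoc.main10201 X hqc hqs
  obtain ⟨U, a, hae, has, hUa⟩ := exists_affine_chart_of_isQuasiCompactSp hqc
  haveI : IsAffine U.left := hUa
  have h1 : IsConstructible (Points.ofPt a ⁻¹' E) := (hE U a hae).isConstructible
  exact ConstrTop.isConstructible_of_preimage (Points.ofPt a) (Points.continuous_ofPt a)
    (SpUC.ofPt_surjective a has)
    (fun s hs hsc => isCompact_preimage_ofPt X.property hqs a s hs hsc) E h1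

end Groth.Agent.Lib.Helper3.ConstrSp
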