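import Mathlib
import Groth.Prelude.Def_AlgSpDec
import Groth.Agent.Lib.Helper3.ConstrSpA
import Groth.Agent.Lib.Helper3.AlgSpIntegralDim

set_option autoImplicit false
universe u
open CategoryTheory CategoryTheory.Limits AlgebraicGeometry Opposite Topology Set.Notation
open AlgSp
open Groth.Agent.Lib.Helper3 Groth.Agent.Lib.Helper3.GenDense

namespace Groth.Agent.Lib.Helper3.ConstrSp

set_option backward.isDefEq.respectTransparency false

variable {S : Scheme.{u}}

/-- **Etale locally constructible = locally constructible on the space of points**, for a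
quasi-separated algebraic space. -/
theorem main10377 [QuasiSeparatedSpace ↥S]
    (X : AlgSp.Space S) (hX : AlgSp.IsQuasiSeparatedSp X.obj) (E : Set (AlgSp.Points X.obj)) :
    (∀ (U : Over S) (a : (AlgSp.yon S).obj U ⟶ X.obj), AlgSp.RepWith @Etale a →
        IsLocallyConstructible (AlgSp.Points.ofPt a ⁻¹' E)) ↔
      IsLocallyConstructible E := by
  constructor
  · intro hE x
    obtain ⟨B, b, b₀, hB, hbe, hb₀⟩ := exists_affine_chart_through X.property x
    haveI := hB
    let W : Set (Points X.obj) := Set.range (Points.ofPt b)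
    have hWo : IsOpen W := (isOpenMap_ofPt b hbe).isOpen_range
    have hWc : IsCompact W := isCompact_range (Points.continuous_ofPt b)
    have hxW : x ∈ W := ⟨b₀, hb₀⟩
    refine ⟨W, hWo.mem_nhds hxW, hWo, ?_⟩
    let X' : AlgSp.Space S := ⟨openSub X.obj W, isAlgSpace_openSub X.property W hWo⟩
    have hj := repWith_isOpenImmersion_openSubι X.obj W hWo
    have hemb := isOpenEmbedding_map_openSubι X.property W hWo
    have hX'qc : IsQuasiCompactSp X'.obj := isQuasiCompactSp_openSub X.property W hWo hWc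
    have hX'qs : IsQuasiSeparatedSp X'.obj :=
      QSepChart.isQuasiSeparatedSp_of_openImmersion _ hj hX
    let E' : Set (Points X'.obj) := Points.map (openSubι X.obj W) ⁻¹' E
    have hE' : IsConstructible E' := by
      refine isConstructible_of_etale_locally X' hX'qc hX'qs E' (fun U a ha => ?_)
      exact hE U (a ≫ openSubι X.obj W) (MorphismProperty.comp_mem _ _ _ ha
        (repWith_mono isOpenImmersion_le_etale hj))
    let h : Points X'.obj ≃ₜ ↥W := (hemb.isEmbedding.toHomeomorph).trans
      (Homeomorph.setCongr (range_map_openSubι X.obj W))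
    have hval : ∀ y, (h y : Points X.obj) = Points.map (openSubι X.obj W) y := fun y => rfl
    have hset : (W ↓∩ E) = h.symm ⁻¹' E' := by
      ext w
      obtain ⟨y, rfl⟩ := h.surjective w
      change (h y : Points X.obj) ∈ E ↔ Points.map (openSubι X.obj W) (h.symm (h y)) ∈ E
      rw [Homeomorph.symm_apply_apply, hval]
    rw [hset]
    exact hE'.preimage_of_isOpenEmbedding h.symm.isOpenEmbedding
  · intro hE U a hae u
    obtain ⟨W, hW, hWo, hWE⟩ := hE (Points.ofPt a u)
    have hxW : Points.ofPt a u ∈ W := mem_of_mem_nhds hW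
    obtain ⟨B, b, b₀, hB, hbe, hb₀⟩ := exists_affine_chart_through X.property (Points.ofPt a u)
    haveI := hB
    obtain ⟨D, hDaff, hb₀D, hDW⟩ : ∃ D : B.left.Opens, IsAffineOpen D ∧ b₀ ∈ D ∧
        (D : Set ↥B.left) ⊆ Points.ofPt b ⁻¹' W := by
      obtain ⟨_, ⟨D, hD, rfl⟩, h1, h2⟩ := (B.left.isBasis_affineOpens).exists_subset_of_mem_open
        (show b₀ ∈ Points.ofPt b ⁻¹' W by rw [Set.mem_preimage, hb₀]; exact hxW)
        (hWo.preimage (Points.continuous_ofPt b))
      exact ⟨D, hD, h1, h2⟩
    let W' : Set (Points X.obj) := Points.ofPt b '' (D : Set ↥B.left)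
    have hW'o : IsOpen W' := isOpenMap_ofPt b hbe _ D.isOpen
    have hW'c : IsCompact W' := hDaff.isCompact.image (Points.continuous_ofPt b)
    have hW'W : W' ⊆ W := Set.image_subset_iff.2 hDW
    have hxW' : Points.ofPt a u ∈ W' := ⟨b₀, hb₀D, hb₀⟩
    let X' : AlgSp.Space S := ⟨openSub X.obj W', isAlgSpace_openSub X.property W' hW'o⟩
    have hj := repWith_isOpenImmersion_openSubι X.obj W' hW'o
    have hemb := isOpenEmbedding_map_openSubι X.property W' hW'o
    have hX'qc : IsQuasiCompactSp X'.obj := isQuasiCompactSp_openSub X.property W' hW'o hW'c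
    have hX'qs : IsQuasiSeparatedSp X'.obj :=
      QSepChart.isQuasiSeparatedSp_of_openImmersion _ hj hX
    haveI : SpectralSpace (Points X'.obj) := SchLoc.main10201 X' hX'qc hX'qs
    let E' : Set (Points X'.obj) := Points.map (openSubι X.obj W') ⁻¹' E
    have hE' : IsConstructible E' := by
      have hmem : ∀ y, Points.map (openSubι X.obj W') y ∈ W' := fun y => by
        have := Set.mem_range_self (f := Points.map (openSubι X.obj W')) y
        rwa [range_map_openSubι] at this
      let k : Points X'.obj → ↥W := fun y => ⟨Points.map (openSubι X.obj W') y, hW'W (hmem y)⟩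
      have hk : IsOpenEmbedding k :=
        IsOpenEmbedding.of_comp k hWo.isOpenEmbedding_subtypeVal hemb
      have := hWE.preimage_of_isOpenEmbedding hk
      exact this
    -- an affine open neighbourhood of `u` mapping into `W'`
    obtain ⟨U₀, hU₀aff, huU₀, hU₀W'⟩ : ∃ U₀ : U.left.Opens, IsAffineOpen U₀ ∧ u ∈ U₀ ∧
        (U₀ : Set ↥U.left) ⊆ Points.ofPt a ⁻¹' W' := by
      obtain ⟨_, ⟨D, hD, rfl⟩, h1, h2⟩ := (U.left.isBasis_affineOpens).exists_subset_of_mem_open
        (show u ∈ Points.ofPt a ⁻¹' W' from hxW')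
        (hW'o.preimage (Points.continuous_ofPt a))
      exact ⟨D, hD, h1, h2⟩
    let T : Over S := Over.mk (U₀.ι ≫ U.hom)
    let ι₀ : T ⟶ U := Over.homMk U₀.ι rfl
    let a₁ : (yon S).obj T ⟶ X.obj := (yon S).map ι₀ ≫ a
    have ha₁ : ∀ t : ↥T.left, Points.ofPt a₁ t = Points.ofPt a (U₀.ι t) :=
      fun t => SpUC.ofPt_comp_yon_map ι₀ a t
    let a₀ : (yon S).obj T ⟶ X'.obj := openSubLift a₁
      (app_mem_openSubfunctor_of_forall a₁ (fun t => by
        rw [ha₁]
        refine hU₀W' ?_
        have : (U₀.ι t : ↥U.left) ∈ Set.range U₀.ι := ⟨t, rfl⟩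
        rwa [Scheme.Opens.range_ι] at this))
    have ha₀ : a₀ ≫ openSubι X.obj W' = a₁ := openSubLift_ι _ _
    haveI : IsAffine T.left := hU₀aff
    have hpre : IsConstructible (Points.ofPt a₀ ⁻¹' E') := by
      refine hE'.preimage (Points.continuous_ofPt a₀) (fun s hs hsr => ?_)
      have hsc : IsCompact s := hsr.isCompact
      have := isCompact_preimage_ofPt X'.property hX'qs a₀ s hs hsc
      exact this.isRetrocompact (hs.preimage (Points.continuous_ofPt a₀))
    refine ⟨U₀, U₀.isOpen.mem_nhds huU₀, U₀.isOpen, ?_⟩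
    have hset : ((U₀ : Set ↥U.left) ↓∩ (Points.ofPt a ⁻¹' E)) = Points.ofPt a₀ ⁻¹' E' := by
      ext t
      change Points.ofPt a t.1 ∈ E ↔ Points.map (openSubι X.obj W') (Points.ofPt a₀ t) ∈ E
      rw [Points.map_ofPt, ha₀, ha₁]
      rfl
    rw [hset]
    exact hpre

end Groth.Agent.Lib.Helper3.ConstrSp
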