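import Groth.Agent.Lib.Helper3.DegTower5

set_option autoImplicit false
universe u

namespace Groth.Agent.Lib.Helper3.DegTower

open CategoryTheory CategoryTheory.Limits AlgebraicGeometry

/-- **Generic finiteness for etale separated morphisms with finite fibres over an affine base,
without any finiteness assumption on the set of irreducible components.** -/
theorem exists_open_finite (G : ES.{u}) [IsAffine G.B] [Nonempty ↥G.B]
    (hfib : ∀ b : ↥G.B, (G.g ⁻¹' {b}).Finite) :
    ∃ V : G.B.Opens, (V : Set ↥G.B).Nonempty ∧ IsFinite (G.g ∣_ V) := by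
  by_contra hcon
  push Not at hcon
  obtain ⟨x₀⟩ := ‹Nonempty ↥G.B›
  let s₀ : St G 0 :=
    { V := ⊤
      aff := isAffineOpen_top G.B
      ne := ⟨x₀, trivial⟩
      nf := fun V' _ hne => hcon V' hne }
  have hnt := nontrivial_colimit G s₀
  obtain ⟨M, hM⟩ := Ideal.exists_maximal ↑(colimit (D G s₀))
  let _ : Field (↑(colimit (D G s₀)) ⧸ M) := Ideal.Quotient.field M
  let Ω : Type u := ↑(colimit (D G s₀)) ⧸ M
  obtain ⟨ψ, hψdef⟩ : ∃ ψ : ∀ k, R G s₀ k ⟶ CommRingCat.of Ω, ψ = fun k =>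
    colimit.ι (D G s₀) k ≫ CommRingCat.ofHom (Ideal.Quotient.mk M) := ⟨_, rfl⟩
  have hψ : ∀ k, φ G s₀ k ≫ ψ (k + 1) = ψ k := by
    intro k
    subst hψdef
    have h1 := colimit.w (D G s₀) (homOfLE (Nat.le_add_right k 1))
    have h2 : (D G s₀).map (homOfLE (Nat.le_add_right k 1)) = φ G s₀ k :=
      Functor.ofSequence_map_homOfLE_succ _ k
    rw [h2] at h1
    change φ G s₀ k ≫ colimit.ι (D G s₀) (k + 1) ≫ _ = colimit.ι (D G s₀) k ≫ _
    rw [← Category.assoc]
    exact congrArg (· ≫ CommRingCat.ofHom (Ideal.Quotient.mk M)) h1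
  let β : ∀ k, Spec (.of Ω) ⟶ (tower G k).B := fun k =>
    Spec.map (ψ k) ≫ (seq G s₀ k).aff.fromSpec
  have hβ : ∀ k, (show Spec (.of Ω) ⟶ (tower G k).A from β (k + 1)) ≫ (tower G k).g = β k := by
    intro k
    have h1 := IsAffineOpen.SpecMap_appLE_fromSpec (tower G k).g (seq G s₀ k).aff
      (show IsAffineOpen (show (tower G k).A.Opens from (seq G s₀ (k + 1)).V) from
        (seq G s₀ (k + 1)).aff) (nextSt_le G k (seq G s₀ k))
    change (Spec.map (ψ (k + 1)) ≫ _) ≫ (tower G k).g = Spec.map (ψ k) ≫ _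
    rw [← hψ k, Spec.map_comp, Category.assoc, Category.assoc]
    exact congrArg (Spec.map (ψ (k + 1)) ≫ ·) h1.symm
  have hβ0 : ∀ k, β k ≫ proj G k = β 0 := by
    intro k
    induction k with
    | zero => exact Category.comp_id _
    | succ k ih =>
      change (show Spec (.of Ω) ⟶ (tower G k).A from β (k + 1)) ≫ (tower G k).g ≫ proj G k = β 0
      rw [← Category.assoc, hβ k, ih]
  have hcard : ∀ k : ℕ, ((k : ℕ∞) + 1) ≤ (F G (β 0)).encard := by
    intro k
    have h1 := encard_tower G k (β k)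
    rw [hβ0 k] at h1
    have h2 : 1 ≤ (F (tower G k) (β k)).encard :=
      Set.one_le_encard_iff_nonempty.2 ⟨β (k + 1), hβ k⟩
    calc ((k : ℕ∞) + 1) = 1 + k := add_comm _ _
      _ ≤ (F (tower G k) (β k)).encard + k := add_le_add_left h2 _
      _ ≤ _ := h1
  obtain ⟨t₀⟩ : Nonempty ↥(Spec (.of Ω)) := inferInstance
  have hfin : (F G (β 0)).Finite := finite_F G.g (β 0) t₀ (hfib _)
  obtain ⟨n, hn⟩ := ENat.ne_top_iff_exists.1 hfin.encard_lt_top.ne
  have := hcard n
  rw [← hn] at this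
  have h3 : ((n : ℕ∞) + 1) = ((n + 1 : ℕ) : ℕ∞) := by push_cast; rfl
  rw [h3, Nat.cast_le] at this
  omega

end Groth.Agent.Lib.Helper3.DegTower
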