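import Groth.Agent.Lib.Helper3.DecDense1

set_option autoImplicit false
universe u w

namespace Groth.Agent.Lib.Helper3.DecDense

open CategoryTheory CategoryTheory.Limits AlgebraicGeometry Opposite AlgSp
open Groth.Agent.Lib.Helper3 Groth.Agent.Lib.Helper3.GenDense Groth.Agent.Lib.Helper3.GenFinSp
  Groth.Agent.Lib.Helper3.RelNorm Groth.Agent.Lib.Helper3.SchLoc

variable {S : Scheme.{u}}

/-- The hypothesis: the relation of every affine etale chart has finite fibres. -/
def FinFibres (X : Sp S) : Prop :=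
  ∀ (U : Over S) (φ : (yon S).obj U ⟶ X), IsAffine U.left → RepWith @Etale φ →
    ∀ (R : Over S) (s t : R ⟶ U), IsPullback ((yon S).map t) ((yon S).map s) φ φ →
      ∀ u : ↥U.left, (s.left ⁻¹' {u}).Finite

/-- **Local statement.** Every nonempty open of an algebraic space whose charts have finite
fibres contains a nonempty open subscheme. -/
theorem exists_nonempty_open_subscheme {X : Sp S} (hX : IsAlgSpace X) (hff : FinFibres X)
    (Ω : Set (Points X)) (hΩ : IsOpen Ω) (hne : Ω.Nonempty) :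
    ∃ (M : Over S) (b : (yon S).obj M ⟶ X), RepWith @IsOpenImmersion b ∧
      (Set.range (Points.ofPt b)).Nonempty ∧ Set.range (Points.ofPt b) ⊆ Ω := by
  obtain ⟨x, hx⟩ := hne
  obtain ⟨U₁, a₁, u₁, -, ha₁e, ha₁u⟩ := exists_affine_chart_through hX x
  let W₁ : U₁.left.Opens := ⟨Points.ofPt a₁ ⁻¹' Ω, (Points.continuous_ofPt a₁).isOpen_preimage Ω hΩ⟩
  have hu₁W : u₁ ∈ W₁ := by
    change Points.ofPt a₁ u₁ ∈ Ω
    rw [ha₁u]
    exact hx
  obtain ⟨_, ⟨(O : U₁.left.Opens), hO : IsAffineOpen O, rfl⟩, hu₁O, hOW⟩ :=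
    (U₁.left.isBasis_affineOpens).exists_subset_of_mem_open hu₁W W₁.isOpen
  let U : Over S := opOver U₁ O
  have hUa : IsAffine U.left := hO
  let a : (yon S).obj U ⟶ X := (yon S).map (opι U₁ O) ≫ a₁
  have hιe : RepWith @Etale ((yon S).map (opι U₁ O)) := by
    rw [repWith_yon_map_iff]
    change Etale O.ι
    infer_instance
  have hae : RepWith @Etale a := MorphismProperty.comp_mem _ _ _ hιe ha₁e
  have haΩ : ∀ v : ↥U.left, Points.ofPt a v ∈ Ω := by
    intro v
    change Points.ofPt ((yon S).map (opι U₁ O) ≫ a₁) v ∈ Ω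
    rw [SpUC.ofPt_comp_yon_map]
    exact hOW v.2
  obtain ⟨R, t, s, kp⟩ := exists_pullback_charts a hae.1 a
  have heq : IsEqvRel s t := DecMono.isEqvRel_of_kernelPair a s t kp
  have hsep : IsSeparated s.left := OnePt.isSeparated_of_isEqvRel s t heq
  have hset : Etale s.left := hae.2 a ((yon S).map t) s kp
  let G : DegTower.ES.{u} := ⟨R.left, U.left, s.left, hset, hsep⟩
  have hGa : IsAffine G.B := hUa
  have hGn : Nonempty ↥G.B := ⟨⟨u₁, hu₁O⟩⟩
  obtain ⟨V, hVne, hVfin⟩ := DegTower.exists_open_finite G (hff U a hUa hae R s t kp)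
  obtain ⟨M, b, hbo, hbne, hbsub⟩ :=
    exists_open_subscheme_of_finite_over hX a hae s t kp V hVne hVfin
  refine ⟨M, b, hbo, hbne, ?_⟩
  intro y hy
  obtain ⟨v, rfl⟩ := hbsub hy
  rw [SpUC.ofPt_comp_yon_map]
  exact haΩ _

end Groth.Agent.Lib.Helper3.DecDense
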