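import Groth.Agent.Lib.Helper3.DecDense2

set_option autoImplicit false
universe u w

namespace Groth.Agent.Lib.Helper3.DecDense

open CategoryTheory CategoryTheory.Limits AlgebraicGeometry Opposite AlgSp
open Groth.Agent.Lib.Helper3 Groth.Agent.Lib.Helper3.GenDense Groth.Agent.Lib.Helper3.GenFinSp
  Groth.Agent.Lib.Helper3.RelNorm Groth.Agent.Lib.Helper3.SchLoc

variable {S : Scheme.{u}}

/-- **Dense open subscheme** of an algebraic space whose charts have finite fibres. -/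
theorem exists_dense_open_subscheme (X : AlgSp.Space S) (hff : FinFibres X.obj) :
    ∃ (X' : AlgSp.Space S) (j : X' ⟶ X), AlgSp.RepWith @IsOpenImmersion j.hom ∧
      X'.obj.obj.IsRepresentable ∧ Dense (Set.range (AlgSp.Points.map j.hom)) := by
  obtain ⟨U₀, a₀, ha₀e, ha₀s⟩ := X.property.atlas
  let ι : Type u := {W : U₀.left.Opens // (W : Set ↥U₀.left).Nonempty}
  have hloc : ∀ i : ι, ∃ (M : Over S) (b : (yon S).obj M ⟶ X.obj), RepWith @IsOpenImmersion b ∧
      (Set.range (Points.ofPt b)).Nonempty ∧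
      Set.range (Points.ofPt b) ⊆ Points.ofPt a₀ '' (i.1 : Set ↥U₀.left) := by
    intro i
    let c : (yon S).obj (opOver U₀ i.1) ⟶ X.obj := (yon S).map (opι U₀ i.1) ≫ a₀
    have hιe : RepWith @Etale ((yon S).map (opι U₀ i.1)) := by
      rw [repWith_yon_map_iff]
      change Etale (i.1).ι
      infer_instance
    have hce : RepWith @Etale c := MorphismProperty.comp_mem _ _ _ hιe ha₀e
    have hΩ : IsOpen (Set.range (Points.ofPt c)) := by
      rw [← range_map_eq_range_ofPt]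
      exact (isOpenMap_map_of_etale hce).isOpen_range
    obtain ⟨w, hw⟩ := i.2
    obtain ⟨M, b, hbo, hbne, hbsub⟩ := exists_nonempty_open_subscheme X.property hff _ hΩ
      ⟨_, (⟨w, hw⟩ : ↥(opOver U₀ i.1).left), rfl⟩
    refine ⟨M, b, hbo, hbne, hbsub.trans ?_⟩
    rintro _ ⟨v, rfl⟩
    refine ⟨v.1, v.2, ?_⟩
    change _ = Points.ofPt ((yon S).map (opι U₀ i.1) ≫ a₀) v
    rw [SpUC.ofPt_comp_yon_map]
    rfl
  choose M b hbo hbne hbsub using hloc
  obtain ⟨G, ⟨e⟩⟩ := exists_iso_yon_openSub_iUnion M b hbo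
  have hΩi : ∀ i, IsOpen (Set.range (Points.ofPt (b i))) := fun i => by
    rw [← range_map_eq_range_ofPt]
    exact (isOpenMap_map_of_etale (repWith_mono isOpenImmersion_le_etale (hbo i))).isOpen_range
  have hΩ : IsOpen (⋃ i, Set.range (Points.ofPt (b i))) := isOpen_iUnion hΩi
  have hdense : Dense (⋃ i, Set.range (Points.ofPt (b i))) := by
    rw [dense_iff_inter_open]
    intro Ω' hΩ' ⟨x, hx⟩
    obtain ⟨u, rfl⟩ := exists_ofPt_eq a₀ ha₀s x
    let W : U₀.left.Opens :=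
      ⟨Points.ofPt a₀ ⁻¹' Ω', (Points.continuous_ofPt a₀).isOpen_preimage Ω' hΩ'⟩
    have hW : (W : Set ↥U₀.left).Nonempty := ⟨u, hx⟩
    obtain ⟨y, hy⟩ := hbne ⟨W, hW⟩
    refine ⟨y, ?_, Set.mem_iUnion.2 ⟨⟨W, hW⟩, hy⟩⟩
    obtain ⟨w, hw, rfl⟩ := hbsub ⟨W, hW⟩ hy
    exact hw
  generalize (⋃ i, Set.range (Points.ofPt (b i))) = Ω at e hΩ hdense
  refine ⟨⟨openSub X.obj Ω, isAlgSpace_openSub X.property Ω hΩ⟩,
    ObjectProperty.homMk (openSubι X.obj Ω), repWith_isOpenImmersion_openSubι X.obj Ω hΩ,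
    (representableByOfIso e).isRepresentable, ?_⟩
  change Dense (Set.range (Points.map (openSubι X.obj Ω)))
  rw [range_map_openSubι]
  exact hdense

end Groth.Agent.Lib.Helper3.DecDense
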