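import Groth.Agent.Lib.Helper3.DecEt1
import Groth.Agent.Lib.Helper3.AlgSpGenLift
import Groth.Agent.Lib.Helper3.AlgSpLocalDim
import Groth.Agent.Lib.lead.DecentFibre
import Groth.Agent.Lib.lead.RelDimFormulaSp

set_option autoImplicit false
universe u w

namespace Groth.Agent.Lib.Helper3.DecDense

open CategoryTheory CategoryTheory.Limits AlgebraicGeometry Opposite AlgSp Topology
open Groth.Agent.Lib.Helper3 Groth.Agent.Lib.Helper3.GenDense Groth.Agent.Lib.Helper3.GenFinSp
  Groth.Agent.Lib.Helper3.RelNorm Groth.Agent.Lib.Helper3.SchLoc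

variable {S : Scheme.{u}}

attribute [local instance] specializationOrder

/-- The Krull dimension of a sober space is the supremum of the coheights of its points. -/
theorem topologicalKrullDim_eq_iSup_coheight (α : Type*) [TopologicalSpace α] [QuasiSober α]
    [T0Space α] : topologicalKrullDim α = ⨆ x : α, (Order.coheight x : WithBot ℕ∞) := by
  unfold topologicalKrullDim
  rw [Order.krullDim_eq_of_orderIso (irreducibleSetEquivPoints (α := α)),
    Order.krullDim_eq_iSup_coheight]

/-- The Krull dimension of an open subset of a sober space. -/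
theorem topologicalKrullDim_open_eq_iSup_coheight (α : Type*) [TopologicalSpace α] [QuasiSober α]
    [T0Space α] (Ω : Set α) (hΩ : IsOpen Ω) :
    topologicalKrullDim ↥Ω = ⨆ x : ↥Ω, (Order.coheight (x : α) : WithBot ℕ∞) := by
  have hemb : IsOpenEmbedding (Subtype.val : ↥Ω → α) := hΩ.isOpenEmbedding_subtypeVal
  haveI : QuasiSober ↥Ω := hemb.quasiSober
  rw [topologicalKrullDim_eq_iSup_coheight ↥Ω]
  exact iSup_congr fun x => by rw [hemb.coheight_eq]

/-- **Key.** For a decent algebraic space the coheight of a point of an etale chart equals the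
coheight of its image. -/
theorem coheight_ofPt_eq (X : AlgSp.Space S) (hX : IsDecent X.obj) [T0Space (Points X.obj)]
    {U : Over S} (a : (yon S).obj U ⟶ X.obj) (ha : RepWith @Etale a) (u : ↥U.left) :
    Order.coheight u = Order.coheight (Points.ofPt a u) := by
  refine Groth.Agent.Lib.lead.RelDimFormulaSp.coheight_eq_of_lifting (Points.ofPt a) ?_ ?_ ?_ u
  · intro p p' h
    exact Specializes.map h (Points.continuous_ofPt a)
  · intro p q h
    obtain ⟨pq, hpq, -, hq⟩ := hX q
    have h' : Points.mk pq ⤳ Points.ofPt a p := hpq ▸ h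
    obtain ⟨p', hp', hp'q⟩ := exists_specializes_lift_of_qc_point (Points.ofPt a p) pq h' hq a ha p rfl
    exact ⟨p', hp', hp'q.trans hpq⟩
  · intro p p' h h'
    have h1 : Points.ofPt a p' ⤳ Points.ofPt a p := Specializes.map h (Points.continuous_ofPt a)
    have h2 : Points.ofPt a p ⤳ Points.ofPt a p' := h'
    have heq : Points.ofPt a p' = Points.ofPt a p := (h1.antisymm h2).eq
    obtain ⟨pq, hpq, -, hq⟩ := hX (Points.ofPt a p)
    have : p' = p := Groth.Agent.Lib.lead.DecentFibre.eq_of_specializes_of_ofPt_eq pq hq a ha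
      (heq.trans hpq.symm) hpq.symm h
    rw [this]

end Groth.Agent.Lib.Helper3.DecDense
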