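import Groth.Agent.Lib.Helper3.DecDim1

set_option autoImplicit false
universe u w

namespace Groth.Agent.Lib.Helper3.DecDense

open CategoryTheory CategoryTheory.Limits AlgebraicGeometry Opposite AlgSp Topology
open Groth.Agent.Lib.Helper3 Groth.Agent.Lib.Helper3.GenDense Groth.Agent.Lib.Helper3.GenFinSp
  Groth.Agent.Lib.Helper3.RelNorm Groth.Agent.Lib.Helper3.SchLoc

variable {S : Scheme.{u}}

/-- coheight for the specialization preorder -/
noncomputable abbrev coh {α : Type*} [TopologicalSpace α] (x : α) : ℕ∞ :=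
  @Order.coheight α (specializationPreorder α) x

theorem topologicalKrullDim_eq_iSup_coh (α : Type*) [TopologicalSpace α] [QuasiSober α]
    [T0Space α] : topologicalKrullDim α = ⨆ x : α, (coh x : WithBot ℕ∞) :=
  topologicalKrullDim_eq_iSup_coheight α

theorem topologicalKrullDim_open_eq_iSup_coh (α : Type*) [TopologicalSpace α] [QuasiSober α]
    [T0Space α] (Ω : Set α) (hΩ : IsOpen Ω) :
    topologicalKrullDim ↥Ω = ⨆ x : ↥Ω, (coh (x : α) : WithBot ℕ∞) :=
  topologicalKrullDim_open_eq_iSup_coheight α Ω hΩ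

/-- The dimension of the local ring of a chart is the coheight of the image point. -/
theorem ringKrullDim_stalk_eq_coh_ofPt (X : AlgSp.Space S) (hX : IsDecent X.obj)
    [T0Space (Points X.obj)]
    {U : Over S} (a : (yon S).obj U ⟶ X.obj) (ha : RepWith @Etale a) (u : ↥U.left) :
    ringKrullDim ↥(U.left.presheaf.stalk u) = (coh (Points.ofPt a u) : WithBot ℕ∞) := by
  rw [ringKrullDim_stalk_eq_coheight]
  exact congrArg _ (coheight_ofPt_eq X hX a ha u)

theorem coheight_irreducibleCloseds_eq_coh {α : Type*} [TopologicalSpace α] [QuasiSober α]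
    [T0Space α] (T : TopologicalSpace.IrreducibleCloseds α) (ξ : α)
    (hξ : IsGenericPoint ξ (T : Set α)) : Order.coheight T = coh ξ := by
  let _ : PartialOrder α := specializationOrder α
  rw [← Order.coheight_orderIso (irreducibleSetEquivPoints (α := α)) T]
  have : irreducibleSetEquivPoints (α := α) T = ξ :=
    (T.2.isGenericPoint_genericPoint_closure.eq
      (by rw [closure_eq_iff_isClosed.mpr T.3]; exact hξ))
  rw [this]

/-- **S10396.** -/
theorem main10396 (X : AlgSp.Space S)
    (hX : AlgSp.IsDecent X.obj) (T : TopologicalSpace.IrreducibleCloseds (AlgSp.Points X.obj))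
    (ξ : AlgSp.Points X.obj) (hξ : IsGenericPoint ξ (T : Set (AlgSp.Points X.obj)))
    {U : Over S} (a : (AlgSp.yon S).obj U ⟶ X.obj)
    (ha : AlgSp.RepWith @Etale a) (u : ↥U.left) (hu : AlgSp.Points.ofPt a u = ξ) :
    (Order.coheight T : WithBot ℕ∞) = ringKrullDim ↥(U.left.presheaf.stalk u) := by
  have : QuasiSober (AlgSp.Points X.obj) := quasiSober_points_of_isDecent X hX
  have : T0Space (AlgSp.Points X.obj) := Groth.Agent.S10338.result X hX
  rw [ringKrullDim_stalk_eq_coh_ofPt X hX a ha u, hu, coheight_irreducibleCloseds_eq_coh T ξ hξ]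

/-- **S10345.** -/
theorem main10345 (X : AlgSp.Space S) (hX : AlgSp.IsDecent X.obj) :
    topologicalKrullDim (AlgSp.Points X.obj) = AlgSp.dim X.obj := by
  have : QuasiSober (AlgSp.Points X.obj) := quasiSober_points_of_isDecent X hX
  have : T0Space (AlgSp.Points X.obj) := Groth.Agent.S10338.result X hX
  rw [topologicalKrullDim_eq_iSup_coh]
  unfold AlgSp.dim
  apply le_antisymm
  · refine iSup_le fun x => ?_
    obtain ⟨U, a, u, -, ha, hu⟩ := exists_affine_chart_through X.property x
    rw [← hu, ← ringKrullDim_stalk_eq_coh_ofPt X hX a ha u]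
    refine le_trans ?_ (le_iSup_of_le U (le_iSup_of_le a (le_iSup_of_le ha le_rfl)))
    rw [topologicalKrullDim_eq_iSup_stalk]
    exact le_iSup (fun v : ↥U.left => ringKrullDim ↥(U.left.presheaf.stalk v)) u
  · refine iSup_le fun U => iSup_le fun a => iSup_le fun ha => ?_
    rw [topologicalKrullDim_eq_iSup_stalk]
    refine iSup_le fun u => ?_
    rw [ringKrullDim_stalk_eq_coh_ofPt X hX a ha u]
    exact le_iSup (fun x : Points X.obj => (coh x : WithBot ℕ∞)) _

/-- **S10346.** -/
theorem main10346 (X : AlgSp.Space S) (hX : AlgSp.IsDecent X.obj) {U : Over S}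
    (a : (AlgSp.yon S).obj U ⟶ X.obj) (ha : AlgSp.RepWith @Etale a) (u : ↥U.left) :
    FlatMor.localDim ↥U.left u = FlatMor.localDim (AlgSp.Points X.obj) (AlgSp.Points.ofPt a u) := by
  have : QuasiSober (AlgSp.Points X.obj) := quasiSober_points_of_isDecent X hX
  have : T0Space (AlgSp.Points X.obj) := Groth.Agent.S10338.result X hX
  unfold FlatMor.localDim
  apply le_antisymm
  · refine le_iInf fun Ω => ?_
    let O : U.left.Opens := ⟨Points.ofPt a ⁻¹' (Ω.1 : Set (Points X.obj)),
      (Points.continuous_ofPt a).isOpen_preimage _ Ω.1.2⟩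
    refine (iInf_le _ (⟨O, Ω.2⟩ : {W' : TopologicalSpace.Opens ↥U.left // u ∈ W'})).trans ?_
    rw [topologicalKrullDim_opens_eq_iSup_stalk]
    have h2 := topologicalKrullDim_open_eq_iSup_coh (Points X.obj)
      (Ω.1 : Set (Points X.obj)) Ω.1.2
    refine le_trans ?_ h2.ge
    refine iSup_le fun v => ?_
    rw [ringKrullDim_stalk_eq_coh_ofPt X hX a ha v.1]
    exact le_iSup (fun y : ↥(Ω.1 : Set (Points X.obj)) =>
      (coh (y : Points X.obj) : WithBot ℕ∞)) ⟨Points.ofPt a v.1, v.2⟩
  · refine le_iInf fun O => ?_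
    have hopen : IsOpen (Points.ofPt a '' (O.1 : Set ↥U.left)) := by
      have h1 : Points.ofPt a '' (O.1 : Set ↥U.left) =
          Points.map a '' (Points.schemeHomeo U '' (O.1 : Set ↥U.left)) := by
        rw [Set.image_image]
        exact Set.image_congr fun v _ => Points.ofPt_eq_map_ofScheme a v
      rw [h1]
      exact isOpenMap_map_of_etale ha _ ((Points.schemeHomeo U).isOpenMap _ O.1.2)
    refine (iInf_le _ (⟨⟨Points.ofPt a '' (O.1 : Set ↥U.left), hopen⟩, ⟨u, O.2, rfl⟩⟩ :
      {W' : TopologicalSpace.Opens (Points X.obj) // Points.ofPt a u ∈ W'})).trans ?_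
    rw [topologicalKrullDim_opens_eq_iSup_stalk]
    have h2 := topologicalKrullDim_open_eq_iSup_coh (Points X.obj)
      (Points.ofPt a '' (O.1 : Set ↥U.left)) hopen
    refine h2.le.trans ?_
    refine iSup_le fun y => ?_
    obtain ⟨v, hv, hvy⟩ := y.2
    rw [← hvy, ← ringKrullDim_stalk_eq_coh_ofPt X hX a ha v]
    exact le_iSup (fun w : ↥O.1 => ringKrullDim ↥(U.left.presheaf.stalk w.1)) ⟨v, hv⟩

end Groth.Agent.Lib.Helper3.DecDense
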