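import Groth.Agent.Lib.Helper3.DegBound2

set_option autoImplicit false
universe u

namespace Groth.Agent.Lib.Helper3.DegTower

open CategoryTheory CategoryTheory.Limits AlgebraicGeometry

/-- **Universally bounded fibres.** An etale separated morphism to an affine scheme, in which
every point is a specialization of one of finitely many points with finite fibres, has
bounded fibres. -/
theorem exists_bound_fibres (G : ES.{u}) [IsAffine G.B] (Ξ : Set ↥G.B) (hΞ : Ξ.Finite)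
    (hgen : ∀ b : ↥G.B, ∃ ξ ∈ Ξ, ξ ⤳ b) (hfib : ∀ ξ ∈ Ξ, (G.g ⁻¹' {ξ}).Finite) :
    ∃ N : ℕ, ∀ b : ↥G.B, (G.g ⁻¹' {b}).encard ≤ N := by
  have hex := fun ξ : ↥Ξ => exists_bound_F G.g ξ.1 (hfib ξ.1 ξ.2)
  choose N hN using hex
  have : Finite ↥Ξ := hΞ
  obtain ⟨M, hM⟩ := Finite.exists_le N
  refine ⟨M, fun b => ?_⟩
  by_contra hlt
  rw [not_le] at hlt
  have h1 : (((M + 1 : ℕ)) : ℕ∞) ≤ (G.g ⁻¹' {b}).encard := by
    have := Order.add_one_le_of_lt hlt
    exact_mod_cast this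
  obtain ⟨z, hz⟩ := exists_point_tower G (M + 1) b h1
  obtain ⟨ξ, hξΞ, hξb⟩ := hgen b
  have hopen : IsOpen (Set.range (proj G (M + 1))) := (proj G (M + 1)).isOpenMap.isOpen_range
  obtain ⟨z', hz'⟩ : ξ ∈ Set.range (proj G (M + 1)) := hξb.mem_open hopen ⟨z, hz⟩
  let β : Spec ((tower G (M + 1)).B.residueField z') ⟶ (tower G (M + 1)).B :=
    (tower G (M + 1)).B.fromSpecResidueField z'
  have h2 := encard_tower G (M + 1) β
  have h3 : (((M + 1 : ℕ)) : ℕ∞) ≤ (F G (β ≫ proj G (M + 1))).encard :=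
    le_trans le_add_self h2
  have h4 := hN ⟨ξ, hξΞ⟩ ↑((tower G (M + 1)).B.residueField z') (β ≫ proj G (M + 1)) (by
    rw [Scheme.Hom.comp_apply]
    change proj G (M + 1) ((tower G (M + 1)).B.fromSpecResidueField z' _) = ξ
    rw [Scheme.fromSpecResidueField_apply, hz'])
  have h5 : (((M + 1 : ℕ)) : ℕ∞) ≤ (N ⟨ξ, hξΞ⟩ : ℕ∞) := h3.trans h4
  have h6 : M + 1 ≤ N ⟨ξ, hξΞ⟩ := by exact_mod_cast h5
  have := hM ⟨ξ, hξΞ⟩
  omega

end Groth.Agent.Lib.Helper3.DegTower
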