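import Groth.Agent.Lib.Helper3.DecDim2
import Groth.Agent.Lib.Helper3.DegBound3
import Groth.Agent.Lib.Helper3.AlgSpRelFibre2

set_option autoImplicit false
universe u w

namespace Groth.Agent.Lib.Helper3.DecDense

open CategoryTheory CategoryTheory.Limits AlgebraicGeometry Opposite AlgSp Topology
open Groth.Agent.Lib.Helper3 Groth.Agent.Lib.Helper3.GenDense Groth.Agent.Lib.Helper3.GenFinSp
  Groth.Agent.Lib.Helper3.RelNorm Groth.Agent.Lib.Helper3.SchLoc

variable {S : Scheme.{u}}

/-- Converse of `finFibres_of_isDecent`. -/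
theorem isDecent_of_finFibres {X : Sp S} (hX : IsAlgSpace X) (hff : FinFibres X) : IsDecent X := by
  intro x
  refine (DecMono.finite_fibres_affine_etale_iff_exists_qc_mono_point hX x).1 ?_
  intro U φ hU hφ R s t kp
  have h1 : (Points.ofPt φ ⁻¹' {x}).Finite := by
    by_cases hne : (Points.ofPt φ ⁻¹' {x}).Nonempty
    · obtain ⟨u₀, hu₀⟩ := hne
      refine ((hff U φ hU hφ R s t kp u₀).image t.left).subset ?_
      intro u hu
      have he : Points.ofPt φ u = Points.ofPt φ u₀ := by
        rw [Set.mem_preimage, Set.mem_singleton_iff] at hu hu₀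
        rw [hu, hu₀]
      obtain ⟨r, hr1, hr2⟩ := exists_of_ofPt_eq_of_isPullback kp u u₀ he
      exact ⟨r, hr2, hr1⟩
    · rw [Set.not_nonempty_iff_eq_empty] at hne
      rw [hne]
      exact Set.finite_empty
  refine ⟨h1, ?_⟩
  have hsub : Points.ofPt ((yon S).map t ≫ φ) ⁻¹' {x} ⊆
      ⋃ u ∈ Points.ofPt φ ⁻¹' {x}, s.left ⁻¹' {u} := by
    intro r hr
    have hr' : Points.ofPt φ (s.left r) = x := by
      rw [← Points.ofPt_yon_map_comp, ← kp.w]
      exact hr
    simp only [Set.mem_iUnion]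
    exact ⟨s.left r, hr', rfl⟩
  exact (Set.Finite.biUnion h1 fun u _ => hff U φ hU hφ R s t kp u).subset hsub

/-- The key finiteness: if finitely many points `y` of `|X|`, each represented by a quasi-compact
monomorphic field point, generize every point of `|X|`, then all charts have finite fibres. -/
theorem finFibres_of_generic_points {X : Sp S} (hX : IsAlgSpace X) (P : Set (FieldPt X))
    (hP : P.Finite) (hPm : ∀ p ∈ P, Mono p.toHom) (hPq : ∀ p ∈ P, RepWith @QuasiCompact p.toHom)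
    (hgen : ∀ x : Points X, ∃ p ∈ P, Points.mk p ⤳ x) : FinFibres X := by
  intro U φ hU hφ R s t kp
  have hUc : CompactSpace ↥U.left := by
    have : IsAffine U.left := hU
    infer_instance
  let Ξ : Set ↥U.left := ⋃ p ∈ P, Points.ofPt φ ⁻¹' {Points.mk p}
  have hΞ : Ξ.Finite := Set.Finite.biUnion hP fun p hp => finite_fibre_of_qc_point p (hPq p hp) φ hφ
  have hΞgen : ∀ u : ↥U.left, ∃ ξ ∈ Ξ, ξ ⤳ u := by
    intro u
    obtain ⟨p, hp, hpx⟩ := hgen (Points.ofPt φ u)
    obtain ⟨u', hu', hu'p⟩ := exists_specializes_lift_of_qc_point (Points.ofPt φ u) p hpx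
      (hPq p hp) φ hφ u rfl
    exact ⟨u', Set.mem_biUnion hp hu'p, hu'⟩
  have heq : IsEqvRel s t := DecMono.isEqvRel_of_kernelPair φ s t kp
  have hUa : IsAffine U.left := hU
  have hsep : IsSeparated s.left := OnePt.isSeparated_of_isEqvRel s t heq
  have hset : Etale s.left := hφ.2 φ ((yon S).map t) s kp
  let G : DegTower.ES.{u} := ⟨R.left, U.left, s.left, hset, hsep⟩
  have hGa : IsAffine G.B := hU
  have hΞfib : ∀ ξ ∈ Ξ, (s.left ⁻¹' {ξ}).Finite := by
    intro ξ hξ
    obtain ⟨p, hp, hξp⟩ := Set.mem_iUnion₂.1 hξ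
    have hm : Mono p.toHom := hPm p hp
    have hfin := finite_fibre_of_qc_point p (hPq p hp) φ hφ
    have hsub : s.left ⁻¹' {ξ} ⊆ ⋃ ξ' ∈ Points.ofPt φ ⁻¹' {Points.mk p},
        {r : ↥R.left | s.left r = ξ ∧ t.left r = ξ'} := by
      intro r hr
      have ht : Points.ofPt φ (t.left r) = Points.mk p := by
        rw [← Points.ofPt_yon_map_comp, kp.w, Points.ofPt_yon_map_comp, hr]
        exact hξp
      simp only [Set.mem_iUnion]
      exact ⟨t.left r, ht, hr, rfl⟩
    refine (Set.Finite.biUnion hfin fun ξ' hξ' => ?_).subset hsub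
    exact finite_relation_fibre_of_mono_point p φ hφ ξ ξ' hξp hξ' R s t kp
  obtain ⟨N, hN⟩ := DegTower.exists_bound_fibres G Ξ hΞ hΞgen hΞfib
  intro u
  exact Set.finite_of_encard_le_coe (hN u)

end Groth.Agent.Lib.Helper3.DecDense
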