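import Groth.Agent.Lib.Helper3.DecFin1

set_option autoImplicit false
universe u w

namespace Groth.Agent.Lib.Helper3.DecDense

open CategoryTheory CategoryTheory.Limits AlgebraicGeometry Opposite AlgSp Topology

/-- Finitely many generizing points give finitely many irreducible components. -/
theorem finite_irreducibleComponents_of_generizing {B : Type*} [TopologicalSpace B] (Y : Set B)
    (hY : Y.Finite) (h : ∀ b : B, ∃ y ∈ Y, y ⤳ b) : (irreducibleComponents B).Finite := by
  refine (hY.image (fun y => closure ({y} : Set B))).subset ?_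
  intro Z hZ
  have hZirr : IsIrreducible Z := hZ.1
  let t : Finset (Set B) := hY.toFinset.image (fun y => closure ({y} : Set B))
  have ht : ∀ z ∈ t, IsClosed z := by
    intro z hz
    obtain ⟨y, -, rfl⟩ := Finset.mem_image.1 hz
    exact isClosed_closure
  have hcov : Z ⊆ ⋃₀ (↑t : Set (Set B)) := by
    intro b _
    obtain ⟨y, hy, hyb⟩ := h b
    refine ⟨closure {y}, ?_, specializes_iff_mem_closure.1 hyb⟩
    exact Finset.mem_coe.2 (Finset.mem_image.2 ⟨y, (Set.Finite.mem_toFinset hY).2 hy, rfl⟩)
  obtain ⟨z, hz, hZz⟩ := (isIrreducible_iff_sUnion_isClosed.1 hZirr) t ht hcov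
  obtain ⟨y, hy, rfl⟩ := Finset.mem_image.1 hz
  refine ⟨y, (Set.Finite.mem_toFinset hY).1 hy, ?_⟩
  exact (Set.Subset.antisymm hZz (hZ.2 isIrreducible_singleton.closure hZz)).symm

/-- Open subspaces of a space with finitely many irreducible components have finitely many
irreducible components. -/
theorem finite_irreducibleComponents_of_isOpenEmbedding {A B : Type*} [TopologicalSpace A]
    [TopologicalSpace B] (f : A → B) (hf : IsOpenEmbedding f)
    (hB : (irreducibleComponents B).Finite) : (irreducibleComponents A).Finite := by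
  refine (hB.image (fun Z => f ⁻¹' Z)).subset ?_
  intro T hT
  have hTirr : IsIrreducible T := hT.1
  have himg : IsIrreducible (f '' T) := hTirr.image f hf.continuous.continuousOn
  obtain ⟨Z, hZ, hTZ⟩ := exists_mem_irreducibleComponents_subset_of_isIrreducible (f '' T) himg
  refine ⟨Z, hZ, ?_⟩
  have hsub : T ⊆ f ⁻¹' Z := fun a ha => hTZ ⟨a, ha, rfl⟩
  have hpre : IsIrreducible (f ⁻¹' Z) :=
    ⟨hTirr.nonempty.mono hsub, hZ.1.isPreirreducible.preimage hf⟩
  exact Set.Subset.antisymm (hT.2 hpre hsub) hsub

/-- Generic points of the irreducible components of a sober `T0` space with finitely many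
irreducible components. -/
theorem generic_points_finite_and_generizing (A : Type*) [TopologicalSpace A] [QuasiSober A]
    [T0Space A] (hA : (irreducibleComponents A).Finite) :
    {η : A | ∃ T ∈ irreducibleComponents A, IsGenericPoint η T}.Finite ∧
      ∀ a : A, ∃ η ∈ {η : A | ∃ T ∈ irreducibleComponents A, IsGenericPoint η T}, η ⤳ a := by
  constructor
  · have hsub : {η : A | ∃ T ∈ irreducibleComponents A, IsGenericPoint η T} ⊆
        ⋃ T ∈ irreducibleComponents A, {η : A | IsGenericPoint η T} := by
      rintro η ⟨T, hT, hη⟩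
      exact Set.mem_biUnion hT hη
    refine (Set.Finite.biUnion hA fun T _ => ?_).subset hsub
    refine Set.Subsingleton.finite ?_
    intro η₁ h₁ η₂ h₂
    exact IsGenericPoint.eq h₁ h₂
  · intro a
    obtain ⟨T, hT, haT⟩ := exists_mem_irreducibleComponents_subset_of_isIrreducible {a}
      isIrreducible_singleton
    obtain ⟨η, hη⟩ := QuasiSober.sober hT.1 (isClosed_of_mem_irreducibleComponents T hT)
    exact ⟨η, ⟨T, hT, hη⟩, hη.specializes (haT rfl)⟩

end Groth.Agent.Lib.Helper3.DecDense
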