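import Groth.Agent.Lib.Helper3.DecFin2
import Groth.Agent.Lib.Helper3.AlgSpDecent

set_option autoImplicit false
universe u w

namespace Groth.Agent.Lib.Helper3.DecDense

open CategoryTheory CategoryTheory.Limits AlgebraicGeometry Opposite AlgSp Topology
open Groth.Agent.Lib.Helper3 Groth.Agent.Lib.Helper3.GenDense Groth.Agent.Lib.Helper3.GenFinSp
  Groth.Agent.Lib.Helper3.RelNorm Groth.Agent.Lib.Helper3.SchLoc

variable {S : Scheme.{u}}

/-- The field point of a point of a scheme mapping monomorphically is a monomorphism. -/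
theorem mono_toHom_ofPt {F : Sp S} {V : Over S} (j : (yon S).obj V ⟶ F) [Mono j] (v : ↥V.left) :
    Mono (FieldPt.ofPt j v).toHom := by
  rw [FieldPt.toHom_ofPt]
  have : Mono ((yon S).map (Over.homMk (V.left.fromSpecResidueField v) rfl :
      (FieldPt.ofPt j v).pt ⟶ V)) := mono_yon_map_fromSpecResidueField V v
  exact mono_comp _ _

/-- On a decent algebraic space every monomorphic field point is quasi-compact. -/
theorem repWith_quasiCompact_of_mono_of_isDecent {X : Sp S} (hX : IsAlgSpace X) (hXd : IsDecent X)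
    (p : FieldPt X) [Mono p.toHom] : RepWith @QuasiCompact p.toHom := by
  refine DecMono.repWith_quasiCompact_of_mono_of_finite_fibres hX p ?_
  intro A ψ hA hψ
  obtain ⟨R, t, s, kp⟩ := exists_pullback_charts ψ hψ.1 ψ
  exact ((DecMono.finite_fibres_affine_etale_iff_exists_qc_mono_point hX
    (Points.mk p)).2 (hXd _) A ψ hA hψ R s t kp).1

/-- (⇐) of S10397. -/
theorem isDecent_and_finite_of_dense_open_subscheme (X : AlgSp.Space S) (X' : Over S)
    (j : (yon S).obj X' ⟶ X.obj) (hj : RepWith @IsOpenImmersion j)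
    (hd : Dense (Set.range (Points.ofPt j)))
    (hfin : (irreducibleComponents ↥X'.left).Finite)
    (hq : ∀ x' : ↥X'.left, (∃ T ∈ irreducibleComponents ↥X'.left, IsGenericPoint x' T) →
      RepWith @QuasiCompact (FieldPt.ofPt j x').toHom) :
    IsDecent X.obj ∧ (irreducibleComponents (Points X.obj)).Finite := by
  have hjm : Mono j := mono_of_repWith_isOpenImmersion _ hj
  obtain ⟨hHfin, hHgen⟩ := generic_points_finite_and_generizing ↥X'.left hfin
  set H : Set ↥X'.left := {η | ∃ T ∈ irreducibleComponents ↥X'.left, IsGenericPoint η T} with hH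
  -- every point of `|X|` is a specialization of the image of a generic point
  have hgen : ∀ x : Points X.obj, ∃ η ∈ H, Points.ofPt j η ⤳ x := by
    intro x
    let C : Set (Points X.obj) := ⋃ η ∈ H, closure {Points.ofPt j η}
    have hC : IsClosed C := hHfin.isClosed_biUnion fun η _ => isClosed_closure
    have hsub : Set.range (Points.ofPt j) ⊆ C := by
      rintro _ ⟨x', rfl⟩
      obtain ⟨η, hη, hηx⟩ := hHgen x'
      exact Set.mem_biUnion hη (specializes_iff_mem_closure.1
        (hηx.map (Points.continuous_ofPt j)))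
    have hx : x ∈ C := by
      have := hd.closure_eq ▸ closure_minimal hsub hC
      exact this (Set.mem_univ x)
    obtain ⟨η, hη, hxη⟩ := Set.mem_iUnion₂.1 hx
    exact ⟨η, hη, specializes_iff_mem_closure.2 hxη⟩
  constructor
  · refine isDecent_of_finFibres X.property ?_
    refine finFibres_of_generic_points X.property ((fun η => FieldPt.ofPt j η) '' H)
      (hHfin.image _) ?_ ?_ ?_
    · rintro _ ⟨η, -, rfl⟩
      exact mono_toHom_ofPt j η
    · rintro _ ⟨η, hη, rfl⟩
      exact hq η hη
    · intro x
      obtain ⟨η, hη, hηx⟩ := hgen x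
      exact ⟨FieldPt.ofPt j η, ⟨η, hη, rfl⟩, hηx⟩
  · refine finite_irreducibleComponents_of_generizing (Points.ofPt j '' H) (hHfin.image _) ?_
    intro x
    obtain ⟨η, hη, hηx⟩ := hgen x
    exact ⟨_, ⟨η, hη, rfl⟩, hηx⟩

end Groth.Agent.Lib.Helper3.DecDense
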