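import Groth.Agent.Lib.Helper3.DecFin3

set_option autoImplicit false
universe u w

namespace Groth.Agent.Lib.Helper3.DecDense

open CategoryTheory CategoryTheory.Limits AlgebraicGeometry Opposite AlgSp Topology
open Groth.Agent.Lib.Helper3 Groth.Agent.Lib.Helper3.GenDense Groth.Agent.Lib.Helper3.GenFinSp
  Groth.Agent.Lib.Helper3.RelNorm Groth.Agent.Lib.Helper3.SchLoc

variable {S : Scheme.{u}}

/-- (⇒) of S10397. -/
theorem exists_dense_open_subscheme_of_isDecent_finite (X : AlgSp.Space S)
    (hXd : IsDecent X.obj) (hfin : (irreducibleComponents (Points X.obj)).Finite) :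
    ∃ (X' : Over S) (j : (yon S).obj X' ⟶ X.obj), RepWith @IsOpenImmersion j ∧
      Dense (Set.range (Points.ofPt j)) ∧ (irreducibleComponents ↥X'.left).Finite ∧
      ∀ x' : ↥X'.left, (∃ T ∈ irreducibleComponents ↥X'.left, IsGenericPoint x' T) →
        RepWith @QuasiCompact (FieldPt.ofPt j x').toHom := by
  obtain ⟨X₁, j₁, hj₁o, hrep, hdense⟩ := main10337 X hXd
  obtain ⟨G, ⟨eG⟩⟩ := hrep
  let e : (yon S).obj G ≅ X₁.obj := isoOfRepresentableBy eG
  let j : (yon S).obj G ⟶ X.obj := e.hom ≫ j₁.hom
  have hj : RepWith @IsOpenImmersion j :=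
    (MorphismProperty.cancel_left_of_respectsIso (RepWith (S := S) @IsOpenImmersion) _ _).2 hj₁o
  have hjm : Mono j := mono_of_repWith_isOpenImmersion _ hj
  have hrange : Set.range (Points.ofPt j) = Set.range (Points.map j₁.hom) := by
    ext x
    constructor
    · rintro ⟨g, rfl⟩
      refine ⟨Points.map e.hom (Points.schemeHomeo G g), ?_⟩
      rw [Points.ofPt_eq_map_ofScheme, Points.map_comp]
      rfl
    · rintro ⟨z, rfl⟩
      obtain ⟨g, hg⟩ := (Points.schemeHomeo G).surjective (Points.map e.inv z)
      refine ⟨g, ?_⟩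
      have hg' : Points.ofScheme G g = Points.map e.inv z := hg
      rw [Points.ofPt_eq_map_ofScheme, Points.map_comp, hg', ← Points.map_comp e.inv,
        e.inv_hom_id, Points.map_id]
  refine ⟨G, j, hj, hrange ▸ hdense, ?_, ?_⟩
  · -- finitely many components
    have hjimm : RepWith @IsImmersion j := repWith_mono isOpenImmersion_le_isImmersion hj
    have hemb := (isEmbedding_map_of_immersion X.property j hjimm).1
    have hφ : IsOpenEmbedding (Points.ofPt j) := by
      have h1 : Points.ofPt j = Points.map j ∘ Points.schemeHomeo G := by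
        funext g
        exact Points.ofPt_eq_map_ofScheme j g
      rw [h1]
      refine ⟨hemb.comp (Points.schemeHomeo G).isEmbedding, ?_⟩
      rw [Set.range_comp, (Points.schemeHomeo G).surjective.range_eq, Set.image_univ]
      exact (isOpenMap_map_of_etale (repWith_mono isOpenImmersion_le_etale hj)).isOpen_range
    exact finite_irreducibleComponents_of_isOpenEmbedding _ hφ hfin
  · intro x' _
    have : Mono (FieldPt.ofPt j x').toHom := mono_toHom_ofPt j x'
    exact repWith_quasiCompact_of_mono_of_isDecent X.property hXd _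

/-- **S10397.** -/
theorem main10397 (X : AlgSp.Space S) :
    (AlgSp.IsDecent X.obj ∧ (irreducibleComponents (AlgSp.Points X.obj)).Finite) ↔
      ∃ (X' : Over S) (j : (AlgSp.yon S).obj X' ⟶ X.obj), AlgSp.RepWith @IsOpenImmersion j ∧
        Dense (Set.range (AlgSp.Points.ofPt j)) ∧ (irreducibleComponents ↥X'.left).Finite ∧
        ∀ x' : ↥X'.left, (∃ T ∈ irreducibleComponents ↥X'.left, IsGenericPoint x' T) →
          AlgSp.RepWith @QuasiCompact (AlgSp.FieldPt.ofPt j x').toHom := by
  constructor
  · rintro ⟨hd, hf⟩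
    exact exists_dense_open_subscheme_of_isDecent_finite X hd hf
  · rintro ⟨X', j, hj, hd, hf, hq⟩
    exact isDecent_and_finite_of_dense_open_subscheme X X' j hj hd hf hq

end Groth.Agent.Lib.Helper3.DecDense
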