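import Groth.Agent.Lib.Helper3.DecMonoQC
import Groth.Agent.Lib.Helper3.AlgSpQC5
import Groth.Agent.Lib.Helper3.AlgSpDecent2

set_option autoImplicit false
universe u
open CategoryTheory CategoryTheory.Limits AlgebraicGeometry Opposite MorphismProperty

namespace Groth.Agent.Lib.Helper3.DecMono

open Groth.Agent.Lib.Helper3 AlgSp

variable {S : Scheme.{u}}

/-- Decency descends along quasi-compact surjective morphisms of algebraic spaces. -/
theorem isDecent_of_qc_surjective {X Y : Sp S} (hX : IsAlgSpace X) (hY : IsAlgSpace Y)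
    (f : X ⟶ Y) (hq : IsQuasiCompactMor f) (hs : IsSurjectiveMor f) (hXd : IsDecent X) :
    IsDecent Y := by
  intro y
  obtain ⟨x, rfl⟩ := hs y
  obtain ⟨p, rfl, hm, hp⟩ := hXd x
  have h1 : IsQuasiCompactMor (p.toHom ≫ f) :=
    isQuasiCompactMor_comp hX hY.diag (isQuasiCompactMor_of_repWith_quasiCompact _ hp) hq
  have h2 : RepWith @QuasiCompact (p.map f).toHom := by
    rw [FieldPt.toHom_map]
    exact repWith_quasiCompact_of_isQuasiCompactMor _ (hY.representable_from_yon _) h1
  exact exists_qc_mono_point_of_qc hY (p.map f) h2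

/-- Decency of a base change to an affine scheme can be checked after an etale surjective base
change of the target. -/
theorem isDecent_of_etale_cover_base_change {X Y : Sp S} (hX : IsAlgSpace X) (hY : IsAlgSpace Y)
    (f : X ⟶ Y) {V : Over S} (p : (yon S).obj V ⟶ Y) (hp : RepWith @Etale p)
    (hps : RepWith @Surjective p) {X' : Sp S} (fst : X' ⟶ X) (snd : X' ⟶ (yon S).obj V)
    (hsq : IsPullback fst snd f p) (h : IsDecentMor snd) (Z : Over S) (hZ : IsAffine Z.left)
    (g : (yon S).obj Z ⟶ Y) {P : Sp S} (fstP : P ⟶ X) (sndP : P ⟶ (yon S).obj Z)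
    (sqP : IsPullback fstP sndP f g) : IsDecent P := by
  have hP : IsAlgSpace P := isAlgSpace_of_isPullback' hY hX (IsAlgSpace.yon_obj Z) sqP
  obtain ⟨W, pV, pZ, sqW⟩ := exists_pullback_charts p hp.1 g
  have hpZe : RepWith @Etale ((yon S).map pZ) := (repWith_yon_map_iff _ pZ).2 (hp.2 g _ pZ sqW)
  have hpZs : RepWith @Surjective ((yon S).map pZ) :=
    (repWith_yon_map_iff _ pZ).2 (hps.2 g _ pZ sqW)
  have hZ' : IsAffine Z.left := hZ
  have : CompactSpace (Points ((yon S).obj Z)) :=
    (Points.schemeHomeo Z).compactSpace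
  obtain ⟨M, j, hMc, hMs⟩ := exists_compact_scheme_surjective ((yon S).map pZ)
    (isOpenMap_map_of_etale hpZe) (isSurjectiveMor_of_repWith hpZs)
  have hMs' : IsSurjectiveMor ((yon S).map (j ≫ pZ)) := by rw [Functor.map_comp]; exact hMs
  have hcomm : (yon S).map (j ≫ pZ) ≫ g = (yon S).map (j ≫ pV) ≫ p := by
    rw [Functor.map_comp, Functor.map_comp, Category.assoc, Category.assoc, sqW.w]
  have hqc : RepWith @QuasiCompact ((yon S).map (j ≫ pZ)) := by
    rw [repWith_yon_map_iff]
    exact (HasAffineProperty.iff_of_isAffine (P := @QuasiCompact)).2 hMc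
  have sq'' := IsPullback.of_hasPullback sndP ((yon S).map (j ≫ pZ))
  have hP'' : IsAlgSpace (pullback sndP ((yon S).map (j ≫ pZ))) :=
    isAlgSpace_of_isPullback' (IsAlgSpace.yon_obj Z) hP (IsAlgSpace.yon_obj M) sq''
  have haq : IsQuasiCompactMor (pullback.fst sndP ((yon S).map (j ≫ pZ))) :=
    isQuasiCompactMor_of_isPullback sq''.flip (isQuasiCompactMor_of_repWith_quasiCompact _ hqc)
  have has : IsSurjectiveMor (pullback.fst sndP ((yon S).map (j ≫ pZ))) :=
    isSurjectiveMor_fst_of_isPullback sq'' hMs'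
  have big := sq''.paste_horiz sqP
  rw [hcomm] at big
  have hw : (pullback.fst sndP ((yon S).map (j ≫ pZ)) ≫ fstP) ≫ f =
      (pullback.snd sndP ((yon S).map (j ≫ pZ)) ≫ (yon S).map (j ≫ pV)) ≫ p := by
    rw [big.w, Category.assoc]
  have hl1 : hsq.lift _ _ hw ≫ fst = pullback.fst sndP ((yon S).map (j ≫ pZ)) ≫ fstP :=
    hsq.lift_fst _ _ _
  have hl2 : hsq.lift _ _ hw ≫ snd =
      pullback.snd sndP ((yon S).map (j ≫ pZ)) ≫ (yon S).map (j ≫ pV) := hsq.lift_snd _ _ _
  have sql : IsPullback (hsq.lift _ _ hw) (pullback.snd sndP ((yon S).map (j ≫ pZ))) snd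
      ((yon S).map (j ≫ pV)) := by
    refine IsPullback.of_right ?_ hl2 hsq
    rw [hl1]
    exact big
  have hd'' : IsDecent (pullback sndP ((yon S).map (j ≫ pZ))) := h _ _ _ sql
  exact isDecent_of_qc_surjective hP'' hP _ haq has hd''

end Groth.Agent.Lib.Helper3.DecMono
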