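import Groth.Agent.Lib.Helper3.DecMonoLoc

set_option autoImplicit false
universe u
open CategoryTheory CategoryTheory.Limits AlgebraicGeometry Opposite MorphismProperty

namespace Groth.Agent.Lib.Helper3.DecMono

open Groth.Agent.Lib.Helper3 Groth.Agent.Lib.Helper15.FieldQuot AlgSp

variable {S : Scheme.{u}}

/-- For a monomorphic point, finiteness of the fibre of a chart implies finiteness of the fibre
of its relation. -/
theorem finite_fibre_relation_of_mono_point {X : Sp S} (p : FieldPt X) [Mono p.toHom]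
    {U : Over S} (φ : (yon S).obj U ⟶ X) (hφ : RepWith @Etale φ)
    (hΦ : (Points.ofPt φ ⁻¹' {Points.mk p}).Finite) {R : Over S} (s t : R ⟶ U)
    (sqR : IsPullback ((yon S).map t) ((yon S).map s) φ φ) :
    (Points.ofPt ((yon S).map t ≫ φ) ⁻¹' {Points.mk p}).Finite := by
  have hsub : Points.ofPt ((yon S).map t ≫ φ) ⁻¹' {Points.mk p} ⊆
      ⋃ u ∈ Points.ofPt φ ⁻¹' {Points.mk p}, ⋃ u' ∈ Points.ofPt φ ⁻¹' {Points.mk p},
        {r : ↥R.left | s.left r = u ∧ t.left r = u'} := by
    intro r hr
    have ht : Points.ofPt φ (t.left r) = Points.mk p := by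
      rw [← Points.ofPt_yon_map_comp]; exact hr
    have hs : Points.ofPt φ (s.left r) = Points.mk p := by
      rw [← Points.ofPt_yon_map_comp, ← sqR.w]; exact hr
    simp only [Set.mem_iUnion]
    exact ⟨s.left r, hs, t.left r, ht, rfl, rfl⟩
  refine (Set.Finite.biUnion hΦ fun u hu => Set.Finite.biUnion hΦ fun u' hu' => ?_).subset hsub
  exact finite_relation_fibre_of_mono_point p φ hφ u u' hu hu' R s t sqR

/-- The fibre product of a monomorphic point with an etale chart whose fibre is finite is a
finite scheme over the field. -/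
theorem isFinite_of_mono_point_of_finite_fibre {X : Sp S} (p : FieldPt X) [Mono p.toHom]
    {U : Over S} (φ : (yon S).obj U ⟶ X) (hφ : RepWith @Etale φ)
    (hΦ : (Points.ofPt φ ⁻¹' {Points.mk p}).Finite) {T : Over S} (c : T ⟶ p.pt) (d : T ⟶ U)
    (sq : IsPullback ((yon S).map c) ((yon S).map d) p.toHom φ) : IsFinite c.left := by
  have hdm : Mono ((yon S).map d) := sq.mono_snd_of_mono
  have hdm' : Mono d := (yon S).mono_of_mono_map hdm
  have hdl : Mono d.left := inferInstanceAs (Mono ((Over.forget S).map d))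
  have hinj : Function.Injective d.left := d.left.injective
  have hc : Etale c.left := hφ.2 p.toHom ((yon S).map d) c sq.flip
  have hfin : Finite ↥T.left := by
    have := hΦ.to_subtype
    refine Finite.of_injective (fun w : ↥T.left =>
      (⟨d.left w, ?_⟩ : ↥(Points.ofPt φ ⁻¹' {Points.mk p}))) ?_
    · change Points.ofPt φ (d.left w) = Points.mk p
      rw [← ofPt_comm_of_isPullback sq w, Points.ofPt_toHom]
    · intro w w' h
      exact hinj (congrArg Subtype.val h)
  have : CompactSpace ↥T.left := inferInstance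
  have : Etale (show T.left ⟶ Spec (CommRingCat.of p.K) from c.left) := hc
  exact isFinite_of_etale_of_compact (show T.left ⟶ Spec (CommRingCat.of p.K) from c.left)

theorem finite_fibres_chart_iff_mono_point_finite_pullback {X : Sp S} (hX : IsAlgSpace X)
    (x : Points X) {U : Over S} (φ : (yon S).obj U ⟶ X) (hφ : RepWith @Etale φ) :
    (x ∈ Set.range (Points.ofPt φ) ∧ (Points.ofPt φ ⁻¹' {x}).Finite ∧
        ∀ (R : Over S) (s t : R ⟶ U), IsPullback ((yon S).map t) ((yon S).map s) φ φ →
          (Points.ofPt ((yon S).map t ≫ φ) ⁻¹' {x}).Finite) ↔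
      ∃ p : FieldPt X, Points.mk p = x ∧ Mono p.toHom ∧
        ∀ (T : Over S) (c : T ⟶ p.pt) (snd : (yon S).obj T ⟶ (yon S).obj U),
          IsPullback ((yon S).map c) snd p.toHom φ → Nonempty ↥T.left ∧ IsFinite c.left := by
  constructor
  · rintro ⟨⟨u, hu⟩, hΦ, hR⟩
    obtain ⟨R, t, s, sqR⟩ := exists_pullback_charts φ hφ.1 φ
    have hfin : {r : ↥R.left | s.left r = u ∧ t.left r = u}.Finite := by
      refine (hR R s t sqR).subset ?_
      rintro r ⟨-, hr⟩
      change Points.ofPt ((yon S).map t ≫ φ) r = x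
      rw [Points.ofPt_yon_map_comp, hr, hu]
    obtain ⟨p, hp, hm⟩ := exists_mono_point_of_finite_relation_fibre hX φ hφ u u rfl s t sqR hfin
    have hpx : Points.mk p = x := hp.trans hu
    refine ⟨p, hpx, hm, ?_⟩
    intro T c snd sq
    obtain ⟨d, rfl⟩ := (yon S).map_surjective snd
    constructor
    · obtain ⟨w, -, -⟩ := exists_of_ofPt_eq_of_isPullback sq (IsLocalRing.closedPoint p.K) u
        (by rw [Points.ofPt_toHom, hpx, hu])
      exact ⟨w⟩
    · rw [← hpx] at hΦ
      exact isFinite_of_mono_point_of_finite_fibre p φ hφ hΦ c d sq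
  · rintro ⟨p, rfl, hm, H⟩
    obtain ⟨W, pU, pT, sq⟩ := exists_pullback_charts φ hφ.1 p.toHom
    obtain ⟨⟨w⟩, hfin⟩ := H W pT _ sq.flip
    have hpT : Etale pT.left := hφ.2 p.toHom ((yon S).map pU) pT sq
    have : CompactSpace ↥p.pt.left := inferInstanceAs (CompactSpace ↥(Spec (CommRingCat.of p.K)))
    have : CompactSpace ↥W.left := QuasiCompact.compactSpace_of_compactSpace pT.left
    have hWfin : Finite ↥W.left := by
      have : Etale (show W.left ⟶ Spec (CommRingCat.of p.K) from pT.left) := hpT
      exact finite_of_etale_of_compactSpace (show W.left ⟶ Spec (CommRingCat.of p.K) from pT.left)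
    have hΦ : (Points.ofPt φ ⁻¹' {Points.mk p}).Finite := by
      refine (Set.finite_range pU.left).subset ?_
      intro v hv
      have hv' : Points.ofPt φ v = Points.ofPt p.toHom (IsLocalRing.closedPoint p.K) := by
        rw [Points.ofPt_toHom]; exact hv
      obtain ⟨w', hw', -⟩ := exists_of_ofPt_eq_of_isPullback sq v _ hv'
      exact ⟨w', hw'⟩
    refine ⟨⟨pU.left w, ?_⟩, hΦ, ?_⟩
    · rw [ofPt_comm_of_isPullback sq w, Points.ofPt_toHom]
    · intro R s t sqR
      exact finite_fibre_relation_of_mono_point p φ hφ hΦ s t sqR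

end Groth.Agent.Lib.Helper3.DecMono
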