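import Groth.Agent.Lib.Helper3.DecMonoKer
import Groth.Agent.Lib.Helper15.FieldQuotApp

set_option autoImplicit false
universe u
open CategoryTheory CategoryTheory.Limits AlgebraicGeometry Opposite MorphismProperty

namespace Groth.Agent.Lib.Helper3.DecMono

open Groth.Agent.Lib.Helper3 Groth.Agent.Lib.Helper15.FieldQuot AlgSp

variable {S : Scheme.{u}}

/-- If the fibre product of two field-valued morphisms to `X` is a nonempty finite scheme etale
over both fields, then their common point is represented by a monomorphism. -/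
theorem exists_mono_point_of_finite_etale_pullback {X : Sp S} {K₁ K₂ : Type u} [Field K₁]
    [Field K₂] (str₁ : Spec (CommRingCat.of K₁) ⟶ S) (str₂ : Spec (CommRingCat.of K₂) ⟶ S)
    (q₁ : (yon S).obj (Over.mk str₁) ⟶ X) (q₂ : (yon S).obj (Over.mk str₂) ⟶ X) {T : Over S}
    (c₁ : T ⟶ Over.mk str₁) (c₂ : T ⟶ Over.mk str₂)
    (sq : IsPullback ((yon S).map c₁) ((yon S).map c₂) q₁ q₂)
    (h₁ : Etale c₁.left) (h₂ : Etale c₂.left) [Finite ↥T.left] (r : ↥T.left) :
    ∃ (k' : Type u) (_ : Field k') (str' : Spec (CommRingCat.of k') ⟶ S)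
      (p' : (yon S).obj (Over.mk str') ⟶ X), Mono p' ∧
      Points.mk (fieldPtOfHom k' str' p') = Points.mk (fieldPtOfHom K₁ str₁ q₁) := by
  -- the residue field point of `T`
  let L : Type u := T.left.residueField r
  let strL : Spec (CommRingCat.of L) ⟶ S := T.left.fromSpecResidueField r ≫ T.hom
  let b : Over.mk strL ⟶ T := Over.homMk (T.left.fromSpecResidueField r) rfl
  have hbmono : Mono b.left := inferInstanceAs (Mono (T.left.fromSpecResidueField r))
  have hbopen : IsOpenImmersion b.left :=
    isOpenImmersion_of_mono_of_etale_field (k := K₁) c₁.left b.left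
  let β₁ : Over.mk strL ⟶ Over.mk str₁ := b ≫ c₁
  let β₂ : Over.mk strL ⟶ Over.mk str₂ := b ≫ c₂
  have hβ₁ : Etale β₁.left := by
    change Etale (b.left ≫ c₁.left); infer_instance
  have hβ₂ : Etale β₂.left := by
    change Etale (b.left ≫ c₂.left); infer_instance
  have hβ₂q : QuasiCompact β₂.left := quasiCompact_of_field (K := L) β₂.left
  have hc₁q : QuasiCompact c₁.left := quasiCompact_of_finite c₁.left
  have hqL : (yon S).map β₁ ≫ q₁ = (yon S).map β₂ ≫ q₂ := by
    simp only [β₁, β₂, Functor.map_comp, Category.assoc, sq.w]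
  -- first pullback
  have sqA := IsPullback.of_hasPullback β₁ c₁
  let g₁ := pullback.fst β₁ c₁
  let g₂ := pullback.snd β₁ c₁
  have sqA' : IsPullback ((yon S).map g₂ ≫ (yon S).map c₂) ((yon S).map g₁) q₂
      ((yon S).map β₁ ≫ q₁) := (sqA.map (yon S)).flip.paste_horiz sq.flip
  -- second pullback
  have sqB := IsPullback.of_hasPullback (g₂ ≫ c₂) β₂
  let h₁' := pullback.fst (g₂ ≫ c₂) β₂
  let h₂' := pullback.snd (g₂ ≫ c₂) β₂
  have sqB' : IsPullback ((yon S).map h₁' ≫ (yon S).map g₁) ((yon S).map h₂')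
      ((yon S).map β₁ ≫ q₁) ((yon S).map β₂ ≫ q₂) := by
    have := (sqB.map (yon S)).paste_horiz (by rw [Functor.map_comp]; exact sqA'.flip)
    exact this
  -- properties of the first projection
  have sqAl : IsPullback g₁.left g₂.left β₁.left c₁.left := sqA.map (Over.forget S)
  have sqBl : IsPullback h₁'.left h₂'.left (g₂ ≫ c₂).left β₂.left := sqB.map (Over.forget S)
  have hg₁e : Etale g₁.left := MorphismProperty.of_isPullback (P := @Etale) sqAl.flip h₁
  have hg₁q : QuasiCompact g₁.left := MorphismProperty.of_isPullback (P := @QuasiCompact) sqAl.flip hc₁q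
  have hh₁e : Etale h₁'.left := MorphismProperty.of_isPullback (P := @Etale) sqBl.flip hβ₂
  have hh₁q : QuasiCompact h₁'.left :=
    MorphismProperty.of_isPullback (P := @QuasiCompact) sqBl.flip hβ₂q
  have he : RepWith @Etale ((yon S).map h₁' ≫ (yon S).map g₁) := by
    rw [← Functor.map_comp, repWith_yon_map_iff, Over.comp_left]
    infer_instance
  have hq : RepWith @QuasiCompact ((yon S).map h₁' ≫ (yon S).map g₁) := by
    rw [← Functor.map_comp, repWith_yon_map_iff, Over.comp_left]
    infer_instance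
  rw [← hqL] at sqB'
  obtain ⟨k', hfin, str', c, p', hcl, hfac, hmono, hc⟩ :=
    exists_mono_quotient_of_etale_qc strL ((yon S).map β₁ ≫ q₁) _ _ sqB' he hq
  refine ⟨k', inferInstance, str', p', hmono, ?_⟩
  rw [← mk_fieldPtOfHom_comp c p', hfac]
  exact mk_fieldPtOfHom_comp β₁ q₁

end Groth.Agent.Lib.Helper3.DecMono
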