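import Groth.Agent.Lib.Helper3.DecMonoChart
import Groth.Agent.Lib.Helper3.AlgSpNoSpec
import Groth.Agent.Lib.Helper3.AlgSpMonoPt

set_option autoImplicit false
universe u
open CategoryTheory CategoryTheory.Limits AlgebraicGeometry Opposite MorphismProperty

namespace Groth.Agent.Lib.Helper3.DecMono

open Groth.Agent.Lib.Helper3 AlgSp

variable {S : Scheme.{u}}

/-- A point with a quasi-compact representative has an etale chart with exactly one point over
it. -/
theorem exists_chart_unique_point {Y : Sp S} (hY : IsAlgSpace Y) (r : FieldPt Y)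
    (hq : RepWith @QuasiCompact r.toHom) :
    ∃ (V : Over S) (ψ : (yon S).obj V ⟶ Y) (v : ↥V.left), RepWith @Etale ψ ∧
      Points.ofPt ψ ⁻¹' {Points.mk r} = {v} := by
  obtain ⟨V₀, ψ₀, v₀, hV₀, hψ₀, hv₀⟩ := exists_affine_chart_through hY (Points.mk r)
  have hV₀' : IsAffine V₀.left := hV₀
  have hfinall : ∀ (V : Over S) (b : (yon S).obj V ⟶ Y), IsAffine V.left → RepWith @Etale b →
      (Points.ofPt b ⁻¹' {Points.mk r}).Finite := by
    intro V b hV hb
    have : IsAffine V.left := hV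
    have : CompactSpace ↥V.left := inferInstance
    exact finite_fibre_of_qc_point r hq b hb
  have hΦ := hfinall V₀ ψ₀ hV₀ hψ₀
  let Φ' : Set ↥V₀.left := (Points.ofPt ψ₀ ⁻¹' {Points.mk r}) \ {v₀}
  have hΦ' : Φ'.Finite := hΦ.subset Set.sdiff_subset
  let C : Set ↥V₀.left := ⋃ v ∈ Φ', closure {v}
  have hC : IsClosed C := hΦ'.isClosed_biUnion fun v _ => isClosed_closure
  have hv₀C : v₀ ∉ C := by
    intro h
    simp only [C, Set.mem_iUnion] at h
    obtain ⟨v, hv, hmem⟩ := h
    have hs : v ⤳ v₀ := specializes_iff_mem_closure.2 hmem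
    have := eq_of_specializes_of_finite_fibres (Points.mk r) hfinall ψ₀ hψ₀ v₀ v hv₀ hv.1 hs
    exact hv.2 this.symm
  let V' : V₀.left.Opens := ⟨Cᶜ, hC.isOpen_compl⟩
  refine ⟨Over.mk (V'.ι ≫ V₀.hom), chartRestrict ψ₀ V', (⟨v₀, hv₀C⟩ : ↥V'),
    chartRestrict_etale ψ₀ hψ₀ V', ?_⟩
  ext w
  simp only [Set.mem_preimage, Set.mem_singleton_iff]
  constructor
  · intro hw
    rw [ofPt_chartRestrict] at hw
    by_contra hne
    have hw' : V'.ι w ∈ Φ' := by
      refine ⟨hw, ?_⟩
      intro h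
      apply hne
      apply V'.ι.injective
      exact h
    have : V'.ι w ∈ C := by
      simp only [C, Set.mem_iUnion]
      exact ⟨V'.ι w, hw', subset_closure rfl⟩
    have hwV : V'.ι w ∈ V' := by
      have h0 : V'.ι w ∈ Set.range V'.ι := ⟨w, rfl⟩
      rw [Scheme.Opens.range_ι] at h0
      exact h0
    exact hwV this
  · rintro rfl
    rw [ofPt_chartRestrict]
    exact hv₀

/-- The fibre of a scheme over a point represented by a quasi-compact monomorphism carries the
induced topology. -/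
theorem exists_open_preimage_eq_of_qc_mono_point {Y : Sp S} (hY : IsAlgSpace Y) (r : FieldPt Y)
    [Mono r.toHom] (hq : RepWith @QuasiCompact r.toHom) {U Uk : Over S} (g : (yon S).obj U ⟶ Y)
    (d : Uk ⟶ U) (e : Uk ⟶ r.pt) (sq : IsPullback ((yon S).map d) ((yon S).map e) g r.toHom)
    (O : Set ↥Uk.left) (hO : IsOpen O) : ∃ O' : Set ↥U.left, IsOpen O' ∧ d.left ⁻¹' O' = O := by
  obtain ⟨V, ψ, v, hψ, hv⟩ := exists_chart_unique_point hY r hq
  have hvr : Points.ofPt ψ v = Points.mk r := by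
    have : v ∈ Points.ofPt ψ ⁻¹' {Points.mk r} := by rw [hv]; rfl
    exact this
  obtain ⟨W, pV, pU, sqW⟩ := exists_pullback_charts ψ hψ.1 g
  have hpU : Etale pU.left := hψ.2 g ((yon S).map pV) pU sqW
  -- injectivity of `d`
  have hdm : Mono ((yon S).map d) := sq.mono_fst_of_mono
  have hdm' : Mono d := (yon S).mono_of_mono_map hdm
  have hdl : Mono d.left := inferInstanceAs (Mono ((Over.forget S).map d))
  have hinj : Function.Injective d.left := d.left.injective
  have hover : ∀ t : ↥Uk.left, Points.ofPt g (d.left t) = Points.mk r := by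
    intro t
    rw [ofPt_comm_of_isPullback sq t, Points.ofPt_toHom]
  -- the fibre of `pV` over `v`
  let ι := pV.left.fiberι v
  let τ := pV.left.fiberToSpecResidueField v
  let FO : Over S := Over.mk (ι ≫ W.hom)
  let ιO : FO ⟶ W := Over.homMk ι rfl
  have hτw : τ ≫ (V.left.fromSpecResidueField v ≫ V.hom) = ι ≫ W.hom := by
    rw [← Category.assoc, ← pV.left.fiber_fac v, Category.assoc, Over.w pV]
  let τO : FO ⟶ (FieldPt.ofPt ψ v).pt := Over.homMk τ hτw
  have hfac : ιO ≫ pV = τO ≫ resPt V v := by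
    ext
    exact pV.left.fiber_fac v
  obtain ⟨cv, hcv⟩ := exists_factor_of_mono_fieldPt hY r (FieldPt.ofPt ψ v) hvr.symm
  have hw : (yon S).map (ιO ≫ pU) ≫ g = (yon S).map (τO ≫ cv) ≫ r.toHom := by
    rw [Functor.map_comp, Functor.map_comp, Category.assoc, Category.assoc, hcv,
      FieldPt.toHom_ofPt, ← sqW.w, ← Category.assoc, ← Category.assoc, ← Functor.map_comp,
      ← Functor.map_comp, hfac]
    rfl
  obtain ⟨ε, hε⟩ := (yon S).map_surjective (sq.lift _ _ hw)
  have hεd : ε ≫ d = ιO ≫ pU := by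
    apply (yon S).map_injective
    rw [Functor.map_comp, hε, sq.lift_fst]
  have hεd' : ∀ t' : ↥FO.left, d.left (ε.left t') = pU.left (ιO.left t') := by
    intro t'
    have := congrArg (fun m : FO ⟶ U => m.left t') hεd
    simpa only [Over.comp_left, Scheme.Hom.comp_apply] using this
  have hrange : ∀ w : ↥W.left, pV.left w = v → ∃ t' : ↥FO.left, ιO.left t' = w := by
    intro w hw
    have : w ∈ Set.range (pV.left.fiberι v) := by
      rw [Scheme.Hom.range_fiberι]; exact hw
    exact this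
  have hεsurj : Function.Surjective ε.left := by
    intro t
    obtain ⟨w, hw1, hw2⟩ := exists_of_ofPt_eq_of_isPullback sqW v (d.left t)
      (by rw [hvr, hover])
    obtain ⟨t', rfl⟩ := hrange w hw1
    refine ⟨t', hinj ?_⟩
    rw [hεd', hw2]
  -- the open set
  have hεO : IsOpen (ε.left ⁻¹' O) := hO.preimage ε.left.continuous
  obtain ⟨G, hG, hGeq⟩ :=
    (Scheme.Hom.isEmbedding (pV.left.fiberι v)).isInducing.isOpen_iff.1 hεO
  refine ⟨pU.left '' G, pU.left.isOpenMap _ hG, ?_⟩
  ext t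
  constructor
  · rintro ⟨w₁, hw₁G, hw₁⟩
    have hv' : pV.left w₁ = v := by
      have h1 : Points.ofPt ψ (pV.left w₁) = Points.mk r := by
        rw [ofPt_comm_of_isPullback sqW w₁, hw₁, hover]
      have : pV.left w₁ ∈ Points.ofPt ψ ⁻¹' {Points.mk r} := h1
      rw [hv] at this
      exact this
    obtain ⟨t'', rfl⟩ := hrange w₁ hv'
    have h2 : t'' ∈ ε.left ⁻¹' O := by rw [← hGeq]; exact hw₁G
    have h3 : ε.left t'' = t := hinj (by rw [hεd', hw₁])
    rw [← h3]
    exact h2
  · intro ht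
    obtain ⟨t', rfl⟩ := hεsurj t
    have h2 : t' ∈ (pV.left.fiberι v) ⁻¹' G := by rw [hGeq]; exact ht
    exact ⟨ιO.left t', h2, (hεd' t').symm⟩

end Groth.Agent.Lib.Helper3.DecMono
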