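import Groth.Agent.Lib.Helper3.DecMonoEmb
import Groth.Agent.Lib.Helper3.AlgSpZarDecent

set_option autoImplicit false
universe u
open CategoryTheory CategoryTheory.Limits AlgebraicGeometry Opposite MorphismProperty Topology

namespace Groth.Agent.Lib.Helper3.DecMono

open Groth.Agent.Lib.Helper3 AlgSp

variable {S : Scheme.{u}}

theorem isEmbedding_points_fibre_of_qc_mono_point {X Y Xk : Sp S} (hX : IsAlgSpace X)
    (hY : IsAlgSpace Y) (f : X ⟶ Y) (r : FieldPt Y) [Mono r.toHom]
    (hq : RepWith @QuasiCompact r.toHom) (fst : Xk ⟶ X) (snd : Xk ⟶ (yon S).obj r.pt)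
    (hsq : IsPullback fst snd f r.toHom) :
    IsEmbedding (Points.map fst) ∧
      Set.range (Points.map fst) = Points.map f ⁻¹' {Points.mk r} := by
  have hmono : Mono fst := hsq.mono_fst_of_mono
  have hinj : Function.Injective (Points.map fst) := Points.map_injective_of_mono fst
  have hover : ∀ w : Points Xk, Points.map f (Points.map fst w) = Points.mk r := by
    intro w
    rw [← Points.map_comp, hsq.w, Points.map_comp]
    obtain ⟨s, hs⟩ := (Points.schemeEquiv r.pt).surjective (Points.map snd w)
    rw [← hs]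
    change Points.map r.toHom (Points.ofPt (𝟙 _) s) = _
    rw [Points.map_ofPt, Category.id_comp, Points.ofPt_toHom]
  have hrange : Set.range (Points.map fst) = Points.map f ⁻¹' {Points.mk r} := by
    ext x
    constructor
    · rintro ⟨w, rfl⟩
      exact hover w
    · intro hx
      obtain ⟨z, hz⟩ := exists_points_of_isPullback_toHom f x r hx.symm fst snd hsq
      exact ⟨z, hz⟩
  refine ⟨⟨⟨?_⟩, hinj⟩, hrange⟩
  apply le_antisymm
  · exact (Points.continuous_map fst).le_induced
  · intro O hO
    -- the atlas and its base change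
    obtain ⟨U, a, hae, has⟩ := hX.atlas
    have hfstrep : Representable fst :=
      MorphismProperty.of_isPullback (P := Representable) hsq.flip (hY.representable_from_yon _)
    obtain ⟨Uk, d, b, sqb⟩ := hfstrep a
    have hbe : RepWith @Etale b := MorphismProperty.of_isPullback sqb.flip hae
    have hbs : RepWith @Surjective b := MorphismProperty.of_isPullback sqb.flip has
    have sqU := sqb.flip.paste_vert hsq
    obtain ⟨e, he⟩ := (yon S).map_surjective (b ≫ snd)
    rw [← he] at sqU
    have hOU : IsOpen (Points.ofPt b ⁻¹' O) := hO.preimage (Points.continuous_ofPt b)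
    obtain ⟨O'U, hO'U, hpre⟩ :=
      exists_open_preimage_eq_of_qc_mono_point hY r hq (a ≫ f) d e sqU _ hOU
    rw [isOpen_induced_iff]
    refine ⟨Points.ofPt a '' O'U, isOpenMap_ofPt a hae _ hO'U, ?_⟩
    have hcomm : ∀ t : ↥Uk.left, Points.map fst (Points.ofPt b t) = Points.ofPt a (d.left t) := by
      intro t
      rw [Points.map_ofPt, sqb.w, Points.ofPt_yon_map_comp]
    ext w
    obtain ⟨t, rfl⟩ := exists_ofPt_eq b hbs w
    constructor
    · rintro ⟨u₁, hu₁, hu₁w⟩
      have hu₁y : Points.ofPt (a ≫ f) u₁ = Points.mk r := by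
        rw [← Points.map_ofPt, hu₁w, hover]
      obtain ⟨t₁, ht₁, -⟩ := exists_of_ofPt_eq_of_isPullback sqU u₁
        (IsLocalRing.closedPoint r.K) (by rw [hu₁y, Points.ofPt_toHom])
      have ht₁O : t₁ ∈ Points.ofPt b ⁻¹' O := by
        rw [← hpre]; change d.left t₁ ∈ O'U; rw [ht₁]; exact hu₁
      have heq : Points.ofPt b t₁ = Points.ofPt b t := by
        apply hinj
        rw [hcomm, ht₁, hu₁w]
      rw [← heq]
      exact ht₁O
    · intro ht
      have ht' : t ∈ Points.ofPt b ⁻¹' O := ht
      rw [← hpre] at ht'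
      exact ⟨d.left t, ht', (hcomm t).symm⟩

end Groth.Agent.Lib.Helper3.DecMono
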