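import Groth.Agent.Lib.Helper3.DecMonoChart
import Groth.Agent.Lib.Helper3.SchImRed

set_option autoImplicit false
universe u
open CategoryTheory CategoryTheory.Limits AlgebraicGeometry Opposite MorphismProperty

namespace Groth.Agent.Lib.Helper3.DecMono

open Groth.Agent.Lib.Helper3 AlgSp

variable {S : Scheme.{u}}

/-- An affine scheme etale over a field is finite as a set. -/
theorem finite_of_etale_field_of_isAffine {k : Type u} [Field k] {V : Scheme.{u}} [IsAffine V]
    (g : V ⟶ Spec (CommRingCat.of k)) [Etale g] : Finite ↥V :=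
  finite_of_etale_of_compactSpace g

/-- An algebraic space etale over the spectrum of a field is decent. -/
theorem isDecent_of_isEtaleMor_to_field {E : Sp S} (hE : IsAlgSpace E) {k : Type u} [Field k]
    (str : Spec (CommRingCat.of k) ⟶ S) (e₂ : E ⟶ (yon S).obj (Over.mk str))
    (he : IsEtaleMor e₂) : IsDecent E := by
  -- every affine etale chart of `E` is a finite set
  have hfinA : ∀ (A : Over S) (ψ : (yon S).obj A ⟶ E), IsAffine A.left → RepWith @Etale ψ →
      Finite ↥A.left := by
    intro A ψ hA hψ
    obtain ⟨g, hg⟩ := (yon S).map_surjective (ψ ≫ e₂)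
    have hge : Etale g.left := (repWith_yon_map_iff _ g).1 (hg ▸ he ψ hψ)
    have : IsAffine A.left := hA
    have : Etale (show A.left ⟶ Spec (CommRingCat.of k) from g.left) := hge
    exact finite_of_etale_field_of_isAffine (show A.left ⟶ Spec (CommRingCat.of k) from g.left)
  intro z
  obtain ⟨V, ψ, v, hV, hψ, hv⟩ := exists_affine_chart_through hE z
  have hVfin : Finite ↥V.left := hfinA V ψ hV hψ
  obtain ⟨T₁, d₁, e₁, sq₁⟩ := exists_pullback_charts ψ hψ.1 ((yon S).map (resPt V v) ≫ ψ)
  obtain ⟨g, hg⟩ := (yon S).map_surjective (ψ ≫ e₂)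
  have hge : Etale g.left := (repWith_yon_map_iff _ g).1 (hg ▸ he ψ hψ)
  -- the fibre product over the field
  have sqP := IsPullback.of_hasPullback (resPt V v ≫ g) g
  have hw : e₁ ≫ resPt V v ≫ g = d₁ ≫ g := by
    apply (yon S).map_injective
    simp only [Functor.map_comp, hg]
    rw [← Category.assoc ((yon S).map (resPt V v)), ← Category.assoc, ← sq₁.w, Category.assoc]
  let m : T₁ ⟶ pullback (resPt V v ≫ g) g := pullback.lift e₁ d₁ hw
  have hm1 : m ≫ pullback.fst _ _ = e₁ := pullback.lift_fst _ _ _
  have hm2 : m ≫ pullback.snd _ _ = d₁ := pullback.lift_snd _ _ _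
  have hmono : Mono m := by
    refine ⟨fun {Z} a b hab => ?_⟩
    have h1 : a ≫ e₁ = b ≫ e₁ := by rw [← hm1, reassoc_of% hab]
    have h2 : a ≫ d₁ = b ≫ d₁ := by rw [← hm2, reassoc_of% hab]
    apply (yon S).map_injective
    apply sq₁.hom_ext
    · rw [← Functor.map_comp, ← Functor.map_comp, h2]
    · rw [← Functor.map_comp, ← Functor.map_comp, h1]
  have hmono' : Mono m.left := inferInstanceAs (Mono ((Over.forget S).map m))
  have sqPl := sqP.map (Over.forget S)
  have hfst : Etale (pullback.fst (resPt V v ≫ g) g).left :=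
    MorphismProperty.of_isPullback (P := @Etale) sqPl.flip hge
  have : IsAffine V.left := hV
  have hgq : QuasiCompact g.left := by
    have : IsAffine (Over.mk str).left := inferInstanceAs (IsAffine (Spec (CommRingCat.of k)))
    infer_instance
  have hfstq : QuasiCompact (pullback.fst (resPt V v ≫ g) g).left :=
    MorphismProperty.of_isPullback (P := @QuasiCompact) sqPl.flip hgq
  have : CompactSpace ↥(Over.mk (V.left.fromSpecResidueField v ≫ V.hom)).left :=
    inferInstanceAs (CompactSpace ↥(Spec (V.left.residueField v)))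
  have : CompactSpace ↥(pullback (resPt V v ≫ g) g).left :=
    QuasiCompact.compactSpace_of_compactSpace (pullback.fst (resPt V v ≫ g) g).left
  have hPfin : Finite ↥(pullback (resPt V v ≫ g) g).left := by
    have : Etale (show (pullback (resPt V v ≫ g) g).left ⟶
        Spec (CommRingCat.of (V.left.residueField v)) from
        (pullback.fst (resPt V v ≫ g) g).left) := hfst
    exact finite_of_etale_of_compactSpace (show (pullback (resPt V v ≫ g) g).left ⟶
        Spec (CommRingCat.of (V.left.residueField v)) from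
        (pullback.fst (resPt V v ≫ g) g).left)
  have hT₁ : Finite ↥T₁.left := Finite.of_injective _ m.left.injective
  obtain ⟨p, hp, hpm⟩ := exists_mono_point_of_finite_chart_pullback hE ψ hψ v e₁ d₁ sq₁.flip
  have hpz : Points.mk p = z := hp.trans hv
  refine ⟨p, hpz, hpm, ?_⟩
  refine repWith_quasiCompact_of_mono_of_finite_fibres hE p ?_
  intro A ψ' hA hψ'
  have := hfinA A ψ' hA hψ'
  exact Set.toFinite _

/-- An algebraic space etale over a decent one is decent. -/
theorem isDecent_of_isEtaleMor {X Y : Sp S} (hX : IsAlgSpace X) (hY : IsAlgSpace Y) (f : X ⟶ Y)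
    (hf : IsEtaleMor f) (hYd : IsDecent Y) : IsDecent X := by
  intro x
  obtain ⟨r, hr, hm, hq⟩ := hYd (Points.map f x)
  have sq := IsPullback.of_hasPullback f r.toHom
  have hE : IsAlgSpace (pullback f r.toHom) :=
    isAlgSpace_of_isPullback' hY hX (IsAlgSpace.yon_obj _) sq
  have he₂ : IsEtaleMor (pullback.snd f r.toHom) :=
    Groth.Agent.Lib.Helper3.isEtaleMor_of_isPullback hX hY (IsAlgSpace.yon_obj _) hE _ _ _ _ sq hf
  have hEd : IsDecent (pullback f r.toHom) :=
    isDecent_of_isEtaleMor_to_field hE r.str (pullback.snd f r.toHom) he₂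
  obtain ⟨z, hz⟩ := exists_points_of_isPullback_toHom f x r hr _ _ sq
  have : Mono (pullback.fst f r.toHom) := sq.mono_fst_of_mono
  have hqc : RepWith @QuasiCompact (pullback.fst f r.toHom) :=
    (RepWith @QuasiCompact).of_isPullback sq.flip hq
  obtain ⟨p, hp, hpm, hpq⟩ := exists_good_rep_map (pullback.fst f r.toHom) hqc z (hEd z)
  exact ⟨p, hp.trans hz, hpm, hpq⟩

end Groth.Agent.Lib.Helper3.DecMono
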