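import Groth.Agent.Lib.Helper3.EtSrcLocal5
import Groth.Agent.Lib.Helper3.EtSrcLocalFlat
import Mathlib.AlgebraicGeometry.Morphisms.FlatMono
import Mathlib.AlgebraicGeometry.Morphisms.FormallyUnramified

set_option autoImplicit false
universe u
open CategoryTheory CategoryTheory.Limits AlgebraicGeometry MorphismProperty

namespace Groth.Agent.Lib.Helper3

/-- Being formally unramified (for morphisms locally of finite type) is etale local on the
source. -/
theorem formallyUnramified_of_etale_surjective_comp {U' U V : Scheme.{u}} (π : U' ⟶ U)
    (g : U ⟶ V) [Etale π] [Surjective π] (h1 : LocallyOfFiniteType (π ≫ g))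
    (h2 : FormallyUnramified (π ≫ g)) : FormallyUnramified g := by
  have sq := pullback_map_diagonal_isPullback π π g
  set j := pullback.map π π (π ≫ g) (π ≫ g) (𝟙 U') (𝟙 U') g (Category.id_comp _).symm
    (Category.id_comp _).symm with hj
  set ρ := pullback.map (π ≫ g) (π ≫ g) g g π π (𝟙 V) (Category.comp_id _) (Category.comp_id _)
    with hρ
  have hmono : Mono j :=
    MorphismProperty.of_isPullback (P := MorphismProperty.monomorphisms Scheme.{u}) sq
      (inferInstanceAs (Mono (pullback.diagonal g)))
  have hjfst : j ≫ pullback.fst (π ≫ g) (π ≫ g) = pullback.fst π π := by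
    rw [hj, pullback.lift_fst, Category.comp_id]
  have hjet : Etale j := by
    have : Etale (j ≫ pullback.fst (π ≫ g) (π ≫ g)) := by rw [hjfst]; infer_instance
    exact MorphismProperty.of_postcomp (W := @Etale)
      (W' := @LocallyOfFiniteType ⊓ @FormallyUnramified) j (pullback.fst (π ≫ g) (π ≫ g))
      ⟨inferInstance, MorphismProperty.pullback_fst (P := @FormallyUnramified) _ _ h2⟩ this
  have hjopen : IsOpenImmersion j := IsOpenImmersion.of_flat_of_mono j
  have hρet : Etale ρ :=
    MorphismProperty.pullbackMap (P := @Etale) (inferInstanceAs (Etale π))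
      (inferInstanceAs (Etale π)) rfl rfl
  have hρsurj : Surjective ρ :=
    MorphismProperty.pullbackMap (P := @Surjective) (inferInstanceAs (Surjective π))
      (inferInstanceAs (Surjective π)) rfl rfl
  have hdiag : IsOpenImmersion (pullback.diagonal g) :=
    of_isPullback_of_descendsAlong (P := @IsOpenImmersion)
      (Q := @Surjective ⊓ @Flat ⊓ @LocallyOfFinitePresentation) sq.flip
      ⟨⟨hρsurj, inferInstance⟩, inferInstance⟩ hjopen
  infer_instance

/-- Being unramified (locally of finite type and formally unramified) is etale local on the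
source. -/
theorem unramified_of_etale_surjective_comp {U' U V : Scheme.{u}} (π : U' ⟶ U)
    (g : U ⟶ V) [Etale π] [Surjective π]
    (h : (@LocallyOfFiniteType ⊓ @FormallyUnramified : MorphismProperty Scheme.{u}) (π ≫ g)) :
    (@LocallyOfFiniteType ⊓ @FormallyUnramified : MorphismProperty Scheme.{u}) g :=
  ⟨locallyOfFiniteType_of_etale_surjective_comp π g h.1,
    formallyUnramified_of_etale_surjective_comp π g h.1 h.2⟩

/-- Being etale is etale local on the source. -/
theorem etale_of_etale_surjective_comp {U' U V : Scheme.{u}} (π : U' ⟶ U)
    (g : U ⟶ V) [Etale π] [Surjective π] (h : Etale (π ≫ g)) : Etale g := by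
  rw [Etale.iff_flat_and_formallyUnramified]
  exact ⟨flat_of_flat_surjective_comp π g inferInstance,
    formallyUnramified_of_etale_surjective_comp π g inferInstance inferInstance,
    locallyOfFinitePresentation_of_etale_surjective_comp π g inferInstance⟩

end Groth.Agent.Lib.Helper3
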