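import Groth.Agent.Lib.Helper3.DecMonoEt
import Groth.Agent.Lib.Helper3.EtSrcLocalUnram

set_option autoImplicit false
universe u
open CategoryTheory CategoryTheory.Limits AlgebraicGeometry Opposite MorphismProperty

namespace Groth.Agent.Lib.Helper3.DecMono

open Groth.Agent.Lib.Helper3 AlgSp

variable {S : Scheme.{u}}

/-- Let `f : X ⟶ Y` be etale and quasi-compact, `p` a monomorphism from a scheme to `X`, and `q'`
a morphism from the spectrum of a field to `Y`. Then the fibre product of `q'` and `p ≫ f` is a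
finite scheme etale over the field. -/
theorem etale_and_finite_of_isPullback_mono_etale_qc {X Y : Sp S} (hX : IsAlgSpace X)
    (hY : IsAlgSpace Y) (f : X ⟶ Y) (hfe : IsEtaleMor f) (hfq : IsQuasiCompactMor f)
    {P : Over S} (p : (yon S).obj P ⟶ X) [Mono p] {K' : Type u} [Field K']
    (str' : Spec (CommRingCat.of K') ⟶ S) (q' : (yon S).obj (Over.mk str') ⟶ Y) {T : Over S}
    (c₁ : T ⟶ Over.mk str') (c₂ : T ⟶ P)
    (sq : IsPullback ((yon S).map c₁) ((yon S).map c₂) q' (p ≫ f)) :
    Etale c₁.left ∧ Finite ↥T.left := by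
  -- the fibre of `f` over the field point
  have sqE := IsPullback.of_hasPullback q' f
  have hE : IsAlgSpace (pullback q' f) :=
    isAlgSpace_of_isPullback' hY (IsAlgSpace.yon_obj _) hX sqE
  have he₁ : IsEtaleMor (pullback.fst q' f) :=
    Groth.Agent.Lib.Helper3.isEtaleMor_of_isPullback hX hY (IsAlgSpace.yon_obj _) hE _ _ _ _
      sqE.flip hfe
  have he₁q : IsQuasiCompactMor (pullback.fst q' f) := isQuasiCompactMor_of_isPullback sqE.flip hfq
  have hEq : IsQuasiCompactSp (pullback q' f) := by
    have : CompactSpace ↥(Over.mk str').left :=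
      inferInstanceAs (CompactSpace ↥(Spec (CommRingCat.of K')))
    exact he₁q (IsAlgSpace.yon_obj _) (isQuasiCompactSp_yon this) (𝟙 _) (𝟙 _) _
      IsPullback.of_id_fst
  obtain ⟨V, ψ, hψe, hψs, hVa⟩ := exists_affine_chart_of_isQuasiCompactSp hEq
  obtain ⟨g, hg⟩ := (yon S).map_surjective (ψ ≫ pullback.fst q' f)
  have hge : Etale g.left := (repWith_yon_map_iff _ g).1 (hg ▸ he₁ ψ hψe)
  have hVa' : IsAffine V.left := hVa
  have hVfin : Finite ↥V.left := by
    have : Etale (show V.left ⟶ Spec (CommRingCat.of K') from g.left) := hge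
    exact finite_of_etale_field_of_isAffine (show V.left ⟶ Spec (CommRingCat.of K') from g.left)
  -- the map from `T` to the fibre
  have hw : (yon S).map c₁ ≫ q' = ((yon S).map c₂ ≫ p) ≫ f := by rw [sq.w, Category.assoc]
  let m₀ : (yon S).obj T ⟶ pullback q' f := pullback.lift _ _ hw
  have hm1 : m₀ ≫ pullback.fst q' f = (yon S).map c₁ := pullback.lift_fst _ _ _
  have hm2 : m₀ ≫ pullback.snd q' f = (yon S).map c₂ ≫ p := pullback.lift_snd _ _ _
  have sqM : IsPullback m₀ ((yon S).map c₂) (pullback.snd q' f) p := by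
    refine IsPullback.of_right ?_ hm2 sqE
    rw [hm1]
    exact sq
  have hm₀ : Mono m₀ := sqM.mono_fst_of_mono
  obtain ⟨TV, a, b, sqV⟩ := exists_pullback_charts ψ hψe.1 m₀
  have hb : Etale b.left := hψe.2 m₀ ((yon S).map a) b sqV
  have hbs : Surjective b.left := hψs.2 m₀ ((yon S).map a) b sqV
  have ham : Mono ((yon S).map a) := sqV.mono_fst_of_mono
  have ham' : Mono a := (yon S).mono_of_mono_map ham
  have hal : Mono a.left := inferInstanceAs (Mono ((Over.forget S).map a))
  have haopen : IsOpenImmersion a.left :=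
    isOpenImmersion_of_mono_of_etale_field (k := K') g.left a.left
  have hcomm : b ≫ c₁ = a ≫ g := by
    apply (yon S).map_injective
    rw [Functor.map_comp, Functor.map_comp, hg, ← hm1, ← Category.assoc, ← sqV.w, Category.assoc]
  have hcomp : Etale (b.left ≫ c₁.left) := by
    rw [← Over.comp_left, hcomm, Over.comp_left]
    infer_instance
  refine ⟨etale_of_etale_surjective_comp b.left c₁.left hcomp, ?_⟩
  have hTV : Finite ↥TV.left := Finite.of_injective _ a.left.injective
  exact Finite.of_surjective _ hbs.surj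

/-- Monomorphic representatives of points descend along quasi-compact etale morphisms. -/
theorem exists_mono_point_map_of_etale_qc {X Y : Sp S} (hX : IsAlgSpace X) (hY : IsAlgSpace Y)
    (f : X ⟶ Y) (hfe : IsEtaleMor f) (hfq : IsQuasiCompactMor f) (p : FieldPt X)
    [Mono p.toHom] :
    ∃ r : FieldPt Y, Points.mk r = Points.map f (Points.mk p) ∧ Mono r.toHom := by
  let q := p.toHom ≫ f
  obtain ⟨T, c₁, c₂, sq⟩ := exists_pullback_charts q (hY.representable_from_yon q) q
  obtain ⟨h₁, hT⟩ := etale_and_finite_of_isPullback_mono_etale_qc hX hY f hfe hfq p.toHom p.str q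
    c₁ c₂ sq
  obtain ⟨h₂, -⟩ := etale_and_finite_of_isPullback_mono_etale_qc hX hY f hfe hfq p.toHom p.str q
    c₂ c₁ sq.flip
  obtain ⟨t, -, -⟩ := exists_of_ofPt_eq_of_isPullback sq (IsLocalRing.closedPoint p.K)
    (IsLocalRing.closedPoint p.K) rfl
  obtain ⟨k', _, str', p', hmono, hmk⟩ :=
    exists_mono_point_of_finite_etale_pullback p.str p.str q q c₁ c₂ sq h₁ h₂ t
  refine ⟨fieldPtOfHom k' str' p', ?_, ?_⟩
  · rw [hmk, Points.map_mk]
    have e1 : p.map f = fieldPtOfHom _ _ (p.map f).toHom := fieldPt_eq_ofHom _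
    rw [e1, FieldPt.toHom_map]
    rfl
  · rw [toHom_fieldPtOfHom]
    exact hmono

end Groth.Agent.Lib.Helper3.DecMono
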