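import Groth.Agent.Lib.Helper3.DecMonoOpen
import Groth.Agent.Lib.Helper3.AlgSpChartPts

set_option autoImplicit false
universe u
open CategoryTheory CategoryTheory.Limits AlgebraicGeometry Opposite MorphismProperty

namespace Groth.Agent.Lib.Helper3.DecMono

open Groth.Agent.Lib.Helper3 AlgSp

variable {S : Scheme.{u}}

/-- The first projection of the fibre product of a field-valued point with a morphism factoring
through an etale chart by a monomorphism is etale. -/
theorem etale_fst_of_isPullback_mono_chart {X : Sp S} {K₁ : Type u} [Field K₁]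
    (str₁ : Spec (CommRingCat.of K₁) ⟶ S) (q₁ : (yon S).obj (Over.mk str₁) ⟶ X) {U P₂ : Over S}
    (φ : (yon S).obj U ⟶ X) (hφ : RepWith @Etale φ) (a₂ : P₂ ⟶ U) [Mono a₂] {T : Over S}
    (c₁ : T ⟶ Over.mk str₁) (c₂ : T ⟶ P₂)
    (sq : IsPullback ((yon S).map c₁) ((yon S).map c₂) q₁ ((yon S).map a₂ ≫ φ)) :
    Etale c₁.left := by
  obtain ⟨T₁, d₁, e₁, sq₁⟩ := exists_pullback_charts φ hφ.1 q₁
  have he₁ : Etale e₁.left := hφ.2 q₁ ((yon S).map d₁) e₁ sq₁
  have hw : (yon S).map c₁ ≫ q₁ = ((yon S).map c₂ ≫ (yon S).map a₂) ≫ φ := by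
    rw [sq.w, Category.assoc]
  obtain ⟨m, hm⟩ := (yon S).map_surjective (sq₁.flip.lift _ _ hw)
  have hm1 : (yon S).map m ≫ (yon S).map e₁ = (yon S).map c₁ := by
    rw [hm]; exact sq₁.flip.lift_fst _ _ _
  have hm2 : (yon S).map m ≫ (yon S).map d₁ = (yon S).map c₂ ≫ (yon S).map a₂ := by
    rw [hm]; exact sq₁.flip.lift_snd _ _ _
  have sqM : IsPullback ((yon S).map m) ((yon S).map c₂) ((yon S).map d₁) ((yon S).map a₂) := by
    refine IsPullback.of_right ?_ hm2 sq₁.flip
    rw [hm1]
    exact sq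
  have sqO : IsPullback m c₂ d₁ a₂ := by
    refine IsPullback.of_map (yon S) ?_ sqM
    apply (yon S).map_injective
    rw [Functor.map_comp, Functor.map_comp]
    exact hm2
  have hmono : Mono m := sqO.mono_fst_of_mono
  have hmono' : Mono m.left := inferInstanceAs (Mono ((Over.forget S).map m))
  have hopen : IsOpenImmersion m.left :=
    isOpenImmersion_of_mono_of_etale_field (k := K₁) e₁.left m.left
  have hc : c₁ = m ≫ e₁ := by
    apply (yon S).map_injective
    rw [Functor.map_comp]
    exact hm1.symm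
  rw [hc, Over.comp_left]
  infer_instance

/-- The fibre product over `X` of two monomorphic points of a chart injects into the fibre of
the relation over the pair of points. -/
theorem finite_of_isPullback_mono_points {X : Sp S} {U : Over S} (φ : (yon S).obj U ⟶ X)
    {P₁ P₂ T R : Over S} (a₁ : P₁ ⟶ U) [Mono a₁] (a₂ : P₂ ⟶ U) [Mono a₂] (c₁ : T ⟶ P₁)
    (c₂ : T ⟶ P₂)
    (sq : IsPullback ((yon S).map c₁) ((yon S).map c₂) ((yon S).map a₁ ≫ φ) ((yon S).map a₂ ≫ φ))
    (s t : R ⟶ U) (sqR : IsPullback ((yon S).map t) ((yon S).map s) φ φ) (u₁ u₂ : ↥U.left)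
    (h₁ : ∀ x, a₁.left x = u₁) (h₂ : ∀ x, a₂.left x = u₂)
    (hfin : {r : ↥R.left | s.left r = u₂ ∧ t.left r = u₁}.Finite) : Finite ↥T.left := by
  have hw : ((yon S).map c₁ ≫ (yon S).map a₁) ≫ φ = ((yon S).map c₂ ≫ (yon S).map a₂) ≫ φ := by
    rw [Category.assoc, Category.assoc]; exact sq.w
  obtain ⟨n, hn⟩ := (yon S).map_surjective (sqR.lift _ _ hw)
  have hn1 : n ≫ t = c₁ ≫ a₁ := by
    apply (yon S).map_injective
    rw [Functor.map_comp, Functor.map_comp, hn]; exact sqR.lift_fst _ _ _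
  have hn2 : n ≫ s = c₂ ≫ a₂ := by
    apply (yon S).map_injective
    rw [Functor.map_comp, Functor.map_comp, hn]; exact sqR.lift_snd _ _ _
  have hmono : Mono n := by
    refine ⟨fun {Z} g h hgh => ?_⟩
    have e1 : g ≫ c₁ = h ≫ c₁ := by
      rw [← cancel_mono a₁, Category.assoc, Category.assoc, ← hn1, reassoc_of% hgh]
    have e2 : g ≫ c₂ = h ≫ c₂ := by
      rw [← cancel_mono a₂, Category.assoc, Category.assoc, ← hn2, reassoc_of% hgh]
    apply (yon S).map_injective
    apply sq.hom_ext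
    · rw [← Functor.map_comp, ← Functor.map_comp, e1]
    · rw [← Functor.map_comp, ← Functor.map_comp, e2]
  have hmono' : Mono n.left := inferInstanceAs (Mono ((Over.forget S).map n))
  have hinj : Function.Injective n.left := n.left.injective
  have hmem : ∀ x : ↥T.left, n.left x ∈ {r : ↥R.left | s.left r = u₂ ∧ t.left r = u₁} := by
    intro x
    constructor
    · change (n.left ≫ s.left) x = u₂
      rw [← Over.comp_left, hn2, Over.comp_left, Scheme.Hom.comp_apply]
      exact h₂ _
    · change (n.left ≫ t.left) x = u₁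
      rw [← Over.comp_left, hn1, Over.comp_left, Scheme.Hom.comp_apply]
      exact h₁ _
  have := hfin.to_subtype
  refine Finite.of_injective (fun x : ↥T.left => (⟨n.left x, hmem x⟩ :
    {r : ↥R.left | s.left r = u₂ ∧ t.left r = u₁})) ?_
  intro x y hxy
  exact hinj (congrArg Subtype.val hxy)

end Groth.Agent.Lib.Helper3.DecMono
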