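import Groth.Agent.Lib.Helper3.DecMonoFib
import Groth.Agent.Lib.Helper3.AlgSpLocAffineBc

set_option autoImplicit false
universe u
open CategoryTheory CategoryTheory.Limits AlgebraicGeometry Opposite MorphismProperty

namespace Groth.Agent.Lib.Helper3.DecMono

open Groth.Agent.Lib.Helper3 AlgSp

variable {S : Scheme.{u}}

/-- A morphism from a scheme to an algebraic space is quasi-compact as soon as its base changes
to all affine etale charts have quasi-compact source. -/
theorem repWith_quasiCompact_of_forall_affine_etale {X : Sp S} (hX : IsAlgSpace X) {P : Over S}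
    (q : (yon S).obj P ⟶ X)
    (H : ∀ (A : Over S) (ψ : (yon S).obj A ⟶ X), IsAffine A.left → RepWith @Etale ψ →
      ∀ (T : Over S) (c : (yon S).obj T ⟶ (yon S).obj P) (snd : T ⟶ A),
        IsPullback c ((yon S).map snd) q ψ → CompactSpace ↥T.left) :
    RepWith @QuasiCompact q := by
  obtain ⟨U₀, φ₀, hφe, hφs⟩ := hX.atlas
  obtain ⟨T₀, d, e, sq⟩ := exists_pullback_charts φ₀ hφe.1 q
  have hdq : QuasiCompact d.left := by
    rw [quasiCompact_iff_forall_isAffineOpen]
    intro A hA
    have hsq := isPullback_morphismRestrict d.left A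
    obtain ⟨fst'', sq''⟩ := exists_univ_square' sq.flip _ _ _ hsq
    have hc := H (Over.mk (A.ι ≫ U₀.hom)) (chartRestrict φ₀ A) hA (chartRestrict_etale φ₀ hφe A)
      _ fst'' _ sq''
    exact isCompact_iff_compactSpace.2 hc
  have hdq' : IsQuasiCompactMor ((yon S).map d) :=
    isQuasiCompactMor_of_repWith_quasiCompact _ ((repWith_yon_map_iff _ d).2 hdq)
  have hφE : IsEtaleMor φ₀ := fun V ψ hψ => (RepWith @Etale).comp_mem _ _ hψ hφe
  have h3 : IsQuasiCompactMor q :=
    isQuasiCompactMor_of_univOpen_surjective_base_change (IsAlgSpace.yon_obj _) hX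
      (IsAlgSpace.yon_obj _) sq.flip (isUnivOpenMor_of_isEtaleMor (IsAlgSpace.yon_obj _) hφE)
      (isSurjectiveMor_of_repWith hφs) hdq'
  exact repWith_quasiCompact_of_isQuasiCompactMor _ (hX.representable_from_yon _) h3

end Groth.Agent.Lib.Helper3.DecMono
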