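import Groth.Agent.Lib.Helper3.DecMonoCore
import Groth.Agent.Lib.Helper3.AlgSpEtPoint

set_option autoImplicit false
universe u
open CategoryTheory CategoryTheory.Limits AlgebraicGeometry Opposite MorphismProperty

namespace Groth.Agent.Lib.Helper3.DecMono

open Groth.Agent.Lib.Helper3 AlgSp

variable {S : Scheme.{u}}

/-- The morphism over `S` from the spectrum of the residue field at a point. -/
noncomputable abbrev resPt (U : Over S) (v : ↥U.left) :
    Over.mk (U.left.fromSpecResidueField v ≫ U.hom) ⟶ U :=
  Over.homMk (U.left.fromSpecResidueField v) rfl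

instance (U : Over S) (v : ↥U.left) : Mono (resPt U v) := Over.mono_of_mono_left _

theorem resPt_left_apply (U : Over S) (v : ↥U.left) (x) : (resPt U v).left x = v :=
  Scheme.fromSpecResidueField_apply _ _

/-- **Main tool**: if the fibre of the relation over a pair of points of an etale chart lying
over the same point `x` is finite, then `x` is represented by a monomorphism. -/
theorem exists_mono_point_of_finite_relation_fibre {X : Sp S} (hX : IsAlgSpace X) {U : Over S}
    (φ : (yon S).obj U ⟶ X) (hφ : RepWith @Etale φ) (u u' : ↥U.left)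
    (he : Points.ofPt φ u = Points.ofPt φ u') {R : Over S} (s t : R ⟶ U)
    (sqR : IsPullback ((yon S).map t) ((yon S).map s) φ φ)
    (hfin : {r : ↥R.left | s.left r = u ∧ t.left r = u'}.Finite) :
    ∃ p : FieldPt X, Points.mk p = Points.ofPt φ u ∧ Mono p.toHom := by
  let q₁ := (yon S).map (resPt U u') ≫ φ
  let q₂ := (yon S).map (resPt U u) ≫ φ
  obtain ⟨T, c₁, c₂, sq⟩ := exists_pullback_charts q₁ (hX.representable_from_yon q₁) q₂
  have h₁ : Etale c₁.left :=
    etale_fst_of_isPullback_mono_chart (K₁ := U.left.residueField u') _ q₁ φ hφ (resPt U u) c₁ c₂ sq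
  have h₂ : Etale c₂.left :=
    etale_fst_of_isPullback_mono_chart (K₁ := U.left.residueField u) _ q₂ φ hφ (resPt U u') c₂ c₁
      sq.flip
  have hT : Finite ↥T.left :=
    finite_of_isPullback_mono_points φ (resPt U u') (resPt U u) c₁ c₂ sq s t sqR u' u
      (resPt_left_apply U u') (resPt_left_apply U u) hfin
  obtain ⟨r, -, -⟩ := exists_of_ofPt_eq_of_isPullback sq
    (IsLocalRing.closedPoint (U.left.residueField u'))
    (IsLocalRing.closedPoint (U.left.residueField u)) (by
      rw [Points.ofPt_yon_map_comp, Points.ofPt_yon_map_comp, resPt_left_apply, resPt_left_apply,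
        he])
  obtain ⟨k', _, str', p', hmono, hmk⟩ :=
    exists_mono_point_of_finite_etale_pullback (K₁ := U.left.residueField u')
      (K₂ := U.left.residueField u) _ _ q₁ q₂ c₁ c₂ sq h₁ h₂ r
  refine ⟨fieldPtOfHom k' str' p', ?_, ?_⟩
  · rw [hmk, he]
    have e1 : FieldPt.ofPt φ u' = fieldPtOfHom _ _ (FieldPt.ofPt φ u').toHom :=
      fieldPt_eq_ofHom _
    have e2 : (FieldPt.ofPt φ u').toHom = q₁ := FieldPt.toHom_ofPt φ u'
    change _ = Points.mk (FieldPt.ofPt φ u')
    rw [e1, e2]
    rfl
  · rw [toHom_fieldPtOfHom]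
    exact hmono

end Groth.Agent.Lib.Helper3.DecMono
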