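import Groth.Agent.Lib.Helper3.DecMonoMain
import Groth.Agent.Lib.Helper3.AlgSpUC3
import Groth.Agent.Lib.Helper3.AlgSpIntegralDim

set_option autoImplicit false
universe u
open CategoryTheory CategoryTheory.Limits AlgebraicGeometry Opposite MorphismProperty

namespace Groth.Agent.Lib.Helper3.DecMono

open Groth.Agent.Lib.Helper3 AlgSp

variable {S : Scheme.{u}}

/-- Quasi-compactness of one representative of a point of an algebraic space passes to every
representative. -/
theorem repWith_quasiCompact_of_mk_eq_of_qc {X : Sp S} (hX : IsAlgSpace X) (p q : FieldPt X)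
    (hp : RepWith @QuasiCompact p.toHom) (h : Points.mk q = Points.mk p) :
    RepWith @QuasiCompact q.toHom := by
  have ep : p = fieldPtOfHom p.K p.str p.toHom := fieldPt_eq_ofHom p
  have eq : q = fieldPtOfHom q.K q.str q.toHom := fieldPt_eq_ofHom q
  rw [ep, eq, mk_fieldPtOfHom_eq_iff] at h
  obtain ⟨Ω, _, w, c, d, hcd⟩ := h
  have hc : RepWith @QuasiCompact ((yon S).map c) := by
    rw [repWith_yon_map_iff]; exact quasiCompact_of_field (K := Ω) c.left
  have h1 : RepWith @QuasiCompact ((yon S).map c ≫ q.toHom) := by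
    rw [hcd]
    refine (RepWith @QuasiCompact).comp_mem _ _ ?_ hp
    rw [repWith_yon_map_iff]; exact quasiCompact_of_field (K := Ω) d.left
  have h2 : IsQuasiCompactMor ((yon S).map c ≫ q.toHom) :=
    isQuasiCompactMor_of_repWith_quasiCompact _ h1
  have hcs : IsSurjectiveMor ((yon S).map c) := by
    apply isSurjectiveMor_of_repWith
    rw [repWith_yon_map_iff]
    refine ⟨fun y => ⟨IsLocalRing.closedPoint Ω, ?_⟩⟩
    have : Subsingleton ↥(Over.mk q.str).left :=
      inferInstanceAs (Subsingleton ↥(Spec (CommRingCat.of q.K)))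
    exact Subsingleton.elim _ _
  have h3 : IsQuasiCompactMor q.toHom :=
    isQuasiCompactMor_of_surjective_comp (IsAlgSpace.yon_obj _) hX _ _ hcs h2
  exact repWith_quasiCompact_of_isQuasiCompactMor _ (hX.representable_from_yon _) h3

/-- The fibre product of a morphism `q₁` with a monomorphic point of an etale chart embeds in
the fibre product of `q₁` with the chart. -/
theorem exists_mono_to_chart_pullback {X : Sp S} {P₁ : Over S} (q₁ : (yon S).obj P₁ ⟶ X)
    {U P₂ : Over S} (φ : (yon S).obj U ⟶ X) (a₂ : P₂ ⟶ U) [Mono a₂] {T T₁ : Over S}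
    (c₁ : T ⟶ P₁) (c₂ : T ⟶ P₂)
    (sq : IsPullback ((yon S).map c₁) ((yon S).map c₂) q₁ ((yon S).map a₂ ≫ φ))
    (e₁ : T₁ ⟶ P₁) (d₁ : T₁ ⟶ U) (sq₁ : IsPullback ((yon S).map e₁) ((yon S).map d₁) q₁ φ) :
    ∃ m : T ⟶ T₁, Mono m ∧ m ≫ e₁ = c₁ ∧ m ≫ d₁ = c₂ ≫ a₂ := by
  have hw : (yon S).map c₁ ≫ q₁ = ((yon S).map c₂ ≫ (yon S).map a₂) ≫ φ := by
    rw [sq.w, Category.assoc]
  obtain ⟨m, hm⟩ := (yon S).map_surjective (sq₁.lift _ _ hw)
  have hm1 : (yon S).map m ≫ (yon S).map e₁ = (yon S).map c₁ := by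
    rw [hm]; exact sq₁.lift_fst _ _ _
  have hm2 : (yon S).map m ≫ (yon S).map d₁ = (yon S).map c₂ ≫ (yon S).map a₂ := by
    rw [hm]; exact sq₁.lift_snd _ _ _
  have sqM : IsPullback ((yon S).map m) ((yon S).map c₂) ((yon S).map d₁) ((yon S).map a₂) := by
    refine IsPullback.of_right ?_ hm2 sq₁
    rw [hm1]
    exact sq
  have e2 : m ≫ d₁ = c₂ ≫ a₂ := by
    apply (yon S).map_injective
    rw [Functor.map_comp, Functor.map_comp]
    exact hm2
  have sqO : IsPullback m c₂ d₁ a₂ := IsPullback.of_map (yon S) e2 sqM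
  refine ⟨m, sqO.mono_fst_of_mono, ?_, e2⟩
  apply (yon S).map_injective
  rw [Functor.map_comp]
  exact hm1

/-- If the fibre product of the residue field point at `u` with an etale chart is a finite
scheme, the image of `u` is represented by a monomorphism. -/
theorem exists_mono_point_of_finite_chart_pullback {X : Sp S} (hX : IsAlgSpace X) {U : Over S}
    (φ : (yon S).obj U ⟶ X) (hφ : RepWith @Etale φ) (u : ↥U.left) {T₁ : Over S}
    (e₁ : T₁ ⟶ Over.mk (U.left.fromSpecResidueField u ≫ U.hom)) (d₁ : T₁ ⟶ U)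
    (sq₁ : IsPullback ((yon S).map e₁) ((yon S).map d₁) ((yon S).map (resPt U u) ≫ φ) φ)
    [Finite ↥T₁.left] : ∃ p : FieldPt X, Points.mk p = Points.ofPt φ u ∧ Mono p.toHom := by
  let q := (yon S).map (resPt U u) ≫ φ
  obtain ⟨T, c₁, c₂, sq⟩ := exists_pullback_charts q (hX.representable_from_yon q) q
  have h₁ : Etale c₁.left :=
    etale_fst_of_isPullback_mono_chart (K₁ := U.left.residueField u) _ q φ hφ (resPt U u) c₁ c₂ sq
  have h₂ : Etale c₂.left :=
    etale_fst_of_isPullback_mono_chart (K₁ := U.left.residueField u) _ q φ hφ (resPt U u) c₂ c₁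
      sq.flip
  obtain ⟨m, hm, -, -⟩ := exists_mono_to_chart_pullback q φ (resPt U u) c₁ c₂ sq e₁ d₁ sq₁
  have hm' : Mono m.left := inferInstanceAs (Mono ((Over.forget S).map m))
  have hT : Finite ↥T.left := Finite.of_injective _ m.left.injective
  obtain ⟨r, -, -⟩ := exists_of_ofPt_eq_of_isPullback sq
    (IsLocalRing.closedPoint (U.left.residueField u))
    (IsLocalRing.closedPoint (U.left.residueField u)) rfl
  obtain ⟨k', _, str', p', hmono, hmk⟩ :=
    exists_mono_point_of_finite_etale_pullback (K₁ := U.left.residueField u)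
      (K₂ := U.left.residueField u) _ _ q q c₁ c₂ sq h₁ h₂ r
  refine ⟨fieldPtOfHom k' str' p', ?_, ?_⟩
  · rw [hmk]
    have e1 : FieldPt.ofPt φ u = fieldPtOfHom _ _ (FieldPt.ofPt φ u).toHom :=
      fieldPt_eq_ofHom _
    have e2 : (FieldPt.ofPt φ u).toHom = q := FieldPt.toHom_ofPt φ u
    change _ = Points.mk (FieldPt.ofPt φ u)
    rw [e1, e2]
    rfl
  · rw [toHom_fieldPtOfHom]
    exact hmono

/-- A point of an algebraic space with a quasi-compact representative is represented by a
quasi-compact monomorphism. -/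
theorem exists_qc_mono_point_of_qc {X : Sp S} (hX : IsAlgSpace X) (q : FieldPt X)
    (hq : RepWith @QuasiCompact q.toHom) :
    ∃ p : FieldPt X, Points.mk p = Points.mk q ∧ Mono p.toHom ∧
      RepWith @QuasiCompact p.toHom := by
  obtain ⟨U, φ, u, hU, hφ, hu⟩ := exists_affine_chart_through hX (Points.mk q)
  have hU' : IsAffine U.left := hU
  have hqu : RepWith @QuasiCompact (FieldPt.ofPt φ u).toHom :=
    repWith_quasiCompact_of_mk_eq_of_qc hX q (FieldPt.ofPt φ u) hq hu
  obtain ⟨W, pU, pT, sq⟩ := exists_pullback_charts φ hφ.1 (FieldPt.ofPt φ u).toHom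
  have hpT : Etale pT.left := hφ.2 _ ((yon S).map pU) pT sq
  have hpU : QuasiCompact pU.left := hqu.2 φ ((yon S).map pT) pU sq.flip
  have : CompactSpace ↥W.left := QuasiCompact.compactSpace_of_compactSpace pU.left
  have hfin : Finite ↥W.left := by
    have : Etale (show W.left ⟶ Spec (CommRingCat.of (FieldPt.ofPt φ u).K) from pT.left) := hpT
    exact finite_of_etale_of_compactSpace
      (show W.left ⟶ Spec (CommRingCat.of (FieldPt.ofPt φ u).K) from pT.left)
  have sq₁ := sq.flip
  rw [FieldPt.toHom_ofPt] at sq₁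
  obtain ⟨p, hp, hm⟩ := exists_mono_point_of_finite_chart_pullback hX φ hφ u pT pU sq₁
  have hpq : Points.mk p = Points.mk q := hp.trans hu
  exact ⟨p, hpq, hm, repWith_quasiCompact_of_mk_eq_of_qc hX q p hq hpq⟩

end Groth.Agent.Lib.Helper3.DecMono
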