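import Groth.Agent.Lib.Helper3.DecMonoQC
import Groth.Agent.Lib.Helper3.QSepChart

set_option autoImplicit false
universe u
open CategoryTheory CategoryTheory.Limits AlgebraicGeometry Opposite MorphismProperty

namespace Groth.Agent.Lib.Helper3.DecMono

open Groth.Agent.Lib.Helper3 Groth.Agent.Lib.Helper3.QSepChart AlgSp

variable {S : Scheme.{u}}

/-- Every morphism from the spectrum of a field to an algebraic space quasi-separated over the
base is quasi-compact. -/
theorem repWith_quasiCompact_of_field_of_isQuasiSeparatedSp {X : Sp S} (hX : IsAlgSpace X)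
    (hqs : IsQuasiSeparatedSp X) {K : Type u} [Field K] (str : Spec (CommRingCat.of K) ⟶ S)
    (q : (yon S).obj (Over.mk str) ⟶ X) : RepWith @QuasiCompact q := by
  have hrep : Representable q := hX.representable_from_yon q
  refine repWith_of_affine @QuasiCompact q hrep ?_
  intro T hT ξ
  obtain ⟨P, snd, fst, sq⟩ := hrep ξ
  obtain ⟨fst', rfl⟩ := (yon S).map_surjective fst
  refine ⟨P, snd, _, sq, ?_⟩
  have sqD := isPullback_diag_of_isPullback sq
  rw [prod_lift_yon'] at sqD
  replace sqD := isPullback_shift_iso sqD
  have hqc : QuasiCompact (prod.lift fst' snd).left := hqs.2 _ _ _ sqD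
  have hT' : IsAffine T.left := hT
  have hstr : QuasiCompact (Over.mk str).hom := quasiCompact_of_field (K := K) str
  have h2 : QuasiCompact (pullback.snd (Over.mk str).hom T.hom) :=
    MorphismProperty.pullback_snd (P := @QuasiCompact) _ _ hstr
  have : CompactSpace ↥(pullback (Over.mk str).hom T.hom) :=
    QuasiCompact.compactSpace_of_compactSpace (pullback.snd (Over.mk str).hom T.hom)
  have : CompactSpace ↥(Over.mk str ⨯ T).left :=
    (Over.prodLeftIsoPullback (Over.mk str) T).hom.homeomorph.symm.compactSpace
  have : CompactSpace ↥P.left :=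
    QuasiCompact.compactSpace_of_compactSpace (prod.lift fst' snd).left
  exact (HasAffineProperty.iff_of_isAffine (P := @QuasiCompact)).2 this

/-- An algebraic space quasi-separated over the base is decent. -/
theorem isDecent_of_isQuasiSeparatedSp {X : Sp S} (hX : IsAlgSpace X)
    (hqs : IsQuasiSeparatedSp X) : IsDecent X := by
  intro x
  induction x using Points.ind with
  | h q =>
    have hq : RepWith @QuasiCompact q.toHom :=
      repWith_quasiCompact_of_field_of_isQuasiSeparatedSp hX hqs q.str q.toHom
    exact exists_qc_mono_point_of_qc hX q hq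

end Groth.Agent.Lib.Helper3.DecMono
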