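import Groth.Agent.Lib.Helper3.DecMonoMain
import Groth.Agent.Lib.Helper3.QuotRelMain
import Groth.Agent.Lib.Helper3.QuotRelOpen
import Groth.Agent.Lib.Helper3.AlgSpLocP4
import Groth.Agent.Lib.Helper3.AlgSpIntegralDim

set_option autoImplicit false
universe u
open CategoryTheory CategoryTheory.Limits AlgebraicGeometry Opposite MorphismProperty

namespace Groth.Agent.Lib.Helper3.DecMono

open Groth.Agent.Lib.Helper3 Groth.Agent.Lib.Helper3.QuotRel AlgSp

variable {S : Scheme.{u}}

/-- A kernel pair represented by schemes is an equivalence relation. -/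
theorem isEqvRel_of_kernelPair {X : Sp S} {U R : Over S} (q : (yon S).obj U ⟶ X) (s t : R ⟶ U)
    (kp : IsPullback ((yon S).map t) ((yon S).map s) q q) : IsEqvRel s t := by
  have key : ∀ (T : Over S) (a b : T ⟶ U),
      (∃ r : T ⟶ R, r ≫ t = a ∧ r ≫ s = b) ↔ (yon S).map a ≫ q = (yon S).map b ≫ q := by
    intro T a b
    constructor
    · rintro ⟨r, rfl, rfl⟩
      rw [Functor.map_comp, Functor.map_comp, Category.assoc, Category.assoc, kp.w]
    · intro h
      obtain ⟨r, hr⟩ := (yon S).map_surjective (kp.lift _ _ h)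
      refine ⟨r, ?_, ?_⟩
      · apply (yon S).map_injective
        rw [Functor.map_comp, hr, kp.lift_fst]
      · apply (yon S).map_injective
        rw [Functor.map_comp, hr, kp.lift_snd]
  refine ⟨?_, ?_⟩
  · intro T r r' h1 h2
    apply (yon S).map_injective
    apply kp.hom_ext
    · rw [← Functor.map_comp, ← Functor.map_comp, h1]
    · rw [← Functor.map_comp, ← Functor.map_comp, h2]
  · intro T
    refine ⟨fun a => (key T a a).2 rfl, fun {a b} h => (key T b a).2 ((key T a b).1 h).symm,
      fun {a b c} h1 h2 => (key T a c).2 (((key T a b).1 h1).trans ((key T b c).1 h2))⟩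

/-- Existence of the residual space at a point of an algebraic space. -/
theorem exists_residualSpace {X : Sp S} (hX : IsAlgSpace X) (x : Points X) :
    ∃ (Z : Sp S) (_ : IsAlgSpace Z) (i : Z ⟶ X), Mono i ∧ Set.range (Points.map i) = {x} ∧
      ∃ (k : Type u) (_ : Field k) (str : Spec (CommRingCat.of k) ⟶ S)
        (p : (yon S).obj (Over.mk str) ⟶ Z),
        RepWith @Etale p ∧ RepWith @Surjective p := by
  obtain ⟨U, φ, u, -, hφ, hu⟩ := exists_affine_chart_through hX x
  let q := (yon S).map (resPt U u) ≫ φ
  obtain ⟨T, t, s, sq⟩ := exists_pullback_charts q (hX.representable_from_yon q) q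
  have ht : Etale t.left :=
    etale_fst_of_isPullback_mono_chart (K₁ := U.left.residueField u) _ q φ hφ (resPt U u) t s sq
  have hs : Etale s.left :=
    etale_fst_of_isPullback_mono_chart (K₁ := U.left.residueField u) _ q φ hφ (resPt U u) s t
      sq.flip
  have hrel : IsEtaleEqvRel s t := ⟨isEqvRel_of_kernelPair q s t sq, hs, ht⟩
  obtain ⟨hpres, hZ⟩ := isPresentation_and_isAlgSpace s t hrel
  obtain ⟨i, hi⟩ := exists_desc_quotMap s t q sq.w.symm
  have hπ : Sheaf.IsLocallySurjective (quotMap s t) :=
    (Sheaf.isLocallySurjective_iff_epi _).2 inferInstance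
  have hmono : Mono i := by
    refine mono_of_kernelPair (quotMap s t) hπ i ((yon S).map t) ((yon S).map s) ?_
      (quotMap_coeq s t).symm
    rw [hi]
    exact sq
  refine ⟨_, hZ, i, hmono, ?_, U.left.residueField u, inferInstance, _, quotMap s t,
    hpres.etale, hpres.surjective⟩
  have hsurj : Function.Surjective (Points.map (quotMap s t)) :=
    surjective_map_of_repWith hpres.surjective
  ext y
  constructor
  · rintro ⟨z, rfl⟩
    obtain ⟨w, rfl⟩ := hsurj z
    obtain ⟨v, rfl⟩ := (Points.schemeEquiv _).surjective w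
    change Points.map i (Points.map (quotMap s t) (Points.ofPt (𝟙 _) v)) = x
    rw [← Points.map_comp, hi, Points.map_ofPt, Category.id_comp, Points.ofPt_yon_map_comp,
      resPt_left_apply, hu]
  · rintro rfl
    refine ⟨Points.map (quotMap s t) (Points.ofPt (𝟙 _)
      (IsLocalRing.closedPoint (U.left.residueField u))), ?_⟩
    rw [← Points.map_comp, hi, Points.map_ofPt, Category.id_comp, Points.ofPt_yon_map_comp,
      resPt_left_apply, hu]

end Groth.Agent.Lib.Helper3.DecMono
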