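import Groth.Statements.S18487
import Groth.Agent.S0086
import Groth.Agent.Lib.Helper9.Tors1
import Groth.Agent.Lib.Helper13.CodimOne
set_option autoImplicit false
universe u
open CategoryTheory CategoryTheory.Limits AlgebraicGeometry MonObj

namespace Groth.Agent.Lib.Helper3.DedekindSec

/-- stalks of `Spec R`, `R` Dedekind, are valuation rings -/
theorem valuationRing_stalk (R : Type u) [CommRing R] [IsDedekindDomain R]
    (y : Spec (CommRingCat.of R)) :
    ∃ _ : IsDomain ((Spec (CommRingCat.of R)).presheaf.stalk y),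
      ValuationRing ((Spec (CommRingCat.of R)).presheaf.stalk y) := by
  have hdom : IsDomain ((Spec (CommRingCat.of R)).presheaf.stalk y) := inferInstance
  refine ⟨hdom, ?_⟩
  letI : Algebra R ((Spec (CommRingCat.of R)).presheaf.stalk y) :=
    StructureSheaf.stalkAlgebra R y
  have hloc : IsLocalization.AtPrime ((Spec (CommRingCat.of R)).presheaf.stalk y) y.asIdeal :=
    StructureSheaf.IsLocalization.to_stalk R y
  by_cases hy : y.asIdeal = ⊥
  · have hmax : IsLocalRing.maximalIdeal ((Spec (CommRingCat.of R)).presheaf.stalk y) = ⊥ := by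
      rw [← IsLocalization.AtPrime.map_eq_maximalIdeal y.asIdeal, hy, Ideal.map_bot]
    have hf : IsField ((Spec (CommRingCat.of R)).presheaf.stalk y) :=
      IsLocalRing.isField_iff_maximalIdeal_eq.mpr hmax
    letI := hf.toField
    exact ValuationRing.of_field _
  · have : IsDiscreteValuationRing ((Spec (CommRingCat.of R)).presheaf.stalk y) :=
      IsLocalization.AtPrime.isDiscreteValuationRing_of_dedekind_domain R hy _
    infer_instance

end Groth.Agent.Lib.Helper3.DedekindSec

namespace Groth.Agent.Lib.Helper3.DedekindSec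

/-- a `K`-point of a locally finite type `R`-scheme spreads out to a nonempty open of `Spec R` -/
theorem exists_section_open_of_genPt (R : Type u) [CommRing R] [IsDomain R] [IsNoetherianRing R]
    {X : Scheme.{u}} (f : X ⟶ Spec (CommRingCat.of R)) [LocallyOfFiniteType f]
    (s : Spec (CommRingCat.of (FractionRing R)) ⟶ X) (hs : s ≫ f = Neron.genPt R) :
    ∃ (V : (Spec (CommRingCat.of R)).Opens) (_ : (V : Set (Spec (CommRingCat.of R))).Nonempty)
      (g : (V : Scheme.{u}) ⟶ X), g ≫ f = V.ι := by
  -- the generic point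
  let y : Spec (CommRingCat.of R) := ⟨⊥, Ideal.isPrime_bot⟩
  letI : Algebra R ((Spec (CommRingCat.of R)).presheaf.stalk y) :=
    StructureSheaf.stalkAlgebra R y
  have hloc : IsLocalization.AtPrime ((Spec (CommRingCat.of R)).presheaf.stalk y) y.asIdeal :=
    StructureSheaf.IsLocalization.to_stalk R y
  have hunits : ∀ r : nonZeroDivisors R,
      IsUnit (algebraMap R ((Spec (CommRingCat.of R)).presheaf.stalk y) r) := by
    intro r
    have hr : (r : R) ∈ y.asIdeal.primeCompl := by
      change (r : R) ∉ (⊥ : Ideal R)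
      rw [Ideal.mem_bot]
      exact nonZeroDivisors.ne_zero r.2
    exact IsLocalization.map_units ((Spec (CommRingCat.of R)).presheaf.stalk y)
      (⟨r, hr⟩ : y.asIdeal.primeCompl)
  let ψ : FractionRing R →+* (Spec (CommRingCat.of R)).presheaf.stalk y :=
    IsLocalization.lift (M := nonZeroDivisors R) hunits
  have hψ : ψ.comp (algebraMap R (FractionRing R)) =
      algebraMap R ((Spec (CommRingCat.of R)).presheaf.stalk y) :=
    IsLocalization.lift_comp hunits
  let φ : Spec ((Spec (CommRingCat.of R)).presheaf.stalk y) ⟶ X :=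
    Spec.map (CommRingCat.ofHom ψ) ≫ s
  have hφ : φ ≫ f = (Spec (CommRingCat.of R)).fromSpecStalk y ≫ 𝟙 _ := by
    rw [Category.comp_id, Category.assoc, hs, Spec.fromSpecStalk_eq', ← Spec.map_comp]
    congr 1
    ext r
    exact congrArg (fun h => h r) hψ
  obtain ⟨U, hyU, g, -, hg⟩ := spread_out_of_isGermInjective' (𝟙 _) f φ hφ
  exact ⟨U, ⟨y, hyU⟩, g, by rw [hg, Category.comp_id]⟩

end Groth.Agent.Lib.Helper3.DedekindSec

namespace Groth.Agent.Lib.Helper3.DedekindSec

open Groth.Agent.Lib.Helper13.CodimOne in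
/-- a `K`-point of a proper `R`-scheme, `R` Dedekind, extends to an `R`-point -/
theorem exists_section_of_genPt (R : Type u) [CommRing R] [IsDedekindDomain R]
    {X : Scheme.{u}} (f : X ⟶ Spec (CommRingCat.of R)) [IsProper f]
    (s : Spec (CommRingCat.of (FractionRing R)) ⟶ X) (hs : s ≫ f = Neron.genPt R) :
    ∃ t : Spec (CommRingCat.of R) ⟶ X, t ≫ f = 𝟙 _ := by
  obtain ⟨V, hVne, g, hg⟩ := exists_section_open_of_genPt R f s hs
  have hVd : Dense (V : Set (Spec (CommRingCat.of R))) := V.2.dense hVne
  obtain ⟨U, hVU, s', hs', -, hall⟩ := exists_extension f f.isClosedMap V hVd g hg Set.univ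
    (fun y _ => valuationRing_stalk R y)
  have hU : U = ⊤ := by
    ext y
    simp [hall y (Set.mem_univ y)]
  subst hU
  refine ⟨(Scheme.topIso _).inv ≫ s', ?_⟩
  rw [Category.assoc, hs']
  exact (Scheme.topIso _).inv_hom_id

end Groth.Agent.Lib.Helper3.DedekindSec

namespace Groth.Agent.Lib.Helper3.DedekindSec

theorem main (R : Type u) [CommRing R] [IsDedekindDomain R]
    (G : Over (Spec (CommRingCat.of R))) [GrpObj G] [IsProper G.hom] [Flat G.hom]
    (P : NonAbH1.TorsorSch G Scheme.fppfPrecoverage) (h : NonAbH1.HasSectionOver P.X (Neron.genPt R)) :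
    NonAbH1.HasSectionOver P.X (𝟙 (Spec (CommRingCat.of R))) := by
  have := Groth.Agent.S0086.result.{u}
  have hT : NonAbH1.IsTorsorFor Scheme.fpqcPrecoverage P.act := by
    obtain ⟨h1, Rr, hR, h2⟩ := P.isTorsor
    exact ⟨h1, Rr, Scheme.fppfPrecoverage_le_fpqcPrecoverage _ hR, h2⟩
  have hprop : IsProper P.X.hom :=
    Groth.Agent.Lib.Helper9.Tors.prop_hom_of_isTorsorFor_fpqc (P := @IsProper) P.act hT
      inferInstance
  obtain ⟨s, hs⟩ := h
  exact exists_section_of_genPt R P.X.hom s hs

end Groth.Agent.Lib.Helper3.DedekindSec
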