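import Groth.Agent.Lib.Helper3.DegTower6

set_option autoImplicit false
universe u

namespace Groth.Agent.Lib.Helper3.DegTower

open CategoryTheory CategoryTheory.Limits AlgebraicGeometry

/-- **Uniform bound** on the number of field valued points over a point with finite fibre. -/
theorem exists_bound_F {A B : Scheme.{u}} (g : A ⟶ B) [Etale g] [IsAffine B] (b : ↥B)
    (hfib : (g ⁻¹' {b}).Finite) :
    ∃ N : ℕ, ∀ (Ω : Type u) [Field Ω] (β : Spec (.of Ω) ⟶ B),
      β (IsLocalRing.closedPoint Ω) = b →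
      {p : Spec (.of Ω) ⟶ A | p ≫ g = β}.encard ≤ N := by
  obtain ⟨A', hA'c, hsub⟩ := exists_compact_open_of_finite _ hfib
  have hcs : CompactSpace ↥A' := isCompact_iff_compactSpace.mp hA'c
  let g' : A'.toScheme ⟶ B := A'.ι ≫ g
  have hqc : QuasiCompact g' := (HasAffineProperty.iff_of_isAffine (P := @QuasiCompact)).2 hcs
  have hg'e : Etale g' := inferInstance
  have hlqf : LocallyQuasiFinite g' := Groth.Agent.Lib.Helper3.locallyQuasiFinite_of_etale g'
  let Φ : Scheme.{u} := g'.fiber b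
  let φ : Φ ⟶ Spec (B.residueField b) := g'.fiberToSpecResidueField b
  have hφf : IsFinite φ := inferInstance
  have hΦa : IsAffine Φ := isAffine_of_isAffineHom φ
  let κ : CommRingCat.{u} := B.residueField b
  let E : CommRingCat.{u} := Γ(Φ, ⊤)
  let α : κ ⟶ E := (Scheme.ΓSpecIso κ).inv ≫ φ.appTop
  have hαf : α.hom.Finite := by
    have h1 : φ.appTop.hom.Finite := ((HasAffineProperty.iff_of_isAffine (P := @IsFinite)).1 hφf).2
    have h2 : (Scheme.ΓSpecIso κ).inv.hom.Finite :=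
      RingHom.Finite.of_surjective _
        (ConcreteCategory.bijective_of_isIso (Scheme.ΓSpecIso κ).inv).2
    exact h1.comp h2
  letI : Algebra ↑κ ↑E := α.hom.toAlgebra
  have hmf : Module.Finite ↑κ ↑E := hαf
  refine ⟨Module.finrank ↑κ ↑E, ?_⟩
  intro Ω _ β hb
  subst hb
  let ι : κ ⟶ CommRingCat.of Ω := B.descResidueField (Scheme.stalkClosedPointTo β)
  have hβ : Spec.map ι ≫ B.fromSpecResidueField _ = β :=
    Scheme.descResidueField_stalkClosedPointTo_fromSpecResidueField Ω B β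
  letI : Algebra ↑κ Ω := ι.hom.toAlgebra
  have hr : ∀ p : Spec (.of Ω) ⟶ A, p ≫ g = β → Set.range p ⊆ Set.range A'.ι := by
    rintro p hp _ ⟨t, rfl⟩
    rw [Scheme.Opens.range_ι]
    apply hsub
    change g (p t) = β (IsLocalRing.closedPoint Ω)
    rw [← Scheme.Hom.comp_apply, hp, Subsingleton.elim t (IsLocalRing.closedPoint Ω)]
  have hσ : ∀ p : {p : Spec (.of Ω) ⟶ A | p ≫ g = β}, ∃ σ : Spec (.of Ω) ⟶ Φ,
      σ ≫ φ = Spec.map ι ∧ σ ≫ pullback.fst g' (B.fromSpecResidueField _) ≫ A'.ι = p.1 := by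
    intro p
    have hw : IsOpenImmersion.lift A'.ι p.1 (hr p.1 p.2) ≫ g' =
        Spec.map ι ≫ B.fromSpecResidueField _ := by
      change IsOpenImmersion.lift A'.ι p.1 (hr p.1 p.2) ≫ A'.ι ≫ g = _
      rw [IsOpenImmersion.lift_fac_assoc, hβ]
      exact p.2
    refine ⟨pullback.lift (IsOpenImmersion.lift A'.ι p.1 (hr p.1 p.2)) (Spec.map ι) hw,
      pullback.lift_snd _ _ _, ?_⟩
    exact (Category.assoc _ _ _).symm.trans ((congrArg (· ≫ A'.ι) (pullback.lift_fst _ _ _)).trans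
      (IsOpenImmersion.lift_fac _ _ _))
  choose σ hσφ hσp using hσ
  let ρ : ∀ p : {p : Spec (.of Ω) ⟶ A | p ≫ g = β}, ↑E →ₐ[↑κ] Ω := fun p =>
    { toRingHom := ((σ p).appTop ≫ (Scheme.ΓSpecIso (CommRingCat.of Ω)).hom).hom
      commutes' := by
        intro c
        have h1 : α ≫ (σ p).appTop ≫ (Scheme.ΓSpecIso (CommRingCat.of Ω)).hom = ι := by
          change ((Scheme.ΓSpecIso κ).inv ≫ φ.appTop) ≫ (σ p).appTop ≫ _ = ι
          rw [Category.assoc, ← Category.assoc φ.appTop, ← Scheme.Hom.comp_appTop, hσφ p,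
            Scheme.ΓSpecIso_naturality, Iso.inv_hom_id_assoc]
        exact congrArg (fun k : κ ⟶ CommRingCat.of Ω => k.hom c) h1 }
  have hinj : Function.Injective ρ := by
    intro p q hpq
    have h1 : ((σ p).appTop ≫ (Scheme.ΓSpecIso (CommRingCat.of Ω)).hom).hom =
        ((σ q).appTop ≫ (Scheme.ΓSpecIso (CommRingCat.of Ω)).hom).hom :=
      congrArg (fun k : ↑E →ₐ[↑κ] Ω => k.toRingHom) hpq
    have h2 : (σ p).appTop ≫ (Scheme.ΓSpecIso (CommRingCat.of Ω)).hom =
        (σ q).appTop ≫ (Scheme.ΓSpecIso (CommRingCat.of Ω)).hom := CommRingCat.hom_ext h1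
    have h3 : (σ p).appTop = (σ q).appTop := (cancel_mono _).1 h2
    have h4 : σ p = σ q := ext_of_isAffine h3
    apply Subtype.ext
    rw [← hσp p, ← hσp q, h4]
  have hfinAlg : Finite (↑E →ₐ[↑κ] Ω) := inferInstance
  have hfinF : Finite ↥{p : Spec (.of Ω) ⟶ A | p ≫ g = β} := Finite.of_injective ρ hinj
  have h5 : Nat.card ↥{p : Spec (.of Ω) ⟶ A | p ≫ g = β} ≤ Module.finrank ↑κ ↑E :=
    (Nat.card_le_card_of_injective ρ hinj).trans (card_algHom_le_finrank ↑κ ↑E Ω)
  change ENat.card ↥{p : Spec (.of Ω) ⟶ A | p ≫ g = β} ≤ _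
  rw [ENat.card_eq_coe_natCard]
  exact_mod_cast h5

end Groth.Agent.Lib.Helper3.DegTower
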