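import Groth.Agent.Lib.Helper3.DegBound1

set_option autoImplicit false
universe u

namespace Groth.Agent.Lib.Helper3.DegTower

open CategoryTheory CategoryTheory.Limits AlgebraicGeometry

/-- One step of the converse counting. -/
theorem encard_fibre_step (H : ES.{u}) (a : ↥H.A) (m : ℕ)
    (h : ((m : ℕ∞) + 1) ≤ (H.g ⁻¹' {H.g a}).encard) :
    (m : ℕ∞) ≤ ((step H).g ⁻¹' {a}).encard := by
  have ha : a ∈ H.g ⁻¹' {H.g a} := rfl
  have h1 : (m : ℕ∞) ≤ ((H.g ⁻¹' {H.g a}) \ {a}).encard := by
    have := Set.encard_diff_singleton_add_one ha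
    rw [← this] at h
    exact (ENat.add_le_add_iff_right ENat.one_ne_top).1 h
  refine h1.trans ?_
  have hex : ∀ a' : ↥((H.g ⁻¹' {H.g a}) \ {a}), ∃ z : ↥(pullback H.g H.g),
      pullback.fst H.g H.g z = a ∧ pullback.snd H.g H.g z = a'.1 :=
    fun a' => Scheme.Pullback.exists_preimage_pullback a a'.1 a'.2.1.symm
  choose z hz1 hz2 using hex
  have hzoff : ∀ a', z a' ∈ offDiag H.g := by
    rintro a' ⟨c, hc⟩
    have e1 : pullback.fst H.g H.g (z a') = c := by
      rw [← hc, ← Scheme.Hom.comp_apply, pullback.diagonal_fst]; rfl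
    have e2 : pullback.snd H.g H.g (z a') = c := by
      rw [← hc, ← Scheme.Hom.comp_apply, pullback.diagonal_snd]; rfl
    apply a'.2.2
    change a'.1 = a
    rw [← hz2 a', ← hz1 a', e1, e2]
  let ψ : ↥((H.g ⁻¹' {H.g a}) \ {a}) → ↥((step H).g ⁻¹' {a}) := fun a' =>
    ⟨(⟨z a', hzoff a'⟩ : ↥(offDiag H.g)), hz1 a'⟩
  have hψ : Function.Injective ψ := by
    intro a₁ a₂ h12
    have : z a₁ = z a₂ := congrArg (fun w : ↥((step H).g ⁻¹' {a}) =>
      (((show ↥(offDiag H.g) from w.1) : ↥(offDiag H.g)) : ↥(pullback H.g H.g))) h12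
    apply Subtype.ext
    rw [← hz2 a₁, ← hz2 a₂, this]
  exact ENat.card_le_card_of_injective hψ

instance etale_proj (G : ES.{u}) : ∀ k, Etale (proj G k)
  | 0 => inferInstanceAs (Etale (𝟙 G.B))
  | k + 1 => by
    have := etale_proj G k
    exact inferInstanceAs (Etale ((tower G k).g ≫ proj G k))

/-- **Converse counting.** If the fibre over `b` has at least `k` points, the `k`-th level of the
tower has a point over `b`. -/
theorem exists_point_tower (G : ES.{u}) (k : ℕ) (b : ↥G.B)
    (h : (k : ℕ∞) ≤ (G.g ⁻¹' {b}).encard) : ∃ z : ↥(tower G k).B, proj G k z = b := by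
  have key : ∀ j : ℕ, j ≤ k → ∃ z : ↥(tower G j).B, proj G j z = b ∧
      (((k - j : ℕ) : ℕ∞)) ≤ ((tower G j).g ⁻¹' {z}).encard := by
    intro j
    induction j with
    | zero =>
      intro _
      refine ⟨b, rfl, ?_⟩
      have : ((k - 0 : ℕ) : ℕ∞) ≤ (G.g ⁻¹' {b}).encard := by simpa using h
      exact this
    | succ j ih =>
      intro hj
      obtain ⟨z, hzb, hz⟩ := ih (by omega)
      have hpos : (1 : ℕ∞) ≤ ((tower G j).g ⁻¹' {z}).encard := by
        refine le_trans ?_ hz
        have : 1 ≤ k - j := by omega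
        exact_mod_cast this
      obtain ⟨z', hz'⟩ := Set.one_le_encard_iff_nonempty.1 hpos
      have hz'z : (tower G j).g z' = z := hz'
      refine ⟨z', ?_, ?_⟩
      · change ((tower G j).g ≫ proj G j) z' = b
        rw [Scheme.Hom.comp_apply, hz'z, hzb]
      · have h2 : (((k - (j + 1) : ℕ) : ℕ∞) + 1) ≤
            ((tower G j).g ⁻¹' {(tower G j).g z'}).encard := by
          rw [hz'z]
          refine le_trans ?_ hz
          have : k - (j + 1) + 1 = k - j := by omega
          exact_mod_cast this.le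
        exact encard_fibre_step (tower G j) z' (k - (j + 1)) h2
  obtain ⟨z, hz, -⟩ := key k le_rfl
  exact ⟨z, hz⟩

end Groth.Agent.Lib.Helper3.DegTower
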