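import Groth.Agent.Lib.Helper3.AlgSpPoints
import Groth.Agent.Lib.Helper3.AlgSpEtPoint
import Groth.Agent.Lib.Helper3.Rep0418A
import Groth.Agent.Lib.Helper15.BddFibSp
import Groth.Prelude.Def_W4decUnivBdd
import Groth.Prelude.Def_AlgSpMor5
import Groth.Prelude.Def_AlgSpSub

set_option autoImplicit false
universe u
open CategoryTheory CategoryTheory.Limits AlgebraicGeometry Opposite
open AlgSp

namespace Groth.Agent.Lib.Helper3.DegStrat

set_option backward.isDefEq.respectTransparency false

variable {S : Scheme.{u}} {X : Sp S} {W : Over S}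

/-- `r` is the degree of the fibre of `w` over the morphism `a : h_B ⟶ X`. -/
def FibDeg (w : (yon S).obj W ⟶ X) {B : Over S} (a : (yon S).obj B ⟶ X) (r : ℕ) : Prop :=
  ∃ (T : Over S) (c : T ⟶ B) (snd : (yon S).obj T ⟶ (yon S).obj W),
    IsPullback ((yon S).map c) snd a w ∧ Mor2.IsFinLocFreeOfDeg r c.left

/-- Base change of the fibre degree. -/
theorem FibDeg.baseChange {w : (yon S).obj W ⟶ X} {B B' : Over S} {a : (yon S).obj B ⟶ X} {r : ℕ}
    (h : FibDeg w a r) (d : B' ⟶ B) : FibDeg w ((yon S).map d ≫ a) r := by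
  obtain ⟨T, c, snd, sq, hc⟩ := h
  refine ⟨pullback c d, pullback.snd c d, (yon S).map (pullback.fst c d) ≫ snd, ?_, ?_⟩
  · exact ((IsPullback.of_hasPullback c d).flip.map (yon S)).paste_vert sq
  · have sq' : IsPullback (pullback.fst c d).left (pullback.snd c d).left c.left d.left :=
      (IsPullback.of_hasPullback c d).map (Over.forget S)
    exact (finLocFreeOfDeg_isStableUnderBaseChange r).of_isPullback sq' hc

/-- Two represented pullbacks have the same rank function. -/
theorem finrank_eq_of_isPullback {w : (yon S).obj W ⟶ X} {B : Over S} {a : (yon S).obj B ⟶ X}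
    {T T' : Over S} (c : T ⟶ B) (c' : T' ⟶ B) (snd : (yon S).obj T ⟶ (yon S).obj W)
    (snd' : (yon S).obj T' ⟶ (yon S).obj W)
    (sq : IsPullback ((yon S).map c) snd a w) (sq' : IsPullback ((yon S).map c') snd' a w)
    [Flat c'.left] [IsFinite c'.left] (b : ↥B.left) :
    c.left.finrank b = c'.left.finrank b := by
  let e := sq.isoIsPullback _ _ sq'
  have he : e.hom ≫ (yon S).map c' = (yon S).map c := sq.isoIsPullback_hom_fst _ _ sq'
  let ε : T ≅ T' := (yon S).preimageIso e
  have hε : ε.hom ≫ c' = c := by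
    apply (yon S).map_injective
    rw [Functor.map_comp]
    change (yon S).map ((yon S).preimage e.hom) ≫ _ = _
    rw [Functor.map_preimage, he]
  have hl : ε.hom.left ≫ c'.left = c.left := by rw [← Over.comp_left, hε]
  haveI : IsIso ε.hom.left := inferInstanceAs (IsIso ((Over.forget S).map ε.hom))
  rw [← hl, Scheme.Hom.finrank_comp_left_of_isIso]

theorem FibDeg.unique {w : (yon S).obj W ⟶ X} {B : Over S} [Nonempty ↥B.left]
    {a : (yon S).obj B ⟶ X} {r r' : ℕ}
    (h : FibDeg w a r) (h' : FibDeg w a r') : r = r' := by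
  obtain ⟨T, c, snd, sq, hc⟩ := h
  obtain ⟨T', c', snd', sq', hc'⟩ := h'
  obtain ⟨b⟩ := ‹Nonempty ↥B.left›
  haveI : Flat c'.left := hc'.1.2.1
  haveI : IsFinite c'.left := hc'.1.1
  rw [← hc.2 b, ← hc'.2 b]
  exact finrank_eq_of_isPullback c c' snd snd' sq sq' b

end Groth.Agent.Lib.Helper3.DegStrat
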