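import Groth.Agent.Lib.Helper3.DegStratA

set_option autoImplicit false
universe u
open CategoryTheory CategoryTheory.Limits AlgebraicGeometry Opposite
open AlgSp

namespace Groth.Agent.Lib.Helper3.DegStrat

set_option backward.isDefEq.respectTransparency false

variable {S : Scheme.{u}} {X : Sp S} {W : Over S}

theorem isFinLocFreeOfDeg_of_isPullback {P P' A Y Z : Scheme.{u}} {fst : P ⟶ A} {snd : P ⟶ Y}
    {fst' : P' ⟶ A} {snd' : P' ⟶ Y} {f : A ⟶ Z} {g : Y ⟶ Z} (h : IsPullback fst snd f g)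
    (h' : IsPullback fst' snd' f g) (r : ℕ) (hr : Mor2.IsFinLocFreeOfDeg r snd) :
    Mor2.IsFinLocFreeOfDeg r snd' := by
  let e := h'.isoIsPullback _ _ h
  have he : e.hom ≫ snd = snd' := h'.isoIsPullback_hom_snd _ _ h
  have sq : IsPullback e.hom snd' snd (𝟙 Y) :=
    IsPullback.of_horiz_isIso ⟨by rw [he, Category.comp_id]⟩
  exact (finLocFreeOfDeg_isStableUnderBaseChange r).of_isPullback sq hr

/-- Every represented pullback of `w` over a field is finite locally free of some degree `≤ n`. -/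
theorem exists_isFinLocFreeOfDeg {w : (yon S).obj W ⟶ X} (n : ℕ) (hb : W4dec.DegFibresLE n w)
    (hfl : RepWith @Flat w) (hfp : RepWith @LocallyOfFinitePresentation w)
    {K : Type u} [Field K] (str : Spec (.of K) ⟶ S) (a : (yon S).obj (Over.mk str) ⟶ X)
    {T : Over S} (c : T ⟶ Over.mk str) (snd : (yon S).obj T ⟶ (yon S).obj W)
    (sq : IsPullback ((yon S).map c) snd a w) :
    ∃ r ≤ n, Mor2.IsFinLocFreeOfDeg r c.left := by
  obtain ⟨hfin, hle⟩ := hb (fieldPtOfHom K str a) T c snd (by rw [toHom_fieldPtOfHom]; exact sq)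
  have hflat : Flat c.left := hfl.2 a snd c sq.flip
  have hlfp : LocallyOfFinitePresentation c.left := hfp.2 a snd c sq.flip
  refine ⟨c.left.finrank (IsLocalRing.closedPoint K), hle _, ⟨hfin, hflat, hlfp⟩, fun y => ?_⟩
  congr 1
  exact @Subsingleton.elim ↥(Spec (CommRingCat.of K)) inferInstance _ _

/-- `r` is the degree of the fibre of `w` at the point `x`. -/
def DegAt (w : (yon S).obj W ⟶ X) (x : Points X) (r : ℕ) : Prop :=
  ∃ (K : Type u) (_ : Field K) (str : Spec (.of K) ⟶ S) (a : (yon S).obj (Over.mk str) ⟶ X),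
    x = Points.mk (fieldPtOfHom K str a) ∧ FibDeg w a r

theorem DegAt.unique {w : (yon S).obj W ⟶ X} {x : Points X} {r r' : ℕ} (h : DegAt w x r)
    (h' : DegAt w x r') : r = r' := by
  obtain ⟨K, _, str, a, rfl, ha⟩ := h
  obtain ⟨K', _, str', a', hx, ha'⟩ := h'
  rw [mk_fieldPtOfHom_eq_iff] at hx
  obtain ⟨Ω, _, wΩ, c, d, hcd⟩ := hx
  have h1 := ha.baseChange c
  have h2 := ha'.baseChange d
  rw [hcd] at h1
  haveI : Nonempty ↥(Over.mk wΩ).left := ⟨IsLocalRing.closedPoint Ω⟩
  exact h1.unique h2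

theorem exists_degAt {w : (yon S).obj W ⟶ X} (n : ℕ) (hb : W4dec.DegFibresLE n w)
    (hfl : RepWith @Flat w) (hfp : RepWith @LocallyOfFinitePresentation w) (x : Points X) :
    ∃ r ≤ n, DegAt w x r := by
  obtain ⟨K, _, str, a, rfl⟩ := Points.exists_hom x
  have hrep : Representable w := hfl.1
  obtain ⟨r, hr, h⟩ := exists_isFinLocFreeOfDeg n hb hfl hfp str a (hrep.snd a) (hrep.fst a)
    (hrep.isPullback a).flip
  exact ⟨r, hr, K, inferInstance, str, a, rfl, _, _, _, (hrep.isPullback a).flip, h⟩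

open Classical in
/-- The degree function on the points of `X`. -/
noncomputable def deg (w : (yon S).obj W ⟶ X) (x : Points X) : ℕ :=
  if h : ∃ r, DegAt w x r then h.choose else 0

theorem deg_eq_of_degAt {w : (yon S).obj W ⟶ X} {x : Points X} {r : ℕ} (h : DegAt w x r) :
    deg w x = r := by
  have hex : ∃ r, DegAt w x r := ⟨r, h⟩
  unfold deg
  rw [dif_pos hex]
  exact hex.choose_spec.unique h

theorem degAt_deg {w : (yon S).obj W ⟶ X} (n : ℕ) (hb : W4dec.DegFibresLE n w)
    (hfl : RepWith @Flat w) (hfp : RepWith @LocallyOfFinitePresentation w) (x : Points X) :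
    DegAt w x (deg w x) ∧ deg w x ≤ n := by
  obtain ⟨r, hr, h⟩ := exists_degAt n hb hfl hfp x
  rw [deg_eq_of_degAt h]
  exact ⟨h, hr⟩

end Groth.Agent.Lib.Helper3.DegStrat
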