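import Groth.Agent.Lib.Helper3.DegStratB
import Groth.Agent.S1447

set_option autoImplicit false
universe u
open CategoryTheory CategoryTheory.Limits AlgebraicGeometry Opposite
open AlgSp

namespace Groth.Agent.Lib.Helper3.DegStrat

set_option backward.isDefEq.respectTransparency false

variable {S : Scheme.{u}} {X : Sp S} {W : Over S}

section chart

variable {Y V : Over S} (p : V ⟶ Y) {B : Scheme.{u}} (g : B ⟶ Y.left)

/-- The base change of a chart pullback to a scheme over the chart, as an object over `S`. -/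
noncomputable def chartT : Over S := Over.mk (pullback.snd p.left g ≫ g ≫ Y.hom)

noncomputable def chartC : chartT p g ⟶ Over.mk (g ≫ Y.hom) := Over.homMk (pullback.snd p.left g) rfl

noncomputable def chartQ : chartT p g ⟶ V := Over.homMk (pullback.fst p.left g) (by
  change pullback.fst p.left g ≫ V.hom = pullback.snd p.left g ≫ g ≫ Y.hom
  rw [← Over.w p, ← Category.assoc, pullback.condition, Category.assoc])

theorem isPullback_chart_over : IsPullback (chartQ p g) (chartC p g) p
    (Over.homMk g rfl : Over.mk (g ≫ Y.hom) ⟶ Y) := by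
  refine IsPullback.of_map (Over.forget S) ?_ ?_
  · ext; exact pullback.condition
  · exact IsPullback.of_hasPullback p.left g

theorem isPullback_chart {w : (yon S).obj W ⟶ X} (h : (yon S).obj Y ⟶ X)
    (fst : (yon S).obj V ⟶ (yon S).obj W) (sq : IsPullback fst ((yon S).map p) w h) :
    IsPullback ((yon S).map (chartC p g)) ((yon S).map (chartQ p g) ≫ fst)
      ((yon S).map (Over.homMk g rfl : Over.mk (g ≫ Y.hom) ⟶ Y) ≫ h) w :=
  ((isPullback_chart_over p g).flip.map (yon S)).paste_vert sq.flip

end chart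

/-- The scheme-level degree function on a chart agrees with `deg`. -/
theorem exists_degFun {w : (yon S).obj W ⟶ X} (n : ℕ) (hb : W4dec.DegFibresLE n w)
    (hfl : RepWith @Flat w) (hfp : RepWith @LocallyOfFinitePresentation w)
    (hsep : RepWith @IsSeparated w) (hqf : RepWith @LocallyQuasiFinite w)
    {Y V : Over S} (h : (yon S).obj Y ⟶ X) (p : V ⟶ Y) (fst : (yon S).obj V ⟶ (yon S).obj W)
    (sq : IsPullback fst ((yon S).map p) w h) :
    ∃ d : ↥Y.left → ℕ, (∀ r : ℕ, IsClosed {y | d y ≤ r}) ∧
      (∀ (T : Scheme.{u}) (g : T ⟶ Y.left) (r : ℕ),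
        Mor2.IsFinLocFreeOfDeg r (pullback.snd p.left g) ↔ ∀ t : T, d (g t) = r) ∧
      ∀ y, d y = deg w (Points.ofPt h y) := by
  haveI : Flat p.left := hfl.2 h fst p sq
  haveI : LocallyOfFinitePresentation p.left := hfp.2 h fst p sq
  haveI : IsSeparated p.left := hsep.2 h fst p sq
  haveI : LocallyQuasiFinite p.left := hqf.2 h fst p sq
  have hn : ∀ (K : Type u) [Field K] (g : Spec (CommRingCat.of K) ⟶ Y.left),
      (letI := ((Scheme.ΓSpecIso (CommRingCat.of K)).inv ≫ (pullback.snd p.left g).appTop).hom.toAlgebra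
      Module.rank K (Γ(pullback p.left g, ⊤) : Type u)) ≤ (n : Cardinal.{u}) := by
    intro K _ g
    obtain ⟨r, hr, hfin⟩ := exists_isFinLocFreeOfDeg n hb hfl hfp (g ≫ Y.hom) _ (chartC p g) _
      (isPullback_chart p g h fst sq)
    have h1 : BddFib.FiniteOfDegLE (CommRingCat.of K) (pullback.snd p.left g) n := by
      rw [Groth.Agent.Lib.Helper15.BddFibSp.finiteOfDegLE_iff]
      refine ⟨hfin.1.1, fun s => ?_⟩
      have := hfin.2 s
      change (pullback.snd p.left g).finrank s = r at this
      rw [this]; exact hr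
    obtain ⟨-, h2, h3⟩ := h1
    letI := BddFib.secAlgebra (CommRingCat.of K) (pullback.snd p.left g)
    change Module.rank K (Γ(pullback p.left g, ⊤) : Type u) ≤ (n : Cardinal.{u})
    haveI : Module.Finite K (Γ(pullback p.left g, ⊤) : Type u) := h2
    rw [← Module.finrank_eq_rank]
    exact_mod_cast h3
  obtain ⟨d, -, hcl, hd⟩ := Groth.Agent.S1447.result p.left n hn
  refine ⟨d, hcl, hd, fun y => ?_⟩
  have h1 : Mor2.IsFinLocFreeOfDeg (d y) (pullback.snd p.left (Y.left.fromSpecResidueField y)) := by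
    rw [hd]
    intro t
    rw [Scheme.fromSpecResidueField_apply]
  symm
  apply deg_eq_of_degAt
  refine ⟨↥(Y.left.residueField y), inferInstance, Y.left.fromSpecResidueField y ≫ Y.hom, _,
    Rep0418.ofPt_eq_mk h y, ?_⟩
  exact ⟨_, chartC p (Y.left.fromSpecResidueField y), _,
    isPullback_chart p (Y.left.fromSpecResidueField y) h fst sq, h1⟩

theorem isClosed_setOf_deg_le {w : (yon S).obj W ⟶ X} (n : ℕ) (hb : W4dec.DegFibresLE n w)
    (hfl : RepWith @Flat w) (hfp : RepWith @LocallyOfFinitePresentation w)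
    (hsep : RepWith @IsSeparated w) (hqf : RepWith @LocallyQuasiFinite w) (r : ℕ) :
    IsClosed {x : Points X | deg w x ≤ r} := by
  rw [← isOpen_compl_iff, Points.isOpen_iff]
  intro Y h
  have hrep : Representable w := hfl.1
  obtain ⟨d, hcl, -, hd⟩ := exists_degFun n hb hfl hfp hsep hqf h (hrep.snd h) (hrep.fst h)
    (hrep.isPullback h)
  have : Points.ofPt h ⁻¹' {x : Points X | deg w x ≤ r}ᶜ = {y | d y ≤ r}ᶜ := by
    ext y
    change ¬ (deg w (Points.ofPt h y) ≤ r) ↔ ¬ (d y ≤ r)
    rw [hd]
  rw [this]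
  exact (hcl r).isOpen_compl

end Groth.Agent.Lib.Helper3.DegStrat
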