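import Groth.Agent.Lib.Helper3.DegStratC
import Groth.Agent.S10192

set_option autoImplicit false
universe u
open CategoryTheory CategoryTheory.Limits AlgebraicGeometry Opposite
open AlgSp

namespace Groth.Agent.Lib.Helper3.DegStrat

set_option backward.isDefEq.respectTransparency false

variable {S : Scheme.{u}}

/-- The degree of the fibre at the image of a point of a base change which is finite locally
free of degree `r` is `r`. -/
theorem deg_eq_of_isFinLocFreeOfDegMor {X T P : Sp S} {W : Over S} {w : (yon S).obj W ⟶ X}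
    (g : T ⟶ X) (fst : P ⟶ (yon S).obj W) (snd : P ⟶ T) (sq : IsPullback fst snd w g) (r : ℕ)
    (hsnd : IsFinLocFreeOfDegMor r snd) (t : Points T) : deg w (Points.map g t) = r := by
  obtain ⟨K, _, str, a, rfl⟩ := Points.exists_hom t
  have hrep : Representable snd := hsnd.1
  have sq' := hrep.isPullback a
  have hc : Mor2.IsFinLocFreeOfDeg r (hrep.snd a).left := hsnd.2 a (hrep.fst a) (hrep.snd a) sq'
  rw [Points.map_mk_fieldPtOfHom]
  apply deg_eq_of_degAt
  exact ⟨K, inferInstance, str, a ≫ g, rfl, _, hrep.snd a, hrep.fst a ≫ fst,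
    sq'.flip.paste_vert sq.flip, hc⟩

theorem isFinLocFreeOfDegMor_of_deg_eq {X T P : Sp S} {W : Over S} {w : (yon S).obj W ⟶ X}
    (n : ℕ) (hb : W4dec.DegFibresLE n w)
    (hfl : RepWith @Flat w) (hfp : RepWith @LocallyOfFinitePresentation w)
    (hsep : RepWith @IsSeparated w) (hqf : RepWith @LocallyQuasiFinite w)
    (g : T ⟶ X) (fst : P ⟶ (yon S).obj W) (snd : P ⟶ T) (sq : IsPullback fst snd w g) (r : ℕ)
    (hdeg : ∀ t : Points T, deg w (Points.map g t) = r) : IsFinLocFreeOfDegMor r snd := by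
  refine ⟨MorphismProperty.of_isPullback sq hfl.1, ?_⟩
  intro U V h' fst' p sq'
  have sqp : IsPullback (fst' ≫ fst) ((yon S).map p) w (h' ≫ g) := sq'.paste_horiz sq
  obtain ⟨d, -, hd, hdd⟩ := exists_degFun n hb hfl hfp hsep hqf (h' ≫ g) p (fst' ≫ fst) sqp
  have h1 : Mor2.IsFinLocFreeOfDeg r (pullback.snd p.left (𝟙 U.left)) := by
    rw [hd]
    intro t
    rw [hdd]
    exact hdeg (Points.ofPt h' _)
  exact isFinLocFreeOfDeg_of_isPullback (IsPullback.of_hasPullback p.left (𝟙 U.left))
    IsPullback.of_id_fst r h1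

/-- **S10433.** -/
theorem main10433 (X : AlgSp.Space S) {W : Over S}
    (w : (AlgSp.yon S).obj W ⟶ X.obj) (hfl : AlgSp.RepWith @Flat w) (hfp : AlgSp.RepWith @LocallyOfFinitePresentation w)
    (hsep : AlgSp.RepWith @IsSeparated w) (hqf : AlgSp.RepWith @LocallyQuasiFinite w) (hb : W4dec.HasUnivBddFibres w) :
    ∃ (n : ℕ) (Zs : ℕ → AlgSp.Space S) (i : ∀ r, Zs r ⟶ X),
      (∀ r, AlgSp.IsRedInduced (Set.range (AlgSp.Points.map (i r).hom)) (i r).hom) ∧
      IsEmpty (AlgSp.Points (Zs 0).obj) ∧ Set.range (AlgSp.Points.map (i (n + 1)).hom) = Set.univ ∧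
      (∀ r, Set.range (AlgSp.Points.map (i r).hom) ⊆ Set.range (AlgSp.Points.map (i (r + 1)).hom)) ∧
      ∀ (r : ℕ) (T : AlgSp.Space S) (g : T ⟶ X) (P : AlgSp.Sp S) (fst : P ⟶ (AlgSp.yon S).obj W) (snd : P ⟶ T.obj),
        IsPullback fst snd w g.hom →
          (AlgSp.IsFinLocFreeOfDegMor r snd ↔
            Set.range (AlgSp.Points.map g.hom) ⊆
              Set.range (AlgSp.Points.map (i (r + 1)).hom) \ Set.range (AlgSp.Points.map (i r).hom)) := by
  obtain ⟨n, hb⟩ := hb
  have hZcl : ∀ r : ℕ, IsClosed {x : Points X.obj | deg w x < r} := by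
    intro r
    cases r with
    | zero =>
      have : {x : Points X.obj | deg w x < 0} = ∅ := by
        ext x; simp
      rw [this]; exact isClosed_empty
    | succ r =>
      have : {x : Points X.obj | deg w x < r + 1} = {x | deg w x ≤ r} := by
        ext x; exact Nat.lt_succ_iff
      rw [this]
      exact isClosed_setOf_deg_le n hb hfl hfp hsep hqf r
  choose Zs i hi using fun r => Groth.Agent.S10192.result X _ (hZcl r)
  have hrange : ∀ r, Set.range (Points.map (i r).hom) = {x | deg w x < r} := fun r => (hi r).2.1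
  refine ⟨n, Zs, i, ?_, ?_, ?_, ?_, ?_⟩
  · intro r
    rw [hrange r]
    exact hi r
  · constructor
    intro z
    have hz : Points.map (i 0).hom z ∈ Set.range (Points.map (i 0).hom) := ⟨z, rfl⟩
    rw [hrange 0] at hz
    exact absurd hz (Nat.not_lt_zero _)
  · rw [hrange]
    ext x
    simp only [Set.mem_univ, iff_true]
    exact Nat.lt_succ_of_le (degAt_deg n hb hfl hfp x).2
  · intro r
    rw [hrange, hrange]
    intro x hx
    exact Nat.lt_succ_of_lt hx
  · intro r T g P fst snd sq
    rw [hrange, hrange]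
    constructor
    · intro hsnd
      rintro _ ⟨t, rfl⟩
      have := deg_eq_of_isFinLocFreeOfDegMor g.hom fst snd sq r hsnd t
      refine ⟨?_, ?_⟩
      · change deg w _ < r + 1
        omega
      · change ¬ (deg w _ < r)
        omega
    · intro hsub
      apply isFinLocFreeOfDegMor_of_deg_eq n hb hfl hfp hsep hqf g.hom fst snd sq r
      intro t
      obtain ⟨h1, h2⟩ := hsub ⟨t, rfl⟩
      change deg w _ < r + 1 at h1
      change ¬ (deg w _ < r) at h2
      omega

end Groth.Agent.Lib.Helper3.DegStrat
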