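import Mathlib

set_option autoImplicit false
universe u

namespace Groth.Agent.Lib.Helper3.DegTower

open CategoryTheory CategoryTheory.Limits AlgebraicGeometry

/-- An etale separated morphism of schemes. -/
structure ES where
  A : Scheme.{u}
  B : Scheme.{u}
  g : A ⟶ B
  et : Etale g
  sep : IsSeparated g

attribute [instance] ES.et ES.sep

/-- The complement of the diagonal in `A ×_B A`. -/
noncomputable def offDiag {A B : Scheme.{u}} (g : A ⟶ B) [IsSeparated g] : (pullback g g).Opens :=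
  ⟨(Set.range (pullback.diagonal g))ᶜ,
    (pullback.diagonal g).isClosedEmbedding.isClosed_range.isOpen_compl⟩

theorem mem_offDiag {A B : Scheme.{u}} (g : A ⟶ B) [IsSeparated g] (x : ↥(pullback g g)) :
    x ∈ offDiag g ↔ x ∉ Set.range (pullback.diagonal g) := Iff.rfl

/-- One step of the tower: `(A ×_B A) ∖ Δ ⟶ A`. -/
noncomputable def step (G : ES.{u}) : ES.{u} where
  A := (offDiag G.g).toScheme
  B := G.A
  g := (offDiag G.g).ι ≫ pullback.fst G.g G.g
  et := inferInstance
  sep := inferInstance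

/-- `T`-points of `A` over a `T`-point of `B`. -/
def F (G : ES.{u}) {T : Scheme.{u}} (β : T ⟶ G.B) : Set (T ⟶ G.A) := {p | p ≫ G.g = β}

theorem encard_step (G : ES.{u}) {T : Scheme.{u}} [Nonempty T] (β₁ : T ⟶ G.A) :
    (F (step G) β₁).encard + 1 ≤ (F G (β₁ ≫ G.g)).encard := by
  let φ : (T ⟶ (step G).A) → (T ⟶ G.A) := fun p => p ≫ (offDiag G.g).ι ≫ pullback.snd G.g G.g
  have hfst : ∀ p ∈ F (step G) β₁, p ≫ (offDiag G.g).ι ≫ pullback.fst G.g G.g = β₁ :=
    fun p hp => hp
  have h1 : Set.InjOn φ (F (step G) β₁) := by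
    intro p hp q hq hpq
    have h : p ≫ (offDiag G.g).ι = q ≫ (offDiag G.g).ι := by
      apply pullback.hom_ext
      · rw [Category.assoc, Category.assoc, hfst p hp, hfst q hq]
      · simpa [φ] using hpq
    exact (cancel_mono (offDiag G.g).ι).1 h
  have h2 : φ '' (F (step G) β₁) ⊆ F G (β₁ ≫ G.g) := by
    rintro _ ⟨p, hp, rfl⟩
    change (p ≫ (offDiag G.g).ι ≫ pullback.snd G.g G.g) ≫ G.g = β₁ ≫ G.g
    rw [Category.assoc, Category.assoc, ← pullback.condition, ← hfst p hp]
    simp
  have h3 : β₁ ∉ φ '' (F (step G) β₁) := by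
    rintro ⟨p, hp, hpβ⟩
    have h : p ≫ (offDiag G.g).ι = β₁ ≫ pullback.diagonal G.g := by
      apply pullback.hom_ext
      · rw [Category.assoc, hfst p hp]; simp
      · rw [Category.assoc]
        have : p ≫ (offDiag G.g).ι ≫ pullback.snd G.g G.g = β₁ := hpβ
        rw [this]; simp
    obtain ⟨t⟩ := ‹Nonempty T›
    have hmem : (offDiag G.g).ι (p t) ∈ offDiag G.g := (p t).2
    apply (mem_offDiag G.g _).1 hmem
    refine ⟨β₁ t, ?_⟩
    have e1 : (p ≫ (offDiag G.g).ι) t = (offDiag G.g).ι (p t) := rfl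
    rw [h] at e1
    exact e1
  have h4 : β₁ ∈ F G (β₁ ≫ G.g) := rfl
  calc (F (step G) β₁).encard + 1 = (φ '' (F (step G) β₁)).encard + 1 := by
        rw [h1.encard_image]
    _ = (insert β₁ (φ '' (F (step G) β₁))).encard := (Set.encard_insert_of_notMem h3).symm
    _ ≤ (F G (β₁ ≫ G.g)).encard := Set.encard_le_encard (Set.insert_subset h4 h2)

/-- The tower. -/
noncomputable def tower (G : ES.{u}) : ℕ → ES.{u}
  | 0 => G
  | k + 1 => step (tower G k)

/-- The projection of the tower to the base. -/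
noncomputable def proj (G : ES.{u}) : ∀ k, (tower G k).B ⟶ G.B
  | 0 => 𝟙 _
  | k + 1 => (tower G k).g ≫ proj G k

theorem encard_tower (G : ES.{u}) (k : ℕ) {T : Scheme.{u}} [Nonempty T] (β : T ⟶ (tower G k).B) :
    (F (tower G k) β).encard + k ≤ (F G (β ≫ proj G k)).encard := by
  induction k with
  | zero =>
    have : ∀ β' : T ⟶ G.B, (F G β').encard + ((0 : ℕ) : ℕ∞) ≤ (F G (β' ≫ 𝟙 G.B)).encard := by
      intro β'
      rw [Category.comp_id]
      simp
    exact this β
  | succ k ih =>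
    have h1 := encard_step (tower G k) β
    have h2 := ih (β ≫ (tower G k).g)
    change (F (step (tower G k)) β).encard + ((k : ℕ) + 1 : ℕ) ≤
      (F G (β ≫ (tower G k).g ≫ proj G k)).encard
    rw [Category.assoc] at h2
    calc (F (step (tower G k)) β).encard + ((k + 1 : ℕ) : ℕ∞)
        = ((F (step (tower G k)) β).encard + 1) + k := by push_cast; ring
      _ ≤ (F (tower G k) (β ≫ (tower G k).g)).encard + k := add_le_add_left h1 _
      _ ≤ _ := h2

end Groth.Agent.Lib.Helper3.DegTower
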