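import Groth.Agent.Lib.Helper3.DegTower1
import Groth.Agent.Lib.Helper3.FinFib

set_option autoImplicit false
universe u

namespace Groth.Agent.Lib.Helper3.DegTower

open CategoryTheory CategoryTheory.Limits AlgebraicGeometry

/-- A finite set of points of a scheme lies in a quasi-compact open. -/
theorem exists_compact_open_of_finite {A : Scheme.{u}} (s : Set ↥A) (hs : s.Finite) :
    ∃ A' : A.Opens, IsCompact (A' : Set ↥A) ∧ s ⊆ A' := by
  have hx : ∀ x : ↥A, ∃ U : A.Opens, IsAffineOpen U ∧ x ∈ U := by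
    intro x
    obtain ⟨_, ⟨U, hU, rfl⟩, hxU, -⟩ :=
      (A.isBasis_affineOpens).exists_subset_of_mem_open (Set.mem_univ x) isOpen_univ
    exact ⟨U, hU, hxU⟩
  choose U hU hxU using hx
  refine ⟨⨆ x ∈ hs.toFinset, U x, ?_, ?_⟩
  · have : ((⨆ x ∈ hs.toFinset, U x : A.Opens) : Set ↥A) = ⋃ x ∈ hs.toFinset, (U x : Set ↥A) := by
      simp
    rw [this]
    exact hs.toFinset.isCompact_biUnion (fun x _ => (hU x).isCompact)
  · intro x hx
    have : x ∈ (⨆ x ∈ hs.toFinset, U x : A.Opens) := by
      simp only [TopologicalSpace.Opens.mem_iSup]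
      exact ⟨x, (Set.Finite.mem_toFinset hs).2 hx, hxU x⟩
    exact this

/-- A section of an etale morphism is an open immersion. -/
theorem isOpenImmersion_of_section {P T : Scheme.{u}} (q : P ⟶ T) [Etale q] (σ : T ⟶ P)
    (h : σ ≫ q = 𝟙 T) : IsOpenImmersion σ := by
  have he : Etale σ := by
    apply MorphismProperty.of_postcomp (W := @Etale) (W' := @Etale) σ q inferInstance
    rw [h]
    infer_instance
  have hm : Mono σ := by
    have : Mono (σ ≫ q) := by rw [h]; infer_instance
    exact mono_of_mono σ q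
  exact IsOpenImmersion.of_flat_of_mono σ

/-- Two sections of an etale morphism to a one-point scheme which agree on points are equal. -/
theorem section_ext {P T : Scheme.{u}} [Subsingleton ↥T] (q : P ⟶ T) [Etale q] (σ σ' : T ⟶ P)
    (h : σ ≫ q = 𝟙 T) (h' : σ' ≫ q = 𝟙 T) (t : ↥T) (ht : σ t = σ' t) : σ = σ' := by
  have ho : IsOpenImmersion σ := isOpenImmersion_of_section q σ h
  have ho' : IsOpenImmersion σ' := isOpenImmersion_of_section q σ' h'
  have hr : Set.range σ ⊆ Set.range σ' := by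
    rintro _ ⟨t', rfl⟩
    rw [Subsingleton.elim t' t, ht]
    exact ⟨t, rfl⟩
  have hτ : IsOpenImmersion.lift σ' σ hr ≫ σ' = σ := IsOpenImmersion.lift_fac _ _ _
  have hτ1 : IsOpenImmersion.lift σ' σ hr = 𝟙 T := by
    have := congrArg (fun k => k ≫ q) hτ
    simp only [Category.assoc, h, h', Category.comp_id] at this
    exact this
  rw [← hτ, hτ1, Category.id_comp]

/-- **Finiteness of the set of field valued points over a point with finite fibre.** -/
theorem finite_F {A B : Scheme.{u}} (g : A ⟶ B) [Etale g] [IsAffine B] {Ω : Type u} [Field Ω]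
    (β : Spec (.of Ω) ⟶ B) (t₀ : ↥(Spec (.of Ω))) (hfib : (g ⁻¹' {β t₀}).Finite) :
    {p : Spec (.of Ω) ⟶ A | p ≫ g = β}.Finite := by
  obtain ⟨A', hA'c, hsub⟩ := exists_compact_open_of_finite _ hfib
  have hcs : CompactSpace ↥A' := isCompact_iff_compactSpace.mp hA'c
  let g' : A'.toScheme ⟶ B := A'.ι ≫ g
  have hqc : QuasiCompact g' := (HasAffineProperty.iff_of_isAffine (P := @QuasiCompact)).2 hcs
  let q := pullback.snd g' β
  have hg'e : Etale g' := inferInstance
  have hqe : Etale q := inferInstance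
  have hqlqf : LocallyQuasiFinite q := Groth.Agent.Lib.Helper3.locallyQuasiFinite_of_etale q
  have hfin : (q ⁻¹' {t₀}).Finite := Scheme.Hom.finite_preimage_singleton q t₀
  have hP : Finite ↥(pullback g' β) := by
    rw [← Set.finite_univ_iff]
    refine hfin.subset ?_
    intro x _
    exact Subsingleton.elim _ _
  -- factor points through `A'`
  have hr : ∀ p : Spec (.of Ω) ⟶ A, p ≫ g = β → Set.range p ⊆ Set.range A'.ι := by
    rintro p hp _ ⟨t, rfl⟩
    rw [Scheme.Opens.range_ι]
    apply hsub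
    change g (p t) = β t₀
    rw [← Scheme.Hom.comp_apply, hp, Subsingleton.elim t t₀]
  let σ : ∀ p : {p : Spec (.of Ω) ⟶ A | p ≫ g = β}, Spec (.of Ω) ⟶ pullback g' β := fun p =>
    pullback.lift (IsOpenImmersion.lift A'.ι p.1 (hr p.1 p.2)) (𝟙 _) (by
      change IsOpenImmersion.lift A'.ι p.1 (hr p.1 p.2) ≫ A'.ι ≫ g = 𝟙 _ ≫ β
      rw [IsOpenImmersion.lift_fac_assoc, Category.id_comp]
      exact p.2)
  have hσq : ∀ p, σ p ≫ q = 𝟙 _ := fun p => pullback.lift_snd _ _ _
  have hσp : ∀ p, σ p ≫ pullback.fst g' β ≫ A'.ι = p.1 := fun p => by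
    rw [pullback.lift_fst_assoc, IsOpenImmersion.lift_fac]
  have hinj : Function.Injective (fun p => σ p t₀) := by
    intro p p' h
    have := section_ext q (σ p) (σ p') (hσq p) (hσq p') t₀ h
    apply Subtype.ext
    rw [← hσp p, ← hσp p', this]
  exact Set.finite_coe_iff.1 (Finite.of_injective _ hinj)

end Groth.Agent.Lib.Helper3.DegTower
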