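import Groth.Agent.Lib.Helper3.DegTower2

set_option autoImplicit false
universe u

namespace Groth.Agent.Lib.Helper3.DegTower

open CategoryTheory CategoryTheory.Limits AlgebraicGeometry

/-- Universal closedness can be checked on a cover by two open pieces. -/
theorem universallyClosed_of_cover {X Y X₁ X₂ : Scheme.{u}} (f : X ⟶ Y) (j₁ : X₁ ⟶ X)
    (j₂ : X₂ ⟶ X) [IsOpenImmersion j₁] [IsOpenImmersion j₂]
    (hcov : ∀ x : ↥X, x ∈ Set.range j₁ ∨ x ∈ Set.range j₂)
    (h₁ : UniversallyClosed (j₁ ≫ f)) (h₂ : UniversallyClosed (j₂ ≫ f)) : UniversallyClosed f := by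
  have hqc : QuasiCompact f := by
    refine ⟨fun U hU hUc => ?_⟩
    have e : f ⁻¹' U = j₁ '' ((j₁ ≫ f) ⁻¹' U) ∪ j₂ '' ((j₂ ≫ f) ⁻¹' U) := by
      ext x
      constructor
      · intro hx
        rcases hcov x with ⟨y, rfl⟩ | ⟨y, rfl⟩
        · exact Or.inl ⟨y, hx, rfl⟩
        · exact Or.inr ⟨y, hx, rfl⟩
      · rintro (⟨y, hy, rfl⟩ | ⟨y, hy, rfl⟩) <;> exact hy
    rw [e]
    exact ((QuasiCompact.isCompact_preimage (f := j₁ ≫ f) U hU hUc).image j₁.continuous).union
      ((QuasiCompact.isCompact_preimage (f := j₂ ≫ f) U hU hUc).image j₂.continuous)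
  refine UniversallyClosed.of_valuativeCriterion f ?_
  intro S
  obtain ⟨t⟩ : Nonempty ↥(Spec (.of S.K)) := inferInstance
  have key : ∀ {X' : Scheme.{u}} (j : X' ⟶ X) [IsOpenImmersion j], UniversallyClosed (j ≫ f) →
      S.i₁ t ∈ Set.range j → S.commSq.HasLift := by
    intro X' j _ hj hy
    have hr : Set.range S.i₁ ⊆ Set.range j := by
      rintro _ ⟨t', rfl⟩
      rw [Subsingleton.elim t' t]
      exact hy
    have sq' : CommSq (IsOpenImmersion.lift j S.i₁ hr)
        (Spec.map (CommRingCat.ofHom (algebraMap S.R S.K))) (j ≫ f) S.i₂ :=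
      ⟨by rw [IsOpenImmersion.lift_fac_assoc]; exact S.commSq.w⟩
    let S' : ValuativeCommSq (j ≫ f) :=
      { R := S.R, K := S.K, i₁ := IsOpenImmersion.lift j S.i₁ hr, i₂ := S.i₂, commSq := sq' }
    have hex : ValuativeCriterion.Existence (j ≫ f) := by
      have := hj
      rw [UniversallyClosed.eq_valuativeCriterion] at this
      exact this.1
    obtain ⟨⟨l⟩⟩ := hex S'
    exact ⟨⟨{ l := l.l ≫ j
              fac_left := by
                rw [← Category.assoc, l.fac_left]
                exact IsOpenImmersion.lift_fac _ _ _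
              fac_right := by
                rw [Category.assoc]
                exact l.fac_right }⟩⟩
  rcases hcov (S.i₁ t) with hy | hy
  · exact key j₁ h₁ hy
  · exact key j₂ h₂ hy

/-- A universally closed etale separated morphism is finite. -/
theorem isFinite_of_universallyClosed {A B : Scheme.{u}} (g : A ⟶ B) [Etale g] [IsSeparated g]
    [UniversallyClosed g] : IsFinite g := by
  have : LocallyQuasiFinite g := Groth.Agent.Lib.Helper3.locallyQuasiFinite_of_etale g
  have : IsProper g := {}
  exact IsFinite.of_isProper_of_locallyQuasiFinite g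

end Groth.Agent.Lib.Helper3.DegTower
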