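import Groth.Agent.Lib.Helper3.DegTower3

set_option autoImplicit false
universe u

namespace Groth.Agent.Lib.Helper3.DegTower

open CategoryTheory CategoryTheory.Limits AlgebraicGeometry

/-- The open image of an open subset under an etale morphism. -/
noncomputable def imOpen {A B : Scheme.{u}} (g : A ⟶ B) [Etale g] (V₁ : A.Opens) : B.Opens :=
  ⟨g '' (V₁ : Set ↥A), g.isOpenMap _ V₁.2⟩

theorem mem_imOpen {A B : Scheme.{u}} (g : A ⟶ B) [Etale g] (V₁ : A.Opens) (b : ↥B) :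
    b ∈ imOpen g V₁ ↔ ∃ a ∈ V₁, g a = b := Iff.rfl

/-- The first projection `A ×_B A ⟶ A` is universally closed over an open `V₁` over which the
next step of the tower is finite. -/
theorem universallyClosed_fst_restrict (G : ES.{u}) (V₁ : G.A.Opens)
    (hfin : IsFinite ((step G).g ∣_ V₁)) :
    UniversallyClosed (pullback.fst G.g G.g ∣_ V₁) := by
  let pr₁ := pullback.fst G.g G.g
  let P' : (pullback G.g G.g).Opens := pr₁ ⁻¹ᵁ V₁
  let π : P'.toScheme ⟶ V₁.toScheme := pr₁ ∣_ V₁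
  have hπ : π ≫ V₁.ι = P'.ι ≫ pr₁ := morphismRestrict_ι pr₁ V₁
  let g₁ : (offDiag G.g).toScheme ⟶ G.A := (offDiag G.g).ι ≫ pullback.fst G.g G.g
  have hfin' : IsFinite (g₁ ∣_ V₁) := hfin
  let W : (offDiag G.g).toScheme.Opens := g₁ ⁻¹ᵁ V₁
  have hr₁ : Set.range (V₁.ι ≫ pullback.diagonal G.g) ⊆ Set.range P'.ι := by
    rintro _ ⟨a, rfl⟩
    rw [Scheme.Opens.range_ι]
    change pr₁ ((V₁.ι ≫ pullback.diagonal G.g) a) ∈ V₁
    rw [← Scheme.Hom.comp_apply, Category.assoc, pullback.diagonal_fst, Category.comp_id]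
    exact a.2
  have hr₂ : Set.range (W.ι ≫ (offDiag G.g).ι) ⊆ Set.range P'.ι := by
    rintro _ ⟨z, rfl⟩
    rw [Scheme.Opens.range_ι]
    change pr₁ ((W.ι ≫ (offDiag G.g).ι) z) ∈ V₁
    rw [← Scheme.Hom.comp_apply, Category.assoc]
    exact z.2
  let j₁ : V₁.toScheme ⟶ P'.toScheme := IsOpenImmersion.lift P'.ι _ hr₁
  let j₂ : W.toScheme ⟶ P'.toScheme := IsOpenImmersion.lift P'.ι _ hr₂
  have hj₁ : j₁ ≫ P'.ι = V₁.ι ≫ pullback.diagonal G.g := IsOpenImmersion.lift_fac _ _ _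
  have hj₂ : j₂ ≫ P'.ι = W.ι ≫ (offDiag G.g).ι := IsOpenImmersion.lift_fac _ _ _
  have ho₁ : IsOpenImmersion j₁ := by
    have : IsOpenImmersion (j₁ ≫ P'.ι) := by rw [hj₁]; infer_instance
    exact IsOpenImmersion.of_comp j₁ P'.ι
  have ho₂ : IsOpenImmersion j₂ := by
    have : IsOpenImmersion (j₂ ≫ P'.ι) := by rw [hj₂]; infer_instance
    exact IsOpenImmersion.of_comp j₂ P'.ι
  have hinj : Function.Injective P'.ι := P'.ι.isOpenEmbedding.injective
  have hcov : ∀ x : ↥P'.toScheme, x ∈ Set.range j₁ ∨ x ∈ Set.range j₂ := by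
    intro x
    by_cases hx : P'.ι x ∈ Set.range (pullback.diagonal G.g)
    · left
      obtain ⟨a, ha⟩ := hx
      have haV : a ∈ V₁ := by
        have h1 : pr₁ (P'.ι x) ∈ V₁ := x.2
        rw [← ha, ← Scheme.Hom.comp_apply, pullback.diagonal_fst] at h1
        exact h1
      refine ⟨⟨a, haV⟩, hinj ?_⟩
      rw [← Scheme.Hom.comp_apply, hj₁, Scheme.Hom.comp_apply]
      exact ha
    · right
      have hz : P'.ι x ∈ offDiag G.g := hx
      have hzW : (⟨P'.ι x, hz⟩ : ↥(offDiag G.g)) ∈ W := by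
        change pr₁ ((offDiag G.g).ι ⟨P'.ι x, hz⟩) ∈ V₁
        exact x.2
      refine ⟨⟨⟨P'.ι x, hz⟩, hzW⟩, hinj ?_⟩
      rw [← Scheme.Hom.comp_apply, hj₂]
      rfl
  have h₁ : UniversallyClosed (j₁ ≫ π) := by
    have : j₁ ≫ π = 𝟙 _ := by
      rw [← cancel_mono V₁.ι, Category.assoc, hπ, ← Category.assoc, hj₁, Category.assoc,
        pullback.diagonal_fst, Category.comp_id, Category.id_comp]
    rw [this]
    infer_instance
  have h₂ : UniversallyClosed (j₂ ≫ π) := by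
    have : j₂ ≫ π = g₁ ∣_ V₁ := by
      rw [← cancel_mono V₁.ι, Category.assoc, hπ, ← Category.assoc, hj₂, Category.assoc,
        morphismRestrict_ι]
    rw [this]
    infer_instance
  exact universallyClosed_of_cover π j₁ j₂ hcov h₁ h₂

/-- **Descent step.** If the next step of the tower is finite over an open `V₁` of `A`, then `g`
is finite over the open image of `V₁`. -/
theorem isFinite_over_image (G : ES.{u}) (V₁ : G.A.Opens) (hfin : IsFinite ((step G).g ∣_ V₁)) :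
    IsFinite (G.g ∣_ imOpen G.g V₁) := by
  have huc := universallyClosed_fst_restrict G V₁ hfin
  let pr₁ := pullback.fst G.g G.g
  let pr₂ := pullback.snd G.g G.g
  let P' : (pullback G.g G.g).Opens := pr₁ ⁻¹ᵁ V₁
  let π : P'.toScheme ⟶ V₁.toScheme := pr₁ ∣_ V₁
  let V := imOpen G.g V₁
  let gV := G.g ∣_ V
  have sqA : IsPullback π P'.ι V₁.ι pr₁ := isPullback_morphismRestrict pr₁ V₁
  have sqB : IsPullback pr₁ pr₂ G.g G.g := IsPullback.of_hasPullback G.g G.g
  have big : IsPullback π (P'.ι ≫ pr₂) (V₁.ι ≫ G.g) G.g := sqA.paste_vert sqB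
  have sqC : IsPullback gV (G.g ⁻¹ᵁ V).ι V.ι G.g := isPullback_morphismRestrict G.g V
  have hrV : Set.range (V₁.ι ≫ G.g) ⊆ Set.range V.ι := by
    rintro _ ⟨a, rfl⟩
    rw [Scheme.Opens.range_ι]
    exact ⟨a.1, a.2, rfl⟩
  let h : V₁.toScheme ⟶ V.toScheme := IsOpenImmersion.lift V.ι _ hrV
  have hh : h ≫ V.ι = V₁.ι ≫ G.g := IsOpenImmersion.lift_fac _ _ _
  have hw : (π ≫ h) ≫ V.ι = (P'.ι ≫ pr₂) ≫ G.g := by
    rw [Category.assoc, hh, ← Category.assoc, sqA.w, Category.assoc, Category.assoc,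
      pullback.condition]
  let top := sqC.lift (π ≫ h) (P'.ι ≫ pr₂) hw
  have left : IsPullback π top h gV := by
    refine IsPullback.of_bot ?_ (sqC.lift_fst _ _ _).symm sqC
    rw [sqC.lift_snd, hh]
    exact big
  have hhe : Etale h := by
    apply MorphismProperty.of_postcomp (W := @Etale) (W' := @Etale) h V.ι inferInstance
    rw [hh]
    infer_instance
  have hhs : Surjective h := ⟨by
    rintro ⟨v, a, ha, rfl⟩
    refine ⟨⟨a, ha⟩, ?_⟩
    apply V.ι.isOpenEmbedding.injective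
    rw [← Scheme.Hom.comp_apply, hh]
    rfl⟩
  have : UniversallyClosed gV :=
    MorphismProperty.of_isPullback_of_descendsAlong (P := @UniversallyClosed)
      (Q := @Surjective ⊓ @Flat ⊓ @LocallyOfFinitePresentation) left
      ⟨⟨hhs, inferInstance⟩, inferInstance⟩ huc
  exact isFinite_of_universallyClosed gV

end Groth.Agent.Lib.Helper3.DegTower
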