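import Groth.Agent.Lib.Helper3.DegTower4

set_option autoImplicit false
universe u

namespace Groth.Agent.Lib.Helper3.DegTower

open CategoryTheory CategoryTheory.Limits AlgebraicGeometry

/-- `g` is nowhere finite over `V`. -/
def NF (H : ES.{u}) (V : H.B.Opens) : Prop :=
  ∀ V' : H.B.Opens, V' ≤ V → (V' : Set ↥H.B).Nonempty → ¬ IsFinite (H.g ∣_ V')

theorem exists_next (H : ES.{u}) (V : H.B.Opens) (hne : (V : Set ↥H.B).Nonempty) (hNF : NF H V) :
    ∃ V₁ : H.A.Opens, IsAffineOpen V₁ ∧ (V₁ : Set ↥H.A).Nonempty ∧ V₁ ≤ H.g ⁻¹ᵁ V ∧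
      NF (step H) V₁ := by
  have hne' : ((H.g ⁻¹ᵁ V : H.A.Opens) : Set ↥H.A).Nonempty := by
    by_contra hemp
    apply hNF V le_rfl hne
    have : IsEmpty ↥(H.g ⁻¹ᵁ V).toScheme := by
      rw [Set.not_nonempty_iff_eq_empty] at hemp
      exact ⟨fun x => by
        have : x.1 ∈ ((H.g ⁻¹ᵁ V : H.A.Opens) : Set ↥H.A) := x.2
        rw [hemp] at this
        exact this⟩
    infer_instance
  obtain ⟨x, hx⟩ := hne'
  obtain ⟨_, ⟨V₁, hV₁, rfl⟩, hxV₁, hV₁V⟩ :=
    (H.A.isBasis_affineOpens).exists_subset_of_mem_open hx (H.g ⁻¹ᵁ V).isOpen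
  refine ⟨V₁, hV₁, ⟨x, hxV₁⟩, hV₁V, ?_⟩
  intro V₁' hle hne₁ hfin
  refine hNF (imOpen H.g V₁') ?_ ?_ (isFinite_over_image H V₁' hfin)
  · rintro _ ⟨a, ha, rfl⟩
    exact hV₁V (hle ha)
  · obtain ⟨a, ha⟩ := hne₁
    exact ⟨H.g a, a, ha, rfl⟩

/-- The state of the Baire construction at level `k`. -/
structure St (G : ES.{u}) (k : ℕ) where
  V : (tower G k).B.Opens
  aff : IsAffineOpen V
  ne : (V : Set ↥(tower G k).B).Nonempty
  nf : NF (tower G k) V

noncomputable def nextSt (G : ES.{u}) (k : ℕ) (s : St G k) : St G (k + 1) :=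
  let h := exists_next (tower G k) s.V s.ne s.nf
  { V := h.choose
    aff := h.choose_spec.1
    ne := h.choose_spec.2.1
    nf := h.choose_spec.2.2.2 }

theorem nextSt_le (G : ES.{u}) (k : ℕ) (s : St G k) :
    (show (tower G k).A.Opens from (nextSt G k s).V) ≤ (tower G k).g ⁻¹ᵁ s.V :=
  (exists_next (tower G k) s.V s.ne s.nf).choose_spec.2.2.1

noncomputable def seq (G : ES.{u}) (s₀ : St G 0) : ∀ k, St G k
  | 0 => s₀
  | k + 1 => nextSt G k (seq G s₀ k)

/-- The ring of sections at level `k`. -/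
noncomputable def R (G : ES.{u}) (s₀ : St G 0) (k : ℕ) : CommRingCat.{u} :=
  Γ((tower G k).B, (seq G s₀ k).V)

noncomputable def φ (G : ES.{u}) (s₀ : St G 0) (k : ℕ) : R G s₀ k ⟶ R G s₀ (k + 1) :=
  (tower G k).g.appLE (seq G s₀ k).V
    (show (tower G k).A.Opens from (seq G s₀ (k + 1)).V) (nextSt_le G k (seq G s₀ k))

theorem nontrivial_R (G : ES.{u}) (s₀ : St G 0) (k : ℕ) : Nontrivial ↑(R G s₀ k) := by
  exact @Scheme.component_nontrivial (tower G k).B (seq G s₀ k).V (seq G s₀ k).ne.to_subtype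

/-- The diagram of rings. -/
noncomputable def D (G : ES.{u}) (s₀ : St G 0) : ℕ ⥤ CommRingCat.{u} :=
  Functor.ofSequence (φ G s₀)

theorem nontrivial_colimit (G : ES.{u}) (s₀ : St G 0) : Nontrivial ↑(colimit (D G s₀)) := by
  by_contra hnt
  rw [not_nontrivial_iff_subsingleton] at hnt
  have hpf : PreservesFilteredColimitsOfSize.{0, 0} (forget CommRingCat.{u}) :=
    preservesSmallestFilteredColimits_of_preservesFilteredColimits.{u, u} _
  have hps : PreservesColimitsOfShape ℕ (forget CommRingCat.{u}) :=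
    hpf.preserves_filtered_colimits ℕ
  have h01 : (colimit.ι (D G s₀) 0).hom (1 : ↑((D G s₀).obj 0)) =
      (colimit.ι (D G s₀) 0).hom (0 : ↑((D G s₀).obj 0)) := Subsingleton.elim _ _
  obtain ⟨j, f, g, hfg⟩ := (Concrete.colimit_rep_eq_iff_exists (F := D G s₀)
    (1 : ↑((D G s₀).obj 0)) (0 : ↑((D G s₀).obj 0))).1 h01
  have h1 : ((D G s₀).map f).hom 1 = ((D G s₀).map g).hom 0 := hfg
  rw [map_one, map_zero] at h1
  have hn : Nontrivial ↑((D G s₀).obj j) := nontrivial_R G s₀ j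
  exact (one_ne_zero (α := ↑((D G s₀).obj j))) h1

end Groth.Agent.Lib.Helper3.DegTower
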