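import Mathlib
import Groth.Agent.Lib.Helper3.LocFinIrred3

set_option autoImplicit false
open Topology TopologicalSpace Set

namespace Groth.Agent.Lib.Helper3.Dens

set_option backward.isDefEq.respectTransparency false

variable {T : Type*} [TopologicalSpace T]

/-- Every nonempty open subset of a quasi-sober space contains a generic point of an irreducible
component. -/
theorem exists_genericPoint_mem_of_isOpen [QuasiSober T] {N : Set T} (hN : IsOpen N)
    (hne : N.Nonempty) : ∃ ξ ∈ genericPoints T, ξ ∈ N := by
  obtain ⟨x, hx⟩ := hne
  have hC : irreducibleComponent x ∈ irreducibleComponents T := irreducibleComponent_mem_irreducibleComponents x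
  obtain ⟨ξ, hξ⟩ := QuasiSober.sober hC.1 isClosed_irreducibleComponent
  refine ⟨ξ, ?_, ?_⟩
  · change closure {ξ} ∈ irreducibleComponents T
    rw [hξ.def]
    exact hC
  · have hsp : ξ ⤳ x := hξ.specializes mem_irreducibleComponent
    exact hsp.mem_open hN hx

/-- A subset containing all generic points of a quasi-sober space is dense. -/
theorem dense_of_genericPoints_subset [QuasiSober T] {O : Set T} (h : genericPoints T ⊆ O) :
    Dense O := by
  rw [dense_iff_inter_open]
  intro N hN hne
  obtain ⟨ξ, hξ, hξN⟩ := exists_genericPoint_mem_of_isOpen hN hne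
  exact ⟨ξ, hξN, h hξ⟩

/-- In a space with finitely many irreducible components, a dense open subset contains all
generic points. -/
theorem genericPoints_subset_of_dense (hfin : (irreducibleComponents T).Finite) {O : Set T}
    (hO : IsOpen O) (hd : Dense O) : genericPoints T ⊆ O := by
  intro ξ hξ
  have hC : closure {ξ} ∈ irreducibleComponents T := hξ
  set C := closure ({ξ} : Set T) with hCdef
  let R : Set T := ⋃₀ (irreducibleComponents T \ {C})
  have hRfin : (irreducibleComponents T \ {C}).Finite := hfin.subset Set.sdiff_subset
  have hRcl : IsClosed R := by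
    change IsClosed (⋃₀ (irreducibleComponents T \ {C}))
    rw [Set.sUnion_eq_biUnion]
    exact hRfin.isClosed_biUnion (fun s hs => isClosed_of_mem_irreducibleComponents s hs.1)
  have hcov : C ∪ R = univ := by
    rw [eq_univ_iff_forall]
    intro y
    have : y ∈ ⋃₀ irreducibleComponents T := by rw [sUnion_irreducibleComponents]; trivial
    obtain ⟨Z, hZ, hyZ⟩ := this
    by_cases hZC : Z = C
    · left; rw [← hZC]; exact hyZ
    · right; exact ⟨Z, ⟨hZ, hZC⟩, hyZ⟩
  have hne : (Rᶜ : Set T).Nonempty := by
    by_contra hemp
    rw [not_nonempty_iff_eq_empty, compl_empty_iff] at hemp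
    have hCR : C ⊆ ⋃₀ (hRfin.toFinset : Set (Set T)) := by
      rw [Set.Finite.coe_toFinset]
      change C ⊆ R
      rw [hemp]
      exact subset_univ _
    obtain ⟨z, hz, hCz⟩ := (isIrreducible_iff_sUnion_isClosed.1 hC.1) hRfin.toFinset
      (by
        intro z hz
        rw [Set.Finite.mem_toFinset] at hz
        exact isClosed_of_mem_irreducibleComponents z hz.1) hCR
    rw [Set.Finite.mem_toFinset] at hz
    have := hC.2 hz.1.1 hCz
    exact hz.2 (this.antisymm hCz)
  obtain ⟨y, hyR, hyO⟩ := hd.inter_open_nonempty _ hRcl.isOpen_compl hne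
  have hyC : y ∈ C := by
    have : y ∈ C ∪ R := by rw [hcov]; trivial
    exact this.resolve_right hyR
  have hsp : ξ ⤳ y := specializes_iff_mem_closure.2 hyC
  exact hsp.mem_open hO hyO

/-- A space with a dense continuous image of a space with finitely many irreducible components
has finitely many irreducible components. -/
theorem finite_irreducibleComponents_of_denseRange {A B : Type*} [TopologicalSpace A]
    [TopologicalSpace B] (f : A → B) (hf : Continuous f) (hs : DenseRange f)
    (h : (irreducibleComponents A).Finite) : (irreducibleComponents B).Finite := by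
  refine (h.image fun Z => closure (f '' Z)).subset ?_
  intro K hK
  have hfin : ((fun Z => closure (f '' Z)) '' irreducibleComponents A).Finite := h.image _
  have hcl : IsClosed (⋃₀ ((fun Z => closure (f '' Z)) '' irreducibleComponents A)) := by
    rw [Set.sUnion_eq_biUnion]
    exact hfin.isClosed_biUnion (by rintro _ ⟨Z, -, rfl⟩; exact isClosed_closure)
  have hcov : K ⊆ ⋃₀ ((fun Z => closure (f '' Z)) '' irreducibleComponents A) := by
    have hall : ⋃₀ ((fun Z => closure (f '' Z)) '' irreducibleComponents A) = univ := by
      rw [← hcl.closure_eq, ← dense_iff_closure_eq]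
      refine hs.mono ?_
      rintro _ ⟨a, rfl⟩
      have : a ∈ ⋃₀ irreducibleComponents A := by rw [sUnion_irreducibleComponents]; trivial
      obtain ⟨Z, hZ, haZ⟩ := this
      exact ⟨_, ⟨Z, hZ, rfl⟩, subset_closure ⟨a, haZ, rfl⟩⟩
    rw [hall]
    exact subset_univ _
  obtain ⟨z, hz, hKz⟩ := (isIrreducible_iff_sUnion_isClosed.1 hK.1) hfin.toFinset
    (by
      intro z hz
      rw [Set.Finite.mem_toFinset] at hz
      obtain ⟨Z, -, rfl⟩ := hz
      exact isClosed_closure)
    (by rwa [Set.Finite.coe_toFinset])
  rw [Set.Finite.mem_toFinset] at hz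
  obtain ⟨Z, hZ, rfl⟩ := hz
  refine ⟨Z, hZ, ?_⟩
  have hirr : IsIrreducible (closure (f '' Z)) := (hZ.1.image f hf.continuousOn).closure
  exact (hKz.antisymm (hK.2 hirr hKz)).symm

/-- An open subspace of a space with finitely many irreducible components has finitely many
irreducible components. -/
theorem finite_genericPoints_inter_of_isOpen [QuasiSober T] [T0Space T]
    (hfin : (irreducibleComponents T).Finite) : (genericPoints T).Finite := by
  rw [← Set.finite_coe_iff, (genericPoints.equiv (α := T)).finite_iff, Set.finite_coe_iff]
  exact hfin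

end Groth.Agent.Lib.Helper3.Dens
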