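import Mathlib
import Groth.Prelude.Def_AlgSpDec
import Groth.Agent.Lib.Helper3.DensA
import Groth.Agent.Lib.Helper3.DecEt1
import Groth.Agent.Lib.Helper3.DecSober1
import Groth.Agent.Lib.Helper3.AlgSpGenLift
import Groth.Agent.Lib.Helper3.AlgSpIntegralDim
import Groth.Agent.Lib.Helper4.IntegralFibre
import Groth.Agent.S10338

set_option autoImplicit false
universe u
open CategoryTheory CategoryTheory.Limits AlgebraicGeometry Opposite Topology
open AlgSp
open Groth.Agent.Lib.Helper3

namespace Groth.Agent.Lib.Helper3.Dens

set_option backward.isDefEq.respectTransparency false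

variable {S : Scheme.{u}}

/-- Maximal points of an etale chart of a decent space are the points over generic points. -/
theorem mem_maxPts_chart_iff (X : AlgSp.Space S) (hX : IsDecent X.obj)
    [QuasiSober (Points X.obj)] [T0Space (Points X.obj)] {U : Over S}
    (a : (yon S).obj U ⟶ X.obj) (hae : RepWith @Etale a) (u : ↥U.left) :
    u ∈ maxPts ↥U.left ↔ Points.ofPt a u ∈ genericPoints (Points X.obj) := by
  let Y : AlgSp.Space S := ⟨(yon S).obj U, IsAlgSpace.yon_obj U⟩
  let f : Y ⟶ X := ObjectProperty.homMk a
  have hf : IsEtaleMor f.hom := isEtaleMor_of_repWith_etale hae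
  let h := Points.schemeHomeo U
  haveI : QuasiSober (Points Y.obj) := h.symm.isOpenEmbedding.quasiSober
  haveI : T0Space (Points Y.obj) := h.symm.isEmbedding.t0Space
  have key := DecDense.main10395 hX f hf (h u)
  have h1 : (∃ T ∈ irreducibleComponents (Points Y.obj), IsGenericPoint (h u) T) ↔
      h u ∈ genericPoints (Points Y.obj) := by
    constructor
    · rintro ⟨T, hT, hg⟩
      change closure {h u} ∈ irreducibleComponents (Points Y.obj)
      rw [hg.def]
      exact hT
    · intro hg
      exact ⟨_, hg, isGenericPoint_closure⟩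
  have h2 : (∃ T ∈ irreducibleComponents (Points X.obj),
      IsGenericPoint (Points.map f.hom (h u)) T) ↔
      Points.ofPt a u ∈ genericPoints (Points X.obj) := by
    have e : Points.map f.hom (h u) = Points.ofPt a u := (Points.ofPt_eq_map_ofScheme a u).symm
    rw [e]
    constructor
    · rintro ⟨T, hT, hg⟩
      change closure {Points.ofPt a u} ∈ irreducibleComponents (Points X.obj)
      rw [hg.def]
      exact hT
    · intro hg
      exact ⟨_, hg, isGenericPoint_closure⟩
  rw [← h2, ← key, h1, genericPoints_eq_maxPts]
  constructor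
  · intro hu y hy
    have h3 : h.symm y ⤳ u := by
      have := hy.map h.symm.continuous
      rwa [Homeomorph.symm_apply_apply] at this
    have := hu _ h3
    rw [← this, Homeomorph.apply_symm_apply]
  · intro hu u' hu'
    have := hu _ (hu'.map h.continuous)
    exact h.injective this

/-- An etale chart with quasi-compact source of a decent space with finitely many irreducible
components has finitely many irreducible components. -/
theorem finite_irreducibleComponents_chart (X : AlgSp.Space S) (hX : IsDecent X.obj)
    (hfin : (irreducibleComponents (Points X.obj)).Finite) {U : Over S} [CompactSpace ↥U.left]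
    (a : (yon S).obj U ⟶ X.obj) (hae : RepWith @Etale a) :
    (irreducibleComponents ↥U.left).Finite := by
  haveI : QuasiSober (Points X.obj) := DecDense.quasiSober_points_of_isDecent X hX
  haveI : T0Space (Points X.obj) := Groth.Agent.S10338.result X hX
  rw [finite_irreducibleComponents_iff_maxPts]
  have hgen : (genericPoints (Points X.obj)).Finite := finite_genericPoints_inter_of_isOpen hfin
  have hsub : maxPts ↥U.left ⊆ ⋃ ξ ∈ genericPoints (Points X.obj), Points.ofPt a ⁻¹' {ξ} := by
    intro u hu
    rw [Set.mem_iUnion₂]
    exact ⟨_, (mem_maxPts_chart_iff X hX a hae u).1 hu, rfl⟩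
  refine (hgen.biUnion (fun ξ _ => ?_)).subset hsub
  obtain ⟨p, hp, -, hq⟩ := hX ξ
  rw [← hp]
  exact finite_fibre_of_qc_point p hq a hae

/-- **Points over generic points for an integral morphism to a decent space are generic.** -/
theorem mem_genericPoints_of_integral (X Y : AlgSp.Space S) (hX : IsDecent X.obj)
    (hY : IsDecent Y.obj) (ν : Y ⟶ X) (hν : RepWith @IsIntegralHom ν.hom)
    (y : Points Y.obj) (hy : Points.map ν.hom y ∈ genericPoints (Points X.obj)) :
    y ∈ genericPoints (Points Y.obj) := by
  haveI : QuasiSober (Points X.obj) := DecDense.quasiSober_points_of_isDecent X hX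
  haveI : T0Space (Points X.obj) := Groth.Agent.S10338.result X hX
  haveI : QuasiSober (Points Y.obj) := DecDense.quasiSober_points_of_isDecent Y hY
  haveI : T0Space (Points Y.obj) := Groth.Agent.S10338.result Y hY
  -- a generic generization of `y`
  have hC : irreducibleComponent y ∈ irreducibleComponents (Points Y.obj) :=
    irreducibleComponent_mem_irreducibleComponents y
  obtain ⟨ζ, hζ⟩ := QuasiSober.sober hC.1 isClosed_irreducibleComponent
  have hζgen : ζ ∈ genericPoints (Points Y.obj) := by
    change closure {ζ} ∈ irreducibleComponents (Points Y.obj)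
    rw [hζ.def]
    exact hC
  have hζy : ζ ⤳ y := hζ.specializes mem_irreducibleComponent
  suffices h : ζ = y by rw [← h]; exact hζgen
  set ξ := Points.map ν.hom y with hξ
  have hξmax : ξ ∈ maxPts (Points X.obj) := by rw [← genericPoints_eq_maxPts]; exact hy
  have hνζ : Points.map ν.hom ζ = ξ := hξmax _ (hζy.map (Points.continuous_map ν.hom))
  -- an affine chart through `ξ`
  obtain ⟨T, c, t, hT, hce, hct⟩ := exists_affine_chart_through X.property ξ
  have hrep := hν.rep
  let Q := hrep.pullback c
  let fstQ : (yon S).obj Q ⟶ Y.obj := hrep.fst c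
  let sndQ : Q ⟶ T := hrep.snd c
  have sq : IsPullback fstQ ((yon S).map sndQ) ν.hom c := hrep.isPullback c
  haveI hint : IsIntegralHom sndQ.left := hν.property _ _ _ sq
  have hfe : RepWith @Etale fstQ := MorphismProperty.of_isPullback sq.flip hce
  -- lift `y`
  obtain ⟨z, hz1, hz2⟩ := Points.exists_of_isPullback sq y (Points.schemeHomeo T t) (by
    change ξ = _
    rw [← hct, Points.ofPt_eq_map_ofScheme]
    rfl)
  obtain ⟨q, rfl⟩ := (Points.schemeHomeo Q).surjective z
  have hq1 : Points.ofPt fstQ q = y := by rw [Points.ofPt_eq_map_ofScheme]; exact hz1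
  have hq2 : sndQ.left q = t := by
    have h1 : Points.ofPt ((yon S).map sndQ) q = Points.schemeHomeo T t := by
      rw [Points.ofPt_eq_map_ofScheme]; exact hz2
    have h2 : Points.ofPt ((yon S).map sndQ) q = Points.schemeHomeo T (sndQ.left q) := by
      have := SpUC.ofPt_comp_yon_map sndQ (𝟙 _) q
      rw [Category.comp_id] at this
      exact this
    rw [h2] at h1
    exact (Points.schemeHomeo T).injective h1
  -- lift the generization
  obtain ⟨p, hp, -, hpq⟩ := hY ζ
  obtain ⟨q', hq'q, hq'ζ⟩ := exists_specializes_lift_of_qc_point y p (hp ▸ hζy) hpq fstQ hfe q hq1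
  rw [hp] at hq'ζ
  -- its image in `T`
  have ht : t ∈ maxPts ↥T.left := (mem_maxPts_chart_iff X hX c hce t).2 (by rw [hct]; exact hy)
  have hq'2 : sndQ.left q' = t := by
    apply ht
    rw [← hq2]
    exact hq'q.map sndQ.left.continuous
  -- incomparability
  have hqq' : q = q' := by
    have hmain := Groth.Agent.Lib.Helper4.IntegralFibre.main sndQ.left q'
    have : q ∈ closure {q'} ∩ sndQ.left.base ⁻¹' {sndQ.left.base q'} :=
      ⟨specializes_iff_mem_closure.1 hq'q, by
        change sndQ.left q = sndQ.left q'
        rw [hq2, hq'2]⟩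
    rw [hmain] at this
    exact this
  rw [← hq'ζ, ← hqq', hq1]

end Groth.Agent.Lib.Helper3.Dens
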