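import Mathlib
import Groth.Prelude.Def_AlgSpDec
import Groth.Agent.Lib.Helper3.DegTower2

set_option autoImplicit false
universe u
open CategoryTheory CategoryTheory.Limits AlgebraicGeometry Opposite
open AlgSp

namespace Groth.Agent.Lib.Helper3.FibPow

set_option backward.isDefEq.respectTransparency false

variable {S : Scheme.{u}} {X : Sp S} {U : Over S} {a : (yon S).obj U ⟶ X}

section KP

variable (hrep : Representable a)

/-- The kernel pair `U ×_X U` as a scheme over `S`. -/
noncomputable def R2 : Over S := hrep.pullback a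

noncomputable def p1 : R2 hrep ⟶ U := hrep.fst' a

noncomputable def p2 : R2 hrep ⟶ U := hrep.snd a

theorem kp : IsPullback ((yon S).map (p1 hrep)) ((yon S).map (p2 hrep)) a a := hrep.isPullback' a

noncomputable def pair {T : Over S} (u v : T ⟶ U) (h : (yon S).map u ≫ a = (yon S).map v ≫ a) :
    T ⟶ R2 hrep := hrep.lift' u v h

@[reassoc (attr := simp)]
theorem pair_p1 {T : Over S} (u v : T ⟶ U) (h : (yon S).map u ≫ a = (yon S).map v ≫ a) :
    pair hrep u v h ≫ p1 hrep = u := hrep.lift'_fst u v h

@[reassoc (attr := simp)]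
theorem pair_p2 {T : Over S} (u v : T ⟶ U) (h : (yon S).map u ≫ a = (yon S).map v ≫ a) :
    pair hrep u v h ≫ p2 hrep = v := hrep.lift'_snd u v h

theorem R2_hom_ext {T : Over S} {f g : T ⟶ R2 hrep} (h1 : f ≫ p1 hrep = g ≫ p1 hrep)
    (h2 : f ≫ p2 hrep = g ≫ p2 hrep) : f = g := hrep.hom_ext' h1 h2

theorem comp_pair {T T' : Over S} (f : T' ⟶ T) (u v : T ⟶ U)
    (h : (yon S).map u ≫ a = (yon S).map v ≫ a) :
    f ≫ pair hrep u v h = pair hrep (f ≫ u) (f ≫ v) (by
      rw [Functor.map_comp, Functor.map_comp, Category.assoc, Category.assoc, h]) := by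
  apply R2_hom_ext hrep <;> simp

noncomputable def diag : U ⟶ R2 hrep := pair hrep (𝟙 U) (𝟙 U) rfl

theorem pair_self {T : Over S} (u : T ⟶ U) : pair hrep u u rfl = u ≫ diag hrep := by
  apply R2_hom_ext hrep <;> simp [diag]

theorem diag_left_p2 : (diag hrep).left ≫ (p2 hrep).left = 𝟙 U.left := by
  rw [← Over.comp_left, diag, pair_p2]; rfl

theorem etale_p2 (ha : RepWith @Etale a) : Etale (p2 hrep).left :=
  ((repWith_iff _ _).1 ha).2 a _ _ (kp hrep)

theorem isSeparated_p2 (ha : RepWith @IsSeparated a) : IsSeparated (p2 hrep).left :=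
  ((repWith_iff _ _).1 ha).2 a _ _ (kp hrep)

theorem isOpenImmersion_diag (ha : RepWith @Etale a) : IsOpenImmersion (diag hrep).left := by
  haveI := etale_p2 hrep ha
  exact DegTower.isOpenImmersion_of_section (p2 hrep).left _ (diag_left_p2 hrep)

theorem isClosedImmersion_diag (ha : RepWith @IsSeparated a) :
    IsClosedImmersion (diag hrep).left := by
  haveI := isSeparated_p2 hrep ha
  haveI : IsClosedImmersion ((diag hrep).left ≫ (p2 hrep).left) := by
    rw [diag_left_p2]; infer_instance
  exact IsClosedImmersion.of_comp _ (p2 hrep).left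

end KP

end Groth.Agent.Lib.Helper3.FibPow
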