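import Mathlib
import Groth.Prelude.Def_AlgSpDec
import Groth.Agent.Lib.Helper3.FibPowA

set_option autoImplicit false
universe u
open CategoryTheory CategoryTheory.Limits AlgebraicGeometry Opposite
open AlgSp

namespace Groth.Agent.Lib.Helper3.FibPow

set_option backward.isDefEq.respectTransparency false

variable {S : Scheme.{u}} {X : Sp S} {U : Over S} {a : (yon S).obj U ⟶ X}

/-- The inclusion of a point, as a morphism over `S`. -/
noncomputable def ptι (T : Over S) (x : ↥T.left) :
    Over.mk (T.left.fromSpecResidueField x ≫ T.hom) ⟶ T :=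
  Over.homMk (T.left.fromSpecResidueField x) rfl

/-- The locus where two `T`-points of `U` agree as field valued points. -/
def eqLoc {T : Over S} (u v : T ⟶ U) : Set ↥T.left := {x | ptι T x ≫ u = ptι T x ≫ v}

theorem eqLoc_self {T : Over S} (u : T ⟶ U) : eqLoc u u = Set.univ := by
  ext x; simp [eqLoc]

theorem eqLoc_comm {T : Over S} (u v : T ⟶ U) : eqLoc u v = eqLoc v u := by
  ext x; exact eq_comm

variable (hrep : Representable a)

theorem eqLoc_eq_preimage (ha : RepWith @Etale a) {T : Over S} (u v : T ⟶ U)
    (h : (yon S).map u ≫ a = (yon S).map v ≫ a) :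
    eqLoc u v = (pair hrep u v h).left ⁻¹' Set.range (diag hrep).left := by
  ext x
  constructor
  · intro hx
    change ptι T x ≫ u = ptι T x ≫ v at hx
    have h1 : ptι T x ≫ pair hrep u v h = (ptι T x ≫ u) ≫ diag hrep := by
      rw [comp_pair, ← pair_self]
      congr 1
      exact hx.symm
    have h2 := congrArg (fun f => f.left (IsLocalRing.closedPoint _)) h1
    simp only [Over.comp_left, Scheme.Hom.comp_apply] at h2
    change (pair hrep u v h).left x ∈ Set.range (diag hrep).left
    have h3 : (ptι T x).left (IsLocalRing.closedPoint _) = x :=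
      Scheme.fromSpecResidueField_apply _ _
    rw [h3] at h2
    rw [h2]
    exact ⟨_, rfl⟩
  · intro hx
    change (pair hrep u v h).left x ∈ Set.range (diag hrep).left at hx
    haveI := isOpenImmersion_diag hrep ha
    have hr : Set.range ((ptι T x).left ≫ (pair hrep u v h).left) ⊆ Set.range (diag hrep).left := by
      rintro _ ⟨t, rfl⟩
      rw [Scheme.Hom.comp_apply]
      have : (ptι T x).left t = x := Scheme.fromSpecResidueField_apply _ _
      rw [this]
      exact hx
    have hl := IsOpenImmersion.lift_fac (diag hrep).left _ hr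
    set ℓ := IsOpenImmersion.lift (diag hrep).left _ hr
    have h1 : (diag hrep).left ≫ (p1 hrep).left = 𝟙 _ := by
      rw [← Over.comp_left, diag, pair_p1]; rfl
    have h2 : (diag hrep).left ≫ (p2 hrep).left = 𝟙 _ := diag_left_p2 hrep
    change ptι T x ≫ u = ptι T x ≫ v
    apply Over.OverMorphism.ext
    rw [Over.comp_left, Over.comp_left]
    have e1 : (ptι T x).left ≫ u.left = ℓ := by
      have : u.left = (pair hrep u v h).left ≫ (p1 hrep).left := by
        rw [← Over.comp_left, pair_p1]
      rw [this, ← Category.assoc, ← hl, Category.assoc, h1, Category.comp_id]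
    have e2 : (ptι T x).left ≫ v.left = ℓ := by
      have : v.left = (pair hrep u v h).left ≫ (p2 hrep).left := by
        rw [← Over.comp_left, pair_p2]
      rw [this, ← Category.assoc, ← hl, Category.assoc, h2, Category.comp_id]
    rw [e1, e2]

include hrep in
theorem isClopen_eqLoc (hae : RepWith @Etale a) (has : RepWith @IsSeparated a) {T : Over S}
    (u v : T ⟶ U) (h : (yon S).map u ≫ a = (yon S).map v ≫ a) : IsClopen (eqLoc u v) := by
  rw [eqLoc_eq_preimage hrep hae u v h]
  haveI := isOpenImmersion_diag hrep hae
  haveI := isClosedImmersion_diag hrep has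
  exact ⟨(diag hrep).left.isClosedEmbedding.isClosed_range.preimage (pair hrep u v h).left.continuous,
    (diag hrep).left.isOpenEmbedding.isOpen_range.preimage (pair hrep u v h).left.continuous⟩

include hrep in
theorem eqLoc_comp (hae : RepWith @Etale a) {T T' : Over S} (f : T' ⟶ T)
    (u v : T ⟶ U) (h : (yon S).map u ≫ a = (yon S).map v ≫ a) :
    eqLoc (f ≫ u) (f ≫ v) = f.left ⁻¹' eqLoc u v := by
  rw [eqLoc_eq_preimage hrep hae u v h, eqLoc_eq_preimage hrep hae (f ≫ u) (f ≫ v) (by
    rw [Functor.map_comp, Functor.map_comp, Category.assoc, Category.assoc, h]),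
    ← comp_pair hrep f u v h, Over.comp_left]
  rfl

include hrep in
theorem eq_of_eqLoc_eq_univ (hae : RepWith @Etale a) {T : Over S} (u v : T ⟶ U)
    (h : (yon S).map u ≫ a = (yon S).map v ≫ a) (he : eqLoc u v = Set.univ) : u = v := by
  rw [eqLoc_eq_preimage hrep hae u v h] at he
  haveI := isOpenImmersion_diag hrep hae
  have hr : Set.range (pair hrep u v h).left ⊆ Set.range (diag hrep).left := by
    rintro _ ⟨t, rfl⟩
    have : t ∈ (pair hrep u v h).left ⁻¹' Set.range (diag hrep).left := by rw [he]; trivial
    exact this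
  have hl := IsOpenImmersion.lift_fac (diag hrep).left _ hr
  set ℓ := IsOpenImmersion.lift (diag hrep).left _ hr
  have h1 : (diag hrep).left ≫ (p1 hrep).left = 𝟙 _ := by
    rw [← Over.comp_left, diag, pair_p1]; rfl
  have h2 : (diag hrep).left ≫ (p2 hrep).left = 𝟙 _ := diag_left_p2 hrep
  apply Over.OverMorphism.ext
  have e1 : u.left = ℓ := by
    have : u.left = (pair hrep u v h).left ≫ (p1 hrep).left := by
      rw [← Over.comp_left, pair_p1]
    rw [this, ← hl, Category.assoc, h1, Category.comp_id]
  have e2 : v.left = ℓ := by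
    have : v.left = (pair hrep u v h).left ≫ (p2 hrep).left := by
      rw [← Over.comp_left, pair_p2]
    rw [this, ← hl, Category.assoc, h2, Category.comp_id]
  rw [e1, e2]

include hrep in
/-- On a one-point scheme, two points over the same point of `X` are equal or disjoint. -/
theorem eq_or_eqLoc_eq_empty (hae : RepWith @Etale a) {T : Over S} [Subsingleton ↥T.left]
    (u v : T ⟶ U) (h : (yon S).map u ≫ a = (yon S).map v ≫ a) : u = v ∨ eqLoc u v = ∅ := by
  by_cases hne : (eqLoc u v).Nonempty
  · left
    apply eq_of_eqLoc_eq_univ hrep hae u v h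
    obtain ⟨x, hx⟩ := hne
    ext y
    simp only [Set.mem_univ, iff_true]
    rwa [Subsingleton.elim y x]
  · right
    exact Set.not_nonempty_iff_eq_empty.1 hne

end Groth.Agent.Lib.Helper3.FibPow
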