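import Mathlib
import Groth.Prelude.Def_AlgSpDec
import Groth.Agent.Lib.Helper3.FibPowB

set_option autoImplicit false
universe u
open CategoryTheory CategoryTheory.Limits AlgebraicGeometry Opposite
open AlgSp

namespace Groth.Agent.Lib.Helper3.FibPow

set_option backward.isDefEq.respectTransparency false

variable {S : Scheme.{u}} {X : Sp S} {U : Over S}

/-- An `(n+1)`-fold fibre power of `U` over `X`, with its universal property. -/
structure FP (a : (yon S).obj U ⟶ X) (n : ℕ) where
  B : Over S
  pr : Fin (n + 1) → (B ⟶ U)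
  hpr : ∀ i j, (yon S).map (pr i) ≫ a = (yon S).map (pr j) ≫ a
  lift : ∀ {T : Over S} (t : Fin (n + 1) → (T ⟶ U)),
    (∀ i j, (yon S).map (t i) ≫ a = (yon S).map (t j) ≫ a) → (T ⟶ B)
  lift_pr : ∀ {T : Over S} (t : Fin (n + 1) → (T ⟶ U))
    (h : ∀ i j, (yon S).map (t i) ≫ a = (yon S).map (t j) ≫ a) (i : Fin (n + 1)),
    lift t h ≫ pr i = t i
  hom_ext : ∀ {T : Over S} (f g : T ⟶ B), (∀ i, f ≫ pr i = g ≫ pr i) → f = g
  et : ∀ i, Etale (pr i).left
  sep : ∀ i, IsSeparated (pr i).left

variable {a : (yon S).obj U ⟶ X}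

namespace FP

/-- The one-fold fibre power. -/
noncomputable def zero : FP a 0 where
  B := U
  pr _ := 𝟙 U
  hpr _ _ := rfl
  lift t _ := t 0
  lift_pr t h i := by
    have hi : i = 0 := Fin.fin_one_eq_zero i
    rw [Category.comp_id, hi]
  hom_ext f g h := by
    have := h 0
    rwa [Category.comp_id, Category.comp_id] at this
  et _ := inferInstanceAs (Etale (𝟙 U.left))
  sep _ := inferInstanceAs (IsSeparated (𝟙 U.left))

variable {n : ℕ} (P : FP a n)

/-- The structure map of a fibre power to `X`. -/
noncomputable def π : (yon S).obj P.B ⟶ X := (yon S).map (P.pr 0) ≫ a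

theorem π_eq (i : Fin (n + 1)) : (yon S).map (P.pr i) ≫ a = P.π := P.hpr i 0

theorem comp_lift {T T' : Over S} (f : T' ⟶ T) (t : Fin (n + 1) → (T ⟶ U))
    (h : ∀ i j, (yon S).map (t i) ≫ a = (yon S).map (t j) ≫ a) :
    f ≫ P.lift t h = P.lift (fun i => f ≫ t i) (fun i j => by
      rw [Functor.map_comp, Functor.map_comp, Category.assoc, Category.assoc, h i j]) := by
  apply P.hom_ext
  intro i
  rw [Category.assoc, P.lift_pr, P.lift_pr]

theorem compat_comp {T : Over S} (f : T ⟶ P.B) (i j : Fin (n + 1)) :
    (yon S).map (f ≫ P.pr i) ≫ a = (yon S).map (f ≫ P.pr j) ≫ a := by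
  rw [Functor.map_comp, Functor.map_comp, Category.assoc, Category.assoc, P.hpr i j]

theorem repWith_etale_π (hae : RepWith @Etale a) : RepWith @Etale P.π := by
  haveI := P.et 0
  exact MorphismProperty.comp_mem _ _ _ ((repWith_yon_map_iff @Etale (P.pr 0)).2 inferInstance) hae

theorem repWith_isSeparated_π (has : RepWith @IsSeparated a) : RepWith @IsSeparated P.π := by
  haveI := P.sep 0
  exact MorphismProperty.comp_mem _ _ _
    ((repWith_yon_map_iff @IsSeparated (P.pr 0)).2 inferInstance) has

variable (hrep : Representable a)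

/-- The next fibre power. -/
noncomputable def succ (hae : RepWith @Etale a) (has : RepWith @IsSeparated a) : FP a (n + 1) where
  B := hrep.pullback P.π
  pr := Fin.cons (hrep.fst' P.π) (fun i => hrep.snd P.π ≫ P.pr i)
  hpr := by
    have key : ∀ i : Fin (n + 2), (yon S).map ((Fin.cons (hrep.fst' P.π)
        (fun i => hrep.snd P.π ≫ P.pr i) : Fin (n + 2) → (hrep.pullback P.π ⟶ U)) i) ≫ a =
        (yon S).map (hrep.fst' P.π) ≫ a := by
      intro i
      cases i using Fin.cases with
      | zero => rfl
      | succ i =>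
        rw [Fin.cons_succ, Functor.map_comp, Category.assoc, P.π_eq i]
        exact (hrep.isPullback' P.π).w.symm
    intro i j
    rw [key i, key j]
  lift {T} t h := hrep.lift' (t 0) (P.lift (fun i => t i.succ) (fun i j => h _ _)) (by
    change _ = _ ≫ (yon S).map (P.pr 0) ≫ a
    rw [← Category.assoc, ← Functor.map_comp, P.lift_pr]
    exact h _ _)
  lift_pr {T} t h i := by
    cases i using Fin.cases with
    | zero => exact hrep.lift'_fst _ _ _
    | succ i =>
      rw [Fin.cons_succ, ← Category.assoc, hrep.lift'_snd, P.lift_pr]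
  hom_ext {T} f g h := by
    apply hrep.hom_ext'
    · exact h 0
    · apply P.hom_ext
      intro i
      have := h i.succ
      rw [Fin.cons_succ] at this
      rw [Category.assoc, Category.assoc]
      exact this
  et := by
    intro i
    cases i using Fin.cases with
    | zero =>
      exact ((repWith_iff _ _).1 (P.repWith_etale_π hae)).2 a _ _ (hrep.isPullback' P.π).flip
    | succ i =>
      rw [Fin.cons_succ, Over.comp_left]
      haveI : Etale (hrep.snd P.π).left := ((repWith_iff _ _).1 hae).2 P.π _ _ (hrep.isPullback' P.π)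
      haveI := P.et i
      infer_instance
  sep := by
    intro i
    cases i using Fin.cases with
    | zero =>
      exact ((repWith_iff _ _).1 (P.repWith_isSeparated_π has)).2 a _ _ (hrep.isPullback' P.π).flip
    | succ i =>
      rw [Fin.cons_succ, Over.comp_left]
      haveI : IsSeparated (hrep.snd P.π).left :=
        ((repWith_iff _ _).1 has).2 P.π _ _ (hrep.isPullback' P.π)
      haveI := P.sep i
      infer_instance

end FP

/-- The tower of fibre powers. -/
noncomputable def fp (hrep : Representable a) (hae : RepWith @Etale a)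
    (has : RepWith @IsSeparated a) : ∀ n : ℕ, FP a n
  | 0 => FP.zero
  | n + 1 => (fp hrep hae has n).succ hrep hae has

end Groth.Agent.Lib.Helper3.FibPow
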