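import Mathlib
import Groth.Prelude.Def_AlgSpDec
import Groth.Agent.Lib.Helper3.FibPowC

set_option autoImplicit false
universe u
open CategoryTheory CategoryTheory.Limits AlgebraicGeometry Opposite
open AlgSp

namespace Groth.Agent.Lib.Helper3.FibPow

set_option backward.isDefEq.respectTransparency false

variable {S : Scheme.{u}} {X : Sp S} {U : Over S}

/-- The standing hypotheses on the chart. -/
structure Ctx (a : (yon S).obj U ⟶ X) : Prop where
  rep : Representable a
  et : RepWith @Etale a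
  sep : RepWith @IsSeparated a

variable {a : (yon S).obj U ⟶ X} {n : ℕ}

namespace FP

variable (P : FP a n)

/-- The locus of pairwise distinct tuples. -/
def confSet : Set ↥P.B.left :=
  ⋂ (i : Fin (n + 1)) (j : Fin (n + 1)) (_ : i ≠ j), (eqLoc (P.pr i) (P.pr j))ᶜ

theorem mem_confSet (x : ↥P.B.left) :
    x ∈ P.confSet ↔ ∀ i j, i ≠ j → x ∉ eqLoc (P.pr i) (P.pr j) := by
  simp [confSet]

variable (c : Ctx a)

include c in
theorem isClopen_confSet : IsClopen P.confSet := by
  refine isClopen_iInter_of_finite fun i => isClopen_iInter_of_finite fun j => ?_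
  by_cases h : i ≠ j
  · simp only [h, ne_eq, not_false_eq_true, Set.iInter_true]
    exact (isClopen_eqLoc c.rep c.et c.sep _ _ (P.hpr i j)).compl
  · simp only [h, Set.iInter_of_empty]
    exact isClopen_univ

/-- The open subscheme of pairwise distinct tuples. -/
def conf : P.B.left.Opens := ⟨P.confSet, (P.isClopen_confSet c).2⟩

/-- The configuration scheme. -/
noncomputable def W : Over S := Over.mk ((P.conf c).ι ≫ P.B.hom)

noncomputable def Wι : P.W c ⟶ P.B := Over.homMk (P.conf c).ι rfl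

instance : IsOpenImmersion (P.Wι c).left := inferInstanceAs (IsOpenImmersion (P.conf c).ι)

instance : Mono (P.Wι c) := by
  haveI : Mono ((Over.forget S).map (P.Wι c)) := inferInstanceAs (Mono (P.conf c).ι)
  exact (Over.forget S).mono_of_mono_map inferInstance

noncomputable def wpr (i : Fin (n + 1)) : P.W c ⟶ U := P.Wι c ≫ P.pr i

theorem hwpr (i j : Fin (n + 1)) : (yon S).map (P.wpr c i) ≫ a = (yon S).map (P.wpr c j) ≫ a :=
  P.compat_comp _ i j

theorem range_Wι : Set.range (P.Wι c).left = P.confSet := by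
  change Set.range (P.conf c).ι = _
  rw [Scheme.Opens.range_ι]
  rfl

theorem eqLoc_comp_wpr {T : Over S} (f : T ⟶ P.W c) (i j : Fin (n + 1)) (hij : i ≠ j) :
    eqLoc (f ≫ P.wpr c i) (f ≫ P.wpr c j) = ∅ := by
  have h1 : f ≫ P.wpr c i = (f ≫ P.Wι c) ≫ P.pr i := by rw [wpr, Category.assoc]
  have h2 : f ≫ P.wpr c j = (f ≫ P.Wι c) ≫ P.pr j := by rw [wpr, Category.assoc]
  rw [h1, h2, eqLoc_comp c.rep c.et _ _ _ (P.hpr i j)]
  ext x
  simp only [Set.mem_preimage, Set.mem_empty_iff_false, iff_false]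
  have hx : (f ≫ P.Wι c).left x ∈ P.confSet := by
    rw [← P.range_Wι c, Over.comp_left, Scheme.Hom.comp_apply]
    exact ⟨_, rfl⟩
  exact (P.mem_confSet _).1 hx i j hij

theorem eqLoc_wpr (i j : Fin (n + 1)) (hij : i ≠ j) : eqLoc (P.wpr c i) (P.wpr c j) = ∅ := by
  have := P.eqLoc_comp_wpr c (𝟙 _) i j hij
  rwa [Category.id_comp, Category.id_comp] at this

theorem range_lift_subset {T : Over S} (t : Fin (n + 1) → (T ⟶ U))
    (h : ∀ i j, (yon S).map (t i) ≫ a = (yon S).map (t j) ≫ a)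
    (hd : ∀ i j, i ≠ j → eqLoc (t i) (t j) = ∅) :
    Set.range (P.lift t h).left ⊆ Set.range (P.conf c).ι := by
  rw [Scheme.Opens.range_ι]
  rintro _ ⟨x, rfl⟩
  change _ ∈ P.confSet
  rw [mem_confSet]
  intro i j hij hx
  have h1 := eqLoc_comp c.rep c.et (P.lift t h) _ _ (P.hpr i j)
  rw [P.lift_pr, P.lift_pr, hd i j hij] at h1
  have : x ∈ (P.lift t h).left ⁻¹' eqLoc (P.pr i) (P.pr j) := hx
  rw [← h1] at this
  exact this

/-- The universal property of the configuration scheme. -/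
noncomputable def Wlift {T : Over S} (t : Fin (n + 1) → (T ⟶ U))
    (h : ∀ i j, (yon S).map (t i) ≫ a = (yon S).map (t j) ≫ a)
    (hd : ∀ i j, i ≠ j → eqLoc (t i) (t j) = ∅) : T ⟶ P.W c :=
  Over.homMk (IsOpenImmersion.lift (P.conf c).ι (P.lift t h).left (P.range_lift_subset c t h hd)) (by
    change _ ≫ (P.conf c).ι ≫ P.B.hom = T.hom
    rw [← Category.assoc, IsOpenImmersion.lift_fac, Over.w])

theorem Wlift_Wι {T : Over S} (t : Fin (n + 1) → (T ⟶ U))
    (h : ∀ i j, (yon S).map (t i) ≫ a = (yon S).map (t j) ≫ a)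
    (hd : ∀ i j, i ≠ j → eqLoc (t i) (t j) = ∅) : P.Wlift c t h hd ≫ P.Wι c = P.lift t h := by
  apply Over.OverMorphism.ext
  exact IsOpenImmersion.lift_fac _ _ _

theorem Wlift_wpr {T : Over S} (t : Fin (n + 1) → (T ⟶ U))
    (h : ∀ i j, (yon S).map (t i) ≫ a = (yon S).map (t j) ≫ a)
    (hd : ∀ i j, i ≠ j → eqLoc (t i) (t j) = ∅) (i : Fin (n + 1)) :
    P.Wlift c t h hd ≫ P.wpr c i = t i := by
  rw [wpr, ← Category.assoc, Wlift_Wι, P.lift_pr]

theorem W_hom_ext {T : Over S} (f g : T ⟶ P.W c) (h : ∀ i, f ≫ P.wpr c i = g ≫ P.wpr c i) :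
    f = g := by
  rw [← cancel_mono (P.Wι c)]
  apply P.hom_ext
  intro i
  rw [Category.assoc, Category.assoc]
  exact h i

/-- The structure map of the configuration scheme to `X`. -/
noncomputable def wπ : (yon S).obj (P.W c) ⟶ X := (yon S).map (P.Wι c) ≫ P.π

theorem wπ_eq (i : Fin (n + 1)) : (yon S).map (P.wpr c i) ≫ a = P.wπ c := by
  rw [wpr, Functor.map_comp, Category.assoc, P.π_eq, wπ]

/-- The permutation action on the configuration scheme. -/
noncomputable def perm (σ : Equiv.Perm (Fin (n + 1))) : P.W c ⟶ P.W c :=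
  P.Wlift c (fun i => P.wpr c (σ.symm i)) (fun i j => P.hwpr c _ _)
    (fun i j hij => P.eqLoc_wpr c _ _ (fun h => hij (σ.symm.injective h)))

theorem perm_wpr (σ : Equiv.Perm (Fin (n + 1))) (i : Fin (n + 1)) :
    P.perm c σ ≫ P.wpr c i = P.wpr c (σ.symm i) := P.Wlift_wpr c _ _ _ i

theorem perm_one : P.perm c 1 = 𝟙 _ := by
  apply P.W_hom_ext c
  intro i
  rw [perm_wpr, Category.id_comp]
  rfl

theorem perm_mul (σ τ : Equiv.Perm (Fin (n + 1))) :
    P.perm c (σ * τ) = P.perm c τ ≫ P.perm c σ := by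
  apply P.W_hom_ext c
  intro i
  rw [perm_wpr, Category.assoc, perm_wpr, perm_wpr]
  rfl

theorem perm_wπ (σ : Equiv.Perm (Fin (n + 1))) : (yon S).map (P.perm c σ) ≫ P.wπ c = P.wπ c := by
  rw [← P.wπ_eq c 0, ← Category.assoc, ← Functor.map_comp, perm_wpr, P.wπ_eq, P.wπ_eq]

/-- The automorphism defined by a permutation. -/
noncomputable def permIso (σ : Equiv.Perm (Fin (n + 1))) : P.W c ≅ P.W c where
  hom := P.perm c σ
  inv := P.perm c σ⁻¹
  hom_inv_id := by rw [← perm_mul, inv_mul_cancel, perm_one]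
  inv_hom_id := by rw [← perm_mul, mul_inv_cancel, perm_one]

/-- The action of the symmetric group. -/
noncomputable def ρ : ULift.{u} (Equiv.Perm (Fin (n + 1))) →* Aut (P.W c) where
  toFun σ := P.permIso c σ.down
  map_one' := by
    apply Iso.ext
    exact P.perm_one c
  map_mul' σ τ := by
    apply Iso.ext
    exact P.perm_mul c σ.down τ.down

theorem ρ_hom (σ : ULift.{u} (Equiv.Perm (Fin (n + 1)))) : (P.ρ c σ).hom = P.perm c σ.down := rfl

/-- The action is free. -/
theorem free (σ : ULift.{u} (Equiv.Perm (Fin (n + 1)))) (x : ↥(P.W c).left) (hσ : σ ≠ 1) :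
    (P.W c).left.fromSpecResidueField x ≫ (P.ρ c σ).hom.left ≠
      (P.W c).left.fromSpecResidueField x := by
  intro h
  have hσ' : σ.down ≠ 1 := fun h' => hσ (ULift.ext _ _ h')
  obtain ⟨i, hi⟩ : ∃ i, σ.down.symm i ≠ i := by
    by_contra hcon
    push Not at hcon
    apply hσ'
    ext i
    have := hcon (σ.down i)
    rw [Equiv.symm_apply_apply] at this
    rw [← this]; rfl
  have h1 : ptι (P.W c) x ≫ P.perm c σ.down = ptι (P.W c) x := by
    apply Over.OverMorphism.ext
    exact h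
  have h2 : x ∈ eqLoc (P.wpr c (σ.down.symm i)) (P.wpr c i) := by
    change ptι (P.W c) x ≫ _ = ptι (P.W c) x ≫ _
    rw [← perm_wpr, ← Category.assoc, h1]
  rw [P.eqLoc_wpr c _ _ hi] at h2
  exact h2

end FP

end Groth.Agent.Lib.Helper3.FibPow
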