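import Mathlib
import Groth.Prelude.Def_AlgSpDec
import Groth.Agent.Lib.Helper3.FibPowD
import Groth.Agent.S9889
import Groth.Agent.Lib.Helper23.SplitFinite

set_option autoImplicit false
universe u
open CategoryTheory CategoryTheory.Limits AlgebraicGeometry Opposite
open AlgSp

namespace Groth.Agent.Lib.Helper3.FibPow

set_option backward.isDefEq.respectTransparency false

variable {S : Scheme.{u}} {X : Sp S} {U : Over S} {a : (yon S).obj U ⟶ X} {n : ℕ}

namespace FP

variable (P : FP a n) (c : Ctx a)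

/-- The scheme `G × W` for the symmetric group `G`. -/
noncomputable def RR : Over S :=
  Over.mk (Limits.Sigma.desc (fun _ : Equiv.Perm (Fin (n + 1)) => (P.W c).hom))

noncomputable def rinj (σ : Equiv.Perm (Fin (n + 1))) : P.W c ⟶ P.RR c :=
  Over.homMk (Limits.Sigma.ι (fun _ : Equiv.Perm (Fin (n + 1)) => (P.W c).left) σ) (by
    change _ ≫ Limits.Sigma.desc _ = _
    rw [Sigma.ι_desc])

noncomputable def cof : Cofan (fun _ : ULift.{u} (Equiv.Perm (Fin (n + 1))) => P.W c) :=
  Cofan.mk (P.RR c) (fun σ => P.rinj c σ.down)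

noncomputable def isColimitCof : IsColimit (P.cof c) :=
  mkCofanColimit _
    (fun t => Over.homMk (Limits.Sigma.desc fun σ => (t.inj ⟨σ⟩).left) (by
      change _ ≫ t.pt.hom = Limits.Sigma.desc _
      refine Limits.Sigma.hom_ext _ _ fun σ => ?_
      rw [← Category.assoc, Sigma.ι_desc, Sigma.ι_desc, Over.w]))
    (fun t σ => by
      apply Over.OverMorphism.ext
      change Limits.Sigma.ι _ σ.down ≫ Limits.Sigma.desc _ = _
      rw [Sigma.ι_desc])
    (fun t m hm => by
      apply Over.OverMorphism.ext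
      change m.left = Limits.Sigma.desc _
      refine Limits.Sigma.hom_ext _ _ fun σ => ?_
      rw [Sigma.ι_desc, ← hm ⟨σ⟩]
      rfl)

noncomputable def sR : P.RR c ⟶ P.W c :=
  Over.homMk (Limits.Sigma.desc fun _ => 𝟙 _) (by
    change _ = Limits.Sigma.desc _
    refine Limits.Sigma.hom_ext _ _ fun σ => ?_
    rw [← Category.assoc, Sigma.ι_desc, Sigma.ι_desc, Category.id_comp])

noncomputable def tR : P.RR c ⟶ P.W c :=
  Over.homMk (Limits.Sigma.desc fun σ => (P.perm c σ).left) (by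
    change _ = Limits.Sigma.desc _
    refine Limits.Sigma.hom_ext _ _ fun σ => ?_
    rw [← Category.assoc, Sigma.ι_desc, Sigma.ι_desc, Over.w])

theorem rinj_sR (σ : Equiv.Perm (Fin (n + 1))) : P.rinj c σ ≫ P.sR c = 𝟙 _ := by
  apply Over.OverMorphism.ext
  change Limits.Sigma.ι _ σ ≫ Limits.Sigma.desc _ = _
  rw [Sigma.ι_desc]; rfl

theorem rinj_tR (σ : Equiv.Perm (Fin (n + 1))) : P.rinj c σ ≫ P.tR c = P.perm c σ := by
  apply Over.OverMorphism.ext
  change Limits.Sigma.ι _ σ ≫ Limits.Sigma.desc _ = _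
  rw [Sigma.ι_desc]

theorem isEtaleEqvRel : IsEtaleEqvRel (P.sR c) (P.tR c) :=
  Groth.Agent.S9889.result S (P.W c) (ULift.{u} (Equiv.Perm (Fin (n + 1)))) (P.ρ c)
    (fun σ x hσ => P.free c σ x hσ) (P.cof c) (P.isColimitCof c) (P.sR c) (P.tR c)
    (fun σ => P.rinj_sR c σ.down) (fun σ => P.rinj_tR c σ.down)

instance isFinite_sR : IsFinite (P.sR c).left :=
  Groth.Agent.Lib.Helper23.SplitFinite.isFinite_sigmaDesc _ _ _ (fun _ => inferInstance)

instance etale_sR : Etale (P.sR c).left := (P.isEtaleEqvRel c).etale_left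

instance etale_tR : Etale (P.tR c).left := (P.isEtaleEqvRel c).etale_right

theorem exists_rinj_eq (r : ↥(P.RR c).left) :
    ∃ (σ : Equiv.Perm (Fin (n + 1))) (y : ↥(P.W c).left), (P.rinj c σ).left y = r := by
  obtain ⟨σ, y, hy⟩ := Groth.Agent.Lib.Helper15.CofanSch.exists_inj_eq
    (Groth.Agent.S9889.W1.hcL (P.isColimitCof c)) r
  exact ⟨σ.down, y, hy⟩

end FP

end Groth.Agent.Lib.Helper3.FibPow
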