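import Mathlib
import Groth.Agent.Lib.Helper3.ImmFpqcDesc
import Groth.Agent.Lib.Helper3.FpqcDescInst

set_option autoImplicit false
universe u

namespace Groth.Agent.Lib.Helper3.GQ

open CategoryTheory CategoryTheory.Limits AlgebraicGeometry

variable {U M B : Scheme.{u}} (m : U ⟶ M) (g : M ⟶ B)

/-- Quasi-separatedness descends to the target of a finite flat surjective morphism. -/
theorem quasiSeparated_of_finite_cover [Surjective m] [QuasiCompact m]
    [QuasiSeparated (m ≫ g)] : QuasiSeparated g := by
  have sq := pullback_map_diagonal_isPullback m m g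
  set J := pullback.map m m (m ≫ g) (m ≫ g) (𝟙 U) (𝟙 U) g (Category.id_comp _).symm
    (Category.id_comp _).symm with hJ
  set mm := pullback.map (m ≫ g) (m ≫ g) g g m m (𝟙 B) (Category.comp_id _) (Category.comp_id _)
    with hmm
  have hJsnd : J ≫ pullback.snd (m ≫ g) (m ≫ g) = pullback.snd m m := by
    rw [hJ, pullback.lift_snd, Category.comp_id]
  haveI : QuasiCompact (J ≫ pullback.snd (m ≫ g) (m ≫ g)) := by
    rw [hJsnd]; infer_instance
  haveI : QuasiCompact J := QuasiCompact.of_comp J (pullback.snd (m ≫ g) (m ≫ g))
  haveI : Surjective mm :=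
    MorphismProperty.pullbackMap (P := @Surjective) inferInstance inferInstance rfl rfl
  haveI : QuasiCompact mm :=
    MorphismProperty.pullbackMap (P := @QuasiCompact) inferInstance inferInstance rfl rfl
  rw [quasiSeparated_iff]
  exact ImmDesc.quasiCompact_of_isPullback sq.flip

/-- Separatedness descends to the target of a finite flat surjective morphism. -/
theorem isSeparated_of_finite_cover [Surjective m] [Flat m] [IsFinite m]
    [IsSeparated (m ≫ g)] : IsSeparated g := by
  have sq := pullback_map_diagonal_isPullback m m g
  set J := pullback.map m m (m ≫ g) (m ≫ g) (𝟙 U) (𝟙 U) g (Category.id_comp _).symm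
    (Category.id_comp _).symm with hJ
  set mm := pullback.map (m ≫ g) (m ≫ g) g g m m (𝟙 B) (Category.comp_id _) (Category.comp_id _)
    with hmm
  have hJsnd : J ≫ pullback.snd (m ≫ g) (m ≫ g) = pullback.snd m m := by
    rw [hJ, pullback.lift_snd, Category.comp_id]
  haveI : IsFinite (J ≫ pullback.snd (m ≫ g) (m ≫ g)) := by
    rw [hJsnd]; infer_instance
  haveI : IsFinite J := IsFinite.of_comp J (pullback.snd (m ≫ g) (m ≫ g))
  haveI : Mono J := by
    have : Mono (pullback.diagonal g) := inferInstance
    exact MorphismProperty.of_isPullback (P := MorphismProperty.monomorphisms Scheme.{u}) sq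
      (MorphismProperty.monomorphisms.infer_property _)
  haveI : IsClosedImmersion J := (IsClosedImmersion.iff_isFinite_and_mono J).mpr ⟨inferInstance, inferInstance⟩
  have hmmS : Surjective mm :=
    MorphismProperty.pullbackMap (P := @Surjective) inferInstance inferInstance rfl rfl
  have hmmF : Flat mm :=
    MorphismProperty.pullbackMap (P := @Flat) inferInstance inferInstance rfl rfl
  have hmmQ : QuasiCompact mm :=
    MorphismProperty.pullbackMap (P := @QuasiCompact) inferInstance inferInstance rfl rfl
  rw [isSeparated_iff]
  exact MorphismProperty.of_isPullback_of_descendsAlong (P := @IsClosedImmersion)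
    (Q := @Surjective ⊓ @Flat ⊓ @QuasiCompact) sq.flip ⟨⟨hmmS, hmmF⟩, hmmQ⟩ inferInstance

end Groth.Agent.Lib.Helper3.GQ
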