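import Mathlib
import Groth.Prelude.Def_AlgSpDec
import Groth.Agent.Lib.Helper3.FibPowE
import Groth.Agent.Lib.Helper3.GQQuotGlue
import Groth.Agent.Lib.Helper3.QFAff
import Groth.Agent.Lib.Helper3.FinFib
import Groth.Agent.Lib.Helper3.EtSrcLocalUnram
import Groth.Agent.Lib.Helper3.GQSep
import Groth.Agent.Lib.Helper3.SchImMain
import Groth.Agent.Lib.Helper4.GrpdAffOpen

set_option autoImplicit false
universe u
open CategoryTheory CategoryTheory.Limits AlgebraicGeometry Opposite
open AlgSp
open Groth.Agent.Lib.Helper3 Groth.Agent.Lib.Helper4 Groth.Agent.Lib.Helper3.GQ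

namespace Groth.Agent.Lib.Helper3.FibPow

set_option backward.isDefEq.respectTransparency false

variable {S : Scheme.{u}} {X : Sp S} {U : Over S} {a : (yon S).obj U ⟶ X} {n : ℕ}

namespace FP

variable (P : FP a n) (c : Ctx a)

theorem RR_hom_ext {Z : Over S} (f g : P.RR c ⟶ Z)
    (h : ∀ σ, P.rinj c σ ≫ f = P.rinj c σ ≫ g) : f = g :=
  Cofan.IsColimit.hom_ext (P.isColimitCof c) f g (fun σ => h σ.down)

noncomputable def RRdesc {Z : Over S} (f : Equiv.Perm (Fin (n + 1)) → (P.W c ⟶ Z)) : P.RR c ⟶ Z :=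
  Cofan.IsColimit.desc (P.isColimitCof c) (fun σ => f σ.down)

theorem rinj_RRdesc {Z : Over S} (f : Equiv.Perm (Fin (n + 1)) → (P.W c ⟶ Z))
    (σ : Equiv.Perm (Fin (n + 1))) : P.rinj c σ ≫ P.RRdesc c f = f σ :=
  Cofan.IsColimit.fac (P.isColimitCof c) (fun σ => f σ.down) ⟨σ⟩

theorem tR_wπ : (yon S).map (P.tR c) ≫ P.wπ c = (yon S).map (P.sR c) ≫ P.wπ c := by
  let ψ : P.RR c ⟶ R2 c.rep := P.RRdesc c (fun σ =>
    pair c.rep (P.perm c σ ≫ P.wpr c 0) (P.wpr c 0) (by
      rw [Functor.map_comp, Category.assoc, P.wπ_eq c 0, P.perm_wπ]))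
  have h1 : ψ ≫ p1 c.rep = P.tR c ≫ P.wpr c 0 := by
    apply P.RR_hom_ext c
    intro σ
    rw [← Category.assoc, ← Category.assoc, P.rinj_RRdesc, pair_p1, P.rinj_tR]
  have h2 : ψ ≫ p2 c.rep = P.sR c ≫ P.wpr c 0 := by
    apply P.RR_hom_ext c
    intro σ
    rw [← Category.assoc, ← Category.assoc, P.rinj_RRdesc, pair_p2, P.rinj_sR, Category.id_comp]
  rw [← P.wπ_eq c 0, ← Category.assoc, ← Category.assoc, ← Functor.map_comp, ← Functor.map_comp,
    ← h1, ← h2, Functor.map_comp, Functor.map_comp, Category.assoc, Category.assoc, (kp c.rep).w]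

theorem repWith_etale_wπ : RepWith @Etale (P.wπ c) := by
  refine MorphismProperty.comp_mem _ _ _ ?_ (P.repWith_etale_π c.et)
  exact (repWith_yon_map_iff @Etale (P.Wι c)).2 (inferInstanceAs (Etale (P.conf c).ι))

instance etale_wpr (i : Fin (n + 1)) : Etale (P.wpr c i).left := by
  haveI := P.et i
  exact inferInstanceAs (Etale ((P.conf c).ι ≫ (P.pr i).left))

instance isSeparated_wpr (i : Fin (n + 1)) : IsSeparated (P.wpr c i).left := by
  haveI := P.sep i
  exact inferInstanceAs (IsSeparated ((P.conf c).ι ≫ (P.pr i).left))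

theorem isSeparated_W [U.left.IsSeparated] : (P.W c).left.IsSeparated := by
  rw [Scheme.isSeparated_iff]
  have : terminal.from (P.W c).left = (P.wpr c 0).left ≫ terminal.from U.left :=
    Subsingleton.elim _ _
  rw [this]
  haveI : IsSeparated (terminal.from U.left) := (Scheme.isSeparated_iff _).1 inferInstance
  infer_instance

/-- **The quotient of the configuration scheme by the symmetric group.** -/
theorem exists_quotient [IsAffine U.left] (hX : IsAlgSpace X) :
    ∃ (M : Over S) (m : P.W c ⟶ M) (f0 : (yon S).obj M ⟶ X),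
      IsFinite m.left ∧ Etale m.left ∧ Surjective m.left ∧ (∀ σ, P.perm c σ ≫ m = m) ∧
      (yon S).map m ≫ f0 = P.wπ c ∧ RepWith @Etale f0 ∧ M.left.IsSeparated := by
  have heq : IsEqvRel (P.sR c) (P.tR c) := (P.isEtaleEqvRel c).toIsEqvRel
  let 𝒢 := ofEqvRel (P.sR c) (P.tR c) heq
  haveI : IsFinite 𝒢.s := P.isFinite_sR c
  haveI : Flat 𝒢.s := inferInstanceAs (Flat (P.sR c).left)
  haveI : LocallyOfFinitePresentation 𝒢.s :=
    inferInstanceAs (LocallyOfFinitePresentation (P.sR c).left)
  haveI : LocallyQuasiFinite (P.wpr c 0).left := locallyQuasiFinite_of_etale _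
  have hcov : ∀ u : ↥(P.W c).left, ∃ V : (P.W c).left.Opens, IsAffineOpen V ∧ u ∈ V ∧
      (P.sR c).left ⁻¹ᵁ V = (P.tR c).left ⁻¹ᵁ V := by
    intro u
    obtain ⟨V, hV, hEV⟩ := QFAff.exists_isAffineOpen_of_finite (P.wpr c 0).left
      (Set.range fun σ : Equiv.Perm (Fin (n + 1)) => (P.perm c σ).left u) (Set.finite_range _)
    refine GrpdAffOpen.main S 𝒢 u V hV (fun r hr => ?_)
    obtain ⟨σ, y, rfl⟩ := P.exists_rinj_eq c r
    have hy : y = u := by
      have : ((P.rinj c σ).left ≫ (P.sR c).left) y = u := hr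
      rw [← Over.comp_left, P.rinj_sR] at this
      exact this
    have ht : 𝒢.t ((P.rinj c σ).left y) = (P.perm c σ).left u := by
      change ((P.rinj c σ).left ≫ (P.tR c).left) y = _
      rw [← Over.comp_left, P.rinj_tR, hy]
    rw [ht]
    exact hEV ⟨σ, rfl⟩
  obtain ⟨M, m, hmfin, hmflat, hmlfp, hmsurj, kpO⟩ :=
    exists_quotient_of_cover (P.sR c) (P.tR c) heq hcov
  haveI := hmfin
  have hmet : Etale m.left :=
    MorphismProperty.of_isPullback_of_descendsAlong (P := @Etale)
      (Q := @Surjective ⊓ @Flat ⊓ @QuasiCompact) (kpO.map (Over.forget S))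
      ⟨⟨hmsurj, hmflat⟩, (inferInstance : QuasiCompact m.left)⟩ (P.etale_tR c)
  have hperm : ∀ σ, P.perm c σ ≫ m = m := by
    intro σ
    have := congrArg (fun f => P.rinj c σ ≫ f) kpO.w
    simp only [← Category.assoc, P.rinj_tR, P.rinj_sR, Category.id_comp] at this
    exact this
  have hepi : Epi ((yon S).map m) :=
    SchIm.epi_of_etale_surjective _ ((repWith_yon_map_iff @Etale m).2 hmet)
      ((repWith_yon_map_iff @Surjective m).2 hmsurj)
  obtain ⟨f0, hf0⟩ := exists_desc_of_kernelPair ((yon S).map m)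
    ((Sheaf.isLocallySurjective_iff_epi _).2 hepi) _ _ (kpO.map (yon S)) (P.wπ c) (P.tR_wπ c)
  have hwe := P.repWith_etale_wπ c
  refine ⟨M, m, f0, hmfin, hmet, hmsurj, hperm, hf0, ?_, ?_⟩
  · rw [repWith_iff]
    refine ⟨hX.representable_from_yon f0, fun T V g fst snd sq => ?_⟩
    obtain ⟨φ, rfl⟩ := (yon S).map_surjective fst
    have sq1 : IsPullback (pullback.fst m φ) (pullback.snd m φ) m φ := IsPullback.of_hasPullback m φ
    have sq2 := (sq1.map (yon S)).paste_vert sq
    rw [hf0, ← Functor.map_comp] at sq2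
    have h1 : Etale (pullback.snd m φ ≫ snd).left := ((repWith_iff _ _).1 hwe).2 g _ _ sq2
    rw [Over.comp_left] at h1
    haveI : Etale (pullback.snd m φ).left :=
      MorphismProperty.of_isPullback (P := @Etale) (sq1.map (Over.forget S)) hmet
    haveI : Surjective (pullback.snd m φ).left :=
      MorphismProperty.of_isPullback (P := @Surjective) (sq1.map (Over.forget S)) hmsurj
    exact etale_of_etale_surjective_comp (pullback.snd m φ).left snd.left h1
  · haveI := P.isSeparated_W c
    rw [Scheme.isSeparated_iff]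
    haveI : IsSeparated (m.left ≫ terminal.from M.left) := by
      have : m.left ≫ terminal.from M.left = terminal.from (P.W c).left := Subsingleton.elim _ _
      rw [this]
      exact (Scheme.isSeparated_iff _).1 inferInstance
    exact isSeparated_of_finite_cover m.left (terminal.from M.left)

end FP

end Groth.Agent.Lib.Helper3.FibPow
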