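import Mathlib
import Groth.Prelude.Def_AlgSpDec
import Groth.Agent.Lib.Helper3.FibPowF
import Groth.Agent.Lib.Helper3.AlgSpPoints
import Groth.Agent.Lib.Helper3.Rep0418A
import Groth.Agent.Lib.Helper3.AlgSpChartPts
import Groth.Agent.Lib.Helper3.AlgSpLocSrc2

set_option autoImplicit false
universe u
open CategoryTheory CategoryTheory.Limits AlgebraicGeometry Opposite
open AlgSp
open Groth.Agent.Lib.Helper3

namespace Groth.Agent.Lib.Helper3.FibPow

set_option backward.isDefEq.respectTransparency false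

variable {S : Scheme.{u}}

/-- A morphism of spectra of fields over `S` is an epimorphism. -/
theorem epi_of_field {K K' : Type u} [Field K] [Field K'] {str : Spec (.of K) ⟶ S}
    {str' : Spec (.of K') ⟶ S} (e : Over.mk str' ⟶ Over.mk str) : Epi e := by
  obtain ⟨φ, hφ⟩ := Spec.map_surjective e.left
  haveI : Flat e.left := by
    rw [← hφ, HasRingHomProperty.Spec_iff (P := @Flat)]
    letI := φ.hom.toAlgebra
    exact (inferInstance : Module.Flat K K')
  haveI : Surjective e.left := by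
    haveI : Subsingleton ↥(Spec (CommRingCat.of K)) :=
      inferInstanceAs (Subsingleton (PrimeSpectrum K))
    haveI : Nonempty ↥(Spec (CommRingCat.of K')) :=
      inferInstanceAs (Nonempty (PrimeSpectrum K'))
    exact ⟨fun y => ⟨(Classical.arbitrary ↥(Spec (CommRingCat.of K')) : ↥(Spec (CommRingCat.of K'))),
      @Subsingleton.elim ↥(Spec (CommRingCat.of K)) _ _ _⟩⟩
  haveI : Epi e.left := Flat.epi_of_flat_of_surjective e.left
  exact Over.epi_of_epi_left e

/-- Lifting a field valued point along a surjective morphism, after a field extension. -/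
theorem exists_lift_field {A B : Over S} (g : A ⟶ B) [Surjective g.left] {K : Type u} [Field K]
    {str : Spec (.of K) ⟶ S} (t : Over.mk str ⟶ B) :
    ∃ (K' : Type u) (_ : Field K') (str' : Spec (.of K') ⟶ S) (e : Over.mk str' ⟶ Over.mk str)
      (l : Over.mk str' ⟶ A), l ≫ g = e ≫ t := by
  haveI : Surjective (pullback.snd g.left t.left) := inferInstance
  obtain ⟨z, -⟩ := (pullback.snd g.left t.left).surjective (IsLocalRing.closedPoint K)
  let P := pullback g.left t.left
  refine ⟨P.residueField z, inferInstance, P.fromSpecResidueField z ≫ pullback.snd _ _ ≫ str,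
    Over.homMk (P.fromSpecResidueField z ≫ pullback.snd _ _) (by simp),
    Over.homMk (P.fromSpecResidueField z ≫ pullback.fst _ _) ?_, ?_⟩
  · change (_ ≫ _) ≫ A.hom = _ ≫ _ ≫ str
    have h1 : A.hom = g.left ≫ B.hom := (Over.w g).symm
    have h3 : pullback.fst g.left t.left ≫ g.left ≫ B.hom = pullback.snd g.left t.left ≫ str := by
      rw [pullback.condition_assoc, Over.w t]; rfl
    rw [h1, Category.assoc, h3]
  · apply Over.OverMorphism.ext
    change (_ ≫ _) ≫ g.left = (_ ≫ _) ≫ t.left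
    rw [Category.assoc, Category.assoc, pullback.condition]

variable {X : Sp S} {U : Over S} {a : (yon S).obj U ⟶ X} {n : ℕ}

namespace FP

variable (P : FP a n) (c : Ctx a)

/-- The image of the configuration scheme in `|X|`. -/
def E : Set (Points X) := Set.range (Points.ofPt (P.wπ c))

theorem isOpen_E : IsOpen (P.E c) :=
  (isOpenMap_ofPt _ (P.repWith_etale_wπ c)).isOpen_range

theorem mem_E_of_hom {K : Type u} [Field K] {str : Spec (.of K) ⟶ S} (ω : Over.mk str ⟶ P.W c) :
    Points.mk (fieldPtOfHom K str ((yon S).map ω ≫ P.wπ c)) ∈ P.E c :=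
  ⟨_, Rep0418.ofPt_closedPoint (P.wπ c) ω⟩

/-- **Two configurations over the same point which is not in the image of the next
configuration scheme differ by a permutation.** -/
theorem exists_perm_of_not_exists (P' : FP a (n + 1)) {T : Over S} [Subsingleton ↥T.left]
    [Nonempty ↥T.left] (w1 w2 : T ⟶ P.W c)
    (h : (yon S).map w1 ≫ P.wπ c = (yon S).map w2 ≫ P.wπ c)
    (hno : ¬ ∃ ω : T ⟶ P'.W c, (yon S).map ω ≫ P'.wπ c = (yon S).map w1 ≫ P.wπ c) :
    ∃ σ, w2 = w1 ≫ P.perm c σ := by
  have hu : ∀ i, (yon S).map (w1 ≫ P.wpr c i) ≫ a = (yon S).map w1 ≫ P.wπ c := fun i => by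
    rw [Functor.map_comp, Category.assoc, P.wπ_eq]
  have hu' : ∀ i, (yon S).map (w2 ≫ P.wpr c i) ≫ a = (yon S).map w1 ≫ P.wπ c := fun i => by
    rw [Functor.map_comp, Category.assoc, P.wπ_eq, h]
  have hne : ∀ {u v : T ⟶ U}, u = v → eqLoc u v ≠ ∅ := by
    intro u v huv he
    subst huv
    rw [eqLoc_self] at he
    obtain ⟨x⟩ := ‹Nonempty ↥T.left›
    exact (Set.mem_empty_iff_false x).1 (he ▸ Set.mem_univ x)
  have key : ∀ i, ∃ j, w2 ≫ P.wpr c i = w1 ≫ P.wpr c j := by
    intro i
    by_contra hcon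
    push Not at hcon
    apply hno
    have hd0 : ∀ j, eqLoc (w2 ≫ P.wpr c i) (w1 ≫ P.wpr c j) = ∅ := fun j =>
      (eq_or_eqLoc_eq_empty c.rep c.et _ _ ((hu' i).trans (hu j).symm)).resolve_left (hcon j)
    let t : Fin (n + 2) → (T ⟶ U) := Fin.cons (w2 ≫ P.wpr c i) (fun j => w1 ≫ P.wpr c j)
    have ht : ∀ k, (yon S).map (t k) ≫ a = (yon S).map w1 ≫ P.wπ c := by
      intro k
      cases k using Fin.cases with
      | zero => exact hu' i
      | succ k => exact hu k
    have hd : ∀ k l, k ≠ l → eqLoc (t k) (t l) = ∅ := by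
      intro k l hkl
      cases k using Fin.cases with
      | zero =>
        cases l using Fin.cases with
        | zero => exact absurd rfl hkl
        | succ l => exact hd0 l
      | succ k =>
        cases l using Fin.cases with
        | zero => rw [eqLoc_comm]; exact hd0 k
        | succ l =>
          exact P.eqLoc_comp_wpr c w1 k l (fun h => hkl (by rw [h]))
    refine ⟨P'.Wlift c t (fun k l => (ht k).trans (ht l).symm) hd, ?_⟩
    rw [← P'.wπ_eq c 0, ← Category.assoc, ← Functor.map_comp, P'.Wlift_wpr]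
    exact ht 0
  choose τ hτ using key
  have hinj : Function.Injective τ := by
    intro i i' hii
    by_contra hne'
    have h1 : w2 ≫ P.wpr c i = w2 ≫ P.wpr c i' := by rw [hτ i, hτ i', hii]
    exact hne h1 (P.eqLoc_comp_wpr c w2 i i' hne')
  let σ : Equiv.Perm (Fin (n + 1)) := Equiv.ofBijective τ (Finite.injective_iff_bijective.1 hinj)
  refine ⟨σ.symm, ?_⟩
  apply P.W_hom_ext c
  intro i
  rw [Category.assoc, P.perm_wpr, hτ i]
  rfl

/-- **Injectivity on field valued points over the stratum.** -/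
theorem eq_of_not_mem_E (P' : FP a (n + 1)) {M : Over S} (m : P.W c ⟶ M) [Surjective m.left]
    (hperm : ∀ σ, P.perm c σ ≫ m = m) (f0 : (yon S).obj M ⟶ X)
    (hf0 : (yon S).map m ≫ f0 = P.wπ c) {K : Type u} [Field K] {str : Spec (.of K) ⟶ S}
    (μ1 μ2 : Over.mk str ⟶ M) (h : (yon S).map μ1 ≫ f0 = (yon S).map μ2 ≫ f0)
    (hx : Points.mk (fieldPtOfHom K str ((yon S).map μ1 ≫ f0)) ∉ P'.E c) : μ1 = μ2 := by
  obtain ⟨K1, _, str1, e1, w1, hw1⟩ := exists_lift_field m μ1
  obtain ⟨K2, _, str2, e2, w2, hw2⟩ := exists_lift_field m (e1 ≫ μ2)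
  haveI : Epi (e2 ≫ e1) := epi_of_field _
  rw [← cancel_epi (e2 ≫ e1)]
  have hw1' : (e2 ≫ w1) ≫ m = (e2 ≫ e1) ≫ μ1 := by rw [Category.assoc, hw1, Category.assoc]
  have hw2' : w2 ≫ m = (e2 ≫ e1) ≫ μ2 := by rw [hw2, Category.assoc]
  have hπ1 : (yon S).map (e2 ≫ w1) ≫ P.wπ c = (yon S).map (e2 ≫ e1) ≫ (yon S).map μ1 ≫ f0 := by
    rw [← hf0, ← Category.assoc, ← Functor.map_comp, hw1', Functor.map_comp, Category.assoc]
  have hπ2 : (yon S).map w2 ≫ P.wπ c = (yon S).map (e2 ≫ e1) ≫ (yon S).map μ1 ≫ f0 := by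
    rw [← hf0, ← Category.assoc, ← Functor.map_comp, hw2', Functor.map_comp, Category.assoc, h]
  haveI : Subsingleton ↥(Over.mk str2).left :=
    inferInstanceAs (Subsingleton (PrimeSpectrum K2))
  haveI : Nonempty ↥(Over.mk str2).left := inferInstanceAs (Nonempty (PrimeSpectrum K2))
  obtain ⟨σ, hσ⟩ := P.exists_perm_of_not_exists c P' (e2 ≫ w1) w2 (hπ1.trans hπ2.symm) (by
    rintro ⟨ω, hω⟩
    apply hx
    have := P'.mem_E_of_hom c ω
    rw [hω, hπ1, mk_fieldPtOfHom_comp] at this
    exact this)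
  rw [← hw1', ← hw2', hσ, Category.assoc (e2 ≫ w1), hperm]

end FP

end Groth.Agent.Lib.Helper3.FibPow
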