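import Mathlib
import Groth.Prelude.Def_AlgSpDec
import Groth.Prelude.Def_AlgSpSub
import Groth.Agent.Lib.Helper3.FibPowG
import Groth.Agent.Lib.Helper3.SchImMain
import Groth.Agent.S9928

set_option autoImplicit false
universe u
open CategoryTheory CategoryTheory.Limits AlgebraicGeometry Opposite
open AlgSp
open Groth.Agent.Lib.Helper3

namespace Groth.Agent.Lib.Helper3.FibPow

set_option backward.isDefEq.respectTransparency false

variable {S : Scheme.{u}}

theorem mono_of_yon_points {A B : Sp S} (k : A ⟶ B)
    (H : ∀ {T : Over S} {a b : (yon S).obj T ⟶ A}, a ≫ k = b ≫ k → a = b) : Mono k :=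
  ⟨fun _ _ h ↦ (AlgSp.J S).hom_ext_uliftYoneda
      (fun _ _ ↦ H (by simp only [Category.assoc, h]))⟩

/-- **An etale surjective morphism from a scheme to an algebraic space which is injective on
field valued points is an isomorphism.** -/
theorem isIso_of_etale_surjective_of_field_inj {T : Sp S} (hT : IsAlgSpace T) {Z : Over S}
    (q : (yon S).obj Z ⟶ T) (hqe : RepWith @Etale q) (hqs : RepWith @Surjective q)
    (hinj : ∀ (K : Type u) [Field K] (str : Spec (.of K) ⟶ S) (z1 z2 : Over.mk str ⟶ Z),
      (yon S).map z1 ≫ q = (yon S).map z2 ≫ q → z1 = z2) : IsIso q := by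
  have hrep : Representable q := hT.representable_from_yon q
  haveI : Mono q := by
    apply mono_of_yon_points
    intro T' u' v' huv
    obtain ⟨u, rfl⟩ := (yon S).map_surjective u'
    obtain ⟨v, rfl⟩ := (yon S).map_surjective v'
    congr 1
    apply eq_of_eqLoc_eq_univ hrep hqe u v huv
    ext x
    simp only [Set.mem_univ, iff_true]
    change ptι T' x ≫ u = ptι T' x ≫ v
    apply hinj
    rw [Functor.map_comp, Functor.map_comp, Category.assoc, Category.assoc, huv]
  haveI : Epi q := SchIm.epi_of_etale_surjective q hqe hqs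
  exact isIso_of_mono_of_epi q

/-- The iso lemma for strata. -/
theorem isIso_fst_of_field_inj {Uo T : Sp S} (hT : IsAlgSpace T) {M : Over S}
    (f : (yon S).obj M ⟶ Uo) (hfe : RepWith @Etale f) (hfs : RepWith @Surjective f)
    (i : T ⟶ Uo) (hi : RepWith @IsClosedImmersion i)
    (hinj : ∀ (K : Type u) [Field K] (str : Spec (.of K) ⟶ S) (μ1 μ2 : Over.mk str ⟶ M),
      (yon S).map μ1 ≫ f = (yon S).map μ2 ≫ f →
      Points.mk (fieldPtOfHom K str ((yon S).map μ1 ≫ f)) ∈ Set.range (Points.map i) → μ1 = μ2)
    {P0 : Sp S} (fst : P0 ⟶ T) (snd : P0 ⟶ (yon S).obj M) (sq : IsPullback fst snd i f) :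
    IsIso fst := by
  -- a representable model of the pullback
  have sq' := hi.rep.isPullback f
  -- sq' : IsPullback (hi.rep.fst f) ((yon S).map (hi.rep.snd f)) i f
  have hiso : fst = (sq.isoIsPullback _ _ sq').hom ≫ hi.rep.fst f :=
    (IsPullback.isoIsPullback_hom_fst _ _ sq sq').symm
  rw [hiso]
  suffices IsIso (hi.rep.fst f) by infer_instance
  set Z := hi.rep.pullback f
  set ι : Z ⟶ M := hi.rep.snd f
  set q := hi.rep.fst f
  haveI : Mono i := Groth.Agent.S9928.mono_of_repWith @IsClosedImmersion
    (fun g hg => by have : IsClosedImmersion g := hg; infer_instance) i hi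
  haveI : Mono ((yon S).map ι) :=
    MorphismProperty.of_isPullback (P := MorphismProperty.monomorphisms (Sp S)) sq'
      (MorphismProperty.monomorphisms.infer_property i)
  have hqe : RepWith @Etale q := MorphismProperty.of_isPullback sq'.flip hfe
  have hqs : RepWith @Surjective q := MorphismProperty.of_isPullback sq'.flip hfs
  refine isIso_of_etale_surjective_of_field_inj hT q hqe hqs ?_
  intro K _ str z1 z2 h12
  have hmono : Mono ι := (yon S).mono_of_mono_map inferInstance
  rw [← cancel_mono ι]
  apply hinj K str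
  · rw [Functor.map_comp, Functor.map_comp, Category.assoc, Category.assoc, ← sq'.w,
      ← Category.assoc, ← Category.assoc, h12]
  · refine ⟨Points.mk (fieldPtOfHom K str ((yon S).map z1 ≫ q)), ?_⟩
    rw [Points.map_mk_fieldPtOfHom, Functor.map_comp, Category.assoc, Category.assoc, sq'.w]

end Groth.Agent.Lib.Helper3.FibPow
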