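import Mathlib
import Groth.Prelude.Def_AlgSpDec
import Groth.Prelude.Def_AlgSpSub
import Groth.Agent.Lib.Helper3.FibPowH
import Groth.Agent.Lib.Helper3.AlgSpHasAtMor
import Groth.Agent.Lib.Helper3.AlgSpOpenSubsp2
import Groth.Agent.Lib.Helper3.AlgSpZarDecent

set_option autoImplicit false
universe u
open CategoryTheory CategoryTheory.Limits AlgebraicGeometry Opposite
open AlgSp
open Groth.Agent.Lib.Helper3

namespace Groth.Agent.Lib.Helper3.FibPow

set_option backward.isDefEq.respectTransparency false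

variable {S : Scheme.{u}}

/-- A chart from an affine scheme is separated. -/
theorem repWith_isSeparated_of_isAffine {X : Sp S} {U : Over S} [IsAffine U.left]
    (a : (yon S).obj U ⟶ X) (hrep : Representable a) : RepWith @IsSeparated a := by
  rw [repWith_iff]
  refine ⟨hrep, fun T V g fst snd sq => ?_⟩
  obtain ⟨φ, rfl⟩ := (yon S).map_surjective fst
  haveI : IsSeparated U.hom := by
    haveI : IsSeparated (U.hom ≫ terminal.from S) := by
      have : U.hom ≫ terminal.from S = terminal.from U.left := Subsingleton.elim _ _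
      rw [this]
      exact (Scheme.isSeparated_iff _).1 inferInstance
    exact IsSeparated.of_comp U.hom (terminal.from S)
  let ψ : V.left ⟶ pullback T.hom U.hom := pullback.lift snd.left φ.left (by rw [Over.w, Over.w])
  haveI : Mono ψ := by
    refine ⟨fun {Q} r1 r2 h => ?_⟩
    have h1 : r1 ≫ snd.left = r2 ≫ snd.left := by
      have := congrArg (fun k => k ≫ pullback.fst T.hom U.hom) h
      simpa [ψ] using this
    have h2 : r1 ≫ φ.left = r2 ≫ φ.left := by
      have := congrArg (fun k => k ≫ pullback.snd T.hom U.hom) h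
      simpa [ψ] using this
    let r1' : Over.mk (r1 ≫ V.hom) ⟶ V := Over.homMk r1 rfl
    let r2' : Over.mk (r1 ≫ V.hom) ⟶ V := Over.homMk r2 (by
      change r2 ≫ V.hom = r1 ≫ V.hom
      rw [← Over.w snd, ← Category.assoc, ← Category.assoc, h1])
    have : r1' = r2' := by
      apply (yon S).map_injective
      apply sq.hom_ext
      · rw [← Functor.map_comp, ← Functor.map_comp]
        congr 1
        apply Over.OverMorphism.ext
        exact h2
      · rw [← Functor.map_comp, ← Functor.map_comp]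
        congr 1
        apply Over.OverMorphism.ext
        exact h1
    exact congrArg (fun k => k.left) this
  have hsnd : snd.left = ψ ≫ pullback.fst T.hom U.hom := by simp [ψ]
  rw [hsnd]
  infer_instance

variable {X : Sp S} {U : Over S} {a : (yon S).obj U ⟶ X} {n : ℕ}

namespace FP

variable (P : FP a n) (c : Ctx a)

theorem E_succ_subset (P' : FP a (n + 1)) : P'.E c ⊆ P.E c := by
  let d : P'.W c ⟶ P.W c := P.Wlift c (fun i => P'.wpr c i.succ) (fun i j => P'.hwpr c _ _)
    (fun i j hij => P'.eqLoc_wpr c _ _ (fun h => hij (Fin.succ_injective _ h)))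
  have hd : (yon S).map d ≫ P.wπ c = P'.wπ c := by
    rw [← P.wπ_eq c 0, ← Category.assoc, ← Functor.map_comp, P.Wlift_wpr, P'.wπ_eq]
  rintro _ ⟨w, rfl⟩
  refine ⟨d.left w, ?_⟩
  rw [← Points.ofPt_yon_map_comp, hd]

theorem E_zero (has : RepWith @Surjective a) : (FP.zero : FP a 0).E c = Set.univ := by
  ext x
  simp only [Set.mem_univ, iff_true]
  have hπ : (FP.zero : FP a 0).π = a := by
    change (yon S).map (𝟙 U) ≫ a = a
    rw [CategoryTheory.Functor.map_id, Category.id_comp]
  obtain ⟨w, hw⟩ := exists_ofPt_eq a has x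
  have hw' : w ∈ (FP.zero : FP a 0).confSet := by
    rw [mem_confSet]
    intro i j hij
    exact absurd ((Fin.fin_one_eq_zero i).trans (Fin.fin_one_eq_zero j).symm) hij
  rw [← (FP.zero : FP a 0).range_Wι c] at hw'
  obtain ⟨w', rfl⟩ := hw'
  refine ⟨w', ?_⟩
  rw [← hw, wπ, Points.ofPt_yon_map_comp, hπ]

/-- **One stage of the filtration.** -/
theorem exists_stage [IsAffine U.left] (hX : IsAlgSpace X) (P' : FP a (n + 1)) :
    ∃ (M : Over S) (f0 : (yon S).obj M ⟶ X), M.left.IsSeparated ∧ RepWith @Etale f0 ∧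
      Set.range (Points.ofPt f0) = P.E c ∧ (CompactSpace ↥(P.W c).left → CompactSpace ↥M.left) ∧
      ∀ (K : Type u) [Field K] (str : Spec (.of K) ⟶ S) (μ1 μ2 : Over.mk str ⟶ M),
        (yon S).map μ1 ≫ f0 = (yon S).map μ2 ≫ f0 →
        Points.mk (fieldPtOfHom K str ((yon S).map μ1 ≫ f0)) ∉ P'.E c → μ1 = μ2 := by
  obtain ⟨M, m, f0, -, -, hmsurj, hperm, hf0, hf0e, hMsep⟩ := P.exists_quotient c hX
  refine ⟨M, f0, hMsep, hf0e, ?_, ?_, ?_⟩
  · rw [E, ← hf0]
    ext x
    constructor
    · rintro ⟨y, rfl⟩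
      obtain ⟨w, rfl⟩ := m.left.surjective y
      exact ⟨w, Points.ofPt_yon_map_comp m f0 w⟩
    · rintro ⟨w, rfl⟩
      exact ⟨m.left w, (Points.ofPt_yon_map_comp m f0 w).symm⟩
  · intro hW
    refine ⟨?_⟩
    rw [← Set.range_eq_univ.2 m.left.surjective]
    exact isCompact_range m.left.continuous
  · intro K _ str μ1 μ2 h hx
    exact P.eq_of_not_mem_E c P' m hperm f0 hf0 μ1 μ2 h hx

end FP

end Groth.Agent.Lib.Helper3.FibPow
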