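import Mathlib
import Groth.Prelude.Def_AlgSpDec
import Groth.Prelude.Def_AlgSpSub
import Groth.Agent.Lib.Helper3.FibPowI
import Groth.Agent.Lib.Helper3.AlgSpOpenSub
import Groth.Agent.S10192

set_option autoImplicit false
universe u
open CategoryTheory CategoryTheory.Limits AlgebraicGeometry Opposite
open AlgSp
open Groth.Agent.Lib.Helper3

namespace Groth.Agent.Lib.Helper3.FibPow

set_option backward.isDefEq.respectTransparency false

variable {S : Scheme.{u}}

/-- **The filtration by schemes, core statement.** -/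
theorem exists_filtration (X : AlgSp.Space S) {U : Over S} [IsAffine U.left]
    (a : (yon S).obj U ⟶ X.obj) (c : Ctx a) (has : RepWith @Surjective a) :
    ∃ (Uo : ℕ → AlgSp.Space S) (j : ∀ p, Uo p ⟶ X) (k : ∀ p, Uo (p + 1) ⟶ Uo p)
      (T : ℕ → AlgSp.Space S) (i : ∀ p, T p ⟶ Uo p),
      (∀ p, AlgSp.RepWith @IsOpenImmersion (j p).hom) ∧ (∀ p, k p ≫ j p = j (p + 1)) ∧ IsIso (j 1) ∧
      (∀ p, AlgSp.IsRedInduced (Set.range (AlgSp.Points.map (k p).hom))ᶜ (i p).hom) ∧
      (∀ p, ∃ (V : Over S) (f : (AlgSp.yon S).obj V ⟶ (Uo (p + 1)).obj), V.left.IsSeparated ∧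
        (CompactSpace ↥((fp c.rep c.et c.sep p).W c).left → CompactSpace ↥V.left) ∧
        AlgSp.RepWith @Etale f ∧ AlgSp.RepWith @Surjective f ∧
        ∀ (P : AlgSp.Sp S) (fst : P ⟶ (T (p + 1)).obj) (snd : P ⟶ (AlgSp.yon S).obj V),
          IsPullback fst snd (i (p + 1)).hom f → IsIso fst) ∧
      (∀ p, Set.range (Points.map (j (p + 1)).hom) = (fp c.rep c.et c.sep p).E c) ∧
      (∀ p, Set.range (Points.map ((i p) ≫ (j p)).hom) =
        Set.range (Points.map (j p).hom) \ Set.range (Points.map (j (p + 1)).hom)) := by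
  let En : ℕ → Set (Points X.obj) := fun p => (fp c.rep c.et c.sep p).E c
  let Eo : ℕ → Set (Points X.obj) := fun p => Nat.casesOn p Set.univ En
  have hEo_succ : ∀ p, Eo (p + 1) = En p := fun p => rfl
  have hEn_open : ∀ p, IsOpen (En p) := fun p => (fp c.rep c.et c.sep p).isOpen_E c
  have hEo_open : ∀ p, IsOpen (Eo p) := by
    intro p
    cases p with
    | zero => exact isOpen_univ
    | succ p => exact hEn_open p
  have hEn_anti : ∀ p, En (p + 1) ⊆ En p := fun p =>
    (fp c.rep c.et c.sep p).E_succ_subset c (fp c.rep c.et c.sep (p + 1))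
  have hEo_anti : ∀ p, Eo (p + 1) ⊆ Eo p := by
    intro p
    cases p with
    | zero => exact Set.subset_univ _
    | succ p => exact hEn_anti p
  have hEn0 : En 0 = Set.univ := FP.E_zero c has
  let Uo : ℕ → AlgSp.Space S := fun p =>
    ⟨openSub X.obj (Eo p), isAlgSpace_openSub X.property _ (hEo_open p)⟩
  let j : ∀ p, Uo p ⟶ X := fun p => ObjectProperty.homMk (openSubι X.obj (Eo p))
  have hj : ∀ p, RepWith @IsOpenImmersion (j p).hom := fun p =>
    repWith_isOpenImmersion_openSubι X.obj (Eo p) (hEo_open p)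
  have hjr : ∀ p, Set.range (Points.map (j p).hom) = Eo p := fun p => range_map_openSubι X.obj (Eo p)
  have hjmono : ∀ p, Mono (j p).hom := fun p => mono_of_repWith_isOpenImmersion _ (hj p)
  have hjinj : ∀ p, Function.Injective (Points.map (j p).hom) := fun p =>
    haveI := hjmono p
    Points.map_injective_of_mono (j p).hom
  have hk : ∀ p, ∃ g : (Uo (p + 1)).obj ⟶ (Uo p).obj, g ≫ (j p).hom = (j (p + 1)).hom := fun p =>
    exists_factor_of_range_subset (j p).hom (hj p) (j (p + 1)).hom (by
      rw [hjr (p + 1), hjr p]; exact hEo_anti p)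
  choose k0 hk0 using hk
  let k : ∀ p, Uo (p + 1) ⟶ Uo p := fun p => ObjectProperty.homMk (k0 p)
  have hkj : ∀ p, k p ≫ j p = j (p + 1) := fun p => ObjectProperty.hom_ext _ (hk0 p)
  have hkr : ∀ p, Set.range (Points.map (k p).hom) = Points.map (j p).hom ⁻¹' Eo (p + 1) := by
    intro p
    ext x
    constructor
    · rintro ⟨y, rfl⟩
      change Points.map (j p).hom (Points.map (k0 p) y) ∈ Eo (p + 1)
      rw [← Points.map_comp, hk0 p, ← hjr (p + 1)]
      exact ⟨y, rfl⟩
    · intro hx
      change Points.map (j p).hom x ∈ Eo (p + 1) at hx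
      rw [← hjr (p + 1)] at hx
      obtain ⟨y, hy⟩ := hx
      refine ⟨y, hjinj p ?_⟩
      change Points.map (j p).hom (Points.map (k0 p) y) = _
      rw [← Points.map_comp, hk0 p]
      exact hy
  have hcl : ∀ p, IsClosed (Set.range (Points.map (k p).hom))ᶜ := by
    intro p
    rw [isClosed_compl_iff, hkr p]
    exact (hEo_open (p + 1)).preimage (Points.continuous_map _)
  choose T i hi using fun p => Groth.Agent.S10192.result (Uo p) _ (hcl p)
  have hir : ∀ p, Set.range (Points.map ((i p) ≫ (j p)).hom) =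
      Set.range (Points.map (j p).hom) \ Set.range (Points.map (j (p + 1)).hom) := by
    intro p
    have h1 : Set.range (Points.map (i p).hom) = (Set.range (Points.map (k p).hom))ᶜ := (hi p).2.1
    ext x
    constructor
    · rintro ⟨z, rfl⟩
      have hz : Points.map (i p).hom z ∈ (Set.range (Points.map (k p).hom))ᶜ := by
        rw [← h1]; exact ⟨z, rfl⟩
      rw [hkr p] at hz
      refine ⟨⟨Points.map (i p).hom z, ?_⟩, ?_⟩
      · change _ = Points.map ((i p).hom ≫ (j p).hom) z
        rw [Points.map_comp]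
      · rw [hjr (p + 1)]
        change Points.map ((i p).hom ≫ (j p).hom) z ∉ _
        rw [Points.map_comp]
        exact hz
    · rintro ⟨⟨y, rfl⟩, hy⟩
      have hy' : y ∈ (Set.range (Points.map (k p).hom))ᶜ := by
        rw [hkr p]
        rw [hjr (p + 1)] at hy
        exact hy
      rw [← h1] at hy'
      obtain ⟨z, rfl⟩ := hy'
      refine ⟨z, ?_⟩
      change Points.map ((i p).hom ≫ (j p).hom) z = _
      rw [Points.map_comp]
  refine ⟨Uo, j, k, T, i, hj, hkj, ?_, hi, ?_, fun p => (hjr (p + 1)).trans (hEo_succ p), hir⟩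
  · rw [← ObjectProperty.isIso_hom_iff]
    apply isIso_of_repWith_isOpenImmersion_of_isSurjectiveMor _ (hj 1)
    intro y
    have : y ∈ Set.range (Points.map (j 1).hom) := by
      rw [hjr 1]
      change y ∈ En 0
      rw [hEn0]; trivial
    exact this
  · intro p
    obtain ⟨M, f0, hMsep, hf0e, hf0r, hMc, hinj⟩ :=
      (fp c.rep c.et c.sep p).exists_stage c X.property (fp c.rep c.et c.sep (p + 1))
    haveI := hjmono (p + 1)
    obtain ⟨f, hf, hfe, hfs, -⟩ := exists_factor_surjective_etale f0 hf0e (j (p + 1)).hom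
      (hj (p + 1)) (by rw [hjr (p + 1), hEo_succ p, hf0r])
    refine ⟨M, f, hMsep, hMc, hfe, hfs, fun P0 fst snd sq => ?_⟩
    refine isIso_fst_of_field_inj (T p.succ).property f hfe hfs (i (p + 1)).hom (hi (p + 1)).1 ?_
      fst snd sq
    intro K _ str μ1 μ2 h12 hmem
    apply hinj K str μ1 μ2
    · rw [← hf, ← Category.assoc, ← Category.assoc, h12]
    · intro hcon
      change _ ∈ En (p + 1) at hcon
      rw [← hEo_succ (p + 1), ← hjr (p + 2)] at hcon
      obtain ⟨y, hy⟩ := hcon
      rw [← hf, ← Category.assoc, ← Points.map_mk_fieldPtOfHom] at hy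
      have hy2 : Points.map (j (p + 1)).hom (Points.map (k (p + 1)).hom y) =
          Points.map (j (p + 2)).hom y := by
        change Points.map (j (p + 1)).hom (Points.map (k0 (p + 1)) y) = _
        rw [← Points.map_comp, hk0 (p + 1)]
      rw [← hy2] at hy
      have hy3 := hjinj (p + 1) hy
      have h1 : Set.range (Points.map (i (p + 1)).hom) =
        (Set.range (Points.map (k (p + 1)).hom))ᶜ := (hi (p + 1)).2.1
      rw [h1] at hmem
      exact hmem ⟨y, hy3⟩

end Groth.Agent.Lib.Helper3.FibPow
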