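import Mathlib
import Groth.Prelude.Def_AlgSpDec
import Groth.Prelude.Def_AlgSpSub
import Groth.Agent.Lib.Helper3.FibPowJ
import Groth.Agent.Lib.Helper3.DegBound1

set_option autoImplicit false
universe u
open CategoryTheory CategoryTheory.Limits AlgebraicGeometry Opposite
open AlgSp
open Groth.Agent.Lib.Helper3

namespace Groth.Agent.Lib.Helper3.FibPow

set_option backward.isDefEq.respectTransparency false

variable {S : Scheme.{u}} {X : Sp S} {U : Over S} {a : (yon S).obj U ⟶ X}

/-- **A point with a quasi-compact representative has bounded fibre**: it is not in the image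
of a large configuration scheme. -/
theorem exists_not_mem_E [IsAffine U.left] (c : Ctx a) (q : FieldPt X)
    (hq : RepWith @QuasiCompact q.toHom) :
    ∃ N : ℕ, ∀ P : FP a N, Points.mk q ∉ P.E c := by
  let F : Over S := c.rep.pullback q.toHom
  let φ : F ⟶ U := c.rep.fst' q.toHom
  let ψ : F ⟶ q.pt := c.rep.snd q.toHom
  have sq : IsPullback ((yon S).map φ) ((yon S).map ψ) a q.toHom := c.rep.isPullback' q.toHom
  haveI : Etale ψ.left := ((repWith_iff _ _).1 c.et).2 q.toHom _ _ sq
  haveI : QuasiCompact φ.left := ((repWith_iff _ _).1 hq).2 a _ _ sq.flip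
  haveI : CompactSpace ↥F.left := QuasiCompact.compactSpace_of_compactSpace φ.left
  have hfin : Finite ↥F.left := finite_of_etale_of_compactSpace (K := q.K) ψ.left
  obtain ⟨N, hN⟩ := DegTower.exists_bound_F (B := Spec (CommRingCat.of q.K)) ψ.left
    (IsLocalRing.closedPoint q.K) (Set.toFinite _)
  refine ⟨N, fun P hmem => ?_⟩
  obtain ⟨w, hw⟩ := hmem
  rw [Rep0418.ofPt_eq_mk, congrArg Points.mk (fieldPt_eq_ofHom q), mk_fieldPtOfHom_eq_iff] at hw
  obtain ⟨Ω, _, strΩ, c1, d, hcd⟩ := hw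
  -- the points of `U`
  let ω : Over.mk strΩ ⟶ P.W c := c1 ≫ ptι (P.W c) w
  have hω : ∀ i, (yon S).map (ω ≫ P.wpr c i) ≫ a = (yon S).map d ≫ q.toHom := by
    intro i
    rw [Functor.map_comp, Category.assoc, P.wπ_eq]
    refine Eq.trans ?_ hcd
    rw [Functor.map_comp, Category.assoc]
    rfl
  let p : Fin (N + 1) → (Over.mk strΩ ⟶ F) := fun i => c.rep.lift' (ω ≫ P.wpr c i) d (hω i)
  have hp1 : ∀ i, p i ≫ φ = ω ≫ P.wpr c i := fun i => c.rep.lift'_fst _ _ _
  have hp2 : ∀ i, p i ≫ ψ = d := fun i => c.rep.lift'_snd _ _ _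
  have hinj : Function.Injective (fun i => (p i).left) := by
    intro i i' hii
    by_contra hne
    have h1 : p i = p i' := Over.OverMorphism.ext hii
    have h2 : ω ≫ P.wpr c i = ω ≫ P.wpr c i' := by rw [← hp1, ← hp1, h1]
    have h3 := P.eqLoc_comp_wpr c ω i i' hne
    rw [h2, eqLoc_self] at h3
    have : (IsLocalRing.closedPoint Ω : ↥(Over.mk strΩ).left) ∈ (Set.univ : Set _) := trivial
    rw [h3] at this
    exact this
  have hsub : Set.range (fun i => (p i).left) ⊆
      {r : Spec (CommRingCat.of Ω) ⟶ F.left | r ≫ ψ.left = d.left} := by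
    rintro _ ⟨i, rfl⟩
    change (p i).left ≫ ψ.left = d.left
    rw [← Over.comp_left, hp2]
  have h1 := hN Ω d.left (Subsingleton.elim (α := PrimeSpectrum q.K) _ _)
  have h2 := (Set.encard_le_encard hsub).trans h1
  have h3 := hinj.encard_range
  have h4 : (ENat.card (Fin (N + 1)) : ℕ∞) = ((N + 1 : ℕ) : ℕ∞) := by simp
  rw [h4] at h3
  have h5 : ((N + 1 : ℕ) : ℕ∞) ≤ (N : ℕ∞) := h3.trans h2
  have h6 : N + 1 ≤ N := by exact_mod_cast h5
  omega

end Groth.Agent.Lib.Helper3.FibPow
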