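import Mathlib
import Groth.Prelude.Def_AlgSpDec
import Groth.Prelude.Def_AlgSpSub
import Groth.Agent.Lib.Helper3.FibPowK
import Groth.Agent.Lib.Helper3.AlgSpQC4

set_option autoImplicit false
universe u
open CategoryTheory CategoryTheory.Limits AlgebraicGeometry Opposite
open AlgSp
open Groth.Agent.Lib.Helper3

namespace Groth.Agent.Lib.Helper3.FibPow

set_option backward.isDefEq.respectTransparency false

variable {S : Scheme.{u}}

theorem main10418 (X : AlgSp.Space S)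
    (hX : AlgSp.IsQuasiCompactSp X.obj) :
    ∃ (Uo : ℕ → AlgSp.Space S) (j : ∀ p, Uo p ⟶ X) (k : ∀ p, Uo (p + 1) ⟶ Uo p)
      (T : ℕ → AlgSp.Space S) (i : ∀ p, T p ⟶ Uo p),
      (∀ p, AlgSp.RepWith @IsOpenImmersion (j p).hom) ∧ (∀ p, k p ≫ j p = j (p + 1)) ∧ IsIso (j 1) ∧
      (∀ p, AlgSp.IsRedInduced (Set.range (AlgSp.Points.map (k p).hom))ᶜ (i p).hom) ∧
      (∀ p, 1 ≤ p → ∃ (V : Over S) (f : (AlgSp.yon S).obj V ⟶ (Uo p).obj), V.left.IsSeparated ∧
        AlgSp.RepWith @Etale f ∧ AlgSp.RepWith @Surjective f ∧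
        ∀ (P : AlgSp.Sp S) (fst : P ⟶ (T p).obj) (snd : P ⟶ (AlgSp.yon S).obj V),
          IsPullback fst snd (i p).hom f → IsIso fst) ∧
      (∀ x : AlgSp.Points X.obj, (∃ q : AlgSp.FieldPt X.obj, AlgSp.Points.mk q = x ∧ AlgSp.RepWith @QuasiCompact q.toHom) →
        ∃ p, 1 ≤ p ∧ x ∈ Set.range (AlgSp.Points.map ((i p) ≫ (j p)).hom)) := by
  obtain ⟨U, a, hae, has, hUaff⟩ := exists_affine_chart_of_isQuasiCompactSp hX
  haveI : IsAffine U.left := hUaff
  have c : Ctx a := ⟨hae.rep, hae, repWith_isSeparated_of_isAffine a hae.rep⟩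
  obtain ⟨Uo, j, k, T, i, hj, hkj, hj1, hi, hV, hjr, hir⟩ := exists_filtration X a c has
  refine ⟨Uo, j, k, T, i, hj, hkj, hj1, hi, ?_, ?_⟩
  · intro p hp
    obtain ⟨p', rfl⟩ : ∃ p', p = p' + 1 := ⟨p - 1, by omega⟩
    obtain ⟨V, f, hVsep, -, hfe, hfs, hiso⟩ := hV p'
    exact ⟨V, f, hVsep, hfe, hfs, hiso⟩
  · rintro x ⟨q, rfl, hq⟩
    obtain ⟨N, hN⟩ := exists_not_mem_E c q hq
    have hQN : Points.mk q ∉ Set.range (Points.map (j (N + 1)).hom) := by
      rw [hjr N]; exact hN _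
    classical
    let p0 := Nat.find (p := fun p => Points.mk q ∉ Set.range (Points.map (j (p + 1)).hom)) ⟨N, hQN⟩
    have hp0 : Points.mk q ∉ Set.range (Points.map (j (p0 + 1)).hom) :=
      Nat.find_spec (p := fun p => Points.mk q ∉ Set.range (Points.map (j (p + 1)).hom)) ⟨N, hQN⟩
    have hmin : ∀ p, p < p0 → Points.mk q ∈ Set.range (Points.map (j (p + 1)).hom) := by
      intro p hp
      by_contra hcon
      exact Nat.find_min (p := fun p => Points.mk q ∉ Set.range (Points.map (j (p + 1)).hom))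
        ⟨N, hQN⟩ hp hcon
    have h1 : Points.mk q ∈ Set.range (Points.map (j 1).hom) := by
      haveI := hj1
      refine ⟨Points.map (inv (j 1)).hom (Points.mk q), ?_⟩
      rw [← Points.map_comp, ← ObjectProperty.FullSubcategory.comp_hom, IsIso.inv_hom_id,
        ObjectProperty.FullSubcategory.id_hom, Points.map_id]
    have hp0pos : p0 ≠ 0 := by
      intro h0
      rw [h0] at hp0
      exact hp0 h1
    obtain ⟨p1, hp1⟩ : ∃ p1, p0 = p1 + 1 := ⟨p0 - 1, by omega⟩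
    refine ⟨p0, by omega, ?_⟩
    rw [hir p0]
    refine ⟨?_, hp0⟩
    have := hmin p1 (by omega)
    rw [← hp1] at this
    exact this

end Groth.Agent.Lib.Helper3.FibPow
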