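import Mathlib
import Groth.Prelude.Def_AlgSpDec
import Groth.Prelude.Def_AlgSpSub
import Groth.Agent.Lib.Helper3.FibPowL
import Groth.Agent.Lib.Helper3.AlgSpQC7
import Groth.Agent.Lib.Helper9.BddFibLib6

set_option autoImplicit false
universe u
open CategoryTheory CategoryTheory.Limits AlgebraicGeometry Opposite
open AlgSp
open Groth.Agent.Lib.Helper3

namespace Groth.Agent.Lib.Helper3.FibPow

set_option backward.isDefEq.respectTransparency false

variable {S : Scheme.{u}} {X : Sp S} {U : Over S} {a : (yon S).obj U ⟶ X}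

/-- For a quasi-compact chart, the fibre powers are quasi-compact. -/
theorem compactSpace_fp (c : Ctx a) (hqc : IsQuasiCompactMor a) [CompactSpace ↥U.left] :
    ∀ n, CompactSpace ↥(fp c.rep c.et c.sep n).B.left
  | 0 => inferInstanceAs (CompactSpace ↥U.left)
  | n + 1 => by
    have ih := compactSpace_fp c hqc n
    have h1 : IsQuasiCompactSp ((yon S).obj (fp c.rep c.et c.sep n).B) := isQuasiCompactSp_yon ih
    have h2 := hqc (IsAlgSpace.yon_obj _) h1 (fp c.rep c.et c.sep n).π _ _
      (c.rep.isPullback' (fp c.rep c.et c.sep n).π)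
    exact compactSpace_of_isQuasiCompactSp_yon h2

theorem compactSpace_W (c : Ctx a) {n : ℕ} (P : FP a n) [CompactSpace ↥P.B.left] :
    CompactSpace ↥(P.W c).left := by
  have h : IsCompact ((P.conf c : P.B.left.Opens) : Set ↥P.B.left) :=
    (P.isClopen_confSet c).1.isCompact
  exact isCompact_iff_compactSpace.mp h

/-- If the fibres of `U ×_X U ⟶ U` have at most `N` points, there are no configurations of
more than `N` points. -/
theorem E_eq_empty_of_bound (c : Ctx a) {n N : ℕ} (P : FP a n)
    (hN : BddFib.FibreDegLE (p2 c.rep).left N) (hn : N ≤ n) : P.E c = ∅ := by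
  by_contra hne
  obtain ⟨x, w, -⟩ := Set.nonempty_iff_ne_empty.2 hne
  let L := (P.W c).left.residueField w
  let ω := ptι (P.W c) w
  let u : Fin (n + 1) → (Over.mk ((P.W c).left.fromSpecResidueField w ≫ (P.W c).hom) ⟶ U) :=
    fun i => ω ≫ P.wpr c i
  have hu : ∀ i i', (yon S).map (u i) ≫ a = (yon S).map (u i') ≫ a := fun i i' => by
    change (yon S).map (ω ≫ P.wpr c i) ≫ a = (yon S).map (ω ≫ P.wpr c i') ≫ a
    rw [Functor.map_comp, Functor.map_comp, Category.assoc, Category.assoc, P.wπ_eq, P.wπ_eq]
  let r : Fin (n + 1) → (Over.mk ((P.W c).left.fromSpecResidueField w ≫ (P.W c).hom) ⟶ R2 c.rep) :=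
    fun i => pair c.rep (u i) (u 0) (hu i 0)
  haveI := etale_p2 c.rep c.et
  let Φ := pullback (p2 c.rep).left (u 0).left
  let s : Fin (n + 1) → (Spec L ⟶ Φ) := fun i =>
    pullback.lift (r i).left (𝟙 _) (by
      rw [Category.id_comp, ← Over.comp_left, pair_p2])
  have hs : ∀ i, s i ≫ pullback.snd _ _ = 𝟙 _ := fun i => pullback.lift_snd _ _ _
  haveI : Subsingleton ↥(Spec L) := inferInstanceAs (Subsingleton (PrimeSpectrum L))
  haveI : Subsingleton ↥(Over.mk ((P.W c).left.fromSpecResidueField w ≫ (P.W c).hom)).left :=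
    inferInstanceAs (Subsingleton (PrimeSpectrum L))
  have hinj : Function.Injective (fun i => s i (IsLocalRing.closedPoint L)) := by
    intro i i' hii
    by_contra hne'
    have h1 : s i = s i' :=
      DegTower.section_ext (pullback.snd (p2 c.rep).left (u 0).left) (s i) (s i') (hs i) (hs i')
        (IsLocalRing.closedPoint L) hii
    have h2 : (r i).left = (r i').left := by
      have := congrArg (fun k => k ≫ pullback.fst _ _) h1
      simpa [s] using this
    have h3 : r i = r i' := Over.OverMorphism.ext h2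
    have h4 : u i = u i' := by
      have := congrArg (fun k => k ≫ p1 c.rep) h3
      simpa [r] using this
    have h5 := P.eqLoc_comp_wpr c ω i i' hne'
    change eqLoc (u i) (u i') = ∅ at h5
    rw [h4, eqLoc_self] at h5
    have : (IsLocalRing.closedPoint L : ↥(Spec L)) ∈ (Set.univ : Set _) := trivial
    rw [h5] at this
    exact this
  obtain ⟨hfin, hcard⟩ := Groth.Agent.Lib.Helper9.BddFibLib.natCard_pullback_le_of_fibreDegLE
    (p2 c.rep).left N hN L (u 0).left
  have h6 : Nat.card (Fin (n + 1)) ≤ Nat.card ↥Φ := Nat.card_le_card_of_injective _ hinj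
  rw [Nat.card_fin] at h6
  have hcard' : Nat.card ↥Φ ≤ N := hcard
  omega

end Groth.Agent.Lib.Helper3.FibPow
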