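import Mathlib
import Groth.Prelude.Def_AlgSpDec
import Groth.Prelude.Def_AlgSpSub
import Groth.Agent.Lib.Helper3.FibPowM

set_option autoImplicit false
universe u
open CategoryTheory CategoryTheory.Limits AlgebraicGeometry Opposite
open AlgSp
open Groth.Agent.Lib.Helper3

namespace Groth.Agent.Lib.Helper3.FibPow

set_option backward.isDefEq.respectTransparency false

variable {S : Scheme.{u}}

theorem main10419 [QuasiSeparatedSpace ↥S] (X : AlgSp.Space S)
    (hqc : AlgSp.IsQuasiCompactSp X.obj) (hqs : AlgSp.IsQuasiSeparatedSp X.obj) :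
    ∃ (n : ℕ) (Uo : ℕ → AlgSp.Space S) (j : ∀ p, Uo p ⟶ X) (k : ∀ p, Uo (p + 1) ⟶ Uo p)
      (T : ℕ → AlgSp.Space S) (i : ∀ p, T p ⟶ Uo p),
      (∀ p, AlgSp.RepWith @IsOpenImmersion (j p).hom) ∧ (∀ p, k p ≫ j p = j (p + 1)) ∧ IsIso (j 1) ∧
      IsEmpty (AlgSp.Points (Uo (n + 1)).obj) ∧
      (∀ p, AlgSp.IsRedInduced (Set.range (AlgSp.Points.map (k p).hom))ᶜ (i p).hom) ∧
      (∀ p, 1 ≤ p → ∃ (V : Over S) (f : (AlgSp.yon S).obj V ⟶ (Uo p).obj), V.left.IsSeparated ∧ CompactSpace ↥V.left ∧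
        AlgSp.RepWith @Etale f ∧ AlgSp.RepWith @Surjective f ∧
        ∀ (P : AlgSp.Sp S) (fst : P ⟶ (T p).obj) (snd : P ⟶ (AlgSp.yon S).obj V),
          IsPullback fst snd (i p).hom f → IsIso fst) := by
  obtain ⟨U, a, hae, has, hUaff⟩ := exists_affine_chart_of_isQuasiCompactSp hqc
  haveI : IsAffine U.left := hUaff
  have c : Ctx a := ⟨hae.rep, hae, repWith_isSeparated_of_isAffine a hae.rep⟩
  have hqcm : IsQuasiCompactMor a :=
    isQuasiCompactMor_of_isQuasiCompactSp_of_isQuasiSeparatedSp (IsAlgSpace.yon_obj U) a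
      (isQuasiCompactSp_yon inferInstance) hqs
  haveI : CompactSpace ↥(R2 c.rep).left :=
    compactSpace_of_isQuasiCompactSp_yon
      (hqcm (IsAlgSpace.yon_obj U) (isQuasiCompactSp_yon inferInstance) a _ _ (kp c.rep))
  haveI := etale_p2 c.rep c.et
  haveI : LocallyQuasiFinite (p2 c.rep).left := locallyQuasiFinite_of_etale _
  obtain ⟨N, hN⟩ := Groth.Agent.Lib.Helper9.BddFibLib6.univBounded_of_locallyQuasiFinite
    (p2 c.rep).left
  obtain ⟨Uo, j, k, T, i, hj, hkj, hj1, hi, hV, hjr, -⟩ := exists_filtration X a c has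
  refine ⟨N, Uo, j, k, T, i, hj, hkj, hj1, ?_, hi, ?_⟩
  · refine ⟨fun y => ?_⟩
    have : Points.map (j (N + 1)).hom y ∈ Set.range (Points.map (j (N + 1)).hom) := ⟨y, rfl⟩
    rw [hjr N, E_eq_empty_of_bound c _ hN le_rfl] at this
    exact this
  · intro p hp
    obtain ⟨p', rfl⟩ : ∃ p', p = p' + 1 := ⟨p - 1, by omega⟩
    obtain ⟨V, f, hVsep, hVc, hfe, hfs, hiso⟩ := hV p'
    haveI := compactSpace_fp c hqcm p'
    exact ⟨V, f, hVsep, hVc (compactSpace_W c _), hfe, hfs, hiso⟩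

end Groth.Agent.Lib.Helper3.FibPow
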