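import Groth.Agent.Lib.Helper3.RNResults
import Groth.Agent.Lib.Helper3.AlgSpRepLocal2
import Groth.Agent.Lib.Helper3.AlgSpUC3
import Groth.Agent.Lib.Helper3.AlgSpQC3
import Groth.Agent.Lib.Helper3.AlgSpProper
import Groth.Agent.Lib.Helper3.RDvrFinal
import Groth.Agent.Lib.Helper3.AlgSpFpqcLocal
import Groth.Agent.Lib.Helper3.AlgSpLargestOpen
import Groth.Agent.S9905
import Groth.Agent.S9937

set_option autoImplicit false
universe u w

namespace Groth.Agent.Lib.Helper3.IntExt

open CategoryTheory CategoryTheory.Limits AlgebraicGeometry Opposite AlgSp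
open Groth.Agent.Lib.Helper3 Groth.Agent.Lib.Helper3.RelNorm

variable {S : Scheme.{u}}

theorem isIntegralHom_le_quasiCompact :
    (@IsIntegralHom : MorphismProperty Scheme.{u}) ≤ @QuasiCompact :=
  fun _ _ k hk => by
    have : IsIntegralHom k := hk
    infer_instance

theorem isIntegralHom_le_isSeparated :
    (@IsIntegralHom : MorphismProperty Scheme.{u}) ≤ @IsSeparated :=
  fun _ _ k hk => by
    have : IsIntegralHom k := hk
    infer_instance

theorem isQuasiCompactMor_of_isIntegralMor {F G : Sp S} {f : F ⟶ G} (hf : IsIntegralMor f) :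
    IsQuasiCompactMor f :=
  isQuasiCompactMor_of_repWith_quasiCompact f
    (repWith_mono isIntegralHom_le_quasiCompact ((isIntegralMor_iff_repWith f).1 hf))

theorem isSeparatedMor_of_isIntegralMor {F G : Sp S} {f : F ⟶ G} (hf : IsIntegralMor f) :
    IsSeparatedMor f := by
  have h := (isIntegralMor_iff_repWith f).1 hf
  exact (Groth.Agent.S9905.isSeparatedMor_iff_repWith f h.rep).2
    (repWith_mono isIntegralHom_le_isSeparated h)

/-- An integral morphism is its own normalization. -/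
theorem isRelNormalization_self {F G : Sp S} (f : F ⟶ G) (hf : IsIntegralMor f) :
    IsRelNormalization f f (𝟙 F) := by
  refine ⟨Category.id_comp _, hf, ?_⟩
  intro Z _ π g _ hg
  refine ⟨g, ⟨Category.id_comp _, hg⟩, ?_⟩
  rintro h ⟨h1, -⟩
  rw [← h1, Category.id_comp]

theorem main10376 {V Y Z : AlgSp.Space S} (j : V ⟶ Y)
    (hj : AlgSp.RepWith @IsOpenImmersion j.hom) (hjq : AlgSp.IsQuasiCompactMor j.hom) (π : Z ⟶ V)
    (hπ : AlgSp.IsIntegralMor π.hom) :
    ∃ (Y' : AlgSp.Space S) (ν : Y' ⟶ Y) (j' : Z ⟶ Y'), AlgSp.IsIntegralMor ν.hom ∧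
      IsPullback j'.hom π.hom ν.hom j.hom := by
  have hjm : Mono j.hom := mono_of_repWith_isOpenImmersion _ hj
  have hqc : IsQuasiCompactMor (π ≫ j).hom :=
    isQuasiCompactMor_comp V.property Y.property.1 (isQuasiCompactMor_of_isIntegralMor hπ) hjq
  have hqs : IsQuasiSeparatedMor (π ≫ j).hom :=
    RDvr.isQuasiSeparatedMor_of_isSeparatedMor
      (isSeparatedMor_comp (isSeparatedMor_of_isIntegralMor hπ)
        (Groth.Agent.S9937.isSeparatedMor_of_mono j.hom))
  obtain ⟨Y', ν, f', hn⟩ := main10295 (π ≫ j) hqc hqs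
  have hje : IsEtaleMor j.hom :=
    isEtaleMor_of_repWith_etale (repWith_mono isOpenImmersion_le_etale hj)
  -- the base change of the source
  have sq1 : IsPullback (𝟙 Z.obj) π.hom (π ≫ j).hom j.hom := by
    have h0 : IsPullback (𝟙 Z.obj) π.hom π.hom (𝟙 V.obj) := IsPullback.of_horiz_isIso ⟨by simp⟩
    have h1 : IsPullback (𝟙 V.obj) (𝟙 V.obj) j.hom j.hom := IsPullback.of_isLimit
      (PullbackCone.isLimitMkIdId j.hom)
    have := h0.paste_vert h1
    simpa using this
  -- the base change of the normalization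
  let P : Sp S := pullback ν.hom j.hom
  have sq2 : IsPullback (pullback.fst ν.hom j.hom) (pullback.snd ν.hom j.hom) ν.hom j.hom :=
    IsPullback.of_hasPullback _ _
  have hP : IsAlgSpace P := isAlgSpace_of_isPullback' Y.property Y'.property V.property sq2
  have hw : f'.hom ≫ ν.hom = π.hom ≫ j.hom := hn.1
  let f'W : Z.obj ⟶ P := pullback.lift f'.hom π.hom hw
  have c1 : f'W ≫ pullback.snd ν.hom j.hom = π.hom := pullback.lift_snd _ _ _
  have c2 : f'W ≫ pullback.fst ν.hom j.hom = f'.hom := pullback.lift_fst _ _ _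
  have hnW : IsRelNormalization π.hom (pullback.snd ν.hom j.hom) f'W :=
    main10297 (W := V) (YW := Z) (X'W := ⟨P, hP⟩) (π ≫ j) hqc hqs ν f' hn j hje (𝟙 Z) π sq1
      (ObjectProperty.homMk (pullback.fst ν.hom j.hom))
      (ObjectProperty.homMk (pullback.snd ν.hom j.hom)) sq2 (ObjectProperty.homMk f'W)
      (by ext1; exact c1) (by ext1; exact c2.trans (Category.id_comp _).symm)
  obtain ⟨e, he1, he2⟩ := isRelNormalization_unique Z.property hP
    (isRelNormalization_self π.hom hπ) hnW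
  rw [Category.id_comp] at he1
  refine ⟨Y', ν, f', hn.2.1, ?_⟩
  refine IsPullback.of_iso sq2 e.symm (Iso.refl _) (Iso.refl _) (Iso.refl _) ?_ ?_ ?_ ?_
  · change pullback.fst ν.hom j.hom ≫ 𝟙 _ = e.inv ≫ f'.hom
    rw [Category.comp_id, eq_comm, Iso.inv_comp_eq, he1, c2]
  · change pullback.snd ν.hom j.hom ≫ 𝟙 _ = e.inv ≫ π.hom
    rw [Category.comp_id, eq_comm, Iso.inv_comp_eq, he2]
  · simp
  · simp

end Groth.Agent.Lib.Helper3.IntExt
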