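import Mathlib
import Groth.Prelude.Def_AlgSpDec
import Groth.Prelude.Def_AlgSpSub
import Groth.Agent.Lib.Helper3.IntExt
import Groth.Agent.Lib.Helper3.SchImQC4
import Groth.Agent.Lib.Helper3.SchImMain
import Groth.Agent.S10296

set_option autoImplicit false
universe u
open CategoryTheory CategoryTheory.Limits AlgebraicGeometry Opposite
open AlgSp
open Groth.Agent.Lib.Helper3

namespace Groth.Agent.Lib.Helper3.IntCov

set_option backward.isDefEq.respectTransparency false

variable {S : Scheme.{u}}

/-- The source of a quasi-separated morphism to a quasi-separated sheaf is quasi-separated. -/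
theorem isQuasiSeparatedSp_of_isQuasiSeparatedMor {X Y : Sp S} (f : X ⟶ Y)
    (hf : IsQuasiSeparatedMor f) (hY : IsQuasiSeparatedSp Y) : IsQuasiSeparatedSp X := by
  have h2 : RepWith @QuasiCompact (pullback.diagonal f) := hf
  have h3 : RepWith @QuasiCompact (prod.lift (pullback.fst f f) (pullback.snd f f)) :=
    MorphismProperty.of_isPullback
      (isPullback_diag_of_isPullback (IsPullback.of_hasPullback f f)) hY
  have h4 : Limits.diag X = pullback.diagonal f ≫
      prod.lift (pullback.fst f f) (pullback.snd f f) := by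
    apply Limits.prod.hom_ext
    · simp only [Limits.diag, prod.lift_fst, Category.assoc, pullback.diagonal_fst]
    · simp only [Limits.diag, prod.lift_snd, Category.assoc, pullback.diagonal_snd]
  change RepWith @QuasiCompact (Limits.diag X)
  rw [h4]
  exact MorphismProperty.comp_mem _ _ _ h2 h3

theorem isQuasiSeparatedSp_of_isIntegralMor {X Y : Sp S} (f : X ⟶ Y)
    (hf : IsIntegralMor f) (hY : IsQuasiSeparatedSp Y) : IsQuasiSeparatedSp X :=
  isQuasiSeparatedSp_of_isQuasiSeparatedMor f
    (RDvr.isQuasiSeparatedMor_of_isSeparatedMor (IntExt.isSeparatedMor_of_isIntegralMor hf)) hY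

theorem isIntegralMor_of_closedImmersion {X Y : Sp S} (i : X ⟶ Y)
    (hi : RepWith @IsClosedImmersion i) : IsIntegralMor i := by
  rw [isIntegralMor_iff_repWith]
  exact repWith_mono (fun _ _ k hk => by
    have : IsClosedImmersion k := hk
    infer_instance) hi

/-- The source of a relative normalization is dense in it. -/
theorem dense_of_isRelNormalization {F G X' : Space S} (f : F ⟶ G) (ν : X' ⟶ G) (f' : F ⟶ X')
    (hn : IsRelNormalization f.hom ν.hom f'.hom) (hqc : IsQuasiCompactMor f'.hom) :
    Dense (Set.range (Points.map f'.hom)) := by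
  obtain ⟨Z, i, hZ⟩ := SchIm.exists_isSchImage f'
  obtain ⟨hcl, ⟨g, hg⟩, -⟩ := id hZ
  have hiint : IsIntegralMor i.hom := isIntegralMor_of_closedImmersion _ hcl
  have hπ : IsIntegralMor (i.hom ≫ ν.hom) :=
    Groth.Agent.S10296.W1.isIntegralMor_comp _ _ hiint hn.2.1
  obtain ⟨h, ⟨hh1, hh2⟩, -⟩ := hn.2.2 Z.property (i.hom ≫ ν.hom) g hπ (by
    rw [← Category.assoc, hg, hn.1])
  obtain ⟨k, -, hk⟩ := hn.2.2 X'.property ν.hom f'.hom hn.2.1 hn.1
  have e1 : h ≫ i.hom = k := hk _ ⟨by rw [← Category.assoc, hh1, hg], by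
    rw [Category.assoc, hh2]⟩
  have e2 : 𝟙 _ = k := hk _ ⟨Category.comp_id _, Category.id_comp _⟩
  have e3 : h ≫ i.hom = 𝟙 _ := e1.trans e2.symm
  have hsub := SchIm.range_subset_closure_of_quasiCompact f' hqc i hZ
  intro x
  apply hsub
  refine ⟨Points.map h x, ?_⟩
  rw [← Points.map_comp, e3, Points.map_id]

end Groth.Agent.Lib.Helper3.IntCov
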