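import Mathlib
import Groth.Prelude.Def_AlgSpDec
import Groth.Prelude.Def_AlgSpSub
import Groth.Agent.Lib.Helper3.IntCovA
import Groth.Agent.Lib.Helper3.FibPowN
import Groth.Agent.Lib.Helper3.RNZmt2

set_option autoImplicit false
universe u
open CategoryTheory CategoryTheory.Limits AlgebraicGeometry Opposite
open AlgSp
open Groth.Agent.Lib.Helper3
open Groth.Agent.Lib.Helper3.FibPow

namespace Groth.Agent.Lib.Helper3.IntCov

set_option backward.isDefEq.respectTransparency false

variable {S : Scheme.{u}}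

/-- The normalization of `X` in an affine etale chart, with Zariski's main theorem. -/
theorem exists_normalization [QuasiSeparatedSpace ↥S] {X : Sp S} (hX : IsAlgSpace X)
    (hqs : IsQuasiSeparatedSp X) {U : Over S} [IsAffine U.left] (a : (yon S).obj U ⟶ X)
    (c : Ctx a) :
    ∃ (Y : Sp S) (_ : IsAlgSpace Y) (ν : Y ⟶ X) (f' : (yon S).obj U ⟶ Y),
      f' ≫ ν = a ∧ IsIntegralMor ν ∧ RepWith @IsOpenImmersion f' ∧ IsQuasiSeparatedSp Y ∧
      Dense (Set.range (Points.map f')) := by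
  have hqcm : IsQuasiCompactMor a :=
    isQuasiCompactMor_of_isQuasiCompactSp_of_isQuasiSeparatedSp (IsAlgSpace.yon_obj U) a
      (isQuasiCompactSp_yon inferInstance) hqs
  have hsep : IsSeparatedMor a := (Groth.Agent.S9905.isSeparatedMor_iff_repWith a c.rep).2 c.sep
  have hqsm : IsQuasiSeparatedMor a := RDvr.isQuasiSeparatedMor_of_isSeparatedMor hsep
  have hqf : LocP (@LocallyQuasiFinite ⊓ @LocallyOfFiniteType) a :=
    locP_of_repWith isEtLocal_locallyQuasiFinite a
      (repWith_mono (fun _ _ k hk => isEtLocal_locallyQuasiFinite.etale_le k hk) c.et)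
  let Xs : Space S := ⟨X, hX⟩
  let Us : Space S := ⟨(yon S).obj U, IsAlgSpace.yon_obj U⟩
  let f : Us ⟶ Xs := ObjectProperty.homMk a
  obtain ⟨Y, ν, f', hn⟩ := RelNorm.main10295 f hqcm hqsm
  obtain ⟨ho, hq, -⟩ := RelNorm.main10300 f hqf hqcm hsep ν f' hn
  refine ⟨Y.obj, Y.property, ν.hom, f'.hom, hn.1, hn.2.1, ho, ?_, ?_⟩
  · exact isQuasiSeparatedSp_of_isIntegralMor ν.hom hn.2.1 hqs
  · exact dense_of_isRelNormalization f ν f' hn hq

/-- The fibre product `P = U ×_X Y`, the graph `Δ` of `f'` and its open and closed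
complement `W`. -/
theorem exists_complement {X Y : Sp S} {U : Over S} [IsAffine U.left]
    (a : (yon S).obj U ⟶ X) (c : Ctx a) (ν : Y ⟶ X) (f' : (yon S).obj U ⟶ Y)
    (hfac : f' ≫ ν = a) (hν : IsIntegralMor ν) (hf'o : RepWith @IsOpenImmersion f') :
    ∃ (P W : Over S) (qP : P ⟶ U) (pP : (yon S).obj P ⟶ Y) (Δ : U ⟶ P) (ιW : W ⟶ P),
      IsPullback pP ((yon S).map qP) ν a ∧ Δ ≫ qP = 𝟙 U ∧ (yon S).map Δ ≫ pP = f' ∧
      IsAffine W.left ∧ IsOpenImmersion ιW.left ∧
      Set.range ιW.left = (Set.range Δ.left)ᶜ := by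
  obtain ⟨P, qP, pP, sqP, hPaff, hqPint⟩ := hν (Z := U) inferInstance a
  haveI : IsAffine P.left := hPaff
  haveI : IsIntegralHom qP.left := hqPint
  obtain ⟨Δ, hΔ⟩ := (yon S).map_surjective
    (sqP.lift f' (𝟙 _) (by rw [hfac, Category.id_comp]))
  have hΔ1 : (yon S).map Δ ≫ pP = f' := by rw [hΔ]; exact sqP.lift_fst _ _ _
  have hΔ2 : Δ ≫ qP = 𝟙 U := by
    apply (yon S).map_injective
    rw [Functor.map_comp, hΔ, CategoryTheory.Functor.map_id]
    exact sqP.lift_snd _ _ _
  -- the open subscheme `U ×_X U` of `P`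
  obtain ⟨r, hr⟩ := (yon S).map_surjective
    (sqP.lift ((yon S).map (p2 c.rep) ≫ f') ((yon S).map (p1 c.rep)) (by
      rw [Category.assoc, hfac]; exact (kp c.rep).w.symm))
  have hr1 : (yon S).map r ≫ pP = (yon S).map (p2 c.rep) ≫ f' := by
    rw [hr]; exact sqP.lift_fst _ _ _
  have hr2 : (yon S).map r ≫ (yon S).map qP = (yon S).map (p1 c.rep) := by
    rw [hr]; exact sqP.lift_snd _ _ _
  have sqr : IsPullback ((yon S).map r) ((yon S).map (p2 c.rep)) pP f' := by
    refine IsPullback.of_right ?_ hr1 sqP.flip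
    rw [hr2, hfac]
    exact kp c.rep
  have hro : IsOpenImmersion r.left :=
    (repWith_yon_map_iff _ r).1 (MorphismProperty.of_isPullback sqr.flip hf'o)
  have hΔr : Δ = diag c.rep ≫ r := by
    apply (yon S).map_injective
    apply sqP.hom_ext
    · rw [hΔ1, Functor.map_comp, Category.assoc, hr1, ← Category.assoc, ← Functor.map_comp]
      have : diag c.rep ≫ p2 c.rep = 𝟙 U := pair_p2 c.rep _ _ _
      rw [this, CategoryTheory.Functor.map_id, Category.id_comp]
    · rw [← Functor.map_comp, hΔ2, Functor.map_comp, Category.assoc, hr2, ← Functor.map_comp]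
      have : diag c.rep ≫ p1 c.rep = 𝟙 U := pair_p1 c.rep _ _ _
      rw [this]
  have hΔo : IsOpenImmersion Δ.left := by
    rw [hΔr, Over.comp_left]
    haveI := isOpenImmersion_diag c.rep c.et
    infer_instance
  have hΔc : IsClosedImmersion Δ.left := by
    haveI : IsClosedImmersion (Δ.left ≫ qP.left) := by
      rw [← Over.comp_left, hΔ2]
      change IsClosedImmersion (𝟙 U.left)
      infer_instance
    exact IsClosedImmersion.of_comp Δ.left qP.left
  let Wo : P.left.Opens := ⟨(Set.range Δ.left)ᶜ, Δ.left.isClosedEmbedding.isClosed_range.isOpen_compl⟩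
  have hWc : IsClosedImmersion Wo.ι := by
    apply IsClosedImmersion.of_isPreimmersion
    rw [Scheme.Opens.range_ι]
    change IsClosed (Set.range Δ.left)ᶜ
    exact Δ.left.isOpenEmbedding.isOpen_range.isClosed_compl
  refine ⟨P, Over.mk (Wo.ι ≫ P.hom), qP, pP, Δ, Over.homMk Wo.ι rfl, sqP, hΔ2, hΔ1, ?_, ?_, ?_⟩
  · change IsAffine (Wo : Scheme)
    exact isAffine_of_isAffineHom Wo.ι
  · change IsOpenImmersion Wo.ι
    infer_instance
  · change Set.range Wo.ι = _
    rw [Scheme.Opens.range_ι]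
    rfl

end Groth.Agent.Lib.Helper3.IntCov
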