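import Mathlib
import Groth.Prelude.Def_AlgSpDec
import Groth.Prelude.Def_AlgSpSub
import Groth.Agent.Lib.Helper3.IntCovB

set_option autoImplicit false
universe u
open CategoryTheory CategoryTheory.Limits AlgebraicGeometry Opposite
open AlgSp
open Groth.Agent.Lib.Helper3
open Groth.Agent.Lib.Helper3.FibPow

namespace Groth.Agent.Lib.Helper3.IntCov

set_option backward.isDefEq.respectTransparency false

variable {S : Scheme.{u}}

/-- **The fibre degree drops** on passing from `U ⟶ X` to `W ⟶ V`. -/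
theorem E_eq_empty_of_succ {X Y V : Sp S} {U P W : Over S}
    (a : (yon S).obj U ⟶ X) (c : Ctx a) (ν : Y ⟶ X) (f' : (yon S).obj U ⟶ Y)
    (hfac : f' ≫ ν = a) (hf'o : RepWith @IsOpenImmersion f')
    (hdense : Dense (Set.range (Points.map f')))
    (qP : P ⟶ U) (pP : (yon S).obj P ⟶ Y) (Δ : U ⟶ P) (ιW : W ⟶ P)
    (sqP : IsPullback pP ((yon S).map qP) ν a) (hΔ2 : Δ ≫ qP = 𝟙 U)
    (hΔ1 : (yon S).map Δ ≫ pP = f') (hιW : IsOpenImmersion ιW.left)
    (hrange : Set.range ιW.left = (Set.range Δ.left)ᶜ)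
    (jV : V ⟶ Y) (hjV : RepWith @IsOpenImmersion jV) (aV : (yon S).obj W ⟶ V)
    (haV : aV ≫ jV = (yon S).map ιW ≫ pP) (cV : Ctx aV) (n : ℕ)
    (hE : (fp c.rep c.et c.sep (n + 1)).E c = ∅) : (fp cV.rep cV.et cV.sep n).E cV = ∅ := by
  by_contra hne
  set PV := fp cV.rep cV.et cV.sep n with hPV
  set P' := fp c.rep c.et c.sep (n + 1) with hP'
  obtain ⟨x, w, -⟩ := Set.nonempty_iff_ne_empty.2 hne
  haveI : Mono ιW := by
    haveI : Mono ((Over.forget S).map ιW) := inferInstanceAs (Mono ιW.left)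
    exact (Over.forget S).mono_of_mono_map inferInstance
  let g : (yon S).obj (PV.W cV) ⟶ Y := PV.wπ cV ≫ jV
  have hg : RepWith @Etale g :=
    MorphismProperty.comp_mem _ _ _ (PV.repWith_etale_wπ cV)
      (repWith_mono (fun _ _ k hk => by
        have : IsOpenImmersion k := hk
        infer_instance) hjV)
  have hO : IsOpen (Set.range (Points.ofPt g)) := (isOpenMap_ofPt g hg).isOpen_range
  obtain ⟨y, hyO, hyr⟩ := hdense.inter_open_nonempty _ hO ⟨_, w, rfl⟩
  obtain ⟨w', rfl⟩ := hyO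
  let T : Over S := Over.mk ((PV.W cV).left.fromSpecResidueField w' ≫ (PV.W cV).hom)
  let ω : T ⟶ PV.W cV := ptι (PV.W cV) w'
  haveI : Subsingleton ↥T.left :=
    inferInstanceAs (Subsingleton (PrimeSpectrum ((PV.W cV).left.residueField w')))
  haveI : Nonempty ↥T.left :=
    inferInstanceAs (Nonempty (PrimeSpectrum ((PV.W cV).left.residueField w')))
  obtain ⟨t₀⟩ := ‹Nonempty ↥T.left›
  have hωt : ∀ t : ↥T.left, ω.left t = w' := fun t => Scheme.fromSpecResidueField_apply _ _
  let yb : (yon S).obj T ⟶ Y := (yon S).map ω ≫ g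
  have hybr : Set.range (Points.map yb) ⊆ Set.range (Points.map f') := by
    rw [range_map_eq_range_ofPt]
    rintro _ ⟨t, rfl⟩
    rw [Points.ofPt_yon_map_comp, hωt]
    exact hyr
  obtain ⟨gU, hgU⟩ := exists_factor_of_range_subset f' hf'o yb hybr
  obtain ⟨ub, rfl⟩ := (yon S).map_surjective gU
  let wi : Fin (n + 1) → (T ⟶ W) := fun i => ω ≫ PV.wpr cV i
  let ui : Fin (n + 1) → (T ⟶ U) := fun i => wi i ≫ ιW ≫ qP
  have e1 : ∀ i, (yon S).map (wi i ≫ ιW) ≫ pP = yb := fun i => by
    change (yon S).map ((ω ≫ PV.wpr cV i) ≫ ιW) ≫ pP = (yon S).map ω ≫ PV.wπ cV ≫ jV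
    rw [Functor.map_comp, Functor.map_comp, Category.assoc, Category.assoc, ← haV,
      ← Category.assoc ((yon S).map (PV.wpr cV i)), PV.wπ_eq cV i]
  have e2 : ∀ i, (yon S).map (ui i) ≫ a = yb ≫ ν := fun i => by
    change (yon S).map (wi i ≫ ιW ≫ qP) ≫ a = _
    rw [← Category.assoc, Functor.map_comp, Category.assoc, ← sqP.w, ← Category.assoc, e1]
  have e3 : (yon S).map ub ≫ a = yb ≫ ν := by
    rw [← hfac, ← Category.assoc, hgU]
  have hneq : ∀ {A : Over S} {u v : T ⟶ A}, u = v → eqLoc u v ≠ ∅ := by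
    intro A u v huv he
    subst huv
    rw [eqLoc_self] at he
    exact (Set.mem_empty_iff_false t₀).1 (he ▸ Set.mem_univ t₀)
  have hd0 : ∀ l, eqLoc ub (ui l) = ∅ := by
    intro l
    refine (eq_or_eqLoc_eq_empty c.rep c.et _ _ (e3.trans (e2 l).symm)).resolve_left ?_
    intro hul
    have h1 : wi l ≫ ιW = ub ≫ Δ := by
      apply (yon S).map_injective
      apply sqP.hom_ext
      · rw [e1, Functor.map_comp, Category.assoc, hΔ1, hgU]
      · have hA : (wi l ≫ ιW) ≫ qP = ui l := Category.assoc _ _ _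
        have hB : (ub ≫ Δ) ≫ qP = ub := by rw [Category.assoc, hΔ2, Category.comp_id]
        rw [← Functor.map_comp, ← Functor.map_comp, hA, hB, hul]
    have h2 : (wi l ≫ ιW).left t₀ ∈ Set.range ιW.left := by
      rw [Over.comp_left, Scheme.Hom.comp_apply]
      exact ⟨_, rfl⟩
    rw [hrange, h1, Over.comp_left, Scheme.Hom.comp_apply] at h2
    exact h2 ⟨_, rfl⟩
  have hdkl : ∀ k l, k ≠ l → eqLoc (ui k) (ui l) = ∅ := by
    intro k l hkl
    refine (eq_or_eqLoc_eq_empty c.rep c.et _ _ ((e2 k).trans (e2 l).symm)).resolve_left ?_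
    intro hul
    have h1 : wi k ≫ ιW = wi l ≫ ιW := by
      apply (yon S).map_injective
      apply sqP.hom_ext
      · rw [e1, e1]
      · have hA : ∀ i, (wi i ≫ ιW) ≫ qP = ui i := fun i => Category.assoc _ _ _
        rw [← Functor.map_comp, ← Functor.map_comp, hA, hA, hul]
    have h2 : wi k = wi l := (cancel_mono ιW).1 h1
    exact hneq h2 (PV.eqLoc_comp_wpr cV ω k l hkl)
  let t : Fin (n + 2) → (T ⟶ U) := Fin.cons ub ui
  have ht : ∀ k, (yon S).map (t k) ≫ a = yb ≫ ν := by
    intro k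
    cases k using Fin.cases with
    | zero => exact e3
    | succ k => exact e2 k
  have hd : ∀ k l, k ≠ l → eqLoc (t k) (t l) = ∅ := by
    intro k l hkl
    cases k using Fin.cases with
    | zero =>
      cases l using Fin.cases with
      | zero => exact absurd rfl hkl
      | succ l => exact hd0 l
    | succ k =>
      cases l using Fin.cases with
      | zero => rw [eqLoc_comm]; exact hd0 k
      | succ l => exact hdkl k l (fun h => hkl (by rw [h]))
  let ω' : T ⟶ P'.W c := P'.Wlift c t (fun k l => (ht k).trans (ht l).symm) hd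
  have : Points.ofPt (P'.wπ c) (ω'.left t₀) ∈ P'.E c := ⟨_, rfl⟩
  rw [hE] at this
  exact this

end Groth.Agent.Lib.Helper3.IntCov
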