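import Groth.Agent.Lib.Helper3.ZmtA

set_option autoImplicit false
universe u w

namespace Groth.Agent.Lib.Helper3.ZmtGen

open CategoryTheory CategoryTheory.Limits AlgebraicGeometry Opposite AlgSp
open Groth.Agent.Lib.Helper3 Groth.Agent.Lib.Helper3.RelNorm

variable {S : Scheme.{u}}

section zcoprod

variable {U V : Over S} (γ : V ⟶ U)

/-- The scheme `V ⨿ U` over `S`. -/
noncomputable abbrev zObj (V U : Over S) : Over S :=
  Over.mk (coprod.desc V.hom U.hom : V.left ⨿ U.left ⟶ S)

noncomputable def zInl (V U : Over S) : V ⟶ zObj V U :=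
  Over.homMk (coprod.inl : V.left ⟶ V.left ⨿ U.left) (by
    change coprod.inl ≫ coprod.desc V.hom U.hom = V.hom
    exact coprod.inl_desc _ _)

noncomputable def zInr (V U : Over S) : U ⟶ zObj V U :=
  Over.homMk (coprod.inr : U.left ⟶ V.left ⨿ U.left) (by
    change coprod.inr ≫ coprod.desc V.hom U.hom = U.hom
    exact coprod.inr_desc _ _)

noncomputable def zPi : zObj V U ⟶ U :=
  Over.homMk (coprod.desc γ.left (𝟙 U.left) : V.left ⨿ U.left ⟶ U.left) (by
    change coprod.desc γ.left (𝟙 U.left) ≫ U.hom = coprod.desc V.hom U.hom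
    apply coprod.hom_ext
    · rw [← Category.assoc, coprod.inl_desc, coprod.inl_desc]
      exact Over.w γ
    · rw [← Category.assoc, coprod.inr_desc, coprod.inr_desc, Category.id_comp])

theorem zInl_pi : zInl V U ≫ zPi γ = γ := by
  ext
  change coprod.inl ≫ coprod.desc γ.left (𝟙 U.left) = γ.left
  exact coprod.inl_desc _ _

theorem zInr_pi : zInr V U ≫ zPi γ = 𝟙 U := by
  ext
  change coprod.inr ≫ coprod.desc γ.left (𝟙 U.left) = 𝟙 _
  exact coprod.inr_desc _ _

theorem isIntegralHom_zPi (hγ : IsIntegralHom γ.left) : IsIntegralHom (zPi γ).left := by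
  change IsIntegralHom (coprod.desc γ.left (𝟙 U.left))
  infer_instance

theorem isOpenImmersion_zInl : IsOpenImmersion (zInl V U).left := by
  change IsOpenImmersion (coprod.inl : V.left ⟶ V.left ⨿ U.left)
  infer_instance

theorem isOpenImmersion_zInr : IsOpenImmersion (zInr V U).left := by
  change IsOpenImmersion (coprod.inr : U.left ⟶ V.left ⨿ U.left)
  infer_instance

theorem range_map_yon_map {T T' : Over S} (φ : T ⟶ T') :
    Set.range (Points.map ((yon S).map φ)) = Points.schemeHomeo T' '' Set.range φ.left := by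
  rw [range_map_eq_range_ofPt]
  ext x
  constructor
  · rintro ⟨t, rfl⟩
    exact ⟨φ.left t, ⟨t, rfl⟩, (SpUC.ofPt_yon_map φ t).symm⟩
  · rintro ⟨_, ⟨t, rfl⟩, rfl⟩
    exact ⟨t, SpUC.ofPt_yon_map φ t⟩

theorem nonempty_isColimit_z (V U : Over S) :
    Nonempty (IsColimit (BinaryCofan.mk ((yon S).map (zInl V U)) ((yon S).map (zInr V U)))) := by
  have hc := isCompl_range_inl_inr V.left U.left
  refine nonempty_isColimit_pair _ _ ((repWith_yon_map_iff _ _).2 isOpenImmersion_zInl)
    ((repWith_yon_map_iff _ _).2 isOpenImmersion_zInr) (fun x => ?_) ?_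
  · rw [range_map_yon_map, range_map_yon_map]
    obtain ⟨z, rfl⟩ := (Points.schemeHomeo (zObj V U)).surjective x
    have hz : z ∈ (Set.range (coprod.inl : V.left ⟶ V.left ⨿ U.left)) ∪
        (Set.range (coprod.inr : U.left ⟶ V.left ⨿ U.left)) := by
      have := hc.sup_eq_top
      change _ ∪ _ = Set.univ at this
      rw [this]
      trivial
    rcases hz with hz | hz
    · exact Or.inl ⟨z, hz, rfl⟩
    · exact Or.inr ⟨z, hz, rfl⟩
  · rw [range_map_yon_map, range_map_yon_map]
    rw [Set.disjoint_image_iff (Points.schemeHomeo (zObj V U)).injective]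
    exact hc.disjoint

end zcoprod

end Groth.Agent.Lib.Helper3.ZmtGen
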