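import Mathlib
import Groth.Prelude.Def_AlgSpDec
import Groth.Prelude.Def_AlgSpSub
import Groth.Agent.Lib.Helper3.IntCovC
import Groth.Agent.Lib.Helper3.ZmtB
import Groth.Agent.Lib.Helper3.SpCoprod
import Groth.Agent.Lib.Helper3.ZarGlue

set_option autoImplicit false
universe u
open CategoryTheory CategoryTheory.Limits AlgebraicGeometry Opposite
open AlgSp
open Groth.Agent.Lib.Helper3
open Groth.Agent.Lib.Helper3.FibPow

namespace Groth.Agent.Lib.Helper3.IntCov

set_option backward.isDefEq.respectTransparency false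

variable {S : Scheme.{u}}

/-- A morphism which is integral on two complementary open subschemes is integral. -/
theorem isIntegralHom_of_isCompl {Q T A B : Scheme.{u}} (s : Q ⟶ T) (i₁ : A ⟶ Q) (i₂ : B ⟶ Q)
    [IsOpenImmersion i₁] [IsOpenImmersion i₂]
    (hc : IsCompl i₁.opensRange i₂.opensRange) [IsIntegralHom (i₁ ≫ s)]
    [IsIntegralHom (i₂ ≫ s)] : IsIntegralHom s := by
  obtain ⟨H⟩ := nonempty_isColimit_binaryCofanMk_of_isCompl i₁ i₂ hc
  let e : A ⨿ B ≅ Q := (coprodIsCoprod A B).coconePointUniqueUpToIso H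
  have he1 : coprod.inl ≫ e.hom = i₁ :=
    (coprodIsCoprod A B).comp_coconePointUniqueUpToIso_hom H ⟨WalkingPair.left⟩
  have he2 : coprod.inr ≫ e.hom = i₂ :=
    (coprodIsCoprod A B).comp_coconePointUniqueUpToIso_hom H ⟨WalkingPair.right⟩
  have hs : s = e.inv ≫ coprod.desc (i₁ ≫ s) (i₂ ≫ s) := by
    rw [Iso.eq_inv_comp]
    apply coprod.hom_ext
    · rw [← Category.assoc, he1, coprod.inl_desc]
    · rw [← Category.assoc, he2, coprod.inr_desc]
  rw [hs]
  infer_instance

open Groth.Agent.Lib.Helper3.ZmtGen in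
/-- A morphism from the coproduct of two schemes which is integral on both summands is
integral. -/
theorem repWith_isIntegralHom_coprod {X : Sp S} (hX : IsAlgSpace X) {A B : Over S}
    (g : (yon S).obj (zObj A B) ⟶ X)
    (hα : RepWith @IsIntegralHom ((yon S).map (zInl A B) ≫ g))
    (hβ : RepWith @IsIntegralHom ((yon S).map (zInr A B) ≫ g)) : RepWith @IsIntegralHom g := by
  rw [repWith_iff]
  refine ⟨hX.representable_from_yon g, fun T Q k fst snd sq => ?_⟩
  obtain ⟨φ, rfl⟩ := (yon S).map_surjective fst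
  -- the two open pieces
  have key : ∀ {C : Over S} (ι : C ⟶ zObj A B), IsOpenImmersion ι.left →
      RepWith @IsIntegralHom ((yon S).map ι ≫ g) →
      IsOpenImmersion (pullback.fst φ ι).left ∧
      IsIntegralHom ((pullback.fst φ ι).left ≫ snd.left) ∧
      Set.range (pullback.fst φ ι).left = φ.left ⁻¹' Set.range ι.left := by
    intro C ι hι hC
    have sq₀ := IsPullback.of_hasPullback φ ι
    have sq₁ := sq₀.map (yon S)
    have sq₂ := (sq₁.paste_horiz sq.flip).flip
    rw [← Functor.map_comp] at sq₂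
    have sq₃ : IsPullback (pullback.fst φ ι).left (pullback.snd φ ι).left φ.left ι.left :=
      sq₀.map (Over.forget S)
    refine ⟨MorphismProperty.of_isPullback sq₃.flip hι, ?_, ?_⟩
    · have h : IsIntegralHom (pullback.fst φ ι ≫ snd).left := hC.property _ _ _ sq₂
      rwa [Over.comp_left] at h
    · ext x
      constructor
      · rintro ⟨q, rfl⟩
        refine ⟨(pullback.snd φ ι).left q, ?_⟩
        have := congr($(sq₃.w) q)
        simpa [Scheme.Hom.comp_apply] using this.symm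
      · rintro ⟨c, hc⟩
        obtain ⟨z, hz, -⟩ := exists_left_preimage_pullback φ ι x c hc.symm
        exact ⟨z, hz⟩
  obtain ⟨h1o, h1i, h1r⟩ := key (zInl A B) isOpenImmersion_zInl hα
  obtain ⟨h2o, h2i, h2r⟩ := key (zInr A B) isOpenImmersion_zInr hβ
  have hc := isCompl_range_inl_inr A.left B.left
  have hcompl : IsCompl (pullback.fst φ (zInl A B)).left.opensRange
      (pullback.fst φ (zInr A B)).left.opensRange := by
    rw [isCompl_iff, disjoint_iff, codisjoint_iff]
    constructor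
    · apply TopologicalSpace.Opens.ext
      rw [TopologicalSpace.Opens.coe_inf, Scheme.Hom.coe_opensRange, Scheme.Hom.coe_opensRange,
        h1r, h2r, ← Set.preimage_inter]
      have : Set.range (zInl A B).left ∩ Set.range (zInr A B).left = ∅ :=
        Set.disjoint_iff_inter_eq_empty.1 hc.disjoint
      rw [this]
      rfl
    · apply TopologicalSpace.Opens.ext
      rw [TopologicalSpace.Opens.coe_sup, Scheme.Hom.coe_opensRange, Scheme.Hom.coe_opensRange,
        h1r, h2r, ← Set.preimage_union]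
      have : Set.range (zInl A B).left ∪ Set.range (zInr A B).left = Set.univ :=
        hc.sup_eq_top
      rw [this]
      rfl
  exact isIntegralHom_of_isCompl snd.left _ _ hcompl

/-- A pair of schemes as a family indexed by `ULift Bool`. -/
def pairOv (A B : Over S) : ULift.{u} Bool → Over S
  | ⟨true⟩ => A
  | ⟨false⟩ => B

def pairHomOv {F : Sp S} {A B : Over S} (α : (yon S).obj A ⟶ F) (β : (yon S).obj B ⟶ F) :
    ∀ i, (yon S).obj (pairOv A B i) ⟶ F
  | ⟨true⟩ => α
  | ⟨false⟩ => β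

/-- A sheaf covered by two representable open subsheaves is representable. -/
theorem exists_iso_yon_of_two {F : Sp S} {A B : Over S} (α : (yon S).obj A ⟶ F)
    (β : (yon S).obj B ⟶ F) (hα : RepWith @IsOpenImmersion α) (hβ : RepWith @IsOpenImmersion β)
    (hs : ∀ x : Points F, (∃ u, Points.ofPt α u = x) ∨ (∃ u, Points.ofPt β u = x)) :
    ∃ (G : Over S) (e : (yon S).obj G ≅ F) (jA : A ⟶ G) (jB : B ⟶ G),
      (yon S).map jA ≫ e.hom = α ∧ (yon S).map jB ≫ e.hom = β ∧ IsOpenImmersion jA.left ∧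
      IsOpenImmersion jB.left ∧ ∀ g : ↥G.left, g ∈ Set.range jA.left ∨ g ∈ Set.range jB.left := by
  obtain ⟨G, e, j, hj, hjo, hjs⟩ := exists_iso_yon_of_openCover (pairHomOv α β)
    (fun i => match i with
      | ⟨true⟩ => hα
      | ⟨false⟩ => hβ)
    (fun x => by
      rcases hs x with ⟨u, hu⟩ | ⟨u, hu⟩
      · exact ⟨⟨true⟩, u, hu⟩
      · exact ⟨⟨false⟩, u, hu⟩)
  refine ⟨G, e, j ⟨true⟩, j ⟨false⟩, hj ⟨true⟩, hj ⟨false⟩, hjo ⟨true⟩, hjo ⟨false⟩, fun g => ?_⟩
  obtain ⟨i, hi⟩ := hjs g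
  match i, hi with
  | ⟨true⟩, hi => exact Or.inl hi
  | ⟨false⟩, hi => exact Or.inr hi

/-- Local factorization of `g` through the chart `b`. -/
def LocFac {X : Sp S} {U Y : Over S} (b : (yon S).obj U ⟶ X) (g : (yon S).obj Y ⟶ X) : Prop :=
  ∀ y : ↥Y.left, ∃ (N : Over S) (ι : N ⟶ Y) (c : N ⟶ U), IsOpenImmersion ι.left ∧
    y ∈ Set.range ι.left ∧ (yon S).map c ≫ b = (yon S).map ι ≫ g

theorem LocFac.to_opens {X : Sp S} {U Y : Over S} {b : (yon S).obj U ⟶ X}
    {g : (yon S).obj Y ⟶ X} (h : LocFac b g) (y : ↥Y.left) :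
    ∃ (W : Y.left.Opens) (c : Over.mk (W.ι ≫ Y.hom) ⟶ U), y ∈ W ∧
      (yon S).map c ≫ b =
        (yon S).map (Over.homMk W.ι rfl : Over.mk (W.ι ≫ Y.hom) ⟶ Y) ≫ g := by
  obtain ⟨N, ι, c, hι, hy, hc⟩ := h y
  haveI := hι
  let W : Y.left.Opens := ι.left.opensRange
  let θ : Over.mk (W.ι ≫ Y.hom) ⟶ N := Over.homMk ι.left.isoOpensRange.inv (by
    change ι.left.isoOpensRange.inv ≫ N.hom = W.ι ≫ Y.hom
    rw [← Over.w ι, ← Category.assoc]
    congr 1
    rw [Iso.inv_comp_eq]
    exact (Scheme.Hom.isoOpensRange_hom_ι ι.left).symm)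
  have hθ : θ ≫ ι = (Over.homMk W.ι rfl : Over.mk (W.ι ≫ Y.hom) ⟶ Y) := by
    apply Over.OverMorphism.ext
    change ι.left.isoOpensRange.inv ≫ ι.left = W.ι
    rw [Iso.inv_comp_eq]
    exact (Scheme.Hom.isoOpensRange_hom_ι ι.left).symm
  refine ⟨W, θ ≫ c, hy, ?_⟩
  rw [Functor.map_comp, Category.assoc, hc, ← Category.assoc, ← Functor.map_comp, hθ]

theorem LocFac.of_factor {X : Sp S} {U Y : Over S} {b : (yon S).obj U ⟶ X}
    {g : (yon S).obj Y ⟶ X} (c : Y ⟶ U) (h : (yon S).map c ≫ b = g) : LocFac b g := by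
  intro y
  refine ⟨Y, 𝟙 Y, c, ?_, ⟨y, rfl⟩, ?_⟩
  · change IsOpenImmersion (𝟙 Y.left)
    infer_instance
  · rw [CategoryTheory.Functor.map_id, Category.id_comp, h]

theorem LocFac.refine {X : Sp S} {U U' Y : Over S} {b : (yon S).obj U ⟶ X}
    {g : (yon S).obj Y ⟶ X} (φ : U' ⟶ U) (h : LocFac ((yon S).map φ ≫ b) g) : LocFac b g := by
  intro y
  obtain ⟨N, ι, c, hι, hy, hc⟩ := h y
  refine ⟨N, ι, c ≫ φ, hι, hy, ?_⟩
  rw [Functor.map_comp, Category.assoc, hc]

/-- Local factorization can be checked on an open subscheme. -/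
theorem LocFac.of_open {X : Sp S} {U Y C : Over S} {b : (yon S).obj U ⟶ X}
    {g : (yon S).obj Y ⟶ X} (j : C ⟶ Y) (hj : IsOpenImmersion j.left)
    (h : LocFac b ((yon S).map j ≫ g)) (y : ↥Y.left) (hy : y ∈ Set.range j.left) :
    ∃ (N : Over S) (ι : N ⟶ Y) (c : N ⟶ U), IsOpenImmersion ι.left ∧
      y ∈ Set.range ι.left ∧ (yon S).map c ≫ b = (yon S).map ι ≫ g := by
  obtain ⟨y', rfl⟩ := hy
  obtain ⟨N, ι, c, hι, hy', hc⟩ := h y'
  haveI := hι
  haveI := hj
  refine ⟨N, ι ≫ j, c, ?_, ?_, ?_⟩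
  · rw [Over.comp_left]
    infer_instance
  · obtain ⟨n, rfl⟩ := hy'
    exact ⟨n, by rw [Over.comp_left, Scheme.Hom.comp_apply]⟩
  · rw [hc, Functor.map_comp, Category.assoc]

open Groth.Agent.Lib.Helper3.ZmtGen in
theorem exists_coprod_desc {X : Sp S} {A B : Over S} (α : (yon S).obj A ⟶ X)
    (β : (yon S).obj B ⟶ X) :
    ∃ g : (yon S).obj (zObj A B) ⟶ X, (yon S).map (zInl A B) ≫ g = α ∧
      (yon S).map (zInr A B) ≫ g = β := by
  obtain ⟨H⟩ := nonempty_isColimit_z A B
  obtain ⟨l, h1, h2⟩ := BinaryCofan.IsColimit.desc' H α β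
  exact ⟨l, h1, h2⟩

open Groth.Agent.Lib.Helper3.ZmtGen in
theorem LocFac.coprod {X : Sp S} {U A B : Over S} {b : (yon S).obj U ⟶ X}
    (g : (yon S).obj (zObj A B) ⟶ X) (hA : LocFac b ((yon S).map (zInl A B) ≫ g))
    (hB : LocFac b ((yon S).map (zInr A B) ≫ g)) : LocFac b g := by
  intro y
  have hc := isCompl_range_inl_inr A.left B.left
  have hy : y ∈ Set.range (zInl A B).left ∪ Set.range (zInr A B).left := by
    have : Set.range (zInl A B).left ∪ Set.range (zInr A B).left = Set.univ := hc.sup_eq_top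
    rw [this]
    trivial
  rcases hy with hy | hy
  · exact LocFac.of_open (zInl A B) isOpenImmersion_zInl hA y hy
  · exact LocFac.of_open (zInr A B) isOpenImmersion_zInr hB y hy

end Groth.Agent.Lib.Helper3.IntCov
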