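import Mathlib
import Groth.Prelude.Def_AlgSpDec
import Groth.Agent.Lib.Helper3.DensB
import Groth.Agent.Lib.Helper3.GenFinSp3
import Groth.Agent.Lib.Helper3.IntCovD
import Groth.Agent.Lib.Helper3.AlgSpOpenSub
import Groth.Agent.Lib.Helper3.AlgSpZarDecent

set_option autoImplicit false
universe u
open CategoryTheory CategoryTheory.Limits AlgebraicGeometry Opposite Topology
open AlgSp
open Groth.Agent.Lib.Helper3 Groth.Agent.Lib.Helper3.GenFinSp Groth.Agent.Lib.Helper3.ZmtGen
  Groth.Agent.Lib.Helper3.IntCov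

namespace Groth.Agent.Lib.Helper3.Dens

set_option backward.isDefEq.respectTransparency false

variable {S : Scheme.{u}}

/-- `g` is finite etale over the set `O` of points of `X`: every base change of `g` to a scheme
mapping into `O` is finite etale. -/
def FEtOver {X : Sp S} {Y : Over S} (g : (yon S).obj Y ⟶ X) (O : Set (Points X)) : Prop :=
  ∀ ⦃T P : Over S⦄ (t : (yon S).obj T ⟶ X) (fst : P ⟶ Y) (snd : P ⟶ T),
    IsPullback ((yon S).map fst) ((yon S).map snd) g t → (∀ p : ↥T.left, Points.ofPt t p ∈ O) →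
    IsFinite snd.left ∧ Etale snd.left

theorem FEtOver.mono {X : Sp S} {Y : Over S} {g : (yon S).obj Y ⟶ X} {O O' : Set (Points X)}
    (h : FEtOver g O) (hO : O' ⊆ O) : FEtOver g O' :=
  fun _ _ t fst snd sq ht => h t fst snd sq (fun p => hO (ht p))

/-- Points of the pullback map into the range of `g`. -/
theorem ofPt_snd_mem_range {X : Sp S} {Y T P : Over S} {g : (yon S).obj Y ⟶ X}
    {t : (yon S).obj T ⟶ X} {fst : P ⟶ Y} {snd : P ⟶ T}
    (sq : IsPullback ((yon S).map fst) ((yon S).map snd) g t) (p : ↥P.left) :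
    Points.ofPt t (snd.left p) ∈ Set.range (Points.map g) := by
  refine ⟨Points.ofPt ((yon S).map fst) p, ?_⟩
  rw [Points.map_ofPt, sq.w, SpUC.ofPt_comp_yon_map]

theorem fEtOver_of_disjoint {X : Sp S} {Y : Over S} (g : (yon S).obj Y ⟶ X) (O : Set (Points X))
    (hdisj : Disjoint O (Set.range (Points.map g))) : FEtOver g O := by
  intro T P t fst snd sq ht
  haveI hemp : IsEmpty ↥P.left := ⟨fun p =>
    Set.disjoint_left.1 hdisj (ht (snd.left p)) (ofPt_snd_mem_range sq p)⟩
  haveI : IsClosedImmersion snd.left := by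
    refine IsClosedImmersion.of_isPreimmersion snd.left ?_
    have : Set.range snd.left = ∅ := Set.range_eq_empty _
    rw [this]
    exact isClosed_empty
  exact ⟨inferInstance, inferInstance⟩

/-- Restriction of a pullback square over an open of the test scheme. -/
theorem isPullback_restrict {X : Sp S} {Y T P : Over S} {g : (yon S).obj Y ⟶ X}
    {t : (yon S).obj T ⟶ X} {fst : P ⟶ Y} {snd : P ⟶ T}
    (sq : IsPullback ((yon S).map fst) ((yon S).map snd) g t) (N : T.left.Opens) :
    IsPullback ((yon S).map (opι P (snd.left ⁻¹ᵁ N) ≫ fst)) ((yon S).map (opRes snd N)) g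
      ((yon S).map (opι T N) ≫ t) := by
  have h1 := (isPullback_opRes snd N).map (yon S)
  have h2 := h1.paste_horiz sq
  rwa [← Functor.map_comp] at h2

theorem FEtOver.union {X : Sp S} {Y : Over S} {g : (yon S).obj Y ⟶ X} {O₁ O₂ : Set (Points X)}
    (h₁ : FEtOver g O₁) (h₂ : FEtOver g O₂) (hO₁ : IsOpen O₁) (hO₂ : IsOpen O₂) :
    FEtOver g (O₁ ∪ O₂) := by
  intro T P t fst snd sq ht
  let N : ULift.{u} Bool → T.left.Opens := fun i =>
    match i with
    | ⟨true⟩ => ⟨Points.ofPt t ⁻¹' O₁, hO₁.preimage (Points.continuous_ofPt t)⟩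
    | ⟨false⟩ => ⟨Points.ofPt t ⁻¹' O₂, hO₂.preimage (Points.continuous_ofPt t)⟩
  have hN : iSup N = ⊤ := by
    rw [eq_top_iff]
    intro p _
    rw [TopologicalSpace.Opens.mem_iSup]
    rcases ht p with hp | hp
    · exact ⟨⟨true⟩, hp⟩
    · exact ⟨⟨false⟩, hp⟩
  have key : ∀ i, IsFinite (snd.left ∣_ N i) ∧ Etale (snd.left ∣_ N i) := by
    intro i
    have sqi := isPullback_restrict sq (N i)
    match i with
    | ⟨true⟩ =>
      refine h₁ _ _ _ sqi (fun p => ?_)
      rw [SpUC.ofPt_comp_yon_map]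
      exact p.2
    | ⟨false⟩ =>
      refine h₂ _ _ _ sqi (fun p => ?_)
      rw [SpUC.ofPt_comp_yon_map]
      exact p.2
  exact ⟨(IsZariskiLocalAtTarget.iff_of_iSup_eq_top (P := @IsFinite) N hN).2 fun i => (key i).1,
    (IsZariskiLocalAtTarget.iff_of_iSup_eq_top (P := @Etale) N hN).2 fun i => (key i).2⟩

/-- A morphism of schemes which is finite etale on two complementary open subschemes of the
source is finite etale. -/
theorem isFinite_etale_of_isCompl {Q T A B : Scheme.{u}} (s : Q ⟶ T) (i₁ : A ⟶ Q) (i₂ : B ⟶ Q)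
    [IsOpenImmersion i₁] [IsOpenImmersion i₂]
    (hc : IsCompl i₁.opensRange i₂.opensRange) (h₁ : IsFinite (i₁ ≫ s) ∧ Etale (i₁ ≫ s))
    (h₂ : IsFinite (i₂ ≫ s) ∧ Etale (i₂ ≫ s)) : IsFinite s ∧ Etale s := by
  haveI := h₁.1
  haveI := h₁.2
  haveI := h₂.1
  haveI := h₂.2
  haveI : IsIntegralHom s := isIntegralHom_of_isCompl s i₁ i₂ hc
  let U : ULift.{u} Bool → Q.Opens := fun i =>
    match i with
    | ⟨true⟩ => i₁.opensRange
    | ⟨false⟩ => i₂.opensRange
  have hU : iSup U = ⊤ := by
    rw [eq_top_iff, ← hc.sup_eq_top]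
    refine sup_le ?_ ?_
    · exact le_iSup U ⟨true⟩
    · exact le_iSup U ⟨false⟩
  have hloc : ∀ (P : MorphismProperty Scheme.{u}) [IsZariskiLocalAtSource P],
      P (i₁ ≫ s) → P (i₂ ≫ s) → P s := by
    intro P _ hP₁ hP₂
    rw [IsZariskiLocalAtSource.iff_of_iSup_eq_top (P := P) U hU]
    intro i
    match i with
    | ⟨true⟩ =>
      change P (i₁.opensRange.ι ≫ s)
      have : i₁.opensRange.ι ≫ s = (i₁.isoOpensRange).inv ≫ (i₁ ≫ s) := by
        rw [← Category.assoc]
        congr 1
        rw [Iso.eq_inv_comp]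
        exact i₁.isoOpensRange_hom_ι
      rw [this]
      exact (MorphismProperty.cancel_left_of_respectsIso P _ _).2 hP₁
    | ⟨false⟩ =>
      change P (i₂.opensRange.ι ≫ s)
      have : i₂.opensRange.ι ≫ s = (i₂.isoOpensRange).inv ≫ (i₂ ≫ s) := by
        rw [← Category.assoc]
        congr 1
        rw [Iso.eq_inv_comp]
        exact i₂.isoOpensRange_hom_ι
      rw [this]
      exact (MorphismProperty.cancel_left_of_respectsIso P _ _).2 hP₂
  haveI : LocallyOfFiniteType s := hloc @LocallyOfFiniteType inferInstance inferInstance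
  exact ⟨(IsFinite.iff_isIntegralHom_and_locallyOfFiniteType s).2 ⟨inferInstance, inferInstance⟩,
    hloc @Etale inferInstance inferInstance⟩

/-- A coproduct of two covers which are finite etale over `O` is finite etale over `O`. -/
theorem FEtOver.coprod {X : Sp S} {A B : Over S} (g : (yon S).obj (zObj A B) ⟶ X)
    {O : Set (Points X)} (hα : FEtOver ((yon S).map (zInl A B) ≫ g) O)
    (hβ : FEtOver ((yon S).map (zInr A B) ≫ g) O) : FEtOver g O := by
  intro T Q t φ snd sq ht
  have key : ∀ {C : Over S} (ι : C ⟶ zObj A B), IsOpenImmersion ι.left →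
      FEtOver ((yon S).map ι ≫ g) O →
      IsOpenImmersion (pullback.fst φ ι).left ∧
      (IsFinite ((pullback.fst φ ι).left ≫ snd.left) ∧
        Etale ((pullback.fst φ ι).left ≫ snd.left)) ∧
      Set.range (pullback.fst φ ι).left = φ.left ⁻¹' Set.range ι.left := by
    intro C ι hι hC
    have sq₀ := IsPullback.of_hasPullback φ ι
    have sq₁ := sq₀.map (yon S)
    have sq₂ := (sq₁.paste_horiz sq.flip).flip
    rw [← Functor.map_comp] at sq₂
    have sq₃ : IsPullback (pullback.fst φ ι).left (pullback.snd φ ι).left φ.left ι.left :=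
      sq₀.map (Over.forget S)
    refine ⟨MorphismProperty.of_isPullback sq₃.flip hι, ?_, ?_⟩
    · have h := hC t (pullback.snd φ ι) (pullback.fst φ ι ≫ snd) sq₂ ht
      rwa [Over.comp_left] at h
    · ext x
      constructor
      · rintro ⟨q, rfl⟩
        refine ⟨(pullback.snd φ ι).left q, ?_⟩
        have := congr($(sq₃.w) q)
        simpa [Scheme.Hom.comp_apply] using this.symm
      · rintro ⟨c, hc⟩
        obtain ⟨z, hz, -⟩ := exists_left_preimage_pullback φ ι x c hc.symm
        exact ⟨z, hz⟩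
  obtain ⟨h1o, h1i, h1r⟩ := key (zInl A B) isOpenImmersion_zInl hα
  obtain ⟨h2o, h2i, h2r⟩ := key (zInr A B) isOpenImmersion_zInr hβ
  have hc := isCompl_range_inl_inr A.left B.left
  have hcompl : IsCompl (pullback.fst φ (zInl A B)).left.opensRange
      (pullback.fst φ (zInr A B)).left.opensRange := by
    rw [isCompl_iff, disjoint_iff, codisjoint_iff]
    constructor
    · apply TopologicalSpace.Opens.ext
      rw [TopologicalSpace.Opens.coe_inf, Scheme.Hom.coe_opensRange, Scheme.Hom.coe_opensRange,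
        h1r, h2r, ← Set.preimage_inter]
      have : Set.range (zInl A B).left ∩ Set.range (zInr A B).left = ∅ :=
        Set.disjoint_iff_inter_eq_empty.1 hc.disjoint
      rw [this]
      rfl
    · apply TopologicalSpace.Opens.ext
      rw [TopologicalSpace.Opens.coe_sup, Scheme.Hom.coe_opensRange, Scheme.Hom.coe_opensRange,
        h1r, h2r, ← Set.preimage_union]
      have : Set.range (zInl A B).left ∪ Set.range (zInr A B).left = Set.univ :=
        hc.sup_eq_top
      rw [this]
      rfl
  exact isFinite_etale_of_isCompl snd.left _ _ hcompl h1i h2i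

/-- Transfer of finite etaleness along a cartesian square over an open immersion. -/
theorem FEtOver.of_isPullback {Y V : Sp S} {Z G : Over S} (gZ : (yon S).obj Z ⟶ V)
    (gG : (yon S).obj G ⟶ Y) (jV : V ⟶ Y) (hjV : RepWith @IsOpenImmersion jV) (jz : Z ⟶ G)
    (hsq : IsPullback ((yon S).map jz) gZ gG jV) {O : Set (Points V)} (h : FEtOver gZ O) :
    FEtOver gG (Points.map jV '' O) := by
  intro T P t fst snd sq ht
  haveI : Mono jV := mono_of_repWith_isOpenImmersion jV hjV
  obtain ⟨t', ht'⟩ := exists_factor_of_range_subset jV hjV t (by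
    rw [range_map_eq_range_ofPt]
    rintro _ ⟨p, rfl⟩
    obtain ⟨v, -, hv⟩ := ht p
    exact ⟨v, hv⟩)
  have hw : (yon S).map fst ≫ gG = ((yon S).map snd ≫ t') ≫ jV := by
    rw [Category.assoc, ht', sq.w]
  obtain ⟨lZ, hlZ⟩ := (yon S).map_surjective (hsq.lift ((yon S).map fst) ((yon S).map snd ≫ t') hw)
  have h1 : (yon S).map lZ ≫ (yon S).map jz = (yon S).map fst := by rw [hlZ, hsq.lift_fst]
  have h2 : (yon S).map lZ ≫ gZ = (yon S).map snd ≫ t' := by rw [hlZ, hsq.lift_snd]
  have sqbig : IsPullback ((yon S).map lZ ≫ (yon S).map jz) ((yon S).map snd) gG (t' ≫ jV) := by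
    rw [h1, ht']
    exact sq
  have sqleft : IsPullback ((yon S).map lZ) ((yon S).map snd) gZ t' :=
    IsPullback.of_right sqbig h2 hsq
  refine h t' lZ snd sqleft (fun p => ?_)
  obtain ⟨v, hv, hvp⟩ := ht p
  have : Points.map jV (Points.ofPt t' p) = Points.map jV v := by
    rw [Points.map_ofPt, ht', hvp]
  rw [Points.map_injective_of_mono jV this]
  exact hv

end Groth.Agent.Lib.Helper3.Dens
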