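import Mathlib
import Groth.Prelude.Def_AlgSpDec
import Groth.Prelude.Def_AlgSpSub
import Groth.Agent.Lib.Helper3.IntCovD

set_option autoImplicit false
universe u
open CategoryTheory CategoryTheory.Limits AlgebraicGeometry Opposite
open AlgSp
open Groth.Agent.Lib.Helper3
open Groth.Agent.Lib.Helper3.FibPow

namespace Groth.Agent.Lib.Helper3.IntCov

set_option backward.isDefEq.respectTransparency false

variable {S : Scheme.{u}}

/-- **Extension of the integral cover of `V` to an integral scheme over `Y`.** -/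
theorem exists_extension [QuasiSeparatedSpace ↥S] {X Y V : Sp S} (hY : IsAlgSpace Y)
    (hYqs : IsQuasiSeparatedSp Y) (hV : IsAlgSpace V) {U W Z : Over S} [IsAffine U.left]
    [IsAffine W.left] (a : (yon S).obj U ⟶ X) (ν : Y ⟶ X) (f' : (yon S).obj U ⟶ Y)
    (hfac : f' ≫ ν = a) (hf'o : RepWith @IsOpenImmersion f')
    (jV : V ⟶ Y) (hjV : RepWith @IsOpenImmersion jV) (aV : (yon S).obj W ⟶ V)
    (haVe : RepWith @Etale aV) (haVs : RepWith @Surjective aV) (q : W ⟶ U)
    (hq : (yon S).map q ≫ a = aV ≫ jV ≫ ν)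
    (hcov : ∀ y : Points Y, y ∈ Set.range (Points.map jV) ∨ y ∈ Set.range (Points.map f'))
    (gZ : (yon S).obj Z ⟶ V) (hgZi : RepWith @IsIntegralHom gZ) (hgZs : RepWith @Surjective gZ)
    (hLF : LocFac aV gZ) :
    ∃ (G : Over S) (gG : (yon S).obj G ⟶ Y), RepWith @IsIntegralHom gG ∧
      Set.range (Points.map jV) ⊆ Set.range (Points.map gG) ∧ LocFac a (gG ≫ ν) := by
  have hVqc : IsQuasiCompactSp V := ⟨W, aV, haVe, haVs, inferInstance⟩
  have hjq : IsQuasiCompactMor jV :=
    isQuasiCompactMor_of_isQuasiCompactSp_of_isQuasiSeparatedSp hV jV hVqc hYqs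
  let Vs : Space S := ⟨V, hV⟩
  let Ys : Space S := ⟨Y, hY⟩
  let Zs : Space S := ⟨(yon S).obj Z, IsAlgSpace.yon_obj Z⟩
  let j : Vs ⟶ Ys := ObjectProperty.homMk jV
  let π : Zs ⟶ Vs := ObjectProperty.homMk gZ
  have hπ : IsIntegralMor gZ := (isIntegralMor_iff_repWith gZ).2 hgZi
  obtain ⟨Y', ν', j', hν', sq⟩ := IntExt.main10376 j hjV hjq π hπ
  change IsPullback j'.hom gZ ν'.hom jV at sq
  have hj'o : RepWith @IsOpenImmersion j'.hom := MorphismProperty.of_isPullback sq.flip hjV
  obtain ⟨U'', i'', fst'', sq'', hU''aff, hi''int⟩ := hν' (Z := U) inferInstance f'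
  have hfst''o : RepWith @IsOpenImmersion fst'' := MorphismProperty.of_isPullback sq''.flip hf'o
  have hs : ∀ x : Points Y'.obj, (∃ u, Points.ofPt j'.hom u = x) ∨
      (∃ u, Points.ofPt fst'' u = x) := by
    intro x
    rcases hcov (Points.map ν'.hom x) with ⟨v, hv⟩ | ⟨u, hu⟩
    · left
      obtain ⟨z, hz1, -⟩ := Points.exists_of_isPullback sq x v hv.symm
      have : x ∈ Set.range (Points.ofPt j'.hom) := by
        rw [← range_map_eq_range_ofPt]; exact ⟨z, hz1⟩
      exact this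
    · right
      obtain ⟨z, hz1, -⟩ := Points.exists_of_isPullback sq'' x u hu.symm
      have : x ∈ Set.range (Points.ofPt fst'') := by
        rw [← range_map_eq_range_ofPt]; exact ⟨z, hz1⟩
      exact this
  obtain ⟨G, e, jz, ju, hjz, hju, hjzo, hjuo, hjcov⟩ :=
    exists_iso_yon_of_two j'.hom fst'' hj'o hfst''o hs
  refine ⟨G, e.hom ≫ ν'.hom, ?_, ?_, ?_⟩
  · exact MorphismProperty.RespectsIso.precomp _ e.hom _ ((isIntegralMor_iff_repWith _).1 hν')
  · rintro _ ⟨v, rfl⟩
    obtain ⟨z, rfl⟩ := surjective_map_of_repWith hgZs v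
    refine ⟨Points.map e.inv (Points.map j'.hom z), ?_⟩
    rw [← Points.map_comp, ← Points.map_comp, ← Points.map_comp, Iso.inv_hom_id_assoc, sq.w]
  · intro g
    rcases hjcov g with hg | hg
    · refine LocFac.of_open jz hjzo ?_ g hg
      intro z
      obtain ⟨N, ι₀, c₀, hι₀, hz, hc₀⟩ := hLF z
      refine ⟨N, ι₀, c₀ ≫ q, hι₀, hz, ?_⟩
      rw [Functor.map_comp, Category.assoc, hq, ← Category.assoc, hc₀, Category.assoc,
        ← Category.assoc gZ, ← sq.w, ← hjz]
      simp only [Category.assoc]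
    · refine LocFac.of_open ju hjuo (LocFac.of_factor i'' ?_) g hg
      rw [← hfac, ← Category.assoc, ← sq''.w, ← hju]
      simp only [Category.assoc]

end Groth.Agent.Lib.Helper3.IntCov
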