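import Mathlib
import Groth.Prelude.Def_AlgSpDec
import Groth.Prelude.Def_AlgSpSub
import Groth.Agent.Lib.Helper3.IntCovE
import Groth.Agent.Lib.Helper3.DensC

set_option autoImplicit false
universe u
open CategoryTheory CategoryTheory.Limits AlgebraicGeometry Opposite Topology
open AlgSp
open Groth.Agent.Lib.Helper3 Groth.Agent.Lib.Helper3.RelNorm
open Groth.Agent.Lib.Helper3.FibPow Groth.Agent.Lib.Helper3.IntCov Groth.Agent.Lib.Helper3.IntExt

namespace Groth.Agent.Lib.Helper3.Dens

set_option backward.isDefEq.respectTransparency false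

variable {S : Scheme.{u}}

/-- Variant of `IntExt.main10376` which also records the density of the source in the
extension. -/
theorem main10376' {V Y Z : AlgSp.Space S} (j : V ⟶ Y)
    (hj : AlgSp.RepWith @IsOpenImmersion j.hom) (hjq : AlgSp.IsQuasiCompactMor j.hom) (π : Z ⟶ V)
    (hπ : AlgSp.IsIntegralMor π.hom) :
    ∃ (Y' : AlgSp.Space S) (ν : Y' ⟶ Y) (j' : Z ⟶ Y'), AlgSp.IsIntegralMor ν.hom ∧
      IsPullback j'.hom π.hom ν.hom j.hom ∧ Dense (Set.range (Points.map j'.hom)) := by
  have hjm : Mono j.hom := mono_of_repWith_isOpenImmersion _ hj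
  have hqc : IsQuasiCompactMor (π ≫ j).hom :=
    isQuasiCompactMor_comp V.property Y.property.1 (isQuasiCompactMor_of_isIntegralMor hπ) hjq
  have hqs : IsQuasiSeparatedMor (π ≫ j).hom :=
    RDvr.isQuasiSeparatedMor_of_isSeparatedMor
      (isSeparatedMor_comp (isSeparatedMor_of_isIntegralMor hπ)
        (Groth.Agent.S9937.isSeparatedMor_of_mono j.hom))
  obtain ⟨Y', ν, f', hn⟩ := main10295 (π ≫ j) hqc hqs
  have hje : IsEtaleMor j.hom :=
    isEtaleMor_of_repWith_etale (repWith_mono isOpenImmersion_le_etale hj)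
  -- the base change of the source
  have sq1 : IsPullback (𝟙 Z.obj) π.hom (π ≫ j).hom j.hom := by
    have h0 : IsPullback (𝟙 Z.obj) π.hom π.hom (𝟙 V.obj) := IsPullback.of_horiz_isIso ⟨by simp⟩
    have h1 : IsPullback (𝟙 V.obj) (𝟙 V.obj) j.hom j.hom := IsPullback.of_isLimit
      (PullbackCone.isLimitMkIdId j.hom)
    have := h0.paste_vert h1
    simpa using this
  -- the base change of the normalization
  let P : Sp S := pullback ν.hom j.hom
  have sq2 : IsPullback (pullback.fst ν.hom j.hom) (pullback.snd ν.hom j.hom) ν.hom j.hom :=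
    IsPullback.of_hasPullback _ _
  have hP : IsAlgSpace P := isAlgSpace_of_isPullback' Y.property Y'.property V.property sq2
  have hw : f'.hom ≫ ν.hom = π.hom ≫ j.hom := hn.1
  let f'W : Z.obj ⟶ P := pullback.lift f'.hom π.hom hw
  have c1 : f'W ≫ pullback.snd ν.hom j.hom = π.hom := pullback.lift_snd _ _ _
  have c2 : f'W ≫ pullback.fst ν.hom j.hom = f'.hom := pullback.lift_fst _ _ _
  have hnW : IsRelNormalization π.hom (pullback.snd ν.hom j.hom) f'W :=
    main10297 (W := V) (YW := Z) (X'W := ⟨P, hP⟩) (π ≫ j) hqc hqs ν f' hn j hje (𝟙 Z) π sq1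
      (ObjectProperty.homMk (pullback.fst ν.hom j.hom))
      (ObjectProperty.homMk (pullback.snd ν.hom j.hom)) sq2 (ObjectProperty.homMk f'W)
      (by ext1; exact c1) (by ext1; exact c2.trans (Category.id_comp _).symm)
  obtain ⟨e, he1, he2⟩ := isRelNormalization_unique Z.property hP
    (isRelNormalization_self π.hom hπ) hnW
  rw [Category.id_comp] at he1
  have sq : IsPullback f'.hom π.hom ν.hom j.hom := by
    refine IsPullback.of_iso sq2 e.symm (Iso.refl _) (Iso.refl _) (Iso.refl _) ?_ ?_ ?_ ?_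
    · change pullback.fst ν.hom j.hom ≫ 𝟙 _ = e.inv ≫ f'.hom
      rw [Category.comp_id, eq_comm, Iso.inv_comp_eq, he1, c2]
    · change pullback.snd ν.hom j.hom ≫ 𝟙 _ = e.inv ≫ π.hom
      rw [Category.comp_id, eq_comm, Iso.inv_comp_eq, he2]
    · simp
    · simp
  refine ⟨Y', ν, f', hn.2.1, sq, ?_⟩
  exact dense_of_isRelNormalization (π ≫ j) ν f' hn (isQuasiCompactMor_of_isPullback sq.flip hjq)

/-- **Extension of the integral cover of `V` to an integral scheme over `Y`**, keeping track of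
the cartesian square over `V` and of the density of the part over `V`. -/
theorem exists_extension' [QuasiSeparatedSpace ↥S] {X Y V : Sp S} (hY : IsAlgSpace Y)
    (hYqs : IsQuasiSeparatedSp Y) (hV : IsAlgSpace V) {U W Z : Over S} [IsAffine U.left]
    [IsAffine W.left] (a : (yon S).obj U ⟶ X) (ν : Y ⟶ X) (f' : (yon S).obj U ⟶ Y)
    (hfac : f' ≫ ν = a) (hf'o : RepWith @IsOpenImmersion f')
    (jV : V ⟶ Y) (hjV : RepWith @IsOpenImmersion jV) (aV : (yon S).obj W ⟶ V)
    (haVe : RepWith @Etale aV) (haVs : RepWith @Surjective aV) (q : W ⟶ U)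
    (hq : (yon S).map q ≫ a = aV ≫ jV ≫ ν)
    (hcov : ∀ y : Points Y, y ∈ Set.range (Points.map jV) ∨ y ∈ Set.range (Points.map f'))
    (gZ : (yon S).obj Z ⟶ V) (hgZi : RepWith @IsIntegralHom gZ) (hgZs : RepWith @Surjective gZ)
    (hLF : LocFac aV gZ) :
    ∃ (G : Over S) (gG : (yon S).obj G ⟶ Y) (jz : Z ⟶ G), RepWith @IsIntegralHom gG ∧
      Set.range (Points.map jV) ⊆ Set.range (Points.map gG) ∧ LocFac a (gG ≫ ν) ∧
      IsPullback ((yon S).map jz) gZ gG jV ∧
      Set.range (Points.map gG) ⊆ closure (Set.range (Points.map jV)) := by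
  have hVqc : IsQuasiCompactSp V := ⟨W, aV, haVe, haVs, inferInstance⟩
  have hjq : IsQuasiCompactMor jV :=
    isQuasiCompactMor_of_isQuasiCompactSp_of_isQuasiSeparatedSp hV jV hVqc hYqs
  let Vs : Space S := ⟨V, hV⟩
  let Ys : Space S := ⟨Y, hY⟩
  let Zs : Space S := ⟨(yon S).obj Z, IsAlgSpace.yon_obj Z⟩
  let j : Vs ⟶ Ys := ObjectProperty.homMk jV
  let π : Zs ⟶ Vs := ObjectProperty.homMk gZ
  have hπ : IsIntegralMor gZ := (isIntegralMor_iff_repWith gZ).2 hgZi
  obtain ⟨Y', ν', j', hν', sq, hdense⟩ := main10376' j hjV hjq π hπ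
  change IsPullback j'.hom gZ ν'.hom jV at sq
  have hj'o : RepWith @IsOpenImmersion j'.hom := MorphismProperty.of_isPullback sq.flip hjV
  obtain ⟨U'', i'', fst'', sq'', hU''aff, hi''int⟩ := hν' (Z := U) inferInstance f'
  have hfst''o : RepWith @IsOpenImmersion fst'' := MorphismProperty.of_isPullback sq''.flip hf'o
  have hs : ∀ x : Points Y'.obj, (∃ u, Points.ofPt j'.hom u = x) ∨
      (∃ u, Points.ofPt fst'' u = x) := by
    intro x
    rcases hcov (Points.map ν'.hom x) with ⟨v, hv⟩ | ⟨u, hu⟩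
    · left
      obtain ⟨z, hz1, -⟩ := Points.exists_of_isPullback sq x v hv.symm
      have : x ∈ Set.range (Points.ofPt j'.hom) := by
        rw [← range_map_eq_range_ofPt]; exact ⟨z, hz1⟩
      exact this
    · right
      obtain ⟨z, hz1, -⟩ := Points.exists_of_isPullback sq'' x u hu.symm
      have : x ∈ Set.range (Points.ofPt fst'') := by
        rw [← range_map_eq_range_ofPt]; exact ⟨z, hz1⟩
      exact this
  obtain ⟨G, e, jz, ju, hjz, hju, hjzo, hjuo, hjcov⟩ :=
    exists_iso_yon_of_two j'.hom fst'' hj'o hfst''o hs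
  refine ⟨G, e.hom ≫ ν'.hom, jz, ?_, ?_, ?_, ?_, ?_⟩
  · exact MorphismProperty.RespectsIso.precomp _ e.hom _ ((isIntegralMor_iff_repWith _).1 hν')
  · rintro _ ⟨v, rfl⟩
    obtain ⟨z, rfl⟩ := surjective_map_of_repWith hgZs v
    refine ⟨Points.map e.inv (Points.map j'.hom z), ?_⟩
    rw [← Points.map_comp, ← Points.map_comp, ← Points.map_comp, Iso.inv_hom_id_assoc, sq.w]
  · intro g
    rcases hjcov g with hg | hg
    · refine LocFac.of_open jz hjzo ?_ g hg
      intro z
      obtain ⟨N, ι₀, c₀, hι₀, hz, hc₀⟩ := hLF z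
      refine ⟨N, ι₀, c₀ ≫ q, hι₀, hz, ?_⟩
      rw [Functor.map_comp, Category.assoc, hq, ← Category.assoc, hc₀, Category.assoc,
        ← Category.assoc gZ, ← sq.w, ← hjz]
      simp only [Category.assoc]
    · refine LocFac.of_open ju hjuo (LocFac.of_factor i'' ?_) g hg
      rw [← hfac, ← Category.assoc, ← sq''.w, ← hju]
      simp only [Category.assoc]
  · have hright : IsPullback e.hom (e.hom ≫ ν'.hom) ν'.hom (𝟙 Y) :=
      IsPullback.of_horiz_isIso ⟨by rw [Category.assoc, Category.comp_id]⟩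
    have hbig : IsPullback ((yon S).map jz ≫ e.hom) gZ ν'.hom (jV ≫ 𝟙 Y) := by
      rw [hjz, Category.comp_id]
      exact sq
    exact IsPullback.of_right hbig (by rw [← Category.assoc, hjz, sq.w]) hright
  · rintro _ ⟨x, rfl⟩
    have hy' : Points.map e.hom x ∈ closure (Set.range (Points.map j'.hom)) := hdense _
    have h1 := image_closure_subset_closure_image (Points.continuous_map ν'.hom)
      (Set.mem_image_of_mem _ hy')
    rw [Points.map_comp]
    refine closure_mono ?_ h1
    rintro _ ⟨_, ⟨z, rfl⟩, rfl⟩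
    refine ⟨Points.map gZ z, ?_⟩
    rw [← Points.map_comp, ← Points.map_comp, sq.w]

end Groth.Agent.Lib.Helper3.Dens
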