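import Mathlib
import Groth.Prelude.Def_AlgSpDec
import Groth.Prelude.Def_AlgSpSub
import Groth.Agent.Lib.Helper3.DensD
import Groth.Agent.Lib.Helper3.MinPts
import Groth.Agent.Lib.Helper3.AlgSpLocFinIrred
import Groth.Agent.Lib.Helper3.BiratD2

set_option autoImplicit false
universe u
open CategoryTheory CategoryTheory.Limits AlgebraicGeometry Opposite Topology
open AlgSp
open Groth.Agent.Lib.Helper3 Groth.Agent.Lib.Helper3.RelNorm
open Groth.Agent.Lib.Helper3.FibPow Groth.Agent.Lib.Helper3.IntCov Groth.Agent.Lib.Helper3.IntExt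

namespace Groth.Agent.Lib.Helper3.Dens

set_option backward.isDefEq.respectTransparency false

variable {S : Scheme.{u}}

/-- In a quasi-separated scheme with finitely many maximal points, every open contains an affine
open containing all the maximal points of the open. -/
theorem exists_affineOpen_subset (U : Scheme.{u}) [QuasiSeparatedSpace ↥U]
    (hfin : (maxPts ↥U).Finite) (Ω₀ : U.Opens) :
    ∃ A : U.Opens, IsAffineOpen A ∧ A ≤ Ω₀ ∧ maxPts ↥U ∩ (Ω₀ : Set ↥U) ⊆ (A : Set ↥U) := by
  haveI : QuasiSeparatedSpace ↥(Ω₀ : Scheme.{u}) :=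
    QuasiSeparatedSpace.of_isOpenEmbedding Ω₀.ι.isOpenEmbedding
  let E : Set ↥(Ω₀ : Scheme.{u}) := {e | Ω₀.ι e ∈ maxPts ↥U}
  have hE : E.Finite := hfin.preimage (Ω₀.ι.isOpenEmbedding.injective.injOn)
  obtain ⟨V, hV, hEV⟩ := MinPts.exists_isAffineOpen_of_finite E hE (fun e he => by
    rw [stalk_dim_zero_iff_mem_maxPts]
    exact (BiratD.mem_maxPts_iff_of_isOpenEmbedding Ω₀.ι.isOpenEmbedding e).2 he)
  refine ⟨Ω₀.ι ''ᵁ V, hV.image_of_isOpenImmersion Ω₀.ι, Scheme.Opens.ι_image_le _ _, ?_⟩
  rintro x ⟨hx, hxΩ⟩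
  exact ⟨⟨x, hxΩ⟩, hEV hx, rfl⟩

/-- A closed immersion into a scheme followed by an open immersion of the scheme into a sheaf, with
closed image, is a closed immersion. -/
theorem repWith_isClosedImmersion_comp {Y : Sp S} {T₁ U : Over S} (κ : T₁ ⟶ U)
    [IsClosedImmersion κ.left] (f' : (yon S).obj U ⟶ Y) (hf'o : RepWith @IsOpenImmersion f')
    (hcl : IsClosed (Set.range (Points.map ((yon S).map κ ≫ f')))) :
    RepWith @IsClosedImmersion ((yon S).map κ ≫ f') := by
  have h1 : RepWith @IsPreimmersion ((yon S).map κ) :=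
    (repWith_yon_map_iff _ κ).2 (inferInstance : IsPreimmersion κ.left)
  have h2 : RepWith @IsPreimmersion f' :=
    repWith_mono (fun _ _ k hk => by
      have : IsOpenImmersion k := hk
      infer_instance) hf'o
  have h3 : RepWith @IsPreimmersion ((yon S).map κ ≫ f') :=
    MorphismProperty.comp_mem _ _ _ h1 h2
  refine ⟨h3.1, fun T P t fst snd sq => ?_⟩
  haveI : IsPreimmersion snd.left := h3.2 t fst snd sq
  refine IsClosedImmersion.of_isPreimmersion snd.left ?_
  have hr : Set.range snd.left = Points.ofPt t ⁻¹' Set.range (Points.map ((yon S).map κ ≫ f')) := by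
    ext x
    constructor
    · rintro ⟨p, rfl⟩
      refine ⟨Points.ofPt fst p, ?_⟩
      rw [Points.map_ofPt, sq.w, SpUC.ofPt_comp_yon_map]
    · rintro ⟨z, hz⟩
      obtain ⟨v, -, hv⟩ := exists_of_isPullback_chart sq z x hz
      exact ⟨v, hv⟩
  rw [hr]
  exact hcl.preimage (Points.continuous_ofPt t)

/-- **The dense affine piece.**  The scheme-theoretic closure in `U` of an affine open `A` of `U`
whose closure in `Y` stays inside `U`: it is integral over `Y` and an isomorphism over `A`. -/
theorem exists_dense_piece {X Y : Sp S} {U : Over S} [IsAffine U.left]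
    (a : (yon S).obj U ⟶ X) (ν : Y ⟶ X) (f' : (yon S).obj U ⟶ Y)
    (hfac : f' ≫ ν = a) (hf'o : RepWith @IsOpenImmersion f')
    (A : U.left.Opens) (hA : IsAffineOpen A)
    (hcl : closure (Points.ofPt f' '' (A : Set ↥U.left)) ⊆ Set.range (Points.ofPt f')) :
    ∃ (T₁ : Over S) (gT : (yon S).obj T₁ ⟶ Y), RepWith @IsIntegralHom gT ∧
      Points.ofPt f' '' (A : Set ↥U.left) ⊆ Set.range (Points.map gT) ∧
      Set.range (Points.map gT) ⊆ closure (Points.ofPt f' '' (A : Set ↥U.left)) ∧
      LocFac a (gT ≫ ν) ∧ FEtOver gT (Points.ofPt f' '' (A : Set ↥U.left)) := by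
  haveI : IsAffine (A : Scheme.{u}) := hA
  let i : (A : Scheme.{u}) ⟶ U.left := A.ι
  haveI : QuasiCompact i := inferInstance
  let T₁ : Over S := Over.mk (i.imageι ≫ U.hom)
  let κ : T₁ ⟶ U := Over.homMk i.imageι rfl
  let Aov : Over S := Over.mk (i ≫ U.hom)
  let ιA : Aov ⟶ U := Over.homMk i rfl
  let tI : Aov ⟶ T₁ := Over.homMk i.toImage (by
    change i.toImage ≫ i.imageι ≫ U.hom = i ≫ U.hom
    rw [← Category.assoc, i.toImage_imageι])
  have htI : tI ≫ κ = ιA := by
    apply Over.OverMorphism.ext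
    exact i.toImage_imageι
  haveI : IsClosedImmersion κ.left := by
    change IsClosedImmersion i.imageι
    infer_instance
  haveI : Mono f' := mono_of_repWith_isOpenImmersion f' hf'o
  have hemb := BiratD.isOpenEmbedding_ofPt f' hf'o
  have hrκ : Set.range κ.left = closure (A : Set ↥U.left) := by
    change Set.range i.imageι = _
    rw [Scheme.IdealSheafData.range_subschemeι, Scheme.Hom.support_ker, Scheme.Opens.range_ι]
  have hrange : Set.range (Points.map ((yon S).map κ ≫ f')) =
      closure (Points.ofPt f' '' (A : Set ↥U.left)) := by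
    rw [range_map_eq_range_ofPt]
    have : Points.ofPt ((yon S).map κ ≫ f') = Points.ofPt f' ∘ κ.left := by
      funext p
      exact SpUC.ofPt_comp_yon_map _ _ _
    rw [this, Set.range_comp, hrκ, hemb.isEmbedding.closure_eq_preimage_closure_image,
      Set.image_preimage_eq_inter_range, Set.inter_eq_left.2 hcl]
  have hclimm : RepWith @IsClosedImmersion ((yon S).map κ ≫ f') :=
    repWith_isClosedImmersion_comp κ f' hf'o (by rw [hrange]; exact isClosed_closure)
  refine ⟨T₁, (yon S).map κ ≫ f', ?_, ?_, ?_, ?_, ?_⟩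
  · exact repWith_mono (fun _ _ k hk => by
      have : IsClosedImmersion k := hk
      infer_instance) hclimm
  · rw [hrange]
    exact subset_closure
  · rw [hrange]
  · refine LocFac.of_factor κ ?_
    rw [Category.assoc, hfac]
  · -- over `A` the cover is an isomorphism
    have sqA : IsPullback ((yon S).map tI) (𝟙 ((yon S).obj Aov)) ((yon S).map κ ≫ f')
        ((yon S).map ιA ≫ f') := by
      haveI : Mono ((yon S).map κ ≫ f') := Groth.Agent.S9928.mono_of_repWith @IsClosedImmersion
        (fun g hg => by have : IsClosedImmersion g := hg; infer_instance) _ hclimm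
      refine IsPullback.of_vert_isIso_mono ⟨?_⟩
      rw [Category.id_comp, ← Category.assoc, ← Functor.map_comp, htI]
    have hιAo : RepWith @IsOpenImmersion ((yon S).map ιA ≫ f') :=
      MorphismProperty.comp_mem _ _ _
        ((repWith_yon_map_iff _ ιA).2 (by change IsOpenImmersion A.ι; infer_instance)) hf'o
    intro T P t fst snd sq ht
    obtain ⟨t', ht'⟩ := exists_factor_of_range_subset ((yon S).map ιA ≫ f') hιAo t (by
      rw [range_map_eq_range_ofPt]
      rintro _ ⟨p, rfl⟩
      obtain ⟨u, hu, hup⟩ := ht p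
      rw [range_map_eq_range_ofPt]
      refine ⟨⟨u, hu⟩, ?_⟩
      rw [SpUC.ofPt_comp_yon_map]
      exact hup)
    have hw : (yon S).map fst ≫ (yon S).map κ ≫ f' =
        ((yon S).map snd ≫ t') ≫ (yon S).map ιA ≫ f' := by
      rw [Category.assoc, ht', sq.w]
    have hbig : IsPullback (sqA.lift ((yon S).map fst) ((yon S).map snd ≫ t') hw ≫
        (yon S).map tI) ((yon S).map snd) ((yon S).map κ ≫ f') (t' ≫ (yon S).map ιA ≫ f') := by
      rw [sqA.lift_fst, ht']
      exact sq
    have hleft : IsPullback (sqA.lift ((yon S).map fst) ((yon S).map snd ≫ t') hw)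
        ((yon S).map snd) (𝟙 _) t' :=
      IsPullback.of_right hbig (sqA.lift_snd _ _ _) sqA
    haveI : IsIso ((yon S).map snd) := hleft.isIso_snd_of_isIso
    haveI : IsIso snd := isIso_of_fully_faithful (yon S) snd
    haveI : IsIso snd.left := (Over.forget S).map_isIso snd
    exact ⟨inferInstance, inferInstance⟩

end Groth.Agent.Lib.Helper3.Dens
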