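import Mathlib
import Groth.Prelude.Def_AlgSpDec
import Groth.Prelude.Def_AlgSpSub
import Groth.Agent.Lib.Helper3.IntCovE
import Groth.Agent.Lib.Helper3.AlgSpZarDecent2
import Groth.Agent.S10192

set_option autoImplicit false
universe u
open CategoryTheory CategoryTheory.Limits AlgebraicGeometry Opposite
open AlgSp
open Groth.Agent.Lib.Helper3
open Groth.Agent.Lib.Helper3.FibPow

namespace Groth.Agent.Lib.Helper3.IntCov

set_option backward.isDefEq.respectTransparency false

variable {S : Scheme.{u}}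

/-- **The closed complement of `V` in `Y`, as a closed subscheme of `U`.** -/
theorem exists_closed_complement {X Y V : Sp S} (hY : IsAlgSpace Y) {U : Over S}
    (a : (yon S).obj U ⟶ X) (ν : Y ⟶ X) (f' : (yon S).obj U ⟶ Y)
    (hfac : f' ≫ ν = a) (hf'o : RepWith @IsOpenImmersion f')
    (jV : V ⟶ Y) (hjV : RepWith @IsOpenImmersion jV)
    (hcov : ∀ y : Points Y, y ∈ Set.range (Points.map jV) ∨ y ∈ Set.range (Points.map f')) :
    ∃ (T₀ : Over S) (gT : (yon S).obj T₀ ⟶ Y), RepWith @IsIntegralHom gT ∧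
      (Set.range (Points.map jV))ᶜ ⊆ Set.range (Points.map gT) ∧ LocFac a (gT ≫ ν) := by
  have hcl : IsClosed (Set.range (Points.map jV))ᶜ :=
    (isOpen_range_map_of_isOpenImmersion jV hjV).isClosed_compl
  obtain ⟨T, i, hicl, hir, -⟩ := Groth.Agent.S10192.result (⟨Y, hY⟩ : Space S) _ hcl
  change RepWith @IsClosedImmersion i.hom at hicl
  change Set.range (Points.map i.hom) = (Set.range (Points.map jV))ᶜ at hir
  obtain ⟨t, ht⟩ := exists_factor_of_range_subset f' hf'o i.hom (by
    rw [hir]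
    intro y hy
    exact (hcov y).resolve_left hy)
  haveI : Mono f' := mono_of_repWith_isOpenImmersion f' hf'o
  have sqt : IsPullback (𝟙 T.obj) t i.hom f' :=
    IsPullback.of_horiz_isIso_mono ⟨by rw [Category.id_comp, ht]⟩
  have htcl : RepWith @IsClosedImmersion t := MorphismProperty.of_isPullback sqt hicl
  let T₀ := htcl.rep.pullback (𝟙 ((yon S).obj U))
  let s₀ : T₀ ⟶ U := htcl.rep.snd (𝟙 ((yon S).obj U))
  let fst₀ : (yon S).obj T₀ ⟶ T.obj := htcl.rep.fst (𝟙 ((yon S).obj U))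
  have sq₀ : IsPullback fst₀ ((yon S).map s₀) t (𝟙 _) := htcl.rep.isPullback (𝟙 ((yon S).obj U))
  haveI : IsIso fst₀ := sq₀.isIso_fst_of_isIso
  have hfst₀ : fst₀ ≫ t = (yon S).map s₀ := by rw [sq₀.w, Category.comp_id]
  have hiint : RepWith @IsIntegralHom i.hom :=
    repWith_mono (fun _ _ k hk => by
      have : IsClosedImmersion k := hk
      infer_instance) hicl
  refine ⟨T₀, fst₀ ≫ i.hom, MorphismProperty.RespectsIso.precomp _ fst₀ _ hiint, ?_, ?_⟩
  · rw [← hir]
    rintro _ ⟨τ, rfl⟩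
    refine ⟨Points.map (inv fst₀) τ, ?_⟩
    rw [← Points.map_comp, IsIso.inv_hom_id_assoc]
  · refine LocFac.of_factor s₀ ?_
    rw [← hfac, ← Category.assoc, ← hfst₀, Category.assoc fst₀, ht]

end Groth.Agent.Lib.Helper3.IntCov
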