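import Mathlib
import Groth.Prelude.Def_AlgSpDec
import Groth.Prelude.Def_AlgSpSub
import Groth.Agent.Lib.Helper3.IntCovF
import Groth.Agent.Lib.Helper3.QSepChart
import Groth.Agent.S9937

set_option autoImplicit false
universe u
open CategoryTheory CategoryTheory.Limits AlgebraicGeometry Opposite
open AlgSp
open Groth.Agent.Lib.Helper3
open Groth.Agent.Lib.Helper3.FibPow

namespace Groth.Agent.Lib.Helper3.IntCov

set_option backward.isDefEq.respectTransparency false

variable {S : Scheme.{u}}

/-- The conclusion: an integral surjective scheme cover locally factoring through the chart. -/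
def Concl {X : Sp S} {U : Over S} (b : (yon S).obj U ⟶ X) : Prop :=
  ∃ (Y : Over S) (g : (yon S).obj Y ⟶ X), RepWith @IsIntegralHom g ∧ RepWith @Surjective g ∧
    LocFac b g

open Groth.Agent.Lib.Helper3.ZmtGen in
/-- **Induction on the fibre degree.** -/
theorem concl_of_E_eq_empty [QuasiSeparatedSpace ↥S] (n : ℕ) :
    ∀ (X : Sp S) (_ : IsAlgSpace X) (_ : IsQuasiSeparatedSp X) (U : Over S)
      (_ : IsAffine U.left) (a : (yon S).obj U ⟶ X) (c : Ctx a) (_ : RepWith @Surjective a),
      (fp c.rep c.et c.sep n).E c = ∅ → Concl a := by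
  induction n with
  | zero =>
    intro X hX hqs U hU a c has hE
    have h0 : (FP.zero : FP a 0).E c = ∅ := hE
    rw [FP.E_zero c has] at h0
    have hempty : IsEmpty (Points X) := ⟨fun x => by
      have : x ∈ (Set.univ : Set (Points X)) := trivial
      rw [h0] at this
      exact this⟩
    haveI : IsIso a := isIso_of_etale_surjective_of_field_inj hX a c.et has
      (fun K _ str z1 z2 _ => (hempty.false (Points.ofPt a (z1.left (IsLocalRing.closedPoint K)))).elim)
    exact ⟨U, a, Groth.Agent.S9937.repWith_of_isIso @IsIntegralHom (fun g _ => inferInstance) a,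
      has, LocFac.of_factor (𝟙 U) (by rw [CategoryTheory.Functor.map_id, Category.id_comp])⟩
  | succ n ih =>
    intro X hX hqs U hU a c has hE
    haveI := hU
    obtain ⟨Y, hY, ν, f', hfac, hν, hf'o, hYqs, hdense⟩ := exists_normalization hX hqs a c
    obtain ⟨P, W, qP, pP, Δ, ιW, sqP, hΔ2, hΔ1, hWaff, hιW, hrange⟩ :=
      exists_complement a c ν f' hfac hν hf'o
    haveI := hWaff
    have hpPe : RepWith @Etale pP := MorphismProperty.of_isPullback sqP.flip c.et
    have hpPs : RepWith @Surjective pP := MorphismProperty.of_isPullback sqP.flip has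
    let aW : (yon S).obj W ⟶ Y := (yon S).map ιW ≫ pP
    have haWe : RepWith @Etale aW :=
      MorphismProperty.comp_mem _ _ _
        ((repWith_yon_map_iff _ ιW).2 (by haveI := hιW; infer_instance)) hpPe
    have hVopen : IsOpen (Set.range (Points.ofPt aW)) := (isOpenMap_ofPt aW haWe).isOpen_range
    let V : Sp S := openSub Y (Set.range (Points.ofPt aW))
    let jV : V ⟶ Y := openSubι Y (Set.range (Points.ofPt aW))
    have hjV : RepWith @IsOpenImmersion jV := repWith_isOpenImmersion_openSubι Y _ hVopen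
    have hV : IsAlgSpace V := isAlgSpace_openSub hY _ hVopen
    haveI : Mono jV := mono_of_repWith_isOpenImmersion jV hjV
    have hjVr : Set.range (Points.map jV) = Set.range (Points.ofPt aW) := range_map_openSubι Y _
    obtain ⟨aV, haV, haVe, haVs, -⟩ := exists_factor_surjective_etale aW haWe jV hjV hjVr
    have cV : Ctx aV := ⟨haVe.rep, haVe, repWith_isSeparated_of_isAffine aV haVe.rep⟩
    have hVqs : IsQuasiSeparatedSp V := QSepChart.isQuasiSeparatedSp_of_openImmersion jV hjV hYqs
    have hEV := E_eq_empty_of_succ a c ν f' hfac hf'o hdense qP pP Δ ιW sqP hΔ2 hΔ1 hιW hrange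
      jV hjV aV haV cV n hE
    obtain ⟨Z, gZ, hgZi, hgZs, hLF⟩ := ih V hV hVqs W hWaff aV cV haVs hEV
    have hcov : ∀ y : Points Y, y ∈ Set.range (Points.map jV) ∨
        y ∈ Set.range (Points.map f') := by
      intro y
      obtain ⟨p, rfl⟩ := exists_ofPt_eq pP hpPs y
      by_cases hp : p ∈ Set.range Δ.left
      · right
        obtain ⟨u, rfl⟩ := hp
        rw [range_map_eq_range_ofPt]
        refine ⟨u, ?_⟩
        rw [← hΔ1, Points.ofPt_yon_map_comp]
      · left
        have hp' : p ∈ Set.range ιW.left := by rw [hrange]; exact hp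
        obtain ⟨w, rfl⟩ := hp'
        rw [hjVr]
        exact ⟨w, Points.ofPt_yon_map_comp _ _ _⟩
    have hq : (yon S).map (ιW ≫ qP) ≫ a = aV ≫ jV ≫ ν := by
      rw [Functor.map_comp, Category.assoc, ← sqP.w, ← Category.assoc, ← Category.assoc aV, haV]
    obtain ⟨G, gG, hgGi, hgGr, hgGL⟩ := exists_extension hY hYqs hV a ν f' hfac hf'o jV hjV aV
      haVe haVs (ιW ≫ qP) hq hcov gZ hgZi hgZs hLF
    obtain ⟨T₀, gT, hgTi, hgTr, hgTL⟩ := exists_closed_complement hY a ν f' hfac hf'o jV hjV hcov
    obtain ⟨g, hg1, hg2⟩ := exists_coprod_desc (gG ≫ ν) (gT ≫ ν)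
    have hνr : RepWith @IsIntegralHom ν := (isIntegralMor_iff_repWith ν).1 hν
    refine ⟨zObj G T₀, g, ?_, ?_, ?_⟩
    · refine repWith_isIntegralHom_coprod hX g ?_ ?_
      · rw [hg1]; exact MorphismProperty.comp_mem _ _ _ hgGi hνr
      · rw [hg2]; exact MorphismProperty.comp_mem _ _ _ hgTi hνr
    · rw [Groth.Agent.S9906.repWith_surjective_iff g (hX.representable_from_yon g)]
      intro x
      obtain ⟨u, rfl⟩ := surjective_map_of_repWith has x
      rw [← hfac, Points.map_comp]
      by_cases hy : Points.map f' u ∈ Set.range (Points.map jV)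
      · obtain ⟨γ, hγ⟩ := hgGr hy
        refine ⟨Points.map ((yon S).map (zInl G T₀)) γ, ?_⟩
        rw [← Points.map_comp, hg1, Points.map_comp, hγ]
      · obtain ⟨γ, hγ⟩ := hgTr hy
        refine ⟨Points.map ((yon S).map (zInr G T₀)) γ, ?_⟩
        rw [← Points.map_comp, hg2, Points.map_comp, hγ]
    · refine LocFac.coprod g ?_ ?_
      · rw [hg1]; exact hgGL
      · rw [hg2]; exact hgTL

end Groth.Agent.Lib.Helper3.IntCov
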