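import Mathlib
import Groth.Prelude.Def_AlgSpDec
import Groth.Prelude.Def_AlgSpSub
import Groth.Agent.Lib.Helper3.DensE
import Groth.Agent.Lib.Helper3.IntCovG

set_option autoImplicit false
universe u
open CategoryTheory CategoryTheory.Limits AlgebraicGeometry Opposite Topology
open AlgSp
open Groth.Agent.Lib.Helper3 Groth.Agent.Lib.Helper3.RelNorm Groth.Agent.Lib.Helper3.ZmtGen
open Groth.Agent.Lib.Helper3.FibPow Groth.Agent.Lib.Helper3.IntCov Groth.Agent.Lib.Helper3.IntExt

namespace Groth.Agent.Lib.Helper3.Dens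

set_option backward.isDefEq.respectTransparency false

variable {S : Scheme.{u}}

/-- **The closed complement of `V` in `Y`, as a closed subscheme of `U`**, with its exact range. -/
theorem exists_closed_complement' {X Y V : Sp S} (hY : IsAlgSpace Y) {U : Over S}
    (a : (yon S).obj U ⟶ X) (ν : Y ⟶ X) (f' : (yon S).obj U ⟶ Y)
    (hfac : f' ≫ ν = a) (hf'o : RepWith @IsOpenImmersion f')
    (jV : V ⟶ Y) (hjV : RepWith @IsOpenImmersion jV)
    (hcov : ∀ y : Points Y, y ∈ Set.range (Points.map jV) ∨ y ∈ Set.range (Points.map f')) :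
    ∃ (T₀ : Over S) (gT : (yon S).obj T₀ ⟶ Y), RepWith @IsIntegralHom gT ∧
      (Set.range (Points.map jV))ᶜ ⊆ Set.range (Points.map gT) ∧ LocFac a (gT ≫ ν) ∧
      Set.range (Points.map gT) ⊆ (Set.range (Points.map jV))ᶜ := by
  have hcl : IsClosed (Set.range (Points.map jV))ᶜ :=
    (isOpen_range_map_of_isOpenImmersion jV hjV).isClosed_compl
  obtain ⟨T, i, hicl, hir, -⟩ := Groth.Agent.S10192.result (⟨Y, hY⟩ : Space S) _ hcl
  change RepWith @IsClosedImmersion i.hom at hicl
  change Set.range (Points.map i.hom) = (Set.range (Points.map jV))ᶜ at hir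
  obtain ⟨t, ht⟩ := exists_factor_of_range_subset f' hf'o i.hom (by
    rw [hir]
    intro y hy
    exact (hcov y).resolve_left hy)
  haveI : Mono f' := mono_of_repWith_isOpenImmersion f' hf'o
  have sqt : IsPullback (𝟙 T.obj) t i.hom f' :=
    IsPullback.of_horiz_isIso_mono ⟨by rw [Category.id_comp, ht]⟩
  have htcl : RepWith @IsClosedImmersion t := MorphismProperty.of_isPullback sqt hicl
  let T₀ := htcl.rep.pullback (𝟙 ((yon S).obj U))
  let s₀ : T₀ ⟶ U := htcl.rep.snd (𝟙 ((yon S).obj U))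
  let fst₀ : (yon S).obj T₀ ⟶ T.obj := htcl.rep.fst (𝟙 ((yon S).obj U))
  have sq₀ : IsPullback fst₀ ((yon S).map s₀) t (𝟙 _) := htcl.rep.isPullback (𝟙 ((yon S).obj U))
  haveI : IsIso fst₀ := sq₀.isIso_fst_of_isIso
  have hfst₀ : fst₀ ≫ t = (yon S).map s₀ := by rw [sq₀.w, Category.comp_id]
  have hiint : RepWith @IsIntegralHom i.hom :=
    repWith_mono (fun _ _ k hk => by
      have : IsClosedImmersion k := hk
      infer_instance) hicl
  refine ⟨T₀, fst₀ ≫ i.hom, MorphismProperty.RespectsIso.precomp _ fst₀ _ hiint, ?_, ?_, ?_⟩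
  · rw [← hir]
    rintro _ ⟨τ, rfl⟩
    refine ⟨Points.map (inv fst₀) τ, ?_⟩
    rw [← Points.map_comp, IsIso.inv_hom_id_assoc]
  · refine LocFac.of_factor s₀ ?_
    rw [← hfac, ← Category.assoc, ← hfst₀, Category.assoc fst₀, ht]
  · rw [← hir]
    rintro _ ⟨τ, rfl⟩
    exact ⟨Points.map fst₀ τ, (Points.map_comp _ _ _).symm⟩

/-- The coproduct of two pieces of a cover. -/
theorem exists_coprod_piece {X Y : Sp S} (hY : IsAlgSpace Y) {U A B : Over S}
    (a : (yon S).obj U ⟶ X) (ν : Y ⟶ X) (O : Set (Points Y))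
    (α : (yon S).obj A ⟶ Y) (β : (yon S).obj B ⟶ Y)
    (hαi : RepWith @IsIntegralHom α) (hβi : RepWith @IsIntegralHom β)
    (hαL : LocFac a (α ≫ ν)) (hβL : LocFac a (β ≫ ν)) (hαF : FEtOver α O) (hβF : FEtOver β O) :
    ∃ (C : Over S) (g : (yon S).obj C ⟶ Y), RepWith @IsIntegralHom g ∧ LocFac a (g ≫ ν) ∧
      FEtOver g O ∧
      Set.range (Points.map α) ∪ Set.range (Points.map β) ⊆ Set.range (Points.map g) := by
  obtain ⟨g, hg1, hg2⟩ := exists_coprod_desc α β
  refine ⟨zObj A B, g, ?_, ?_, ?_, ?_⟩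
  · refine repWith_isIntegralHom_coprod hY g ?_ ?_
    · rw [hg1]; exact hαi
    · rw [hg2]; exact hβi
  · refine LocFac.coprod (g ≫ ν) ?_ ?_
    · rw [← Category.assoc, hg1]; exact hαL
    · rw [← Category.assoc, hg2]; exact hβL
  · refine FEtOver.coprod g ?_ ?_
    · rw [hg1]; exact hαF
    · rw [hg2]; exact hβF
  · rintro y (⟨x, rfl⟩ | ⟨x, rfl⟩)
    · refine ⟨Points.map ((yon S).map (zInl A B)) x, ?_⟩
      rw [← Points.map_comp, hg1]
    · refine ⟨Points.map ((yon S).map (zInr A B)) x, ?_⟩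
      rw [← Points.map_comp, hg2]

/-- **The cover of the normalization `Y`**: integral, surjective, locally factoring through the
chart, and finite etale over a dense open subset of `|Y|` contained in `|U|`. -/
theorem exists_cover_step [QuasiSeparatedSpace ↥S] {X Y V : Sp S} (hY : IsAlgSpace Y)
    (hYqs : IsQuasiSeparatedSp Y) (hV : IsAlgSpace V) {U W Z : Over S} [IsAffine U.left]
    [IsAffine W.left] (a : (yon S).obj U ⟶ X) (ν : Y ⟶ X) (f' : (yon S).obj U ⟶ Y)
    (hfac : f' ≫ ν = a) (hf'o : RepWith @IsOpenImmersion f')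
    (hdense : Dense (Set.range (Points.map f')))
    (hUfin : (maxPts ↥U.left).Finite)
    (jV : V ⟶ Y) (hjV : RepWith @IsOpenImmersion jV) (aV : (yon S).obj W ⟶ V)
    (haVe : RepWith @Etale aV) (haVs : RepWith @Surjective aV) (q : W ⟶ U)
    (hq : (yon S).map q ≫ a = aV ≫ jV ≫ ν)
    (hcov : ∀ y : Points Y, y ∈ Set.range (Points.map jV) ∨ y ∈ Set.range (Points.map f'))
    (gZ : (yon S).obj Z ⟶ V) (hgZi : RepWith @IsIntegralHom gZ) (hgZs : RepWith @Surjective gZ)
    (hLF : LocFac aV gZ) (OV : Set (Points V)) (hOVo : IsOpen OV) (hOVd : Dense OV)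
    (hOVF : FEtOver gZ OV) :
    ∃ (C : Over S) (gC : (yon S).obj C ⟶ Y), RepWith @IsIntegralHom gC ∧
      (∀ y : Points Y, y ∈ Set.range (Points.map gC)) ∧ LocFac a (gC ≫ ν) ∧
      ∃ OY : Set (Points Y), IsOpen OY ∧ Dense OY ∧ OY ⊆ Set.range (Points.ofPt f') ∧
        FEtOver gC OY := by
  obtain ⟨G, gG, jz, hgGi, hgGr, hgGL, hsqG, hgGcl⟩ := exists_extension' hY hYqs hV a ν f' hfac
    hf'o jV hjV aV haVe haVs q hq hcov gZ hgZi hgZs hLF
  have hemb := BiratD.isOpenEmbedding_ofPt f' hf'o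
  have hRVo : IsOpen (Set.range (Points.map jV)) := isOpen_range_map_of_isOpenImmersion jV hjV
  have hRU : Set.range (Points.map f') = Set.range (Points.ofPt f') := range_map_eq_range_ofPt f'
  let Ω : Set (Points Y) := (closure (Set.range (Points.map jV)))ᶜ
  have hΩo : IsOpen Ω := isClosed_closure.isOpen_compl
  have hΩV : closure Ω ⊆ (Set.range (Points.map jV))ᶜ :=
    closure_minimal (Set.compl_subset_compl.2 subset_closure) hRVo.isClosed_compl
  have hVU : (Set.range (Points.map jV))ᶜ ⊆ Set.range (Points.ofPt f') := by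
    intro y hy
    rw [← hRU]
    exact (hcov y).resolve_left hy
  let Ω₀ : U.left.Opens := ⟨Points.ofPt f' ⁻¹' Ω, hΩo.preimage (Points.continuous_ofPt f')⟩
  obtain ⟨A, hA, hAΩ, hAmax⟩ := exists_affineOpen_subset U.left hUfin Ω₀
  have hAΩ' : Points.ofPt f' '' (A : Set ↥U.left) ⊆ Ω := by
    rintro _ ⟨u, hu, rfl⟩
    exact hAΩ hu
  have hAo : IsOpen (Points.ofPt f' '' (A : Set ↥U.left)) := hemb.isOpenMap _ A.2
  obtain ⟨T₁, gT₁, hT₁i, hT₁r, hT₁cl, hT₁L, hT₁F⟩ := exists_dense_piece a ν f' hfac hf'o A hA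
    (((closure_mono hAΩ').trans hΩV).trans hVU)
  -- the closed complement
  let R' : Set (Points Y) := Set.range (Points.map jV) ∪ Points.ofPt f' '' (A : Set ↥U.left)
  have hR'o : IsOpen R' := hRVo.union hAo
  have hjV' : RepWith @IsOpenImmersion (openSubι Y R') := repWith_isOpenImmersion_openSubι Y _ hR'o
  have hjV'r : Set.range (Points.map (openSubι Y R')) = R' := range_map_openSubι Y _
  obtain ⟨T₀, gT₀, hT₀i, hT₀r, hT₀L, hT₀d⟩ := exists_closed_complement' hY a ν f' hfac hf'o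
    (openSubι Y R') hjV' (fun y => by
      rcases hcov y with h | h
      · left
        rw [hjV'r]
        exact Or.inl h
      · exact Or.inr h)
  rw [hjV'r] at hT₀r hT₀d
  -- the dense open subset
  let O₁ : Set (Points Y) := Points.map jV '' OV ∪ Points.ofPt f' '' (A : Set ↥U.left)
  have hjVO : IsOpen (Points.map jV '' OV) :=
    isOpenMap_map_of_etale (repWith_mono isOpenImmersion_le_etale hjV) _ hOVo
  have hO₁o : IsOpen O₁ := hjVO.union hAo
  have hjVOsub : Points.map jV '' OV ⊆ Set.range (Points.map jV) := Set.image_subset_range _ _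
  have hO₁d : Dense O₁ := by
    intro y
    by_cases hy : y ∈ closure (Set.range (Points.map jV))
    · have h1 : Set.range (Points.map jV) ⊆ closure (Points.map jV '' OV) := by
        rintro _ ⟨v, rfl⟩
        exact image_closure_subset_closure_image (Points.continuous_map jV)
          (Set.mem_image_of_mem _ (hOVd v))
      exact closure_mono Set.subset_union_left (closure_minimal h1 isClosed_closure hy)
    · have hyΩ : y ∈ Ω := hy
      refine closure_mono Set.subset_union_right ?_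
      rw [mem_closure_iff]
      intro N hN hyN
      obtain ⟨u, rfl⟩ := hVU (hΩV (subset_closure hyΩ))
      have hNo : IsOpen (Points.ofPt f' ⁻¹' (N ∩ Ω)) :=
        (hN.inter hΩo).preimage (Points.continuous_ofPt f')
      obtain ⟨ξ, hξ, hξN⟩ := exists_genericPoint_mem_of_isOpen hNo ⟨u, hyN, hyΩ⟩
      rw [genericPoints_eq_maxPts] at hξ
      exact ⟨Points.ofPt f' ξ, hξN.1, ξ, hAmax ⟨hξ, hξN.2⟩, rfl⟩
  have hRUd : Dense (Set.range (Points.ofPt f')) := by rw [← hRU]; exact hdense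
  -- finite etaleness of the three pieces
  have hGF : FEtOver gG O₁ := by
    refine FEtOver.union (FEtOver.of_isPullback gZ gG jV hjV jz hsqG hOVF)
      (fEtOver_of_disjoint gG _ ?_) hjVO hAo
    rw [Set.disjoint_left]
    intro y hy hy'
    exact hAΩ' hy (hgGcl hy')
  have hT₁F' : FEtOver gT₁ O₁ := by
    refine FEtOver.union (fEtOver_of_disjoint gT₁ _ ?_) hT₁F hjVO hAo
    rw [Set.disjoint_left]
    intro y hy hy'
    exact hΩV (closure_mono hAΩ' (hT₁cl hy')) (hjVOsub hy)
  have hT₀F : FEtOver gT₀ O₁ := by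
    refine fEtOver_of_disjoint gT₀ _ ?_
    rw [Set.disjoint_left]
    intro y hy hy'
    refine hT₀d hy' ?_
    rcases hy with hy | hy
    · exact Or.inl (hjVOsub hy)
    · exact Or.inr hy
  obtain ⟨C₁, g₁, hg₁i, hg₁L, hg₁F, hg₁r⟩ := exists_coprod_piece hY a ν O₁ gG gT₁ hgGi hT₁i hgGL
    hT₁L hGF hT₁F'
  obtain ⟨C, g, hgi, hgL, hgF, hgr⟩ := exists_coprod_piece hY a ν O₁ g₁ gT₀ hg₁i hT₀i hg₁L
    hT₀L hg₁F hT₀F
  refine ⟨C, g, hgi, ?_, hgL, O₁ ∩ Set.range (Points.ofPt f'), hO₁o.inter hemb.isOpen_range,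
    hO₁d.inter_of_isOpen_left hRUd hO₁o, Set.inter_subset_right,
    hgF.mono Set.inter_subset_left⟩
  intro y
  apply hgr
  by_cases hy : y ∈ R'
  · left
    apply hg₁r
    rcases hy with hy | hy
    · exact Or.inl (hgGr hy)
    · exact Or.inr (hT₁r hy)
  · exact Or.inr (hT₀r hy)

end Groth.Agent.Lib.Helper3.Dens
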