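import Mathlib
import Groth.Prelude.Def_AlgSpDec
import Groth.Prelude.Def_AlgSpSub
import Groth.Agent.Lib.Helper3.DensF
import Groth.Agent.Lib.Helper3.DecMonoQSep

set_option autoImplicit false
universe u
open CategoryTheory CategoryTheory.Limits AlgebraicGeometry Opposite Topology
open AlgSp
open Groth.Agent.Lib.Helper3 Groth.Agent.Lib.Helper3.RelNorm Groth.Agent.Lib.Helper3.ZmtGen
open Groth.Agent.Lib.Helper3.FibPow Groth.Agent.Lib.Helper3.IntCov Groth.Agent.Lib.Helper3.IntExt

namespace Groth.Agent.Lib.Helper3.Dens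

set_option backward.isDefEq.respectTransparency false

variable {S : Scheme.{u}}

/-- **Composition with the normalization.** A cover of `Y` which is finite etale over a dense open
of `|Y|` inside `|U|` is, composed with the integral `ν : Y ⟶ X`, finite etale over a dense open
of `|X|`. -/
theorem fEtOver_comp {X Y : Sp S} (hX : IsAlgSpace X) (hXqs : IsQuasiSeparatedSp X)
    (hY : IsAlgSpace Y) (hYqs : IsQuasiSeparatedSp Y) {U C : Over S}
    (a : (yon S).obj U ⟶ X) (hae : RepWith @Etale a) (ν : Y ⟶ X)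
    (hν : RepWith @IsIntegralHom ν) (f' : (yon S).obj U ⟶ Y) (hfac : f' ≫ ν = a)
    (hf'o : RepWith @IsOpenImmersion f')
    (hYfin : (irreducibleComponents (Points Y)).Finite)
    (gC : (yon S).obj C ⟶ Y) (OY : Set (Points Y)) (hOYo : IsOpen OY) (hOYd : Dense OY)
    (hOYU : OY ⊆ Set.range (Points.ofPt f')) (hF : FEtOver gC OY) :
    ∃ OX : Set (Points X), IsOpen OX ∧ Dense OX ∧ FEtOver (gC ≫ ν) OX := by
  have hXdec : IsDecent X := DecMono.isDecent_of_isQuasiSeparatedSp hX hXqs
  have hYdec : IsDecent Y := DecMono.isDecent_of_isQuasiSeparatedSp hY hYqs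
  haveI : QuasiSober (Points X) := DecDense.quasiSober_points_of_isDecent ⟨X, hX⟩ hXdec
  have hclosed : IsClosedMap (Points.map ν) :=
    isClosedMap_map_of_repWith (repWith_mono (fun _ _ k hk => by
      have : IsIntegralHom k := hk
      infer_instance) hν)
  refine ⟨(Points.map ν '' OYᶜ)ᶜ, (hclosed _ hOYo.isClosed_compl).isOpen_compl, ?_, ?_⟩
  · refine dense_of_genericPoints_subset ?_
    rintro ξ hξ ⟨y, hy, rfl⟩
    have hygen : y ∈ genericPoints (Points Y) :=
      mem_genericPoints_of_integral ⟨X, hX⟩ ⟨Y, hY⟩ hXdec hYdec (ObjectProperty.homMk ν) hν y hξ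
    exact hy (genericPoints_subset_of_dense hYfin hOYo hOYd hygen)
  · intro T P t fst snd sq ht
    let Q : Over S := hν.rep.pullback t
    let q₁ : (yon S).obj Q ⟶ Y := hν.rep.fst t
    let q₂ : Q ⟶ T := hν.rep.snd t
    have sqQ : IsPullback q₁ ((yon S).map q₂) ν t := hν.rep.isPullback t
    have hw : ((yon S).map fst ≫ gC) ≫ ν = (yon S).map snd ≫ t := by
      rw [Category.assoc]; exact sq.w
    obtain ⟨l, hl⟩ := (yon S).map_surjective (sqQ.lift ((yon S).map fst ≫ gC) ((yon S).map snd) hw)
    have h1 : (yon S).map l ≫ q₁ = (yon S).map fst ≫ gC := by rw [hl, sqQ.lift_fst]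
    have h2 : (yon S).map l ≫ (yon S).map q₂ = (yon S).map snd := by rw [hl, sqQ.lift_snd]
    have hbig : IsPullback ((yon S).map fst) ((yon S).map l ≫ (yon S).map q₂) (gC ≫ ν) t := by
      rw [h2]; exact sq
    have sqL : IsPullback ((yon S).map fst) ((yon S).map l) gC q₁ :=
      IsPullback.of_bot hbig h1.symm sqQ
    have hQO : ∀ x : ↥Q.left, Points.ofPt q₁ x ∈ OY := by
      intro x
      by_contra h
      refine ht (q₂.left x) ⟨Points.ofPt q₁ x, h, ?_⟩
      rw [Points.map_ofPt, sqQ.w, SpUC.ofPt_comp_yon_map]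
    obtain ⟨hlf, hle⟩ := hF q₁ fst l sqL hQO
    haveI : Mono f' := mono_of_repWith_isOpenImmersion f' hf'o
    obtain ⟨q₁', hq₁'⟩ := exists_factor_of_range_subset f' hf'o q₁ (by
      rw [range_map_eq_range_ofPt, range_map_eq_range_ofPt]
      rintro _ ⟨x, rfl⟩
      exact hOYU (hQO x))
    have sqU : IsPullback q₁' ((yon S).map q₂) a t := by
      have htop : IsPullback q₁' (𝟙 ((yon S).obj Q)) f' q₁ :=
        IsPullback.of_vert_isIso_mono ⟨by rw [hq₁', Category.id_comp]⟩
      have := htop.paste_vert sqQ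
      rwa [Category.id_comp, hfac] at this
    haveI : Etale q₂.left := hae.2 t q₁' q₂ sqU
    haveI : IsIntegralHom q₂.left := hν.2 t q₁ q₂ sqQ
    haveI : IsFinite q₂.left :=
      (IsFinite.iff_isIntegralHom_and_locallyOfFiniteType q₂.left).2 ⟨inferInstance, inferInstance⟩
    have hsnd : snd = l ≫ q₂ := by
      apply (yon S).map_injective
      rw [Functor.map_comp, h2]
    haveI := hlf
    haveI := hle
    rw [hsnd, Over.comp_left]
    exact ⟨inferInstance, inferInstance⟩

/-- The conclusion: an integral surjective scheme cover locally factoring through the chart and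
finite etale over a dense open subset. -/
def Concl' {X : Sp S} {U : Over S} (b : (yon S).obj U ⟶ X) : Prop :=
  ∃ (Y : Over S) (g : (yon S).obj Y ⟶ X), RepWith @IsIntegralHom g ∧ RepWith @Surjective g ∧
    LocFac b g ∧ ∃ O : Set (Points X), IsOpen O ∧ Dense O ∧ FEtOver g O

/-- **Induction on the fibre degree.** -/
theorem concl'_of_E_eq_empty [QuasiSeparatedSpace ↥S] (n : ℕ) :
    ∀ (X : Sp S) (_ : IsAlgSpace X) (_ : IsQuasiSeparatedSp X) (U : Over S)
      (_ : IsAffine U.left) (a : (yon S).obj U ⟶ X) (c : Ctx a) (_ : RepWith @Surjective a),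
      (irreducibleComponents ↥U.left).Finite →
      (fp c.rep c.et c.sep n).E c = ∅ → Concl' a := by
  induction n with
  | zero =>
    intro X hX hqs U hU a c has hUfin hE
    have h0 : (FP.zero : FP a 0).E c = ∅ := hE
    rw [FP.E_zero c has] at h0
    have hempty : IsEmpty (Points X) := ⟨fun x => by
      have : x ∈ (Set.univ : Set (Points X)) := trivial
      rw [h0] at this
      exact this⟩
    haveI : IsIso a := isIso_of_etale_surjective_of_field_inj hX a c.et has
      (fun K _ str z1 z2 _ => (hempty.false (Points.ofPt a (z1.left (IsLocalRing.closedPoint K)))).elim)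
    refine ⟨U, a, Groth.Agent.S9937.repWith_of_isIso @IsIntegralHom (fun g _ => inferInstance) a,
      has, LocFac.of_factor (𝟙 U) (by rw [CategoryTheory.Functor.map_id, Category.id_comp]),
      Set.univ, isOpen_univ, dense_univ, ?_⟩
    intro T P t fst snd sq _
    haveI : IsIso ((yon S).map snd) := sq.isIso_snd_of_isIso
    haveI : IsIso snd := isIso_of_fully_faithful (yon S) snd
    haveI : IsIso snd.left := (Over.forget S).map_isIso snd
    exact ⟨inferInstance, inferInstance⟩
  | succ n ih =>
    intro X hX hqs U hU a c has hUfin hE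
    haveI := hU
    obtain ⟨Y, hY, ν, f', hfac, hν, hf'o, hYqs, hdense⟩ := exists_normalization hX hqs a c
    obtain ⟨P, W, qP, pP, Δ, ιW, sqP, hΔ2, hΔ1, hWaff, hιW, hrange⟩ :=
      exists_complement a c ν f' hfac hν hf'o
    haveI := hWaff
    have hpPe : RepWith @Etale pP := MorphismProperty.of_isPullback sqP.flip c.et
    have hpPs : RepWith @Surjective pP := MorphismProperty.of_isPullback sqP.flip has
    let aW : (yon S).obj W ⟶ Y := (yon S).map ιW ≫ pP
    have haWe : RepWith @Etale aW :=
      MorphismProperty.comp_mem _ _ _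
        ((repWith_yon_map_iff _ ιW).2 (by haveI := hιW; infer_instance)) hpPe
    have hVopen : IsOpen (Set.range (Points.ofPt aW)) := (isOpenMap_ofPt aW haWe).isOpen_range
    let V : Sp S := openSub Y (Set.range (Points.ofPt aW))
    let jV : V ⟶ Y := openSubι Y (Set.range (Points.ofPt aW))
    have hjV : RepWith @IsOpenImmersion jV := repWith_isOpenImmersion_openSubι Y _ hVopen
    have hV : IsAlgSpace V := isAlgSpace_openSub hY _ hVopen
    haveI : Mono jV := mono_of_repWith_isOpenImmersion jV hjV
    have hjVr : Set.range (Points.map jV) = Set.range (Points.ofPt aW) := range_map_openSubι Y _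
    obtain ⟨aV, haV, haVe, haVs, -⟩ := exists_factor_surjective_etale aW haWe jV hjV hjVr
    have cV : Ctx aV := ⟨haVe.rep, haVe, repWith_isSeparated_of_isAffine aV haVe.rep⟩
    have hVqs : IsQuasiSeparatedSp V := QSepChart.isQuasiSeparatedSp_of_openImmersion jV hjV hYqs
    have hEV := E_eq_empty_of_succ a c ν f' hfac hf'o hdense qP pP Δ ιW sqP hΔ2 hΔ1 hιW hrange
      jV hjV aV haV cV n hE
    -- finiteness of the sets of irreducible components
    have hYfin : (irreducibleComponents (Points Y)).Finite :=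
      finite_irreducibleComponents_of_denseRange (Points.ofPt f') (Points.continuous_ofPt f')
        (by
          change Dense (Set.range (Points.ofPt f'))
          rw [← range_map_eq_range_ofPt]
          exact hdense) hUfin
    have hYdec : IsDecent Y := DecMono.isDecent_of_isQuasiSeparatedSp hY hYqs
    have hWfin : (irreducibleComponents ↥W.left).Finite :=
      finite_irreducibleComponents_chart ⟨Y, hY⟩ hYdec hYfin aW haWe
    obtain ⟨Z, gZ, hgZi, hgZs, hLF, OV, hOVo, hOVd, hOVF⟩ :=
      ih V hV hVqs W hWaff aV cV haVs hWfin hEV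
    have hcov : ∀ y : Points Y, y ∈ Set.range (Points.map jV) ∨
        y ∈ Set.range (Points.map f') := by
      intro y
      obtain ⟨p, rfl⟩ := exists_ofPt_eq pP hpPs y
      by_cases hp : p ∈ Set.range Δ.left
      · right
        obtain ⟨u, rfl⟩ := hp
        rw [range_map_eq_range_ofPt]
        refine ⟨u, ?_⟩
        rw [← hΔ1, Points.ofPt_yon_map_comp]
      · left
        have hp' : p ∈ Set.range ιW.left := by rw [hrange]; exact hp
        obtain ⟨w, rfl⟩ := hp'
        rw [hjVr]
        exact ⟨w, Points.ofPt_yon_map_comp _ _ _⟩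
    have hq : (yon S).map (ιW ≫ qP) ≫ a = aV ≫ jV ≫ ν := by
      rw [Functor.map_comp, Category.assoc, ← sqP.w, ← Category.assoc, ← Category.assoc aV, haV]
    have hUfin' : (maxPts ↥U.left).Finite := (finite_irreducibleComponents_iff_maxPts _).1 hUfin
    obtain ⟨C, gC, hgCi, hgCs, hgCL, OY, hOYo, hOYd, hOYU, hgCF⟩ :=
      exists_cover_step hY hYqs hV a ν f' hfac hf'o hdense hUfin' jV hjV aV haVe haVs (ιW ≫ qP) hq
        hcov gZ hgZi hgZs hLF OV hOVo hOVd hOVF
    have hνr : RepWith @IsIntegralHom ν := (isIntegralMor_iff_repWith ν).1 hν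
    obtain ⟨OX, hOXo, hOXd, hOXF⟩ := fEtOver_comp hX hqs hY hYqs a c.et ν hνr f' hfac hf'o hYfin
      gC OY hOYo hOYd hOYU hgCF
    refine ⟨C, gC ≫ ν, MorphismProperty.comp_mem _ _ _ hgCi hνr, ?_, hgCL, OX, hOXo, hOXd, hOXF⟩
    rw [Groth.Agent.S9906.repWith_surjective_iff (gC ≫ ν) (hX.representable_from_yon (gC ≫ ν))]
    intro x
    obtain ⟨u, rfl⟩ := surjective_map_of_repWith has x
    rw [← hfac, Points.map_comp]
    obtain ⟨γ, hγ⟩ := hgCs (Points.map f' u)
    exact ⟨γ, by rw [Points.map_comp, hγ]⟩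

end Groth.Agent.Lib.Helper3.Dens
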