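import Mathlib
import Groth.Prelude.Def_AlgSpDec
import Groth.Prelude.Def_AlgSpSub
import Groth.Agent.Lib.Helper3.IntCovG

set_option autoImplicit false
universe u
open CategoryTheory CategoryTheory.Limits AlgebraicGeometry Opposite
open AlgSp
open Groth.Agent.Lib.Helper3
open Groth.Agent.Lib.Helper3.FibPow

namespace Groth.Agent.Lib.Helper3.IntCov

set_option backward.isDefEq.respectTransparency false

variable {S : Scheme.{u}}

/-- The case of an affine chart. -/
theorem concl_of_affine [QuasiSeparatedSpace ↥S] {X : Sp S} (hX : IsAlgSpace X)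
    (hqs : IsQuasiSeparatedSp X) {U : Over S} [IsAffine U.left] (a : (yon S).obj U ⟶ X)
    (hae : RepWith @Etale a) (has : RepWith @Surjective a) : Concl a := by
  have c : Ctx a := ⟨hae.rep, hae, repWith_isSeparated_of_isAffine a hae.rep⟩
  have hqcm : IsQuasiCompactMor a :=
    isQuasiCompactMor_of_isQuasiCompactSp_of_isQuasiSeparatedSp (IsAlgSpace.yon_obj U) a
      (isQuasiCompactSp_yon inferInstance) hqs
  haveI : CompactSpace ↥(R2 c.rep).left :=
    compactSpace_of_isQuasiCompactSp_yon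
      (hqcm (IsAlgSpace.yon_obj U) (isQuasiCompactSp_yon inferInstance) a _ _ (kp c.rep))
  haveI := etale_p2 c.rep c.et
  haveI : LocallyQuasiFinite (p2 c.rep).left := locallyQuasiFinite_of_etale _
  obtain ⟨N, hN⟩ := Groth.Agent.Lib.Helper9.BddFibLib6.univBounded_of_locallyQuasiFinite
    (p2 c.rep).left
  exact concl_of_E_eq_empty N X hX hqs U inferInstance a c has
    (E_eq_empty_of_bound c _ hN le_rfl)

/-- A quasi-compact space has an affine chart refining a given chart. -/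
theorem exists_affine_refinement {X : Sp S} (hqc : IsQuasiCompactSp X) {U : Over S}
    (b : (yon S).obj U ⟶ X) (hb : RepWith @Etale b) (hbs : RepWith @Surjective b) :
    ∃ (U' : Over S) (φ : U' ⟶ U), IsAffine U'.left ∧ RepWith @Etale ((yon S).map φ ≫ b) ∧
      RepWith @Surjective ((yon S).map φ ≫ b) := by
  haveI : CompactSpace (Points X) := compactSpace_points_of_isQuasiCompactSp hqc
  have hO : ∀ u : ↥U.left, ∃ O : U.left.Opens, IsAffineOpen O ∧ u ∈ O := fun u => by
    obtain ⟨_, ⟨O, hO, rfl⟩, hu, -⟩ := U.left.isBasis_affineOpens.exists_subset_of_mem_open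
      (Set.mem_univ u) isOpen_univ
    exact ⟨O, hO, hu⟩
  choose O hOa huO using hO
  obtain ⟨t, ht⟩ := isCompact_univ.elim_finite_subcover
    (fun u : ↥U.left => Points.ofPt b '' (O u : Set ↥U.left))
    (fun u => isOpenMap_ofPt b hb _ (O u).isOpen)
    (fun x _ => by
      obtain ⟨u, rfl⟩ := exists_ofPt_eq b hbs x
      exact Set.mem_iUnion.2 ⟨u, u, huO u, rfl⟩)
  let U₀ : U.left.Opens := ⨆ u ∈ t, O u
  have hU₀c : IsCompact (U₀ : Set ↥U.left) := by
    have : (U₀ : Set ↥U.left) = ⋃ u ∈ t, (O u : Set ↥U.left) := by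
      simp [U₀]
    rw [this]
    exact t.isCompact_biUnion (fun u _ => (hOa u).isCompact)
  haveI : CompactSpace ↥(U₀ : Scheme) := isCompact_iff_compactSpace.mp hU₀c
  obtain ⟨M, m, hms, hme, hMa⟩ :=
    Scheme.exists_hom_isAffine_of_isZariskiLocalAtSource @Etale (U₀ : Scheme)
  haveI : Etale m := hme
  let U' : Over S := Over.mk (m ≫ U₀.ι ≫ U.hom)
  let φ : U' ⟶ U := Over.homMk (m ≫ U₀.ι) (by simp [U'])
  have hφe : RepWith @Etale ((yon S).map φ) := (repWith_yon_map_iff _ φ).2 (by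
    change Etale (m ≫ U₀.ι)
    infer_instance)
  have hbe' : RepWith @Etale ((yon S).map φ ≫ b) := MorphismProperty.comp_mem _ _ _ hφe hb
  refine ⟨U', φ, hMa, hbe', ?_⟩
  rw [Groth.Agent.S9906.repWith_surjective_iff _ hbe'.rep]
  intro x
  have hx := ht (Set.mem_univ x)
  obtain ⟨u, hu⟩ := Set.mem_iUnion.1 hx
  obtain ⟨hut, o, ho, rfl⟩ := Set.mem_iUnion.1 hu
  have ho' : o ∈ U₀ := by
    have : O u ≤ U₀ := le_iSup₂ (f := fun u (_ : u ∈ t) => O u) u hut
    exact this ho
  haveI := hms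
  obtain ⟨m₀, hm₀⟩ := m.surjective ⟨o, ho'⟩
  have : Points.ofPt b o ∈ Set.range (Points.ofPt ((yon S).map φ ≫ b)) := by
    refine ⟨m₀, ?_⟩
    rw [Points.ofPt_yon_map_comp]
    congr 1
    change (m ≫ U₀.ι) m₀ = o
    rw [Scheme.Hom.comp_apply, hm₀]
    rfl
  rw [← range_map_eq_range_ofPt] at this
  exact this

/-- **Integral surjective scheme cover of a quasi-compact quasi-separated algebraic space.** -/
theorem main10375 [QuasiSeparatedSpace ↥S] (X : AlgSp.Space S)
    (hqc : AlgSp.IsQuasiCompactSp X.obj) (hqs : AlgSp.IsQuasiSeparatedSp X.obj)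
    {U : Over S} (b : (AlgSp.yon S).obj U ⟶ X.obj) (hb : AlgSp.RepWith @Etale b)
    (hbs : AlgSp.RepWith @Surjective b) :
    ∃ (Y : Over S) (g : (AlgSp.yon S).obj Y ⟶ X.obj), AlgSp.RepWith @IsIntegralHom g ∧
      AlgSp.RepWith @Surjective g ∧
      ∀ y : ↥Y.left, ∃ (W : Y.left.Opens) (c : Over.mk (W.ι ≫ Y.hom) ⟶ U), y ∈ W ∧
        (AlgSp.yon S).map c ≫ b =
          (AlgSp.yon S).map (Over.homMk W.ι rfl : Over.mk (W.ι ≫ Y.hom) ⟶ Y) ≫ g := by
  obtain ⟨U', φ, hU'a, hbe', hbs'⟩ := exists_affine_refinement hqc b hb hbs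
  haveI := hU'a
  obtain ⟨Y, g, hgi, hgs, hL⟩ := concl_of_affine X.property hqs _ hbe' hbs'
  exact ⟨Y, g, hgi, hgs, fun y => (LocFac.refine φ hL).to_opens y⟩

end Groth.Agent.Lib.Helper3.IntCov
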