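import Mathlib
import Groth.Prelude.Def_AlgSpDec
import Groth.Prelude.Def_AlgSpSub
import Groth.Agent.Lib.Helper3.DensG
import Groth.Agent.Lib.Helper3.IntCovH
import Groth.Agent.Lib.Helper3.ConstrSpA
import Groth.Agent.Lib.Helper3.SchLoc6

set_option autoImplicit false
universe u
open CategoryTheory CategoryTheory.Limits AlgebraicGeometry Opposite Topology
open AlgSp
open Groth.Agent.Lib.Helper3 Groth.Agent.Lib.Helper3.RelNorm Groth.Agent.Lib.Helper3.ZmtGen
open Groth.Agent.Lib.Helper3.FibPow Groth.Agent.Lib.Helper3.IntCov Groth.Agent.Lib.Helper3.IntExt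

namespace Groth.Agent.Lib.Helper3.Dens

set_option backward.isDefEq.respectTransparency false

variable {S : Scheme.{u}}

/-- In a spectral space with finitely many irreducible components, every dense open subset contains
a dense quasi-compact open subset. -/
theorem exists_compact_dense_subset {T : Type*} [TopologicalSpace T] [SpectralSpace T]
    (hfin : (irreducibleComponents T).Finite) {O : Set T} (hO : IsOpen O) (hd : Dense O) :
    ∃ O' : Set T, O' ⊆ O ∧ IsOpen O' ∧ IsCompact O' ∧ Dense O' := by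
  have hgen : (genericPoints T).Finite := finite_genericPoints_inter_of_isOpen hfin
  have hsub : genericPoints T ⊆ O := genericPoints_subset_of_dense hfin hO hd
  have hN : ∀ ξ : T, ∃ N : Set T, ξ ∈ genericPoints T → (IsOpen N ∧ IsCompact N) ∧ ξ ∈ N ∧ N ⊆ O := by
    intro ξ
    by_cases hξ : ξ ∈ genericPoints T
    · obtain ⟨N, hN, hξN, hNO⟩ :=
        (PrespectralSpace.isTopologicalBasis (X := T)).exists_subset_of_mem_open (hsub hξ) hO
      exact ⟨N, fun _ => ⟨hN, hξN, hNO⟩⟩
    · exact ⟨∅, fun h => (hξ h).elim⟩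
  choose N hN using hN
  refine ⟨⋃ ξ ∈ genericPoints T, N ξ, ?_, ?_, ?_, ?_⟩
  · exact Set.iUnion₂_subset fun ξ hξ => (hN ξ hξ).2.2
  · exact isOpen_biUnion fun ξ hξ => (hN ξ hξ).1.1
  · exact hgen.isCompact_biUnion fun ξ hξ => (hN ξ hξ).1.2
  · refine dense_of_genericPoints_subset ?_
    intro ξ hξ
    exact Set.mem_biUnion hξ (hN ξ hξ).2.1

/-- The case of an affine chart. -/
theorem concl'_of_affine [QuasiSeparatedSpace ↥S] {X : Sp S} (hX : IsAlgSpace X)
    (hqs : IsQuasiSeparatedSp X) (hirr : (irreducibleComponents (Points X)).Finite)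
    {U : Over S} [IsAffine U.left] (a : (yon S).obj U ⟶ X)
    (hae : RepWith @Etale a) (has : RepWith @Surjective a) : Concl' a := by
  have c : Ctx a := ⟨hae.rep, hae, repWith_isSeparated_of_isAffine a hae.rep⟩
  have hqcm : IsQuasiCompactMor a :=
    isQuasiCompactMor_of_isQuasiCompactSp_of_isQuasiSeparatedSp (IsAlgSpace.yon_obj U) a
      (isQuasiCompactSp_yon inferInstance) hqs
  haveI : CompactSpace ↥(R2 c.rep).left :=
    compactSpace_of_isQuasiCompactSp_yon
      (hqcm (IsAlgSpace.yon_obj U) (isQuasiCompactSp_yon inferInstance) a _ _ (kp c.rep))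
  haveI := etale_p2 c.rep c.et
  haveI : LocallyQuasiFinite (p2 c.rep).left := locallyQuasiFinite_of_etale _
  obtain ⟨N, hN⟩ := Groth.Agent.Lib.Helper9.BddFibLib6.univBounded_of_locallyQuasiFinite
    (p2 c.rep).left
  have hXdec : IsDecent X := DecMono.isDecent_of_isQuasiSeparatedSp hX hqs
  have hUfin : (irreducibleComponents ↥U.left).Finite :=
    finite_irreducibleComponents_chart ⟨X, hX⟩ hXdec hirr a hae
  exact concl'_of_E_eq_empty N X hX hqs U inferInstance a c has hUfin
    (E_eq_empty_of_bound c _ hN le_rfl)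

theorem main10421 [QuasiSeparatedSpace ↥S]
    (X : AlgSp.Space S) (hqc : AlgSp.IsQuasiCompactSp X.obj) (hqs : AlgSp.IsQuasiSeparatedSp X.obj)
    (hirr : (irreducibleComponents (AlgSp.Points X.obj)).Finite)
    {V : Over S} (b : (AlgSp.yon S).obj V ⟶ X.obj) (hb : AlgSp.RepWith @Etale b)
    (hbs : AlgSp.RepWith @Surjective b) :
    ∃ (Y : Over S) (g : (AlgSp.yon S).obj Y ⟶ X.obj) (U : AlgSp.Space S) (jU : U ⟶ X),
      AlgSp.RepWith @IsIntegralHom g ∧ AlgSp.RepWith @Surjective g ∧
      AlgSp.RepWith @IsOpenImmersion jU.hom ∧ AlgSp.IsQuasiCompactSp U.obj ∧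
      Dense (Set.range (AlgSp.Points.map jU.hom)) ∧
      (∀ (P : AlgSp.Sp S) (fst : P ⟶ (AlgSp.yon S).obj Y) (snd : P ⟶ U.obj),
        IsPullback fst snd g jU.hom →
        AlgSp.RepWith @IsFinite snd ∧ AlgSp.RepWith @Etale snd) ∧
      ∀ y : ↥Y.left, ∃ (W : Y.left.Opens) (c : Over.mk (W.ι ≫ Y.hom) ⟶ V), y ∈ W ∧
        (AlgSp.yon S).map c ≫ b =
          (AlgSp.yon S).map (Over.homMk W.ι rfl : Over.mk (W.ι ≫ Y.hom) ⟶ Y) ≫ g := by
  obtain ⟨U', φ, hU'a, hbe', hbs'⟩ := exists_affine_refinement hqc b hb hbs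
  haveI := hU'a
  obtain ⟨Y, g, hgi, hgs, hL, O, hOo, hOd, hOF⟩ :=
    concl'_of_affine X.property hqs hirr _ hbe' hbs'
  haveI : SpectralSpace (Points X.obj) := SchLoc.main10201 X hqc hqs
  obtain ⟨O', hO'O, hO'o, hO'c, hO'd⟩ := exists_compact_dense_subset hirr hOo hOd
  have hUalg : IsAlgSpace (openSub X.obj O') := isAlgSpace_openSub X.property O' hO'o
  have hjr : Set.range (Points.map (openSubι X.obj O')) = O' := range_map_openSubι X.obj O'
  refine ⟨Y, g, ⟨openSub X.obj O', hUalg⟩, ObjectProperty.homMk (openSubι X.obj O'), hgi, hgs,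
    repWith_isOpenImmersion_openSubι X.obj O' hO'o,
    ConstrSp.isQuasiCompactSp_openSub X.property O' hO'o hO'c, ?_, ?_,
    fun y => (LocFac.refine φ hL).to_opens y⟩
  · change Dense (Set.range (Points.map (openSubι X.obj O')))
    rw [hjr]
    exact hO'd
  · intro P fst snd sq
    change IsPullback fst snd g (openSubι X.obj O') at sq
    have key : ∀ (T : Over S) (k : (yon S).obj T ⟶ openSub X.obj O'),
        ∃ (V' : Over S) (fst' : (yon S).obj V' ⟶ P) (snd' : V' ⟶ T),
          IsPullback fst' ((yon S).map snd') snd k ∧ IsFinite snd'.left ∧ Etale snd'.left := by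
      intro T k
      let V' : Over S := hgi.rep.pullback (k ≫ openSubι X.obj O')
      let sV : V' ⟶ T := hgi.rep.snd (k ≫ openSubι X.obj O')
      have sqV : IsPullback (hgi.rep.fst (k ≫ openSubι X.obj O')) ((yon S).map sV) g
          (k ≫ openSubι X.obj O') := hgi.rep.isPullback _
      obtain ⟨fV, hfV⟩ := (yon S).map_surjective (hgi.rep.fst (k ≫ openSubι X.obj O'))
      rw [← hfV] at sqV
      have hw : (yon S).map fV ≫ g = ((yon S).map sV ≫ k) ≫ openSubι X.obj O' := by
        rw [Category.assoc]; exact sqV.w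
      have hbig : IsPullback (sq.lift ((yon S).map fV) ((yon S).map sV ≫ k) hw ≫ fst)
          ((yon S).map sV) g (k ≫ openSubι X.obj O') := by
        rw [sq.lift_fst]; exact sqV
      have hleft : IsPullback (sq.lift ((yon S).map fV) ((yon S).map sV ≫ k) hw)
          ((yon S).map sV) snd k := IsPullback.of_right hbig (sq.lift_snd _ _ _) sq
      have hfe := hOF (k ≫ openSubι X.obj O') fV sV sqV (fun p => by
        apply hO'O
        have : Points.ofPt (k ≫ openSubι X.obj O') p ∈
            Set.range (Points.map (openSubι X.obj O')) :=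
          ⟨Points.ofPt k p, Points.map_ofPt _ _ _⟩
        rw [hjr] at this
        exact this)
      exact ⟨V', _, sV, hleft, hfe.1, hfe.2⟩
    constructor
    · refine repWith_of_forall _ snd fun T k => ?_
      obtain ⟨V', fst', snd', h, hf, -⟩ := key T k
      exact ⟨V', fst', snd', h, hf⟩
    · refine repWith_of_forall _ snd fun T k => ?_
      obtain ⟨V', fst', snd', h, -, he⟩ := key T k
      exact ⟨V', fst', snd', h, he⟩

end Groth.Agent.Lib.Helper3.Dens
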