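import Mathlib
import Groth.Agent.Lib.Helper3.TrdegFiber
import Groth.Agent.Lib.Helper3.FibCond2
import Groth.Agent.Lib.lead.FibreDimFormula
set_option autoImplicit false
universe u
open CategoryTheory CategoryTheory.Limits AlgebraicGeometry TopologicalSpace

namespace Groth.Agent.Lib.Helper3.DimEq

open Groth.Agent.Lib.Helper3 Order

/-- In a Noetherian quasi-sober space, a point without proper generizations has an open
neighbourhood consisting of its specializations. -/
theorem exists_open_nhd_specializations {T : Type*} [TopologicalSpace T] [NoetherianSpace T]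
    [QuasiSober T] (t : T) (hm : ∀ t' : T, t' ⤳ t → t' = t) :
    ∃ O : Set T, IsOpen O ∧ t ∈ O ∧ ∀ w ∈ O, t ⤳ w := by
  have hfin : (irreducibleComponents T).Finite := NoetherianSpace.finite_irreducibleComponents
  let 𝒞 : Set (Set T) := {C ∈ irreducibleComponents T | t ∉ C}
  have h𝒞fin : 𝒞.Finite := hfin.subset (fun C hC => hC.1)
  have hcl : IsClosed (⋃ C ∈ 𝒞, C) :=
    h𝒞fin.isClosed_biUnion fun C hC => isClosed_of_mem_irreducibleComponents C hC.1
  refine ⟨(⋃ C ∈ 𝒞, C)ᶜ, hcl.isOpen_compl, ?_, ?_⟩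
  · simp only [Set.mem_compl_iff, Set.mem_iUnion, not_exists]
    intro C hC htC
    exact hC.2 htC
  · intro w hw
    have hCw : irreducibleComponent w ∈ irreducibleComponents T :=
      irreducibleComponent_mem_irreducibleComponents w
    have htC : t ∈ irreducibleComponent w := by
      by_contra hcon
      apply hw
      exact Set.mem_biUnion (⟨hCw, hcon⟩ : irreducibleComponent w ∈ 𝒞) mem_irreducibleComponent
    obtain ⟨c, hc⟩ := QuasiSober.sober (isIrreducible_irreducibleComponent (x := w))
      isClosed_irreducibleComponent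
    have hct : c ⤳ t := hc.specializes htC
    have : c = t := hm c hct
    rw [← this]
    exact hc.specializes mem_irreducibleComponent

variable {U V : Scheme.{u}}

/-- Transport of a property of points of scheme-theoretic fibres. -/
theorem fiber_transport (h : U ⟶ V) (P : ∀ v : V, h.fiber v → Prop)
    (hP : ∀ x : U, P (h x) (h.asFiber x)) (v : V) (z : h.fiber v) : P v z := by
  have hv := FibCond.fiberι_apply_eq h v z
  obtain ⟨x, hx⟩ : ∃ x, h.fiberι v z = x := ⟨_, rfl⟩
  rw [hx] at hv
  subst hv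
  have : z = h.asFiber x :=
    (h.fiberι (h x)).isEmbedding.injective (by rw [hx, Scheme.Hom.fiberι_asFiber])
  rw [this]
  exact hP x

theorem localDim_fiber (h : U ⟶ V) [LocallyOfFiniteType h] (v : V) (z : h.fiber v) :
    ∀ b : ℕ, coheight z = b →
      FlatMor.localDim (h.fiber v) z =
        ((Groth.Agent.Lib.Helper24.FibreDim.tr h (h.fiberι v z) + b : ℕ) : WithBot ℕ∞) := by
  refine fiber_transport h (fun v z => ∀ b : ℕ, coheight z = b →
      FlatMor.localDim (h.fiber v) z =
        ((Groth.Agent.Lib.Helper24.FibreDim.tr h (h.fiberι v z) + b : ℕ) : WithBot ℕ∞)) ?_ v z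
  intro x b hb
  rw [Scheme.Hom.fiberι_asFiber]
  have hG : Groth.Agent.Lib.lead.FibreOrder.G h x = b := by
    rw [← hb, Groth.Agent.Lib.lead.FibreOrder.coheight_fiber, Scheme.Hom.fiberι_asFiber]
  exact Groth.Agent.Lib.lead.FibreDimFormula.fibreDimAt_eq h x b hG

theorem exists_nat_coheight_fiber (h : U ⟶ V) [LocallyOfFiniteType h] (v : V) (z : h.fiber v) :
    ∃ b : ℕ, coheight z = b := by
  rw [Groth.Agent.Lib.lead.FibreOrder.coheight_fiber]
  exact Groth.Agent.Lib.lead.FibreDimFormula.exists_nat_G h _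

theorem tr_eq_zero_of_isClosed (h : U ⟶ V) [LocallyOfFiniteType h] (v : V) (z : h.fiber v)
    (hz : IsClosed ({z} : Set (h.fiber v))) :
    Groth.Agent.Lib.Helper24.FibreDim.tr h (h.fiberι v z) = 0 := by
  have h1 := TrdegFiber.resTrdeg_fiberι_eq_zero_of_isClosed h v z hz
  have h2 : ((Groth.Agent.Lib.Helper24.FibreDim.tr h (h.fiberι v z) : ℕ) : Cardinal.{u}) = 0 := by
    rw [← h1]
    exact (Groth.Agent.Lib.Helper24.FibreDim.tr_spec h _).symm
  exact_mod_cast h2

/-- **Chains in the fibre**: a maximal point of a fibre has height at least its residue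
transcendence degree. -/
theorem tr_le_height_fiber (h : U ⟶ V) [LocallyOfFiniteType h] (v : V) (z : h.fiber v)
    (hm : ∀ z' : h.fiber v, z' ⤳ z → z' = z) :
    ((Groth.Agent.Lib.Helper24.FibreDim.tr h (h.fiberι v z) : ℕ) : ℕ∞) ≤ height z := by
  have hlft : LocallyOfFiniteType (h.fiberToSpecResidueField v) :=
    MorphismProperty.pullback_snd (P := @LocallyOfFiniteType) _ _ inferInstance
  haveI : IsLocallyNoetherian (h.fiber v) :=
    LocallyOfFiniteType.isLocallyNoetherian (h.fiberToSpecResidueField v)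
  set r := Groth.Agent.Lib.Helper24.FibreDim.tr h (h.fiberι v z) with hr
  -- local dimension at `z`
  have hz0 : coheight z = ((0 : ℕ) : ℕ∞) := by
    rw [Nat.cast_zero, coheight_eq_zero]
    intro z' hz'
    have : z' = z := hm z' hz'
    rw [this]
  have hld : FlatMor.localDim (h.fiber v) z = ((r : ℕ) : WithBot ℕ∞) := by
    rw [localDim_fiber h v z 0 hz0, add_zero]
  -- the open neighbourhood
  obtain ⟨_, ⟨N, hN, rfl⟩, hzN, -⟩ := (h.fiber v).isBasis_affineOpens.exists_subset_of_mem_open
    (Set.mem_univ z) isOpen_univ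
  haveI : IsNoetherianRing Γ(h.fiber v, N) := IsLocallyNoetherian.component_noetherian ⟨N, hN⟩
  haveI : NoetherianSpace ↥N := noetherianSpace_of_isAffineOpen N hN
  haveI : QuasiSober ↥N := N.isOpenEmbedding'.quasiSober
  obtain ⟨O', hO', hzO', hspec⟩ := exists_open_nhd_specializations (⟨z, hzN⟩ : ↥N) (by
    intro t' ht'
    have := hm t'.1 (ht'.map continuous_subtype_val)
    exact Subtype.ext this)
  have hO : IsOpen (Subtype.val '' O' : Set (h.fiber v)) := N.isOpenEmbedding'.isOpenMap _ hO'
  have hzO : z ∈ (Subtype.val '' O' : Set (h.fiber v)) := ⟨⟨z, hzN⟩, hzO', rfl⟩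
  have hspecO : ∀ w ∈ (Subtype.val '' O' : Set (h.fiber v)), z ⤳ w := by
    rintro _ ⟨w, hw, rfl⟩
    exact (hspec w hw).map continuous_subtype_val
  -- a closed point in the neighbourhood
  obtain ⟨z', hz'O, hz'cl⟩ : ∃ z' ∈ (Subtype.val '' O' : Set (h.fiber v)),
      IsClosed ({z'} : Set (h.fiber v)) := by
    have := nonempty_inter_closedPoints (X := h.fiber v) ⟨z, hzO⟩ hO.isLocallyClosed
    obtain ⟨z', hz'1, hz'2⟩ := this
    exact ⟨z', hz'1, hz'2⟩
  obtain ⟨b, hb⟩ := exists_nat_coheight_fiber h v z'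
  have hld' : FlatMor.localDim (h.fiber v) z' = ((b : ℕ) : WithBot ℕ∞) := by
    rw [localDim_fiber h v z' b hb, tr_eq_zero_of_isClosed h v z' hz'cl, zero_add]
  have hle : FlatMor.localDim (h.fiber v) z ≤ FlatMor.localDim (h.fiber v) z' := by
    refine le_iInf fun W => ?_
    have hzW : z ∈ W.1 := (hspecO z' hz'O).mem_open W.1.2 W.2
    exact iInf_le (fun W : {W : Opens (h.fiber v) // z ∈ W} =>
      topologicalKrullDim (W.1 : Set (h.fiber v))) ⟨W.1, hzW⟩
  rw [hld, hld'] at hle
  have hrb : r ≤ b := by exact_mod_cast hle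
  have hrb' : ((r : ℕ) : ℕ∞) ≤ coheight z' := by rw [hb]; exact_mod_cast hrb
  obtain ⟨p, hp, hl⟩ := exists_series_of_le_coheight z' hrb'
  have hlast : p.last ≤ z := by
    have h1 : p.head ≤ p.last := LTSeries.head_le_last p
    rw [hp] at h1
    have h2 : p.last ⤳ z' := h1
    have h3 : p.last ∈ (Subtype.val '' O' : Set (h.fiber v)) := h2.mem_open hO hz'O
    exact hspecO _ h3
  have := length_le_height hlast
  rw [hl] at this
  exact this

end Groth.Agent.Lib.Helper3.DimEq
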