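import Mathlib
import Groth.Agent.Lib.lead.DimLeSp
import Groth.Agent.Lib.Helper3.AlgSpGenLift
import Groth.Agent.Lib.Helper3.AlgSpLocFinIrred
import Groth.Agent.Lib.Helper3.AlgSpResTrdeg
set_option autoImplicit false
universe u
open CategoryTheory CategoryTheory.Limits AlgebraicGeometry TopologicalSpace

namespace Groth.Agent.Lib.Helper3.DimLeInt

open AlgSp Groth.Agent.Lib.Helper3

variable {S : Scheme.{u}}

/-- In a decent space with a generic point, the only codimension zero point is the generic point. -/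
theorem eq_generic_of_codim_zero {X : Sp S} (hX : IsDecent X) (x : Points X)
    (hx : IsGenericPoint x (Set.univ : Set (Points X))) (ξ : Points X)
    (hξ : HasAt (fun U u => ringKrullDim ↥(U.presheaf.stalk u) = 0) X ξ) : ξ = x := by
  obtain ⟨T, c, t, hce, hct, hdim⟩ := hξ
  obtain ⟨p, hp, hm, hq⟩ := hX x
  have hsp : Points.mk p ⤳ ξ := by
    rw [hp]; exact hx.specializes (Set.mem_univ _)
  obtain ⟨t', ht', hct'⟩ := exists_specializes_lift_of_qc_point ξ p hsp hq c hce t hct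
  have h1 : t' = t := ((stalk_dim_zero_iff_mem_maxPts T.left t).1 hdim) t' ht'
  rw [← hct, ← hp, ← hct', h1]

theorem main10459 {X Y : AlgSp.Space S} (f : X ⟶ Y)
    (hY : AlgSp.IsLocNoethSp Y.obj) (hXi : AlgSp.IsIntegralSp X.obj)
    (hft : AlgSp.LocP @LocallyOfFiniteType f.hom)
    (x : AlgSp.Points X.obj) (hx : IsGenericPoint x (Set.univ : Set (AlgSp.Points X.obj))) (r : ℕ)
    (hr : AlgSp.HasAtMor (fun _ _ h u => Dual3.resTrdeg h u = (r : Cardinal.{u})) f.hom x) :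
    AlgSp.dim X.obj ≤ AlgSp.dim Y.obj + ((r : ℕ∞) : WithBot ℕ∞) := by
  have := Groth.Agent.Lib.lead.DimLeSp.main f hY hft (r : Cardinal.{u}) ?_
  · simpa using this
  · intro ξ hξ s hs
    have h1 : ξ = x := eq_generic_of_codim_zero hXi.2.1 x hx ξ hξ
    subst h1
    obtain ⟨U₁, V₁, a₁, b₁, h₁, u₁, ha₁, hb₁, w₁, hu₁, hs⟩ := hs
    obtain ⟨U₂, V₂, a₂, b₂, h₂, u₂, ha₂, hb₂, w₂, hu₂, hr⟩ := hr
    rw [← hs, ← hr]
    exact le_of_eq (resTrdeg_eq_of_charts f.hom a₁ b₁ h₁ a₂ b₂ h₂ ha₁ hb₁ ha₂ hb₂ w₁ w₂ u₁ u₂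
      (hu₁.trans hu₂.symm))

end Groth.Agent.Lib.Helper3.DimLeInt
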