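import Mathlib
import Groth.Agent.Lib.Helper3.DimEq1
import Groth.Agent.Lib.Helper3.DecDim2
import Groth.Agent.Lib.Helper3.GenUniq2
import Groth.Agent.Lib.Helper3.DimLeInt
set_option autoImplicit false
universe u
open CategoryTheory CategoryTheory.Limits AlgebraicGeometry TopologicalSpace

namespace Groth.Agent.Lib.Helper3.DimEq

open Groth.Agent.Lib.Helper3 Order Groth.Agent.Lib.Helper3.DecDense

/-- Lifting chains of specializations along a continuous specializing map. -/
theorem exists_lift_coh {A B : Type*} [TopologicalSpace A] [TopologicalSpace B] (f : A → B)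
    (hc : Continuous f) (hs : SpecializingMap f) (a : A) (m : ℕ∞) (hm : m ≤ coh a)
    (hgen : ∀ b : B, f a ⤳ b) :
    ∀ (n : ℕ) (b' : B), (n : ℕ∞) ≤ coh b' → ∃ a' : A, f a' = b' ∧ m + n ≤ coh a' := by
  let _ := specializationPreorder A
  let _ := specializationPreorder B
  change m ≤ coheight a at hm
  change ∀ (n : ℕ) (b' : B), (n : ℕ∞) ≤ coheight b' → ∃ a' : A, f a' = b' ∧ m + n ≤ coheight a'
  intro n
  induction n with
  | zero =>
    intro b' _
    obtain ⟨a', ha', hfa'⟩ := hs (hgen b')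
    refine ⟨a', hfa', ?_⟩
    have h1 : a' ≤ a := ha'
    have h2 : coheight a ≤ coheight a' := coheight_anti h1
    simpa using hm.trans h2
  | succ n ih =>
    intro b' hb'
    have h1 : ¬ coheight b' ≤ (n : ℕ) := by
      intro hle
      have := hb'.trans hle
      have : ((n + 1 : ℕ) : ℕ∞) ≤ (n : ℕ) := this
      have : n + 1 ≤ n := by exact_mod_cast this
      omega
    rw [coheight_le_coe_iff] at h1
    push Not at h1
    obtain ⟨b'', hlt, hn⟩ := h1
    obtain ⟨a'', hfa'', hco⟩ := ih b'' hn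
    have hspec : f a'' ⤳ b' := by rw [hfa'']; exact hlt.le
    obtain ⟨a', ha', hfa'⟩ := hs hspec
    refine ⟨a', hfa', ?_⟩
    have hlt' : a' < a'' := by
      refine lt_of_le_not_ge ha' ?_
      intro hge
      have h3 : a' ⤳ a'' := hge
      have h4 : f a' ⤳ f a'' := h3.map hc
      rw [hfa', hfa''] at h4
      exact (not_le_of_gt hlt) h4
    have h5 := coheight_add_one_le hlt'
    calc m + ((n + 1 : ℕ) : ℕ∞) = (m + n) + 1 := by push_cast; rw [add_assoc]
      _ ≤ coheight a'' + 1 := add_le_add hco le_rfl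
      _ ≤ coheight a' := h5

end Groth.Agent.Lib.Helper3.DimEq

namespace Groth.Agent.Lib.Helper3.DimEq

open Groth.Agent.Lib.Helper3 Order Groth.Agent.Lib.Helper3.DecDense AlgSp FibCond

variable {S : Scheme.{u}}

/-- Step A: a chain of length `r` of specializations of the generic point inside its fibre. -/
theorem exists_coh_ge_of_trdeg {X Y : AlgSp.Space S} (f : X ⟶ Y)
    (hXi : AlgSp.IsIntegralSp X.obj)
    (hft : AlgSp.LocP @LocallyOfFiniteType f.hom)
    (x : AlgSp.Points X.obj) (hx : IsGenericPoint x (Set.univ : Set (AlgSp.Points X.obj))) (r : ℕ)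
    (hr : AlgSp.HasAtMor (fun _ _ h u => Dual3.resTrdeg h u = (r : Cardinal.{u})) f.hom x) :
    ∃ ξ : AlgSp.Points X.obj, Points.map f.hom ξ = Points.map f.hom x ∧ (r : ℕ∞) ≤ coh ξ := by
  haveI : T0Space (Points X.obj) := Groth.Agent.S10338.result X hXi.2.1
  obtain ⟨U, V, a, b, h, u, ha, hb, w, hu, htr⟩ := hr
  haveI : LocallyOfFiniteType h.left := hft a b h ha hb w
  set v := h.left u with hv
  set z : h.left.fiber v := h.left.asFiber u with hz
  have hzu : h.left.fiberι v z = u := Scheme.Hom.fiberι_asFiber _ _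
  have hm : ∀ z' : h.left.fiber v, z' ⤳ z → z' = z := by
    intro z' hz'
    have h1 : h.left.fiberι v z' ⤳ h.left.fiberι v z := hz'.map (h.left.fiberι v).continuous
    rw [hzu] at h1
    have h2 := GenUniq.eq_of_specializes_generic hXi x hx a ha u _ hu h1
    apply (h.left.fiberι v).isEmbedding.injective
    rw [h2, hzu]
  have htr' : Groth.Agent.Lib.Helper24.FibreDim.tr h.left (h.left.fiberι v z) = r := by
    rw [hzu]
    have h2 : ((Groth.Agent.Lib.Helper24.FibreDim.tr h.left u : ℕ) : Cardinal.{u}) = r := by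
      rw [← htr]
      exact (Groth.Agent.Lib.Helper24.FibreDim.tr_spec h.left _).symm
    exact_mod_cast h2
  have hle := tr_le_height_fiber h.left v z hm
  rw [htr'] at hle
  obtain ⟨p, hp, hl⟩ := exists_series_of_le_height z hle
  let _ := specializationPreorder (Points X.obj)
  have hsm : StrictMono (pt a h v) := by
    intro z₁ z₂ hlt
    have h1 : z₂ ⤳ z₁ := hlt.le
    have h2 : pt a h v z₂ ⤳ pt a h v z₁ := h1.map (continuous_pt a h v)
    refine lt_of_le_not_ge h2 ?_
    intro hge
    have h3 : pt a h v z₁ ⤳ pt a h v z₂ := hge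
    have he : pt a h v z₂ = pt a h v z₁ := (h2.antisymm h3).eq
    have := eq_of_specializes_fiber f.hom a b h w ha hb v z₁ z₂ h1 he
    exact (ne_of_gt hlt) this
  refine ⟨(p.map (pt a h v) hsm).head, ?_, ?_⟩
  · rw [LTSeries.head_map, map_pt f.hom a b h w, ← hu, ← ofPt_map_of_comm f.hom a b h w]
  · have := length_le_coheight_head (p := p.map (pt a h v) hsm)
    rw [LTSeries.map_length, hl] at this
    exact this

end Groth.Agent.Lib.Helper3.DimEq

namespace Groth.Agent.Lib.Helper3.DimEq

open Groth.Agent.Lib.Helper3 Order Groth.Agent.Lib.Helper3.DecDense AlgSp FibCond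

variable {S : Scheme.{u}}

theorem main10460 {X Y : AlgSp.Space S} (f : X ⟶ Y)
    (hY : AlgSp.IsLocNoethSp Y.obj) (hXi : AlgSp.IsIntegralSp X.obj) (hYi : AlgSp.IsIntegralSp Y.obj)
    (hd : AlgSp.IsDominantMor f.hom) (hp : AlgSp.IsProperMor f.hom)
    (x : AlgSp.Points X.obj) (hx : IsGenericPoint x (Set.univ : Set (AlgSp.Points X.obj))) (r : ℕ)
    (hr : AlgSp.HasAtMor (fun _ _ h u => Dual3.resTrdeg h u = (r : Cardinal.{u})) f.hom x) :
    AlgSp.dim X.obj = AlgSp.dim Y.obj + ((r : ℕ∞) : WithBot ℕ∞) := by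
  refine le_antisymm (DimLeInt.main10459 f hY hXi hp.2.1.1 x hx r hr) ?_
  have : QuasiSober (AlgSp.Points X.obj) := quasiSober_points_of_isDecent X hXi.2.1
  have : T0Space (AlgSp.Points X.obj) := Groth.Agent.S10338.result X hXi.2.1
  have : QuasiSober (AlgSp.Points Y.obj) := quasiSober_points_of_isDecent Y hYi.2.1
  have : T0Space (AlgSp.Points Y.obj) := Groth.Agent.S10338.result Y hYi.2.1
  rw [← main10345 X hXi.2.1, ← main10345 Y hYi.2.1, topologicalKrullDim_eq_iSup_coh,
    topologicalKrullDim_eq_iSup_coh]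
  have : Nonempty (AlgSp.Points Y.obj) := ⟨Points.map f.hom x⟩
  have : Nonempty (AlgSp.Points X.obj) := ⟨x⟩
  rw [← WithBot.coe_iSup (OrderTop.bddAbove _), ← WithBot.coe_iSup (OrderTop.bddAbove _),
    ← WithBot.coe_add, WithBot.coe_le_coe, ENat.iSup_add]
  refine iSup_le fun η => ?_
  rw [add_comm]
  refine Groth.Agent.Lib.lead.FibreOrder.enat_add_le_of_forall_nat fun n hn => ?_
  obtain ⟨ξ, hξ, hco⟩ := exists_coh_ge_of_trdeg f hXi hp.2.1.1 x hx r hr
  haveI : IrreducibleSpace (AlgSp.Points Y.obj) := hYi.2.2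
  obtain ⟨y, hy⟩ := QuasiSober.sober (IrreducibleSpace.isIrreducible_univ (AlgSp.Points Y.obj)) isClosed_univ
  have hy' : Points.map f.hom x = y := GenUniq.map_generic hYi f hd x hx y hy
  have hcl : IsClosedMap (Points.map f.hom) :=
    SepDesc.isClosedMap_of_isUnivClosedMor Y.property f.hom hp.2.2
  obtain ⟨ξ', -, hξ'⟩ := exists_lift_coh (Points.map f.hom) (Points.continuous_map f.hom)
    hcl.specializingMap ξ r hco (fun b => by rw [hξ, hy']; exact hy.specializes (Set.mem_univ _))
    n η hn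
  exact hξ'.trans (le_iSup (fun ξ : AlgSp.Points X.obj => coh ξ) ξ')

end Groth.Agent.Lib.Helper3.DimEq
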