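import Mathlib
import Groth.Agent.Lib.lead.DimLeSp
import Groth.Agent.Lib.Helper3.AlgSpEtaleDim
import Groth.Agent.Lib.Helper3.AlgSpNoethEtale

set_option autoImplicit false
universe u
open CategoryTheory CategoryTheory.Limits AlgebraicGeometry

namespace Groth.Agent.Lib.Helper3.DimFormSp

open Groth.Agent.Lib.Helper3 Groth.Agent.Lib.lead AlgSp

variable {S : Scheme.{u}}

theorem main {X Y : AlgSp.Space S} (f : X ⟶ Y)
    (hY : AlgSp.IsLocNoethSp Y.obj) (hf : AlgSp.LocP @LocallyOfFiniteType f.hom) (x : AlgSp.Points X.obj)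
    (E : Cardinal.{u})
    (hE : ∀ ξ : AlgSp.Points X.obj, ξ ⤳ x → AlgSp.HasAt (fun U u => ringKrullDim ↥(U.presheaf.stalk u) = 0) X.obj ξ →
      ∀ s : Cardinal.{u}, AlgSp.HasAtMor (fun _ _ h u => Dual3.resTrdeg h u = s) f.hom ξ → s ≤ E)
    (a b : WithBot ℕ∞) (r : Cardinal.{u})
    (ha : AlgSp.HasAt (fun U u => ringKrullDim ↥(U.presheaf.stalk u) = a) X.obj x)
    (hb : AlgSp.HasAt (fun U u => ringKrullDim ↥(U.presheaf.stalk u) = b) Y.obj (AlgSp.Points.map f.hom x))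
    (hr : AlgSp.HasAtMor (fun _ _ h u => Dual3.resTrdeg h u = r) f.hom x) :
    a + ((Cardinal.toENat r : ℕ∞) : WithBot ℕ∞) ≤ b + ((Cardinal.toENat E : ℕ∞) : WithBot ℕ∞) := by
  obtain ⟨U₁, a₁, u₁, ha₁e, hu₁, hdim₁⟩ := ha
  obtain ⟨V₁, b₁, v₁, hb₁e, hv₁, hdimv₁⟩ := hb
  obtain ⟨U, V, a₂, b₂, h, u, ha₂e, hb₂e, hw, hu, hru⟩ := hr
  haveI : IsLocallyNoetherian V.left := isLocallyNoetherian_of_isLocNoethSp hY b₂ hb₂e
  haveI : LocallyOfFiniteType h.left := hf a₂ b₂ h ha₂e hb₂e hw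
  have hda : ringKrullDim ↥(U.left.presheaf.stalk u) = a := by
    rw [← hdim₁]
    exact ringKrullDim_stalk_eq_of_ofPt_eq a₂ a₁ ha₂e ha₁e u u₁ (hu.trans hu₁.symm)
  have hdb : ringKrullDim ↥(V.left.presheaf.stalk (h.left u)) = b := by
    rw [← hdimv₁]
    refine ringKrullDim_stalk_eq_of_ofPt_eq b₂ b₁ hb₂e hb₁e (h.left u) v₁ ?_
    rw [ofPt_map_of_comm f.hom a₂ b₂ h hw u, hu, hv₁]
  obtain ⟨n, hn⟩ := SchemeDimIneqGlobal.exists_nat_trdeg h.left u
  have hrn : r = n := by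
    rw [← hru]; exact hn
  have hgen : ∀ ξ : U.left, closure {ξ} ∈ irreducibleComponents ↥U.left → ξ ⤳ u →
      Dual3.resTrdeg h.left ξ ≤ E := by
    intro ξ hξ hsp
    apply hE (Points.ofPt a₂ ξ)
    · rw [← hu]
      exact hsp.map (Points.continuous_ofPt a₂)
    · refine ⟨U, a₂, ξ, ha₂e, rfl, ?_⟩
      show ringKrullDim ↥(U.left.presheaf.stalk ξ) = 0
      rw [ringKrullDim_stalk_eq_coheight]
      have hmax : IsMax ξ := by
        intro y hy
        have := (Groth.Agent.Lib.Helper7.AffPts.closure_mem_irreducibleComponents_iff ξ).1 hξ y hy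
        rw [this]
      rw [Order.coheight_eq_zero.2 hmax]
      rfl
    · exact ⟨U, V, a₂, b₂, h, ξ, ha₂e, hb₂e, hw, rfl, rfl⟩
  rw [← hda, ← hdb, hrn]
  rcases lt_or_ge E Cardinal.aleph0 with hfin | hinf
  · obtain ⟨m, rfl⟩ := Cardinal.lt_aleph0.1 hfin
    have h2 := SchemeDimIneq.main h.left u n m hn (fun ξ hξ hsp => hgen ξ hξ hsp)
    simp only [map_natCast]
    exact h2
  · rw [Cardinal.toENat_eq_top.2 hinf]
    have h0 : (0 : WithBot ℕ∞) ≤ ringKrullDim ↥(V.left.presheaf.stalk (h.left u)) :=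
      ringKrullDim_nonneg_of_nontrivial
    have : ringKrullDim ↥(V.left.presheaf.stalk (h.left u)) + ((⊤ : ℕ∞) : WithBot ℕ∞) =
        ((⊤ : ℕ∞) : WithBot ℕ∞) := by
      have hne : ringKrullDim ↥(V.left.presheaf.stalk (h.left u)) ≠ ⊥ := fun hbot => by
        rw [hbot] at h0; simp at h0
      obtain ⟨d, hd⟩ := WithBot.ne_bot_iff_exists.1 hne
      rw [← hd, ← WithBot.coe_add]
      simp
    rw [this]
    exact le_top

end Groth.Agent.Lib.Helper3.DimFormSp
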