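import Mathlib.RingTheory.DedekindDomain.IntegralClosure
import Mathlib.RingTheory.DedekindDomain.Dvr
import Mathlib.RingTheory.Valuation.ValuationRing
import Mathlib.RingTheory.Valuation.LocalSubring
import Mathlib.RingTheory.DiscreteValuationRing.Basic
import Mathlib.Algebra.GCDMonoid.IntegrallyClosed
import Mathlib.RingTheory.PrincipalIdealDomain
set_option autoImplicit false
universe u

namespace Groth.Agent.Lib.Helper3.DvrExt

/-- A valuation ring of a finite separable extension of the fraction field of a discrete
valuation ring `A` which dominates `A` is a discrete valuation ring. -/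
theorem isDiscreteValuationRing_of_dominates {A K A' K' : Type u} [CommRing A] [IsDomain A]
    [IsDiscreteValuationRing A] [Field K] [Algebra A K] [IsFractionRing A K] [CommRing A']
    [IsDomain A'] [ValuationRing A'] [Field K'] [Algebra A' K'] [IsFractionRing A' K']
    (φ : A →+* A') (hloc : IsLocalHom φ) [Algebra K K']
    (comm : (algebraMap A' K').comp φ = (algebraMap K K').comp (algebraMap A K))
    [FiniteDimensional K K'] [Algebra.IsSeparable K K'] : IsDiscreteValuationRing A' := by
  let _ : Algebra A K' := ((algebraMap K K').comp (algebraMap A K)).toAlgebra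
  have hst : IsScalarTower A K K' := IsScalarTower.of_algebraMap_eq' rfl
  let _ : Algebra A A' := φ.toAlgebra
  have hst' : IsScalarTower A A' K' := IsScalarTower.of_algebraMap_eq' comm.symm
  have hBded : IsDedekindDomain (integralClosure A K') := integralClosure.isDedekindDomain A K K'
  have hBfr : IsFractionRing (integralClosure A K') K' :=
    integralClosure.isFractionRing_of_finite_extension K K'
  have hι : Function.Injective (algebraMap A' K') := IsFractionRing.injective A' K'
  -- every element of the integral closure comes from A'
  have hex : ∀ b : integralClosure A K', ∃ y : A', algebraMap A' K' y = (b : K') := by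
    intro b
    have h1 : IsIntegral A (b : K') := b.2
    have h2 : IsIntegral A' (b : K') := h1.tower_top
    exact IsIntegrallyClosed.isIntegral_iff.1 h2
  choose g₀ hg₀ using hex
  let g : integralClosure A K' →+* A' :=
    { toFun := g₀
      map_one' := hι (by rw [hg₀]; simp)
      map_mul' := fun x y => hι (by rw [hg₀, map_mul, hg₀, hg₀]; rfl)
      map_zero' := hι (by rw [hg₀]; simp)
      map_add' := fun x y => hι (by rw [hg₀, map_add, hg₀, hg₀]; rfl) }
  have hg : ∀ b, algebraMap A' K' (g b) = (b : K') := hg₀
  have hginj : Function.Injective g := fun x y h => Subtype.ext (by rw [← hg x, ← hg y, h])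
  let P : Ideal (integralClosure A K') := (IsLocalRing.maximalIdeal A').comap g
  have hPprime : P.IsPrime := Ideal.comap_isPrime g _
  obtain ⟨π, hπ⟩ := IsDiscreteValuationRing.exists_irreducible A
  have hAinj : Function.Injective (algebraMap A K') :=
    (algebraMap K K').injective.comp (IsFractionRing.injective A K)
  let πB : integralClosure A K' := algebraMap A _ π
  have hπB : (πB : K') = algebraMap A K' π := rfl
  have hgπ : g πB = φ π := hι (by
    rw [hg, hπB]
    exact (RingHom.congr_fun comm π).symm)
  have hπP : πB ∈ P := by
    change g πB ∈ IsLocalRing.maximalIdeal A'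
    rw [hgπ, IsLocalRing.mem_maximalIdeal, mem_nonunits_iff]
    exact fun hu => hπ.not_isUnit (hloc.map_nonunit π hu)
  have hPne : P ≠ ⊥ := by
    intro h
    rw [h, Ideal.mem_bot] at hπP
    have : algebraMap A K' π = 0 := by rw [← hπB, hπP]; rfl
    exact hπ.ne_zero (hAinj (by rw [this, map_zero]))
  have hBpdvr : IsDiscreteValuationRing (Localization.AtPrime P) :=
    IsLocalization.AtPrime.isDiscreteValuationRing_of_dedekind_domain _ hPne _
  have hunits : ∀ s : P.primeCompl, IsUnit (g s) := fun s => by
    have h1 : g s ∉ IsLocalRing.maximalIdeal A' := s.2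
    rw [IsLocalRing.mem_maximalIdeal, mem_nonunits_iff, not_not] at h1
    exact h1
  let h : Localization.AtPrime P →+* A' := IsLocalization.lift hunits
  have hhalg : ∀ b, h (algebraMap _ (Localization.AtPrime P) b) = g b :=
    IsLocalization.lift_eq hunits
  have hhinj : Function.Injective h := by
    rw [IsLocalization.lift_injective_iff]
    intro x y
    constructor
    · intro hxy
      rw [IsLocalization.injective (Localization.AtPrime P)
        (Ideal.primeCompl_le_nonZeroDivisors P) hxy]
    · intro hxy
      rw [hginj hxy]
  let _ : Algebra (Localization.AtPrime P) K' := ((algebraMap A' K').comp h).toAlgebra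
  have hst'' : IsScalarTower (integralClosure A K') (Localization.AtPrime P) K' := by
    refine IsScalarTower.of_algebraMap_eq' ?_
    ext b
    change (b : K') = algebraMap A' K' (h (algebraMap _ _ b))
    rw [hhalg, hg]
  have hfr : IsFractionRing (Localization.AtPrime P) K' :=
    IsFractionRing.isFractionRing_of_isDomain_of_isLocalization P.primeCompl _ K'
  have hhsurj : Function.Surjective h := by
    intro y
    rcases ValuationRing.isInteger_or_isInteger (Localization.AtPrime P) (algebraMap A' K' y) with
      ⟨z, hz⟩ | ⟨z, hz⟩
    · exact ⟨z, hι hz⟩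
    · by_cases hy : y = 0
      · exact ⟨0, by rw [hy, map_zero]⟩
      · have hy' : algebraMap A' K' y ≠ 0 := (map_ne_zero_iff _ hι).2 hy
        have hzy : h z * y = 1 := hι (by
          rw [map_mul, map_one]
          change algebraMap (Localization.AtPrime P) K' z * _ = 1
          rw [hz]
          exact inv_mul_cancel₀ hy')
        have hhzu : IsUnit (h z) := IsUnit.of_mul_eq_one _ hzy
        have hzu : IsUnit z := by
          by_contra hzn
          have hzm : z ∈ IsLocalRing.maximalIdeal (Localization.AtPrime P) :=
            (IsLocalRing.mem_maximalIdeal z).2 hzn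
          obtain ⟨b, s, rfl⟩ := IsLocalization.exists_mk'_eq P.primeCompl z
          have hb : b ∈ P := (IsLocalization.AtPrime.mk'_mem_maximal_iff _ P b s).1 hzm
          have h1 : h (IsLocalization.mk' _ b s) * g s = g b := by
            rw [← hhalg, ← hhalg, ← map_mul, IsLocalization.mk'_spec]
          have h2 : IsUnit (g b) := by rw [← h1]; exact hhzu.mul (hunits s)
          have h3 : g b ∈ IsLocalRing.maximalIdeal A' := hb
          rw [IsLocalRing.mem_maximalIdeal, mem_nonunits_iff] at h3
          exact h3 h2
        obtain ⟨zu, rfl⟩ := hzu
        refine ⟨((zu⁻¹ : (Localization.AtPrime P)ˣ) : Localization.AtPrime P), ?_⟩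
        calc h ((zu⁻¹ : (Localization.AtPrime P)ˣ) : Localization.AtPrime P)
            = h ((zu⁻¹ : (Localization.AtPrime P)ˣ) : Localization.AtPrime P) * (h zu * y) := by
              rw [hzy, mul_one]
          _ = h (((zu⁻¹ : (Localization.AtPrime P)ˣ) : Localization.AtPrime P) * zu) * y := by
              rw [map_mul, mul_assoc]
          _ = y := by rw [Units.inv_mul, map_one, one_mul]
  exact IsDiscreteValuationRing.RingEquivClass.isDiscreteValuationRing
    (RingEquiv.ofBijective h ⟨hhinj, hhsurj⟩)

end Groth.Agent.Lib.Helper3.DvrExt
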