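import Groth.Agent.Lib.Helper3.AlgSpLocP4
import Groth.Agent.Lib.Helper3.AlgSpDecent
import Groth.Agent.Lib.Helper15.LiftDiscrete
import Groth.Agent.Lib.Helper22.BrCountSch
import Groth.Agent.S2778
import Groth.Agent.S17977
import Groth.Prelude.Def_AlgSpDec
import Groth.Prelude.Def_Hensel

set_option autoImplicit false
universe u
open CategoryTheory CategoryTheory.Limits AlgebraicGeometry Opposite
open AlgSp

namespace Groth.Agent.Lib.Helper3.ElemNb

set_option backward.isDefEq.respectTransparency false

variable {S : Scheme.{u}}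

/-- A morphism of elementary etale neighbourhoods induces an isomorphism of residue fields. -/
theorem bijective_residueFieldMap_of_isElemEtaleNbhd {X : Sp S} (x : Points X) {U U' : Over S}
    (a : (yon S).obj U ⟶ X) (a' : (yon S).obj U' ⟶ X) (g : U' ⟶ U) (u' : ↥U'.left)
    (hg : (yon S).map g ≫ a = a') (ha : IsElemEtaleNbhd a (g.left u') x)
    (ha' : IsElemEtaleNbhd a' u' x) : Function.Bijective (g.left.residueFieldMap u').hom := by
  have hm := ha.mono
  have hm' := ha'.mono
  rw [FieldPt.toHom_ofPt] at hm hm'
  let c : Over.mk (U'.left.fromSpecResidueField u' ≫ U'.hom) ⟶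
      Over.mk (U.left.fromSpecResidueField (g.left u') ≫ U.hom) :=
    Over.homMk (Spec.map (g.left.residueFieldMap u')) (by
      change Spec.map (g.left.residueFieldMap u') ≫ U.left.fromSpecResidueField (g.left u') ≫ U.hom = _
      rw [← Category.assoc, Scheme.Hom.SpecMap_residueFieldMap_fromSpecResidueField, Category.assoc,
        Over.w g]
      rfl)
  have hc : (yon S).map c ≫ (yon S).map (Over.homMk (U.left.fromSpecResidueField (g.left u')) rfl :
      Over.mk (U.left.fromSpecResidueField (g.left u') ≫ U.hom) ⟶ U) ≫ a =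
      (yon S).map (Over.homMk (U'.left.fromSpecResidueField u') rfl :
        Over.mk (U'.left.fromSpecResidueField u' ≫ U'.hom) ⟶ U') ≫ a' := by
    rw [← hg, ← Category.assoc, ← Category.assoc, ← Functor.map_comp, ← Functor.map_comp]
    congr 2
    ext
    exact Scheme.Hom.SpecMap_residueFieldMap_fromSpecResidueField g.left u'
  have hmc : Mono ((yon S).map c) := by
    have : Mono ((yon S).map c ≫ (yon S).map (Over.homMk (U.left.fromSpecResidueField (g.left u')) rfl :
        Over.mk (U.left.fromSpecResidueField (g.left u') ≫ U.hom) ⟶ U) ≫ a) := by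
      rw [hc]; exact hm'
    exact mono_of_mono _ ((yon S).map (Over.homMk (U.left.fromSpecResidueField (g.left u')) rfl :
        Over.mk (U.left.fromSpecResidueField (g.left u') ≫ U.hom) ⟶ U) ≫ a)
  have hcm : Mono c := (yon S).mono_of_mono_map hmc
  have hcl : Mono c.left := inferInstance
  have hcl' : Mono (Spec.map (g.left.residueFieldMap u')) := hcl
  have hne : Nonempty ↥(Spec (U'.left.residueField u')) := ⟨IsLocalRing.closedPoint _⟩
  have hiso : IsIso (Spec.map (g.left.residueFieldMap u')) :=
    Groth.Agent.Lib.Helper15.LiftDiscrete.isIso_of_mono_to_field_of_nonempty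
      (L := ↥(U.left.residueField (g.left u'))) (Spec.map (g.left.residueFieldMap u'))
  exact (isIso_SpecMap_iff.1 hiso)

end Groth.Agent.Lib.Helper3.ElemNb
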