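import Groth.Agent.Lib.Helper3.ElemNbA

set_option autoImplicit false
universe u
open CategoryTheory CategoryTheory.Limits AlgebraicGeometry Opposite
open AlgSp

namespace Groth.Agent.Lib.Helper3.ElemNb

set_option backward.isDefEq.respectTransparency false

/-- Transfer of henselization along a strictly essentially etale local homomorphism. -/
theorem isHenselization_of_isStrictlyEssentiallyEtale (A A' R : Type u) [CommRing A] [IsLocalRing A]
    [CommRing A'] [IsLocalRing A'] [Algebra A A'] [IsLocalHom (algebraMap A A')]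
    (hA' : EGA4loc.IsStrictlyEssentiallyEtale A A')
    [CommRing R] [IsLocalRing R] [Algebra A' R] [IsLocalHom (algebraMap A' R)]
    [Hensel.IsHenselization A' R] :
    letI : Algebra A R := ((algebraMap A' R).comp (algebraMap A A')).toAlgebra
    ∃ (_ : IsLocalHom (algebraMap A R)), Hensel.IsHenselization A R := by
  letI : Algebra A R := ((algebraMap A' R).comp (algebraMap A A')).toAlgebra
  have hloc : IsLocalHom (algebraMap A R) := by
    change IsLocalHom ((algebraMap A' R).comp (algebraMap A A'))
    infer_instance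
  refine ⟨hloc, ?_⟩
  have hhens : HenselianLocalRing R := Hensel.IsHenselization.henselian (R := A') (S := R)
  refine { henselian := hhens, universal := ?_ }
  intro T _ _ f hf
  haveI := hf
  obtain ⟨f', ⟨hf'loc, hf'⟩, hf'uniq⟩ := Groth.Agent.S2778.result A A' hA' T f
  obtain ⟨g, hg, hguniq⟩ := Hensel.IsHenselization.universal (R := A') (S := R) T f' hf'loc
  refine ⟨g, ?_, ?_⟩
  · change g.comp ((algebraMap A' R).comp (algebraMap A A')) = f
    rw [← RingHom.comp_assoc, hg, hf']
  · intro g₂ hg₂
    have hg₂' : (g₂.comp (algebraMap A' R)).comp (algebraMap A A') = f := by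
      rw [RingHom.comp_assoc]; exact hg₂
    apply hguniq
    apply hf'uniq
    refine ⟨?_, hg₂'⟩
    letI : Algebra A T := f.toAlgebra
    haveI : IsLocalHom (algebraMap A T) := hf
    let φ' : A' →ₐ[A] T :=
      { g₂.comp (algebraMap A' R) with
        commutes' := fun r => by
          change (g₂.comp (algebraMap A' R)).comp (algebraMap A A') r = f r
          rw [hg₂'] }
    exact Groth.Agent.S17977.result A A' hA'.1 T φ'

variable {S : Scheme.{u}}

/-- **S10440.** -/
theorem main10440 (X : AlgSp.Space S) (x : AlgSp.Points X.obj) {U U' : Over S}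
    (a : (AlgSp.yon S).obj U ⟶ X.obj) (a' : (AlgSp.yon S).obj U' ⟶ X.obj) (g : U' ⟶ U) (u' : ↥U'.left)
    (hg : (AlgSp.yon S).map g ≫ a = a') (ha : AlgSp.IsElemEtaleNbhd a (g.left.base u') x)
    (ha' : AlgSp.IsElemEtaleNbhd a' u' x) (R : Type u) [CommRing R] [IsLocalRing R]
    [Algebra ↥(U'.left.presheaf.stalk u') R] [IsLocalHom (algebraMap ↥(U'.left.presheaf.stalk u') R)]
    [Hensel.IsHenselization ↥(U'.left.presheaf.stalk u') R] :
    letI : Algebra ↥(U.left.presheaf.stalk (g.left.base u')) R :=
      ((algebraMap ↥(U'.left.presheaf.stalk u') R).comp (g.left.stalkMap u').hom).toAlgebra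
    ∃ (_ : IsLocalHom (algebraMap ↥(U.left.presheaf.stalk (g.left.base u')) R)),
      Hensel.IsHenselization ↥(U.left.presheaf.stalk (g.left.base u')) R := by
  have hget : Etale g.left := etale_of_repWith_comp a' a ha'.etale ha.etale g hg
  letI algOO' : Algebra ↥(U.left.presheaf.stalk (g.left.base u')) ↥(U'.left.presheaf.stalk u') :=
    (g.left.stalkMap u').hom.toAlgebra
  haveI : IsLocalHom (algebraMap ↥(U.left.presheaf.stalk (g.left.base u')) ↥(U'.left.presheaf.stalk u')) :=
    inferInstanceAs (IsLocalHom (g.left.stalkMap u').hom)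
  have hEE : EGA4loc.IsEssentiallyEtale ↥(U.left.presheaf.stalk (g.left.base u'))
      ↥(U'.left.presheaf.stalk u') :=
    Groth.Agent.Lib.Helper22.BrCountSch.isEssentiallyEtale_stalk g.left u'
  have hbij : Function.Bijective (IsLocalRing.ResidueField.map
      (algebraMap ↥(U.left.presheaf.stalk (g.left.base u')) ↥(U'.left.presheaf.stalk u'))) :=
    bijective_residueFieldMap_of_isElemEtaleNbhd x a a' g u' hg ha ha'
  exact isHenselization_of_isStrictlyEssentiallyEtale _ _ R ⟨hEE, hbij⟩

end Groth.Agent.Lib.Helper3.ElemNb
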