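import Groth.Agent.Lib.Helper3.ElemNbB
import Groth.Agent.Lib.Helper3.AlgSpMonoPt
import Groth.Agent.Lib.Helper3.AlgSpChartPts
import Groth.Agent.Lib.Helper3.AlgSpLocSrc2

set_option autoImplicit false
universe u
open CategoryTheory CategoryTheory.Limits AlgebraicGeometry Opposite
open AlgSp

namespace Groth.Agent.Lib.Helper3.ElemNb

set_option backward.isDefEq.respectTransparency false

variable {S : Scheme.{u}}

/-- An etale neighbourhood (in the scheme sense, trivial residue extension) of an elementary etale
neighbourhood is elementary. -/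
theorem isElemEtaleNbhd_comp {X : Sp S} (x : Points X) {U V : Over S}
    (a : (yon S).obj U ⟶ X) (g : V ⟶ U) (v : ↥V.left)
    (ha : IsElemEtaleNbhd a (g.left v) x) (hg : Etale g.left)
    (hres : Function.Bijective (g.left.residueFieldMap v).hom) :
    IsElemEtaleNbhd ((yon S).map g ≫ a) v x := by
  refine ⟨?_, ?_, ?_⟩
  · exact (RepWith @Etale).comp_mem _ _ ((repWith_yon_map_iff @Etale g).2 hg) ha.etale
  · rw [Points.ofPt_yon_map_comp]; exact ha.ofPt_eq
  · have hm := ha.mono
    rw [FieldPt.toHom_ofPt] at hm ⊢
    let c : Over.mk (V.left.fromSpecResidueField v ≫ V.hom) ⟶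
        Over.mk (U.left.fromSpecResidueField (g.left v) ≫ U.hom) :=
      Over.homMk (Spec.map (g.left.residueFieldMap v)) (by
        change Spec.map (g.left.residueFieldMap v) ≫ U.left.fromSpecResidueField (g.left v) ≫ U.hom = _
        rw [← Category.assoc, Scheme.Hom.SpecMap_residueFieldMap_fromSpecResidueField, Category.assoc,
          Over.w g]
        rfl)
    have hc : (yon S).map c ≫ (yon S).map (Over.homMk (U.left.fromSpecResidueField (g.left v)) rfl :
        Over.mk (U.left.fromSpecResidueField (g.left v) ≫ U.hom) ⟶ U) ≫ a =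
        (yon S).map (Over.homMk (V.left.fromSpecResidueField v) rfl :
          Over.mk (V.left.fromSpecResidueField v ≫ V.hom) ⟶ V) ≫ (yon S).map g ≫ a := by
      rw [← Category.assoc, ← Category.assoc, ← Functor.map_comp, ← Functor.map_comp]
      congr 2
      ext
      exact Scheme.Hom.SpecMap_residueFieldMap_fromSpecResidueField g.left v
    rw [← hc]
    have hiso : IsIso (Spec.map (g.left.residueFieldMap v)) := isIso_SpecMap_iff.2 hres
    have hcl : IsIso c.left := hiso
    have hci : IsIso c := by
      have : IsIso ((Over.forget S).map c) := hcl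
      exact isIso_of_reflects_iso c (Over.forget S)
    have : IsIso ((yon S).map c) := inferInstance
    exact mono_comp _ _


theorem bijective_aux {U W : Scheme.{u}} (w : W) (u u' : U) (h : u' = u)
    (ψ : U.residueField u' ⟶ W.residueField w) (φ : W.residueField w ⟶ U.residueField u)
    (H : Spec.map φ ≫ Spec.map ψ ≫ U.fromSpecResidueField u' = U.fromSpecResidueField u) :
    Function.Bijective ψ.hom := by
  subst h
  have h1 : Spec.map φ ≫ Spec.map ψ = 𝟙 _ := by
    rw [← cancel_mono (U.fromSpecResidueField u'), Category.assoc, H, Category.id_comp]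
  have h2 : ψ ≫ φ = 𝟙 _ := by
    apply Spec.map_injective
    rw [Spec.map_comp, h1, Spec.map_id]
  have h3 : ∀ y, φ.hom (ψ.hom y) = y := fun y => by
    have := congrArg (fun f => f.hom y) h2
    simpa using this
  have hφinj : Function.Injective φ.hom := φ.hom.injective
  refine ⟨ψ.hom.injective, fun z => ⟨φ.hom z, ?_⟩⟩
  apply hφinj
  rw [h3]

theorem bijective_residueFieldMap_of_section {W U : Scheme.{u}} (p : W ⟶ U) (u : U)
    (m : Spec (.of (U.residueField u)) ⟶ W) (hm : m ≫ p = U.fromSpecResidueField u) :
    Function.Bijective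
      (p.residueFieldMap (m (IsLocalRing.closedPoint (U.residueField u)))).hom := by
  have hw : p (m (IsLocalRing.closedPoint (U.residueField u))) = u := by
    rw [← Scheme.Hom.comp_apply, hm]
    exact Scheme.fromSpecResidueField_apply _ _
  refine bijective_aux _ u _ hw (p.residueFieldMap _)
    (W.descResidueField (K := ↥(U.residueField u)) (Scheme.stalkClosedPointTo m)) ?_
  rw [Scheme.Hom.SpecMap_residueFieldMap_fromSpecResidueField, ← Category.assoc,
    Scheme.descResidueField_stalkClosedPointTo_fromSpecResidueField]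
  exact hm

/-- Two elementary etale neighbourhoods of a point of an algebraic space have a common elementary
refinement. -/
theorem exists_common_elem_refinement {X : Sp S} (hX : IsAlgSpace X) (x : Points X) {U U' : Over S}
    (a : (yon S).obj U ⟶ X) (a' : (yon S).obj U' ⟶ X) (u : ↥U.left) (u' : ↥U'.left)
    (ha : IsElemEtaleNbhd a u x) (ha' : IsElemEtaleNbhd a' u' x) :
    ∃ (W : Over S) (p : W ⟶ U) (p' : W ⟶ U') (w : ↥W.left),
      (yon S).map p ≫ a = (yon S).map p' ≫ a' ∧ p.left w = u ∧ p'.left w = u' ∧
      IsElemEtaleNbhd ((yon S).map p' ≫ a') w x := by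
  obtain ⟨W, p, p', sq⟩ := exists_pullback_charts a ha.etale.1 a'
  have hp' : Etale p'.left := ha.etale.2 a' _ _ sq
  haveI := ha.mono
  let q := FieldPt.ofPt a u
  let q' := FieldPt.ofPt a' u'
  have hqq' : Points.mk q = Points.mk q' := ha.ofPt_eq.trans ha'.ofPt_eq.symm
  obtain ⟨c, hc⟩ := exists_factor_of_mono_fieldPt hX q q' hqq'
  let ιu : q.pt ⟶ U := Over.homMk (U.left.fromSpecResidueField u) rfl
  let ιu' : q'.pt ⟶ U' := Over.homMk (U'.left.fromSpecResidueField u') rfl
  have hq : q.toHom = (yon S).map ιu ≫ a := FieldPt.toHom_ofPt a u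
  have hq' : q'.toHom = (yon S).map ιu' ≫ a' := FieldPt.toHom_ofPt a' u'
  have hcomm : (yon S).map (c ≫ ιu) ≫ a = (yon S).map ιu' ≫ a' := by
    rw [Functor.map_comp, Category.assoc, ← hq, hc, hq']
  obtain ⟨m, hm⟩ := (yon S).map_surjective (sq.lift _ _ hcomm)
  have hm1 : m ≫ p = c ≫ ιu := (yon S).map_injective (by rw [Functor.map_comp, hm, sq.lift_fst])
  have hm2 : m ≫ p' = ιu' := (yon S).map_injective (by rw [Functor.map_comp, hm, sq.lift_snd])
  let w : ↥W.left := m.left (IsLocalRing.closedPoint _)
  have hw1 : p.left w = u := by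
    change (m.left ≫ p.left) _ = u
    rw [← Over.comp_left, hm1, Over.comp_left, Scheme.Hom.comp_apply]
    exact Scheme.fromSpecResidueField_apply _ _
  have hw2 : p'.left w = u' := by
    change (m.left ≫ p'.left) _ = u'
    rw [← Over.comp_left, hm2]
    exact Scheme.fromSpecResidueField_apply _ _
  refine ⟨W, p, p', w, sq.w, hw1, hw2, ?_⟩
  apply isElemEtaleNbhd_comp x a' p' w (by rw [hw2]; exact ha') hp'
  exact bijective_residueFieldMap_of_section p'.left u' m.left (congrArg CommaMorphism.left hm2)

end Groth.Agent.Lib.Helper3.ElemNb
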