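import Groth.Agent.Lib.Helper3.ElemNbC
import Groth.Agent.Lib.Helper22.BrCountTop
import Groth.Agent.S9752
import Groth.Agent.S9237
import Groth.Agent.S0506
import Groth.Prelude.Def_Brnch

set_option autoImplicit false
universe u
open CategoryTheory CategoryTheory.Limits AlgebraicGeometry Opposite
open AlgSp

namespace Groth.Agent.Lib.Helper3.ElemNb

set_option backward.isDefEq.respectTransparency false

variable {S : Scheme.{u}}

/-- components through `u` are at most the number of branches. -/
theorem encard_components_le_numBranchesAt (U : Scheme.{u}) (u : U) :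
    {Z : Set ↥U | Z ∈ irreducibleComponents ↥U ∧ u ∈ Z}.encard ≤ Brnch.numBranchesAt U u := by
  rw [Groth.Agent.S9752.result U u]
  have hN : Hens2.IsEtaleNbhd (𝟙 U) u u := by
    refine ⟨inferInstance, rfl, ?_⟩
    have : IsIso ((𝟙 U : U ⟶ U).residueFieldMap u) := inferInstance
    exact (ConcreteCategory.isIso_iff_bijective _).1 this
  exact le_iSup_of_le U (le_iSup_of_le (𝟙 U) (le_iSup_of_le u (le_iSup_of_le hN le_rfl)))

/-- A scheme-theoretic elementary etale neighbourhood of an elementary etale neighbourhood. -/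
theorem isElemEtaleNbhd_of_isEtaleNbhd {X : Sp S} (x : Points X) {U : Over S}
    (a : (yon S).obj U ⟶ X) (u : ↥U.left) (ha : IsElemEtaleNbhd a u x)
    {V : Scheme.{u}} (g : V ⟶ U.left) (v : V) (hN : Hens2.IsEtaleNbhd g v u) :
    IsElemEtaleNbhd ((yon S).map (Over.homMk g rfl : Over.mk (g ≫ U.hom) ⟶ U) ≫ a) v x := by
  obtain ⟨het, hb, hres⟩ := hN
  subst hb
  exact isElemEtaleNbhd_comp x a (Over.homMk g rfl : Over.mk (g ≫ U.hom) ⟶ U) v ha het hres

/-- The number of branches is invariant under morphisms of elementary etale neighbourhoods. -/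
theorem numBranchesAt_eq_of_hom (X : AlgSp.Space S) (x : AlgSp.Points X.obj) {U U' : Over S}
    (a : (AlgSp.yon S).obj U ⟶ X.obj) (a' : (AlgSp.yon S).obj U' ⟶ X.obj) (g : U' ⟶ U) (u' : ↥U'.left)
    (hg : (AlgSp.yon S).map g ≫ a = a') (ha : AlgSp.IsElemEtaleNbhd a (g.left.base u') x)
    (ha' : AlgSp.IsElemEtaleNbhd a' u' x) :
    Brnch.numBranchesAt U'.left u' = Brnch.numBranchesAt U.left (g.left.base u') := by
  obtain ⟨R, _, _, _, _, hR⟩ := Groth.Agent.S0506.result ↥(U'.left.presheaf.stalk u')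
  have h1 := Groth.Agent.S9237.result ↥(U'.left.presheaf.stalk u') R
  obtain ⟨hloc, hH⟩ := main10440 X x a a' g u' hg ha ha' R
  letI : Algebra ↥(U.left.presheaf.stalk (g.left.base u')) R :=
    ((algebraMap ↥(U'.left.presheaf.stalk u') R).comp (g.left.stalkMap u').hom).toAlgebra
  have h2 := Groth.Agent.S9237.result ↥(U.left.presheaf.stalk (g.left.base u')) R
  unfold Brnch.numBranchesAt
  rw [← h1, ← h2]

/-- The number of branches is the same at all elementary etale neighbourhoods of a point. -/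
theorem numBranchesAt_eq_of_isElemEtaleNbhd (X : AlgSp.Space S) (x : AlgSp.Points X.obj) {U U' : Over S}
    (a : (AlgSp.yon S).obj U ⟶ X.obj) (a' : (AlgSp.yon S).obj U' ⟶ X.obj) (u : ↥U.left) (u' : ↥U'.left)
    (ha : AlgSp.IsElemEtaleNbhd a u x) (ha' : AlgSp.IsElemEtaleNbhd a' u' x) :
    Brnch.numBranchesAt U.left u = Brnch.numBranchesAt U'.left u' := by
  obtain ⟨W, p, p', w, hw, hw1, hw2, hW⟩ := exists_common_elem_refinement X.property x a a' u u' ha ha'
  have e1 := numBranchesAt_eq_of_hom X x a _ p w hw (by rw [hw1]; exact ha) hW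
  have e2 := numBranchesAt_eq_of_hom X x a' _ p' w rfl (by rw [hw2]; exact ha') hW
  rw [hw1] at e1
  rw [hw2] at e2
  rw [← e1, ← e2]

end Groth.Agent.Lib.Helper3.ElemNb
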