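import Groth.Agent.Lib.Helper3.ElemNbD

set_option autoImplicit false
universe u
open CategoryTheory CategoryTheory.Limits AlgebraicGeometry Opposite
open AlgSp

namespace Groth.Agent.Lib.Helper3.ElemNb

set_option backward.isDefEq.respectTransparency false

variable {S : Scheme.{u}}

/-- a bounded family in `ℕ∞` whose supremum is a positive natural number attains it -/
theorem exists_eq_of_iSup_eq {ι : Sort*} (f : ι → ℕ∞) (n : ℕ) (hn : 1 ≤ n) (h : ⨆ i, f i = (n : ℕ∞)) :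
    ∃ i, f i = n := by
  by_contra hcon
  push Not at hcon
  obtain ⟨m, rfl⟩ : ∃ m, n = m + 1 := ⟨n - 1, by omega⟩
  have hall : ∀ i, f i ≤ (m : ℕ∞) := by
    intro i
    have h1 : f i ≤ ((m + 1 : ℕ) : ℕ∞) := h ▸ le_iSup f i
    have h3 := lt_of_le_of_ne h1 (hcon i)
    rw [Nat.cast_add, Nat.cast_one] at h3
    exact Order.le_of_lt_add_one h3
  have hsup : (⨆ i, f i) ≤ (m : ℕ∞) := iSup_le hall
  rw [h] at hsup
  have : ((m + 1 : ℕ) : ℕ∞) ≤ (m : ℕ∞) := hsup
  rw [Nat.cast_le] at this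
  omega

/-- **S10442.** -/
theorem main10442 (X : AlgSp.Space S) (x : AlgSp.Points X.obj) (n : ℕ) (hn : 1 ≤ n) {U₀ : Over S}
    (a₀ : (AlgSp.yon S).obj U₀ ⟶ X.obj) (u₀ : ↥U₀.left) (h₀ : AlgSp.IsElemEtaleNbhd a₀ u₀ x)
    (R : Type u) [CommRing R] [IsLocalRing R] [Algebra ↥(U₀.left.presheaf.stalk u₀) R]
    [IsLocalHom (algebraMap ↥(U₀.left.presheaf.stalk u₀) R)] [Hensel.IsHenselization ↥(U₀.left.presheaf.stalk u₀) R] :
    (((∀ (U : Over S) (a : (AlgSp.yon S).obj U ⟶ X.obj) (u : ↥U.left), AlgSp.IsElemEtaleNbhd a u x →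
        (minimalPrimes ↥(U.left.presheaf.stalk u)).encard ≤ n) ∧
      (∃ (U : Over S) (a : (AlgSp.yon S).obj U ⟶ X.obj) (u : ↥U.left), AlgSp.IsElemEtaleNbhd a u x ∧
        (minimalPrimes ↥(U.left.presheaf.stalk u)).encard = n)) ↔
     ((∀ (U : Over S) (a : (AlgSp.yon S).obj U ⟶ X.obj) (u : ↥U.left), AlgSp.IsElemEtaleNbhd a u x →
        {Z : Set ↥U.left | Z ∈ irreducibleComponents ↥U.left ∧ u ∈ Z}.encard ≤ n) ∧
      (∃ (U : Over S) (a : (AlgSp.yon S).obj U ⟶ X.obj) (u : ↥U.left), AlgSp.IsElemEtaleNbhd a u x ∧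
        {Z : Set ↥U.left | Z ∈ irreducibleComponents ↥U.left ∧ u ∈ Z}.encard = n))) ∧
    (((∀ (U : Over S) (a : (AlgSp.yon S).obj U ⟶ X.obj) (u : ↥U.left), AlgSp.IsElemEtaleNbhd a u x →
        {Z : Set ↥U.left | Z ∈ irreducibleComponents ↥U.left ∧ u ∈ Z}.encard ≤ n) ∧
      (∃ (U : Over S) (a : (AlgSp.yon S).obj U ⟶ X.obj) (u : ↥U.left), AlgSp.IsElemEtaleNbhd a u x ∧
        {Z : Set ↥U.left | Z ∈ irreducibleComponents ↥U.left ∧ u ∈ Z}.encard = n)) ↔
     ((∀ (U : Over S) (a : (AlgSp.yon S).obj U ⟶ X.obj) (u : ↥U.left), AlgSp.IsElemEtaleNbhd a u x →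
        Brnch.numBranchesAt U.left u ≤ n) ∧
      (∃ (U : Over S) (a : (AlgSp.yon S).obj U ⟶ X.obj) (u : ↥U.left), AlgSp.IsElemEtaleNbhd a u x ∧
        Brnch.numBranchesAt U.left u = n))) ∧
    (((∀ (U : Over S) (a : (AlgSp.yon S).obj U ⟶ X.obj) (u : ↥U.left), AlgSp.IsElemEtaleNbhd a u x →
        Brnch.numBranchesAt U.left u ≤ n) ∧
      (∃ (U : Over S) (a : (AlgSp.yon S).obj U ⟶ X.obj) (u : ↥U.left), AlgSp.IsElemEtaleNbhd a u x ∧
        Brnch.numBranchesAt U.left u = n)) ↔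
     (minimalPrimes R).encard = n) := by
  have hcp : ∀ (U : Over S) (u : ↥U.left),
      {Z : Set ↥U.left | Z ∈ irreducibleComponents ↥U.left ∧ u ∈ Z}.encard =
        (minimalPrimes ↥(U.left.presheaf.stalk u)).encard := fun U u =>
    Groth.Agent.Lib.Helper22.BrCountTop.encard_components_eq U.left u
  have hR : (minimalPrimes R).encard = Brnch.numBranchesAt U₀.left u₀ :=
    Groth.Agent.S9237.result ↥(U₀.left.presheaf.stalk u₀) R
  refine ⟨?_, ?_, ?_⟩
  · constructor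
    · rintro ⟨h1, U, a, u, hE, h2⟩
      exact ⟨fun U a u hE => by rw [hcp]; exact h1 U a u hE, U, a, u, hE, by rw [hcp]; exact h2⟩
    · rintro ⟨h1, U, a, u, hE, h2⟩
      exact ⟨fun U a u hE => by rw [← hcp]; exact h1 U a u hE, U, a, u, hE, by rw [← hcp]; exact h2⟩
  · constructor
    · rintro ⟨h1, U, a, u, hE, h2⟩
      have hle : ∀ (U : Over S) (a : (AlgSp.yon S).obj U ⟶ X.obj) (u : ↥U.left),
          AlgSp.IsElemEtaleNbhd a u x → Brnch.numBranchesAt U.left u ≤ n := by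
        intro U a u hE
        rw [Groth.Agent.S9752.result U.left u]
        refine iSup_le fun V => iSup_le fun g => iSup_le fun v => iSup_le fun hN => ?_
        exact h1 (Over.mk (g ≫ U.hom)) _ v (isElemEtaleNbhd_of_isEtaleNbhd x a u hE g v hN)
      refine ⟨hle, U, a, u, hE, le_antisymm (hle U a u hE) ?_⟩
      rw [← h2]
      exact encard_components_le_numBranchesAt U.left u
    · rintro ⟨h1, U, a, u, hE, h2⟩
      have hle : ∀ (U : Over S) (a : (AlgSp.yon S).obj U ⟶ X.obj) (u : ↥U.left),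
          AlgSp.IsElemEtaleNbhd a u x →
          {Z : Set ↥U.left | Z ∈ irreducibleComponents ↥U.left ∧ u ∈ Z}.encard ≤ n := fun U a u hE =>
        (encard_components_le_numBranchesAt U.left u).trans (h1 U a u hE)
      refine ⟨hle, ?_⟩
      rw [Groth.Agent.S9752.result U.left u] at h2
      let ι := Σ' (V : Scheme.{u}) (g : V ⟶ U.left) (v : V), Hens2.IsEtaleNbhd g v u
      let f : ι → ℕ∞ := fun i => {Z : Set ↥i.1 | Z ∈ irreducibleComponents ↥i.1 ∧ i.2.2.1 ∈ Z}.encard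
      have hsup : ⨆ i, f i = (n : ℕ∞) := by
        rw [← h2]
        apply le_antisymm
        · exact iSup_le fun i => le_iSup_of_le i.1 (le_iSup_of_le i.2.1 (le_iSup_of_le i.2.2.1
            (le_iSup_of_le i.2.2.2 le_rfl)))
        · exact iSup_le fun V => iSup_le fun g => iSup_le fun v => iSup_le fun hN =>
            le_iSup f ⟨V, g, v, hN⟩
      obtain ⟨⟨V, g, v, hN⟩, hi⟩ := exists_eq_of_iSup_eq f n hn hsup
      exact ⟨Over.mk (g ≫ U.hom), _, v, isElemEtaleNbhd_of_isEtaleNbhd x a u hE g v hN, hi⟩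
  · rw [hR]
    constructor
    · rintro ⟨-, U, a, u, hE, h2⟩
      rw [← h2]
      exact numBranchesAt_eq_of_isElemEtaleNbhd X x a₀ a u₀ u h₀ hE
    · intro h
      refine ⟨fun U a u hE => ?_, U₀, a₀, u₀, h₀, h⟩
      rw [numBranchesAt_eq_of_isElemEtaleNbhd X x a a₀ u u₀ hE h₀, h]

end Groth.Agent.Lib.Helper3.ElemNb
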