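import Groth.Agent.Lib.Helper3.ElemNbE
import Groth.Agent.S9235
import Groth.Prelude.Def_CAlgX

set_option autoImplicit false
universe u
open CategoryTheory CategoryTheory.Limits AlgebraicGeometry Opposite
open AlgSp

namespace Groth.Agent.Lib.Helper3.ElemNb

set_option backward.isDefEq.respectTransparency false

variable {S : Scheme.{u}}

theorem hasUniqueMinimalPrime_iff (A : Type u) [CommRing A] :
    CAlgX.HasUniqueMinimalPrime A ↔ (minimalPrimes A).encard = 1 := by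
  rw [Set.encard_eq_one]
  constructor
  · rintro ⟨p, hp, huniq⟩
    refine ⟨p, ?_⟩
    ext q
    constructor
    · intro hq; exact huniq q hq
    · rintro rfl; exact hp
  · rintro ⟨p, hp⟩
    refine ⟨p, by rw [hp]; rfl, fun q hq => ?_⟩
    rw [hp] at hq
    exact hq

theorem one_le_encard_minimalPrimes (A : Type u) [CommRing A] [Nontrivial A] :
    1 ≤ (minimalPrimes A).encard := by
  rw [Set.one_le_encard_iff_nonempty]
  obtain ⟨m, hm⟩ := Ideal.exists_maximal A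
  obtain ⟨p, hp, -⟩ := Ideal.exists_minimalPrimes_le (I := ⊥) (J := m) bot_le
  exact ⟨p, hp⟩

/-- **S10441.** -/
theorem main10441 (X : AlgSp.Space S) (x : AlgSp.Points X.obj) {U₀ : Over S}
    (a₀ : (AlgSp.yon S).obj U₀ ⟶ X.obj) (u₀ : ↥U₀.left) (h₀ : AlgSp.IsElemEtaleNbhd a₀ u₀ x)
    (R : Type u) [CommRing R] [IsLocalRing R] [Algebra ↥(U₀.left.presheaf.stalk u₀) R]
    [IsLocalHom (algebraMap ↥(U₀.left.presheaf.stalk u₀) R)] [Hensel.IsHenselization ↥(U₀.left.presheaf.stalk u₀) R] :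
    ((∀ (U : Over S) (a : (AlgSp.yon S).obj U ⟶ X.obj) (u : ↥U.left), AlgSp.IsElemEtaleNbhd a u x →
        CAlgX.HasUniqueMinimalPrime ↥(U.left.presheaf.stalk u)) ↔
      (∀ (U : Over S) (a : (AlgSp.yon S).obj U ⟶ X.obj) (u : ↥U.left), AlgSp.IsElemEtaleNbhd a u x →
        {Z : Set ↥U.left | Z ∈ irreducibleComponents ↥U.left ∧ u ∈ Z}.encard = 1)) ∧
    ((∀ (U : Over S) (a : (AlgSp.yon S).obj U ⟶ X.obj) (u : ↥U.left), AlgSp.IsElemEtaleNbhd a u x →
        {Z : Set ↥U.left | Z ∈ irreducibleComponents ↥U.left ∧ u ∈ Z}.encard = 1) ↔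
      (∀ (U : Over S) (a : (AlgSp.yon S).obj U ⟶ X.obj) (u : ↥U.left), AlgSp.IsElemEtaleNbhd a u x →
        CAlg2.IsUnibranch ↥(U.left.presheaf.stalk u))) ∧
    ((∀ (U : Over S) (a : (AlgSp.yon S).obj U ⟶ X.obj) (u : ↥U.left), AlgSp.IsElemEtaleNbhd a u x →
        CAlg2.IsUnibranch ↥(U.left.presheaf.stalk u)) ↔ CAlgX.HasUniqueMinimalPrime R) := by
  have hcp : ∀ (U : Over S) (u : ↥U.left),
      {Z : Set ↥U.left | Z ∈ irreducibleComponents ↥U.left ∧ u ∈ Z}.encard =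
        (minimalPrimes ↥(U.left.presheaf.stalk u)).encard := fun U u =>
    Groth.Agent.Lib.Helper22.BrCountTop.encard_components_eq U.left u
  have hcp1 : ∀ (U : Over S) (u : ↥U.left),
      1 ≤ {Z : Set ↥U.left | Z ∈ irreducibleComponents ↥U.left ∧ u ∈ Z}.encard := fun U u => by
    rw [hcp]; exact one_le_encard_minimalPrimes _
  have hnb1 : ∀ (U : Over S) (u : ↥U.left), 1 ≤ Brnch.numBranchesAt U.left u := fun U u =>
    (hcp1 U u).trans (encard_components_le_numBranchesAt U.left u)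
  obtain ⟨-, h23, h34⟩ := main10442 X x 1 le_rfl a₀ u₀ h₀ R
  rw [Nat.cast_one] at h23 h34
  have hB : (∀ (U : Over S) (a : (AlgSp.yon S).obj U ⟶ X.obj) (u : ↥U.left), AlgSp.IsElemEtaleNbhd a u x →
        {Z : Set ↥U.left | Z ∈ irreducibleComponents ↥U.left ∧ u ∈ Z}.encard = 1) ↔
      ((∀ (U : Over S) (a : (AlgSp.yon S).obj U ⟶ X.obj) (u : ↥U.left), AlgSp.IsElemEtaleNbhd a u x →
        {Z : Set ↥U.left | Z ∈ irreducibleComponents ↥U.left ∧ u ∈ Z}.encard ≤ 1) ∧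
      (∃ (U : Over S) (a : (AlgSp.yon S).obj U ⟶ X.obj) (u : ↥U.left), AlgSp.IsElemEtaleNbhd a u x ∧
        {Z : Set ↥U.left | Z ∈ irreducibleComponents ↥U.left ∧ u ∈ Z}.encard = 1)) := by
    constructor
    · intro h
      exact ⟨fun U a u hE => (h U a u hE).le, U₀, a₀, u₀, h₀, h U₀ a₀ u₀ h₀⟩
    · rintro ⟨h, -⟩ U a u hE
      exact le_antisymm (h U a u hE) (hcp1 U u)
  have hC : (∀ (U : Over S) (a : (AlgSp.yon S).obj U ⟶ X.obj) (u : ↥U.left), AlgSp.IsElemEtaleNbhd a u x →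
        CAlg2.IsUnibranch ↥(U.left.presheaf.stalk u)) ↔
      ((∀ (U : Over S) (a : (AlgSp.yon S).obj U ⟶ X.obj) (u : ↥U.left), AlgSp.IsElemEtaleNbhd a u x →
        Brnch.numBranchesAt U.left u ≤ 1) ∧
      (∃ (U : Over S) (a : (AlgSp.yon S).obj U ⟶ X.obj) (u : ↥U.left), AlgSp.IsElemEtaleNbhd a u x ∧
        Brnch.numBranchesAt U.left u = 1)) := by
    constructor
    · intro h
      have h' : ∀ (U : Over S) (a : (AlgSp.yon S).obj U ⟶ X.obj) (u : ↥U.left), AlgSp.IsElemEtaleNbhd a u x →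
          Brnch.numBranchesAt U.left u = 1 := fun U a u hE =>
        (Groth.Agent.S9235.result ↥(U.left.presheaf.stalk u)).2 (h U a u hE)
      exact ⟨fun U a u hE => (h' U a u hE).le, U₀, a₀, u₀, h₀, h' U₀ a₀ u₀ h₀⟩
    · rintro ⟨h, -⟩ U a u hE
      exact (Groth.Agent.S9235.result ↥(U.left.presheaf.stalk u)).1
        (le_antisymm (h U a u hE) (hnb1 U u))
  refine ⟨?_, ?_, ?_⟩
  · constructor
    · intro h U a u hE
      rw [hcp]; exact (hasUniqueMinimalPrime_iff _).1 (h U a u hE)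
    · intro h U a u hE
      rw [hasUniqueMinimalPrime_iff, ← hcp]; exact h U a u hE
  · rw [hB, hC]; exact h23
  · rw [hC, hasUniqueMinimalPrime_iff]; exact h34

end Groth.Agent.Lib.Helper3.ElemNb
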