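import Groth.Agent.Lib.Helper3.AlgSpEtSupportRing
import Mathlib.RingTheory.Etale.StandardEtale
import Mathlib.RingTheory.RingHom.Etale
import Mathlib.Algebra.Polynomial.Lifts

set_option autoImplicit false
universe u
open CategoryTheory CategoryTheory.Limits AlgebraicGeometry Opposite
open AlgSp

namespace Groth.Agent.Lib.Helper3.EtLocRing

set_option backward.isDefEq.respectTransparency false

variable {S : Scheme.{u}} {X : Sp S}

/-- Refinement of an object of the small etale site along an etale morphism of schemes. -/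
noncomputable def refineObj (E : EtOver X) {V : Scheme.{u}} (j : V ⟶ E.obj.left.left) (hj : Etale j) :
    EtOver X :=
  EtOver.mk (U := Over.mk (j ≫ E.obj.left.hom))
    ((yon S).map (Over.homMk j rfl : Over.mk (j ≫ E.obj.left.hom) ⟶ E.obj.left) ≫ E.obj.hom)
    ((RepWith @Etale).comp_mem _ _ ((repWith_yon_map_iff _ _).2 (show Etale j from hj)) E.property)

/-- The refinement maps to the original object. -/
noncomputable def refineHom (E : EtOver X) {V : Scheme.{u}} (j : V ⟶ E.obj.left.left) (hj : Etale j) :
    refineObj E j hj ⟶ E :=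
  EtOver.homMk (Over.homMk j rfl) rfl

theorem refineObj_left (E : EtOver X) {V : Scheme.{u}} (j : V ⟶ E.obj.left.left) (hj : Etale j) :
    (refineObj E j hj).obj.left.left = V := rfl

theorem refineHom_left (E : EtOver X) {V : Scheme.{u}} (j : V ⟶ E.obj.left.left) (hj : Etale j) :
    (refineHom E j hj).hom.left.left = j := rfl

variable (p : FieldPt X)

/-- Refinement of an etale neighbourhood along an etale morphism with a lift of the point. -/
noncomputable def refineNbhd (N : EtNbhd p) {V : Scheme.{u}} (j : V ⟶ N.1.obj.left.left) (hj : Etale j)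
    (l' : Spec (CommRingCat.of p.K) ⟶ V) (hl : l' ≫ j = N.2.1.left) : EtNbhd p :=
  ⟨refineObj N.1 j hj, ⟨Over.homMk l' (by
      change l' ≫ j ≫ N.1.obj.left.hom = p.str
      rw [← Category.assoc, hl]
      exact Over.w N.2.1), by
    change (yon S).map _ ≫ (yon S).map _ ≫ N.1.obj.hom = p.toHom
    rw [← Category.assoc, ← Functor.map_comp]
    have : (Over.homMk l' (by
      change l' ≫ j ≫ N.1.obj.left.hom = p.str
      rw [← Category.assoc, hl]
      exact Over.w N.2.1) : p.pt ⟶ Over.mk (j ≫ N.1.obj.left.hom)) ≫
        (Over.homMk j rfl : Over.mk (j ≫ N.1.obj.left.hom) ⟶ N.1.obj.left) = N.2.1 := by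
      ext
      exact hl
    rw [this]
    exact N.2.2⟩⟩

/-- The refined neighbourhood maps to the original one. -/
noncomputable def refineNbhdHom (N : EtNbhd p) {V : Scheme.{u}} (j : V ⟶ N.1.obj.left.left) (hj : Etale j)
    (l' : Spec (CommRingCat.of p.K) ⟶ V) (hl : l' ≫ j = N.2.1.left) :
    refineNbhd p N j hj l' hl ⟶ N :=
  ⟨refineHom N.1 j hj, by
    apply Subtype.ext
    rw [FieldPt.liftsTo_map_coe]
    ext
    exact hl⟩

end Groth.Agent.Lib.Helper3.EtLocRing
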