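import Groth.Agent.Lib.Helper3.EtLocRingA

set_option autoImplicit false
universe u
open CategoryTheory CategoryTheory.Limits AlgebraicGeometry Opposite
open AlgSp

namespace Groth.Agent.Lib.Helper3.EtLocRing

set_option backward.isDefEq.respectTransparency false

variable {S : Scheme.{u}} {X : Sp S} (p : FieldPt X)

/-- The germ map on global functions of an etale neighbourhood. -/
noncomputable def gm (N : EtNbhd p) : Γ(N.1.obj.left.left, ⊤) →+* ↥(OEtStalk p) :=
  (stalkEtι p (OEt X) N).hom.comp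
    (RingEquiv.toRingHom (ULift.ringEquiv.symm : _ ≃+* ULift.{u + 1} Γ(N.1.obj.left.left, ⊤)))

theorem gm_apply (N : EtNbhd p) (s : Γ(N.1.obj.left.left, ⊤)) :
    gm p N s = (stalkEtι p (OEt X) N).hom (ULift.up s) := rfl

theorem gm_w {N' N : EtNbhd p} (f : N' ⟶ N) (s : Γ(N.1.obj.left.left, ⊤)) :
    gm p N' (f.1.hom.left.left.appTop.hom s) = gm p N s := by
  rw [gm_apply, gm_apply]
  have h := colimit.w (stalkEtDiagram p (OEt X)) f.op
  have h2 := congrArg (fun φ => φ.hom (ULift.up s)) h
  exact h2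

theorem gm_surj (hX : IsAlgSpace X) (hp : p.IsGeometric) (a : ↥(OEtStalk p)) :
    ∃ (N : EtNbhd p) (s : Γ(N.1.obj.left.left, ⊤)), gm p N s = a := by
  obtain ⟨N, σ, h⟩ := stalkEtι_jointly_surjective hX p hp (OEt X) a
  exact ⟨N, σ.down, h⟩

theorem gm_eq_iff (hX : IsAlgSpace X) (hp : p.IsGeometric) (N : EtNbhd p)
    (s t : Γ(N.1.obj.left.left, ⊤)) :
    gm p N s = gm p N t ↔
      ∃ (N' : EtNbhd p) (f : N' ⟶ N),
        f.1.hom.left.left.appTop.hom s = f.1.hom.left.left.appTop.hom t := by
  rw [gm_apply, gm_apply]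
  refine (stalkEtι_eq_iff hX p hp (OEt X) N (ULift.up s) (ULift.up t)).trans ?_
  constructor
  · rintro ⟨N', f, h⟩
    exact ⟨N', f, congrArg ULift.down h⟩
  · rintro ⟨N', f, h⟩
    exact ⟨N', f, congrArg ULift.up h⟩

/-- Evaluation of a function on a neighbourhood at the point. -/
noncomputable def evAt (N : EtNbhd p) : Γ(N.1.obj.left.left, ⊤) →+* p.K :=
  (Scheme.ΓSpecIso (CommRingCat.of p.K)).hom.hom.comp N.2.1.left.appTop.hom

theorem evAt_w {N' N : EtNbhd p} (f : N' ⟶ N) (s : Γ(N.1.obj.left.left, ⊤)) :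
    evAt p N' (f.1.hom.left.left.appTop.hom s) = evAt p N s := by
  have h : N'.2.1.left ≫ f.1.hom.left.left = N.2.1.left := by
    have := congrArg (fun l => l.1.left) f.2
    exact this
  unfold evAt
  rw [← h]
  rfl

/-- The cocone of evaluation maps. -/
noncomputable def evCocone : Cocone (stalkEtDiagram p (OEt X)) where
  pt := CommRingCat.of (ULift.{u + 1} p.K)
  ι :=
    { app := fun N => CommRingCat.ofHom
        ((RingEquiv.toRingHom (ULift.ringEquiv.symm : _ ≃+* ULift.{u + 1} p.K)).comp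
          ((evAt p N.unop).comp (RingEquiv.toRingHom ULift.ringEquiv)))
      naturality := by
        intro N N' f
        ext s
        apply ULift.ext
        exact evAt_w p f.unop s.down }

/-- Evaluation of germs at the point. -/
noncomputable def ev : ↥(OEtStalk p) →+* p.K :=
  (RingEquiv.toRingHom (ULift.ringEquiv : ULift.{u + 1} p.K ≃+* _)).comp
    (colimit.desc (stalkEtDiagram p (OEt X)) (evCocone p)).hom

theorem ev_gm (N : EtNbhd p) (s : Γ(N.1.obj.left.left, ⊤)) : ev p (gm p N s) = evAt p N s := by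
  rw [gm_apply]
  have h := colimit.ι_desc (evCocone p) (op N)
  have h2 := congrArg (fun φ => (φ.hom (ULift.up s)).down) h
  exact h2

end Groth.Agent.Lib.Helper3.EtLocRing
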