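import Groth.Agent.Lib.Helper3.EtLocRingB

set_option autoImplicit false
universe u
open CategoryTheory CategoryTheory.Limits AlgebraicGeometry Opposite
open AlgSp

namespace Groth.Agent.Lib.Helper3.EtLocRing

set_option backward.isDefEq.respectTransparency false

/-- A global function is a unit on its basic open. -/
theorem isUnit_appTop_ι_basicOpen {U : Scheme.{u}} (s : Γ(U, ⊤)) :
    IsUnit ((U.basicOpen s).ι.appTop.hom s) := by
  apply RingedSpace.isUnit_of_isUnit_germ (X := (U.basicOpen s).toScheme.toLocallyRingedSpace.toRingedSpace)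
  intro x hx
  have h1 : x ∈ (U.basicOpen s).toScheme.basicOpen ((U.basicOpen s).ι.appTop.hom s) := by
    rw [← Scheme.preimage_basicOpen_top, Scheme.Opens.ι_preimage_self]
    trivial
  exact (Scheme.mem_basicOpen_top (X := (U.basicOpen s).toScheme) _ x).1 h1

variable {S : Scheme.{u}} {X : Sp S} (p : FieldPt X)

theorem isUnit_of_ev_ne_zero (hX : IsAlgSpace X) (hp : p.IsGeometric) (a : ↥(OEtStalk p))
    (ha : ev p a ≠ 0) : IsUnit a := by
  obtain ⟨N, s, rfl⟩ := gm_surj p hX hp a
  rw [ev_gm] at ha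
  -- the lift of the point to the basic open
  have hunit : IsUnit (N.2.1.left.appTop.hom s) := by
    have h1 : IsUnit (evAt p N s) := isUnit_iff_ne_zero.2 ha
    have h2 : IsUnit ((Scheme.ΓSpecIso (CommRingCat.of p.K)).inv.hom (evAt p N s)) := h1.map _
    have h3 : (Scheme.ΓSpecIso (CommRingCat.of p.K)).inv.hom (evAt p N s) = N.2.1.left.appTop.hom s := by
      unfold evAt
      change ((Scheme.ΓSpecIso (CommRingCat.of p.K)).hom ≫ (Scheme.ΓSpecIso (CommRingCat.of p.K)).inv).hom _ = _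
      rw [Iso.hom_inv_id]
      rfl
    rwa [h3] at h2
  have hrange : Set.range N.2.1.left ⊆ Set.range (N.1.obj.left.left.basicOpen s).ι := by
    rw [Scheme.Opens.range_ι]
    rintro _ ⟨y, rfl⟩
    have h4 : N.2.1.left ⁻¹ᵁ (N.1.obj.left.left.basicOpen s) = ⊤ := by
      rw [Scheme.preimage_basicOpen_top]
      exact Scheme.basicOpen_of_isUnit _ hunit
    have h5 : y ∈ N.2.1.left ⁻¹ᵁ (N.1.obj.left.left.basicOpen s) := by rw [h4]; trivial
    exact h5
  let l' : Spec (CommRingCat.of p.K) ⟶ (N.1.obj.left.left.basicOpen s).toScheme :=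
    IsOpenImmersion.lift (N.1.obj.left.left.basicOpen s).ι N.2.1.left hrange
  have hl' : l' ≫ (N.1.obj.left.left.basicOpen s).ι = N.2.1.left := IsOpenImmersion.lift_fac _ _ _
  let f := refineNbhdHom p N (N.1.obj.left.left.basicOpen s).ι inferInstance l' hl'
  rw [← gm_w p f s]
  exact (isUnit_appTop_ι_basicOpen s).map (gm p _)

theorem isUnit_iff (hX : IsAlgSpace X) (hp : p.IsGeometric) (a : ↥(OEtStalk p)) :
    IsUnit a ↔ ev p a ≠ 0 :=
  ⟨fun h => (h.map (ev p)).ne_zero, isUnit_of_ev_ne_zero p hX hp a⟩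

theorem nontrivial_OEtStalk : Nontrivial ↥(OEtStalk p) :=
  ⟨⟨0, 1, fun h => by
    have := congrArg (ev p) h
    simp at this⟩⟩

theorem isLocalRing_OEtStalk (hX : IsAlgSpace X) (hp : p.IsGeometric) : IsLocalRing ↥(OEtStalk p) := by
  have := nontrivial_OEtStalk p
  exact IsLocalRing.of_nonunits_add (fun a b ha hb => by
    simp only [mem_nonunits_iff, isUnit_iff p hX hp, not_not] at ha hb ⊢
    rw [map_add, ha, hb, add_zero])

theorem mem_maximalIdeal_iff (hX : IsAlgSpace X) (hp : p.IsGeometric)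
    (hl : IsLocalRing ↥(OEtStalk p)) (a : ↥(OEtStalk p)) :
    a ∈ IsLocalRing.maximalIdeal ↥(OEtStalk p) ↔ ev p a = 0 := by
  rw [IsLocalRing.mem_maximalIdeal, mem_nonunits_iff, isUnit_iff p hX hp, not_not]

end Groth.Agent.Lib.Helper3.EtLocRing
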