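import Groth.Agent.Lib.Helper3.EtLocRingC

set_option autoImplicit false
universe u
open CategoryTheory CategoryTheory.Limits AlgebraicGeometry Opposite
open AlgSp

namespace Groth.Agent.Lib.Helper3.EtLocRing

set_option backward.isDefEq.respectTransparency false

open Polynomial in
/-- Scheme-level root extraction: a simple root at a field-valued point of a monic polynomial with
coefficients global functions becomes a root on an etale neighbourhood of the point. -/
theorem exists_etale_root {U : Scheme.{u}} {K : Type u} [Field K] (l : Spec (CommRingCat.of K) ⟶ U)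
    (fR : (Γ(U, ⊤))[X]) (hmonic : fR.Monic) (α : K)
    (h0 : (fR.map ((Scheme.ΓSpecIso (CommRingCat.of K)).hom.hom.comp l.appTop.hom)).eval α = 0)
    (h1 : (fR.map ((Scheme.ΓSpecIso (CommRingCat.of K)).hom.hom.comp l.appTop.hom)).derivative.eval α ≠ 0) :
    ∃ (V : Scheme.{u}) (j : V ⟶ U) (_ : Etale j) (l' : Spec (CommRingCat.of K) ⟶ V) (_ : l' ≫ j = l)
      (b : Γ(V, ⊤)), eval₂ j.appTop.hom b fR = 0 ∧
        (Scheme.ΓSpecIso (CommRingCat.of K)).hom.hom (l'.appTop.hom b) = α := by
  classical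
  let R : CommRingCat.{u} := Γ(U, ⊤)
  let P : StandardEtalePair R :=
    { f := fR, monic_f := hmonic, g := derivative fR, cond := ⟨1, 0, 1, by simp⟩ }
  let θ : R →+* K := (Scheme.ΓSpecIso (CommRingCat.of K)).hom.hom.comp l.appTop.hom
  let _ : Algebra R K := θ.toAlgebra
  have hmap : P.HasMap α := by
    constructor
    · change aeval α fR = 0
      rw [aeval_def, ← Polynomial.eval_map]
      exact h0
    · change IsUnit (aeval α (derivative fR))
      rw [aeval_def, ← Polynomial.eval_map]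
      change IsUnit (eval α ((derivative fR).map θ))
      rw [← derivative_map]
      exact isUnit_iff_ne_zero.2 h1
  let ρ : P.Ring →ₐ[R] K := P.lift α hmap
  let φ : R ⟶ CommRingCat.of P.Ring := CommRingCat.ofHom (algebraMap R P.Ring)
  let θ' : CommRingCat.of P.Ring ⟶ CommRingCat.of K := CommRingCat.ofHom ρ.toRingHom
  have hφ : φ ≫ θ' = CommRingCat.ofHom θ := by
    ext x
    exact ρ.commutes x
  have : Etale (Spec.map φ) := by
    rw [HasRingHomProperty.Spec_iff (P := @Etale)]
    exact RingHom.etale_algebraMap.2 inferInstance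
  let j : pullback U.toSpecΓ (Spec.map φ) ⟶ U := pullback.fst _ _
  have hj : Etale j := inferInstance
  have hcond : l ≫ U.toSpecΓ = Spec.map θ' ≫ Spec.map φ := by
    rw [Scheme.toSpecΓ_naturality, ← SpecMap_ΓSpecIso_hom, ← Spec.map_comp, ← Spec.map_comp, hφ]
    rfl
  let l' : Spec (CommRingCat.of K) ⟶ pullback U.toSpecΓ (Spec.map φ) :=
    pullback.lift l (Spec.map θ') hcond
  have hl' : l' ≫ j = l := pullback.lift_fst _ _ _
  have hl'2 : l' ≫ pullback.snd _ _ = Spec.map θ' := pullback.lift_snd _ _ _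
  let b : Γ(pullback U.toSpecΓ (Spec.map φ), ⊤) :=
    (pullback.snd U.toSpecΓ (Spec.map φ)).appTop.hom ((Scheme.ΓSpecIso (CommRingCat.of P.Ring)).inv.hom P.X)
  have hjstar : j.appTop = φ ≫ (Scheme.ΓSpecIso (CommRingCat.of P.Ring)).inv ≫
      (pullback.snd U.toSpecΓ (Spec.map φ)).appTop := by
    have hc := congrArg Scheme.Hom.appTop (pullback.condition (f := U.toSpecΓ) (g := Spec.map φ))
    rw [Scheme.Hom.comp_appTop, Scheme.Hom.comp_appTop, Scheme.toSpecΓ_appTop] at hc
    rw [← cancel_epi (Scheme.ΓSpecIso Γ(U, ⊤)).hom]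
    refine hc.trans ?_
    rw [← Category.assoc, ← Category.assoc, ← Scheme.ΓSpecIso_naturality φ, Category.assoc,
      Category.assoc, Iso.hom_inv_id_assoc]
  refine ⟨_, j, hj, l', hl', b, ?_, ?_⟩
  · have h3 : j.appTop.hom = ((Scheme.ΓSpecIso (CommRingCat.of P.Ring)).inv ≫
      (pullback.snd U.toSpecΓ (Spec.map φ)).appTop).hom.comp φ.hom := by
      rw [hjstar]; rfl
    rw [h3]
    change eval₂ _ ((((Scheme.ΓSpecIso (CommRingCat.of P.Ring)).inv ≫
      (pullback.snd U.toSpecΓ (Spec.map φ)).appTop).hom) P.X) fR = 0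
    rw [← hom_eval₂]
    have : eval₂ φ.hom P.X fR = 0 := P.hasMap_X.1
    rw [this, map_zero]
  · have h4 : (Scheme.ΓSpecIso (CommRingCat.of P.Ring)).inv ≫
        (pullback.snd U.toSpecΓ (Spec.map φ)).appTop ≫ l'.appTop ≫
          (Scheme.ΓSpecIso (CommRingCat.of K)).hom = θ' := by
      rw [← Category.assoc (pullback.snd U.toSpecΓ (Spec.map φ)).appTop, ← Scheme.Hom.comp_appTop, hl'2,
        Scheme.ΓSpecIso_naturality, Iso.inv_hom_id_assoc]
    have h5 := congrArg (fun ψ => ψ.hom P.X) h4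
    refine Eq.trans ?_ (h5.trans (P.lift_X α hmap))
    rfl

variable {S : Scheme.{u}} {X : Sp S} (p : FieldPt X)

theorem gm_comp {N' N : EtNbhd p} (f : N' ⟶ N) :
    (gm p N').comp f.1.hom.left.left.appTop.hom = gm p N :=
  RingHom.ext fun s => gm_w p f s

/-- Finitely many germs are defined on a common neighbourhood. -/
theorem exists_nbhd_finset (hX : IsAlgSpace X) (hp : p.IsGeometric) (T : Finset ↥(OEtStalk p)) :
    ∃ N : EtNbhd p, ∀ a ∈ T, ∃ s : Γ(N.1.obj.left.left, ⊤), gm p N s = a := by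
  classical
  have := isCofiltered_etNbhd hX p hp
  induction T using Finset.induction_on with
  | empty =>
    obtain ⟨N⟩ := nonempty_etNbhd hX p hp
    exact ⟨N, fun a ha => absurd ha (Finset.notMem_empty a)⟩
  | insert a T _ ih =>
    obtain ⟨N₂, hT⟩ := ih
    obtain ⟨N₁, s₁, rfl⟩ := gm_surj p hX hp a
    let M := IsCofiltered.min N₁ N₂
    let f₁ : M ⟶ N₁ := IsCofiltered.minToLeft N₁ N₂
    let f₂ : M ⟶ N₂ := IsCofiltered.minToRight N₁ N₂
    refine ⟨M, ?_⟩
    intro b hb
    rcases Finset.mem_insert.1 hb with rfl | hb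
    · exact ⟨_, gm_w p f₁ s₁⟩
    · obtain ⟨r₂, rfl⟩ := hT b hb
      exact ⟨_, gm_w p f₂ r₂⟩

open Polynomial

/-- Key lifting lemma: a simple root in `K` of the image of a monic polynomial over the etale
local ring lifts to a root in the etale local ring. -/
theorem exists_root (hX : IsAlgSpace X) (hp : p.IsGeometric) (f : (↥(OEtStalk p))[X]) (hf : f.Monic)
    (α : p.K) (h0 : (f.map (ev p)).eval α = 0) (h1 : (f.map (ev p)).derivative.eval α ≠ 0) :
    ∃ a : ↥(OEtStalk p), f.eval a = 0 ∧ ev p a = α := by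
  classical
  have := nontrivial_OEtStalk p
  obtain ⟨N, H⟩ := exists_nbhd_finset p hX hp (Finset.image f.coeff (Finset.range (f.natDegree + 1)))
  have hl : f ∈ lifts (gm p N) := by
    rw [lifts_iff_coeff_lifts]
    intro n
    by_cases hn : n < f.natDegree + 1
    · obtain ⟨r, hr⟩ := H (f.coeff n) (Finset.mem_image_of_mem _ (Finset.mem_range.2 hn))
      exact ⟨r, hr⟩
    · refine ⟨0, ?_⟩
      rw [map_zero, coeff_eq_zero_of_natDegree_lt (by omega)]
  obtain ⟨fR, hfR, -, hmonic⟩ := lifts_and_degree_eq_and_monic hl hf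
  have hθγ : evAt p N = (ev p).comp (gm p N) := RingHom.ext fun s => (ev_gm p N s).symm
  have hmapf : fR.map (evAt p N) = f.map (ev p) := by
    rw [hθγ, ← Polynomial.map_map, hfR]
  obtain ⟨V, j, hj, l', hl', b, hb0, hbα⟩ := exists_etale_root (K := p.K) N.2.1.left fR hmonic α
    (by change (fR.map (evAt p N)).eval α = 0; rw [hmapf]; exact h0)
    (by change (fR.map (evAt p N)).derivative.eval α ≠ 0; rw [hmapf]; exact h1)
  let N' := refineNbhd p N j hj l' hl'
  let g : N' ⟶ N := refineNbhdHom p N j hj l' hl'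
  refine ⟨gm p N' b, ?_, ?_⟩
  · rw [← hfR, ← gm_comp p g]
    change eval _ (fR.map ((gm p N').comp j.appTop.hom)) = 0
    rw [Polynomial.eval_map, ← Polynomial.hom_eval₂, hb0, map_zero]
  · rw [ev_gm]
    exact hbα

end Groth.Agent.Lib.Helper3.EtLocRing
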