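import Groth.Agent.Lib.Helper3.EtLocRingD
import Groth.Prelude.Def_EtBase

set_option autoImplicit false
universe u
open CategoryTheory CategoryTheory.Limits AlgebraicGeometry Opposite
open AlgSp

namespace Groth.Agent.Lib.Helper3.EtLocRing

set_option backward.isDefEq.respectTransparency false

variable {S : Scheme.{u}} {X : Sp S} (p : FieldPt X)

open Polynomial

theorem henselian_OEtStalk (hX : IsAlgSpace X) (hp : p.IsGeometric) :
    HenselianLocalRing ↥(OEtStalk p) := by
  have hloc := isLocalRing_OEtStalk p hX hp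
  refine { toIsLocalRing := hloc, is_henselian := ?_ }
  intro f hf a₀ h0 h1
  have h0' : (f.map (ev p)).eval (ev p a₀) = 0 := by
    rw [Polynomial.eval_map, eval₂_at_apply]
    exact (mem_maximalIdeal_iff p hX hp hloc _).1 h0
  have h1' : (f.map (ev p)).derivative.eval (ev p a₀) ≠ 0 := by
    rw [derivative_map, Polynomial.eval_map, eval₂_at_apply]
    exact (isUnit_iff p hX hp _).1 h1
  obtain ⟨a, ha, hα⟩ := exists_root p hX hp f hf (ev p a₀) h0' h1'
  refine ⟨a, ha, (mem_maximalIdeal_iff p hX hp hloc _).2 ?_⟩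
  rw [map_sub, hα, sub_self]

theorem isLocalHom_ev (hX : IsAlgSpace X) (hp : p.IsGeometric) : IsLocalHom (ev p) :=
  ⟨fun a ha => (isUnit_iff p hX hp a).2 ha.ne_zero⟩

theorem isSepClosed_residueField (hX : IsAlgSpace X) (hp : p.IsGeometric)
    (hloc : IsLocalRing ↥(OEtStalk p)) :
    IsSepClosed (IsLocalRing.ResidueField ↥(OEtStalk p)) := by
  have hK : IsAlgClosed p.K := hp
  have := isLocalHom_ev p hX hp
  let k := IsLocalRing.ResidueField ↥(OEtStalk p)
  let evb : k →+* p.K := IsLocalRing.ResidueField.lift (ev p)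
  have hev : ev p = evb.comp (IsLocalRing.residue _) := RingHom.ext fun _ => rfl
  apply IsSepClosed.of_exists_root
  intro q hq hirr hsep
  obtain ⟨q', hq'⟩ := Polynomial.map_surjective (IsLocalRing.residue ↥(OEtStalk p))
    IsLocalRing.residue_surjective q
  obtain ⟨f, hfp, -, hfm⟩ := lifts_and_degree_eq_and_monic ((mem_lifts q).2 ⟨q', hq'⟩) hq
  have hmap : f.map (ev p) = q.map evb := by
    rw [hev, ← Polynomial.map_map, hfp]
  have hsep' : (q.map evb).Separable := hsep.map
  have hdeg : (q.map evb).degree ≠ 0 := by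
    rw [degree_map]
    exact (degree_pos_of_irreducible hirr).ne'
  obtain ⟨α, hα⟩ := IsSepClosed.exists_root (q.map evb) hdeg hsep'
  have hα0 : (q.map evb).eval α = 0 := hα
  have hα1 : (q.map evb).derivative.eval α ≠ 0 := by
    have := hsep'.eval₂_derivative_ne_zero (RingHom.id p.K) (x := α) (by simpa using hα0)
    simpa using this
  obtain ⟨a, ha, -⟩ := exists_root p hX hp f hfm α (by rw [hmap]; exact hα0) (by rw [hmap]; exact hα1)
  refine ⟨IsLocalRing.residue _ a, ?_⟩
  rw [← hfp, Polynomial.eval_map, eval₂_at_apply, ha, map_zero]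

/-- **S10223.** -/
theorem main10223 (X : AlgSp.Space S) (p : AlgSp.FieldPt X.obj) (hp : p.IsGeometric) :
    IsLocalRing ↥(AlgSp.OEtStalk p) ∧ EtCoh.IsStrictlyHenselianLocalRing ↥(AlgSp.OEtStalk p) := by
  have hX : IsAlgSpace X.obj := X.property
  exact ⟨isLocalRing_OEtStalk p hX hp, henselian_OEtStalk p hX hp,
    isSepClosed_residueField p hX hp _⟩

end Groth.Agent.Lib.Helper3.EtLocRing
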