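import Groth.Agent.Lib.Helper3.EtLocRingE
import Mathlib.RingTheory.Flat.EquationalCriterion
import Mathlib.AlgebraicGeometry.Morphisms.Flat

set_option autoImplicit false
universe u
open CategoryTheory CategoryTheory.Limits AlgebraicGeometry Opposite
open AlgSp

namespace Groth.Agent.Lib.Helper3.EtLocRing

set_option backward.isDefEq.respectTransparency false

variable {S : Scheme.{u}} {X : Sp S} (p : FieldPt X)

/-- Every etale neighbourhood has an affine refinement. -/
theorem exists_affine_refine (N : EtNbhd p) :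
    ∃ (N' : EtNbhd p) (_ : N' ⟶ N), IsAffine N'.1.obj.left.left := by
  let U := N.1.obj.left.left
  let u : U := N.2.1.left (IsLocalRing.closedPoint p.K)
  obtain ⟨W₀, hWa₀, huW₀, -⟩ := TopologicalSpace.Opens.isBasis_iff_nbhd.mp (U.isBasis_affineOpens)
    (U := ⊤) (x := u) trivial
  let W' : U.Opens := W₀
  have hWa : IsAffineOpen W' := hWa₀
  have huW : u ∈ W' := huW₀
  have hrange : Set.range N.2.1.left ⊆ Set.range W'.ι := by
    rw [Scheme.Opens.range_ι]
    rintro _ ⟨y, rfl⟩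
    have hy : y = IsLocalRing.closedPoint p.K :=
      @Subsingleton.elim (Spec (CommRingCat.of p.K)) inferInstance y _
    rw [hy]
    exact huW
  let l' : Spec (CommRingCat.of p.K) ⟶ W'.toScheme := IsOpenImmersion.lift W'.ι N.2.1.left hrange
  have hl' : l' ≫ W'.ι = N.2.1.left := IsOpenImmersion.lift_fac _ _ _
  exact ⟨refineNbhd p N W'.ι inferInstance l' hl', refineNbhdHom p N W'.ι inferInstance l' hl', hWa⟩

/-- Finitely many germs are defined on a common affine neighbourhood over a given one. -/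
theorem exists_affine_nbhd_finset_over (hX : IsAlgSpace X) (hp : p.IsGeometric) (N : EtNbhd p)
    {ι : Type*} [Finite ι] (x : ι → ↥(OEtStalk p)) :
    ∃ (N' : EtNbhd p) (_ : N' ⟶ N), IsAffine N'.1.obj.left.left ∧
      ∀ i, ∃ s : Γ(N'.1.obj.left.left, ⊤), gm p N' s = x i := by
  classical
  have := isCofiltered_etNbhd hX p hp
  have := Fintype.ofFinite ι
  obtain ⟨N₁, h₁⟩ := exists_nbhd_finset p hX hp (Finset.univ.image x)
  let M := IsCofiltered.min N N₁
  obtain ⟨N', g, hN'⟩ := exists_affine_refine p M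
  refine ⟨N', g ≫ IsCofiltered.minToLeft N N₁, hN', fun i => ?_⟩
  obtain ⟨s, hs⟩ := h₁ (x i) (Finset.mem_image_of_mem _ (Finset.mem_univ i))
  exact ⟨_, (gm_w p (g ≫ IsCofiltered.minToRight N N₁) s).trans hs⟩

/-- The etale local ring is flat over the functions on an affine etale neighbourhood. -/
theorem flat_gm (hX : IsAlgSpace X) (hp : p.IsGeometric) (N : EtNbhd p)
    [IsAffine N.1.obj.left.left] : (gm p N).Flat := by
  classical
  let _ : Algebra Γ(N.1.obj.left.left, ⊤) ↥(OEtStalk p) := (gm p N).toAlgebra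
  change Module.Flat Γ(N.1.obj.left.left, ⊤) ↥(OEtStalk p)
  apply Module.Flat.of_forall_isTrivialRelation
  intro l f x hx
  have hsm : ∀ (a : Γ(N.1.obj.left.left, ⊤)) (r : ↥(OEtStalk p)), a • r = gm p N a * r :=
    fun a r => rfl
  obtain ⟨N₁, g₁, hN₁, h₁⟩ := exists_affine_nbhd_finset_over p hX hp N x
  choose y hy using h₁
  -- the relation holds on a smaller neighbourhood
  have hrel : gm p N₁ (∑ i, g₁.1.hom.left.left.appTop.hom (f i) * y i) = gm p N₁ 0 := by
    rw [map_sum, map_zero, ← hx]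
    refine Finset.sum_congr rfl fun i _ => ?_
    rw [map_mul, gm_w p g₁, hy, hsm]
  obtain ⟨N₂, g₂, h₂⟩ := (gm_eq_iff p hX hp N₁ _ _).1 hrel
  obtain ⟨N₃, g₃, hN₃⟩ := exists_affine_refine p N₂
  let j := (g₃ ≫ g₂ ≫ g₁).1.hom.left.left
  have hjet : Etale j := EtOver.etale_left (g₃ ≫ g₂ ≫ g₁).1
  have hjfl : j.appTop.hom.Flat := Scheme.Hom.flat_appTop j
  let _ : Algebra Γ(N.1.obj.left.left, ⊤) Γ(N₃.1.obj.left.left, ⊤) := j.appTop.hom.toAlgebra
  have hfl : Module.Flat Γ(N.1.obj.left.left, ⊤) Γ(N₃.1.obj.left.left, ⊤) := hjfl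
  let y' : Fin l → Γ(N₃.1.obj.left.left, ⊤) := fun i => (g₃ ≫ g₂).1.hom.left.left.appTop.hom (y i)
  have hy' : ∀ i, gm p N₃ (y' i) = x i := fun i => (gm_w p (g₃ ≫ g₂) (y i)).trans (hy i)
  have hrel3 : ∑ i, f i • y' i = 0 := by
    have h3 := congrArg g₃.1.hom.left.left.appTop.hom h₂
    rw [map_zero, map_zero] at h3
    rw [← h3]
    change ∑ i, j.appTop.hom (f i) * y' i = _
    rw [map_sum, map_sum]
    refine Finset.sum_congr rfl fun i _ => ?_
    rw [map_mul, map_mul]
    rfl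
  obtain ⟨n, a, z, hz1, hz2⟩ := Module.Flat.isTrivialRelation_of_sum_smul_eq_zero
    (R := Γ(N.1.obj.left.left, ⊤)) (M := Γ(N₃.1.obj.left.left, ⊤)) (f := f) (x := y') hrel3
  refine ⟨n, a, fun m => gm p N₃ (z m), fun i => ?_, hz2⟩
  rw [← hy' i, hz1 i, map_sum]
  refine Finset.sum_congr rfl fun m _ => ?_
  rw [hsm]
  change gm p N₃ (j.appTop.hom (a i m) * z m) = _
  rw [map_mul, gm_w p (g₃ ≫ g₂ ≫ g₁)]

end Groth.Agent.Lib.Helper3.EtLocRing
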