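import Groth.Agent.Lib.Helper3.EtLocRingF

set_option autoImplicit false
universe u
open CategoryTheory CategoryTheory.Limits AlgebraicGeometry Opposite
open AlgSp

namespace Groth.Agent.Lib.Helper3.EtLocRing

set_option backward.isDefEq.respectTransparency false

variable {S : Scheme.{u}} {X : Sp S} (p : FieldPt X)

/-- The point of an etale neighbourhood. -/
noncomputable def npt (N : EtNbhd p) : ↥N.1.obj.left.left :=
  N.2.1.left (IsLocalRing.closedPoint p.K)

theorem isUnit_appTop_iff (N : EtNbhd p) (s : Γ(N.1.obj.left.left, ⊤)) :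
    IsUnit (N.2.1.left.appTop.hom s) ↔ evAt p N s ≠ 0 := by
  constructor
  · intro h
    exact (h.map (Scheme.ΓSpecIso (CommRingCat.of p.K)).hom.hom).ne_zero
  · intro ha
    have h1 : IsUnit (evAt p N s) := isUnit_iff_ne_zero.2 ha
    have h2 : IsUnit ((Scheme.ΓSpecIso (CommRingCat.of p.K)).inv.hom (evAt p N s)) := h1.map _
    have h3 : (Scheme.ΓSpecIso (CommRingCat.of p.K)).inv.hom (evAt p N s) = N.2.1.left.appTop.hom s := by
      unfold evAt
      change ((Scheme.ΓSpecIso (CommRingCat.of p.K)).hom ≫ (Scheme.ΓSpecIso (CommRingCat.of p.K)).inv).hom _ = _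
      rw [Iso.hom_inv_id]
      rfl
    rwa [h3] at h2

theorem evAt_ne_zero_iff (N : EtNbhd p) (s : Γ(N.1.obj.left.left, ⊤)) :
    evAt p N s ≠ 0 ↔ npt p N ∈ N.1.obj.left.left.basicOpen s := by
  rw [← isUnit_appTop_iff]
  have hpre : (N.2.1.left ⁻¹ᵁ (N.1.obj.left.left.basicOpen s)) =
      (Spec (CommRingCat.of p.K)).basicOpen (N.2.1.left.appTop.hom s) :=
    Scheme.preimage_basicOpen_top _ _
  constructor
  · intro h
    have h4 : N.2.1.left ⁻¹ᵁ (N.1.obj.left.left.basicOpen s) = ⊤ := by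
      rw [hpre]
      exact Scheme.basicOpen_of_isUnit _ h
    have h5 : IsLocalRing.closedPoint p.K ∈ N.2.1.left ⁻¹ᵁ (N.1.obj.left.left.basicOpen s) := by
      rw [h4]; trivial
    exact h5
  · intro h
    have h5 : IsLocalRing.closedPoint p.K ∈ N.2.1.left ⁻¹ᵁ (N.1.obj.left.left.basicOpen s) := h
    rw [hpre] at h5
    by_contra hnu
    have hz : evAt p N s = 0 := by
      by_contra hne
      exact hnu ((isUnit_appTop_iff p N s).2 hne)
    have hz' : N.2.1.left.appTop.hom s = 0 := by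
      have h6 : (Scheme.ΓSpecIso (CommRingCat.of p.K)).hom.hom (N.2.1.left.appTop.hom s) = 0 := hz
      have h7 := congrArg (Scheme.ΓSpecIso (CommRingCat.of p.K)).inv.hom h6
      rw [map_zero] at h7
      rw [← h7]
      change _ = ((Scheme.ΓSpecIso (CommRingCat.of p.K)).hom ≫ (Scheme.ΓSpecIso (CommRingCat.of p.K)).inv).hom _
      rw [Iso.hom_inv_id]
      rfl
    rw [hz', Scheme.basicOpen_zero] at h5
    exact h5

theorem evAt_eq_zero_iff (N : EtNbhd p) (s : Γ(N.1.obj.left.left, ⊤)) :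
    evAt p N s = 0 ↔
      (N.1.obj.left.left.presheaf.germ ⊤ (npt p N) trivial).hom s ∈
        IsLocalRing.maximalIdeal (N.1.obj.left.left.presheaf.stalk (npt p N)) := by
  rw [IsLocalRing.mem_maximalIdeal, mem_nonunits_iff, ← Scheme.mem_basicOpen_top, ← evAt_ne_zero_iff,
    not_not]

end Groth.Agent.Lib.Helper3.EtLocRing
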