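import Groth.Agent.Lib.Helper3.EtLocRingG
import Mathlib.RingTheory.Flat.Localization
import Mathlib.RingTheory.Flat.FaithfullyFlat.Algebra

set_option autoImplicit false
universe u
open CategoryTheory CategoryTheory.Limits AlgebraicGeometry Opposite
open AlgSp

namespace Groth.Agent.Lib.Helper3.EtLocRing

set_option backward.isDefEq.respectTransparency false

variable {S : Scheme.{u}} {X : Sp S} (p : FieldPt X)

/-- The local ring of an etale neighbourhood at its point. -/
noncomputable abbrev stk (N : EtNbhd p) : CommRingCat.{u} := N.1.obj.left.left.presheaf.stalk (npt p N)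

/-- The germ map at the point of the neighbourhood. -/
noncomputable def germHom (N : EtNbhd p) : Γ(N.1.obj.left.left, ⊤) →+* stk p N :=
  (N.1.obj.left.left.presheaf.germ ⊤ (npt p N) trivial).hom

/-- The prime ideal of the point of an affine neighbourhood. -/
noncomputable def nprime (N : EtNbhd p) [IsAffine N.1.obj.left.left] :
    PrimeSpectrum Γ(N.1.obj.left.left, ⊤) :=
  (isAffineOpen_top N.1.obj.left.left).primeIdealOf ⟨npt p N, trivial⟩

theorem mem_nprime_iff (N : EtNbhd p) [IsAffine N.1.obj.left.left] (s : Γ(N.1.obj.left.left, ⊤)) :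
    s ∈ (nprime p N).asIdeal ↔ evAt p N s = 0 := by
  rw [evAt_eq_zero_iff]
  unfold nprime
  rw [IsAffineOpen.primeIdealOf_eq_map_closedPoint]
  rfl

theorem isLocalization_stk (N : EtNbhd p) [IsAffine N.1.obj.left.left] :
    @IsLocalization.AtPrime Γ(N.1.obj.left.left, ⊤) _ (stk p N) _ (germHom p N).toAlgebra
      (nprime p N).asIdeal _ :=
  (isAffineOpen_top N.1.obj.left.left).isLocalization_stalk ⟨npt p N, trivial⟩

theorem isUnit_gm_of_notMem (hX : IsAlgSpace X) (hp : p.IsGeometric) (N : EtNbhd p)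
    [IsAffine N.1.obj.left.left] (y : (nprime p N).asIdeal.primeCompl) : IsUnit (gm p N y) := by
  rw [isUnit_iff p hX hp, ev_gm]
  intro h
  exact y.2 ((mem_nprime_iff p N y).2 h)

/-- The comparison map from the local ring of an affine etale neighbourhood to the etale local
ring. -/
noncomputable def cmp (hX : IsAlgSpace X) (hp : p.IsGeometric) (N : EtNbhd p)
    [IsAffine N.1.obj.left.left] : stk p N →+* ↥(OEtStalk p) :=
  letI := (germHom p N).toAlgebra
  haveI := isLocalization_stk p N
  IsLocalization.lift (M := (nprime p N).asIdeal.primeCompl) (S := stk p N) (g := gm p N)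
    (isUnit_gm_of_notMem p hX hp N)

theorem cmp_germ (hX : IsAlgSpace X) (hp : p.IsGeometric) (N : EtNbhd p)
    [IsAffine N.1.obj.left.left] (s : Γ(N.1.obj.left.left, ⊤)) :
    cmp p hX hp N (germHom p N s) = gm p N s := by
  letI := (germHom p N).toAlgebra
  haveI := isLocalization_stk p N
  exact IsLocalization.lift_eq (M := (nprime p N).asIdeal.primeCompl) (S := stk p N)
    (isUnit_gm_of_notMem p hX hp N) s

theorem cmp_comp_germ (hX : IsAlgSpace X) (hp : p.IsGeometric) (N : EtNbhd p)
    [IsAffine N.1.obj.left.left] : (cmp p hX hp N).comp (germHom p N) = gm p N :=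
  RingHom.ext fun s => cmp_germ p hX hp N s

theorem exists_germ_div (N : EtNbhd p) [IsAffine N.1.obj.left.left] (x : stk p N) :
    ∃ (a b : Γ(N.1.obj.left.left, ⊤)), evAt p N b ≠ 0 ∧ x * germHom p N b = germHom p N a := by
  letI := (germHom p N).toAlgebra
  haveI := isLocalization_stk p N
  obtain ⟨a, b, rfl⟩ := IsLocalization.exists_mk'_eq (nprime p N).asIdeal.primeCompl x
  refine ⟨a, b, fun h => b.2 ((mem_nprime_iff p N b).2 h), ?_⟩
  exact IsLocalization.mk'_spec _ a b

theorem isUnit_germHom_iff (N : EtNbhd p) (s : Γ(N.1.obj.left.left, ⊤)) :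
    IsUnit (germHom p N s) ↔ evAt p N s ≠ 0 := by
  rw [evAt_ne_zero_iff, Scheme.mem_basicOpen_top]
  rfl

theorem isLocalHom_cmp (hX : IsAlgSpace X) (hp : p.IsGeometric) (N : EtNbhd p)
    [IsAffine N.1.obj.left.left] : IsLocalHom (cmp p hX hp N) := by
  constructor
  intro x hx
  obtain ⟨a, b, hb, hab⟩ := exists_germ_div p N x
  have hbu : IsUnit (germHom p N b) := (isUnit_germHom_iff p N b).2 hb
  have h1 : IsUnit (cmp p hX hp N (x * germHom p N b)) := by
    rw [map_mul]
    exact hx.mul (hbu.map _)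
  rw [hab, cmp_germ, isUnit_iff p hX hp, ev_gm] at h1
  have hau : IsUnit (germHom p N a) := (isUnit_germHom_iff p N a).2 h1
  rw [← hab] at hau
  exact isUnit_of_mul_isUnit_left hau

theorem flat_cmp (hX : IsAlgSpace X) (hp : p.IsGeometric) (N : EtNbhd p)
    [IsAffine N.1.obj.left.left] : (cmp p hX hp N).Flat := by
  letI := (germHom p N).toAlgebra
  haveI := isLocalization_stk p N
  letI : Algebra Γ(N.1.obj.left.left, ⊤) ↥(OEtStalk p) := (gm p N).toAlgebra
  letI : Algebra (stk p N) ↥(OEtStalk p) := (cmp p hX hp N).toAlgebra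
  haveI : IsScalarTower Γ(N.1.obj.left.left, ⊤) (stk p N) ↥(OEtStalk p) :=
    IsScalarTower.of_algebraMap_eq fun s => (cmp_germ p hX hp N s).symm
  have hfl : Module.Flat Γ(N.1.obj.left.left, ⊤) ↥(OEtStalk p) := flat_gm p hX hp N
  change Module.Flat (stk p N) ↥(OEtStalk p)
  exact (Module.flat_iff_of_isLocalization (stk p N) (nprime p N).asIdeal.primeCompl
    ↥(OEtStalk p)).2 hfl

theorem injective_cmp (hX : IsAlgSpace X) (hp : p.IsGeometric) (N : EtNbhd p)
    [IsAffine N.1.obj.left.left] : Function.Injective (cmp p hX hp N) := by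
  haveI := isLocalRing_OEtStalk p hX hp
  letI : Algebra (stk p N) ↥(OEtStalk p) := (cmp p hX hp N).toAlgebra
  haveI : Module.Flat (stk p N) ↥(OEtStalk p) := flat_cmp p hX hp N
  haveI : IsLocalHom (algebraMap (stk p N) ↥(OEtStalk p)) := isLocalHom_cmp p hX hp N
  haveI : Module.FaithfullyFlat (stk p N) ↥(OEtStalk p) := Module.FaithfullyFlat.of_flat_of_isLocalHom
  exact FaithfulSMul.algebraMap_injective (stk p N) ↥(OEtStalk p)

end Groth.Agent.Lib.Helper3.EtLocRing
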