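import Mathlib
import Groth.Agent.Lib.Helper3.ReducedDescent
import Groth.Agent.Lib.Helper3.AlgSpChartSurj
import Groth.Prelude.Def_FDesc
set_option autoImplicit false
universe u
open CategoryTheory CategoryTheory.Limits AlgebraicGeometry TopologicalSpace

namespace Groth.Agent.Lib.Helper3.GeomInt

open Groth.Agent.Lib.Helper3

/-- `Spec O_{X,x} → X` is flat. -/
theorem flat_fromSpecStalk (X : Scheme.{u}) (x : X) : Flat (X.fromSpecStalk x) := by
  obtain ⟨U, hU, hxU, -⟩ :=
    TopologicalSpace.Opens.isBasis_iff_nbhd.mp X.isBasis_affineOpens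
      (show x ∈ (⊤ : X.Opens) from trivial)
  rw [← hU.fromSpecStalk_eq_fromSpecStalk hxU]
  dsimp [IsAffineOpen.fromSpecStalk]
  have : Flat (Spec.map (X.presheaf.germ U x hxU)) := by
    rw [Flat.SpecMap_iff]
    letI : Algebra Γ(X, U) (X.presheaf.stalk x) := (X.presheaf.germ U x hxU).hom.toAlgebra
    haveI := hU.isLocalization_stalk ⟨x, hxU⟩
    show (algebraMap Γ(X, U) (X.presheaf.stalk x)).Flat
    rw [RingHom.flat_algebraMap_iff]
    exact IsLocalization.flat (X.presheaf.stalk x) (hU.primeIdealOf ⟨x, hxU⟩).asIdeal.primeCompl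
  infer_instance

/-- Reducedness of a stalk descends along a flat morphism. -/
theorem isReduced_stalk_of_flat {A B : Scheme.{u}} (g : A ⟶ B) [Flat g] (a : A)
    (h : _root_.IsReduced (A.presheaf.stalk a)) : _root_.IsReduced (B.presheaf.stalk (g a)) := by
  have h2 : (g.stalkMap a).hom.Flat := Flat.stalkMap g a
  have h3 : (g.stalkMap a).hom.FaithfullyFlat := by
    algebraize [(g.stalkMap a).hom]
    have : IsLocalHom (algebraMap (B.presheaf.stalk (g a)) (A.presheaf.stalk a)) := by
      rw [RingHom.algebraMap_toAlgebra]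
      infer_instance
    exact Module.FaithfullyFlat.of_flat_of_isLocalHom
  exact isReduced_of_injective (g.stalkMap a).hom h3.injective

/-- Reducedness of a stalk ascends along an etale morphism. -/
theorem isReduced_stalk_of_etale {A B : Scheme.{u}} (g : A ⟶ B) [Etale g] (a : A)
    (h : _root_.IsReduced (B.presheaf.stalk (g a))) : _root_.IsReduced (A.presheaf.stalk a) := by
  set b := g a with hb
  let T : Scheme.{u} := Spec (B.presheaf.stalk b)
  let j : T ⟶ B := B.fromSpecStalk b
  haveI : Flat j := flat_fromSpecStalk B b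
  haveI : IsReduced T := by
    change IsReduced (Spec (B.presheaf.stalk b))
    infer_instance
  haveI : IsReduced (pullback g j) := isReduced_of_etale_scheme (pullback.snd g j)
  obtain ⟨τ, hτ, -⟩ := Scheme.Pullback.exists_preimage_pullback (f := g) (g := j) a
    (IsLocalRing.closedPoint (B.presheaf.stalk b)) (by
      rw [← hb]
      exact (Scheme.fromSpecStalk_closedPoint (X := B) (x := b)).symm)
  have h1 : _root_.IsReduced ((pullback g j).presheaf.stalk τ) := inferInstance
  have h2 := isReduced_stalk_of_flat (pullback.fst g j) τ h1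
  rwa [hτ] at h2

end Groth.Agent.Lib.Helper3.GeomInt

namespace Groth.Agent.Lib.Helper3.GeomInt

open Groth.Agent.Lib.Helper3

variable {k : Type u} [Field k]

/-- The base change of a morphism of `k`-schemes to a field extension. -/
noncomputable def bcMap {W U : Scheme.{u}} (φ : W ⟶ U) (f : U ⟶ Spec (CommRingCat.of k))
    (K : Type u) [Field K] [Algebra k K] : FBase.bc (φ ≫ f) K ⟶ FBase.bc f K :=
  pullback.map (φ ≫ f) (Spec.map (CommRingCat.ofHom (algebraMap k K))) f
    (Spec.map (CommRingCat.ofHom (algebraMap k K))) φ (𝟙 (Spec (CommRingCat.of K)))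
    (𝟙 (Spec (CommRingCat.of k))) (by rw [Category.comp_id]) (by rw [Category.comp_id, Category.id_comp])

theorem isPullback_bcMap {W U : Scheme.{u}} (φ : W ⟶ U) (f : U ⟶ Spec (CommRingCat.of k))
    (K : Type u) [Field K] [Algebra k K] :
    IsPullback (bcMap φ f K) (FBase.bcπ (φ ≫ f) K) (FBase.bcπ f K) φ := by
  refine IsPullback.of_right ?_ (pullback.lift_fst _ _ _) (IsPullback.of_hasPullback f
    (Spec.map (CommRingCat.ofHom (algebraMap k K)))).flip
  have h1 : bcMap φ f K ≫ pullback.snd f (Spec.map (CommRingCat.ofHom (algebraMap k K))) =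
      pullback.snd (φ ≫ f) (Spec.map (CommRingCat.ofHom (algebraMap k K))) :=
    (pullback.lift_snd _ _ _).trans (Category.comp_id _)
  rw [h1]
  exact (IsPullback.of_hasPullback (φ ≫ f)
    (Spec.map (CommRingCat.ofHom (algebraMap k K)))).flip

/-- Geometric reducedness at a point transfers along etale morphisms of `k`-schemes. -/
theorem isGeomReducedAt_iff_of_etale {W U : Scheme.{u}} (φ : W ⟶ U) [Etale φ]
    (f : U ⟶ Spec (CommRingCat.of k)) (w : W) :
    FBase.IsGeomReducedAt (φ ≫ f) w ↔ FBase.IsGeomReducedAt f (φ w) := by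
  have het : ∀ (K : Type u) [Field K] [Algebra k K], Etale (bcMap φ f K) := by
    intro K _ _
    exact MorphismProperty.of_isPullback (P := @Etale) (isPullback_bcMap φ f K).flip inferInstance
  constructor
  · intro h K _ _ x' hx'
    obtain ⟨w', hw'1, hw'2⟩ := Scheme.exists_preimage_of_isPullback (isPullback_bcMap φ f K) x' w hx'
    haveI := het K
    have h1 : _root_.IsReduced ((FBase.bc (φ ≫ f) K).presheaf.stalk w') := h K w' hw'2
    have h2 := isReduced_stalk_of_flat (bcMap φ f K) w' h1
    rwa [hw'1] at h2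
  · intro h K _ _ w' hw'
    haveI := het K
    refine isReduced_stalk_of_etale (bcMap φ f K) w' ?_
    refine h K _ ?_
    have := congrArg (fun m => m.base w') (isPullback_bcMap φ f K).w
    simp only [Scheme.Hom.comp_base, TopCat.hom_comp, ContinuousMap.comp_apply] at this
    rw [this, hw']

end Groth.Agent.Lib.Helper3.GeomInt
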