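import Groth.Agent.Lib.Helper3.EtLocRingH
import Groth.Agent.Lib.Helper3.GeomInt1
import Groth.Agent.Lib.Helper3.AlgSpEtaleDim

set_option autoImplicit false
universe u
open CategoryTheory CategoryTheory.Limits AlgebraicGeometry Opposite
open AlgSp

namespace Groth.Agent.Lib.Helper3.EtLocRing

set_option backward.isDefEq.respectTransparency false

variable {S : Scheme.{u}}

/-- Reducedness of the local ring does not depend on the etale chart through a point. -/
theorem isReduced_stalk_of_ofPt_eq {X : Sp S} {U U' : Over S} (a : (yon S).obj U ⟶ X)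
    (a' : (yon S).obj U' ⟶ X) (ha : RepWith @Etale a) (ha' : RepWith @Etale a') (u : ↥U.left)
    (u' : ↥U'.left) (h : Points.ofPt a u = Points.ofPt a' u')
    (hr : _root_.IsReduced (U.left.presheaf.stalk u)) :
    _root_.IsReduced (U'.left.presheaf.stalk u') := by
  obtain ⟨W, pU, pU', sq⟩ := exists_pullback_charts a ha.1 a'
  obtain ⟨w, rfl, rfl⟩ := exists_of_ofPt_eq_of_isPullback sq u u' h
  have h1 : Etale pU.left := ha'.2 a ((yon S).map pU') pU sq.flip
  have h2 : Etale pU'.left := ha.2 a' ((yon S).map pU) pU' sq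
  have h3 : _root_.IsReduced (W.left.presheaf.stalk w) := GeomInt.isReduced_stalk_of_etale pU.left w hr
  exact GeomInt.isReduced_stalk_of_flat pU'.left w h3

variable {X : Sp S} (p : FieldPt X)

/-- The point of a neighbourhood lies over the point. -/
theorem ofPt_npt (N : EtNbhd p) : Points.ofPt N.1.obj.hom (npt p N) = Points.mk p :=
  ofPt_liftsTo p N.2 _

/-- There is an affine etale neighbourhood. -/
theorem exists_affine_nbhd (hX : IsAlgSpace X) (hp : p.IsGeometric) :
    ∃ N : EtNbhd p, IsAffine N.1.obj.left.left := by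
  obtain ⟨N⟩ := nonempty_etNbhd hX p hp
  obtain ⟨N', -, h⟩ := exists_affine_refine p N
  exact ⟨N', h⟩

/-- Every germ is the image of an element of the local ring of an affine neighbourhood. -/
theorem exists_cmp_eq (hX : IsAlgSpace X) (hp : p.IsGeometric) (x : ↥(OEtStalk p)) :
    ∃ (N : EtNbhd p) (_ : IsAffine N.1.obj.left.left) (y : stk p N), cmp p hX hp N y = x := by
  obtain ⟨N₀⟩ := nonempty_etNbhd hX p hp
  obtain ⟨N, -, hN, h⟩ := exists_affine_nbhd_finset_over p hX hp N₀ (fun _ : Unit => x)
  obtain ⟨s, hs⟩ := h ()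
  exact ⟨N, hN, germHom p N s, (cmp_germ p hX hp N s).trans hs⟩

theorem isReduced_OEtStalk_iff (hX : IsAlgSpace X) (hp : p.IsGeometric) (N : EtNbhd p)
    [IsAffine N.1.obj.left.left] :
    _root_.IsReduced ↥(OEtStalk p) ↔ _root_.IsReduced (stk p N) := by
  constructor
  · intro h
    exact isReduced_of_injective (cmp p hX hp N) (injective_cmp p hX hp N)
  · intro h
    constructor
    intro x hx
    obtain ⟨N', hN', y, rfl⟩ := exists_cmp_eq p hX hp x
    have hred : _root_.IsReduced (stk p N') :=
      isReduced_stalk_of_ofPt_eq N.1.obj.hom N'.1.obj.hom N.1.property N'.1.property (npt p N)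
        (npt p N') ((ofPt_npt p N).trans (ofPt_npt p N').symm) h
    have hy : IsNilpotent y := by
      obtain ⟨n, hn⟩ := hx
      refine ⟨n, injective_cmp p hX hp N' ?_⟩
      rw [map_pow, hn, map_zero]
    rw [hred.eq_zero y hy, map_zero]

/-- **S10225.** -/
theorem main10225 (X : AlgSp.Space S) (p : AlgSp.FieldPt X.obj) (hp : p.IsGeometric) :
    AlgSp.HasAt (fun U u => _root_.IsReduced ↥(U.presheaf.stalk u)) X.obj (AlgSp.Points.mk p) ↔
      _root_.IsReduced ↥(AlgSp.OEtStalk p) := by
  have hX : IsAlgSpace X.obj := X.property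
  obtain ⟨N, hN⟩ := exists_affine_nbhd p hX hp
  rw [isReduced_OEtStalk_iff p hX hp N]
  constructor
  · rintro ⟨U, a, u, ha, hu, hr⟩
    exact isReduced_stalk_of_ofPt_eq a N.1.obj.hom ha N.1.property u (npt p N)
      (hu.trans (ofPt_npt p N).symm) hr
  · intro h
    exact ⟨N.1.obj.left, N.1.obj.hom, npt p N, N.1.property, ofPt_npt p N, h⟩

end Groth.Agent.Lib.Helper3.EtLocRing
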