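import Groth.Agent.Lib.Helper3.EtLocRingI

set_option autoImplicit false
universe u
open CategoryTheory CategoryTheory.Limits AlgebraicGeometry Opposite
open AlgSp

namespace Groth.Agent.Lib.Helper3.EtLocRing

set_option backward.isDefEq.respectTransparency false

variable {S : Scheme.{u}} {X : Sp S} (p : FieldPt X)

theorem ringKrullDim_stk_le (hX : IsAlgSpace X) (hp : p.IsGeometric) (N : EtNbhd p)
    [IsAffine N.1.obj.left.left] : ringKrullDim (stk p N) ≤ ringKrullDim ↥(OEtStalk p) := by
  haveI := isLocalRing_OEtStalk p hX hp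
  letI : Algebra (stk p N) ↥(OEtStalk p) := (cmp p hX hp N).toAlgebra
  haveI : Module.Flat (stk p N) ↥(OEtStalk p) := flat_cmp p hX hp N
  haveI hloc : IsLocalHom (algebraMap (stk p N) ↥(OEtStalk p)) := isLocalHom_cmp p hX hp N
  have h1 := height_under_le_height_of_hasGoingDown (R := stk p N)
    (IsLocalRing.maximalIdeal ↥(OEtStalk p))
  have h2 : (IsLocalRing.maximalIdeal ↥(OEtStalk p)).under (stk p N) =
      IsLocalRing.maximalIdeal (stk p N) :=
    IsLocalRing.maximalIdeal_comap _
  rw [h2] at h1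
  rw [← IsLocalRing.maximalIdeal_height_eq_ringKrullDim,
    ← IsLocalRing.maximalIdeal_height_eq_ringKrullDim]
  exact_mod_cast h1

theorem ringKrullDim_stk_eq_of_affine (N N' : EtNbhd p) :
    ringKrullDim (stk p N') = ringKrullDim (stk p N) :=
  ringKrullDim_stalk_eq_of_ofPt_eq N'.1.obj.hom N.1.obj.hom N'.1.property N.1.property (npt p N')
    (npt p N) ((ofPt_npt p N').trans (ofPt_npt p N).symm)

theorem ringKrullDim_OEtStalk_le (hX : IsAlgSpace X) (hp : p.IsGeometric) (N : EtNbhd p) :
    ringKrullDim ↥(OEtStalk p) ≤ ringKrullDim (stk p N) := by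
  unfold ringKrullDim Order.krullDim
  apply iSup_le
  intro P
  -- choose separating elements
  have hsep : ∀ i : Fin P.length, ∃ x : ↥(OEtStalk p),
      x ∈ (P i.succ).asIdeal ∧ x ∉ (P i.castSucc).asIdeal := by
    intro i
    have hlt : (P i.castSucc).asIdeal < (P i.succ).asIdeal := P.step i
    obtain ⟨x, hx1, hx2⟩ := SetLike.exists_of_lt hlt
    exact ⟨x, hx1, hx2⟩
  choose x hx1 hx2 using hsep
  obtain ⟨N', -, hN', h⟩ := exists_affine_nbhd_finset_over p hX hp N x
  choose s hs using h
  let Q : Fin (P.length + 1) → PrimeSpectrum (stk p N') := fun k =>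
    PrimeSpectrum.comap (cmp p hX hp N') (P k)
  have hQmono : Monotone Q := by
    intro k k' hk
    exact Ideal.comap_mono (P.strictMono.monotone hk)
  let L : LTSeries (PrimeSpectrum (stk p N')) :=
    { length := P.length
      toFun := Q
      step := fun i => by
        refine lt_of_le_of_ne (hQmono (Fin.castSucc_le_succ i)) fun heq => ?_
        have hmem : germHom p N' (s i) ∈ (Q i.succ).asIdeal := by
          change cmp p hX hp N' (germHom p N' (s i)) ∈ (P i.succ).asIdeal
          rw [cmp_germ, hs]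
          exact hx1 i
        rw [← heq] at hmem
        have hmem' : cmp p hX hp N' (germHom p N' (s i)) ∈ (P i.castSucc).asIdeal := hmem
        rw [cmp_germ, hs] at hmem'
        exact hx2 i hmem' }
  have hL : (L.length : WithBot ℕ∞) ≤ ringKrullDim (stk p N') := Order.LTSeries.length_le_krullDim L
  rw [ringKrullDim_stk_eq_of_affine p N N'] at hL
  exact hL

theorem ringKrullDim_OEtStalk_eq (hX : IsAlgSpace X) (hp : p.IsGeometric) (N : EtNbhd p)
    [IsAffine N.1.obj.left.left] : ringKrullDim ↥(OEtStalk p) = ringKrullDim (stk p N) :=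
  le_antisymm (ringKrullDim_OEtStalk_le p hX hp N) (ringKrullDim_stk_le p hX hp N)

/-- **S10224.** -/
theorem main10224 (X : AlgSp.Space S) (p : AlgSp.FieldPt X.obj) (hp : p.IsGeometric) (d : ℕ∞) :
    AlgSp.HasAt (fun U u => ringKrullDim ↥(U.presheaf.stalk u) = (d : WithBot ℕ∞)) X.obj
        (AlgSp.Points.mk p) ↔
      ringKrullDim ↥(AlgSp.OEtStalk p) = (d : WithBot ℕ∞) := by
  have hX : IsAlgSpace X.obj := X.property
  obtain ⟨N, hN⟩ := exists_affine_nbhd p hX hp
  rw [ringKrullDim_OEtStalk_eq p hX hp N]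
  constructor
  · rintro ⟨U, a, u, ha, hu, hr⟩
    rw [← hr]
    exact ringKrullDim_stalk_eq_of_ofPt_eq N.1.obj.hom a N.1.property ha (npt p N) u
      ((ofPt_npt p N).trans hu.symm)
  · intro h
    exact ⟨N.1.obj.left, N.1.obj.hom, npt p N, N.1.property, ofPt_npt p N, h⟩

end Groth.Agent.Lib.Helper3.EtLocRing
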