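import Mathlib.RingTheory.Ideal.GoingDown
import Mathlib.RingTheory.Ideal.MinimalPrime.Basic
import Mathlib.RingTheory.Flat.FaithfullyFlat.Algebra
import Mathlib.Data.Set.Card

set_option autoImplicit false

namespace Groth.Agent.Lib.Helper3.EtLocRing

variable {A B : Type*} [CommRing A] [CommRing B] [Algebra A B]

/-- With going-down, minimal primes contract to minimal primes. -/
theorem under_mem_minimalPrimes [Algebra.HasGoingDown A B] {Q : Ideal B}
    (hQ : Q ∈ minimalPrimes B) : Q.under A ∈ minimalPrimes A := by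
  have hQp : Q.IsPrime := hQ.1.1
  refine ⟨⟨inferInstance, bot_le⟩, ?_⟩
  rintro P ⟨hP, -⟩ hle
  have : Q.LiesOver (Q.under A) := ⟨rfl⟩
  obtain ⟨Q', hQ'le, hQ'p, hQ'lo⟩ := Ideal.exists_ideal_le_liesOver_of_le (p := P) (q := Q.under A) Q hle
  have hQ'Q : Q ≤ Q' := hQ.2 ⟨hQ'p, bot_le⟩ hQ'le
  have : Q' = Q := le_antisymm hQ'le hQ'Q
  rw [hQ'lo.over, this]

/-- Over a faithfully flat algebra, every minimal prime is the contraction of a minimal prime. -/
theorem minimalPrimes_subset_image [Module.FaithfullyFlat A B] :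
    minimalPrimes A ⊆ (Ideal.comap (algebraMap A B)) '' minimalPrimes B := by
  intro P hP
  have hPp : P.IsPrime := hP.1.1
  obtain ⟨Q₀, hQ₀⟩ := PrimeSpectrum.comap_surjective_of_faithfullyFlat (A := A) (B := B) ⟨P, hPp⟩
  obtain ⟨Q, hQ, hQle⟩ := Ideal.exists_minimalPrimes_le (I := (⊥ : Ideal B)) (J := Q₀.asIdeal) bot_le
  refine ⟨Q, hQ, ?_⟩
  have hQm : Q.under A ∈ minimalPrimes A := under_mem_minimalPrimes hQ
  have hle : Q.under A ≤ P := by
    have h1 : Q.under A ≤ Q₀.asIdeal.under A := Ideal.comap_mono hQle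
    have h2 : Q₀.asIdeal.under A = P := congrArg PrimeSpectrum.asIdeal hQ₀
    rwa [h2] at h1
  exact le_antisymm hle (hP.2 ⟨hQm.1.1, bot_le⟩ hle)

theorem encard_minimalPrimes_le_of_faithfullyFlat [Module.FaithfullyFlat A B] :
    (minimalPrimes A).encard ≤ (minimalPrimes B).encard :=
  (Set.encard_le_encard minimalPrimes_subset_image).trans (Set.encard_image_le _ _)

end Groth.Agent.Lib.Helper3.EtLocRing
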