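import Groth.Agent.Lib.Helper3.EtLocRingJ
import Groth.Agent.Lib.Helper3.EtLocRingK
import Groth.Agent.Lib.Helper3.AlgSpGeomLift

set_option autoImplicit false
universe u
open CategoryTheory CategoryTheory.Limits AlgebraicGeometry Opposite
open AlgSp

namespace Groth.Agent.Lib.Helper3.EtLocRing

set_option backward.isDefEq.respectTransparency false

/-- Along a flat morphism the number of minimal primes of the local ring does not drop. -/
theorem encard_minimalPrimes_stalk_le_of_flat {A B : Scheme.{u}} (g : A ⟶ B) [Flat g] (a : A) :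
    (minimalPrimes (B.presheaf.stalk (g a))).encard ≤ (minimalPrimes (A.presheaf.stalk a)).encard := by
  have h2 : (g.stalkMap a).hom.Flat := Flat.stalkMap g a
  algebraize [(g.stalkMap a).hom]
  have : IsLocalHom (algebraMap (B.presheaf.stalk (g a)) (A.presheaf.stalk a)) := by
    rw [RingHom.algebraMap_toAlgebra]
    infer_instance
  have : Module.FaithfullyFlat (B.presheaf.stalk (g a)) (A.presheaf.stalk a) :=
    Module.FaithfullyFlat.of_flat_of_isLocalHom
  exact encard_minimalPrimes_le_of_faithfullyFlat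

variable {S : Scheme.{u}}

/-- Two chart points over the same point have a common etale refinement with at least as many
minimal primes. -/
theorem exists_common_refinement {X : Sp S} {U U' : Over S} (a : (yon S).obj U ⟶ X)
    (a' : (yon S).obj U' ⟶ X) (ha : RepWith @Etale a) (ha' : RepWith @Etale a') (u : ↥U.left)
    (u' : ↥U'.left) (h : Points.ofPt a u = Points.ofPt a' u') :
    ∃ (W : Over S) (pU : W ⟶ U) (pU' : W ⟶ U') (w : ↥W.left), Etale pU.left ∧ Etale pU'.left ∧
      (yon S).map pU ≫ a = (yon S).map pU' ≫ a' ∧ pU.left w = u ∧ pU'.left w = u' := by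
  obtain ⟨W, pU, pU', sq⟩ := exists_pullback_charts a ha.1 a'
  obtain ⟨w, h1, h2⟩ := exists_of_ofPt_eq_of_isPullback sq u u' h
  exact ⟨W, pU, pU', w, ha'.2 a ((yon S).map pU') pU sq.flip, ha.2 a' ((yon S).map pU) pU' sq,
    sq.w, h1, h2⟩

variable {X : Sp S} (p : FieldPt X)

theorem encard_minimalPrimes_stk_le (hX : IsAlgSpace X) (hp : p.IsGeometric) (N : EtNbhd p)
    [IsAffine N.1.obj.left.left] :
    (minimalPrimes (stk p N)).encard ≤ (minimalPrimes ↥(OEtStalk p)).encard := by
  haveI := isLocalRing_OEtStalk p hX hp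
  letI : Algebra (stk p N) ↥(OEtStalk p) := (cmp p hX hp N).toAlgebra
  haveI : Module.Flat (stk p N) ↥(OEtStalk p) := flat_cmp p hX hp N
  haveI : IsLocalHom (algebraMap (stk p N) ↥(OEtStalk p)) := isLocalHom_cmp p hX hp N
  haveI : Module.FaithfullyFlat (stk p N) ↥(OEtStalk p) := Module.FaithfullyFlat.of_flat_of_isLocalHom
  exact encard_minimalPrimes_le_of_faithfullyFlat

/-- Finitely many distinct minimal primes of the etale local ring are separated on an affine
neighbourhood. -/
theorem exists_affine_nbhd_le_encard_minimalPrimes (hX : IsAlgSpace X) (hp : p.IsGeometric)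
    (k : ℕ) (hk : (k : ℕ∞) ≤ (minimalPrimes ↥(OEtStalk p)).encard) :
    ∃ (N : EtNbhd p) (_ : IsAffine N.1.obj.left.left), (k : ℕ∞) ≤ (minimalPrimes (stk p N)).encard := by
  classical
  obtain ⟨T, hTsub, hTcard⟩ := Set.exists_subset_encard_eq hk
  have hTfin : T.Finite := Set.finite_of_encard_eq_coe hTcard
  have := hTfin.fintype
  -- separating elements
  have hsep : ∀ ij : {ij : T × T // ij.1 ≠ ij.2}, ∃ x : ↥(OEtStalk p),
      x ∈ ij.1.1.1 ∧ x ∉ ij.1.2.1 := by
    rintro ⟨⟨P, Q⟩, hPQ⟩
    by_contra hcon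
    push Not at hcon
    have hle : P.1 ≤ Q.1 := fun x hx => hcon x hx
    have hQm := hTsub Q.2
    have hPm := hTsub P.2
    have : Q.1 ≤ P.1 := hQm.2 ⟨hPm.1.1, bot_le⟩ hle
    exact hPQ (Subtype.ext (le_antisymm hle this))
  choose x hx1 hx2 using hsep
  obtain ⟨N₀⟩ := nonempty_etNbhd hX p hp
  obtain ⟨N, -, hN, h⟩ := exists_affine_nbhd_finset_over p hX hp N₀ x
  choose s hs using h
  refine ⟨N, hN, ?_⟩
  haveI := isLocalRing_OEtStalk p hX hp
  letI : Algebra (stk p N) ↥(OEtStalk p) := (cmp p hX hp N).toAlgebra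
  haveI : Module.Flat (stk p N) ↥(OEtStalk p) := flat_cmp p hX hp N
  let f : T → Ideal (stk p N) := fun P => P.1.under (stk p N)
  have hfmem : ∀ P : T, f P ∈ minimalPrimes (stk p N) := fun P =>
    under_mem_minimalPrimes (hTsub P.2)
  have hfinj : Function.Injective f := by
    intro P Q hPQ
    by_contra hne
    have h1 : germHom p N (s ⟨(P, Q), hne⟩) ∈ f P := by
      change cmp p hX hp N (germHom p N (s ⟨(P, Q), hne⟩)) ∈ P.1
      rw [cmp_germ, hs]
      exact hx1 ⟨(P, Q), hne⟩
    rw [hPQ] at h1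
    have h2 : cmp p hX hp N (germHom p N (s ⟨(P, Q), hne⟩)) ∈ Q.1 := h1
    rw [cmp_germ, hs] at h2
    exact hx2 ⟨(P, Q), hne⟩ h2
  have hsub : Set.range f ⊆ minimalPrimes (stk p N) := by
    rintro _ ⟨P, rfl⟩
    exact hfmem P
  calc (k : ℕ∞) = T.encard := hTcard.symm
    _ = (Set.range f).encard := by
        rw [← Set.image_univ, hfinj.encard_image, Set.encard_univ]
        rfl
    _ ≤ _ := Set.encard_le_encard hsub

end Groth.Agent.Lib.Helper3.EtLocRing
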