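import Groth.Agent.Lib.Helper3.EtLocRingL
import Groth.Agent.Lib.Helper3.AlgSpHasAtMor
import Groth.Agent.S9753
import Groth.Agent.Lib.Helper22.BrCountTop

set_option autoImplicit false
universe u
open CategoryTheory CategoryTheory.Limits AlgebraicGeometry Opposite
open AlgSp

namespace Groth.Agent.Lib.Helper3.EtLocRing

set_option backward.isDefEq.respectTransparency false

/-- The number of geometric branches as a supremum of numbers of minimal primes over etale
neighbourhoods. -/
theorem numGeomBranchesAt_eq_iSup (U : Scheme.{u}) (u : U) :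
    Brnch.numGeomBranchesAt U u = ⨆ (V : Scheme.{u}) (g : V ⟶ U) (v : V) (_ : Etale g ∧ g v = u),
      (minimalPrimes (V.presheaf.stalk v)).encard := by
  rw [Groth.Agent.S9753.result U u]
  congr 1
  funext V
  congr 1
  funext g
  congr 1
  funext v
  congr 1
  funext _
  exact Groth.Agent.Lib.Helper22.BrCountTop.encard_components_eq V v

variable {S : Scheme.{u}} {X : Sp S}

/-- An upper bound for minimal primes on all chart points bounds the number of geometric
branches. -/
theorem numGeomBranchesAt_le_of_forall {x : Points X} {U : Over S} (a : (yon S).obj U ⟶ X)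
    (ha : RepWith @Etale a) (u : ↥U.left) (hu : Points.ofPt a u = x) (n : ℕ∞)
    (hbound : ∀ (V : Over S) (b : (yon S).obj V ⟶ X) (v : ↥V.left), RepWith @Etale b →
      Points.ofPt b v = x → (minimalPrimes (V.left.presheaf.stalk v)).encard ≤ n) :
    Brnch.numGeomBranchesAt U.left u ≤ n := by
  rw [numGeomBranchesAt_eq_iSup]
  refine iSup_le fun V => iSup_le fun g => iSup_le fun v => iSup_le fun hnb => ?_
  obtain ⟨het, hgv⟩ := hnb
  refine hbound (Over.mk (g ≫ U.hom))
    ((yon S).map (Over.homMk g rfl : Over.mk (g ≫ U.hom) ⟶ U) ≫ a) v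
    ((RepWith @Etale).comp_mem _ _ ((repWith_yon_map_iff _ _).2 (show Etale g from het)) ha) ?_
  rw [Points.ofPt_yon_map_comp]
  change Points.ofPt a (g v) = x
  rw [hgv, hu]

/-- The number of minimal primes at any chart point over `x` is at most the number of geometric
branches at any other chart point over `x`. -/
theorem encard_minimalPrimes_le_numGeomBranchesAt {x : Points X} {U U₀ : Over S}
    (a : (yon S).obj U ⟶ X) (ha : RepWith @Etale a) (u : ↥U.left) (hu : Points.ofPt a u = x)
    (a₀ : (yon S).obj U₀ ⟶ X) (ha₀ : RepWith @Etale a₀) (u₀ : ↥U₀.left)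
    (hu₀ : Points.ofPt a₀ u₀ = x) :
    (minimalPrimes (U₀.left.presheaf.stalk u₀)).encard ≤ Brnch.numGeomBranchesAt U.left u := by
  obtain ⟨W, pU, pU₀, w, h1, h2, -, rfl, rfl⟩ :=
    exists_common_refinement a a₀ ha ha₀ u u₀ (hu.trans hu₀.symm)
  rw [numGeomBranchesAt_eq_iSup]
  refine (encard_minimalPrimes_stalk_le_of_flat pU₀.left w).trans ?_
  exact le_iSup_of_le W.left (le_iSup_of_le pU.left (le_iSup_of_le w
    (le_iSup_of_le ⟨h1, rfl⟩ le_rfl)))

variable (p : FieldPt X)

/-- A geometric point lifts to any chart point over it, through the given point. -/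
theorem exists_liftsTo_through (hX : IsAlgSpace X) (hp : p.IsGeometric) {U : Over S}
    (a : (yon S).obj U ⟶ X) (ha : RepWith @Etale a) (u : ↥U.left)
    (hu : Points.ofPt a u = Points.mk p) :
    ∃ l : (FieldPt.liftsTo p).obj (EtOver.mk a ha), l.1.left (IsLocalRing.closedPoint p.K) = u := by
  obtain ⟨ubar, h1, h2⟩ := exists_lift_geometric_point (IsAlgSpace.yon_obj U) hX a
    (isEtaleMor_of_repWith _ ha) p hp (Points.ofPt (𝟙 _) u) (by
      rw [Points.map_ofPt, Category.id_comp, hu])
  obtain ⟨ū, rfl⟩ := (yon S).map_surjective ubar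
  refine ⟨⟨ū, h1⟩, ?_⟩
  have h3 : Points.ofPt ((yon S).map ū ≫ 𝟙 _) (IsLocalRing.closedPoint p.K) =
      Points.ofPt (𝟙 ((yon S).obj U)) u := by
    rw [Category.comp_id]; exact h2
  rw [Points.ofPt_yon_map_comp] at h3
  have hinj : Function.Injective (Points.ofPt (𝟙 ((yon S).obj U))) := by
    intro y y' hyy'
    have := congrArg (Points.toScheme U) hyy'
    rw [← (yon S).map_id, Points.toScheme_ofPt, Points.toScheme_ofPt] at this
    exact this
  exact hinj h3

/-- The number of minimal primes at a chart point is at most that of the etale local ring. -/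
theorem encard_minimalPrimes_le_OEtStalk (hX : IsAlgSpace X) (hp : p.IsGeometric) {U : Over S}
    (a : (yon S).obj U ⟶ X) (ha : RepWith @Etale a) (u : ↥U.left)
    (hu : Points.ofPt a u = Points.mk p) :
    (minimalPrimes (U.left.presheaf.stalk u)).encard ≤ (minimalPrimes ↥(OEtStalk p)).encard := by
  obtain ⟨l, rfl⟩ := exists_liftsTo_through p hX hp a ha u hu
  let N : EtNbhd p := ⟨EtOver.mk a ha, l⟩
  obtain ⟨N', g, hN'⟩ := exists_affine_refine p N
  have hg : g.1.hom.left.left (npt p N') = npt p N := by
    have := congrArg (fun l => l.1.left (IsLocalRing.closedPoint p.K)) g.2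
    exact this
  have hfl : Flat g.1.hom.left.left := by
    have : Etale g.1.hom.left.left := EtOver.etale_left g.1
    infer_instance
  have h1 := encard_minimalPrimes_stalk_le_of_flat g.1.hom.left.left (npt p N')
  rw [hg] at h1
  exact h1.trans (encard_minimalPrimes_stk_le p hX hp N')

end Groth.Agent.Lib.Helper3.EtLocRing
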