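import Groth.Agent.Lib.Helper3.EtLocRingM

set_option autoImplicit false
universe u
open CategoryTheory CategoryTheory.Limits AlgebraicGeometry Opposite
open AlgSp

namespace Groth.Agent.Lib.Helper3.EtLocRing

set_option backward.isDefEq.respectTransparency false

variable {S : Scheme.{u}}

/-- statement (1) of S10239 -/
def CondA (X : AlgSp.Space S) (x : AlgSp.Points X.obj) (n : ℕ) : Prop :=
  (∀ (U : Over S) (a : (AlgSp.yon S).obj U ⟶ X.obj) (u : ↥U.left),
      AlgSp.RepWith @Etale a → AlgSp.Points.ofPt a u = x →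
        (minimalPrimes ↥(U.left.presheaf.stalk u)).encard ≤ n) ∧
    AlgSp.HasAt (fun U u => (minimalPrimes ↥(U.presheaf.stalk u)).encard = n) X.obj x

/-- statement (4) of S10239 -/
def CondB (X : AlgSp.Space S) (x : AlgSp.Points X.obj) (n : ℕ) : Prop :=
  ∀ (U : Over S) (a : (AlgSp.yon S).obj U ⟶ X.obj) (u : ↥U.left),
    AlgSp.RepWith @Etale a → AlgSp.Points.ofPt a u = x → Brnch.numGeomBranchesAt U.left u = n

/-- statement (5) of S10239 -/
def CondC (X : AlgSp.Space S) (x : AlgSp.Points X.obj) (n : ℕ) : Prop :=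
  ∀ p : AlgSp.FieldPt X.obj, p.IsGeometric → AlgSp.Points.mk p = x →
    (minimalPrimes ↥(AlgSp.OEtStalk p)).encard = n

theorem condB_of_condA (X : AlgSp.Space S) (x : AlgSp.Points X.obj) (n : ℕ)
    (h : CondA X x n) : CondB X x n := by
  obtain ⟨hle, U₀, a₀, u₀, ha₀, hu₀, hn₀⟩ := h
  intro U a u ha hu
  apply le_antisymm
  · exact numGeomBranchesAt_le_of_forall a ha u hu n hle
  · rw [← hn₀]
    exact encard_minimalPrimes_le_numGeomBranchesAt a ha u hu a₀ ha₀ u₀ hu₀

theorem condA_of_condB (X : AlgSp.Space S) (x : AlgSp.Points X.obj) (n : ℕ) (hn : 1 ≤ n)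
    (h : CondB X x n) : CondA X x n := by
  have hX : IsAlgSpace X.obj := X.property
  have hle : ∀ (U : Over S) (a : (AlgSp.yon S).obj U ⟶ X.obj) (u : ↥U.left),
      AlgSp.RepWith @Etale a → AlgSp.Points.ofPt a u = x →
        (minimalPrimes ↥(U.left.presheaf.stalk u)).encard ≤ n := by
    intro U a u ha hu
    rw [← h U a u ha hu]
    exact encard_minimalPrimes_le_numGeomBranchesAt a ha u hu a ha u hu
  refine ⟨hle, ?_⟩
  obtain ⟨U, a, hae, has⟩ := hX.atlas
  obtain ⟨u, hu⟩ := exists_ofPt_eq a has x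
  have hB := h U a u hae hu
  rw [numGeomBranchesAt_eq_iSup] at hB
  by_contra hcon
  obtain ⟨m, rfl⟩ : ∃ m, n = m + 1 := ⟨n - 1, by omega⟩
  have hall : ∀ (V : Scheme.{u}) (g : V ⟶ U.left) (v : V) (_ : Etale g ∧ g v = u),
      (minimalPrimes (V.presheaf.stalk v)).encard ≤ (m : ℕ∞) := by
    intro V g v hnb
    obtain ⟨het, hgv⟩ := hnb
    have hb : RepWith @Etale ((yon S).map (Over.homMk g rfl : Over.mk (g ≫ U.hom) ⟶ U) ≫ a) :=
      (RepWith @Etale).comp_mem _ _ ((repWith_yon_map_iff _ _).2 (show Etale g from het)) hae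
    have hv : Points.ofPt ((yon S).map (Over.homMk g rfl : Over.mk (g ≫ U.hom) ⟶ U) ≫ a) v = x := by
      rw [Points.ofPt_yon_map_comp]
      change Points.ofPt a (g v) = x
      rw [hgv, hu]
    have h1 := hle (Over.mk (g ≫ U.hom)) _ v hb hv
    have h2 : (minimalPrimes ((Over.mk (g ≫ U.hom)).left.presheaf.stalk v)).encard ≠ ((m + 1 : ℕ) : ℕ∞) := by
      intro heq
      exact hcon ⟨Over.mk (g ≫ U.hom), _, v, hb, hv, heq⟩
    have h3 := lt_of_le_of_ne h1 h2
    change (minimalPrimes (V.presheaf.stalk v)).encard < ((m + 1 : ℕ) : ℕ∞) at h3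
    rw [Nat.cast_add, Nat.cast_one] at h3
    exact Order.le_of_lt_add_one h3
  have hsup : (⨆ (V : Scheme.{u}) (g : V ⟶ U.left) (v : V) (_ : Etale g ∧ g v = u),
      (minimalPrimes (V.presheaf.stalk v)).encard) ≤ (m : ℕ∞) :=
    iSup_le fun V => iSup_le fun g => iSup_le fun v => iSup_le fun hnb => hall V g v hnb
  rw [hB] at hsup
  have : ((m + 1 : ℕ) : ℕ∞) ≤ (m : ℕ∞) := hsup
  rw [Nat.cast_le] at this
  omega

theorem condC_of_condB (X : AlgSp.Space S) (x : AlgSp.Points X.obj) (n : ℕ) (hn : 1 ≤ n)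
    (h : CondB X x n) : CondC X x n := by
  have hX : IsAlgSpace X.obj := X.property
  obtain ⟨hle, U₀, a₀, u₀, ha₀, hu₀, hn₀⟩ := condA_of_condB X x n hn h
  intro p hp hpx
  subst hpx
  apply le_antisymm
  · by_contra hcon
    rw [not_le] at hcon
    have h1 : ((n + 1 : ℕ) : ℕ∞) ≤ (minimalPrimes ↥(AlgSp.OEtStalk p)).encard := by
      rw [Nat.cast_add, Nat.cast_one]
      exact Order.add_one_le_of_lt hcon
    obtain ⟨N, hN, h2⟩ := exists_affine_nbhd_le_encard_minimalPrimes p hX hp (n + 1) h1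
    have h3 := hle N.1.obj.left N.1.obj.hom (npt p N) N.1.property (ofPt_npt p N)
    have h4 := h2.trans h3
    rw [Nat.cast_le] at h4
    omega
  · rw [← hn₀]
    exact encard_minimalPrimes_le_OEtStalk p hX hp a₀ ha₀ u₀ hu₀

theorem condB_of_condC (X : AlgSp.Space S) (x : AlgSp.Points X.obj) (n : ℕ)
    (h : CondC X x n) : CondB X x n := by
  have hX : IsAlgSpace X.obj := X.property
  obtain ⟨p, hp, rfl⟩ := exists_geometric_mk_eq hX x
  have hC := h p hp rfl
  intro U a u ha hu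
  apply le_antisymm
  · refine numGeomBranchesAt_le_of_forall a ha u hu n ?_
    intro V b v hb hv
    rw [← hC]
    exact encard_minimalPrimes_le_OEtStalk p hX hp b hb v hv
  · obtain ⟨N, hN, h2⟩ := exists_affine_nbhd_le_encard_minimalPrimes p hX hp n hC.ge
    exact h2.trans (encard_minimalPrimes_le_numGeomBranchesAt a ha u hu N.1.obj.hom N.1.property
      (npt p N) (ofPt_npt p N))

/-- **S10239.** -/
theorem main10239 (X : AlgSp.Space S) (x : AlgSp.Points X.obj) (n : ℕ) (hn : 1 ≤ n) :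
    (((∀ (U : Over S) (a : (AlgSp.yon S).obj U ⟶ X.obj) (u : ↥U.left),
        AlgSp.RepWith @Etale a → AlgSp.Points.ofPt a u = x → (minimalPrimes ↥(U.left.presheaf.stalk u)).encard ≤ n) ∧
        AlgSp.HasAt (fun U u => (minimalPrimes ↥(U.presheaf.stalk u)).encard = n) X.obj x) ↔
      (∀ (U : Over S) (a : (AlgSp.yon S).obj U ⟶ X.obj) (u : ↥U.left),
        AlgSp.RepWith @Etale a → AlgSp.Points.ofPt a u = x → Brnch.numGeomBranchesAt U.left u = n)) ∧
    ((∀ (U : Over S) (a : (AlgSp.yon S).obj U ⟶ X.obj) (u : ↥U.left),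
        AlgSp.RepWith @Etale a → AlgSp.Points.ofPt a u = x → Brnch.numGeomBranchesAt U.left u = n) ↔
      ∀ p : AlgSp.FieldPt X.obj, p.IsGeometric → AlgSp.Points.mk p = x →
        (minimalPrimes ↥(AlgSp.OEtStalk p)).encard = n) :=
  ⟨⟨condB_of_condA X x n, condA_of_condB X x n hn⟩, ⟨condC_of_condB X x n hn, condB_of_condC X x n⟩⟩

end Groth.Agent.Lib.Helper3.EtLocRing
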