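import Groth.Agent.Lib.Helper3.EtLocRingN
import Groth.Agent.S9236
import Groth.Prelude.Def_CAlgX
import Groth.Prelude.Def_CAlg2

set_option autoImplicit false
universe u
open CategoryTheory CategoryTheory.Limits AlgebraicGeometry Opposite
open AlgSp

namespace Groth.Agent.Lib.Helper3.EtLocRing

set_option backward.isDefEq.respectTransparency false

theorem hasUniqueMinimalPrime_iff_encard {A : Type*} [CommRing A] :
    (∃! 𝔭 : Ideal A, 𝔭 ∈ minimalPrimes A) ↔ (minimalPrimes A).encard = 1 := by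
  rw [Set.encard_eq_one]
  constructor
  · rintro ⟨P, hP, huniq⟩
    refine ⟨P, Set.eq_singleton_iff_unique_mem.2 ⟨hP, fun Q hQ => huniq Q hQ⟩⟩
  · rintro ⟨P, hP⟩
    refine ⟨P, by rw [hP]; rfl, fun Q hQ => ?_⟩
    rw [hP] at hQ
    exact hQ

theorem one_le_encard_minimalPrimes {A : Type*} [CommRing A] [Nontrivial A] :
    1 ≤ (minimalPrimes A).encard := by
  rw [Set.one_le_encard_iff_nonempty]
  exact Set.nonempty_coe_sort.1 (Ideal.nonempty_minimalPrimes (I := (⊥ : Ideal A)) bot_ne_top)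

variable {S : Scheme.{u}}

/-- **S10227.** -/
theorem main10227 (X : AlgSp.Space S) (x : AlgSp.Points X.obj) :
    ((∀ (U : Over S) (a : (AlgSp.yon S).obj U ⟶ X.obj) (u : ↥U.left),
        AlgSp.RepWith @Etale a → AlgSp.Points.ofPt a u = x → CAlgX.HasUniqueMinimalPrime ↥(U.left.presheaf.stalk u)) ↔
      (∀ (U : Over S) (a : (AlgSp.yon S).obj U ⟶ X.obj) (u : ↥U.left),
        AlgSp.RepWith @Etale a → AlgSp.Points.ofPt a u = x → CAlg2.IsGeomUnibranch ↥(U.left.presheaf.stalk u))) ∧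
    ((∀ (U : Over S) (a : (AlgSp.yon S).obj U ⟶ X.obj) (u : ↥U.left),
        AlgSp.RepWith @Etale a → AlgSp.Points.ofPt a u = x → CAlgX.HasUniqueMinimalPrime ↥(U.left.presheaf.stalk u)) ↔
      ∀ p : AlgSp.FieldPt X.obj, p.IsGeometric → AlgSp.Points.mk p = x →
        CAlgX.HasUniqueMinimalPrime ↥(AlgSp.OEtStalk p)) := by
  have hX : IsAlgSpace X.obj := X.property
  obtain ⟨hAB, hBC⟩ := main10239 X x 1 le_rfl
  have ha : (∀ (U : Over S) (a : (AlgSp.yon S).obj U ⟶ X.obj) (u : ↥U.left),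
      AlgSp.RepWith @Etale a → AlgSp.Points.ofPt a u = x →
        CAlgX.HasUniqueMinimalPrime ↥(U.left.presheaf.stalk u)) ↔ CondA X x 1 := by
    constructor
    · intro h
      refine ⟨fun U a u hae hu => ?_, ?_⟩
      · have := hasUniqueMinimalPrime_iff_encard.1 (h U a u hae hu)
        rw [this]; rfl
      · obtain ⟨U, a, hae, has⟩ := hX.atlas
        obtain ⟨u, hu⟩ := exists_ofPt_eq a has x
        exact ⟨U, a, u, hae, hu, hasUniqueMinimalPrime_iff_encard.1 (h U a u hae hu)⟩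
    · rintro ⟨hle, -⟩ U a u hae hu
      apply hasUniqueMinimalPrime_iff_encard.2
      exact le_antisymm (hle U a u hae hu) one_le_encard_minimalPrimes
  have hb : (∀ (U : Over S) (a : (AlgSp.yon S).obj U ⟶ X.obj) (u : ↥U.left),
      AlgSp.RepWith @Etale a → AlgSp.Points.ofPt a u = x →
        CAlg2.IsGeomUnibranch ↥(U.left.presheaf.stalk u)) ↔ CondB X x 1 := by
    constructor
    · intro h U a u hae hu
      exact (Groth.Agent.S9236.result _).2 (h U a u hae hu)
    · intro h U a u hae hu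
      exact (Groth.Agent.S9236.result _).1 (h U a u hae hu)
  have hc : (∀ p : AlgSp.FieldPt X.obj, p.IsGeometric → AlgSp.Points.mk p = x →
      CAlgX.HasUniqueMinimalPrime ↥(AlgSp.OEtStalk p)) ↔ CondC X x 1 := by
    constructor
    · intro h p hp hpx
      exact hasUniqueMinimalPrime_iff_encard.1 (h p hp hpx)
    · intro h p hp hpx
      exact hasUniqueMinimalPrime_iff_encard.2 (h p hp hpx)
  refine ⟨ha.trans (Iff.trans ?_ hb.symm), ha.trans (Iff.trans ?_ hc.symm)⟩
  · exact hAB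
  · exact hAB.trans hBC

end Groth.Agent.Lib.Helper3.EtLocRing
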