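import Groth.Agent.Lib.Helper3.EtLocRingJ
import Groth.Agent.Lib.Helper3.AlgSpNoethChart
import Groth.Agent.Lib.Helper12.NoetherianAux
import Groth.Agent.Lib.Helper12.NoethCrit
import Mathlib.RingTheory.Unramified.LocalRing
import Mathlib.RingTheory.Etale.Basic

set_option autoImplicit false
universe u
open CategoryTheory CategoryTheory.Limits AlgebraicGeometry Opposite
open AlgSp

namespace Groth.Agent.Lib.Helper3.EtLocRing

set_option backward.isDefEq.respectTransparency false

variable {S : Scheme.{u}} {X : Sp S} (p : FieldPt X)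

/-- Elements of the maximal ideal of the etale local ring come from the prime of the point of any
affine neighbourhood. -/
theorem mem_map_gm_of_ev_eq_zero (hX : IsAlgSpace X) (hp : p.IsGeometric) (N : EtNbhd p)
    [IsAffine N.1.obj.left.left] (x : ↥(OEtStalk p)) (hx : ev p x = 0) :
    x ∈ (nprime p N).asIdeal.map (gm p N) := by
  obtain ⟨N', g, hN', h⟩ := exists_affine_nbhd_finset_over p hX hp N (fun _ : Unit => x)
  obtain ⟨s, rfl⟩ := h ()
  let j := g.1.hom.left.left
  have hjet : Etale j := EtOver.etale_left g.1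
  have hφet : j.appTop.hom.Etale := HasRingHomProperty.appTop (P := @Etale) j hjet
  algebraize [j.appTop.hom]
  have hetale : Algebra.Etale Γ(N.1.obj.left.left, ⊤) Γ(N'.1.obj.left.left, ⊤) :=
    RingHom.etale_algebraMap.mp hφet
  have hlo : (nprime p N').asIdeal.LiesOver (nprime p N).asIdeal := by
    constructor
    ext a
    rw [Ideal.under_def, Ideal.mem_comap, mem_nprime_iff, mem_nprime_iff]
    change _ ↔ evAt p N' (j.appTop.hom a) = 0
    rw [evAt_w p g a]
  letI := Localization.AtPrime.algebraOfLiesOver (nprime p N).asIdeal (nprime p N').asIdeal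
  have hunr : Algebra.IsUnramifiedAt Γ(N.1.obj.left.left, ⊤) (nprime p N').asIdeal := inferInstance
  have hmap := ((Algebra.isUnramifiedAt_iff_map_eq Γ(N.1.obj.left.left, ⊤) (nprime p N).asIdeal
    (nprime p N').asIdeal).mp hunr).2
  let ψ : Localization.AtPrime (nprime p N').asIdeal →+* ↥(OEtStalk p) :=
    IsLocalization.lift (M := (nprime p N').asIdeal.primeCompl) (g := gm p N')
      (isUnit_gm_of_notMem p hX hp N')
  have hψ : ∀ b, ψ (algebraMap _ _ b) = gm p N' b := fun b => IsLocalization.lift_eq _ b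
  have hs : s ∈ (nprime p N').asIdeal := by
    rw [mem_nprime_iff, ← ev_gm]; exact hx
  have hmem : algebraMap Γ(N'.1.obj.left.left, ⊤) (Localization.AtPrime (nprime p N').asIdeal) s ∈
      IsLocalRing.maximalIdeal (Localization.AtPrime (nprime p N').asIdeal) :=
    (IsLocalization.AtPrime.to_map_mem_maximal_iff _ (nprime p N').asIdeal s).2 hs
  rw [← hmap] at hmem
  have h2 := Ideal.mem_map_of_mem ψ hmem
  rw [hψ, Ideal.map_map] at h2
  have hcomp : ψ.comp (algebraMap Γ(N.1.obj.left.left, ⊤)
      (Localization.AtPrime (nprime p N').asIdeal)) = gm p N := by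
    ext a
    rw [RingHom.comp_apply, IsScalarTower.algebraMap_apply Γ(N.1.obj.left.left, ⊤)
      Γ(N'.1.obj.left.left, ⊤) (Localization.AtPrime (nprime p N').asIdeal), hψ]
    exact gm_w p g a
  rw [hcomp] at h2
  exact h2

theorem map_maximalIdeal_cmp (hX : IsAlgSpace X) (hp : p.IsGeometric) (N : EtNbhd p)
    [IsAffine N.1.obj.left.left] (hloc : IsLocalRing ↥(OEtStalk p)) :
    (IsLocalRing.maximalIdeal (stk p N)).map (cmp p hX hp N) =
      IsLocalRing.maximalIdeal ↥(OEtStalk p) := by
  have hlh := isLocalHom_cmp p hX hp N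
  apply le_antisymm
  · rw [Ideal.map_le_iff_le_comap]
    exact le_of_eq (IsLocalRing.maximalIdeal_comap (cmp p hX hp N)).symm
  · intro x hx
    have h1 := mem_map_gm_of_ev_eq_zero p hX hp N x ((mem_maximalIdeal_iff p hX hp hloc x).1 hx)
    rw [← cmp_comp_germ p hX hp N, ← Ideal.map_map] at h1
    refine Ideal.map_mono ?_ h1
    rw [Ideal.map_le_iff_le_comap]
    intro a ha
    exact (evAt_eq_zero_iff p N a).1 ((mem_nprime_iff p N a).1 ha)

theorem isNoetherianRing_OEtStalk (hX : IsAlgSpace X) (hp : p.IsGeometric)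
    (hN : ∀ N : EtNbhd p, IsNoetherianRing (stk p N)) : IsNoetherianRing ↥(OEtStalk p) := by
  classical
  have hloc := isLocalRing_OEtStalk p hX hp
  have : IsNoetherianRing (↥(OEtStalk p) ⧸ IsLocalRing.maximalIdeal ↥(OEtStalk p)) :=
    inferInstanceAs (IsNoetherianRing (IsLocalRing.ResidueField ↥(OEtStalk p)))
  apply Groth.Agent.Lib.Helper12.isNoetherianRing_of_fg_of_closed
    (IsLocalRing.maximalIdeal ↥(OEtStalk p))
  · obtain ⟨N₀, hN₀⟩ := exists_affine_nbhd p hX hp
    rw [← map_maximalIdeal_cmp p hX hp N₀ hloc]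
    have := hN N₀
    exact Ideal.FG.map (IsNoetherian.noetherian _) _
  · intro J hJ x hx
    obtain ⟨T, rfl⟩ := hJ
    obtain ⟨N₀⟩ := nonempty_etNbhd hX p hp
    -- a common affine neighbourhood for the generators and `x`
    obtain ⟨N, -, hNa, h⟩ := exists_affine_nbhd_finset_over p hX hp N₀
      (fun i : Option T => match i with | none => x | some t => (t : ↥(OEtStalk p)))
    have := hN N
    letI : Algebra (stk p N) ↥(OEtStalk p) := (cmp p hX hp N).toAlgebra
    haveI : Module.Flat (stk p N) ↥(OEtStalk p) := flat_cmp p hX hp N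
    haveI : IsLocalHom (algebraMap (stk p N) ↥(OEtStalk p)) := isLocalHom_cmp p hX hp N
    haveI : Module.FaithfullyFlat (stk p N) ↥(OEtStalk p) :=
      Module.FaithfullyFlat.of_flat_of_isLocalHom
    obtain ⟨sx, hsx'⟩ := h none
    have hsx : gm p N sx = x := hsx'
    have hst : ∀ t : T, ∃ s, gm p N s = (t : ↥(OEtStalk p)) := fun t => h (some t)
    choose st hst using hst
    let J' : Ideal (stk p N) := Ideal.span (Set.range fun t : T => germHom p N (st t))
    have hJ' : J'.map (cmp p hX hp N) = Ideal.span (T : Set ↥(OEtStalk p)) := by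
      rw [Ideal.map_span]
      congr 1
      ext y
      constructor
      · rintro ⟨_, ⟨t, rfl⟩, rfl⟩
        rw [cmp_germ, hst]
        exact t.2
      · intro hy
        exact ⟨_, ⟨⟨y, hy⟩, rfl⟩, by rw [cmp_germ, hst]⟩
    have hx' : ∀ k : ℕ, germHom p N sx ∈ J' ⊔ IsLocalRing.maximalIdeal (stk p N) ^ k := by
      intro k
      have h1 := hx k
      rw [← hJ', ← map_maximalIdeal_cmp p hX hp N hloc, ← Ideal.map_pow, ← Ideal.map_sup,
        ← hsx, ← cmp_germ p hX hp N sx] at h1
      have h2 : germHom p N sx ∈ ((J' ⊔ IsLocalRing.maximalIdeal (stk p N) ^ k).map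
          (algebraMap (stk p N) ↥(OEtStalk p))).comap (algebraMap (stk p N) ↥(OEtStalk p)) := h1
      rwa [Ideal.comap_map_eq_self_of_faithfullyFlat] at h2
    have h3 := Groth.Agent.Lib.Helper12.mem_of_forall_mem_sup_pow J' _ hx'
    rw [← hJ', ← hsx, ← cmp_germ p hX hp N sx]
    exact Ideal.mem_map_of_mem _ h3

/-- **S10226.** -/
theorem main10226 (X : AlgSp.Space S) (hX : AlgSp.IsLocNoethSp X.obj)
    (p : AlgSp.FieldPt X.obj) (hp : p.IsGeometric) :
    IsNoetherianRing ↥(AlgSp.OEtStalk p) ∧ IsLocalRing ↥(AlgSp.OEtStalk p) := by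
  have hXa : IsAlgSpace X.obj := X.property
  refine ⟨isNoetherianRing_OEtStalk p hXa hp fun N => ?_, isLocalRing_OEtStalk p hXa hp⟩
  have : IsLocallyNoetherian N.1.obj.left.left :=
    isLocallyNoetherian_of_isLocNoethSp hX N.1.obj.hom N.1.property
  infer_instance

end Groth.Agent.Lib.Helper3.EtLocRing
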