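import Groth.Agent.Lib.Helper3.EtLocRingP
import Groth.Agent.Lib.Helper3.EtLocRingL
import Groth.Agent.Lib.Helper12.SpanFinrankFlat
import Groth.Agent.Lib.Helper12.EtLocalRegA
import Mathlib.AlgebraicGeometry.Morphisms.FormallyUnramified

set_option autoImplicit false
universe u
open CategoryTheory CategoryTheory.Limits AlgebraicGeometry Opposite
open AlgSp

namespace Groth.Agent.Lib.Helper3.EtLocRing

set_option backward.isDefEq.respectTransparency false

open IsLocalRing in
/-- The embedding dimension is invariant under faithfully flat local maps `A → B` with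
`m_A B = m_B` (universe-polymorphic copy of `Helper12.spanFinrank_maximalIdeal_eq_of_faithfullyFlat`). -/
theorem spanFinrank_maximalIdeal_eq_of_faithfullyFlat' {A : Type*} {B : Type*} [CommRing A]
    [IsLocalRing A] [IsNoetherianRing A] [CommRing B] [IsLocalRing B] [IsNoetherianRing B]
    [Algebra A B] [Module.FaithfullyFlat A B]
    (hmap : (maximalIdeal A).map (algebraMap A B) = maximalIdeal B) :
    (maximalIdeal B).spanFinrank = (maximalIdeal A).spanFinrank := by
  classical
  apply le_antisymm
  · rw [← hmap]
    exact Ideal.spanFinrank_map_le_of_fg _ (maximalIdeal A).fg_of_isNoetherianRing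
  · obtain ⟨s, hscard, hs⟩ := Submodule.FG.exists_span_finset_card_eq_spanFinrank
      (maximalIdeal A).fg_of_isNoetherianRing
    have hS : Ideal.span ((s.image (algebraMap A B) : Finset B) : Set B) = maximalIdeal B := by
      rw [Finset.coe_image, ← Ideal.map_span,
        show Ideal.span (s : Set A) = maximalIdeal A from hs, hmap]
    obtain ⟨T, hTS, hT, hTcard⟩ := Groth.Agent.Lib.Helper12.exists_subset_span_eq_maximalIdeal _ hS
    obtain ⟨t, hts, rfl⟩ := Finset.subset_image_iff.mp hTS
    have ht : Ideal.span (t : Set A) = maximalIdeal A := by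
      apply Ideal.map_injective_of_faithfullyFlat (B := B)
      rw [Ideal.map_span, hmap, ← hT, Finset.coe_image]
    have hinj : Function.Injective (algebraMap A B) := FaithfulSMul.algebraMap_injective A B
    calc (maximalIdeal A).spanFinrank = (Ideal.span (t : Set A)).spanFinrank := by rw [ht]
      _ ≤ (t : Set A).ncard := Submodule.spanFinrank_span_le_ncard_of_finite t.finite_toSet
      _ = t.card := Set.ncard_coe_finset t
      _ = (t.image (algebraMap A B)).card := (Finset.card_image_of_injective _ hinj).symm
      _ ≤ _ := hTcard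

/-- Along an etale morphism, Noetherianity of the local rings is equivalent. -/
theorem isNoetherianRing_stalk_iff_of_etale {A B : Scheme.{u}} (g : A ⟶ B) [Etale g] (a : A) :
    IsNoetherianRing (B.presheaf.stalk (g a)) ↔ IsNoetherianRing (A.presheaf.stalk a) := by
  have h2 : (g.stalkMap a).hom.Flat := Flat.stalkMap g a
  have h3 : (g.stalkMap a).hom.EssFiniteType := LocallyOfFiniteType.stalkMap g a
  algebraize [(g.stalkMap a).hom]
  have : IsLocalHom (algebraMap (B.presheaf.stalk (g a)) (A.presheaf.stalk a)) := by
    rw [RingHom.algebraMap_toAlgebra]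
    infer_instance
  have : Module.FaithfullyFlat (B.presheaf.stalk (g a)) (A.presheaf.stalk a) :=
    Module.FaithfullyFlat.of_flat_of_isLocalHom
  constructor
  · intro h
    exact Algebra.EssFiniteType.isNoetherianRing (B.presheaf.stalk (g a)) (A.presheaf.stalk a)
  · intro h
    exact Groth.Agent.Lib.Helper12.isNoetherianRing_of_faithfullyFlat
      (B.presheaf.stalk (g a)) (A.presheaf.stalk a)

/-- Along an etale morphism, regularity of the local rings is equivalent. -/
theorem isRegularLocalRing_stalk_iff_of_etale {A B : Scheme.{u}} (g : A ⟶ B) [Etale g] (a : A) :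
    IsRegularLocalRing (B.presheaf.stalk (g a)) ↔ IsRegularLocalRing (A.presheaf.stalk a) := by
  have h2 : (g.stalkMap a).hom.Flat := Flat.stalkMap g a
  have h3 : (g.stalkMap a).hom.EssFiniteType := LocallyOfFiniteType.stalkMap g a
  have h4 : (g.stalkMap a).hom.FormallyUnramified := FormallyUnramified.stalkMap g a
  algebraize [(g.stalkMap a).hom]
  have : IsLocalHom (algebraMap (B.presheaf.stalk (g a)) (A.presheaf.stalk a)) := by
    rw [RingHom.algebraMap_toAlgebra]
    infer_instance
  have hmap : (IsLocalRing.maximalIdeal (B.presheaf.stalk (g a))).map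
      (algebraMap (B.presheaf.stalk (g a)) (A.presheaf.stalk a)) =
        IsLocalRing.maximalIdeal (A.presheaf.stalk a) :=
    Algebra.FormallyUnramified.map_maximalIdeal
  constructor
  · intro h
    have : IsNoetherianRing (A.presheaf.stalk a) :=
      (isNoetherianRing_stalk_iff_of_etale g a).1 inferInstance
    exact (Groth.Agent.Lib.Helper12.EtLocalReg.isRegularLocalRing_iff_of_flat_of_map_eq _ _ hmap).1 h
  · intro h
    have : IsNoetherianRing (B.presheaf.stalk (g a)) :=
      (isNoetherianRing_stalk_iff_of_etale g a).2 inferInstance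
    exact (Groth.Agent.Lib.Helper12.EtLocalReg.isRegularLocalRing_iff_of_flat_of_map_eq _ _ hmap).2 h

variable {S : Scheme.{u}}

theorem isNoetherianRing_stalk_of_ofPt_eq {X : Sp S} {U U' : Over S} (a : (yon S).obj U ⟶ X)
    (a' : (yon S).obj U' ⟶ X) (ha : RepWith @Etale a) (ha' : RepWith @Etale a') (u : ↥U.left)
    (u' : ↥U'.left) (h : Points.ofPt a u = Points.ofPt a' u')
    (hr : IsNoetherianRing (U.left.presheaf.stalk u)) :
    IsNoetherianRing (U'.left.presheaf.stalk u') := by
  obtain ⟨W, pU, pU', w, h1, h2, -, rfl, rfl⟩ := exists_common_refinement a a' ha ha' u u' h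
  exact (isNoetherianRing_stalk_iff_of_etale pU'.left w).2
    ((isNoetherianRing_stalk_iff_of_etale pU.left w).1 hr)

theorem isRegularLocalRing_stalk_of_ofPt_eq {X : Sp S} {U U' : Over S} (a : (yon S).obj U ⟶ X)
    (a' : (yon S).obj U' ⟶ X) (ha : RepWith @Etale a) (ha' : RepWith @Etale a') (u : ↥U.left)
    (u' : ↥U'.left) (h : Points.ofPt a u = Points.ofPt a' u')
    (hr : IsRegularLocalRing (U.left.presheaf.stalk u)) :
    IsRegularLocalRing (U'.left.presheaf.stalk u') := by
  obtain ⟨W, pU, pU', w, h1, h2, -, rfl, rfl⟩ := exists_common_refinement a a' ha ha' u u' h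
  exact (isRegularLocalRing_stalk_iff_of_etale pU'.left w).2
    ((isRegularLocalRing_stalk_iff_of_etale pU.left w).1 hr)

variable {X : Sp S} (p : FieldPt X)

theorem isRegularLocalRing_OEtStalk_iff (hX : IsAlgSpace X) (hp : p.IsGeometric) (N : EtNbhd p)
    [IsAffine N.1.obj.left.left] :
    IsRegularLocalRing (stk p N) ↔ IsRegularLocalRing ↥(OEtStalk p) := by
  have hloc := isLocalRing_OEtStalk p hX hp
  letI : Algebra (stk p N) ↥(OEtStalk p) := (cmp p hX hp N).toAlgebra
  haveI : Module.Flat (stk p N) ↥(OEtStalk p) := flat_cmp p hX hp N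
  haveI : IsLocalHom (algebraMap (stk p N) ↥(OEtStalk p)) := isLocalHom_cmp p hX hp N
  haveI : Module.FaithfullyFlat (stk p N) ↥(OEtStalk p) := Module.FaithfullyFlat.of_flat_of_isLocalHom
  have hmap : (IsLocalRing.maximalIdeal (stk p N)).map (algebraMap (stk p N) ↥(OEtStalk p)) =
      IsLocalRing.maximalIdeal ↥(OEtStalk p) := map_maximalIdeal_cmp p hX hp N hloc
  have key : ∀ [IsNoetherianRing (stk p N)] [IsNoetherianRing ↥(OEtStalk p)],
      IsRegularLocalRing (stk p N) ↔ IsRegularLocalRing ↥(OEtStalk p) := by
    intro _ _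
    rw [isRegularLocalRing_iff, isRegularLocalRing_iff, ringKrullDim_OEtStalk_eq p hX hp N,
      spanFinrank_maximalIdeal_eq_of_faithfullyFlat' hmap]
  constructor
  · intro h
    have hNoeth : IsNoetherianRing ↥(OEtStalk p) := by
      refine isNoetherianRing_OEtStalk p hX hp fun N' => ?_
      exact isNoetherianRing_stalk_of_ofPt_eq N.1.obj.hom N'.1.obj.hom N.1.property N'.1.property
        (npt p N) (npt p N') ((ofPt_npt p N).trans (ofPt_npt p N').symm) inferInstance
    exact key.1 h
  · intro h
    have hNoeth : IsNoetherianRing (stk p N) :=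
      Groth.Agent.Lib.Helper12.isNoetherianRing_of_faithfullyFlat (stk p N) ↥(OEtStalk p)
    exact key.2 h

end Groth.Agent.Lib.Helper3.EtLocRing
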