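import Groth.Agent.Lib.Helper3.EtLocRingQ
import Groth.Agent.Lib.Helper3.EtLocRingM

set_option autoImplicit false
universe u
open CategoryTheory CategoryTheory.Limits AlgebraicGeometry Opposite
open AlgSp

namespace Groth.Agent.Lib.Helper3.EtLocRing

set_option backward.isDefEq.respectTransparency false

variable {S : Scheme.{u}} {X : Sp S} (p : FieldPt X)

/-- Regularity of the local ring at a chart point over a geometric point is equivalent to
regularity of the etale local ring. -/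
theorem isRegularLocalRing_stalk_iff_OEtStalk (hX : IsAlgSpace X) (hp : p.IsGeometric)
    {U : Over S} (a : (yon S).obj U ⟶ X) (ha : RepWith @Etale a) (u : ↥U.left)
    (hu : Points.ofPt a u = Points.mk p) :
    IsRegularLocalRing (U.left.presheaf.stalk u) ↔ IsRegularLocalRing ↥(OEtStalk p) := by
  obtain ⟨N, hN⟩ := exists_affine_nbhd p hX hp
  rw [← isRegularLocalRing_OEtStalk_iff p hX hp N]
  constructor
  · intro h
    exact isRegularLocalRing_stalk_of_ofPt_eq a N.1.obj.hom ha N.1.property u (npt p N)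
      (hu.trans (ofPt_npt p N).symm) h
  · intro h
    exact isRegularLocalRing_stalk_of_ofPt_eq N.1.obj.hom a N.1.property ha (npt p N) u
      ((ofPt_npt p N).trans hu.symm) h

/-- **S10232.** -/
theorem main10232 (X : AlgSp.Space S) (x : AlgSp.Points X.obj) :
    (AlgSp.HasAt (fun U u => IsRegularLocalRing ↥(U.presheaf.stalk u)) X.obj x ↔
      ∀ p : AlgSp.FieldPt X.obj, p.IsGeometric → AlgSp.Points.mk p = x → IsRegularLocalRing ↥(AlgSp.OEtStalk p)) ∧
    (AlgSp.HasAt (fun U u => IsRegularLocalRing ↥(U.presheaf.stalk u)) X.obj x ↔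
      ∃ p : AlgSp.FieldPt X.obj, p.IsGeometric ∧ AlgSp.Points.mk p = x ∧ IsRegularLocalRing ↥(AlgSp.OEtStalk p)) := by
  have hX : IsAlgSpace X.obj := X.property
  have h1 : AlgSp.HasAt (fun U u => IsRegularLocalRing ↥(U.presheaf.stalk u)) X.obj x →
      ∀ p : AlgSp.FieldPt X.obj, p.IsGeometric → AlgSp.Points.mk p = x →
        IsRegularLocalRing ↥(AlgSp.OEtStalk p) := by
    rintro ⟨U, a, u, ha, hu, hr⟩ p hp hpx
    exact (isRegularLocalRing_stalk_iff_OEtStalk p hX hp a ha u (hu.trans hpx.symm)).1 hr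
  have h2 : (∃ p : AlgSp.FieldPt X.obj, p.IsGeometric ∧ AlgSp.Points.mk p = x ∧
      IsRegularLocalRing ↥(AlgSp.OEtStalk p)) →
      AlgSp.HasAt (fun U u => IsRegularLocalRing ↥(U.presheaf.stalk u)) X.obj x := by
    rintro ⟨p, hp, hpx, hr⟩
    obtain ⟨N, hN⟩ := exists_affine_nbhd p hX hp
    exact ⟨N.1.obj.left, N.1.obj.hom, npt p N, N.1.property, (ofPt_npt p N).trans hpx,
      (isRegularLocalRing_OEtStalk_iff p hX hp N).2 hr⟩
  have h3 : (∀ p : AlgSp.FieldPt X.obj, p.IsGeometric → AlgSp.Points.mk p = x →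
      IsRegularLocalRing ↥(AlgSp.OEtStalk p)) →
      ∃ p : AlgSp.FieldPt X.obj, p.IsGeometric ∧ AlgSp.Points.mk p = x ∧
        IsRegularLocalRing ↥(AlgSp.OEtStalk p) := by
    intro h
    obtain ⟨p, hp, hpx⟩ := exists_geometric_mk_eq hX x
    exact ⟨p, hp, hpx, h p hp hpx⟩
  exact ⟨⟨h1, fun h => h2 (h3 h)⟩, ⟨fun h => h3 (h1 h), h2⟩⟩

/-- **S10231.** -/
theorem main10231 (X : AlgSp.Space S) (hX : AlgSp.IsLocNoethSp X.obj) :
    AlgSp.EtaleLocally (fun U => IsLocallyNoetherian U ∧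
        ∀ u : ↥U, IsRegularLocalRing ↥(U.presheaf.stalk u)) X.obj ↔
      ∀ p : AlgSp.FieldPt X.obj, p.IsGeometric → IsRegularLocalRing ↥(AlgSp.OEtStalk p) := by
  have hXa : IsAlgSpace X.obj := X.property
  constructor
  · rintro ⟨U, a, hae, has, -, hreg⟩ p hp
    obtain ⟨u, hu⟩ := exists_ofPt_eq a has (Points.mk p)
    exact (isRegularLocalRing_stalk_iff_OEtStalk p hXa hp a hae u hu).1 (hreg u)
  · intro h
    obtain ⟨U, a, hae, has⟩ := hXa.atlas
    refine ⟨U, a, hae, has, isLocallyNoetherian_of_isLocNoethSp hX a hae, fun u => ?_⟩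
    obtain ⟨p, hp, hpx⟩ := exists_geometric_mk_eq hXa (Points.ofPt a u)
    exact (isRegularLocalRing_stalk_iff_OEtStalk p hXa hp a hae u hpx.symm).2 (h p hp)

end Groth.Agent.Lib.Helper3.EtLocRing
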