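import Mathlib
import Groth.Agent.Lib.Helper3.Rep0418H
import Groth.Agent.Lib.Helper3.AlgSpHasAtMor2
import Groth.Agent.Lib.Helper3.AlgSpImmersionPts
import Groth.Agent.Lib.Helper3.AlgSpRepLocal2

set_option autoImplicit false
universe u

namespace Groth.Agent.Lib.Helper3.EtSplitQF

open CategoryTheory CategoryTheory.Limits AlgebraicGeometry Opposite AlgSp
open Groth.Agent.Lib.Helper3

variable {S : Scheme.{u}}

/-- An open immersion which is also finite is a closed immersion (sheaf level). -/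
theorem repWith_isClosedImmersion_of_open_finite {F G : Sp S} (j : F ⟶ G)
    (h1 : RepWith @IsOpenImmersion j) (h2 : RepWith @IsFinite j) :
    RepWith @IsClosedImmersion j := by
  refine ⟨h1.rep, fun T V g fst snd sq => ?_⟩
  change IsClosedImmersion snd.left
  have a1 : IsOpenImmersion snd.left := h1.2 g fst snd sq
  have a2 : IsFinite snd.left := h2.2 g fst snd sq
  exact (IsClosedImmersion.iff_isFinite_and_mono _).2 ⟨a2, inferInstance⟩

end Groth.Agent.Lib.Helper3.EtSplitQF

namespace Groth.Agent.Lib.Helper3.EtSplitQF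

open CategoryTheory CategoryTheory.Limits AlgebraicGeometry Opposite AlgSp
open Groth.Agent.Lib.Helper3

variable {S : Scheme.{u}}

theorem main10677 {X Y : Sp S} (hX : IsAlgSpace X) (hY : IsAlgSpace Y) (f : X ⟶ Y) (x : Points X)
    (hf2 : IsSeparatedMor f)
    (hf3 : HasAtMor (NbhdQ (@LocallyQuasiFinite ⊓ @LocallyOfFiniteType)) f x) :
    ∃ (U : Over S) (a : (yon S).obj U ⟶ Y) (u : Points ((yon S).obj U)), IsEtaleMor a ∧
      Points.map a u = Points.map f x ∧
      ∀ (P : Sp S) (prX : P ⟶ X) (prU : P ⟶ (yon S).obj U), IsPullback prX prU f a →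
        ∃ (V : Over S) (jV : (yon S).obj V ⟶ P), RepWith @IsOpenImmersion jV ∧
          RepWith @IsClosedImmersion jV ∧ IsFiniteMor (jV ≫ prU) ∧
          ∃ v : Points ((yon S).obj V), Points.map (jV ≫ prX) v = x ∧
            Points.map (jV ≫ prU) v = u := by
  obtain ⟨X', hX', j, hj, ⟨x', hx'⟩, hloc⟩ :=
    exists_open_subspace_of_hasAtMor isEtLocal_locallyQuasiFinite hX f x hf3
  have hjm : Mono j := mono_of_repWith_isOpenImmersion j hj
  have hsep' : IsSeparatedMor (j ≫ f) :=
    isSeparatedMor_comp (S9937.isSeparatedMor_of_mono j) hf2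
  have hrep : Representable (j ≫ f) :=
    Rep0418.representable_of_lqf_separated hX' hY _ hloc hsep'
  obtain ⟨V₀, b, hbe, hbs⟩ := hY.atlas
  obtain ⟨v₀, hv₀⟩ := exists_ofPt_eq b hbs (Points.map f x)
  obtain ⟨Q₀, q₀, fstQ, sqQ⟩ : ∃ (Q₀ : Over S) (q₀ : Q₀ ⟶ V₀) (fstQ : (yon S).obj Q₀ ⟶ X'),
      IsPullback fstQ ((yon S).map q₀) (j ≫ f) b := ⟨_, _, _, hrep.isPullback b⟩
  have hq1 : LocP (@LocallyQuasiFinite ⊓ @LocallyOfFiniteType) ((yon S).map q₀) :=
    locP_of_isPullback isEtLocal_locallyQuasiFinite hX' hY (IsAlgSpace.yon_obj _)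
      (IsAlgSpace.yon_obj _) _ _ _ _ sqQ hloc
  have hq2 : (@LocallyQuasiFinite ⊓ @LocallyOfFiniteType) q₀.left := locP_yon_map hq1
  have : LocallyQuasiFinite q₀.left := hq2.1
  have : LocallyOfFiniteType q₀.left := hq2.2
  have : IsSeparated q₀.left :=
    (isSeparatedMor_yon_map_iff q₀).1 (repWith_diagonal_of_isPullback @IsClosedImmersion sqQ hsep')
  obtain ⟨z, hz1, hz2⟩ := exists_of_isPullback_chart sqQ x' v₀
    (by rw [Points.map_comp, hx', hv₀])
  obtain ⟨U₁, g, hg, -, V, W, v, hVW, hfin, hv⟩ :=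
    exists_etale_isCompl_of_quasiFiniteAt q₀.left hz2 (q₀.left.quasiFiniteAt z)
  let U₁O : Over S := Over.mk (g ≫ V₀.hom)
  let gO : U₁O ⟶ V₀ := Over.homMk g rfl
  have hQ₀ : q₀.left ≫ V₀.hom = Q₀.hom := Over.w q₀
  let Pb : Over S := Over.mk (pullback.snd q₀.left g ≫ g ≫ V₀.hom)
  let pQ : Pb ⟶ Q₀ := Over.homMk (pullback.fst q₀.left g)
    (by
      change pullback.fst q₀.left g ≫ Q₀.hom = pullback.snd q₀.left g ≫ g ≫ V₀.hom
      rw [← hQ₀, ← Category.assoc, pullback.condition, Category.assoc])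
  let pU : Pb ⟶ U₁O := Over.homMk (pullback.snd q₀.left g) rfl
  have sqPb : IsPullback pQ pU q₀ gO := by
    refine IsPullback.of_map (Over.forget S) ?_ ?_
    · ext; exact pullback.condition
    · exact IsPullback.of_hasPullback q₀.left g
  have sqPb' : IsPullback ((yon S).map pQ ≫ fstQ) ((yon S).map pU) (j ≫ f)
      ((yon S).map gO ≫ b) := (sqPb.map (yon S)).paste_horiz sqQ
  let u' : ↥U₁O.left := pullback.snd q₀.left g v.1
  have hgu' : g u' = v₀ := by
    change (pullback.snd q₀.left g ≫ g) v.1 = v₀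
    rw [← pullback.condition, Scheme.Hom.comp_apply, hv, hz2]
  refine ⟨U₁O, (yon S).map gO ≫ b, Points.schemeHomeo U₁O u', ?_, ?_, ?_⟩
  · exact isEtaleMor_of_repWith_etale
      (MorphismProperty.comp_mem _ _ _ ((repWith_yon_map_iff _ _).2 hg) hbe)
  · rw [Points.map_comp, Points.map_yon_map_apply, ← hv₀]
    change Points.map b (Points.ofPt (𝟙 _) (g u')) = _
    rw [hgu', ← Points.ofPt_eq_map_ofScheme]
  · intro P prX prU sqP
    let m : (yon S).obj Pb ⟶ P := sqP.lift (((yon S).map pQ ≫ fstQ) ≫ j) ((yon S).map pU)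
      (by rw [Category.assoc, sqPb'.w])
    have hm1 : m ≫ prX = ((yon S).map pQ ≫ fstQ) ≫ j := sqP.lift_fst _ _ _
    have hm2 : m ≫ prU = (yon S).map pU := sqP.lift_snd _ _ _
    have sqm : IsPullback ((yon S).map pQ ≫ fstQ) m j prX := by
      refine IsPullback.of_bot ?_ hm1.symm sqP
      rw [hm2]
      exact sqPb'
    have hm : RepWith @IsOpenImmersion m := MorphismProperty.of_isPullback sqm hj
    let Vs : Over S := Over.mk (V.ι ≫ Pb.hom)
    let ιV : Vs ⟶ Pb := Over.homMk V.ι rfl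
    have hιV : RepWith @IsOpenImmersion ((yon S).map ιV) :=
      (repWith_yon_map_iff _ _).2 (inferInstanceAs (IsOpenImmersion V.ι))
    have hjV : RepWith @IsOpenImmersion ((yon S).map ιV ≫ m) :=
      MorphismProperty.comp_mem _ _ _ hιV hm
    have hcomp : ((yon S).map ιV ≫ m) ≫ prU = (yon S).map (ιV ≫ pU) := by
      rw [Category.assoc, hm2, Functor.map_comp]
    have hfin' : RepWith @IsFinite (((yon S).map ιV ≫ m) ≫ prU) := by
      rw [hcomp]
      exact (repWith_yon_map_iff _ _).2 hfin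
    have hsepU : RepWith @IsClosedImmersion (pullback.diagonal prU) :=
      repWith_diagonal_of_isPullback @IsClosedImmersion sqP hf2
    have hfinj : RepWith @IsFinite ((yon S).map ιV ≫ m) :=
      Rep0418.repWith_of_comp_of_diagonal (P := @IsFinite) (Q := @IsClosedImmersion)
        (fun _ _ k hk => by have : IsClosedImmersion k := hk; exact inferInstanceAs (IsFinite k))
        _ prU hsepU hfin'
    refine ⟨Vs, (yon S).map ιV ≫ m, hjV, repWith_isClosedImmersion_of_open_finite _ hjV hfinj,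
      (isFiniteMor_iff_repWith _).2 hfin', Points.schemeHomeo Vs v, ?_, ?_⟩
    · rw [Category.assoc, hm1, ← hx', ← hz1]
      rw [show (yon S).map ιV ≫ ((yon S).map pQ ≫ fstQ) ≫ j =
        (yon S).map (ιV ≫ pQ) ≫ fstQ ≫ j by
          simp only [Functor.map_comp, Category.assoc]]
      rw [Points.map_comp, Points.map_yon_map_apply, Points.map_ofPt]
      change Points.map (fstQ ≫ j) (Points.ofPt (𝟙 _) ((pullback.fst q₀.left g) v.1)) = _
      rw [hv, Points.map_ofPt, Category.id_comp]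
    · rw [hcomp, Points.map_yon_map_apply]
      rfl

end Groth.Agent.Lib.Helper3.EtSplitQF
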