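import Mathlib.AlgebraicGeometry.Morphisms.LocalFlatDescent
import Mathlib.AlgebraicGeometry.Morphisms.UniversallyOpen
import Mathlib.AlgebraicGeometry.Morphisms.Etale

set_option autoImplicit false
universe u
open CategoryTheory CategoryTheory.Limits AlgebraicGeometry MorphismProperty

namespace Groth.Agent.Lib.Helper3

/-- Key descent step: if `X = Y ×_{Y₁} X₁` with `X₁ ⟶ Y₁` etale, `Y₁ ⟶ Z` in `P` and the composite
`X ⟶ Y ⟶ Y₁ ⟶ Z` in `P`, then `Y ⟶ Y₁ ⟶ Z` is in `P` on an open of `Y` containing the image of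
`X`. -/
theorem exists_open_of_isPullback_etale (P : MorphismProperty Scheme.{u})
    [P.IsStableUnderComposition]
    [P.DescendsAlong (@Surjective ⊓ @Flat ⊓ @LocallyOfFinitePresentation)]
    (hEt : @Etale ≤ P)
    (hcancel : ∀ {X Y Z : Scheme.{u}} (a : X ⟶ Y) (b : Y ⟶ Z), P (a ≫ b) → P b → P a)
    {X X₁ Y Y₁ Z : Scheme.{u}} (k : Y ⟶ Y₁) (e : X₁ ⟶ Y₁) [Etale e] (h₁ : Y₁ ⟶ Z) (hh₁ : P h₁)
    (p : X ⟶ Y) (q : X ⟶ X₁) (sq : IsPullback p q k e) (hX : P (p ≫ k ≫ h₁)) :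
    ∃ (W : Scheme.{u}) (j : W ⟶ Y), IsOpenImmersion j ∧ Set.range p ⊆ Set.range j ∧
      P (j ≫ k ≫ h₁) := by
  let W₁ : Y₁.Opens := ⟨Set.range e, e.isOpenMap.isOpen_range⟩
  have hrange : Set.range e ⊆ Set.range W₁.ι := by
    rw [Scheme.Opens.range_ι]
    exact subset_rfl
  let e' : X₁ ⟶ W₁.toScheme := IsOpenImmersion.lift W₁.ι e hrange
  have he' : e' ≫ W₁.ι = e := IsOpenImmersion.lift_fac _ _ _
  have hsurj : Surjective e' := by
    refine ⟨fun w => ?_⟩
    have hw : W₁.ι w ∈ Set.range e := w.2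
    obtain ⟨x, hx⟩ := hw
    refine ⟨x, ?_⟩
    apply W₁.ι.injective
    rw [← Scheme.Hom.comp_apply, he', hx]
  have hflat : Flat e' := by
    have : Flat (e' ≫ W₁.ι) := by rw [he']; infer_instance
    exact MorphismProperty.of_postcomp (W := @Flat) (W' := @IsOpenImmersion) e' W₁.ι
      inferInstance this
  have hlfp : LocallyOfFinitePresentation e' := by
    have : LocallyOfFinitePresentation (e' ≫ W₁.ι) := by rw [he']; infer_instance
    exact MorphismProperty.of_postcomp (W := @LocallyOfFinitePresentation)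
      (W' := @IsOpenImmersion) e' W₁.ι inferInstance this
  let j := pullback.fst k W₁.ι
  have sqR : IsPullback j (pullback.snd k W₁.ι) k W₁.ι := IsPullback.of_hasPullback k W₁.ι
  have hw : p ≫ k = (q ≫ e') ≫ W₁.ι := by rw [Category.assoc, he', sq.w]
  let l : X ⟶ pullback k W₁.ι := pullback.lift p (q ≫ e') hw
  have hl1 : l ≫ j = p := pullback.lift_fst _ _ _
  have hl2 : l ≫ pullback.snd k W₁.ι = q ≫ e' := pullback.lift_snd _ _ _
  have sqL : IsPullback l q (pullback.snd k W₁.ι) e' := by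
    refine IsPullback.of_right ?_ hl2 sqR
    rw [hl1, he']
    exact sq
  have hPe : P (e ≫ h₁) := P.comp_mem _ _ (hEt _ _ e inferInstance) hh₁
  have hq : P q := by
    refine hcancel q (e ≫ h₁) ?_ hPe
    rw [← Category.assoc, ← sq.w, Category.assoc]
    exact hX
  have hsnd : P (pullback.snd k W₁.ι) :=
    of_isPullback_of_descendsAlong (P := P)
      (Q := @Surjective ⊓ @Flat ⊓ @LocallyOfFinitePresentation) sqL.flip
      ⟨⟨hsurj, hflat⟩, hlfp⟩ hq
  refine ⟨pullback k W₁.ι, j, inferInstance, ?_, ?_⟩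
  · rw [← hl1]
    rintro _ ⟨x, rfl⟩
    exact ⟨l x, by rw [Scheme.Hom.comp_apply]⟩
  · have : j ≫ k ≫ h₁ = pullback.snd k W₁.ι ≫ W₁.ι ≫ h₁ := by
      rw [← Category.assoc, sqR.w, Category.assoc]
    rw [this]
    exact P.comp_mem _ _ hsnd (P.comp_mem _ _ (hEt _ _ W₁.ι inferInstance) hh₁)

end Groth.Agent.Lib.Helper3
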