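import Mathlib.RingTheory.Etale.StandardEtale
import Mathlib.RingTheory.FiniteStability
import Mathlib.RingTheory.Polynomial.Basic
import Mathlib.Algebra.Polynomial.Lifts
import Mathlib.RingTheory.Adjoin.FG

set_option autoImplicit false
universe u
open Polynomial TensorProduct

namespace Groth.Agent.Lib.Helper3

theorem StandardEtalePair.ext' {R : Type*} [CommRing R] {P Q : StandardEtalePair R}
    (hf : P.f = Q.f) (hg : P.g = Q.g) : P = Q := by
  cases P; cases Q
  simp only at hf hg
  subst hf hg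
  rfl

/-- A standard etale pair over an `A`-algebra `B` descends to a finitely presented `A`-algebra
mapping to `B`. -/
theorem exists_finitePresentation_standardEtalePair {A B : Type u} [CommRing A] [CommRing B]
    (φ : A →+* B) (P : StandardEtalePair B) :
    ∃ (B₁ : Type u) (_ : CommRing B₁) (α : A →+* B₁) (β : B₁ →+* B) (P₁ : StandardEtalePair B₁),
      β.comp α = φ ∧ α.FinitePresentation ∧ P₁.map β = P := by
  classical
  obtain ⟨p₁, p₂, n, hcond⟩ := P.cond
  let s : Finset B := P.f.coeffs ∪ P.g.coeffs ∪ p₁.coeffs ∪ p₂.coeffs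
  let B₀ : Subalgebra ℤ B := Algebra.adjoin ℤ (s : Set B)
  let ι : B₀ →+* B := B₀.val.toRingHom
  have hι : Function.Injective ι := Subtype.val_injective
  have hrange : (s : Set B) ⊆ Set.range ι := by
    intro x hx
    exact ⟨⟨x, Algebra.subset_adjoin hx⟩, rfl⟩
  have lift : ∀ p : B[X], (p.coeffs : Set B) ⊆ s → ∃ q : B₀[X], q.map ι = p := by
    intro p hp
    exact (mem_lifts p).1 ((lifts_iff_coeffs_subset_range p).2 (hp.trans hrange))
  obtain ⟨f₀, hf₀⟩ := lift P.f (by
    intro x hx
    simp only [s, Finset.coe_union, Set.mem_union, Finset.mem_coe]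
    exact Or.inl (Or.inl (Or.inl hx)))
  obtain ⟨g₀, hg₀⟩ := lift P.g (by
    intro x hx
    simp only [s, Finset.coe_union, Set.mem_union, Finset.mem_coe]
    exact Or.inl (Or.inl (Or.inr hx)))
  obtain ⟨q₁, hq₁⟩ := lift p₁ (by
    intro x hx
    simp only [s, Finset.coe_union, Set.mem_union, Finset.mem_coe]
    exact Or.inl (Or.inr hx))
  obtain ⟨q₂, hq₂⟩ := lift p₂ (by
    intro x hx
    simp only [s, Finset.coe_union, Set.mem_union, Finset.mem_coe]
    exact Or.inr hx)
  have hmonic : f₀.Monic := monic_of_injective hι (by rw [hf₀]; exact P.monic_f)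
  have hcond₀ : derivative f₀ * q₁ + f₀ * q₂ = g₀ ^ n := by
    apply Polynomial.map_injective ι hι
    rw [Polynomial.map_add, Polynomial.map_mul, Polynomial.map_mul, Polynomial.map_pow,
      ← derivative_map, hf₀, hg₀, hq₁, hq₂]
    exact hcond
  let P₀ : StandardEtalePair B₀ := ⟨f₀, hmonic, g₀, ⟨q₁, q₂, n, hcond₀⟩⟩
  have hft : Algebra.FiniteType ℤ B₀ :=
    (Subalgebra.fg_iff_finiteType _).1 (Subalgebra.fg_adjoin_finset s)
  have hfp : Algebra.FinitePresentation ℤ B₀ := Algebra.FinitePresentation.of_finiteType.1 hft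
  let _ : Algebra A B := φ.toAlgebra
  let ρ : A ⊗[ℤ] B₀ →ₐ[A] B :=
    Algebra.TensorProduct.lift (Algebra.ofId A B) B₀.val (fun _ _ => Commute.all _ _)
  let incR : B₀ →+* A ⊗[ℤ] B₀ := (Algebra.TensorProduct.includeRight (R := ℤ) (A := A) (B := B₀)).toRingHom
  refine ⟨A ⊗[ℤ] B₀, inferInstance, algebraMap A (A ⊗[ℤ] B₀), ρ.toRingHom, P₀.map incR, ?_, ?_, ?_⟩
  · ext a
    simp [ρ, RingHom.algebraMap_toAlgebra]
  · rw [RingHom.finitePresentation_algebraMap]
    infer_instance
  · have hcomp : ρ.toRingHom.comp incR = ι := by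
      ext b
      simp [ρ, incR, ι]
    apply StandardEtalePair.ext'
    · simp only [StandardEtalePair.map_f, Polynomial.map_map, hcomp, P₀, hf₀]
    · simp only [StandardEtalePair.map_g, Polynomial.map_map, hcomp, P₀, hg₀]

end Groth.Agent.Lib.Helper3
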