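import Groth.Agent.Lib.Helper3.EtSrcLocal
import Groth.Agent.Lib.Helper3.StdEtaleDescend
import Mathlib.RingTheory.RingHom.Etale
import Mathlib.Algebra.Category.Ring.Constructions
import Mathlib.AlgebraicGeometry.Pullbacks

set_option autoImplicit false
universe u
open CategoryTheory CategoryTheory.Limits AlgebraicGeometry MorphismProperty TensorProduct

namespace Groth.Agent.Lib.Helper3

/-- Affine standard etale step. -/
theorem exists_open_of_standardEtale (P : MorphismProperty Scheme.{u})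
    [P.IsStableUnderComposition] [P.RespectsIso]
    [P.DescendsAlong (@Surjective ⊓ @Flat ⊓ @LocallyOfFinitePresentation)]
    (hEt : @Etale ≤ P)
    (hcancel : ∀ {X Y Z : Scheme.{u}} (a : X ⟶ Y) (b : Y ⟶ Z), P (a ≫ b) → P b → P a)
    (hfp : ∀ {R R' : CommRingCat.{u}} (α : R ⟶ R'), α.hom.FinitePresentation → P (Spec.map α))
    {A B C : CommRingCat.{u}} (φ : A ⟶ B) (ψ : B ⟶ C)
    (hψ : letI := ψ.hom.toAlgebra; Algebra.IsStandardEtale B C)
    (h : P (Spec.map ψ ≫ Spec.map φ)) :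
    ∃ (W : Scheme.{u}) (j : W ⟶ Spec B), IsOpenImmersion j ∧
      Set.range (Spec.map ψ) ⊆ Set.range j ∧ P (j ≫ Spec.map φ) := by
  let _ := ψ.hom.toAlgebra
  obtain ⟨⟨Ppair, x, hx, hbij⟩⟩ := hψ.nonempty_standardEtalePresentation
  obtain ⟨B₁, instB₁, α, β, P₁, hαβ, hα, rfl⟩ :=
    exists_finitePresentation_standardEtalePair φ.hom Ppair
  let _ : Algebra B₁ B := β.toAlgebra
  let Pres₁ : StandardEtalePresentation B₁ P₁.Ring :=
    ⟨P₁, P₁.X, P₁.hasMap_X, by simpa [StandardEtalePair.lift_X_left] using Function.bijective_id⟩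
  let PresT : StandardEtalePresentation B (B ⊗[B₁] P₁.Ring) := Pres₁.baseChange
  let PresC : StandardEtalePresentation B C := ⟨P₁.map β, x, hx, hbij⟩
  let θ : C ≃ₐ[B] B ⊗[B₁] P₁.Ring := PresC.equivRing.trans PresT.equivRing.symm
  let T : CommRingCat.{u} := CommRingCat.of (B ⊗[B₁] P₁.Ring)
  let θcat : C ≅ T := θ.toRingEquiv.toCommRingCatIso
  let inclL : B ⟶ T := CommRingCat.ofHom Algebra.TensorProduct.includeLeftRingHom
  have hθ : ψ ≫ θcat.hom = inclL := by
    ext b
    change θ (algebraMap B C b) = _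
    rw [θ.commutes]
    rfl
  have po := CommRingCat.isPushout_tensorProduct B₁ B P₁.Ring
  have pb := isPullback_SpecMap_of_isPushout _ _ _ _ po
  have hetale : Etale (Spec.map (CommRingCat.ofHom (algebraMap B₁ P₁.Ring))) := by
    rw [HasRingHomProperty.Spec_iff (P := @Etale)]
    exact RingHom.etale_algebraMap.2 inferInstance
  have hα' : P (Spec.map (CommRingCat.ofHom α)) := hfp _ hα
  have hcomp : CommRingCat.ofHom α ≫ CommRingCat.ofHom (algebraMap B₁ B) = φ := by
    ext a
    exact congrArg (fun f => f a) hαβ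
  have hX : P (Spec.map inclL ≫ Spec.map (CommRingCat.ofHom (algebraMap B₁ B)) ≫
      Spec.map (CommRingCat.ofHom α)) := by
    rw [← Spec.map_comp, hcomp, ← hθ, Spec.map_comp, Category.assoc]
    exact (P.cancel_left_of_respectsIso _ _).2 h
  obtain ⟨W, j, hj, hrange, hP⟩ := exists_open_of_isPullback_etale P hEt hcancel
    (Spec.map (CommRingCat.ofHom (algebraMap B₁ B)))
    (Spec.map (CommRingCat.ofHom (algebraMap B₁ P₁.Ring))) (Spec.map (CommRingCat.ofHom α)) hα'
    (Spec.map inclL) _ pb hX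
  refine ⟨W, j, hj, ?_, ?_⟩
  · rintro _ ⟨c, rfl⟩
    apply hrange
    refine ⟨Spec.map θcat.inv c, ?_⟩
    have e1 : Spec.map θcat.inv ≫ Spec.map (ψ ≫ θcat.hom) = Spec.map ψ := by
      rw [← Spec.map_comp, Category.assoc, Iso.hom_inv_id, Category.comp_id]
    rw [← hθ, ← Scheme.Hom.comp_apply, e1]
  · rwa [← Spec.map_comp, hcomp] at hP

end Groth.Agent.Lib.Helper3
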