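import Groth.Agent.Lib.Helper3.EtSrcLocal2
import Mathlib.RingTheory.Unramified.LocalStructure
import Mathlib.RingTheory.Etale.Locus

set_option autoImplicit false
universe u
open CategoryTheory CategoryTheory.Limits AlgebraicGeometry MorphismProperty TensorProduct

namespace Groth.Agent.Lib.Helper3

/-- Affine etale step, pointwise. -/
theorem exists_open_of_etale_Spec (P : MorphismProperty Scheme.{u})
    [P.IsStableUnderComposition] [P.RespectsIso]
    [P.DescendsAlong (@Surjective ⊓ @Flat ⊓ @LocallyOfFinitePresentation)]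
    (hEt : @Etale ≤ P)
    (hcancel : ∀ {X Y Z : Scheme.{u}} (a : X ⟶ Y) (b : Y ⟶ Z), P (a ≫ b) → P b → P a)
    (hfp : ∀ {R R' : CommRingCat.{u}} (α : R ⟶ R'), α.hom.FinitePresentation → P (Spec.map α))
    {A B C : CommRingCat.{u}} (φ : A ⟶ B) (ψ : B ⟶ C) (hψ : ψ.hom.Etale)
    (h : P (Spec.map ψ ≫ Spec.map φ)) (c : Spec C) :
    ∃ (W : Scheme.{u}) (j : W ⟶ Spec B), IsOpenImmersion j ∧
      (Spec.map ψ) c ∈ Set.range j ∧ P (j ≫ Spec.map φ) := by
  let instBC : Algebra B C := ψ.hom.toAlgebra
  have hEtale : Algebra.Etale B C := by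
    rw [← RingHom.etale_algebraMap]
    exact hψ
  let Q : Ideal C := c.asIdeal
  have hQ : Q.IsPrime := c.isPrime
  have hfe : Algebra.FormallyEtale C (Localization.AtPrime Q) :=
    Algebra.FormallyEtale.of_isLocalization Q.primeCompl
  have hEtAt : Algebra.IsEtaleAt B Q := Algebra.FormallyEtale.comp B C (Localization.AtPrime Q)
  obtain ⟨f, hfQ, hstd⟩ := Algebra.IsEtaleAt.exists_isStandardEtale (R := B) Q
  let C' : CommRingCat.{u} := CommRingCat.of (Localization.Away f)
  let lam : C ⟶ C' := CommRingCat.ofHom (algebraMap C (Localization.Away f))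
  have hinst : (inferInstance : Algebra B (Localization.Away f)) = (ψ ≫ lam).hom.toAlgebra := by
    apply Algebra.algebra_ext
    intro r
    rw [IsScalarTower.algebraMap_apply B C (Localization.Away f)]
    rfl
  have hstd' : letI := (ψ ≫ lam).hom.toAlgebra; Algebra.IsStandardEtale B C' := by
    rw [← hinst]
    exact hstd
  have hopen : IsOpenImmersion (Spec.map lam) :=
    IsOpenImmersion.of_isLocalization f
  have h' : P (Spec.map (ψ ≫ lam) ≫ Spec.map φ) := by
    rw [Spec.map_comp, Category.assoc]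
    exact P.comp_mem _ _ (hEt _ _ (Spec.map lam) inferInstance) h
  obtain ⟨W, j, hj, hrange, hP⟩ :=
    exists_open_of_standardEtale P hEt hcancel hfp φ (ψ ≫ lam) hstd' h'
  refine ⟨W, j, hj, ?_, hP⟩
  apply hrange
  have hc : c ∈ Set.range (Spec.map lam) := by
    change c ∈ Set.range (PrimeSpectrum.comap (algebraMap C (Localization.Away f)))
    rw [PrimeSpectrum.localization_away_comap_range (Localization.Away f) f]
    exact hfQ
  obtain ⟨c', rfl⟩ := hc
  exact ⟨c', by rw [Spec.map_comp, Scheme.Hom.comp_apply]⟩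

end Groth.Agent.Lib.Helper3
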