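import Groth.Agent.Lib.Helper3.EtSrcLocal3
import Mathlib.AlgebraicGeometry.Morphisms.FinitePresentation

set_option autoImplicit false
universe u
open CategoryTheory CategoryTheory.Limits AlgebraicGeometry MorphismProperty TensorProduct

namespace Groth.Agent.Lib.Helper3

/-- Etale step for abstract affine schemes, pointwise. -/
theorem exists_open_of_etale_affine (P : MorphismProperty Scheme.{u})
    [P.IsStableUnderComposition] [P.RespectsIso]
    [P.DescendsAlong (@Surjective ⊓ @Flat ⊓ @LocallyOfFinitePresentation)]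
    (hEt : @Etale ≤ P)
    (hcancel : ∀ {X Y Z : Scheme.{u}} (a : X ⟶ Y) (b : Y ⟶ Z), P (a ≫ b) → P b → P a)
    (hfp : ∀ {R R' : CommRingCat.{u}} (α : R ⟶ R'), α.hom.FinitePresentation → P (Spec.map α))
    {X' X Z : Scheme.{u}} [IsAffine X'] [IsAffine X] [IsAffine Z] (π : X' ⟶ X) (g : X ⟶ Z)
    [Etale π] (h : P (π ≫ g)) (x' : X') :
    ∃ (W : Scheme.{u}) (j : W ⟶ X), IsOpenImmersion j ∧ π x' ∈ Set.range j ∧ P (j ≫ g) := by
  have hψ : π.appTop.hom.Etale := HasRingHomProperty.appTop (P := @Etale) π inferInstance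
  have e1 : Spec.map π.appTop ≫ Spec.map g.appTop =
      X'.isoSpec.inv ≫ (π ≫ g) ≫ Z.isoSpec.hom := by
    rw [← Spec.map_comp, ← Scheme.Hom.comp_appTop, Iso.eq_inv_comp,
      Scheme.isoSpec_hom_naturality]
  have h' : P (Spec.map π.appTop ≫ Spec.map g.appTop) := by
    rw [e1, P.cancel_left_of_respectsIso, P.cancel_right_of_respectsIso]
    exact h
  obtain ⟨W, j, hj, hrange, hP⟩ := exists_open_of_etale_Spec P hEt hcancel hfp g.appTop π.appTop
    hψ h' (X'.isoSpec.hom x')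
  refine ⟨W, j ≫ X.isoSpec.inv, inferInstance, ?_, ?_⟩
  · obtain ⟨w, hw⟩ := hrange
    refine ⟨w, ?_⟩
    rw [Scheme.Hom.comp_apply, hw, ← Scheme.Hom.comp_apply, ← Scheme.Hom.comp_apply,
      Scheme.isoSpec_hom_naturality_assoc, Iso.hom_inv_id, Category.comp_id]
  · rw [Category.assoc, ← Scheme.isoSpec_inv_naturality, ← Category.assoc,
      P.cancel_right_of_respectsIso]
    exact hP

theorem comp_opensRange_ι (P : MorphismProperty Scheme.{u}) [P.RespectsIso] {W U V : Scheme.{u}}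
    (j : W ⟶ U) [IsOpenImmersion j] (g : U ⟶ V) (h : P (j ≫ g)) : P (j.opensRange.ι ≫ g) := by
  rw [← IsOpenImmersion.isoOfRangeEq_inv_fac j (Scheme.Opens.ι _)
    (congr_arg TopologicalSpace.Opens.carrier j.opensRange.opensRange_ι.symm), Category.assoc,
    P.cancel_left_of_respectsIso]
  exact h

/-- **Etale-source-locality**: a property `P` (such as locally of finite type or locally of finite
presentation) which satisfies fppf descent on the target can be checked after precomposition with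
a surjective etale morphism. -/
theorem of_etale_surjective_comp (P : MorphismProperty Scheme.{u})
    [P.IsStableUnderComposition] [IsZariskiLocalAtSource P]
    [P.DescendsAlong (@Surjective ⊓ @Flat ⊓ @LocallyOfFinitePresentation)]
    (hEt : @Etale ≤ P)
    (hcancel : ∀ {X Y Z : Scheme.{u}} (a : X ⟶ Y) (b : Y ⟶ Z), P (a ≫ b) → P b → P a)
    (hfp : ∀ {R R' : CommRingCat.{u}} (α : R ⟶ R'), α.hom.FinitePresentation → P (Spec.map α))
    {U' U V : Scheme.{u}} (π : U' ⟶ U) (g : U ⟶ V) [Etale π] [Surjective π] (h : P (π ≫ g)) :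
    P g := by
  have key : ∀ u : U, ∃ W : U.Opens, u ∈ W ∧ P (W.ι ≫ g) := by
    intro u
    obtain ⟨V₀, hV₀, hgu, -⟩ := TopologicalSpace.Opens.isBasis_iff_nbhd.mp V.isBasis_affineOpens
      (TopologicalSpace.Opens.mem_top (g u))
    obtain ⟨U₀, hU₀, hu, e⟩ := TopologicalSpace.Opens.isBasis_iff_nbhd.mp U.isBasis_affineOpens
      (show u ∈ g ⁻¹ᵁ V₀ from hgu)
    obtain ⟨u', rfl⟩ := π.surjective u
    obtain ⟨U'₀, hU'₀, hu', e'⟩ := TopologicalSpace.Opens.isBasis_iff_nbhd.mp
      U'.isBasis_affineOpens (show u' ∈ π ⁻¹ᵁ U₀ from hu)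
    have : IsAffine (Scheme.Opens.toScheme (X := V) V₀) := hV₀
    have : IsAffine (Scheme.Opens.toScheme (X := U) U₀) := hU₀
    have : IsAffine (Scheme.Opens.toScheme (X := U') U'₀) := hU'₀
    have h1 : P (π.resLE U₀ U'₀ e' ≫ g.resLE V₀ U₀ e) := by
      refine hcancel _ (Scheme.Opens.ι (X := V) V₀) ?_ (hEt _ _ (Scheme.Opens.ι (X := V) V₀) inferInstance)
      rw [Category.assoc, Scheme.Hom.resLE_comp_ι, Scheme.Hom.resLE_comp_ι_assoc]
      exact IsZariskiLocalAtSource.comp h _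
    obtain ⟨W, j, hj, hrange, hP⟩ := exists_open_of_etale_affine P hEt hcancel hfp
      (π.resLE U₀ U'₀ e') (g.resLE V₀ U₀ e) h1 ⟨u', hu'⟩
    refine ⟨(j ≫ (Scheme.Opens.ι (X := U) U₀)).opensRange, ?_, comp_opensRange_ι P _ _ ?_⟩
    · obtain ⟨w, hw⟩ := hrange
      refine ⟨w, ?_⟩
      rw [Scheme.Hom.comp_apply, hw, ← Scheme.Hom.comp_apply, Scheme.Hom.resLE_comp_ι,
        Scheme.Hom.comp_apply]
      rfl
    · rw [Category.assoc, ← Scheme.Hom.resLE_comp_ι _ e, ← Category.assoc]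
      exact P.comp_mem _ _ hP (hEt _ _ (Scheme.Opens.ι (X := V) V₀) inferInstance)
  choose W hW hPW using key
  refine IsZariskiLocalAtSource.of_iSup_eq_top W ?_ hPW
  rw [eq_top_iff]
  rintro u -
  simp only [TopologicalSpace.Opens.mem_iSup]
  exact ⟨u, hW u⟩

end Groth.Agent.Lib.Helper3
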