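import Mathlib
import Groth.Prelude.Def_AlgSpDec
import Groth.Prelude.Def_AlgSpSub
import Groth.Agent.Lib.Helper3.FibPowL
import Groth.Agent.Lib.Helper3.AlgSpDecent
import Groth.Agent.Lib.Helper3.AlgSpMonoField
import Groth.Agent.Lib.Helper3.AlgSpEtPoint

set_option autoImplicit false
universe u
open CategoryTheory CategoryTheory.Limits AlgebraicGeometry Opposite
open AlgSp
open Groth.Agent.Lib.Helper3

namespace Groth.Agent.Lib.Helper3.FibPow

set_option backward.isDefEq.respectTransparency false

variable {S : Scheme.{u}}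

/-- An etale chart which is injective on field valued points over the point `b(v)` is an
elementary etale neighbourhood with `v` the only point in its fibre. -/
theorem elem_of_field_inj {X : Sp S} (hX : IsAlgSpace X) {V : Over S} (b : (yon S).obj V ⟶ X)
    (hb : RepWith @Etale b) (v : ↥V.left)
    (hinj : ∀ (K : Type u) [Field K] (str : Spec (.of K) ⟶ S) (μ1 μ2 : Over.mk str ⟶ V),
      (yon S).map μ1 ≫ b = (yon S).map μ2 ≫ b →
      Points.mk (fieldPtOfHom K str ((yon S).map μ1 ≫ b)) = Points.ofPt b v → μ1 = μ2) :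
    IsElemEtaleNbhd b v (Points.ofPt b v) ∧ Points.ofPt b ⁻¹' {Points.ofPt b v} = {v} := by
  have hrep : Representable b := hX.representable_from_yon b
  refine ⟨⟨hb, rfl, ?_⟩, ?_⟩
  · rw [FieldPt.toHom_ofPt]
    apply mono_of_yon_points
    intro T s1' s2' h12
    obtain ⟨s1, rfl⟩ := (yon S).map_surjective s1'
    obtain ⟨s2, rfl⟩ := (yon S).map_surjective s2'
    congr 1
    haveI : Mono (ptι V v) := by
      haveI : Mono ((Over.forget S).map (ptι V v)) :=
        inferInstanceAs (Mono (V.left.fromSpecResidueField v))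
      exact (Over.forget S).mono_of_mono_map inferInstance
    rw [← cancel_mono (ptι V v)]
    have h12' : (yon S).map (s1 ≫ ptι V v) ≫ b = (yon S).map (s2 ≫ ptι V v) ≫ b := by
      rw [Functor.map_comp, Functor.map_comp, Category.assoc, Category.assoc]
      exact h12
    apply eq_of_eqLoc_eq_univ hrep hb _ _ h12'
    ext t
    simp only [Set.mem_univ, iff_true]
    change ptι T t ≫ s1 ≫ ptι V v = ptι T t ≫ s2 ≫ ptι V v
    have key : ∀ s : T ⟶ (FieldPt.ofPt b v).pt, (yon S).map (ptι T t ≫ s ≫ ptι V v) ≫ b =
        (yon S).map (ptι T t) ≫ (yon S).map (s ≫ ptι V v) ≫ b := fun s => by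
      rw [Functor.map_comp, Category.assoc]
    apply hinj
    · rw [key s1, key s2, h12']
    · rw [← Category.assoc, Functor.map_comp, Category.assoc, mk_fieldPtOfHom_comp,
        Rep0418.ofPt_eq_mk]
      rfl
  · ext w
    simp only [Set.mem_preimage, Set.mem_singleton_iff]
    constructor
    · intro hw
      rw [Rep0418.ofPt_eq_mk, Rep0418.ofPt_eq_mk, mk_fieldPtOfHom_eq_iff] at hw
      obtain ⟨Ω, _, strΩ, c1, c2, hc⟩ := hw
      have h1 : c1 ≫ ptι V w = c2 ≫ ptι V v := by
        apply hinj
        · rw [Functor.map_comp, Functor.map_comp, Category.assoc, Category.assoc]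
          exact hc
        · rw [Functor.map_comp, Category.assoc]
          refine Eq.trans (congrArg _ (congrArg _ hc)) ?_
          rw [mk_fieldPtOfHom_comp, Rep0418.ofPt_eq_mk]
      have h2 := congrArg (fun k => k.left (IsLocalRing.closedPoint Ω)) h1
      simp only [Over.comp_left, Scheme.Hom.comp_apply] at h2
      have e1 : (ptι V w).left (c1.left (IsLocalRing.closedPoint Ω)) = w :=
        Scheme.fromSpecResidueField_apply _ _
      have e2 : (ptι V v).left (c2.left (IsLocalRing.closedPoint Ω)) = v :=
        Scheme.fromSpecResidueField_apply _ _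
      rw [e1, e2] at h2
      exact h2
    · rintro rfl
      rfl

end Groth.Agent.Lib.Helper3.FibPow
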