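import Mathlib
import Groth.Prelude.Def_AlgSpDec
import Groth.Prelude.Def_AlgSpSub
import Groth.Agent.Lib.Helper3.FibPowO

set_option autoImplicit false
universe u
open CategoryTheory CategoryTheory.Limits AlgebraicGeometry Opposite
open AlgSp
open Groth.Agent.Lib.Helper3

namespace Groth.Agent.Lib.Helper3.FibPow

set_option backward.isDefEq.respectTransparency false

variable {S : Scheme.{u}}

/-- The quasi-compact case: a point with a quasi-compact representative of a quasi-compact
algebraic space with affine chart has an elementary etale neighbourhood with one point in the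
fibre. -/
theorem exists_elem_of_qc {X : Sp S} (hX : IsAlgSpace X) {U : Over S} [IsAffine U.left]
    (a : (yon S).obj U ⟶ X) (c : Ctx a) (has : RepWith @Surjective a) (q : FieldPt X)
    (hq : RepWith @QuasiCompact q.toHom) :
    ∃ (V : Over S) (b : (yon S).obj V ⟶ X) (v : ↥V.left), IsAffine V.left ∧
      IsElemEtaleNbhd b v (Points.mk q) ∧ Points.ofPt b ⁻¹' {Points.mk q} = {v} := by
  obtain ⟨N, hN⟩ := exists_not_mem_E c q hq
  have hQN : Points.mk q ∉ (fp c.rep c.et c.sep N).E c := hN _
  classical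
  let p0 := Nat.find (p := fun p => Points.mk q ∉ (fp c.rep c.et c.sep p).E c) ⟨N, hQN⟩
  have hp0 : Points.mk q ∉ (fp c.rep c.et c.sep p0).E c :=
    Nat.find_spec (p := fun p => Points.mk q ∉ (fp c.rep c.et c.sep p).E c) ⟨N, hQN⟩
  have hmin : ∀ p, p < p0 → Points.mk q ∈ (fp c.rep c.et c.sep p).E c := by
    intro p hp
    by_contra hcon
    exact Nat.find_min (p := fun p => Points.mk q ∉ (fp c.rep c.et c.sep p).E c) ⟨N, hQN⟩ hp hcon
  have hp0pos : p0 ≠ 0 := by
    intro h0
    rw [h0] at hp0
    apply hp0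
    change _ ∈ (FP.zero : FP a 0).E c
    rw [FP.E_zero c has]
    trivial
  obtain ⟨n, hn⟩ : ∃ n, p0 = n + 1 := ⟨p0 - 1, by omega⟩
  have hin : Points.mk q ∈ (fp c.rep c.et c.sep n).E c := hmin n (by omega)
  have hout : Points.mk q ∉ (fp c.rep c.et c.sep (n + 1)).E c := by rw [← hn]; exact hp0
  obtain ⟨M, f0, -, hf0e, hf0r, -, hinj⟩ :=
    (fp c.rep c.et c.sep n).exists_stage c hX (fp c.rep c.et c.sep (n + 1))
  rw [← hf0r] at hin
  obtain ⟨v, hv⟩ := hin
  obtain ⟨V1, hV1, hvV1, -⟩ := exists_isAffineOpen_mem_and_subset (x := v) (U := ⊤) trivial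
  let V' : Over S := Over.mk (V1.ι ≫ M.hom)
  let ι2 : V' ⟶ M := Over.homMk V1.ι rfl
  haveI : Mono ι2 := by
    haveI : Mono ((Over.forget S).map ι2) := inferInstanceAs (Mono V1.ι)
    exact (Over.forget S).mono_of_mono_map inferInstance
  let b : (yon S).obj V' ⟶ X := (yon S).map ι2 ≫ f0
  have hbe : RepWith @Etale b :=
    MorphismProperty.comp_mem _ _ _
      ((repWith_yon_map_iff @Etale ι2).2 (inferInstanceAs (Etale V1.ι))) hf0e
  let v' : ↥V'.left := ⟨v, hvV1⟩
  have hbv : Points.ofPt b v' = Points.mk q := by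
    rw [Points.ofPt_yon_map_comp]
    exact hv
  haveI : IsAffine V'.left := hV1
  have := elem_of_field_inj hX b hbe v' (by
    intro K _ str μ1 μ2 h12 hcl
    rw [← cancel_mono ι2]
    apply hinj
    · rw [Functor.map_comp, Functor.map_comp, Category.assoc, Category.assoc]
      exact h12
    · rw [Functor.map_comp, Category.assoc]
      change Points.mk (fieldPtOfHom K str ((yon S).map μ1 ≫ b)) ∉ _
      rw [hcl, hbv]
      exact hout)
  rw [hbv] at this
  exact ⟨V', b, v', inferInstance, this.1, this.2⟩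

end Groth.Agent.Lib.Helper3.FibPow
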