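import Mathlib
import Groth.Prelude.Def_AlgSpDec
import Groth.Prelude.Def_AlgSpSub
import Groth.Agent.Lib.Helper3.FibPowP

set_option autoImplicit false
universe u
open CategoryTheory CategoryTheory.Limits AlgebraicGeometry Opposite
open AlgSp
open Groth.Agent.Lib.Helper3

namespace Groth.Agent.Lib.Helper3.FibPow

set_option backward.isDefEq.respectTransparency false

variable {S : Scheme.{u}}

theorem main10374 (X : AlgSp.Space S) (hX : AlgSp.IsDecent X.obj)
    (x : AlgSp.Points X.obj) :
    ∃ (U : Over S) (a : (AlgSp.yon S).obj U ⟶ X.obj) (u : ↥U.left), IsAffine U.left ∧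
      AlgSp.IsElemEtaleNbhd a u x ∧ AlgSp.Points.ofPt a ⁻¹' {x} = {u} := by
  obtain ⟨q, rfl, hqm, hqc⟩ := hX x
  -- an affine etale chart through `x`
  obtain ⟨U0, b0, hb0e, hb0s⟩ := X.property.atlas
  obtain ⟨u0, hu0⟩ := exists_ofPt_eq b0 hb0s (Points.mk q)
  obtain ⟨U1, hU1, hu0U1, -⟩ := exists_isAffineOpen_mem_and_subset (x := u0) (U := ⊤) trivial
  let U : Over S := Over.mk (U1.ι ≫ U0.hom)
  let ι1 : U ⟶ U0 := Over.homMk U1.ι rfl
  let a : (yon S).obj U ⟶ X.obj := (yon S).map ι1 ≫ b0
  have hae : RepWith @Etale a :=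
    MorphismProperty.comp_mem _ _ _
      ((repWith_yon_map_iff @Etale ι1).2 (inferInstanceAs (Etale U1.ι))) hb0e
  haveI : IsAffine U.left := hU1
  let u1 : ↥U.left := ⟨u0, hu0U1⟩
  have hau1 : Points.ofPt a u1 = Points.mk q := by
    rw [Points.ofPt_yon_map_comp]
    exact hu0
  -- the open image
  let E' : Set (Points X.obj) := Set.range (Points.ofPt a)
  have hE' : IsOpen E' := (isOpenMap_ofPt a hae).isOpen_range
  let X' : Sp S := openSub X.obj E'
  have hX' : IsAlgSpace X' := isAlgSpace_openSub X.property E' hE'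
  let j' : X' ⟶ X.obj := openSubι X.obj E'
  have hj' : RepWith @IsOpenImmersion j' := repWith_isOpenImmersion_openSubι X.obj E' hE'
  haveI : Mono j' := mono_of_repWith_isOpenImmersion _ hj'
  have hj'r : Set.range (Points.map j') = E' := range_map_openSubι X.obj E'
  obtain ⟨a', ha', ha'e, ha's, -⟩ := exists_factor_surjective_etale a hae j' hj' hj'r
  -- the point factors through the open subspace
  obtain ⟨g, hg⟩ := exists_factor_of_range_subset j' hj' q.toHom (by
    rintro _ ⟨z, rfl⟩
    obtain ⟨s, rfl⟩ := (Points.schemeHomeo q.pt).surjective z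
    rw [hj'r]
    have h1 : Points.map q.toHom ((Points.schemeHomeo q.pt) s) = Points.ofPt q.toHom s :=
      (Points.ofPt_eq_map_ofScheme q.toHom s).symm
    rw [h1, Points.ofPt_toHom]
    exact ⟨u1, hau1⟩)
  let q' : FieldPt X' := fieldPtOfHom q.K q.str g
  have hq't : q'.toHom = g := toHom_fieldPtOfHom _ _ _
  have hq'map : Points.map j' (Points.mk q') = Points.mk q := by
    rw [Points.map_mk_fieldPtOfHom, hg]
    exact (congrArg Points.mk (fieldPt_eq_ofHom q)).symm
  have hq'c : RepWith @QuasiCompact q'.toHom := by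
    rw [hq't, repWith_iff]
    refine ⟨hX'.representable_from_yon g, fun T V t fst snd sq => ?_⟩
    have sq2 := isPullback_comp_mono j' sq
    rw [hg] at sq2
    exact ((repWith_iff _ _).1 hqc).2 (t ≫ j') fst snd sq2
  have c : Ctx a' := ⟨hX'.representable_from_yon a', ha'e,
    repWith_isSeparated_of_isAffine a' (hX'.representable_from_yon a')⟩
  obtain ⟨V, b, v, hVaff, hel, hfib⟩ := exists_elem_of_qc hX' a' c ha's q' hq'c
  refine ⟨V, b ≫ j', v, hVaff, ⟨?_, ?_, ?_⟩, ?_⟩
  · exact MorphismProperty.comp_mem _ _ _ hel.etale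
      (MorphismProperty.relative_monotone (fun _ _ k hk => by
        have : IsOpenImmersion k.left := hk
        exact inferInstanceAs (Etale k.left)) _ hj')
  · rw [← Points.map_ofPt, hel.ofPt_eq, hq'map]
  · have h1 : (FieldPt.ofPt (b ≫ j') v).toHom = (FieldPt.ofPt b v).toHom ≫ j' := by
      rw [FieldPt.toHom_ofPt, FieldPt.toHom_ofPt, Category.assoc]
    rw [h1]
    haveI := hel.mono
    exact mono_comp _ _
  · ext w
    simp only [Set.mem_preimage, Set.mem_singleton_iff]
    constructor
    · intro hw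
      rw [← Points.map_ofPt, ← hq'map] at hw
      have hw' := Points.map_injective_of_mono j' hw
      have : w ∈ Points.ofPt b ⁻¹' {Points.mk q'} := hw'
      rw [hfib] at this
      exact this
    · rintro rfl
      rw [← Points.map_ofPt, hel.ofPt_eq, hq'map]

end Groth.Agent.Lib.Helper3.FibPow
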