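import Mathlib

set_option autoImplicit false
universe u

namespace Groth.Agent.Lib.Helper3.FieldEmb

open Cardinal

/-- An extension `K₁` of `L` of cardinality smaller than the algebraically closed extension `k`
of `L` embeds into `k` over `L`. -/
theorem exists_algHom_of_card_lt (L K₁ k : Type u) [Field L] [Field K₁] [Field k]
    [Algebra L K₁] [Algebra L k] [IsAlgClosed k] (h : #K₁ < #k) : Nonempty (K₁ →ₐ[L] k) := by
  obtain ⟨s, hs⟩ := exists_isTranscendenceBasis L K₁
  obtain ⟨s', hs'⟩ := exists_isTranscendenceBasis L k
  have hcard : #s ≤ #s' := by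
    by_contra hlt
    push Not at hlt
    have h1 : #k ≤ max (max #L #s') ℵ₀ := IsAlgClosed.cardinal_le_max_transcendence_basis' _ hs'
    have h2 : #s ≤ #K₁ := mk_set_le s
    have h3 : #L ≤ #K₁ := mk_le_of_injective (algebraMap L K₁).injective
    have h4 : ℵ₀ ≤ #K₁ := by
      have hne : Nonempty s := by
        rw [← mk_ne_zero_iff]
        exact (lt_of_le_of_lt zero_le hlt).ne'
      obtain ⟨i⟩ := hne
      have htr : Transcendental L (i : K₁) := hs.1.transcendental i
      have := htr.infinite
      exact aleph0_le_mk K₁
    exact absurd (h1.trans (max_le (max_le h3 (hlt.le.trans h2)) h4)) (not_le.2 h)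
  obtain ⟨e⟩ := hcard
  -- the algebraically independent family in `k`
  have hind : AlgebraicIndependent L (fun i : s => ((e i : s') : k)) :=
    hs'.1.comp e e.injective
  let R := Algebra.adjoin L (Set.range (Subtype.val : s → K₁))
  let ψ : R →ₐ[L] k :=
    (MvPolynomial.aeval (fun i : s => ((e i : s') : k))).comp hs.1.aevalEquiv.symm.toAlgHom
  have hψ : Function.Injective ψ := by
    have : Function.Injective (MvPolynomial.aeval (R := L) (fun i : s => ((e i : s') : k))) := hind
    exact this.comp hs.1.aevalEquiv.symm.injective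
  letI : Algebra R k := ψ.toRingHom.toAlgebra
  haveI : IsScalarTower L R k := IsScalarTower.of_algebraMap_eq (fun x => (ψ.commutes x).symm)
  haveI : Algebra.IsAlgebraic R K₁ := hs.isAlgebraic
  haveI : FaithfulSMul R k := (faithfulSMul_iff_algebraMap_injective R k).2 hψ
  exact ⟨(IsAlgClosed.lift (R := R) (S := K₁) (M := k)).restrictScalars L⟩

end Groth.Agent.Lib.Helper3.FieldEmb
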