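import Mathlib
import Groth.Agent.Lib.Helper3.PropQF
import Groth.Agent.Lib.Helper3.AlgSpQC3
import Groth.Agent.Lib.Helper3.AlgSpLocP3
import Groth.Agent.Lib.Helper3.AlgSpOpen
set_option autoImplicit false
universe u
open CategoryTheory CategoryTheory.Limits AlgebraicGeometry TopologicalSpace

namespace Groth.Agent.Lib.Helper3.FinDesc

open AlgSp Groth.Agent.Lib.Helper3

variable {S : Scheme.{u}}

/-- A representable morphism that is surjective on points is representably surjective. -/
theorem repWith_surjective_of_isSurjectiveMor {F G : Sp S} (c : F ⟶ G) (hrep : Representable c)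
    (hs : IsSurjectiveMor c) : RepWith @Surjective c := by
  refine MorphismProperty.relative.of_exists fun T g => ?_
  refine ⟨hrep.pullback g, hrep.fst g, hrep.snd g, hrep.isPullback g, ⟨fun t => ?_⟩⟩
  obtain ⟨x, hx⟩ := hs (Points.map g (Points.schemeHomeo T t))
  obtain ⟨z, -, hz⟩ := Points.exists_of_isPullback (hrep.isPullback g) x _ hx
  obtain ⟨v, rfl⟩ := (Points.schemeHomeo _).surjective z
  rw [Points.map_yon_map_apply] at hz
  exact ⟨v, (Points.schemeHomeo T).injective hz⟩

/-- If `u` is surjective and `u ≫ p` is quasi-compact then so is `p`. -/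
theorem isQuasiCompactMor_of_comp_surjective {W X Y : Sp S} (hX : IsAlgSpace X) (hY : IsAlgSpace Y)
    (u : W ⟶ X) (p : X ⟶ Y)
    (hus : IsSurjectiveMor u) (h : IsQuasiCompactMor (u ≫ p)) : IsQuasiCompactMor p := by
  intro Z Z' hZ hZq k fst snd sq
  have sqN := IsPullback.of_hasPullback u fst
  have sqP := sqN.paste_vert sq
  have hqc : IsQuasiCompactSp (pullback u fst) := h hZ hZq k _ _ sqP
  have hsurj : IsSurjectiveMor (pullback.snd u fst) := isSurjectiveMor_snd_of_isPullback sqN hus
  have hZ' : IsAlgSpace Z' := isAlgSpace_of_isPullback' hY hX hZ sq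
  exact isQuasiCompactSp_of_isSurjectiveMor _ hsurj hqc hZ'

/-- If `u` is surjective and `u ≫ p` is universally closed then so is `p`. -/
theorem isUnivClosedMor_of_comp_surjective {W X Y : Sp S} (u : W ⟶ X) (p : X ⟶ Y)
    (hus : IsSurjectiveMor u) (h : IsUnivClosedMor (u ≫ p)) : IsUnivClosedMor p := by
  intro Z Z' hZ k fst snd sq
  have sqN := IsPullback.of_hasPullback u fst
  have sqP := sqN.paste_vert sq
  have hcl : IsClosedMap (Points.map (pullback.snd u fst ≫ snd)) := h hZ k _ _ sqP
  have hsurj : IsSurjectiveMor (pullback.snd u fst) := isSurjectiveMor_snd_of_isPullback sqN hus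
  intro Ω hΩ
  have : Points.map snd '' Ω =
      Points.map (pullback.snd u fst ≫ snd) '' (Points.map (pullback.snd u fst) ⁻¹' Ω) := by
    ext y
    constructor
    · rintro ⟨z, hz, rfl⟩
      obtain ⟨n, rfl⟩ := hsurj z
      exact ⟨n, hz, Points.map_comp _ _ n⟩
    · rintro ⟨n, hn, rfl⟩
      exact ⟨_, hn, (Points.map_comp _ _ n).symm⟩
  rw [this]
  exact hcl _ (hΩ.preimage (Points.continuous_map _))

end Groth.Agent.Lib.Helper3.FinDesc

namespace Groth.Agent.Lib.Helper3.FinDesc

open AlgSp Groth.Agent.Lib.Helper3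

variable {S : Scheme.{u}}

theorem main16833 {U X Y : AlgSp.Space S} (p : U ⟶ X) (f : X ⟶ Y)
    (hp : AlgSp.IsEtaleMor p.hom) (hps : AlgSp.IsSurjectiveMor p.hom)
    (hf : AlgSp.IsSeparatedMor f.hom) (h : AlgSp.IsFiniteMor (p ≫ f).hom) :
    AlgSp.IsFiniteMor f.hom := by
  obtain ⟨hprop, hlqf⟩ := PropQF.proper_lqf_of_isFiniteMor (p ≫ f).hom h
  refine PropQF.isFiniteMor_of_proper_lqf X.property Y.property f.hom hf ?_ ?_ ?_
  · exact isQuasiCompactMor_of_comp_surjective X.property Y.property p.hom f.hom hps hprop.2.1.2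
  · exact isUnivClosedMor_of_comp_surjective p.hom f.hom hps hprop.2.2
  · obtain ⟨U₀, φ, hφe, hφs⟩ := U.property.atlas
    have h1 : RepWith @Etale (φ ≫ p.hom) := hp φ hφe
    have h2 : RepWith @Surjective (φ ≫ p.hom) :=
      repWith_surjective_of_isSurjectiveMor _ h1.rep
        (isSurjectiveMor_comp (isSurjectiveMor_of_repWith hφs) hps)
    refine locP_of_source_cover isEtLocal_locallyQuasiFinite Y.property f.hom (φ ≫ p.hom) h1 h2 ?_
    rw [Category.assoc]
    refine locP_comp isEtLocal_locallyQuasiFinite (IsAlgSpace.yon_obj U₀) U.property Y.property φ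
      (p.hom ≫ f.hom) ?_ hlqf
    refine locP_of_repWith isEtLocal_locallyQuasiFinite φ (repWith_mono ?_ hφe)
    intro A B k hk
    exact isEtLocal_locallyQuasiFinite.etale_le k hk

end Groth.Agent.Lib.Helper3.FinDesc
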