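import Groth.Agent.Lib.Helper3.QfOpen
import Groth.Agent.Lib.Helper3.AlgSpQFBaseChange
import Groth.Agent.Lib.Helper3.AlgSpLftFieldDim
import Groth.Agent.Lib.Helper3.DecMonoQSepMor
import Groth.Agent.Lib.Helper3.RDvrFinal
import Groth.Agent.Lib.Helper3.RNMain
import Groth.Agent.Lib.Helper3.AlgSpGeomLift

set_option autoImplicit false
universe u

namespace Groth.Agent.Lib.Helper3.FinGeomFib

open CategoryTheory CategoryTheory.Limits AlgebraicGeometry Opposite AlgSp
open Groth.Agent.Lib.Helper3 Groth.Agent.Lib.lead.QFCodimSp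

variable {S : Scheme.{u}}

/-- An algebraic space locally of finite type and quasi-separated over a one-point... with
finitely many points is quasi-finite at every point over any scheme. -/
theorem hasAtMor_QFQ_of_finite {Z : Sp S} (hZ : IsAlgSpace Z) {T : Over S}
    (g : Z ⟶ (yon S).obj T) (hqs : IsQuasiSeparatedMor g) (hlft : LocP @LocallyOfFiniteType g)
    [Finite (Points Z)] (z : Points Z) : HasAtMor QFQ g z := by
  have hdec : IsDecent Z := DecMono.isDecent_of_isQuasiSeparatedMor_to_scheme hZ g hqs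
  obtain ⟨U, a, u, hU, hae, hu⟩ := exists_affine_chart_through hZ z
  haveI : IsAffine U.left := hU
  haveI : Finite ↥U.left := finite_chart_of_isDecent_of_finite hdec a hae
  obtain ⟨h, hh⟩ := (yon S).map_surjective (a ≫ g)
  haveI : LocallyOfFiniteType h.left :=
    hlft a (𝟙 _) h hae (repWith_id @Etale _) (by rw [hh, Category.comp_id])
  haveI : LocallyQuasiFinite h.left :=
    LocallyQuasiFinite.of_finite_preimage_singleton h.left (fun _ => Set.toFinite _)
  exact ⟨U, T, a, 𝟙 _, h, u, hae, repWith_id @Etale _, by rw [hh, Category.comp_id], hu,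
    QFQ_of_quasiFiniteAt h.left u (h.left.quasiFiniteAt u)⟩

theorem main10750 {X Y : AlgSp.Space S}
    (f : X ⟶ Y) (hf : AlgSp.IsProperMor f.hom) (y : AlgSp.FieldPt Y.obj)
    (Xy : AlgSp.Sp S) (fst : Xy ⟶ X.obj) (snd : Xy ⟶ (AlgSp.yon S).obj y.pt)
    (hsq : IsPullback fst snd f.hom y.toHom) (hfin : Finite (AlgSp.Points Xy)) :
    ∃ (V : AlgSp.Space S) (j : V ⟶ Y), AlgSp.RepWith @IsOpenImmersion j.hom ∧
      AlgSp.Points.mk y ∈ Set.range (AlgSp.Points.map j.hom) ∧
        ∀ (P : AlgSp.Space S) (fst' : P ⟶ X) (snd' : P ⟶ V), IsPullback fst'.hom snd'.hom f.hom j.hom →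
          AlgSp.IsFiniteMor snd'.hom := by
  have hK : IsAlgSpace ((yon S).obj y.pt) := IsAlgSpace.yon_obj _
  have hXy : IsAlgSpace Xy := isAlgSpace_of_isPullback' Y.property X.property hK hsq
  have hqs : IsQuasiSeparatedMor snd :=
    repWith_diagonal_of_isPullback @QuasiCompact hsq (RDvr.isQuasiSeparatedMor_of_isSeparatedMor hf.1)
  have hlft : LocP @LocallyOfFiniteType snd :=
    locP_of_isPullback isEtLocal_locallyOfFiniteType X.property Y.property hK hXy f.hom y.toHom
      fst snd hsq hf.2.1.1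
  refine PropQF.main10650 f (Points.mk y) hf ?_
  intro x hx
  obtain ⟨z, hz, -⟩ := Points.exists_of_isPullback hsq x
    (Points.ofPt (𝟙 _) (IsLocalRing.closedPoint y.K)) (by
      rw [hx, Points.map_ofPt, Category.id_comp, Points.ofPt_toHom])
  have h1 := hasAtMor_QFQ_of_finite hXy snd hqs hlft z
  have h2 := (hasAtMor_QFQ_baseChange_iff X.property Y.property hXy hK f.hom y.toHom fst snd hsq
    hf.2.1.1 z).1 h1
  rw [hz] at h2
  exact h2

end Groth.Agent.Lib.Helper3.FinGeomFib
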