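import Groth.Agent.Lib.Helper3.GenDense10

set_option autoImplicit false
universe u w

namespace Groth.Agent.Lib.Helper3.FinOpen

open CategoryTheory CategoryTheory.Limits AlgebraicGeometry Opposite AlgSp
open Groth.Agent.Lib.Helper3 Groth.Agent.Lib.Helper3.RelNorm Groth.Agent.Lib.Helper3.GenFinSp
  Groth.Agent.Lib.Helper3.GenDense

variable {S : Scheme.{u}}

/-- A finite morphism of sheaves has finite fibres on points. -/
theorem finite_fibre_of_isFiniteMor {X Y : Sp S} (f : X ⟶ Y) (hf : IsFiniteMor f)
    (y : Points Y) : (Points.map f ⁻¹' {y}).Finite := by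
  obtain ⟨p, rfl⟩ := Points.mk_surjective y
  have hf' := (isFiniteMor_iff_repWith f).1 hf
  have sq := hf'.rep.isPullback p.toHom
  have hfin : IsFinite (hf'.rep.snd p.toHom).left := hf'.property_snd p.toHom
  have haff : IsAffine p.pt.left := by
    change IsAffine (Spec (CommRingCat.of p.K))
    infer_instance
  have hWa : IsAffine (hf'.rep.pullback p.toHom).left :=
    isAffine_of_isAffineHom (hf'.rep.snd p.toHom).left
  have hWf : Finite ↥(hf'.rep.pullback p.toHom).left := by
    have h := finite_preimage_singleton_of_compactSpace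
      (show (hf'.rep.pullback p.toHom).left ⟶ Spec (CommRingCat.of p.K) from
        (hf'.rep.snd p.toHom).left) (IsLocalRing.closedPoint p.K)
    have hsub : (Set.univ : Set ↥(hf'.rep.pullback p.toHom).left) ⊆
        (hf'.rep.snd p.toHom).left ⁻¹' {IsLocalRing.closedPoint p.K} := by
      intro w _
      have : Subsingleton ↥(Spec (CommRingCat.of p.K)) :=
        (inferInstance : Subsingleton (PrimeSpectrum p.K))
      exact Subsingleton.elim (α := ↥(Spec (CommRingCat.of p.K))) _ _
    exact Set.finite_univ_iff.1 (h.subset hsub)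
  have hPf : Finite (Points ((yon S).obj (hf'.rep.pullback p.toHom))) :=
    Finite.of_equiv _ (Points.schemeEquiv _)
  refine (Set.finite_range (Points.map (hf'.rep.fst p.toHom))).subset ?_
  intro x hx
  have hx' : Points.map f x = Points.mk p := hx
  have hxy : Points.map f x =
      Points.map p.toHom (Points.ofScheme p.pt (IsLocalRing.closedPoint p.K)) := by
    rw [Points.map_ofPt, Category.id_comp, Points.ofPt_toHom, hx']
  obtain ⟨t, ht, -⟩ := Points.exists_of_isPullback sq _ _ hxy
  exact ⟨t, ht⟩

end Groth.Agent.Lib.Helper3.FinOpen
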