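import Groth.Agent.Lib.Helper3.FinOpen1
import Groth.Agent.Lib.Helper3.AlgSpQC7
import Groth.Agent.Lib.Helper3.AlgSpLargestOpen
import Groth.Agent.Lib.Helper3.DecMonoQSep

set_option autoImplicit false
universe u w

namespace Groth.Agent.Lib.Helper3.FinOpen

open CategoryTheory CategoryTheory.Limits AlgebraicGeometry Opposite AlgSp
open Groth.Agent.Lib.Helper3 Groth.Agent.Lib.Helper3.RelNorm Groth.Agent.Lib.Helper3.GenFinSp
  Groth.Agent.Lib.Helper3.GenDense

variable {S : Scheme.{u}}

/-- If `X` is decent and the fibre of `f` over `y` is finite, then `f` is quasi-finite at every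
point of the fibre. -/
theorem qfAt_of_finite_fibre {X Y : Sp S} (hX : IsAlgSpace X) (hY : IsAlgSpace Y)
    (hXd : IsDecent X) (f : X ⟶ Y) (hft : LocP @LocallyOfFiniteType f) (y : Points Y)
    (hfin : (Points.map f ⁻¹' {y}).Finite) (x : Points X) (hx : Points.map f x = y) :
    ZmtGen.QfAt f x := by
  obtain ⟨V, b, v, hVa, hbe, hbv⟩ := exists_affine_chart_through hY y
  let prX : pullback f b ⟶ X := pullback.fst f b
  let pr₁ : pullback f b ⟶ (yon S).obj V := pullback.snd f b
  have sq₁ : IsPullback prX pr₁ f b := IsPullback.of_hasPullback f b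
  have hX₁ : IsAlgSpace (pullback f b) :=
    isAlgSpace_of_isPullback' hY hX (IsAlgSpace.yon_obj V) sq₁
  have hprXe : RepWith @Etale prX := MorphismProperty.of_isPullback sq₁.flip hbe
  have hxy : Points.map f x = Points.map b (Points.schemeHomeo V v) := by
    rw [hx, ← hbv]; rfl
  obtain ⟨z, hz1, hz2⟩ := Points.exists_of_isPullback sq₁ x _ hxy
  obtain ⟨U, c, u, hUa, hce, hcu⟩ := exists_affine_chart_through hX₁ z
  obtain ⟨h, hh⟩ := (yon S).map_surjective (c ≫ pr₁)
  have hae : RepWith @Etale (c ≫ prX) := MorphismProperty.comp_mem _ _ _ hce hprXe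
  have hcomm : (c ≫ prX) ≫ f = (yon S).map h ≫ b := by
    rw [Category.assoc, sq₁.w, ← Category.assoc, hh]
  have hlfth : LocallyOfFiniteType h.left := hft (c ≫ prX) b h hae hbe hcomm
  have hau : Points.ofPt (c ≫ prX) u = x := by
    rw [← Points.map_ofPt, hcu]; exact hz1
  have hfu : ∀ u' : ↥U.left, Points.map f (Points.ofPt (c ≫ prX) u') = Points.ofPt b (h.left u') := by
    intro u'
    rw [Points.map_ofPt, hcomm, SpUC.ofPt_comp_yon_map]
  have hhu : Points.ofPt b (h.left u) = y := by
    rw [← hfu, hau, hx]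
  have hUa' : IsAffine U.left := hUa
  have hfibre : (h.left ⁻¹' {h.left u}).Finite := by
    have hfib : ∀ x' ∈ Points.map f ⁻¹' {y},
        {w : ↥U.left | Points.ofPt (c ≫ prX) w = x'}.Finite := by
      intro x' _
      obtain ⟨p, hp, -, hpq⟩ := hXd x'
      have := Groth.Agent.Lib.lead.DecentFibre.finite_fibre_inter_affine p hpq (c ≫ prX) hae ⊤
        (isAffineOpen_top U.left)
      refine this.subset ?_
      intro w hw
      exact ⟨trivial, hw.trans hp.symm⟩
    refine (hfin.biUnion hfib).subset ?_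
    intro u' hu'
    have hu'' : h.left u' = h.left u := hu'
    simp only [Set.mem_iUnion, Set.mem_ofPred_eq, exists_prop]
    refine ⟨Points.ofPt (c ≫ prX) u', ?_, rfl⟩
    change Points.map f _ = y
    rw [hfu, hu'', hhu]
  have hq : h.left.QuasiFiniteAt u :=
    Groth.Agent.Lib.lead.GenFiniteCore.quasiFiniteAt_of_finite_fibre h.left u hfibre
  exact ⟨U, V, c ≫ prX, b, h, u, hae, hbe, hcomm, hau,
    Groth.Agent.Lib.lead.QFCodimSp.QFQ_of_quasiFiniteAt h.left u hq⟩

end Groth.Agent.Lib.Helper3.FinOpen
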