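import Groth.Agent.Lib.Helper3.FinOpen2
import Groth.Agent.S9937

set_option autoImplicit false
universe u w

namespace Groth.Agent.Lib.Helper3.FinOpen

open CategoryTheory CategoryTheory.Limits AlgebraicGeometry Opposite AlgSp
open Groth.Agent.Lib.Helper3 Groth.Agent.Lib.Helper3.RelNorm Groth.Agent.Lib.Helper3.GenFinSp
  Groth.Agent.Lib.Helper3.GenDense

variable {S : Scheme.{u}}

theorem isQuasiSeparatedMor_comp {X Y Z : Sp S} {f : X ⟶ Y} {g : Y ⟶ Z}
    (hf : IsQuasiSeparatedMor f) (hg : IsQuasiSeparatedMor g) : IsQuasiSeparatedMor (f ≫ g) := by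
  have h1 : (RepWith (S := S) @QuasiCompact).diagonal f := hf
  have h2 : (RepWith (S := S) @QuasiCompact).diagonal g := hg
  exact MorphismProperty.comp_mem (RepWith (S := S) @QuasiCompact).diagonal f g h1 h2

/-- `(⟸)` of S10446. -/
theorem finite_fibre_of_finite_over_open {X Y X' Y' : Sp S} (f : X ⟶ Y) (i : X' ⟶ X)
    (j : Y' ⟶ Y) (f' : X' ⟶ Y') [Mono j] (hcomm : f' ≫ j = i ≫ f) (y : Points Y)
    (hy : y ∈ Set.range (Points.map j))
    (hfib : Points.map f ⁻¹' {y} ⊆ Set.range (Points.map i)) (hfin : IsFiniteMor f') :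
    (Points.map f ⁻¹' {y}).Finite := by
  obtain ⟨y', rfl⟩ := hy
  refine ((finite_fibre_of_isFiniteMor f' hfin y').image (Points.map i)).subset ?_
  intro x hx
  obtain ⟨x', rfl⟩ := hfib hx
  refine ⟨x', ?_, rfl⟩
  apply Points.map_injective_of_mono j
  rw [← Points.map_comp, hcomm, Points.map_comp]
  exact hx

/-- `(⟹)` of S10446. -/
theorem exists_finite_over_open [QuasiSeparatedSpace ↥S] {X Y : AlgSp.Space S} (f : X ⟶ Y)
    (hqs : AlgSp.IsQuasiSeparatedMor f.hom) (hft : AlgSp.LocP @LocallyOfFiniteType f.hom)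
    (hY : AlgSp.IsQuasiSeparatedSp Y.obj) (y : AlgSp.Points Y.obj)
    (hy : AlgSp.HasAt (fun U u => ringKrullDim ↥(U.presheaf.stalk u) = 0) Y.obj y)
    (hfin : (AlgSp.Points.map f.hom ⁻¹' {y}).Finite) :
    ∃ (X' Y' : AlgSp.Space S) (i : X' ⟶ X) (j : Y' ⟶ Y) (f' : X' ⟶ Y'),
      AlgSp.RepWith @IsOpenImmersion i.hom ∧
      AlgSp.RepWith @IsOpenImmersion j.hom ∧ f' ≫ j = i ≫ f ∧
      y ∈ Set.range (AlgSp.Points.map j.hom) ∧
      AlgSp.Points.map f.hom ⁻¹' {y} ⊆ Set.range (AlgSp.Points.map i.hom) ∧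
      AlgSp.IsFiniteMor f'.hom := by
  have hYd : IsDecent Y.obj := DecMono.isDecent_of_isQuasiSeparatedSp Y.property hY
  -- a quasi-compact open containing the fibre
  obtain ⟨U, c, hUa, hce, hFU⟩ := exists_affine_chart_covering X.property _ hfin
  let Ωx : Set (Points X.obj) := Set.range (Points.ofPt c)
  have hΩx : IsOpen Ωx := by
    change IsOpen (Set.range (Points.ofPt c))
    rw [← range_map_eq_range_ofPt]
    exact (isOpenMap_map_of_etale hce).isOpen_range
  have hi : RepWith @IsOpenImmersion (openSubι X.obj Ωx) :=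
    repWith_isOpenImmersion_openSubι X.obj Ωx hΩx
  have hX' : IsAlgSpace (openSub X.obj Ωx) := isAlgSpace_openSub X.property Ωx hΩx
  have himono : Mono (openSubι X.obj Ωx) := mono_of_repWith_isOpenImmersion _ hi
  obtain ⟨c', hc'i, hc'e, hc's, -⟩ := exists_factor_surjective_etale c hce (openSubι X.obj Ωx) hi
    (range_map_openSubι X.obj Ωx)
  have hUa' : IsAffine U.left := hUa
  have hX'qc : IsQuasiCompactSp (openSub X.obj Ωx) := ⟨U, c', hc'e, hc's, inferInstance⟩
  -- the restricted morphism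
  let g : openSub X.obj Ωx ⟶ Y.obj := openSubι X.obj Ωx ≫ f.hom
  have hgqc : IsQuasiCompactMor g :=
    isQuasiCompactMor_of_isQuasiCompactSp_of_isQuasiSeparatedSp hX' g hX'qc hY
  have hglft : LocP @LocallyOfFiniteType g := locP_precomp_openImm _ f.hom hi hft
  have hgqs : IsQuasiSeparatedMor g :=
    isQuasiSeparatedMor_comp (RDvr.isQuasiSeparatedMor_of_isSeparatedMor
      (Groth.Agent.S9937.isSeparatedMor_of_mono (openSubι X.obj Ωx))) hqs
  have hX'd : IsDecent (openSub X.obj Ωx) := isDecent_of_isDecentMor g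
    (DecMono.isDecentMor_of_isQuasiSeparatedMor hX' Y.property g hgqs) hYd
  have hgfin : (Points.map g ⁻¹' {y}).Finite := by
    refine Set.Finite.of_finite_image (f := Points.map (openSubι X.obj Ωx)) (hfin.subset ?_)
      ((Points.map_injective_of_mono (openSubι X.obj Ωx)).injOn)
    rintro _ ⟨x', hx', rfl⟩
    change Points.map f.hom _ = y
    rw [← Points.map_comp]
    exact hx'
  have hgqf : ∀ x : Points (openSub X.obj Ωx), Points.map g x = y → ZmtGen.QfAt g x :=
    fun x hx => qfAt_of_finite_fibre hX' Y.property hX'd g hglft y hgfin x hx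
  obtain ⟨Y', X'', j, fst, snd, hj, hyj, sq, hfst⟩ :=
    main10398 (X := ⟨openSub X.obj Ωx, hX'⟩) (Y := Y) (ObjectProperty.homMk g) hgqs
      ⟨hglft, hgqc⟩ y hy hgqf
  have hsnd : RepWith @IsOpenImmersion snd.hom := MorphismProperty.of_isPullback sq hj
  refine ⟨X'', Y', snd ≫ ObjectProperty.homMk (openSubι X.obj Ωx), j, fst,
    MorphismProperty.comp_mem _ _ _ hsnd hi, hj, ?_, hyj, ?_, hfst⟩
  · apply ObjectProperty.hom_ext
    change fst.hom ≫ j.hom = (snd.hom ≫ openSubι X.obj Ωx) ≫ f.hom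
    rw [sq.w, Category.assoc]
    rfl
  · intro x hx
    have hxΩ : x ∈ Set.range (Points.map (openSubι X.obj Ωx)) := by
      rw [range_map_openSubι]
      exact hFU hx
    obtain ⟨x', rfl⟩ := hxΩ
    obtain ⟨y', hy'⟩ := hyj
    have hxy : Points.map j.hom y' = Points.map g x' := by
      rw [hy', Points.map_comp]
      exact hx.symm
    obtain ⟨z, -, hz⟩ := Points.exists_of_isPullback sq y' x' hxy
    refine ⟨z, ?_⟩
    change Points.map (snd.hom ≫ openSubι X.obj Ωx) z = _
    rw [Points.map_comp, hz]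

end Groth.Agent.Lib.Helper3.FinOpen
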