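import Groth.Agent.Lib.Helper3.SchImQC4
import Mathlib.CategoryTheory.Limits.Shapes.Pullback.Equalizer
set_option autoImplicit false
universe u
open CategoryTheory CategoryTheory.Limits AlgebraicGeometry Opposite AlgSp

namespace Groth.Agent.Lib.Helper3.FixedPts

variable {S : Scheme.{u}}

/-- The closed subspace of a separated algebraic space fixed by finitely many automorphisms. -/
theorem exists_fixed_of_finset (F : Sp S) (hF : IsAlgSpace F) (hsep : IsSeparatedSp F)
    {G : Type u} (ρ : G → Aut F) (s : Finset G) :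
    ∃ (Z : Sp S) (i : Z ⟶ F), IsAlgSpace Z ∧ RepWith @IsClosedImmersion i ∧
      (∀ (W : Sp S) (x : W ⟶ F), (∀ g ∈ s, x ≫ (ρ g).hom = x) → ∃ z : W ⟶ Z, z ≫ i = x) ∧
      ∀ g ∈ s, i ≫ (ρ g).hom = i := by
  classical
  induction s using Finset.induction_on with
  | empty =>
    refine ⟨F, 𝟙 F, hF, ?_, fun W x _ => ⟨x, Category.comp_id _⟩, fun g hg => by simp at hg⟩
    exact Groth.Agent.S9937.repWith_of_isIso @IsClosedImmersion (fun k _ => inferInstance) (𝟙 F)
  | insert g s hg ih =>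
    obtain ⟨Z₀, i₀, hZ₀, hi₀, hlift, hinv⟩ := ih
    have sqE := isPullback_equalizer_prod (𝟙 F) (ρ g).hom
    have hι : RepWith @IsClosedImmersion (equalizer.ι (𝟙 F) (ρ g).hom) :=
      MorphismProperty.of_isPullback sqE.flip hsep
    have sqP := IsPullback.of_hasPullback i₀ (equalizer.ι (𝟙 F) (ρ g).hom)
    have hfst : RepWith @IsClosedImmersion (pullback.fst i₀ (equalizer.ι (𝟙 F) (ρ g).hom)) :=
      MorphismProperty.of_isPullback sqP.flip hι
    have hcomp : RepWith @IsClosedImmersion (pullback.fst i₀ (equalizer.ι (𝟙 F) (ρ g).hom) ≫ i₀) :=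
      MorphismProperty.comp_mem _ _ _ hfst hi₀
    have hmono : Mono (pullback.fst i₀ (equalizer.ι (𝟙 F) (ρ g).hom) ≫ i₀) :=
      SchIm.mono_of_closedImmersion _ hcomp
    refine ⟨pullback i₀ (equalizer.ι (𝟙 F) (ρ g).hom), pullback.fst _ _ ≫ i₀, ?_, hcomp, ?_, ?_⟩
    · exact isAlgSpace_of_mono_representable hF _ hcomp.1
    · intro W x hx
      obtain ⟨z₀, hz₀⟩ := hlift W x (fun g' hg' => hx g' (Finset.mem_insert_of_mem hg'))
      have hxg : x ≫ (ρ g).hom = x := hx g (Finset.mem_insert_self g s)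
      refine ⟨pullback.lift z₀ (equalizer.lift x (by rw [Category.comp_id, hxg])) ?_, ?_⟩
      · rw [hz₀, equalizer.lift_ι]
      · rw [← Category.assoc, pullback.lift_fst, hz₀]
    · intro g' hg'
      rcases Finset.mem_insert.1 hg' with rfl | hg'
      · rw [pullback.condition, Category.assoc, ← equalizer.condition, Category.comp_id]
      · rw [Category.assoc, hinv g' hg']

end Groth.Agent.Lib.Helper3.FixedPts

namespace Groth.Agent.Lib.Helper3.FixedPts

variable {S : Scheme.{u}}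

theorem fixedPoints_isAlgSpace_and_isClosedImmersion (F : Sp S) (hF : IsAlgSpace F)
    (hsep : IsSeparatedSp F) (G : Type u) [Group G] [Finite G] (ρ : G →* Aut F)
    (Z : Sp S) (i : Z ⟶ F) (hi : ∀ g : G, i ≫ (ρ g).hom = i)
    (huniv : ∀ (W : Sp S) (x : W ⟶ F), (∀ g : G, x ≫ (ρ g).hom = x) → ∃! z : W ⟶ Z, z ≫ i = x) :
    IsAlgSpace Z ∧ RepWith @IsClosedImmersion i := by
  have : Fintype G := Fintype.ofFinite G
  obtain ⟨Z₁, i₁, hZ₁, hi₁, hlift, hinv⟩ := exists_fixed_of_finset F hF hsep (fun g => ρ g) Finset.univ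
  have hmono₁ : Mono i₁ := SchIm.mono_of_closedImmersion _ hi₁
  have hmono : Mono i := ⟨fun {W} a b hab => by
    have hx : ∀ g : G, (a ≫ i) ≫ (ρ g).hom = a ≫ i := fun g => by rw [Category.assoc, hi g]
    obtain ⟨z, -, hz⟩ := huniv W (a ≫ i) hx
    rw [hz a rfl, hz b hab.symm]⟩
  obtain ⟨k, hk⟩ := hlift Z i (fun g _ => hi g)
  obtain ⟨k', hk', -⟩ := huniv Z₁ i₁ (fun g => hinv g (Finset.mem_univ g))
  let e : Z ≅ Z₁ := ⟨k, k', by rw [← cancel_mono i, Category.assoc, hk', hk, Category.id_comp],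
    by rw [← cancel_mono i₁, Category.assoc, hk, hk', Category.id_comp]⟩
  refine ⟨hZ₁.of_iso e.symm, ?_⟩
  rw [← hk]
  have hiso : IsIso k := e.isIso_hom
  exact MorphismProperty.RespectsIso.precomp _ k _ hi₁

end Groth.Agent.Lib.Helper3.FixedPts
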