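import Mathlib.RingTheory.Flat.FaithfullyFlat.Algebra
import Mathlib.RingTheory.Flat.Stability
import Mathlib.RingTheory.RingHom.Flat
import Mathlib.RingTheory.RingHom.FaithfullyFlat

set_option autoImplicit false
universe u
open TensorProduct

namespace Groth.Agent.Lib.Helper3

/-- If `C` is flat over `A` and faithfully flat over `B`, then `B` is flat over `A`. -/
theorem flat_of_flat_of_faithfullyFlat (A B C : Type u) [CommRing A] [CommRing B] [CommRing C]
    [Algebra A B] [Algebra B C] [Algebra A C] [IsScalarTower A B C] [Module.FaithfullyFlat B C]
    [Module.Flat A C] : Module.Flat A B := by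
  rw [Module.Flat.iff_lTensor_preserves_injective_linearMap]
  intro N N' _ _ _ _ f hf
  have h1 : Function.Injective (f.lTensor C) :=
    Module.Flat.lTensor_preserves_injective_linearMap f hf
  have h2 : Function.Injective (f.baseChange B) := by
    rw [← Module.FaithfullyFlat.lTensor_injective_iff_injective B C]
    have hcomm : ∀ x : C ⊗[B] (B ⊗[A] N),
        AlgebraTensorModule.cancelBaseChange A B B C N' ((f.baseChange B).lTensor C x) =
          f.lTensor C (AlgebraTensorModule.cancelBaseChange A B B C N x) := by
      intro x
      induction x using TensorProduct.induction_on with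
      | zero => simp
      | add x y hx hy => simp only [map_add, hx, hy]
      | tmul c y =>
        induction y using TensorProduct.induction_on with
        | zero => simp
        | add y z hy hz => simp only [tmul_add, map_add, hy, hz]
        | tmul b n => simp
    intro x y hxy
    apply (AlgebraTensorModule.cancelBaseChange A B B C N).injective
    apply h1
    rw [← hcomm, ← hcomm, hxy]
  exact h2

/-- Ring hom version. -/
theorem RingHom.Flat.of_comp_faithfullyFlat {A B C : Type u} [CommRing A] [CommRing B]
    [CommRing C] (φ : A →+* B) (ψ : B →+* C) (hψ : ψ.FaithfullyFlat) (h : (ψ.comp φ).Flat) :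
    φ.Flat := by
  algebraize [φ, ψ, ψ.comp φ]
  exact flat_of_flat_of_faithfullyFlat A B C

end Groth.Agent.Lib.Helper3
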