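import Mathlib
import Groth.Prelude.Def_CAlg
import Groth.Agent.Lib.Helper24.OpenAt.SurjDim
import Groth.Agent.Lib.Helper21.TightKitB
import Groth.Agent.Lib.Helper5.SerreLoc
import Groth.Agent.Lib.Helper7.FibreRegOpen

set_option autoImplicit false
universe u

namespace Groth.Agent.Lib.Helper3.Slice

open IsLocalRing RingTheory.Sequence

set_option backward.isDefEq.respectTransparency false

theorem le_of_add_one_le {x : WithBot ℕ∞} {n : ℕ} (h : x + 1 ≤ (n : WithBot ℕ∞) + 1) :
    x ≤ n := by
  induction x with
  | bot => exact bot_le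
  | coe a =>
    have h' : ((a + 1 : ℕ∞) : WithBot ℕ∞) ≤ (((n : ℕ∞) + 1 : ℕ∞) : WithBot ℕ∞) := by
      exact_mod_cast h
    rw [WithBot.coe_le_coe] at h'
    have h2 : a ≤ (n : ℕ∞) := (ENat.add_le_add_iff_right ENat.one_ne_top).mp h'
    exact_mod_cast h2

/-- parameters chosen from the image of an ideal generating a primary ideal -/
theorem exists_list_primary {A : Type u} [CommRing A] (m : Ideal A) :
    ∀ (n : ℕ) (C : Type u) [CommRing C] [IsLocalRing C] [IsNoetherianRing C] (φ : A →+* C),
      ringKrullDim C ≤ n → m.map φ ≤ maximalIdeal C →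
      (∀ P : Ideal C, P.IsPrime → m.map φ ≤ P → P = maximalIdeal C) →
      ∃ L : List A, L.length ≤ n ∧ (∀ a ∈ L, a ∈ m) ∧
        ∀ P : Ideal C, P.IsPrime → Ideal.ofList (L.map φ) ≤ P → P = maximalIdeal C := by
  intro n
  induction n with
  | zero =>
    intro C _ _ _ φ hdim hle hprim
    refine ⟨[], le_rfl, by simp, fun P hP _ => ?_⟩
    haveI : Ring.KrullDimLE 0 C := by
      rw [Ring.KrullDimLE, Order.krullDimLE_iff]
      exact hdim
    haveI := hP
    exact IsLocalRing.eq_maximalIdeal (Ideal.IsPrime.isMaximal' (I := P) hP)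
  | succ n ih =>
    intro C _ _ _ φ hdim hle hprim
    by_cases hmin : maximalIdeal C ∈ minimalPrimes C
    · refine ⟨[], Nat.zero_le _, by simp, fun P hP _ => ?_⟩
      have hle : P ≤ maximalIdeal C := IsLocalRing.le_maximalIdeal hP.ne_top
      rw [minimalPrimes_eq_minimals] at hmin
      exact le_antisymm hle (hmin.2 hP hle)
    · -- prime avoidance
      have hfin : (minimalPrimes C).Finite := minimalPrimes.finite_of_isNoetherianRing C
      have hnot : ¬ ((m : Set A) ⊆ ⋃ p ∈ (hfin.toFinset : Set (Ideal C)),
          ((p.comap φ : Ideal A) : Set A)) := by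
        rw [Ideal.subset_union_prime (R := A) (s := hfin.toFinset) (f := fun p => p.comap φ)
          (maximalIdeal C) (maximalIdeal C)]
        · rintro ⟨p, hp, hmp⟩
          rw [Set.Finite.mem_toFinset] at hp
          haveI := hp.1.1
          have := hprim p hp.1.1 (Ideal.map_le_iff_le_comap.mpr hmp)
          exact hmin (this ▸ hp)
        · intro p hp _ _
          rw [Set.Finite.mem_toFinset] at hp
          haveI := hp.1.1
          exact Ideal.comap_isPrime φ p
      obtain ⟨f, hfm, hf⟩ := Set.not_subset.mp hnot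
      have hf' : ∀ p ∈ minimalPrimes C, φ f ∉ p := by
        intro p hp hfp
        apply hf
        simp only [Set.mem_iUnion]
        exact ⟨p, by simpa using hp, hfp⟩
      have hfmax : φ f ∈ maximalIdeal C := hle (Ideal.mem_map_of_mem φ hfm)
      -- the quotient
      set J : Ideal C := Ideal.span {φ f} with hJ
      have hJle : J ≤ maximalIdeal C := by
        rw [hJ, Ideal.span_le]
        intro y hy
        rw [Set.mem_singleton_iff] at hy
        rw [hy]; exact hfmax
      have hJne : J ≠ ⊤ := fun h => (maximalIdeal.isMaximal C).ne_top (top_le_iff.mp (h ▸ hJle))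
      haveI : Nontrivial (C ⧸ J) := Ideal.Quotient.nontrivial_iff.2 hJne
      haveI : IsLocalRing (C ⧸ J) :=
        IsLocalRing.of_surjective' (Ideal.Quotient.mk J) Ideal.Quotient.mk_surjective
      have hdim' : ringKrullDim (C ⧸ J) ≤ n := by
        have h1 := Groth.Agent.Lib.Helper24.OpenAt.ringKrullDim_quotient_succ_le_of_notMem_minimalPrimes
          hf'
        have h2 : ringKrullDim (C ⧸ J) + 1 ≤ ((n : ℕ) : WithBot ℕ∞) + 1 := by
          refine h1.trans (hdim.trans ?_)
          push_cast
          exact le_rfl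
        exact le_of_add_one_le h2
      set mk := Ideal.Quotient.mk J with hmk
      have hmksurj : Function.Surjective mk := Ideal.Quotient.mk_surjective
      haveI : IsLocalHom mk := IsLocalHom.of_surjective _ hmksurj
      have hle₁ : m.map (mk.comp φ) ≤ maximalIdeal (C ⧸ J) := by
        rw [Ideal.map_le_iff_le_comap]
        intro a ha
        rw [Ideal.mem_comap, RingHom.comp_apply, mem_maximalIdeal, mem_nonunits_iff]
        intro hu
        have h1 : φ a ∈ maximalIdeal C := hle (Ideal.mem_map_of_mem φ ha)
        rw [mem_maximalIdeal, mem_nonunits_iff] at h1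
        exact h1 (isUnit_of_map_unit mk _ hu)
      have hcomapmax : (maximalIdeal (C ⧸ J)).comap mk = maximalIdeal C := by
        apply hprim _ (Ideal.comap_isPrime _ _)
        rw [Ideal.map_le_iff_le_comap]
        intro a ha
        rw [Ideal.mem_comap, Ideal.mem_comap]
        exact hle₁ (Ideal.mem_map_of_mem (mk.comp φ) ha)
      have hprim₁ : ∀ P₁ : Ideal (C ⧸ J), P₁.IsPrime → m.map (mk.comp φ) ≤ P₁ →
          P₁ = maximalIdeal (C ⧸ J) := by
        intro P₁ hP₁ hmP₁
        have h1 : P₁.comap mk = maximalIdeal C := by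
          apply hprim _ (Ideal.comap_isPrime _ _)
          rw [Ideal.map_le_iff_le_comap]
          intro a ha
          rw [Ideal.mem_comap, Ideal.mem_comap]
          exact hmP₁ (Ideal.mem_map_of_mem (mk.comp φ) ha)
        rw [← Ideal.map_comap_of_surjective mk hmksurj P₁, h1, ← hcomapmax,
          Ideal.map_comap_of_surjective mk hmksurj]
      obtain ⟨L₁, hlen, hLm, hL⟩ := ih (C ⧸ J) (mk.comp φ) hdim' hle₁ hprim₁
      refine ⟨f :: L₁, by simpa using hlen, ?_, ?_⟩
      · intro a ha
        rcases List.mem_cons.mp ha with rfl | ha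
        · exact hfm
        · exact hLm a ha
      · intro P hP hLP
        have hfP : φ f ∈ P := hLP (Ideal.subset_span (by simp))
        have hJP : J ≤ P := by
          rw [hJ, Ideal.span_le]
          intro y hy
          rw [Set.mem_singleton_iff] at hy
          rw [hy]; exact hfP
        have hker : RingHom.ker mk ≤ P := by rw [hmk, Ideal.mk_ker]; exact hJP
        haveI hP₁ : (P.map mk).IsPrime := Ideal.map_isPrime_of_surjective hmksurj hker
        have h2 : Ideal.ofList (L₁.map (mk.comp φ)) ≤ P.map mk := by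
          rw [Ideal.ofList, Ideal.span_le]
          intro y hy
          obtain ⟨a, ha, rfl⟩ := List.mem_map.mp hy
          exact Ideal.mem_map_of_mem mk (hLP (Ideal.subset_span
            (List.mem_map.mpr ⟨a, List.mem_cons_of_mem _ ha, rfl⟩)))
        have h3 := hL _ hP₁ h2
        have h4 : (P.map mk).comap mk = P := by
          rw [Ideal.comap_map_of_surjective mk hmksurj, ← RingHom.ker_eq_comap_bot,
            sup_eq_left.mpr hker]
        rw [← h4, h3, hcomapmax]

/-- in a Cohen–Macaulay local ring, a primary ideal generated by the image of an ideal contains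
a primary regular sequence coming from that ideal -/
theorem exists_list_regular_primary {A : Type u} [CommRing A] (m : Ideal A) (C : Type u)
    [CommRing C] [hCM : LocCoh.IsCohenMacaulayLocalRing C] (φ : A →+* C)
    (hle : m.map φ ≤ maximalIdeal C)
    (hprim : ∀ P : Ideal C, P.IsPrime → m.map φ ≤ P → P = maximalIdeal C) :
    ∃ L : List A, (∀ a ∈ L, a ∈ m) ∧ IsWeaklyRegular C (L.map φ) ∧
      ∀ P : Ideal C, P.IsPrime → Ideal.ofList (L.map φ) ≤ P → P = maximalIdeal C := by
  obtain ⟨d, hd⟩ := Groth.Agent.Lib.Helper5.SerreLoc.exists_finite_ringKrullDim C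
  obtain ⟨L, hlen, hLm, hL⟩ := exists_list_primary m d C φ hd.le hle hprim
  refine ⟨L, hLm, ?_, hL⟩
  have hm : ∀ r ∈ L.map φ, r ∈ maximalIdeal C := by
    intro r hr
    obtain ⟨a, ha, rfl⟩ := List.mem_map.mp hr
    exact hle (Ideal.mem_map_of_mem φ (hLm a ha))
  have hleI : Ideal.ofList (L.map φ) ≤ maximalIdeal C := Ideal.span_le.mpr hm
  have hrad : (Ideal.ofList (L.map φ)).radical = maximalIdeal C := by
    rw [Ideal.radical_eq_sInf]
    apply le_antisymm
    · exact sInf_le ⟨hleI, inferInstance⟩
    · refine le_sInf fun J hJ => ?_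
      rw [hL J hJ.2 hJ.1]
  have h0 := Groth.Agent.Lib.Helper21.TightKit.ringKrullDim_quot_eq_zero_of_radical _ hrad
  have hreg : IsRegular C (L.map φ) := by
    rw [Groth.Agent.Lib.Helper7.FibreRegOpen.isRegular_iff_dim C (L.map φ) hm, h0, hd, zero_add,
      List.length_map]
    exact_mod_cast hlen
  exact hreg.toIsWeaklyRegular

end Groth.Agent.Lib.Helper3.Slice
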