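import Mathlib
import Groth.Agent.Lib.Helper5.KLJ
import Groth.Agent.Lib.Helper3.FlatCancel

set_option autoImplicit false
universe u

namespace Groth.Agent.Lib.Helper3.Slice

open AlgebraicGeometry CategoryTheory Limits

set_option backward.isDefEq.respectTransparency false

theorem isOpen_singleton_asFiber_of_eq {X Z : Scheme.{u}} (f : X ⟶ Z) (x : X) (z : Z)
    (hz : f x = z) (w : f.fiber z) (hw : f.fiberι z w = x) (ho : IsOpen ({w} : Set (f.fiber z))) :
    IsOpen ({f.asFiber x} : Set (f.fiber (f x))) := by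
  subst hz
  have : w = f.asFiber x :=
    (f.fiberι _).isEmbedding.injective (hw.trans (f.fiberι_asFiber x).symm)
  subst this
  exact ho

/-- quasi-finiteness at a point descends along arbitrary base change -/
theorem quasiFiniteAt_of_isPullback {P X Y Z : Scheme.{u}} {fst : P ⟶ X} {snd : P ⟶ Y}
    {f : X ⟶ Z} {g : Y ⟶ Z} (h : IsPullback fst snd f g) [LocallyOfFiniteType f] (p : P)
    (hp : snd.QuasiFiniteAt p) : f.QuasiFiniteAt (fst p) := by
  haveI : LocallyOfFiniteType snd := MorphismProperty.of_isPullback h inferInstance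
  rw [Scheme.Hom.quasiFiniteAt_iff_isOpen_singleton_asFiber] at hp ⊢
  set y := snd p with hy
  have sq := isPullback_fiberToSpecResidueField_of_isPullback h y
  set φ := pullback.map snd (Y.fromSpecResidueField y) f (Z.fromSpecResidueField (g y)) fst
    (Spec.map (g.residueFieldMap y)) g h.w.symm (by simp) with hφ
  haveI : UniversallyOpen (Spec.map (g.residueFieldMap y)) := inferInstance
  haveI : UniversallyOpen φ := MorphismProperty.of_isPullback sq.flip inferInstance
  have hopen : IsOpen (φ '' {snd.asFiber p}) := φ.isOpenMap _ hp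
  rw [Set.image_singleton] at hopen
  refine isOpen_singleton_asFiber_of_eq f (fst p) (g y) ?_ _ ?_ hopen
  · have := congrArg (fun k => k p) h.w
    simpa using this
  · have h1 : φ ≫ f.fiberι (g y) = snd.fiberι y ≫ fst := by
      rw [hφ]; exact pullback.lift_fst _ _ _
    have h2 := congrArg (fun k => k (snd.asFiber p)) h1
    simp only [Scheme.Hom.comp_apply] at h2
    exact h2.trans (congrArg fst (snd.fiberι_asFiber p))

open Groth.Agent.Lib.Helper5.KL

/-- the largest open on which a morphism lfp is flat and locally quasi-finite -/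
noncomputable def Wfq {X Y : Scheme.{u}} (f : X ⟶ Y) (hf : LocallyOfFinitePresentation f) :
    X.Opens :=
  haveI := hf
  flatLocus f ⊓ f.quasiFiniteLocus

theorem mem_Wfq {X Y : Scheme.{u}} (f : X ⟶ Y) (hf : LocallyOfFinitePresentation f) (x : X) :
    x ∈ Wfq f hf ↔ (f.stalkMap x).hom.Flat ∧ f.QuasiFiniteAt x := Iff.rfl

theorem flat_stalkMap_of_comp_ι {X Y : Scheme.{u}} (f : X ⟶ Y) (V : X.Opens) (v : V)
    (h : ((V.ι ≫ f).stalkMap v).hom.Flat) : (f.stalkMap (V.ι v)).hom.Flat := by
  rw [Scheme.Hom.stalkMap_comp] at h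
  let ε : X.presheaf.stalk (V.ι v) ≃+* (V : Scheme.{u}).presheaf.stalk v :=
    (asIso (V.ι.stalkMap v)).commRingCatIsoToRingEquiv
  have hε : (ε : X.presheaf.stalk (V.ι v) →+* _) = (V.ι.stalkMap v).hom := rfl
  have h3 : (f.stalkMap (V.ι v)).hom =
      (ε.symm : _ →+* X.presheaf.stalk (V.ι v)).comp
        (f.stalkMap (V.ι v) ≫ V.ι.stalkMap v).hom := by
    rw [CommRingCat.hom_comp, ← hε]
    ext a
    exact (ε.symm_apply_apply _).symm
  rw [h3]
  exact RingHom.Flat.comp h (RingHom.Flat.of_bijective ε.symm.bijective)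

theorem Wfq_prop {X Y : Scheme.{u}} (f : X ⟶ Y) (hf : LocallyOfFinitePresentation f) :
    (@Flat ⊓ @LocallyQuasiFinite : MorphismProperty Scheme.{u}) ((Wfq f hf).ι ≫ f) := by
  haveI := hf
  constructor
  · have h1 : Wfq f hf ≤ flatLocus f := inf_le_left
    have : (Wfq f hf).ι ≫ f = X.homOfLE h1 ≫ (flatLocus f).ι ≫ f := by
      rw [← Category.assoc, Scheme.homOfLE_ι]
    show Flat ((Wfq f hf).ι ≫ f)
    rw [this]
    haveI := flat_flatLocus f
    infer_instance
  · have h1 : Wfq f hf ≤ f.quasiFiniteLocus := inf_le_right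
    have : (Wfq f hf).ι ≫ f = X.homOfLE h1 ≫ f.quasiFiniteLocus.ι ≫ f := by
      rw [← Category.assoc, Scheme.homOfLE_ι]
    show LocallyQuasiFinite ((Wfq f hf).ι ≫ f)
    rw [this]
    infer_instance

theorem Wfq_max {X Y : Scheme.{u}} (f : X ⟶ Y) (hf : LocallyOfFinitePresentation f) (V : X.Opens)
    (hV : (@Flat ⊓ @LocallyQuasiFinite : MorphismProperty Scheme.{u}) (V.ι ≫ f)) :
    V ≤ Wfq f hf := by
  haveI := hf
  obtain ⟨h1, h2⟩ := hV
  haveI : Flat (V.ι ≫ f) := h1
  haveI : LocallyQuasiFinite (V.ι ≫ f) := h2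
  intro v hv
  refine ⟨?_, ?_⟩
  · exact flat_stalkMap_of_comp_ι f V ⟨v, hv⟩ (Flat.stalkMap (V.ι ≫ f) ⟨v, hv⟩)
  · have h3 := Scheme.Hom.quasiFiniteLocus_eq_top (f := V.ι ≫ f)
    rw [Scheme.Hom.quasiFiniteLocus_comp] at h3
    have h4 : (⟨v, hv⟩ : V) ∈ (V.ι ⁻¹ᵁ f.quasiFiniteLocus) := by rw [h3]; trivial
    exact h4

theorem Wfq_bc {X Y Y' : Scheme.{u}} (f : X ⟶ Y) (hf : LocallyOfFinitePresentation f) (b : Y' ⟶ Y)
    (hb : (@Flat ⊓ @LocallyOfFinitePresentation : MorphismProperty Scheme.{u}) b)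
    (hf' : LocallyOfFinitePresentation (pullback.snd f b)) :
    pullback.fst f b ⁻¹ᵁ Wfq f hf = Wfq (pullback.snd f b) hf' := by
  haveI := hf
  haveI := hf'
  haveI : Flat b := hb.1
  haveI : LocallyOfFinitePresentation b := hb.2
  apply le_antisymm
  · apply Wfq_max
    have sq : IsPullback (pullback.fst f b ∣_ Wfq f hf)
        ((pullback.fst f b ⁻¹ᵁ Wfq f hf).ι ≫ pullback.snd f b) ((Wfq f hf).ι ≫ f) b :=
      ((isPullback_morphismRestrict (pullback.fst f b) (Wfq f hf)).flip.paste_horiz
        (IsPullback.of_hasPullback f b).flip).flip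
    exact MorphismProperty.of_isPullback sq (Wfq_prop f hf)
  · intro x' hx'
    obtain ⟨h1, h2⟩ := hx'
    refine ⟨?_, ?_⟩
    · have h3 : (b.stalkMap (pullback.snd f b x')).hom.Flat := Flat.stalkMap b _
      have h4 : ((pullback.snd f b ≫ b).stalkMap x').hom.Flat := by
        rw [Scheme.Hom.stalkMap_comp]
        exact RingHom.Flat.comp h3 h1
      rw [← pullback.condition] at h4
      rw [Scheme.Hom.stalkMap_comp] at h4
      have h5 : ((pullback.fst f b).stalkMap x').hom.FaithfullyFlat := by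
        have h6 : ((pullback.fst f b).stalkMap x').hom.Flat := Flat.stalkMap _ x'
        algebraize [((pullback.fst f b).stalkMap x').hom]
        have : IsLocalHom (algebraMap (X.presheaf.stalk (pullback.fst f b x'))
            ((pullback f b).presheaf.stalk x')) := by
          rw [RingHom.algebraMap_toAlgebra]
          infer_instance
        exact Module.FaithfullyFlat.of_flat_of_isLocalHom
      exact RingHom.Flat.of_comp_faithfullyFlat _ _ h5 h4
    · exact quasiFiniteAt_of_isPullback (IsPullback.of_hasPullback f b) x' h2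

end Groth.Agent.Lib.Helper3.Slice
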