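import Mathlib
import Groth.Prelude.Def_Grpd
import Groth.Agent.S7510
import Groth.Agent.Lib.Helper3.SliceC

set_option autoImplicit false
universe u

namespace Groth.Agent.Lib.Helper3.Slice

open AlgebraicGeometry CategoryTheory Limits Grpd

set_option backward.isDefEq.respectTransparency false

variable {S : Scheme.{u}} (G : GroupoidScheme S)

/-- spreading out flatness and quasi-finiteness of `h` by translation -/
theorem exists_open_flat_lqf [Flat G.s] [LocallyOfFinitePresentation G.s] [Flat G.t]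
    [LocallyOfFinitePresentation G.t] {U' : Scheme.{u}} (g : U' ⟶ G.U)
    [LocallyOfFinitePresentation g]
    (hh : LocallyOfFinitePresentation (pullback.snd g G.t ≫ G.s))
    (y₀ : ↑(pullback g G.t)) (hy₀ : y₀ ∈ Wfq (pullback.snd g G.t ≫ G.s) hh) :
    ∃ V : U'.Opens, pullback.fst g G.t y₀ ∈ V ∧
      Flat (pullback.snd (V.ι ≫ g) G.t ≫ G.s) ∧
      LocallyQuasiFinite (pullback.snd (V.ι ≫ g) G.t ≫ G.s) := by
  obtain ⟨V, hV⟩ := Groth.Agent.S7510.result S G g
    (@Flat ⊓ @LocallyQuasiFinite : MorphismProperty Scheme.{u})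
    (@LocallyOfFinitePresentation : MorphismProperty Scheme.{u})
    (@Flat ⊓ @LocallyOfFinitePresentation : MorphismProperty Scheme.{u})
    inf_le_right (fun {X Y} f hf => Wfq f hf) (fun {X Y} f hf => Wfq_prop f hf)
    (fun {X Y} f hf V hV => Wfq_max f hf V hV)
    (fun {X Y Y'} f hf b hb hf' => Wfq_bc f hf b hb hf')
    ⟨inferInstance, inferInstance⟩ ⟨inferInstance, inferInstance⟩ inferInstance hh
  have hy₀V : pullback.fst g G.t y₀ ∈ V := by
    have : y₀ ∈ pullback.fst g G.t ⁻¹ᵁ V := by rw [hV]; exact hy₀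
    exact this
  refine ⟨V, hy₀V, ?_⟩
  have sq : IsPullback (pullback.fst g G.t ∣_ V)
      ((pullback.fst g G.t ⁻¹ᵁ V).ι ≫ pullback.snd g G.t) (V.ι ≫ g) G.t :=
    ((isPullback_morphismRestrict (pullback.fst g G.t) V).flip.paste_horiz
      (IsPullback.of_hasPullback g G.t).flip).flip
  have hP : (@Flat ⊓ @LocallyQuasiFinite : MorphismProperty Scheme.{u})
      ((pullback.fst g G.t ⁻¹ᵁ V).ι ≫ pullback.snd g G.t ≫ G.s) := by
    rw [hV]
    exact Wfq_prop _ hh
  have hsnd : pullback.snd (V.ι ≫ g) G.t ≫ G.s =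
      sq.isoPullback.inv ≫ (pullback.fst g G.t ⁻¹ᵁ V).ι ≫ pullback.snd g G.t ≫ G.s := by
    have := sq.isoPullback_inv_snd
    rw [← Category.assoc _ _ G.s, ← Category.assoc _ _ G.s, this]
  rw [hsnd]
  exact ⟨(MorphismProperty.cancel_left_of_respectsIso @Flat _ _).mpr hP.1,
    (MorphismProperty.cancel_left_of_respectsIso @LocallyQuasiFinite _ _).mpr hP.2⟩

end Groth.Agent.Lib.Helper3.Slice
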