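import Mathlib
import Groth.Prelude.Def_Grpd
import Groth.Agent.S1883
import Groth.Agent.Lib.Helper3.BootE
import Groth.Agent.Lib.Helper3.NoethJacobsonTop
import Groth.Agent.Lib.Helper3.AlgSpLftFieldDim
import Groth.Agent.Lib.Helper21.FibreStalk

set_option autoImplicit false
universe u

namespace Groth.Agent.Lib.Helper3.Slice

open AlgebraicGeometry CategoryTheory Limits Grpd IsLocalRing
open Groth.Agent.Lib.Helper21.FibreStalk Groth.Agent.Lib.Helper3.Spl

set_option backward.isDefEq.respectTransparency false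

/-- a generization of `x` whose prime contains the fibre ideal lies in the same fibre -/
theorem map_fromSpecStalk_eq {X Y : Scheme.{u}} (f : X ⟶ Y) (x : X)
    (P : Spec (X.presheaf.stalk x)) (hP : fibIdeal f x ≤ P.asIdeal) :
    f (X.fromSpecStalk x P) = f x := by
  have h1 := congrArg (fun k => k P) (Scheme.SpecMap_stalkMap_fromSpecStalk (f := f) (x := x))
  simp only [Scheme.Hom.comp_apply] at h1
  rw [← h1]
  have h2 : Spec.map (f.stalkMap x) P = closedPoint (Y.presheaf.stalk (f x)) := by
    apply PrimeSpectrum.ext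
    have hle : maximalIdeal (Y.presheaf.stalk (f x)) ≤ P.asIdeal.comap (f.stalkMap x).hom :=
      Ideal.map_le_iff_le_comap.mp hP
    exact ((maximalIdeal.isMaximal _).eq_of_le (Ideal.comap_ne_top _ P.isPrime.ne_top) hle).symm
  rw [h2, Scheme.fromSpecStalk_closedPoint]

variable {S : Scheme.{u}} (G : GroupoidScheme S)

/-- two points of `R` in the image of a zero-dimensional restriction along a preimmersion,
one specializing to the other, are equal -/
theorem eq_of_specializes_of_dim_le_zero {V : Scheme.{u}} (h : V ⟶ G.U) [IsPreimmersion h]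
    (hdim : topologicalKrullDim (RV G h) ≤ 0) (r' r : G.R) (hspec : r' ⤳ r)
    (hr' : ∃ z' : RV G h, fR G h z' = r') (hr : ∃ z : RV G h, fR G h z = r) : r' = r := by
  obtain ⟨z', rfl⟩ := hr'
  obtain ⟨z, rfl⟩ := hr
  haveI : IsPreimmersion (fR G h) := by
    unfold fR
    infer_instance
  have hemb := (fR G h).isEmbedding
  have h1 : z' ⤳ z := hemb.isInducing.specializes_iff.mp hspec
  rw [Groth.Agent.Lib.Helper3.eq_of_specializes_of_topologicalKrullDim_le_zero hdim h1]

/-- points of `R` with source and target `u` lift to the restriction to the point `u` -/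
theorem exists_RV_of_eq (u : G.U) (r : G.R) (hs : G.s r = u) (ht : G.t r = u) :
    ∃ z : RV G (G.U.fromSpecResidueField u), fR G (G.U.fromSpecResidueField u) z = r := by
  have h1 : r ∈ Set.range (G.s.fiberι u) := by
    rw [Scheme.Hom.range_fiberι]; exact hs
  obtain ⟨z₁, hz₁⟩ := h1
  have h2 : z₁ ∈ Set.range ((G.s.fiberι u ≫ G.t).fiberι u) := by
    rw [Scheme.Hom.range_fiberι]
    show (G.s.fiberι u ≫ G.t) z₁ = u
    rw [Scheme.Hom.comp_apply, hz₁, ht]
  obtain ⟨z, hz⟩ := h2
  refine ⟨z, ?_⟩
  have h3 : fR G (G.U.fromSpecResidueField u) =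
      (G.s.fiberι u ≫ G.t).fiberι u ≫ G.s.fiberι u := rfl
  rw [h3, Scheme.Hom.comp_apply]
  exact (congrArg (G.s.fiberι u) hz).trans hz₁

/-- the restriction of an equivalence relation to a finite type point has dimension zero -/
theorem dim_RV_le_zero [Mono G.j] [LocallyOfFiniteType G.s] [LocallyOfFiniteType G.t] (u : G.U)
    (hu : LocallyOfFiniteType (G.U.fromSpecResidueField u)) :
    topologicalKrullDim (RV G (G.U.fromSpecResidueField u)) ≤ 0 := by
  set h := G.U.fromSpecResidueField u with hh
  obtain ⟨G', hG'⟩ : ∃ G' : GroupoidScheme S, G' = Spl.restrict G h := ⟨_, rfl⟩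
  obtain ⟨φ, sq, hφ⟩ : ∃ (φ : GroupoidScheme.Hom G' G), IsPullback φ.fR G'.j G.j
      (pullback.map G'.pU G'.pU G.pU G.pU φ.fU φ.fU (𝟙 S)
        ((Category.comp_id _).trans φ.fU_over.symm)
        ((Category.comp_id _).trans φ.fU_over.symm)) ∧ LocallyOfFiniteType φ.fU := by
    subst hG'
    exact ⟨Spl.restrictHom G h, Spl.isPullback_j G h, hu⟩
  haveI := hφ
  haveI : Mono G'.j := Boot.mono_j_of_hom φ sq
  haveI : LocallyOfFiniteType G'.s :=
    Boot.prop_s_of_hom φ sq @LocallyOfFiniteType inferInstance inferInstance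
  haveI : LocallyOfFiniteType G'.t :=
    Boot.prop_t_of_hom φ sq @LocallyOfFiniteType inferInstance inferInstance
  have eU : G'.U ≅ Spec (CommRingCat.of (G.U.residueField u)) := by
    subst hG'
    exact Iso.refl _
  have h1 := Groth.Agent.S1883.result S G' (G.U.residueField u) eU
  have hRV : topologicalKrullDim G'.R = topologicalKrullDim (RV G h) := by
    subst hG'
    rfl
  rw [← hRV, h1]
  -- the stabilizer is a point
  haveI : Mono G'.stabilizerToU := by
    unfold GroupoidScheme.stabilizerToU
    infer_instance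
  haveI : IsSplitEpi G'.stabilizerToU :=
    ⟨⟨G'.eStab, by unfold GroupoidScheme.eStab GroupoidScheme.stabilizerToU; exact pullback.lift_snd _ _ _⟩⟩
  haveI : IsIso G'.stabilizerToU := isIso_of_mono_of_isSplitEpi _
  haveI : Subsingleton G'.U := by
    subst hG'
    show Subsingleton (Spec (G.U.residueField u))
    infer_instance
  haveI : Subsingleton G'.stabilizer :=
    (asIso G'.stabilizerToU).hom.homeomorph.injective.subsingleton
  apply topologicalKrullDim_le_zero_of_forall_specializes_eq
  intro a b _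
  exact Subsingleton.elim _ _

/-- **transversality**: for an equivalence relation, the only prime of the local ring of `R` at
`e(u)` (`u` a finite type point) containing the ideals of both fibres is the maximal ideal -/
theorem eq_maximalIdeal_of_fibIdeal_le [Mono G.j] [LocallyOfFiniteType G.s]
    [LocallyOfFiniteType G.t] (u : G.U)
    (hu : LocallyOfFiniteType (G.U.fromSpecResidueField u))
    (P : Ideal (G.R.presheaf.stalk (G.e u))) (hP : P.IsPrime)
    (hs : fibIdeal G.s (G.e u) ≤ P) (ht : fibIdeal G.t (G.e u) ≤ P) :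
    P = maximalIdeal (G.R.presheaf.stalk (G.e u)) := by
  let Ppt : Spec (G.R.presheaf.stalk (G.e u)) := ⟨P, hP⟩
  have hsx : G.s (G.e u) = u := by
    have := congrArg (fun k => k u) G.e_s
    simpa using this
  have htx : G.t (G.e u) = u := by
    have := congrArg (fun k => k u) G.e_t
    simpa using this
  have hs' : G.s (G.R.fromSpecStalk (G.e u) Ppt) = u := (map_fromSpecStalk_eq G.s (G.e u) Ppt hs).trans hsx
  have ht' : G.t (G.R.fromSpecStalk (G.e u) Ppt) = u := (map_fromSpecStalk_eq G.t (G.e u) Ppt ht).trans htx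
  have hspec : G.R.fromSpecStalk (G.e u) Ppt ⤳ G.e u := by
    have : G.R.fromSpecStalk (G.e u) Ppt ∈ Set.range (G.R.fromSpecStalk (G.e u)) := ⟨Ppt, rfl⟩
    rw [Scheme.range_fromSpecStalk] at this
    exact this
  have heq := eq_of_specializes_of_dim_le_zero G (G.U.fromSpecResidueField u)
    (dim_RV_le_zero G u hu) _ _ hspec (exists_RV_of_eq G u _ hs' ht')
    (exists_RV_of_eq G u _ hsx htx)
  have h2 : G.R.fromSpecStalk (G.e u) Ppt = G.R.fromSpecStalk (G.e u) (closedPoint _) := by
    rw [heq, Scheme.fromSpecStalk_closedPoint]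
  have h3 : Ppt = closedPoint _ := (G.R.fromSpecStalk (G.e u)).isEmbedding.injective h2
  exact congrArg PrimeSpectrum.asIdeal h3

end Groth.Agent.Lib.Helper3.Slice
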