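import Mathlib
import Groth.Agent.Lib.Helper12.HCoupH
import Groth.Agent.Lib.Helper21.FibreStalk

set_option autoImplicit false
universe u

namespace Groth.Agent.Lib.Helper3.Slice

open AlgebraicGeometry CategoryTheory Limits IsLocalRing
open Groth.Agent.Lib.Helper21.FibreStalk

set_option backward.isDefEq.respectTransparency false

/-- the fibre ideal at `x` is generated by the image of the prime of `f x` in an affine chart -/
theorem fibIdeal_eq_map {X Y : Scheme.{u}} (f : X ⟶ Y) (x : X) (V : Y.Opens) (hV : IsAffineOpen V)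
    (U : X.Opens) (hxU : x ∈ U) (hUV : U ≤ f ⁻¹ᵁ V) :
    fibIdeal f x = ((hV.primeIdealOf ⟨f x, hUV hxU⟩).asIdeal).map
      ((X.presheaf.germ U x hxU).hom.comp (f.appLE V U hUV).hom) := by
  have hfxV : f x ∈ V := hUV hxU
  letI aAA₀ : Algebra Γ(Y, V) (Y.presheaf.stalk (f x)) :=
    Y.presheaf.algebra_section_stalk ⟨f x, hfxV⟩
  haveI locA₀ := hV.isLocalization_stalk ⟨f x, hfxV⟩
  have h1 : maximalIdeal (Y.presheaf.stalk (f x)) =
      ((hV.primeIdealOf ⟨f x, hfxV⟩).asIdeal).map (algebraMap Γ(Y, V) (Y.presheaf.stalk (f x))) :=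
    (IsLocalization.AtPrime.map_eq_maximalIdeal
      (hV.primeIdealOf ⟨f x, hfxV⟩).asIdeal (Y.presheaf.stalk (f x))).symm
  show (maximalIdeal (Y.presheaf.stalk (f x))).map (f.stalkMap x).hom = _
  rw [h1, Ideal.map_map]
  congr 1
  ext a
  show f.stalkMap x (Y.presheaf.germ V (f x) hfxV a) =
    X.presheaf.germ U x hxU (f.appLE V U hUV a)
  rw [Scheme.Hom.germ_stalkMap_apply, Scheme.Hom.appLE]
  exact (TopCat.Presheaf.germ_res_apply X.presheaf (homOfLE hUV) x hxU _).symm

/-- the value of a section of `f` at a point is closed in its fibre -/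
theorem isClosed_asFiber_of_section {X Y : Scheme.{u}} (f : X ⟶ Y) (e : Y ⟶ X) (he : e ≫ f = 𝟙 Y)
    (y : Y) : IsClosed ({f.asFiber (e y)} : Set ↑(f.fiber (f (e y)))) := by
  set y' := f (e y) with hy'
  have hyy : y' = y := by
    have := congrArg (fun k => k y) he
    simpa using this
  let σ : Spec (Y.residueField y') ⟶ f.fiber y' :=
    pullback.lift (Y.fromSpecResidueField y' ≫ e) (𝟙 _)
      (by rw [Category.assoc, he, Category.comp_id, Category.id_comp])
  have hσ : σ ≫ f.fiberToSpecResidueField y' = 𝟙 _ := pullback.lift_snd _ _ _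
  haveI : IsClosedImmersion σ := isClosedImmersion_of_comp_eq_id _ σ hσ
  have hr : IsClosed (Set.range σ) := σ.isClosedEmbedding.isClosed_range
  have hpt : Set.range σ = {f.asFiber (e y)} := by
    ext w
    simp only [Set.mem_range, Set.mem_singleton_iff]
    constructor
    · rintro ⟨p, rfl⟩
      apply (f.fiberι y').isEmbedding.injective
      rw [Scheme.Hom.fiberι_asFiber]
      have h1 : σ ≫ f.fiberι y' = Y.fromSpecResidueField y' ≫ e := pullback.lift_fst _ _ _
      have h2 := congrArg (fun k => k p) h1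
      simp only [Scheme.Hom.comp_apply] at h2
      rw [h2, Scheme.fromSpecResidueField_apply, hyy]
    · rintro rfl
      refine ⟨closedPoint _, ?_⟩
      apply (f.fiberι y').isEmbedding.injective
      rw [Scheme.Hom.fiberι_asFiber]
      have h1 : σ ≫ f.fiberι y' = Y.fromSpecResidueField y' ≫ e := pullback.lift_fst _ _ _
      have h2 := congrArg (fun k => k (closedPoint _)) h1
      simp only [Scheme.Hom.comp_apply] at h2
      rw [h2, Scheme.fromSpecResidueField_apply, hyy]
  rw [← hpt]
  exact hr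

/-- `Spec (B/K) = Spec B ×_{Spec A} Spec (A/J)` when `K = JB` -/
theorem isPullback_Spec_quotient' {A B : Type u} [CommRing A] [CommRing B] (τ : A →+* B)
    (J : Ideal A) (K : Ideal B) (hK : J.map τ = K) :
    IsPullback (Spec.map (CommRingCat.ofHom (Ideal.Quotient.mk K)))
      (Spec.map (CommRingCat.ofHom (Ideal.quotientMap K τ (hK ▸ Ideal.le_comap_map))))
      (Spec.map (CommRingCat.ofHom τ))
      (Spec.map (CommRingCat.ofHom (Ideal.Quotient.mk J))) := by
  subst hK
  letI := τ.toAlgebra
  exact Groth.Agent.Lib.Helper12.HCoup.isPullback_Spec_quotient (A := A) (B := B) J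

end Groth.Agent.Lib.Helper3.Slice
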