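import Mathlib
import Groth.Prelude.Def_Grpd
import Groth.Agent.Lib.Helper3.SliceA
import Groth.Agent.Lib.Helper3.SliceB
import Groth.Agent.Lib.Helper3.SliceD
import Groth.Agent.Lib.Helper3.SliceE
import Groth.Agent.Lib.Helper3.SliceF
import Groth.Agent.Lib.Helper3.AlgSpMonoField

set_option autoImplicit false
universe u

namespace Groth.Agent.Lib.Helper3.Slice

open AlgebraicGeometry CategoryTheory Limits Grpd IsLocalRing RingTheory.Sequence
open Groth.Agent.Lib.Helper21.FibreStalk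

set_option backward.isDefEq.respectTransparency false

variable {S : Scheme.{u}} (G : GroupoidScheme S)

/-- a flat quasi-finite affine chart of `h` gives points of its flat quasi-finite locus -/
theorem point_in_Wfq_of_chart [LocallyOfFinitePresentation G.s] {U' : Scheme.{u}} (g : U' ⟶ G.U)
    [LocallyOfFinitePresentation g] {D' Z' : Scheme.{u}} (ι : D' ⟶ G.R) [IsOpenImmersion ι]
    (mkK : Z' ⟶ D') (qm : Z' ⟶ U') (sq : IsPullback mkK qm (ι ≫ G.t) g)
    (hF : Flat (mkK ≫ ι ≫ G.s)) (hQ : LocallyQuasiFinite (mkK ≫ ι ≫ G.s)) (z₀ : Z')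
    (hh : LocallyOfFinitePresentation (pullback.snd g G.t ≫ G.s)) :
    ∃ y₀ : ↑(pullback g G.t), pullback.snd g G.t y₀ = ι (mkK z₀) ∧
      y₀ ∈ Wfq (pullback.snd g G.t ≫ G.s) hh := by
  let κ : Z' ⟶ pullback g G.t :=
    pullback.lift qm (mkK ≫ ι) (by rw [Category.assoc]; exact sq.w.symm)
  have outer : IsPullback (κ ≫ pullback.fst g G.t) mkK g (ι ≫ G.t) := by
    rw [pullback.lift_fst]; exact sq.flip
  have sqC : IsPullback mkK κ ι (pullback.snd g G.t) :=
    (IsPullback.of_right outer (pullback.lift_snd _ _ _) (IsPullback.of_hasPullback g G.t)).flip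
  haveI : IsOpenImmersion κ := MorphismProperty.of_isPullback sqC inferInstance
  have hκh : κ ≫ pullback.snd g G.t ≫ G.s = mkK ≫ ι ≫ G.s := by
    rw [← Category.assoc, pullback.lift_snd, Category.assoc]
  have hN : κ.opensRange ≤ Wfq (pullback.snd g G.t ≫ G.s) hh := by
    apply Wfq_max
    have e1 : κ.opensRange.ι ≫ pullback.snd g G.t ≫ G.s =
        κ.isoOpensRange.inv ≫ mkK ≫ ι ≫ G.s := by
      have e2 : κ.isoOpensRange.inv ≫ κ = κ.opensRange.ι := by
        rw [Iso.inv_comp_eq]; exact (Scheme.Hom.isoOpensRange_hom_ι κ).symm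
      rw [← hκh, ← e2, Category.assoc]
    rw [e1]
    exact ⟨(MorphismProperty.cancel_left_of_respectsIso @Flat _ _).mpr hF,
      (MorphismProperty.cancel_left_of_respectsIso @LocallyQuasiFinite _ _).mpr hQ⟩
  refine ⟨κ z₀, ?_, hN ⟨z₀, rfl⟩⟩
  have h3 := congrArg (fun k => k z₀) (pullback.lift_snd qm (mkK ≫ ι)
    (by rw [Category.assoc]; exact sq.w.symm) : κ ≫ pullback.snd g G.t = mkK ≫ ι)
  simpa only [Scheme.Hom.comp_apply] using h3

/-- the slice through a finite type point, with a point of the flat quasi-finite locus of `h` -/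
theorem exists_slice_point [Flat G.s] [LocallyOfFinitePresentation G.s] [Flat G.t]
    [LocallyOfFinitePresentation G.t] [Mono G.j] (u : G.U)
    (hu : LocallyOfFiniteType (G.U.fromSpecResidueField u)) (hCM : Grpd.IsCMAt G.s (G.e u)) :
    ∃ (U' : Scheme.{u}) (g : U' ⟶ G.U) (_ : LocallyOfFinitePresentation g)
      (hh : LocallyOfFinitePresentation (pullback.snd g G.t ≫ G.s)) (y₀ : ↑(pullback g G.t)),
      g (pullback.fst g G.t y₀) = u ∧ y₀ ∈ Wfq (pullback.snd g G.t ≫ G.s) hh := by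
  classical
  have hsx : G.s (G.e u) = u := by
    have := congrArg (fun k => k u) G.e_s
    simpa using this
  have htx : G.t (G.e u) = u := by
    have := congrArg (fun k => k u) G.e_t
    simpa using this
  obtain ⟨W, hW, huW, -⟩ := exists_isAffineOpen_mem_and_subset (x := u) (U := ⊤) trivial
  have hxO : G.e u ∈ (G.s ⁻¹ᵁ W ⊓ G.t ⁻¹ᵁ W : G.R.Opens) :=
    ⟨by show G.s (G.e u) ∈ W; rw [hsx]; exact huW, by show G.t (G.e u) ∈ W; rw [htx]; exact huW⟩
  obtain ⟨U₀, hU₀, hxU₀, hU₀le⟩ :=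
    exists_isAffineOpen_mem_and_subset (x := G.e u) (U := G.s ⁻¹ᵁ W ⊓ G.t ⁻¹ᵁ W) hxO
  have hU₀s : U₀ ≤ G.s ⁻¹ᵁ W := hU₀le.trans inf_le_left
  have hU₀t : U₀ ≤ G.t ⁻¹ᵁ W := hU₀le.trans inf_le_right
  -- rings
  let τ : Γ(G.U, W) →+* Γ(G.R, U₀) := (G.t.appLE W U₀ hU₀t).hom
  let γ : Γ(G.R, U₀) →+* G.R.presheaf.stalk (G.e u) :=
    (G.R.presheaf.germ U₀ (G.e u) hxU₀).hom
  let m : Ideal Γ(G.U, W) := (hW.primeIdealOf ⟨G.t (G.e u), hU₀t hxU₀⟩).asIdeal
  haveI hCMr : LocCoh.IsCohenMacaulayLocalRing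
      (G.R.presheaf.stalk (G.e u) ⧸ fibIdeal G.s (G.e u)) := hCM.2
  let mk := Ideal.Quotient.mk (fibIdeal G.s (G.e u))
  have hmksurj : Function.Surjective mk := Ideal.Quotient.mk_surjective
  haveI : IsLocalHom mk := IsLocalHom.of_surjective _ hmksurj
  let φ : Γ(G.U, W) →+* (G.R.presheaf.stalk (G.e u) ⧸ fibIdeal G.s (G.e u)) :=
    mk.comp (γ.comp τ)
  have hFt : fibIdeal G.t (G.e u) = m.map (γ.comp τ) :=
    fibIdeal_eq_map G.t (G.e u) W hW U₀ hxU₀ hU₀t
  have hγτm : ∀ a ∈ m, γ (τ a) ∈ maximalIdeal (G.R.presheaf.stalk (G.e u)) := fun a ha =>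
    fibIdeal_le_maximalIdeal G.t _ (hFt ▸ Ideal.mem_map_of_mem (γ.comp τ) ha)
  have hmkmax : ∀ y ∈ maximalIdeal (G.R.presheaf.stalk (G.e u)), mk y ∈ maximalIdeal _ := by
    intro y hy
    rw [mem_maximalIdeal, mem_nonunits_iff] at hy ⊢
    exact fun hu => hy (isUnit_of_map_unit mk _ hu)
  have hle : m.map φ ≤ maximalIdeal _ := by
    rw [Ideal.map_le_iff_le_comap]
    intro a ha
    exact hmkmax _ (hγτm a ha)
  haveI : LocallyOfFiniteType G.s := inferInstance
  haveI : LocallyOfFiniteType G.t := inferInstance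
  -- primes of the fibre ring containing the image of `m`
  have hcomap : ∀ Pb : Ideal (G.R.presheaf.stalk (G.e u) ⧸ fibIdeal G.s (G.e u)), Pb.IsPrime →
      m.map φ ≤ Pb → Pb.comap mk = maximalIdeal _ := by
    intro Pb hPb hmP
    apply eq_maximalIdeal_of_fibIdeal_le G u hu _ (Ideal.comap_isPrime _ _)
    · intro y hy
      rw [Ideal.mem_comap, Ideal.Quotient.eq_zero_iff_mem.mpr hy]
      exact Ideal.zero_mem _
    · rw [hFt, Ideal.map_le_iff_le_comap]
      intro a ha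
      rw [Ideal.mem_comap, Ideal.mem_comap]
      exact hmP (Ideal.mem_map_of_mem φ ha)
  have hcomapmax := hcomap (maximalIdeal _) inferInstance hle
  have hprim : ∀ Pb : Ideal (G.R.presheaf.stalk (G.e u) ⧸ fibIdeal G.s (G.e u)), Pb.IsPrime →
      m.map φ ≤ Pb → Pb = maximalIdeal _ := by
    intro Pb hPb hmP
    rw [← Ideal.map_comap_of_surjective mk hmksurj Pb, hcomap Pb hPb hmP, ← hcomapmax,
      Ideal.map_comap_of_surjective mk hmksurj]
  obtain ⟨fs, hfsm, hreg, hprimary⟩ := exists_list_regular_primary m _ φ hle hprim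
  -- the sections cutting the slice
  set bs : List Γ(G.R, U₀) := fs.map τ with hbs
  have hmap1 : (bs.map (fun b => G.R.presheaf.germ U₀ (G.e u) hxU₀ b)).map mk = fs.map φ := by
    rw [hbs, List.map_map, List.map_map]
    rfl
  have hsm : ∀ b ∈ bs, G.R.presheaf.germ U₀ (G.e u) hxU₀ b ∈
      maximalIdeal (G.R.presheaf.stalk (G.e u)) := by
    intro b hb
    obtain ⟨a, ha, rfl⟩ := List.mem_map.mp hb
    exact hγτm a (hfsm a ha)
  have hsprime : ∀ P : Ideal (G.R.presheaf.stalk (G.e u)), P.IsPrime →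
      fibIdeal G.s (G.e u) ≤ P →
      Ideal.ofList (bs.map (fun b => G.R.presheaf.germ U₀ (G.e u) hxU₀ b)) ≤ P →
        P = maximalIdeal (G.R.presheaf.stalk (G.e u)) := by
    intro P hP hfP hLP
    have hker : RingHom.ker mk ≤ P := by rw [Ideal.mk_ker]; exact hfP
    haveI hP₁ : (P.map mk).IsPrime := Ideal.map_isPrime_of_surjective hmksurj hker
    have h2 : Ideal.ofList (fs.map φ) ≤ P.map mk := by
      rw [← hmap1, Ideal.ofList, Ideal.span_le]
      intro y hy
      obtain ⟨c, hc, rfl⟩ := List.mem_map.mp hy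
      exact Ideal.mem_map_of_mem mk (hLP (Ideal.subset_span hc))
    have h3 := hprimary _ hP₁ h2
    have h4 : (P.map mk).comap mk = P := by
      rw [Ideal.comap_map_of_surjective mk hmksurj, ← RingHom.ker_eq_comap_bot,
        sup_eq_left.mpr hker]
    rw [← h4, h3, hcomapmax]
  obtain ⟨g', hxD, ⟨z₀, hz₀⟩, hFlat, hLQF⟩ := slice_given G.s (G.e u) (Flat.stalkMap G.s _)
    (isClosed_asFiber_of_section G.s G.e G.e_s u) W hW U₀ hU₀ hxU₀ hU₀s bs hsm
    (by rw [hmap1]; exact hreg) hsprime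
  have hD : IsAffineOpen (G.R.basicOpen g') := hU₀.basicOpen g'
  have hDU₀ : G.R.basicOpen g' ≤ U₀ := G.R.basicOpen_le g'
  have hDt : G.R.basicOpen g' ≤ G.t ⁻¹ᵁ W := hDU₀.trans hU₀t
  let τ' : Γ(G.U, W) →+* Γ(G.R, G.R.basicOpen g') := (G.t.appLE W (G.R.basicOpen g') hDt).hom
  have hK : (Ideal.ofList fs).map τ' =
      Ideal.ofList (bs.map (algebraMap Γ(G.R, U₀) Γ(G.R, G.R.basicOpen g'))) := by
    rw [Ideal.map_ofList, hbs, List.map_map]
    congr 1
    apply List.map_congr_left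
    intro a _
    show G.t.appLE W (G.R.basicOpen g') hDt a =
      G.R.presheaf.map (homOfLE hDU₀).op (G.t.appLE W U₀ hU₀t a)
    rw [← CommRingCat.comp_apply, Scheme.Hom.appLE_map]
  have sqA := isPullback_Spec_quotient' τ' (Ideal.ofList fs) _ hK
  have sqB := Groth.Agent.Lib.Helper3.isPullback_comp_mono hW.fromSpec sqA
  have hτ' : Spec.map (CommRingCat.ofHom τ') ≫ hW.fromSpec = hD.fromSpec ≫ G.t :=
    IsAffineOpen.SpecMap_appLE_fromSpec G.t hW hD hDt
  rw [hτ'] at sqB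
  haveI : LocallyOfFinitePresentation
      (Spec.map (CommRingCat.ofHom (Ideal.Quotient.mk (Ideal.ofList fs)))) := by
    rw [LocallyOfFinitePresentation.SpecMap_iff]
    show RingHom.FinitePresentation (Ideal.Quotient.mk (Ideal.ofList fs))
    exact RingHom.FinitePresentation.of_surjective _ Ideal.Quotient.mk_surjective
      (by rw [Ideal.mk_ker]; exact Submodule.fg_span (List.finite_toSet fs))
  haveI hgfp : LocallyOfFinitePresentation
      (Spec.map (CommRingCat.ofHom (Ideal.Quotient.mk (Ideal.ofList fs))) ≫ hW.fromSpec) :=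
    inferInstance
  have hh : LocallyOfFinitePresentation (pullback.snd
      (Spec.map (CommRingCat.ofHom (Ideal.Quotient.mk (Ideal.ofList fs))) ≫ hW.fromSpec) G.t ≫
        G.s) := inferInstance
  obtain ⟨y₀, hy₀, hy₀W⟩ := point_in_Wfq_of_chart G _ hD.fromSpec _ _ sqB hFlat hLQF z₀ hh
  refine ⟨_, _, hgfp, hh, y₀, ?_, hy₀W⟩
  have h1 := congrArg (fun k => k y₀) (pullback.condition
    (f := Spec.map (CommRingCat.ofHom (Ideal.Quotient.mk (Ideal.ofList fs))) ≫ hW.fromSpec)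
    (g := G.t))
  simp only [Scheme.Hom.comp_apply] at h1
  have h2 : hD.fromSpec (Spec.map (CommRingCat.ofHom (Ideal.Quotient.mk (Ideal.ofList
      (bs.map (algebraMap Γ(G.R, U₀) Γ(G.R, G.R.basicOpen g')))))) z₀) = G.e u := hz₀
  rw [Scheme.Hom.comp_apply, h1, hy₀]
  exact (congrArg G.t h2).trans htx

/-- **local slicing**: through every finite type point at which `s` is Cohen–Macaulay there is a
slice `g : U' ⟶ U`, lfp, with `h = s ∘ pr : U' ×_{g,U,t} R ⟶ U` flat and locally quasi-finite -/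
theorem exists_local_slice [Flat G.s] [LocallyOfFinitePresentation G.s] [Flat G.t]
    [LocallyOfFinitePresentation G.t] [Mono G.j] (u : G.U)
    (hu : LocallyOfFiniteType (G.U.fromSpecResidueField u)) (hCM : Grpd.IsCMAt G.s (G.e u)) :
    ∃ (U' : Scheme.{u}) (g : U' ⟶ G.U), LocallyOfFinitePresentation g ∧ u ∈ Set.range g ∧
      Flat (pullback.snd g G.t ≫ G.s) ∧ LocallyQuasiFinite (pullback.snd g G.t ≫ G.s) := by
  obtain ⟨U', g, hgfp, hh, y₀, hgy, hyW⟩ := exists_slice_point G u hu hCM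
  haveI := hgfp
  obtain ⟨V, hV, hF, hQ⟩ := exists_open_flat_lqf G g hh y₀ hyW
  exact ⟨V, V.ι ≫ g, inferInstance, ⟨⟨pullback.fst g G.t y₀, hV⟩, hgy⟩, hF, hQ⟩

end Groth.Agent.Lib.Helper3.Slice
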