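import Mathlib
import Groth.Prelude.Def_Grpd
import Groth.Prelude.Def_AlgSp
import Groth.Agent.Lib.Helper3.BootE
import Groth.Agent.Lib.Helper3.QAffDescGen
import Groth.Agent.Lib.Helper4.GrpdDense

set_option autoImplicit false
universe u

namespace Groth.Agent.Lib.Helper3.Slice

open AlgebraicGeometry CategoryTheory Limits Grpd AlgSp
open Groth.Agent.Lib.Helper3 Groth.Agent.Lib.Helper3.Spl Groth.Agent.Lib.Helper3.Boot

set_option backward.isDefEq.respectTransparency false

/-- a point closed in an open subscheme is a finite type point -/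
theorem lft_fromSpecResidueField_of_isClosed {X : Scheme.{u}} (W : X.Opens) (x : W)
    (hx : IsClosed ({x} : Set W)) : LocallyOfFiniteType (X.fromSpecResidueField (W.ι x)) := by
  haveI h1 : IsClosedImmersion ((W : Scheme.{u}).fromSpecResidueField x) :=
    isClosed_singleton_iff_isClosedImmersion.mp hx
  have h2 := Scheme.Hom.SpecMap_residueFieldMap_fromSpecResidueField W.ι x
  haveI : LocallyOfFiniteType (Spec.map (W.ι.residueFieldMap x) ≫
      X.fromSpecResidueField (W.ι x)) := by
    rw [h2]; infer_instance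
  exact (MorphismProperty.cancel_left_of_respectsIso @LocallyOfFiniteType
    (Spec.map (W.ι.residueFieldMap x)) _).mp inferInstance

/-- every point specializes to a finite type point -/
theorem exists_specializes_finiteType {X : Scheme.{u}} (x₀ : X) :
    ∃ x : X, x₀ ⤳ x ∧ LocallyOfFiniteType (X.fromSpecResidueField x) := by
  obtain ⟨W, hW, hxW, -⟩ := exists_isAffineOpen_mem_and_subset (x := x₀) (U := ⊤) trivial
  obtain ⟨m, hm, hle⟩ := Ideal.exists_le_maximal (hW.primeIdealOf ⟨x₀, hxW⟩).asIdeal
    (hW.primeIdealOf ⟨x₀, hxW⟩).isPrime.ne_top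
  let mpt : PrimeSpectrum Γ(X, W) := ⟨m, hm.isPrime⟩
  have hmcl : IsClosed ({mpt} : Set (PrimeSpectrum Γ(X, W))) :=
    (PrimeSpectrum.isClosed_singleton_iff_isMaximal mpt).mpr hm
  have hspec : hW.primeIdealOf ⟨x₀, hxW⟩ ⤳ mpt := (PrimeSpectrum.le_iff_specializes _ _).mp hle
  let x : W := hW.isoSpec.inv mpt
  have hxcl : IsClosed ({x} : Set W) := by
    have := hW.isoSpec.inv.homeomorph.isClosedMap _ hmcl
    rwa [Set.image_singleton] at this
  refine ⟨W.ι x, ?_, lft_fromSpecResidueField_of_isClosed W x hxcl⟩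
  have h3 : hW.fromSpec (hW.primeIdealOf ⟨x₀, hxW⟩) ⤳ hW.fromSpec mpt :=
    hspec.map hW.fromSpec.continuous
  rw [hW.fromSpec_primeIdealOf] at h3
  exact h3

variable {S : Scheme.{u}} (G : GroupoidScheme S)

section props

variable {V : Scheme.{u}} (g : V ⟶ G.U)

/-- `(r, v) ↦ (v, r⁻¹)` -/
noncomputable def swapInv : pullback G.s g ⟶ pullback g G.t :=
  (pullbackSymmetry G.s g).hom ≫ pullback.map g G.s g G.t (𝟙 V) G.i (𝟙 G.U) (by simp)
    (by rw [Category.comp_id, G.i_t])

instance : IsIso (swapInv G g) := by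
  haveI := Groth.Agent.Lib.Helper4.GrpdDense.isIso_i G
  unfold swapInv
  infer_instance

theorem swapInv_h : swapInv G g ≫ pullback.snd g G.t ≫ G.s = pullback.fst G.s g ≫ G.t := by
  unfold swapInv
  rw [Category.assoc, pullback.lift_snd_assoc, Category.assoc, G.i_s, ← Category.assoc,
    pullbackSymmetry_hom_comp_snd]

/-- properties of `h` pass to the source and target of the restriction -/
theorem prop_restrict_of_h (P : MorphismProperty Scheme.{u}) [P.IsStableUnderBaseChange]
    [P.RespectsIso] (hP : P (pullback.snd g G.t ≫ G.s)) :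
    P (Spl.restrict G g).s ∧ P (Spl.restrict G g).t := by
  have h1 : P (pullback.fst G.s g ≫ G.t) := by
    rw [← swapInv_h]
    exact (MorphismProperty.cancel_left_of_respectsIso P _ _).mpr hP
  have ht : P (Spl.restrict G g).t := MorphismProperty.pullback_snd _ _ h1
  refine ⟨?_, ht⟩
  haveI := Groth.Agent.Lib.Helper4.GrpdDense.isIso_i (Spl.restrict G g)
  rw [← (Spl.restrict G g).i_t]
  exact (MorphismProperty.cancel_left_of_respectsIso P _ _).mpr ht

end props

/-- if `h` is an fppf covering, the composite `h_V ⟶ h_U ⟶ F` is still locally surjective -/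
theorem isLocallySurjective_restrict {V : Scheme.{u}} (g : V ⟶ G.U)
    [Flat (pullback.snd g G.t ≫ G.s)] [LocallyOfFinitePresentation (pullback.snd g G.t ≫ G.s)]
    [Surjective (pullback.snd g G.t ≫ G.s)]
    {F : Sp S} (π : (yon S).obj (UO G) ⟶ F) (hπ : Sheaf.IsLocallySurjective π)
    (hcoeq : (yon S).map (sO G) ≫ π = (yon S).map (tO G) ≫ π) :
    Sheaf.IsLocallySurjective
      ((yon S).map (Over.homMk g rfl : UO (Spl.restrict G g) ⟶ UO G) ≫ π) := by
  let Y : Over S := Over.mk (pullback.snd g G.t ≫ G.pR)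
  let a : Y ⟶ UO (Spl.restrict G g) := Over.homMk (pullback.fst g G.t) (by
    show pullback.fst g G.t ≫ g ≫ G.pU = pullback.snd g G.t ≫ G.pR
    rw [← Category.assoc, pullback.condition, Category.assoc, G.t_over])
  let b : Y ⟶ UO G := Over.homMk (pullback.snd g G.t ≫ G.s) (by
    show (pullback.snd g G.t ≫ G.s) ≫ G.pU = pullback.snd g G.t ≫ G.pR
    rw [Category.assoc, G.s_over])
  let c : Y ⟶ RO G := Over.homMk (pullback.snd g G.t) rfl
  have h1 : a ≫ (Over.homMk g rfl : UO (Spl.restrict G g) ⟶ UO G) = c ≫ tO G := by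
    ext
    exact pullback.condition
  have h2 : b = c ≫ sO G := by
    ext
    rfl
  have fac : (yon S).map a ≫ (yon S).map (Over.homMk g rfl : UO (Spl.restrict G g) ⟶ UO G) ≫ π =
      (yon S).map b ≫ π := by
    rw [← Category.assoc, ← Functor.map_comp, h1, h2, Functor.map_comp, Functor.map_comp,
      Category.assoc, Category.assoc, hcoeq]
  haveI : Flat b.left := ‹Flat (pullback.snd g G.t ≫ G.s)›
  haveI : LocallyOfFinitePresentation b.left :=
    ‹LocallyOfFinitePresentation (pullback.snd g G.t ≫ G.s)›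
  haveI : Surjective b.left := ‹Surjective (pullback.snd g G.t ≫ G.s)›
  have hb : Sheaf.IsLocallySurjective ((yon S).map b) :=
    Groth.Agent.Lib.Helper3.QAffDesc.isLocallySurjective_yon_map_of_fppf b
  rw [Sheaf.isLocallySurjective_iff_epi] at hb hπ ⊢
  haveI := hb
  haveI := hπ
  haveI : Epi ((yon S).map b ≫ π) := epi_comp _ _
  exact epi_of_epi_fac fac

/-- the restriction along `g` presents the same quotient when `h` is an fppf covering -/
theorem restrict_presentation {V : Scheme.{u}} (g : V ⟶ G.U)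
    [Flat (pullback.snd g G.t ≫ G.s)] [LocallyOfFinitePresentation (pullback.snd g G.t ≫ G.s)]
    [Surjective (pullback.snd g G.t ≫ G.s)]
    {F : Sp S} (π : (yon S).obj (UO G) ⟶ F) (hπ : Sheaf.IsLocallySurjective π)
    (kp : IsPullback ((yon S).map (tO G)) ((yon S).map (sO G)) π π) :
    Sheaf.IsLocallySurjective
      ((yon S).map (Over.homMk g rfl : UO (Spl.restrict G g) ⟶ UO G) ≫ π) ∧
    IsPullback ((yon S).map (tO (Spl.restrict G g))) ((yon S).map (sO (Spl.restrict G g)))
      ((yon S).map (Over.homMk g rfl : UO (Spl.restrict G g) ⟶ UO G) ≫ π)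
      ((yon S).map (Over.homMk g rfl : UO (Spl.restrict G g) ⟶ UO G) ≫ π) := by
  refine ⟨isLocallySurjective_restrict G g π hπ kp.w.symm, ?_⟩
  have hRR := isRestr_of_hom (Spl.restrictHom G g) (Spl.isPullback_j G g)
    (hom_fR_over (Spl.restrictHom G g))
  exact QuotRel.isPullback_restrict (sO G) (tO G) _ (sO (Spl.restrict G g))
    (tO (Spl.restrict G g)) _ hRR.isPullback π kp

end Groth.Agent.Lib.Helper3.Slice
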