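import Mathlib
import Groth.Prelude.Def_Grpd
import Groth.Agent.Lib.Helper3.SliceG
import Groth.Agent.Lib.Helper3.SliceH

set_option autoImplicit false
universe u

namespace Groth.Agent.Lib.Helper3.Slice

open AlgebraicGeometry CategoryTheory Limits Grpd

set_option backward.isDefEq.respectTransparency false

variable {S : Scheme.{u}} (G : GroupoidScheme S)

/-- **global slicing** for an equivalence relation with Cohen–Macaulay source map -/
theorem exists_global_slice [Flat G.s] [LocallyOfFinitePresentation G.s] [Flat G.t]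
    [LocallyOfFinitePresentation G.t] [Mono G.j] (hCM : ∀ u : G.U, Grpd.IsCMAt G.s (G.e u)) :
    ∃ (U' : Scheme.{u}) (g : U' ⟶ G.U), LocallyOfFinitePresentation g ∧
      Flat (pullback.snd g G.t ≫ G.s) ∧ LocallyQuasiFinite (pullback.snd g G.t ≫ G.s) ∧
      Surjective (pullback.snd g G.t ≫ G.s) := by
  classical
  let I : Type u := {u : G.U // LocallyOfFiniteType (G.U.fromSpecResidueField u)}
  choose U' g hgfp hmem hF hQ using fun i : I => exists_local_slice G i.1 i.2 (hCM i.1)
  have hloc : ∀ (P : MorphismProperty Scheme.{u}) [IsZariskiLocalAtSource P],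
      (∀ i, P (pullback.snd (g i) G.t ≫ G.s)) →
      P (pullback.snd (Sigma.desc g) G.t ≫ G.s) := by
    intro P _ hP
    rw [IsZariskiLocalAtSource.iff_of_openCover (P := P)
      (Scheme.Pullback.openCoverOfLeft (sigmaOpenCover U') (Sigma.desc g) G.t)]
    intro i
    have key : ∀ (k : U' i ⟶ G.U) (hk : k = g i), P (pullback.snd k G.t ≫ G.s) := by
      rintro _ rfl; exact hP i
    have e1 : (Scheme.Pullback.openCoverOfLeft (sigmaOpenCover U') (Sigma.desc g) G.t).f i ≫
        pullback.snd (Sigma.desc g) G.t ≫ G.s =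
        pullback.snd ((sigmaOpenCover U').f i ≫ Sigma.desc g) G.t ≫ G.s := by
      simp
    rw [e1]
    exact key _ (Sigma.ι_desc g i)
  refine ⟨∐ U', Sigma.desc g, IsZariskiLocalAtSource.sigmaDesc hgfp, hloc @Flat hF,
    hloc @LocallyQuasiFinite hQ, ⟨fun u₀ => ?_⟩⟩
  obtain ⟨u, hspec, hu⟩ := exists_specializes_finiteType u₀
  let i : I := ⟨u, hu⟩
  obtain ⟨u', hu'⟩ := hmem i
  have htx : G.t (G.e u) = u := by
    have := congrArg (fun k => k u) G.e_t
    simpa using this
  have hsx : G.s (G.e u) = u := by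
    have := congrArg (fun k => k u) G.e_s
    simpa using this
  obtain ⟨y, hy1, hy2⟩ := Scheme.Pullback.exists_preimage_pullback (f := g i) (g := G.t) u'
    (G.e u) (hu'.trans htx.symm)
  haveI := hF i
  haveI : LocallyOfFinitePresentation (g i) := hgfp i
  have hopen : IsOpen (Set.range (pullback.snd (g i) G.t ≫ G.s)) :=
    (pullback.snd (g i) G.t ≫ G.s).isOpenMap.isOpen_range
  have hmem_u : u ∈ Set.range (pullback.snd (g i) G.t ≫ G.s) := by
    refine ⟨y, ?_⟩
    rw [Scheme.Hom.comp_apply, hy2, hsx]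
  obtain ⟨y₀, hy₀⟩ := hspec.mem_open hopen hmem_u
  let κ : pullback (g i) G.t ⟶ pullback (Sigma.desc g) G.t :=
    pullback.map (g i) G.t (Sigma.desc g) G.t (Sigma.ι U' i) (𝟙 _) (𝟙 _)
      (by rw [Category.comp_id, Sigma.ι_desc]) (by simp)
  refine ⟨κ y₀, ?_⟩
  rw [← hy₀, ← Scheme.Hom.comp_apply]
  congr 2
  simp [κ]

end Groth.Agent.Lib.Helper3.Slice
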