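import Mathlib
import Groth.Prelude.Def_Grpd
import Groth.Prelude.Def_AlgSp
import Groth.Agent.S1936
import Groth.Agent.Lib.Helper21.CMGrpd
import Groth.Agent.Lib.Helper3.SliceI

set_option autoImplicit false
universe u

namespace Groth.Agent.Lib.Helper3.Slice

open AlgebraicGeometry CategoryTheory Limits Grpd AlgSp
open Groth.Agent.Lib.Helper3 Groth.Agent.Lib.Helper3.Spl Groth.Agent.Lib.Helper3.Boot
open Groth.Agent.Lib.Helper21.CMGrpd Groth.Agent.Lib.Helper21.CMAff

set_option backward.isDefEq.respectTransparency false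

variable {S : Scheme.{u}} (G : GroupoidScheme S)

/-- Cohen–Macaulayness of the source map of the restriction to an open -/
theorem isCMAt_restrict_open [Flat G.s] [LocallyOfFinitePresentation G.s] (U₁ : G.U.Opens)
    (r₁ : (Spl.restrict G U₁.ι).R) (h : Grpd.IsCMAt G.s (fR G U₁.ι r₁)) :
    Grpd.IsCMAt (Spl.restrict G U₁.ι).s r₁ := by
  rw [grpd_isCMAt_iff] at h ⊢
  have h1 : (Spl.restrict G U₁.ι).s = toX G U₁.ι ≫ pullback.snd G.s U₁.ι := rfl
  rw [h1, isCMAt_iff_scm]
  haveI : IsOpenImmersion (toX G U₁.ι) := by unfold toX; infer_instance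
  rw [scm_comp_iff_of_isIso_stalkMap, ← isCMAt_iff_scm,
    isCMAt_bc_iff (IsPullback.of_hasPullback G.s U₁.ι)]
  exact h

/-- **slicing of equivalence relations** (groupoid form): a flat lfp equivalence relation has a
restriction which is flat, lfp and locally quasi-finite and presents the same quotient -/
theorem exists_lqf_presentation [Flat G.s] [LocallyOfFinitePresentation G.s] [Flat G.t]
    [LocallyOfFinitePresentation G.t] [Mono G.j]
    {F : Sp S} (π : (yon S).obj (UO G) ⟶ F) (hπ : Sheaf.IsLocallySurjective π)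
    (kp : IsPullback ((yon S).map (tO G)) ((yon S).map (sO G)) π π) :
    ∃ (G₂ : GroupoidScheme S) (g_o : UO G₂ ⟶ UO G) (r_o : RO G₂ ⟶ RO G), Mono G₂.j ∧
      Flat G₂.s ∧ LocallyOfFinitePresentation G₂.s ∧ LocallyQuasiFinite G₂.s ∧
      Flat G₂.t ∧ LocallyOfFinitePresentation G₂.t ∧ LocallyQuasiFinite G₂.t ∧
      IsRestr (sO G) (tO G) g_o (sO G₂) (tO G₂) r_o ∧
      Sheaf.IsLocallySurjective ((yon S).map g_o ≫ π) ∧
      IsPullback ((yon S).map (tO G₂)) ((yon S).map (sO G₂)) ((yon S).map g_o ≫ π)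
        ((yon S).map g_o ≫ π) := by
  obtain ⟨U₁, hU₁, -, -, hsurj⟩ := Groth.Agent.S1936.result S G
  -- first restriction: to the Cohen–Macaulay open
  haveI : Surjective (pullback.snd U₁.ι G.t ≫ G.s) := by
    refine ⟨fun u => ?_⟩
    have hu : u ∈ ⇑G.s '' (G.t ⁻¹ᵁ U₁ : Set G.R) := by rw [hsurj]; trivial
    obtain ⟨r, hr, rfl⟩ := hu
    obtain ⟨y, -, hy2⟩ := Scheme.Pullback.exists_preimage_pullback (f := U₁.ι) (g := G.t)
      (⟨G.t r, hr⟩ : U₁) r rfl
    exact ⟨y, by rw [Scheme.Hom.comp_apply, hy2]⟩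
  obtain ⟨hπ₁, kp₁⟩ := restrict_presentation G U₁.ι π hπ kp
  have hRR₁ := isRestr_of_hom (Spl.restrictHom G U₁.ι) (Spl.isPullback_j G U₁.ι)
    (hom_fR_over (Spl.restrictHom G U₁.ι))
  haveI : IsOpenImmersion (Spl.restrictHom G U₁.ι).fU := (inferInstance : IsOpenImmersion U₁.ι)
  haveI hm₁ : Mono (Spl.restrict G U₁.ι).j :=
    mono_j_of_hom (Spl.restrictHom G U₁.ι) (Spl.isPullback_j G U₁.ι)
  haveI : Flat (Spl.restrict G U₁.ι).s :=
    prop_s_of_hom _ (Spl.isPullback_j G U₁.ι) @Flat inferInstance inferInstance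
  haveI : Flat (Spl.restrict G U₁.ι).t :=
    prop_t_of_hom _ (Spl.isPullback_j G U₁.ι) @Flat inferInstance inferInstance
  haveI : LocallyOfFinitePresentation (Spl.restrict G U₁.ι).s :=
    prop_s_of_hom _ (Spl.isPullback_j G U₁.ι) @LocallyOfFinitePresentation inferInstance
      inferInstance
  haveI : LocallyOfFinitePresentation (Spl.restrict G U₁.ι).t :=
    prop_t_of_hom _ (Spl.isPullback_j G U₁.ι) @LocallyOfFinitePresentation inferInstance
      inferInstance
  have hCM₁ : ∀ u₁ : (Spl.restrict G U₁.ι).U,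
      Grpd.IsCMAt (Spl.restrict G U₁.ι).s ((Spl.restrict G U₁.ι).e u₁) := by
    intro u₁
    apply isCMAt_restrict_open
    have h1 : fR G U₁.ι ((Spl.restrict G U₁.ι).e u₁) ∈ (G.t ⁻¹ᵁ U₁ : Set G.R) := by
      show G.t (fR G U₁.ι ((Spl.restrict G U₁.ι).e u₁)) ∈ U₁
      have h2 := congrArg (fun k => k ((Spl.restrict G U₁.ι).e u₁)) (fR_t G U₁.ι)
      simp only [Scheme.Hom.comp_apply] at h2
      rw [h2]
      exact (tV G U₁.ι ((Spl.restrict G U₁.ι).e u₁)).2
    rw [hU₁] at h1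
    exact h1
  -- second restriction: the slice
  obtain ⟨U'', g'', hgfp, hF, hQ, hS⟩ := exists_global_slice (Spl.restrict G U₁.ι) hCM₁
  haveI := hgfp
  haveI := hF
  haveI := hS
  obtain ⟨hπ₂, kp₂⟩ := restrict_presentation (Spl.restrict G U₁.ι) g'' _ hπ₁ kp₁
  have hRR₂ := isRestr_of_hom (Spl.restrictHom (Spl.restrict G U₁.ι) g'')
    (Spl.isPullback_j (Spl.restrict G U₁.ι) g'')
    (hom_fR_over (Spl.restrictHom (Spl.restrict G U₁.ι) g''))
  have hFl := prop_restrict_of_h (Spl.restrict G U₁.ι) g'' @Flat hF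
  have hLfp := prop_restrict_of_h (Spl.restrict G U₁.ι) g'' @LocallyOfFinitePresentation
    inferInstance
  have hLqf := prop_restrict_of_h (Spl.restrict G U₁.ι) g'' @LocallyQuasiFinite hQ
  refine ⟨Spl.restrict (Spl.restrict G U₁.ι) g'', _, _,
    mono_j_of_hom (Spl.restrictHom (Spl.restrict G U₁.ι) g'')
      (Spl.isPullback_j (Spl.restrict G U₁.ι) g''),
    hFl.1, hLfp.1, hLqf.1, hFl.2, hLfp.2, hLqf.2, hRR₁.comp hRR₂, ?_, ?_⟩
  · rw [Functor.map_comp, Category.assoc]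
    exact hπ₂
  · rw [Functor.map_comp, Category.assoc]
    exact kp₂

end Groth.Agent.Lib.Helper3.Slice
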