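import Mathlib
import Groth.Prelude.Def_Grpd
import Groth.Prelude.Def_AlgSp
import Groth.Prelude.Def_QuotSh
import Groth.Agent.Lib.Helper3.SliceJ

set_option autoImplicit false
universe u

namespace Groth.Agent.Lib.Helper3.Slice

open AlgebraicGeometry CategoryTheory Limits Grpd AlgSp
open Groth.Agent.Lib.Helper3 Groth.Agent.Lib.Helper3.Spl Groth.Agent.Lib.Helper3.Boot

set_option backward.isDefEq.respectTransparency false

variable {S : Scheme.{u}}

/-- the common core of the slicing theorem and of the bootstrap theorem for schemes -/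
theorem exists_lqf_presentation_rel {R U : Over S} (s t : R ⟶ U) (h : IsEqvRel s t)
    [Flat s.left] [LocallyOfFinitePresentation s.left]
    [Flat t.left] [LocallyOfFinitePresentation t.left] :
    ∃ (G₂ : GroupoidScheme S) (g : UO G₂ ⟶ U) (r : RO G₂ ⟶ R), Mono G₂.j ∧
      Flat G₂.s ∧ LocallyOfFinitePresentation G₂.s ∧ LocallyQuasiFinite G₂.s ∧
      Flat G₂.t ∧ LocallyOfFinitePresentation G₂.t ∧ LocallyQuasiFinite G₂.t ∧
      r ≫ s = sO G₂ ≫ g ∧ r ≫ t = tO G₂ ≫ g ∧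
      Sheaf.IsLocallySurjective ((yon S).map g ≫ QuotRel.quotMap s t) ∧
      IsPullback ((yon S).map (tO G₂)) ((yon S).map (sO G₂))
        ((yon S).map g ≫ QuotRel.quotMap s t) ((yon S).map g ≫ QuotRel.quotMap s t) := by
  haveI : Mono (GQ.ofEqvRel s t h).j := GQ.ofEqvRel_mono_j s t h
  haveI : Flat (GQ.ofEqvRel s t h).s := ‹Flat s.left›
  haveI : LocallyOfFinitePresentation (GQ.ofEqvRel s t h).s :=
    ‹LocallyOfFinitePresentation s.left›
  haveI : Flat (GQ.ofEqvRel s t h).t := ‹Flat t.left›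
  haveI : LocallyOfFinitePresentation (GQ.ofEqvRel s t h).t :=
    ‹LocallyOfFinitePresentation t.left›
  let ε : R ≅ Boot.RO (GQ.ofEqvRel s t h) := Over.isoMk (Iso.refl R.left) (by
    show 𝟙 R.left ≫ s.left ≫ U.hom = R.hom
    rw [Category.id_comp]; exact Over.w s)
  have hεt : ε.hom ≫ tO (GQ.ofEqvRel s t h) = t := by
    ext
    show 𝟙 R.left ≫ t.left = t.left
    rw [Category.id_comp]
  have hεs : ε.hom ≫ sO (GQ.ofEqvRel s t h) = s := by
    ext
    show 𝟙 R.left ≫ s.left = s.left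
    rw [Category.id_comp]
  have kp := QuotRel.isPullback_of_isEqvRel h (QuotRel.quotMap s t) (QuotRel.quotMap_coeq _ _)
    (QuotRel.exists_desc_quotMap _ _ (QuotRel.toG _ _) (QuotRel.toG_coeq _ _))
  have kp' : IsPullback ((yon S).map (tO (GQ.ofEqvRel s t h)))
      ((yon S).map (sO (GQ.ofEqvRel s t h))) (QuotRel.quotMap s t) (QuotRel.quotMap s t) :=
    IsPullback.of_iso kp ((yon S).mapIso ε) (Iso.refl _) (Iso.refl _) (Iso.refl _)
      (by rw [Iso.refl_hom, Category.comp_id, Functor.mapIso_hom, ← Functor.map_comp, hεt])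
      (by rw [Iso.refl_hom, Category.comp_id, Functor.mapIso_hom, ← Functor.map_comp, hεs])
      (by simp) (by simp)
  obtain ⟨G₂, g_o, r_o, hm, h1, h2, h3, h4, h5, h6, hRR, hπ₂, kp₂⟩ :=
    exists_lqf_presentation (GQ.ofEqvRel s t h) (QuotRel.quotMap s t)
      ((Sheaf.isLocallySurjective_iff_epi _).2 inferInstance) kp'
  refine ⟨G₂, g_o, r_o ≫ ε.inv, hm, h1, h2, h3, h4, h5, h6, ?_, ?_, hπ₂, kp₂⟩
  · have e : ε.inv ≫ s = sO (GQ.ofEqvRel s t h) := by rw [Iso.inv_comp_eq, hεs]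
    rw [Category.assoc, e]
    exact hRR.c2.symm
  · have e : ε.inv ≫ t = tO (GQ.ofEqvRel s t h) := by rw [Iso.inv_comp_eq, hεt]
    rw [Category.assoc, e]
    exact hRR.c1.symm

/-- **bootstrap for schemes**: the fppf quotient of a flat lfp equivalence relation of schemes is
an algebraic space -/
theorem main10103 {R U : Over S} (s t : R ⟶ U) (h : IsEqvRel s t)
    [Flat s.left] [LocallyOfFinitePresentation s.left]
    [Flat t.left] [LocallyOfFinitePresentation t.left] :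
    IsAlgSpace (QuotSh.quot Scheme.fppfPrecoverage s t) := by
  obtain ⟨G₂, g, r, hm, h1, h2, h3, h4, h5, h6, -, -, hπ₂, kp₂⟩ :=
    exists_lqf_presentation_rel s t h
  haveI := hm
  haveI := h1
  haveI := h2
  haveI := h3
  haveI := h4
  haveI := h5
  haveI := h6
  exact isAlgSpace_of_lqf_grpd G₂ _ hπ₂ kp₂

/-- **slicing equivalence relations** -/
theorem main10139 {R U : Over S} (s t : R ⟶ U) (h : IsEqvRel s t)
    [Flat s.left] [LocallyOfFinitePresentation s.left]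
    [Flat t.left] [LocallyOfFinitePresentation t.left] :
    ∃ (R' U' : Over S) (s' t' : R' ⟶ U') (g : U' ⟶ U) (r : R' ⟶ R)
      (ψ : QuotSh.quot Scheme.fppfPrecoverage s' t' ⟶ QuotSh.quot Scheme.fppfPrecoverage s t),
      AlgSp.IsEqvRel s' t' ∧ r ≫ s = s' ≫ g ∧ r ≫ t = t' ≫ g ∧
      Flat s'.left ∧ LocallyOfFinitePresentation s'.left ∧ LocallyQuasiFinite s'.left ∧
      Flat t'.left ∧ LocallyOfFinitePresentation t'.left ∧ LocallyQuasiFinite t'.left ∧
      QuotSh.quotπ Scheme.fppfPrecoverage s' t' ≫ ψ =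
        QuotSh.repMap Scheme.fppfPrecoverage g ≫ QuotSh.quotπ Scheme.fppfPrecoverage s t ∧
      IsIso ψ := by
  obtain ⟨G₂, g, r, hm, h1, h2, h3, h4, h5, h6, c2, c1, hπ₂, kp₂⟩ :=
    exists_lqf_presentation_rel s t h
  haveI := hm
  obtain ⟨ψ, hψ⟩ := QuotRel.exists_desc_quotMap (sO G₂) (tO G₂)
    ((yon S).map g ≫ QuotRel.quotMap s t) kp₂.w.symm
  have hπ' : Sheaf.IsLocallySurjective (QuotRel.quotMap (sO G₂) (tO G₂)) :=
    (Sheaf.isLocallySurjective_iff_epi _).2 inferInstance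
  haveI : Mono ψ := QuotRel.mono_of_kernelPair (QuotRel.quotMap (sO G₂) (tO G₂)) hπ' ψ
    ((yon S).map (tO G₂)) ((yon S).map (sO G₂)) (by rw [hψ]; exact kp₂)
    (QuotRel.quotMap_coeq _ _).symm
  haveI : Epi ψ := by
    haveI : Epi ((yon S).map g ≫ QuotRel.quotMap s t) :=
      (Sheaf.isLocallySurjective_iff_epi _).1 hπ₂
    exact epi_of_epi_fac hψ
  refine ⟨RO G₂, UO G₂, sO G₂, tO G₂, g, r, ψ, isEqvRel_of_mono_j G₂, c2, c1, h1, h2, h3, h4,
    h5, h6, ?_, isIso_of_mono_of_epi ψ⟩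
  have hψ' : (QuotRel.repIso (UO G₂)).inv ≫ QuotSh.quotπ Scheme.fppfPrecoverage (sO G₂) (tO G₂) ≫ ψ =
      (yon S).map g ≫ (QuotRel.repIso U).inv ≫ QuotSh.quotπ Scheme.fppfPrecoverage s t := by
    have := hψ
    simpa only [Category.assoc] using this
  calc QuotSh.quotπ Scheme.fppfPrecoverage (sO G₂) (tO G₂) ≫ ψ
      = (QuotRel.repIso (UO G₂)).hom ≫ (QuotRel.repIso (UO G₂)).inv ≫
          QuotSh.quotπ Scheme.fppfPrecoverage (sO G₂) (tO G₂) ≫ ψ := by
        rw [Iso.hom_inv_id_assoc]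
    _ = ((QuotRel.repIso (UO G₂)).hom ≫ (yon S).map g) ≫ (QuotRel.repIso U).inv ≫
          QuotSh.quotπ Scheme.fppfPrecoverage s t := by
        rw [hψ', Category.assoc]
    _ = (QuotSh.repMap Scheme.fppfPrecoverage g ≫ (QuotRel.repIso U).hom) ≫
          (QuotRel.repIso U).inv ≫ QuotSh.quotπ Scheme.fppfPrecoverage s t := by
        rw [QuotRel.repIso_naturality']
    _ = QuotSh.repMap Scheme.fppfPrecoverage g ≫ QuotSh.quotπ Scheme.fppfPrecoverage s t := by
        rw [Category.assoc, Iso.hom_inv_id_assoc]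

end Groth.Agent.Lib.Helper3.Slice
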