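import Mathlib
import Groth.Prelude.Def_AlgSpRep
import Groth.Prelude.Def_AlgSp4
import Groth.Agent.Lib.Helper15.Boot2
import Groth.Agent.Lib.Helper3.SliceK

set_option autoImplicit false
universe u

namespace Groth.Agent.Lib.Helper3.Fp

open AlgebraicGeometry CategoryTheory Limits Grpd AlgSp
open Groth.Agent.Lib.Helper3 Groth.Agent.Lib.Helper3.Spl Groth.Agent.Lib.Helper3.Boot
open Groth.Agent.Lib.Helper15

set_option backward.isDefEq.respectTransparency false

variable {S : Scheme.{u}}

/-- a kernel pair of schemes is an equivalence relation -/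
theorem isEqvRel_of_kernelPair {R U : Over S} (s t : R ⟶ U) {F : Sp S}
    (π : (yon S).obj U ⟶ F)
    (kp : IsPullback ((yon S).map t) ((yon S).map s) π π) : IsEqvRel s t := by
  have key : ∀ (T : Over S) (a b : T ⟶ U),
      (∃ r : T ⟶ R, r ≫ t = a ∧ r ≫ s = b) ↔ (yon S).map a ≫ π = (yon S).map b ≫ π := by
    intro T a b
    constructor
    · rintro ⟨r, rfl, rfl⟩
      rw [Functor.map_comp, Functor.map_comp, Category.assoc, Category.assoc, kp.w]
    · intro h
      obtain ⟨r, hr⟩ := (yon S).map_surjective (kp.lift _ _ h)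
      refine ⟨r, (yon S).map_injective ?_, (yon S).map_injective ?_⟩
      · rw [Functor.map_comp, hr, kp.lift_fst]
      · rw [Functor.map_comp, hr, kp.lift_snd]
  refine ⟨fun T r r' h1 h2 => ?_, fun T => ?_⟩
  · apply (yon S).map_injective
    apply kp.hom_ext
    · rw [← Functor.map_comp, ← Functor.map_comp, h1]
    · rw [← Functor.map_comp, ← Functor.map_comp, h2]
  · refine ⟨fun a => (key T a a).2 rfl, fun {a b} h => (key T b a).2 ((key T a b).1 h).symm,
      fun {a b c} h1 h2 => (key T a c).2 (((key T a b).1 h1).trans ((key T b c).1 h2))⟩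

/-- **bootstrap, presentation form**: a sheaf with a flat lfp presentation by schemes is an
algebraic space -/
theorem isAlgSpace_of_flat_lfp_kernelPair {R U : Over S} (s t : R ⟶ U)
    [Flat s.left] [LocallyOfFinitePresentation s.left]
    [Flat t.left] [LocallyOfFinitePresentation t.left]
    {F : Sp S} (π : (yon S).obj U ⟶ F) (hπ : Sheaf.IsLocallySurjective π)
    (kp : IsPullback ((yon S).map t) ((yon S).map s) π π) : IsAlgSpace F := by
  have h : IsEqvRel s t := isEqvRel_of_kernelPair s t π kp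
  haveI : Mono (GQ.ofEqvRel s t h).j := GQ.ofEqvRel_mono_j s t h
  haveI : Flat (GQ.ofEqvRel s t h).s := ‹Flat s.left›
  haveI : LocallyOfFinitePresentation (GQ.ofEqvRel s t h).s :=
    ‹LocallyOfFinitePresentation s.left›
  haveI : Flat (GQ.ofEqvRel s t h).t := ‹Flat t.left›
  haveI : LocallyOfFinitePresentation (GQ.ofEqvRel s t h).t :=
    ‹LocallyOfFinitePresentation t.left›
  let ε : R ≅ Boot.RO (GQ.ofEqvRel s t h) := Over.isoMk (Iso.refl R.left) (by
    show 𝟙 R.left ≫ s.left ≫ U.hom = R.hom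
    rw [Category.id_comp]; exact Over.w s)
  have hεt : ε.hom ≫ tO (GQ.ofEqvRel s t h) = t := by
    ext
    show 𝟙 R.left ≫ t.left = t.left
    rw [Category.id_comp]
  have hεs : ε.hom ≫ sO (GQ.ofEqvRel s t h) = s := by
    ext
    show 𝟙 R.left ≫ s.left = s.left
    rw [Category.id_comp]
  have kp' : IsPullback ((yon S).map (tO (GQ.ofEqvRel s t h)))
      ((yon S).map (sO (GQ.ofEqvRel s t h))) π π :=
    IsPullback.of_iso kp ((yon S).mapIso ε) (Iso.refl _) (Iso.refl _) (Iso.refl _)
      (by rw [Iso.refl_hom, Category.comp_id, Functor.mapIso_hom, ← Functor.map_comp, hεt])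
      (by rw [Iso.refl_hom, Category.comp_id, Functor.mapIso_hom, ← Functor.map_comp, hεs])
      (by simp) (by simp)
  obtain ⟨G₂, g_o, r_o, hm, h1, h2, h3, h4, h5, h6, hRR, hπ₂, kp₂⟩ :=
    Slice.exists_lqf_presentation (GQ.ofEqvRel s t h) π hπ kp'
  haveI := hm
  haveI := h1
  haveI := h2
  haveI := h3
  haveI := h4
  haveI := h5
  haveI := h6
  exact isAlgSpace_of_lqf_grpd G₂ _ hπ₂ kp₂

end Groth.Agent.Lib.Helper3.Fp
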