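import Mathlib
import Groth.Prelude.Def_AlgSpRep
import Groth.Prelude.Def_AlgSp4
import Groth.Agent.Lib.Helper15.Boot2
import Groth.Agent.Lib.Helper3.FpA

set_option autoImplicit false
universe u

namespace Groth.Agent.Lib.Helper3.Fp

open AlgebraicGeometry CategoryTheory Limits Grpd AlgSp
open Groth.Agent.Lib.Helper3 Groth.Agent.Lib.Helper3.Spl Groth.Agent.Lib.Helper3.Boot
open Groth.Agent.Lib.Helper15

set_option backward.isDefEq.respectTransparency false

variable {S : Scheme.{u}}

/-- a map from a scheme whose base changes to schemes are fppf covers is locally surjective -/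
theorem isLocallySurjective_of_fppf_pullbacks {U : Over S} {F : Sp S} (π : (yon S).obj U ⟶ F)
    (h : ∀ (T : Over S) (ξ : (yon S).obj T ⟶ F), ∃ (R : Over S) (fst : (yon S).obj R ⟶ (yon S).obj U)
      (snd : R ⟶ T), fst ≫ π = (yon S).map snd ≫ ξ ∧ Flat snd.left ∧
        LocallyOfFinitePresentation snd.left ∧ Surjective snd.left) :
    Sheaf.IsLocallySurjective π := by
  rw [Sheaf.isLocallySurjective_iff_epi]
  refine ⟨fun {Z} g k hgk => ?_⟩
  apply AffDesc.hom_ext_of_yon
  intro T ξ
  obtain ⟨R, fst, snd, w, h1, h2, h3⟩ := h T ξ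
  haveI := h1
  haveI := h2
  haveI := h3
  haveI : Epi ((yon S).map snd) :=
    (Sheaf.isLocallySurjective_iff_epi _).1 (QAffDesc.isLocallySurjective_yon_map_of_fppf snd)
  rw [← cancel_epi ((yon S).map snd), ← Category.assoc, ← Category.assoc, ← w, Category.assoc,
    Category.assoc, hgk]

/-- the base change to a scheme of `h_{U'} → U → F` -/
theorem fppf_of_isPullback {F : Sp S} {U : Sp S} (p : U ⟶ F)
    (hp : RepBySpWith Boot2.Qfppf p.hom) {U' : Over S} (a : (yon S).obj U' ⟶ U)
    (hae : RepWith @Etale a) (has : RepWith @Surjective a)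
    {T R : Over S} (ξ : (yon S).obj T ⟶ F) (fst : (yon S).obj R ⟶ (yon S).obj U') (snd : R ⟶ T)
    (sq : IsPullback fst ((yon S).map snd) (a ≫ p) ξ) :
    Flat snd.left ∧ LocallyOfFinitePresentation snd.left ∧ Surjective snd.left := by
  have hp' := (repBySpWith_hom_iff _ p).mp hp
  obtain ⟨hX, ⟨hsurj, hflat⟩, hlfp⟩ := hp' ξ (pullback.fst p ξ) (pullback.snd p ξ)
    (IsPullback.of_hasPullback p ξ)
  have hw : (fst ≫ a) ≫ p = (yon S).map snd ≫ ξ := by rw [Category.assoc]; exact sq.w
  have sqe : IsPullback fst (pullback.lift (fst ≫ a) ((yon S).map snd) hw) a (pullback.fst p ξ) := by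
    refine IsPullback.of_bot ?_ (pullback.lift_fst _ _ _).symm (IsPullback.of_hasPullback p ξ)
    rw [pullback.lift_snd]
    exact sq
  have hee : RepWith @Etale (pullback.lift (fst ≫ a) ((yon S).map snd) hw) :=
    MorphismProperty.of_isPullback sqe hae
  have hes : RepWith @Surjective (pullback.lift (fst ≫ a) ((yon S).map snd) hw) :=
    MorphismProperty.of_isPullback sqe has
  have hcomm : pullback.lift (fst ≫ a) ((yon S).map snd) hw ≫ pullback.snd p ξ =
      (yon S).map snd ≫ 𝟙 _ := by rw [pullback.lift_snd, Category.comp_id]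
  refine ⟨hflat _ (𝟙 _) snd hee (repWith_id _ T) hcomm, hlfp _ (𝟙 _) snd hee (repWith_id _ T) hcomm,
    ⟨surjective_of_isSurjectiveMor_yon_map snd ?_⟩⟩
  rw [← pullback.lift_snd (fst ≫ a) ((yon S).map snd) hw]
  exact isSurjectiveMor_comp (isSurjectiveMor_of_repWith hes) hsurj

/-- **bootstrap**: a sheaf with an fppf cover by an algebraic space, representable by algebraic
spaces, is an algebraic space -/
theorem main10104 (F : Sp S) (U : Space S) (p : U.obj ⟶ F)
    (hp : RepBySpWith (IsSurjectiveMor ⊓ LocP @Flat ⊓ LocP @LocallyOfFinitePresentation) p.hom) :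
    IsAlgSpace F := by
  have hd : Representable (Limits.diag F) := Boot2.main F U p hp
  obtain ⟨U', a, hae, has⟩ := U.property.atlas
  have hrep : Representable (a ≫ p) := Functor.relativelyRepresentable.of_diag hd (a ≫ p)
  have hπ : Sheaf.IsLocallySurjective (a ≫ p) := by
    apply isLocallySurjective_of_fppf_pullbacks
    intro T ξ
    obtain ⟨R, snd, fst, sq⟩ := hrep ξ
    obtain ⟨h1, h2, h3⟩ := fppf_of_isPullback p hp a hae has ξ fst snd sq
    exact ⟨R, fst, snd, sq.w, h1, h2, h3⟩
  obtain ⟨R, snd, fst, sq⟩ := hrep (a ≫ p)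
  obtain ⟨t, ht⟩ := (yon S).map_surjective fst
  rw [← ht] at sq
  obtain ⟨h1, h2, -⟩ := fppf_of_isPullback p hp a hae has (a ≫ p) _ snd sq
  obtain ⟨h3, h4, -⟩ := fppf_of_isPullback p hp a hae has (a ≫ p) _ t sq.flip
  haveI := h1
  haveI := h2
  haveI := h3
  haveI := h4
  exact isAlgSpace_of_flat_lfp_kernelPair snd t (a ≫ p) hπ sq

end Groth.Agent.Lib.Helper3.Fp
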