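import Mathlib
import Groth.Prelude.Def_AlgSpRep
import Groth.Prelude.Def_AlgSp4
import Groth.Prelude.Def_AlgSpGpd
import Groth.Agent.Lib.Helper15.Boot2
import Groth.Agent.Lib.Helper15.QuotPi
import Groth.Agent.Lib.Helper3.FpB

set_option autoImplicit false
universe u

namespace Groth.Agent.Lib.Helper3.Fp

open AlgebraicGeometry CategoryTheory Limits Grpd AlgSp
open Groth.Agent.Lib.Helper3 Groth.Agent.Lib.Helper3.Spl Groth.Agent.Lib.Helper3.Boot
open Groth.Agent.Lib.Helper15

set_option backward.isDefEq.respectTransparency false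

variable {S : Scheme.{u}}

theorem isLocallySurjective_of_etale_surjective {F G : Sp S} (a : F ⟶ G) (hae : RepWith @Etale a)
    (has : RepWith @Surjective a) : Sheaf.IsLocallySurjective a :=
  Groth.Agent.S9885.result S F G a
    (repWith_mono (fun _ _ f hf => by have : Etale f := hf; exact (inferInstance : Flat f)) hae)
    (repWith_mono (fun _ _ f hf => by
      have : Etale f := hf; exact (inferInstance : LocallyOfFinitePresentation f)) hae) has

theorem locP_of_etale {P : MorphismProperty Scheme.{u}} (hP : IsEtLocal P) {F G : Sp S} (a : F ⟶ G)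
    (hae : RepWith @Etale a) : LocP P a :=
  locP_mono (fun _ _ f hf => hP.etale_le f hf) (locP_of_repWith isEtLocal_etale a hae)

/-- kernel pair form, with a scheme as the cover -/
theorem isAlgSpace_of_kernelPair_yon {F K' : Sp S} {U' : Over S} (hK' : IsAlgSpace K')
    (π' : (yon S).obj U' ⟶ F) (hπ' : Sheaf.IsLocallySurjective π')
    (k1' k2' : K' ⟶ (yon S).obj U') (big : IsPullback k1' k2' π' π')
    (h1 : LocP @Flat k1' ∧ LocP @LocallyOfFinitePresentation k1')
    (h2 : LocP @Flat k2' ∧ LocP @LocallyOfFinitePresentation k2') : IsAlgSpace F := by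
  have hU' := IsAlgSpace.yon_obj U'
  have hXX : IsAlgSpace ((yon S).obj U' ⨯ (yon S).obj U') := isAlgSpace_prod hU' hU'
  haveI : Mono (prod.lift k1' k2') := by
    refine ⟨fun {Z} x y hxy => ?_⟩
    apply big.hom_ext
    · have := congrArg (fun m => m ≫ (prod.fst : (yon S).obj U' ⨯ (yon S).obj U' ⟶ _)) hxy
      simpa only [Category.assoc, prod.lift_fst] using this
    · have := congrArg (fun m => m ≫ (prod.snd : (yon S).obj U' ⨯ (yon S).obj U' ⟶ _)) hxy
      simpa only [Category.assoc, prod.lift_snd] using this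
  have hlft : LocP @LocallyOfFiniteType (prod.lift k1' k2') := by
    apply EtCoverDesc.locP_lft_of_comp hK' hXX hU' _ prod.fst
    rw [prod.lift_fst]
    exact locP_mono (fun _ _ f hf => by
      have : LocallyOfFinitePresentation f := hf
      exact (inferInstance : LocallyOfFiniteType f)) h1.2
  have hrep : Representable (prod.lift k1' k2') :=
    MonoLft.representable_of_mono_lft hK' hXX _ hlft
  obtain ⟨R', snd, fst, sq⟩ := hrep (prodComparison (yon S) U' U')
  haveI : IsIso fst := sq.isIso_fst_of_isIso
  have e1 : (yon S).map (snd ≫ prod.fst) = fst ≫ k1' := by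
    have := congrArg (fun m => m ≫ (prod.fst : (yon S).obj U' ⨯ (yon S).obj U' ⟶ _)) sq.w
    simp only [Category.assoc, prod.lift_fst, prodComparison_fst] at this
    rw [Functor.map_comp]
    exact this.symm
  have e2 : (yon S).map (snd ≫ prod.snd) = fst ≫ k2' := by
    have := congrArg (fun m => m ≫ (prod.snd : (yon S).obj U' ⨯ (yon S).obj U' ⟶ _)) sq.w
    simp only [Category.assoc, prod.lift_snd, prodComparison_snd] at this
    rw [Functor.map_comp]
    exact this.symm
  have kp' : IsPullback ((yon S).map (snd ≫ prod.fst)) ((yon S).map (snd ≫ prod.snd)) π' π' :=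
    IsPullback.of_iso big (asIso fst).symm (Iso.refl _) (Iso.refl _) (Iso.refl _)
      (by simp [e1]) (by simp [e2]) (by simp) (by simp)
  have f1 : ∀ (P : MorphismProperty Scheme.{u}), LocP P k1' → P (snd ≫ prod.fst).left :=
    fun P h => by
      apply locP_yon_map (P := P)
      rw [e1]
      exact FieldBase.locP_iso_comp fst h
  have f2 : ∀ (P : MorphismProperty Scheme.{u}), LocP P k2' → P (snd ≫ prod.snd).left :=
    fun P h => by
      apply locP_yon_map (P := P)
      rw [e2]
      exact FieldBase.locP_iso_comp fst h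
  haveI : Flat (snd ≫ prod.fst).left := f1 _ h1.1
  haveI : LocallyOfFinitePresentation (snd ≫ prod.fst).left := f1 _ h1.2
  haveI : Flat (snd ≫ prod.snd).left := f2 _ h2.1
  haveI : LocallyOfFinitePresentation (snd ≫ prod.snd).left := f2 _ h2.2
  exact isAlgSpace_of_flat_lfp_kernelPair (snd ≫ prod.snd) (snd ≫ prod.fst) π' hπ' kp'

/-- **bootstrap, kernel pair form**: a sheaf `F` with a locally surjective map `π` from an algebraic
space `U` whose kernel pair is an algebraic space with flat lfp projections is an algebraic space -/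
theorem isAlgSpace_of_kernelPair_sp {F U K : Sp S} (hU : IsAlgSpace U) (hK : IsAlgSpace K)
    (π : U ⟶ F) (hπ : Sheaf.IsLocallySurjective π) (k1 k2 : K ⟶ U)
    (kp : IsPullback k1 k2 π π)
    (h1 : LocP @Flat k1 ∧ LocP @LocallyOfFinitePresentation k1)
    (h2 : LocP @Flat k2 ∧ LocP @LocallyOfFinitePresentation k2) : IsAlgSpace F := by
  obtain ⟨U', a, hae, has⟩ := hU.atlas
  have hU' := IsAlgSpace.yon_obj U'
  -- local surjectivity
  have hπ' : Sheaf.IsLocallySurjective (a ≫ π) := by
    haveI : Epi a := (Sheaf.isLocallySurjective_iff_epi _).1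
      (isLocallySurjective_of_etale_surjective a hae has)
    haveI : Epi π := (Sheaf.isLocallySurjective_iff_epi _).1 hπ
    exact (Sheaf.isLocallySurjective_iff_epi _).2 (epi_comp _ _)
  -- the grid
  have BL := IsPullback.of_hasPullback k1 a
  have TR := (IsPullback.of_hasPullback k2 a).flip
  have TL := (IsPullback.of_hasPullback (pullback.fst k1 a) (pullback.fst k2 a)).flip
  have big := (TL.paste_horiz TR).paste_vert (BL.paste_horiz kp.flip)
  have hR1 : IsAlgSpace (pullback k1 a) := isAlgSpace_of_isPullback' hU hK hU' BL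
  have hR2 : IsAlgSpace (pullback k2 a) := isAlgSpace_of_isPullback' hU hK hU' TR.flip
  have hK' : IsAlgSpace (pullback (pullback.fst k1 a) (pullback.fst k2 a)) :=
    isAlgSpace_of_isPullback' hK hR1 hR2 TL.flip
  -- étale maps in the grid
  have he1 : RepWith @Etale (pullback.fst k1 a) := MorphismProperty.of_isPullback BL.flip hae
  have he2 : RepWith @Etale (pullback.fst k2 a) := MorphismProperty.of_isPullback TR hae
  have heK1 : RepWith @Etale (pullback.fst (pullback.fst k1 a) (pullback.fst k2 a)) :=
    MorphismProperty.of_isPullback TL he2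
  have heK2 : RepWith @Etale (pullback.snd (pullback.fst k1 a) (pullback.fst k2 a)) :=
    MorphismProperty.of_isPullback TL.flip he1
  -- properties of the projections of the new kernel pair
  have hk1' : ∀ (P : MorphismProperty Scheme.{u}), IsEtLocal P → LocP P k2 →
      LocP P (pullback.snd (pullback.fst k1 a) (pullback.fst k2 a) ≫ pullback.snd k2 a) :=
    fun P hP h => locP_comp hP hK' hR2 hU' _ _ (locP_of_etale hP _ heK2)
      (locP_of_isPullback hP hK hU hU' hR2 k2 a _ _ TR.flip h)
  have hk2' : ∀ (P : MorphismProperty Scheme.{u}), IsEtLocal P → LocP P k1 →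
      LocP P (pullback.fst (pullback.fst k1 a) (pullback.fst k2 a) ≫ pullback.snd k1 a) :=
    fun P hP h => locP_comp hP hK' hR1 hU' _ _ (locP_of_etale hP _ heK1)
      (locP_of_isPullback hP hK hU hU' hR1 k1 a _ _ BL h)
  exact isAlgSpace_of_kernelPair_yon hK' (a ≫ π) hπ' _ _ big
    ⟨hk1' _ isEtLocal_flat h2.1, hk1' _ isEtLocal_locallyOfFinitePresentation h2.2⟩
    ⟨hk2' _ isEtLocal_flat h1.1, hk2' _ isEtLocal_locallyOfFinitePresentation h1.2⟩

/-- **bootstrap for algebraic spaces** -/
theorem main10102 (R U : Sp S) (hR : IsAlgSpace R) (hU : IsAlgSpace U) (s t : R ⟶ U)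
    (hj : IsEqvRelSp s t)
    (hs : LocP @Flat s ∧ LocP @LocallyOfFinitePresentation s)
    (ht : LocP @Flat t ∧ LocP @LocallyOfFinitePresentation t) :
    IsAlgSpace (quotSp s t) :=
  isAlgSpace_of_kernelPair_sp hU hR (quotSpπ s t) QuotPi.quotSpπ_locallySurjective t s
    (QuotPi.isPullback_quot hj) ht hs

end Groth.Agent.Lib.Helper3.Fp
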