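import Mathlib
import Groth.Prelude.Def_AlgSpRep
import Groth.Prelude.Def_AlgSp4
import Groth.Agent.Lib.Helper3.FpC

set_option autoImplicit false
universe u

namespace Groth.Agent.Lib.Helper3.Fp

open AlgebraicGeometry CategoryTheory Limits Grpd AlgSp
open Groth.Agent.Lib.Helper3 Groth.Agent.Lib.Helper3.Spl Groth.Agent.Lib.Helper3.Boot
open Groth.Agent.Lib.Helper15

set_option backward.isDefEq.respectTransparency false

variable {S : Scheme.{u}}

/-- `RepBySpWith Q` is stable under base change (sheaf level) -/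
theorem repBySpWith_of_isPullback (Q : MorphismProperty (Sp S)) {F G F' G' : Sp S} {a : F ⟶ G}
    {g : G' ⟶ G} {f1 : F' ⟶ F} {f2 : F' ⟶ G'} (sq : IsPullback f1 f2 a g)
    (ha : RepBySpWith Q a.hom) : RepBySpWith Q f2.hom := by
  have ha' := (repBySpWith_hom_iff _ a).mp ha
  rw [repBySpWith_hom_iff]
  intro T ζ P x y sqP
  exact ha' (ζ ≫ g) (x ≫ f1) y (sqP.paste_horiz sq)

theorem main10106 (F G H : Sp S) (a : F ⟶ G) (b : G ⟶ H)
    (ha : RepBySpWith (IsSurjectiveMor ⊓ LocP @Flat ⊓ LocP @LocallyOfFinitePresentation) a.hom)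
    (hab : RepBySp (a ≫ b).hom) : RepBySp b.hom := by
  have hab' := (repBySp_hom_iff (a ≫ b)).mp hab
  rw [repBySp_hom_iff]
  intro T ξ G' fst snd sq
  have sqF := IsPullback.of_hasPullback a fst
  have hF' : IsAlgSpace (pullback a fst) := hab' ξ _ _ (sqF.paste_vert sq)
  exact main10104 G' ⟨pullback a fst, hF'⟩ (pullback.snd a fst)
    (repBySpWith_of_isPullback _ sqF ha)

end Groth.Agent.Lib.Helper3.Fp
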