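import Mathlib
import Groth.Agent.Lib.Helper3.SpCoprod4
set_option autoImplicit false
universe u w
open CategoryTheory CategoryTheory.Limits AlgebraicGeometry TopologicalSpace Opposite

namespace Groth.Agent.Lib.Helper3

open AlgSp

namespace SpCoprod

variable {S : Scheme.{u}}

/-- An atlas of a coproduct of sheaves built from atlases of the summands: the glued scheme is
covered by the atlases of the summands. -/
theorem exists_atlas_cofan {κ : Type u} {G : κ → Sp S} (d : Cofan G) (hd : IsColimit d)
    (U : κ → Over S) (p : ∀ i, (yon S).obj (U i) ⟶ G i) (hpe : ∀ i, RepWith @Etale (p i))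
    (hps : ∀ i, RepWith @Surjective (p i)) :
    ∃ (G₀ : Over S) (D : (yon S).obj G₀ ⟶ d.pt) (j : ∀ i, U i ⟶ G₀),
      RepWith @Etale D ∧ RepWith @Surjective D ∧ (∀ i, (yon S).map (j i) ≫ D = p i ≫ d.inj i) ∧
      (∀ i, IsOpenImmersion (j i).left) ∧ ∀ g : ↥G₀.left, ∃ i, g ∈ Set.range (j i).left := by
  let c' : Cofan (fun i => (yon S).obj (U i)) := Cofan.mk (∐ fun i => (yon S).obj (U i))
    (Sigma.ι fun i => (yon S).obj (U i))
  have hc' : IsColimit c' := coproductIsCoproduct _
  let D : c'.pt ⟶ d.pt := Cofan.IsColimit.desc hc' (fun i => p i ≫ d.inj i)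
  have hD : ∀ i, c'.inj i ≫ D = p i ≫ d.inj i := fun i => Cofan.IsColimit.fac hc' _ i
  have sq := isPullback_inj_desc d hd c' hc' p D hD
  have hDe : RepWith @Etale D :=
    repWith_of_zarCover @Etale D G (fun i => d.inj i) (isZarCover_inj d hd) _
      (fun i => c'.inj i) p sq hpe
  have hDs : RepWith @Surjective D :=
    repWith_of_zarCover @Surjective D G (fun i => d.inj i) (isZarCover_inj d hd) _
      (fun i => c'.inj i) p sq hps
  obtain ⟨G₀, e, j, hje, hjo, hjs⟩ := exists_iso_yon_of_cofan_yon U c' hc'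
  refine ⟨G₀, e.hom ≫ D, j, (MorphismProperty.cancel_left_of_respectsIso _ e.hom D).2 hDe,
    (MorphismProperty.cancel_left_of_respectsIso _ e.hom D).2 hDs, fun i => ?_, hjo, hjs⟩
  rw [← Category.assoc, hje, hD]

/-- A finite coproduct of quasi-compact sheaves is quasi-compact. -/
theorem isQuasiCompactSp_cofan_pt {κ : Type u} [Finite κ] {G : κ → Sp S} (d : Cofan G)
    (hd : IsColimit d) (h : ∀ i, IsQuasiCompactSp (G i)) : IsQuasiCompactSp d.pt := by
  choose U p hpe hps hU using h
  obtain ⟨G₀, D, j, hDe, hDs, -, -, hjs⟩ := exists_atlas_cofan d hd U p hpe hps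
  refine ⟨G₀, D, hDe, hDs, ?_⟩
  change CompactSpace ↥G₀.left
  rw [← isCompact_univ_iff]
  have : (Set.univ : Set ↥G₀.left) = ⋃ i, Set.range (j i).left := by
    ext g
    simp only [Set.mem_univ, Set.mem_iUnion, true_iff]
    exact hjs g
  rw [this]
  exact isCompact_iUnion fun i =>
    have : CompactSpace ↥(U i).left := hU i
    isCompact_range (j i).left.continuous

end SpCoprod

end Groth.Agent.Lib.Helper3
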