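import Mathlib
import Groth.Prelude.Def_AlgSpRep
import Groth.Prelude.Def_AlgSp4
import Groth.Prelude.Def_AlgSpCov
import Groth.Agent.Lib.Helper3.FpD
import Groth.Agent.Lib.Helper3.SpCoprod5
import Groth.Agent.Lib.Helper3.AlgSpLocSrc2
import Groth.Agent.Lib.Helper3.AlgSpLargestOpen

set_option autoImplicit false
universe u

namespace Groth.Agent.Lib.Helper3.Fp

open AlgebraicGeometry CategoryTheory Limits Grpd AlgSp
open Groth.Agent.Lib.Helper3 Groth.Agent.Lib.Helper3.Spl Groth.Agent.Lib.Helper3.Boot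
open Groth.Agent.Lib.Helper15

set_option backward.isDefEq.respectTransparency false

variable {S : Scheme.{u}}

/-- an fppf surjective morphism of algebraic spaces is representable by algebraic spaces, with
fppf surjective base changes -/
theorem repBySpWith_of_qfppf {X Y : Sp S} (hX : IsAlgSpace X) (hY : IsAlgSpace Y) (f : X ⟶ Y)
    (hf : Boot2.Qfppf f) : RepBySpWith Boot2.Qfppf f.hom := by
  rw [repBySpWith_hom_iff]
  intro T ξ P fst snd sq
  have hP : IsAlgSpace P := isAlgSpace_of_isPullback' hY hX (IsAlgSpace.yon_obj T) sq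
  exact ⟨hP, Boot2.qfppf_of_isPullback hX hY (IsAlgSpace.yon_obj T) hP sq hf⟩

/-- the coproduct of an fppf covering is an fppf surjective morphism -/
theorem qfppf_desc_of_isFppfCover {X : Sp S} (hX : IsAlgSpace X) {ι : Type u} (Xi : ι → Sp S)
    (hXi : ∀ i, IsAlgSpace (Xi i)) (g : ∀ i, Xi i ⟶ X) (hcov : IsFppfCover Xi g)
    (c : Cofan Xi) (hc : IsColimit c) :
    Boot2.Qfppf (Cofan.IsColimit.desc hc g) := by
  have hX' : IsAlgSpace c.pt := SpCoprod.isAlgSpace_cofan_pt hXi c hc
  have hfac : ∀ i, c.inj i ≫ Cofan.IsColimit.desc hc g = g i := fun i =>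
    Cofan.IsColimit.fac hc _ i
  have hz := SpCoprod.isZarCover_inj c hc
  have hinj : ∀ i, RepWith @Etale (c.inj i) := fun i =>
    repWith_mono isOpenImmersion_le_etale (hz.1 i)
  refine ⟨⟨?_, ?_⟩, ?_⟩
  · intro x
    obtain ⟨i, y, rfl⟩ := hcov.2 x
    refine ⟨Points.map (c.inj i) y, ?_⟩
    rw [← Points.map_comp, hfac]
  · refine locP_flat_of_flat_cover_comp Xi (fun i => c.inj i) hX' hXi
      (fun i => locP_of_etale isEtLocal_flat _ (hinj i)) hz.2 _ hX (fun i => ?_)
    rw [hfac]
    exact (hcov.1 i).1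
  · refine locP_of_cover_comp (Q := @Etale) isEtLocal_locallyOfFinitePresentation
      (fun T p hpe hps h hh => isEtLocal_locallyOfFinitePresentation.of_family_comp T p hpe hps h hh)
      Xi (fun i => c.inj i) hX' hXi
      (fun i => locP_of_repWith isEtLocal_etale _ (hinj i)) hz.2 _ hX (fun i => ?_)
    rw [hfac]
    exact (hcov.1 i).2

/-- **fppf descent for algebraic spaces** -/
theorem main10138 (X : Space S) {ι : Type u} (Xi : ι → Space S) (g : ∀ i, (Xi i).obj ⟶ X.obj)
    (hcov : IsFppfCover (fun i => (Xi i).obj) g) (F : Sp S) (p : F ⟶ X.obj)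
    (h : ∀ (i : ι) (P : Sp S) (fst : P ⟶ F) (snd : P ⟶ (Xi i).obj),
      IsPullback fst snd p (g i) → IsAlgSpace P) : IsAlgSpace F := by
  let c : Cofan (fun i => (Xi i).obj) := Cofan.mk (∐ fun i => (Xi i).obj)
    (Sigma.ι fun i => (Xi i).obj)
  have hc : IsColimit c := coproductIsCoproduct _
  have hXi : ∀ i, IsAlgSpace (Xi i).obj := fun i => (Xi i).property
  have hX' : IsAlgSpace c.pt := SpCoprod.isAlgSpace_cofan_pt hXi c hc
  have hfac : ∀ i, c.inj i ≫ Cofan.IsColimit.desc hc g = g i := fun i =>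
    Cofan.IsColimit.fac hc _ i
  have hq := qfppf_desc_of_isFppfCover X.property _ hXi g hcov c hc
  have hz := SpCoprod.isZarCover_inj c hc
  generalize Cofan.IsColimit.desc hc g = g' at hfac hq
  have sqW := IsPullback.of_hasPullback p g'
  have sqWi := fun i => IsPullback.of_hasPullback (pullback.snd p g') (c.inj i)
  have hW : IsAlgSpace (pullback p g') := by
    refine isAlgSpace_of_zarCover (fun i => pullback (pullback.snd p g') (c.inj i))
      (fun i => pullback.fst _ _) ⟨fun i => ?_, fun w => ?_⟩ (fun i => ?_)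
    · exact MorphismProperty.of_isPullback (sqWi i).flip (hz.1 i)
    · obtain ⟨i, y, hy⟩ := hz.2 (Points.map (pullback.snd p g') w)
      obtain ⟨z, hz1, -⟩ := Points.exists_of_isPullback (sqWi i) w y hy.symm
      exact ⟨i, z, hz1⟩
    · have big := (sqWi i).flip.paste_vert sqW.flip
      rw [hfac i] at big
      exact h i _ _ _ big.flip
  exact main10104 F ⟨pullback p g', hW⟩ (pullback.fst p g')
    (repBySpWith_of_isPullback _ sqW.flip (repBySpWith_of_qfppf hX' X.property g' hq))

end Groth.Agent.Lib.Helper3.Fp
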