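import Mathlib
import Groth.Prelude.Def_AlgSpRep
import Groth.Prelude.Def_AlgSp4
import Groth.Prelude.Def_AlgSpCov
import Groth.Agent.Lib.Helper3.FpE

set_option autoImplicit false
universe u

namespace Groth.Agent.Lib.Helper3.Fp

open AlgebraicGeometry CategoryTheory Limits Grpd AlgSp
open Groth.Agent.Lib.Helper3 Groth.Agent.Lib.Helper3.Spl Groth.Agent.Lib.Helper3.Boot
open Groth.Agent.Lib.Helper15

set_option backward.isDefEq.respectTransparency false

variable {S : Scheme.{u}}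

/-- `h_S` is a terminal sheaf -/
noncomputable def isTerminalYonBase : IsTerminal ((yon S).obj (Over.mk (𝟙 S))) :=
  IsTerminal.isTerminalObj (yon S) _ Over.mkIdTerminal

/-- a pullback over a terminal object is a product -/
theorem isPullback_prod_of_isTerminal {C : Type*} [Category C] {A B Z : C} [HasBinaryProduct A B]
    (hZ : IsTerminal Z) (f : A ⟶ Z) (g : B ⟶ Z) :
    IsPullback (prod.fst : A ⨯ B ⟶ A) prod.snd f g := by
  refine ⟨⟨hZ.hom_ext _ _⟩, ⟨PullbackCone.IsLimit.mk _ (fun s => prod.lift s.fst s.snd) ?_ ?_ ?_⟩⟩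
  · intro s; simp
  · intro s; simp
  · intro s m h1 h2
    apply prod.hom_ext
    · simpa using h1
    · simpa using h2

theorem main10105 (F : Sp S) {ι : Type u} (Si : ι → Over S)
    (hfl : ∀ i, Flat (Si i).hom) (hfp : ∀ i, LocallyOfFinitePresentation (Si i).hom)
    (hsurj : ∀ x : ↥S, ∃ (i : ι) (y : ↥(Si i).left), (Si i).hom.base y = x)
    (halg : ∀ i, IsAlgSpace ((yon S).obj (Si i) ⨯ F)) : IsAlgSpace F := by
  let T₀ : Over S := Over.mk (𝟙 S)
  have hT : IsTerminal ((yon S).obj T₀) := isTerminalYonBase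
  let g₀ : ∀ i, Si i ⟶ T₀ := fun i => Over.homMk (Si i).hom
  have hg₀ : ∀ i, (g₀ i).left = (Si i).hom := fun i => rfl
  refine main10138 ⟨(yon S).obj T₀, IsAlgSpace.yon_obj T₀⟩
    (fun i => ⟨(yon S).obj (Si i), IsAlgSpace.yon_obj (Si i)⟩)
    (fun i => (yon S).map (g₀ i)) ⟨fun i => ⟨?_, ?_⟩, fun x => ?_⟩ F (hT.from F) ?_
  · exact locP_of_repWith isEtLocal_flat _ ((repWith_yon_map_iff _ _).2 (by rw [hg₀]; exact hfl i))
  · exact locP_of_repWith isEtLocal_locallyOfFinitePresentation _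
      ((repWith_yon_map_iff _ _).2 (by rw [hg₀]; exact hfp i))
  · obtain ⟨x₀, rfl⟩ := (Points.schemeHomeo T₀).surjective x
    obtain ⟨i, y, hy⟩ := hsurj x₀
    refine ⟨i, Points.schemeHomeo (Si i) y, ?_⟩
    rw [Points.map_yon_map_apply]
    congr 1
  · intro i P fst snd sq
    have sq' := isPullback_prod_of_isTerminal hT ((yon S).map (g₀ i)) (hT.from F)
    exact (halg i).of_iso (sq'.isoIsPullback _ _ sq.flip)

end Groth.Agent.Lib.Helper3.Fp
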