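import Groth.Statements.S10117
import Mathlib.CategoryTheory.Monoidal.Cartesian.Grp
set_option autoImplicit false
universe u
open CategoryTheory CategoryTheory.Limits MonoidalCategory CartesianMonoidalCategory MonObj GrpObj AlgebraicGeometry
open AlgSp

namespace Groth.Agent.Lib.Helper3.GActFree

theorem main (S : Scheme.{u}) (B : AlgSp.Sp S)
    (G X : Over B) [GrpObj G]
    (a : AlgSp.GAction G X) (ha : a.IsFree) :
    Mono (CartesianMonoidalCategory.lift a.act (CartesianMonoidalCategory.snd G X)).left := by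
  have hone : ∀ {T : Over B} (x : T ⟶ X), lift (1 : T ⟶ G) x ≫ a.act = x := by
    intro T x
    have h := congrArg (fun q => lift (toUnit T) x ≫ q) a.one_act
    simp only [lift_whiskerRight_assoc, lift_leftUnitor_hom] at h
    rw [Hom.one_def]; exact h
  have hmul : ∀ {T : Over B} (g h : T ⟶ G) (x : T ⟶ X),
      lift (g * h) x ≫ a.act = lift g (lift h x ≫ a.act) ≫ a.act := by
    intro T g h x
    have e := congrArg (fun q => lift (lift g h) x ≫ q) a.mul_act
    simp only [lift_whiskerRight_assoc, lift_lift_associator_hom_assoc, lift_whiskerLeft_assoc] at e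
    rw [Hom.mul_def]; exact e
  suffices H : ∀ {T : Over S} {u v : (AlgSp.yon S).obj T ⟶ (G ⊗ X).left},
      u ≫ (lift a.act (snd G X)).left = v ≫ (lift a.act (snd G X)).left → u = v from
    ⟨fun _ _ h ↦ (AlgSp.J S).hom_ext_uliftYoneda
      (fun _ _ ↦ H (by simp only [Category.assoc, h]))⟩
  intro T u v huv
  obtain ⟨β, hβ⟩ : ∃ β, β = u ≫ (G ⊗ X).hom := ⟨_, rfl⟩
  have hβv : v ≫ (G ⊗ X).hom = β := by
    rw [hβ, ← Over.w (lift a.act (snd G X)), reassoc_of% huv]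
  let p₁ : Over.mk β ⟶ G ⊗ X := Over.homMk u hβ.symm
  let p₂ : Over.mk β ⟶ G ⊗ X := Over.homMk v hβv
  have hp : p₁ ≫ lift a.act (snd G X) = p₂ ≫ lift a.act (snd G X) := by
    apply Over.OverMorphism.ext
    exact huv
  have h1 := congrArg (· ≫ fst X X) hp
  have h2 := congrArg (· ≫ snd X X) hp
  simp only [Category.assoc, lift_fst, lift_snd] at h1 h2
  have e₁ : p₁ = lift (p₁ ≫ fst G X) (p₁ ≫ snd G X) := (lift_comp_fst_snd p₁).symm
  have e₂ : p₂ = lift (p₂ ≫ fst G X) (p₁ ≫ snd G X) := by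
    rw [h2]; exact (lift_comp_fst_snd p₂).symm
  obtain ⟨g₁, hg₁⟩ : ∃ g₁, g₁ = p₁ ≫ fst G X := ⟨_, rfl⟩
  obtain ⟨g₂, hg₂⟩ : ∃ g₂, g₂ = p₂ ≫ fst G X := ⟨_, rfl⟩
  obtain ⟨x, hx⟩ : ∃ x, x = p₁ ≫ snd G X := ⟨_, rfl⟩
  rw [← hg₁, ← hx] at e₁
  rw [← hg₂, ← hx] at e₂
  rw [e₁, e₂] at h1
  have key : lift (g₂⁻¹ * g₁) x ≫ a.act = x := by
    rw [hmul, h1, ← hmul, inv_mul_cancel, hone]
  have := ha β (g₂⁻¹ * g₁) x key
  rw [← Hom.one_def] at this
  have hg : g₁ = g₂ := by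
    have := congrArg (fun q => g₂ * q) this
    simpa using this
  have : p₁ = p₂ := by rw [e₁, e₂, hg]
  exact congrArg CommaMorphism.left this

end Groth.Agent.Lib.Helper3.GActFree
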