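import Mathlib
import Groth.Prelude.Def_AlgSpRep
import Groth.Prelude.Def_AlgSp4
import Groth.Prelude.Def_AlgSpGpd
import Groth.Agent.Lib.Helper3.FpC
import Groth.Agent.S10107
import Groth.Agent.Lib.Helper3.GActFree

set_option autoImplicit false
universe u

namespace Groth.Agent.Lib.Helper3.Fp

open AlgebraicGeometry CategoryTheory Limits AlgSp
open MonoidalCategory CartesianMonoidalCategory MonObj GrpObj
open Groth.Agent.Lib.Helper3
open Groth.Agent.Lib.Helper15

section GAct

variable {S : Scheme.{u}} {B : Sp S} {G X : Over B} [GrpObj G] (a : GAction G X)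

theorem gact_one {T : Over B} (x : T ⟶ X) : lift (1 : T ⟶ G) x ≫ a.act = x := by
  have h := congrArg (fun q => lift (toUnit T) x ≫ q) a.one_act
  simp only [lift_whiskerRight_assoc, lift_leftUnitor_hom] at h
  rw [Hom.one_def]; exact h

theorem gact_mul {T : Over B} (g h : T ⟶ G) (x : T ⟶ X) :
    lift (g * h) x ≫ a.act = lift g (lift h x ≫ a.act) ≫ a.act := by
  have e := congrArg (fun q => lift (lift g h) x ≫ q) a.mul_act
  simp only [lift_whiskerRight_assoc, lift_lift_associator_hom_assoc, lift_whiskerLeft_assoc] at e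
  rw [Hom.mul_def]; exact e

/-- the shear involution `(g, x) ↦ (g⁻¹, g x)` -/
noncomputable def shearInv : G ⊗ X ⟶ G ⊗ X := lift ((fst G X)⁻¹) a.act

theorem shearInv_snd : shearInv a ≫ snd G X = a.act := lift_snd _ _

theorem shearInv_fst : shearInv a ≫ fst G X = (fst G X)⁻¹ := lift_fst _ _

theorem shearInv_act : shearInv a ≫ a.act = snd G X := by
  have h1 : lift ((fst G X)⁻¹) a.act ≫ a.act =
      lift ((fst G X)⁻¹) (lift (fst G X) (snd G X) ≫ a.act) ≫ a.act := by
    rw [lift_fst_snd, Category.id_comp]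
  unfold shearInv
  rw [h1, ← gact_mul, inv_mul_cancel, gact_one]

theorem shearInv_shearInv : shearInv a ≫ shearInv a = 𝟙 _ := by
  apply CartesianMonoidalCategory.hom_ext
  · rw [Category.assoc, shearInv_fst, GrpObj.comp_inv, shearInv_fst, _root_.inv_inv, Category.id_comp]
  · rw [Category.assoc, shearInv_snd, shearInv_act, Category.id_comp]

instance : IsIso (shearInv a) := ⟨shearInv a, shearInv_shearInv a, shearInv_shearInv a⟩

instance : IsIso (shearInv a).left := inferInstanceAs (IsIso ((Over.forget B).map (shearInv a)))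

/-- a free action gives an equivalence relation -/
theorem isEqvRelSp_of_isFree (ha : a.IsFree) : IsEqvRelSp (snd G X).left a.act.left := by
  -- points
  have hpt : ∀ {T : Over S} (r : (yon S).obj T ⟶ (G ⊗ X).left) (β : (yon S).obj T ⟶ B)
      (hβ : r ≫ (G ⊗ X).hom = β), ∃ p : Over.mk β ⟶ G ⊗ X, p.left = r :=
    fun r β hβ => ⟨Over.homMk r hβ, rfl⟩
  refine ⟨fun T r r' h1 h2 => ?_, fun T => ⟨fun x => ?_, fun {x y} h => ?_, fun {x y z} h1 h2 => ?_⟩⟩
  · -- injectivity from freeness
    have hm : Mono (lift a.act (snd G X)).left := GActFree.main S B G X a ha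
    rw [← cancel_mono (lift a.act (snd G X)).left]
    rw [Over.lift_left]
    apply pullback.hom_ext
    · rw [Category.assoc, Category.assoc, pullback.lift_fst]; exact h1
    · rw [Category.assoc, Category.assoc, pullback.lift_snd]; exact h2
  · -- reflexivity
    let x' : Over.mk (x ≫ X.hom) ⟶ X := Over.homMk x rfl
    refine ⟨(lift (1 : Over.mk (x ≫ X.hom) ⟶ G) x').left, ?_, ?_⟩
    · rw [← Over.comp_left, gact_one]
      rfl
    · rw [← Over.comp_left, lift_snd]
      rfl
  · -- symmetry
    obtain ⟨r, rfl, rfl⟩ := h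
    refine ⟨r ≫ (shearInv a).left, ?_, ?_⟩
    · rw [Category.assoc, ← Over.comp_left, shearInv_act]
    · rw [Category.assoc, ← Over.comp_left, shearInv_snd]
  · -- transitivity
    obtain ⟨r₁, rfl, hb⟩ := h1
    obtain ⟨r₂, hb', rfl⟩ := h2
    have hβ₁ : r₁ ≫ (G ⊗ X).hom = r₂ ≫ (G ⊗ X).hom := by
      have e1 : (G ⊗ X).hom = (snd G X).left ≫ X.hom := (Over.w (snd G X)).symm
      have e2 : (G ⊗ X).hom = a.act.left ≫ X.hom := (Over.w a.act).symm
      conv_lhs => rw [e1]
      conv_rhs => rw [e2]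
      rw [← Category.assoc, ← Category.assoc, hb, hb']
    let p₁ : Over.mk (r₂ ≫ (G ⊗ X).hom) ⟶ G ⊗ X := Over.homMk r₁ hβ₁
    let p₂ : Over.mk (r₂ ≫ (G ⊗ X).hom) ⟶ G ⊗ X := Over.homMk r₂ rfl
    have hp : p₂ ≫ a.act = p₁ ≫ snd G X := by
      apply Over.OverMorphism.ext
      rw [Over.comp_left, Over.comp_left]
      exact hb'.trans hb.symm
    refine ⟨(lift ((p₁ ≫ fst G X) * (p₂ ≫ fst G X)) (p₂ ≫ snd G X)).left, ?_, ?_⟩
    · rw [← Over.comp_left, gact_mul]
      have e2 : lift (p₂ ≫ fst G X) (p₂ ≫ snd G X) = p₂ := lift_comp_fst_snd p₂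
      rw [e2, hp]
      have e1 : lift (p₁ ≫ fst G X) (p₁ ≫ snd G X) = p₁ := lift_comp_fst_snd p₁
      rw [e1]
      rfl
    · rw [← Over.comp_left, lift_snd]
      rfl

variable (hB : IsAlgSpace B) (hG : IsAlgSpace G.left) (hX : IsAlgSpace X.left)

include hB hG hX in
theorem main10112 (ha : a.IsFree)
    (hfl : LocP @Flat G.hom ∧ LocP @LocallyOfFinitePresentation G.hom) :
    IsAlgSpace a.quot ∧
      (IsSurjectiveMor a.quotπ ∧ LocP @Flat a.quotπ ∧ LocP @LocallyOfFinitePresentation a.quotπ) ∧
      IsIso (pullback.lift a.act.left (CartesianMonoidalCategory.snd G X).left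
        (quotSp_condition (CartesianMonoidalCategory.snd G X).left a.act.left).symm :
          (G ⊗ X).left ⟶ pullback a.quotπ a.quotπ) := by
  have sqR : IsPullback (fst G X).left (snd G X).left G.hom X.hom :=
    IsPullback.of_hasPullback G.hom X.hom
  have hR : IsAlgSpace (G ⊗ X).left := isAlgSpace_of_isPullback' hB hG hX sqR
  have hj := isEqvRelSp_of_isFree a ha
  have hs : ∀ (P : MorphismProperty Scheme.{u}), IsEtLocal P → LocP P G.hom →
      LocP P (snd G X).left := fun P hP h =>
    locP_of_isPullback hP hG hB hX hR G.hom X.hom _ _ sqR h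
  have ht : ∀ (P : MorphismProperty Scheme.{u}), IsEtLocal P → LocP P G.hom →
      LocP P a.act.left := fun P hP h => by
    have e : a.act.left = (shearInv a).left ≫ (snd G X).left := by
      rw [← Over.comp_left, shearInv_snd]
    rw [e]
    exact FieldBase.locP_iso_comp _ (hs P hP h)
  have hs' := And.intro (hs _ isEtLocal_flat hfl.1)
    (hs _ isEtLocal_locallyOfFinitePresentation hfl.2)
  have ht' := And.intro (ht _ isEtLocal_flat hfl.1)
    (ht _ isEtLocal_locallyOfFinitePresentation hfl.2)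
  have hQ : IsAlgSpace a.quot := main10102 _ _ hR hX _ _ hj hs' ht'
  refine ⟨hQ, Groth.Agent.S10107.W1.main S _ _ hR hX _ _ hj hs' hQ, ?_⟩
  have kp := QuotPi.isPullback_quot hj
  have : pullback.lift a.act.left (snd G X).left
      (quotSp_condition (snd G X).left a.act.left).symm =
      (kp.isoPullback).hom := by
    apply pullback.hom_ext
    · rw [pullback.lift_fst, IsPullback.isoPullback_hom_fst]
    · rw [pullback.lift_snd, IsPullback.isoPullback_hom_snd]
  have hI : IsIso kp.isoPullback.hom := inferInstance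
  rw [← this] at hI
  exact hI

end GAct

end Groth.Agent.Lib.Helper3.Fp
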