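import Groth.Agent.Lib.Helper3.FppfLocRep
import Groth.Agent.Lib.Helper3.AlgSpFppfRefine

set_option autoImplicit false

universe u
open CategoryTheory CategoryTheory.Limits AlgebraicGeometry Opposite AlgSp MorphismProperty

namespace Groth.Agent.Lib.Helper3.FppfLoc

open Groth.Agent.Lib.Helper3 Groth.Agent.Lib.Helper3.QAffDesc Groth.Agent.Lib.Helper3.DescImm

variable {S : Scheme.{u}}

/-- **fppf locality on the base** of "representable with `P`", for `P` stable under base change,
Zariski local on the target, descending along fppf covers, and such that quasi-compact opens of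
the source of a `P`-morphism to an affine scheme are quasi-affine. -/
theorem isLocalOnBase_fppf_repWith (P : MorphismProperty Scheme.{u}) [P.IsStableUnderBaseChange]
    [IsZariskiLocalAtTarget P] [P.DescendsAlong Pfppf.{u}]
    (hP : ∀ {X Y : Scheme.{u}} (g : X ⟶ Y), IsAffine Y → P g → ∀ (V₀ : Scheme.{u}) (i : V₀ ⟶ X),
      IsOpenImmersion i → CompactSpace V₀ → V₀.IsQuasiAffine) :
    IsLocalOnBase (IsFppfCover (S := S)) (RepWith P) := by
  intro ι Y Yi g hY hYi hcov X f hX Xi p q hXi sq
  constructor
  · intro hf i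
    exact MorphismProperty.of_isPullback (sq i) hf
  · intro hp
    have key : ∀ ⦃Z : Over S⦄, IsAffine Z.left → ∀ (z : (yon S).obj Z ⟶ Y),
        ∃ (W₀ : Over S) (i : W₀ ⟶ Z) (fst₀ : (yon S).obj W₀ ⟶ X),
          IsPullback fst₀ ((yon S).map i) f z ∧ P i.left := by
      intro Z hZ z
      obtain ⟨m, W, c, hWa, hcf, hcp, hcs, hl⟩ :=
        exists_fppf_refinement_of_isFppfCover hY Yi g hYi hcov Z hZ z
      choose ij l hl using hl
      let E' : Fin m → Over S := fun j => (hp (ij j)).rep.pullback (l j)
      let w : ∀ j, E' j ⟶ W j := fun j => (hp (ij j)).rep.snd (l j)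
      let fstE : ∀ j, (yon S).obj (E' j) ⟶ X := fun j => (hp (ij j)).rep.fst (l j) ≫ q (ij j)
      have sqE : ∀ j, IsPullback (fstE j) ((yon S).map (w j)) f ((yon S).map (c j) ≫ z) := by
        intro j
        rw [← hl j]
        exact ((hp (ij j)).rep.isPullback (l j)).paste_horiz (sq (ij j))
      have hwP : ∀ j, P (w j).left := fun j => (hp (ij j)).property_snd (l j)
      obtain ⟨W₀, i, fst₀, sq₀⟩ :=
        exists_isPullback_of_fppf_family P hP f z W c hcf hcp hcs E' w hwP fstE sqE
      exact ⟨W₀, i, fst₀, sq₀,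
        prop_of_fppf_family P f z W c hcf hcp hcs E' w hwP fstE sqE i fst₀ sq₀⟩
    refine repWith_of_affine P f (representable_of_affine f ?_) key
    intro Z hZ z
    obtain ⟨W₀, i, fst₀, sq₀, -⟩ := key hZ z
    exact ⟨W₀, i, fst₀, sq₀⟩

end Groth.Agent.Lib.Helper3.FppfLoc
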