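import Groth.Agent.Lib.Helper3.AffDescCore

set_option autoImplicit false

universe u
open CategoryTheory CategoryTheory.Limits AlgebraicGeometry Opposite TensorProduct AlgSp

namespace Groth.Agent.Lib.Helper3.FpqcDesc

open Groth.Agent.Lib.Helper3.AffDesc

variable {S : Scheme.{u}}

variable {A : Type u} [CommRing A] (sZ : Spec (CommRingCat.of A) ⟶ S)
variable {A' B : Type u} [CommRing A'] [CommRing B] [Algebra A A'] [Algebra A' B] [Algebra A B]
  [IsScalarTower A A' B]

/-- the part of affine descent that does not use that the cover is an epimorphism of sheaves. -/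
theorem core_pre [Module.Flat A A']
    {F : Sp S} (f : F ⟶ (yon S).obj (Over.mk sZ)) (fst : (yon S).obj (specA sZ B) ⟶ F)
    (sq : IsPullback fst ((yon S).map (specMap sZ (IsScalarTower.toAlgHom A A' B))) f
      ((yon S).map (toBase sZ A'))) :
    ∃ (B₀ : Subalgebra A B),
      IsPullback (specMap sZ B₀.val) (specMap sZ (IsScalarTower.toAlgHom A A' B))
        (toBase sZ B₀) (toBase sZ A') ∧
      ∀ {T' : Over S} (g₁ g₂ : T' ⟶ specA sZ B),
        (yon S).map g₁ ≫ fst = (yon S).map g₂ ≫ fst →
        g₁ ≫ specMap sZ B₀.val = g₂ ≫ specMap sZ B₀.val := by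
  set w := specMap sZ (IsScalarTower.toAlgHom A A' B) with hw
  set q := toBase sZ A' with hq_def
  set pr₁ := specMap sZ (Algebra.TensorProduct.includeLeft : B →ₐ[A] B ⊗[A] A') with hpr₁
  set pr₂ := specMap sZ (Algebra.TensorProduct.includeRight : A' →ₐ[A] B ⊗[A] A') with hpr₂
  have sq2 : IsPullback pr₁ pr₂ (toBase sZ B) q := isPullback_tensor sZ B A'
  have hwq : w ≫ q = toBase sZ B := specMap_toBase sZ _
  have hcomm : ((yon S).map pr₁ ≫ fst) ≫ f = (yon S).map pr₂ ≫ (yon S).map q := by
    rw [Category.assoc, sq.w, ← Functor.map_comp, ← Functor.map_comp, ← Functor.map_comp, hwq,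
      sq2.w]
  obtain ⟨p, hp⟩ := (yon S).map_surjective (sq.lift _ _ hcomm)
  have hp1 : (yon S).map p ≫ fst = (yon S).map pr₁ ≫ fst := by rw [hp, sq.lift_fst]
  have hp2 : p ≫ w = pr₂ := (yon S).map_injective (by rw [Functor.map_comp, hp, sq.lift_snd])
  have hpb : p ≫ toBase sZ B = toBase sZ (B ⊗[A] A') := by
    rw [← hwq, ← Category.assoc, hp2]
    exact specMap_toBase sZ _
  obtain ⟨ρ, hρ⟩ := exists_specMap_eq sZ p hpb
  subst hρ
  -- (a)
  have ha : ∀ a' : A', ρ (algebraMap A' B a') = (1 : B) ⊗ₜ[A] a' := by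
    have h1 : specMap sZ (ρ.comp (IsScalarTower.toAlgHom A A' B)) =
        specMap sZ (Algebra.TensorProduct.includeRight : A' →ₐ[A] B ⊗[A] A') := by
      rw [specMap_comp]; exact hp2
    have h2 := specMap_injective sZ h1
    intro a'
    exact congrArg (fun k => k a') h2
  -- (b)
  have hb : ∀ b : B, mulMap (ρ b) = b := by
    have h1 : specMap sZ ((mulMap (A := A) (A' := A') (B := B)).comp ρ) =
        specMap sZ (AlgHom.id A B) := by
      rw [specMap_comp, specMap_id]
      apply (yon S).map_injective
      apply sq.hom_ext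
      · rw [Functor.map_comp, Category.assoc, hp1, ← Functor.map_comp_assoc, hpr₁, ← specMap_comp]
        have : (mulMap (A := A) (A' := A') (B := B)).comp
            (Algebra.TensorProduct.includeLeft : B →ₐ[A] B ⊗[A] A') = AlgHom.id A B := by
          ext x; simp
        rw [this, specMap_id]
      · rw [Functor.map_comp, Category.assoc, ← Functor.map_comp, hp2, ← Functor.map_comp, hpr₂,
          ← specMap_comp]
        have : (mulMap (A := A) (A' := A') (B := B)).comp
            (Algebra.TensorProduct.includeRight : A' →ₐ[A] B ⊗[A] A') =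
            IsScalarTower.toAlgHom A A' B := by
          ext x; simp
        rw [this, CategoryTheory.Functor.map_id, Category.id_comp]
    have h2 := specMap_injective sZ h1
    intro b
    exact congrArg (fun k => k b) h2
  -- (c)
  have hc : ∀ b : B, Algebra.TensorProduct.map ρ (AlgHom.id A A') (ρ b) =
      Algebra.TensorProduct.map (Algebra.TensorProduct.includeLeft : B →ₐ[A] B ⊗[A] A')
        (AlgHom.id A A') (ρ b) := by
    have h1 : specMap sZ ((Algebra.TensorProduct.map ρ (AlgHom.id A A')).comp ρ) =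
        specMap sZ ((Algebra.TensorProduct.map
          (Algebra.TensorProduct.includeLeft : B →ₐ[A] B ⊗[A] A') (AlgHom.id A A')).comp ρ) := by
      rw [specMap_comp, specMap_comp]
      apply (yon S).map_injective
      apply sq.hom_ext
      · rw [Functor.map_comp, Category.assoc, hp1, Functor.map_comp, Category.assoc, hp1,
          ← Functor.map_comp_assoc, ← Functor.map_comp_assoc, hpr₁, ← specMap_comp, ← specMap_comp]
        have e1 : (Algebra.TensorProduct.map ρ (AlgHom.id A A')).comp
            (Algebra.TensorProduct.includeLeft : B →ₐ[A] B ⊗[A] A') =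
            (Algebra.TensorProduct.includeLeft : (B ⊗[A] A') →ₐ[A] (B ⊗[A] A') ⊗[A] A').comp ρ := by
          ext x; simp
        rw [e1, specMap_comp, Functor.map_comp, Category.assoc, hp1, ← Functor.map_comp_assoc,
          ← specMap_comp]
        have e3 : (Algebra.TensorProduct.includeLeft :
            (B ⊗[A] A') →ₐ[A] (B ⊗[A] A') ⊗[A] A').comp
            (Algebra.TensorProduct.includeLeft : B →ₐ[A] B ⊗[A] A') =
            (Algebra.TensorProduct.map (Algebra.TensorProduct.includeLeft : B →ₐ[A] B ⊗[A] A')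
              (AlgHom.id A A')).comp (Algebra.TensorProduct.includeLeft : B →ₐ[A] B ⊗[A] A') := by
          ext x; simp
        rw [e3]
      · have hyw : (yon S).map (specMap sZ ρ) ≫ (yon S).map w = (yon S).map pr₂ := by
          rw [← CategoryTheory.Functor.map_comp, hp2]
        simp only [CategoryTheory.Functor.map_comp, Category.assoc, hyw]
        rw [← CategoryTheory.Functor.map_comp, ← CategoryTheory.Functor.map_comp, hpr₂,
          ← specMap_comp, ← specMap_comp]
        have e2 : (Algebra.TensorProduct.map ρ (AlgHom.id A A')).comp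
            (Algebra.TensorProduct.includeRight : A' →ₐ[A] B ⊗[A] A') =
            (Algebra.TensorProduct.map (Algebra.TensorProduct.includeLeft : B →ₐ[A] B ⊗[A] A')
              (AlgHom.id A A')).comp (Algebra.TensorProduct.includeRight : A' →ₐ[A] B ⊗[A] A') := by
          ext x; simp
        rw [e2]
    have h2 := specMap_injective sZ h1
    intro b
    exact congrArg (fun k => k b) h2
  have hbij := descMap_bijective ρ ha hb hc
  let e₀ : ((descAlg ρ) ⊗[A] A') ≃ₐ[A] B := AlgEquiv.ofBijective (descMap ρ) hbij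
  set c := specMap sZ (descAlg ρ).val with hc_def
  have sq3 : IsPullback (specMap sZ (Algebra.TensorProduct.includeLeft : (descAlg ρ) →ₐ[A] (descAlg ρ) ⊗[A] A'))
      (specMap sZ (Algebra.TensorProduct.includeRight : A' →ₐ[A] (descAlg ρ) ⊗[A] A'))
      (toBase sZ (descAlg ρ)) q := isPullback_tensor sZ (descAlg ρ) A'
  have sqS : IsPullback c w (toBase sZ (descAlg ρ)) q := by
    have hiso : IsIso (specMap sZ (e₀ : ((descAlg ρ) ⊗[A] A') →ₐ[A] B)) := by
      refine ⟨specMap sZ (e₀.symm : B →ₐ[A] ((descAlg ρ) ⊗[A] A')), ?_, ?_⟩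
      · rw [← specMap_comp, ← specMap_id]
        congr 1
        exact AlgHom.ext (fun x => e₀.apply_symm_apply x)
      · rw [← specMap_comp, ← specMap_id]
        congr 1
        exact AlgHom.ext (fun x => e₀.symm_apply_apply x)
    have h1 : specMap sZ (e₀ : ((descAlg ρ) ⊗[A] A') →ₐ[A] B) ≫
        specMap sZ (Algebra.TensorProduct.includeLeft : (descAlg ρ) →ₐ[A] (descAlg ρ) ⊗[A] A') = c := by
      rw [← specMap_comp]
      congr 1
      ext x
      simp [e₀]
    have h2 : specMap sZ (e₀ : ((descAlg ρ) ⊗[A] A') →ₐ[A] B) ≫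
        specMap sZ (Algebra.TensorProduct.includeRight : A' →ₐ[A] (descAlg ρ) ⊗[A] A') = w := by
      rw [← specMap_comp]
      congr 1
      ext x
      simp [e₀]
    refine IsPullback.of_iso sq3 (asIso (specMap sZ (e₀ : ((descAlg ρ) ⊗[A] A') →ₐ[A] B))).symm
      (Iso.refl _) (Iso.refl _) (Iso.refl _) ?_ ?_ ?_ ?_
    · simp only [Iso.refl_hom, Category.comp_id, Iso.symm_hom, asIso_inv]
      rw [IsIso.eq_inv_comp, h1]
    · simp only [Iso.refl_hom, Category.comp_id, Iso.symm_hom, asIso_inv]
      rw [IsIso.eq_inv_comp, h2]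
    · simp
    · simp
  have hcoeq : pr₁ ≫ c = specMap sZ ρ ≫ c := by
    rw [hpr₁, ← specMap_comp, ← specMap_comp]
    congr 1
    ext x
    exact x.2.symm
  refine ⟨descAlg ρ, sqS, ?_⟩
  intro T' a b h
  have hab : a ≫ toBase sZ B = (b ≫ w) ≫ q := by
    apply (yon S).map_injective
    rw [← hwq]
    simp only [CategoryTheory.Functor.map_comp, Category.assoc]
    rw [← sq.w, ← Category.assoc, ← Category.assoc, h]
  have h1 : sq2.lift a (b ≫ w) hab ≫ pr₁ = a := sq2.lift_fst _ _ _
  have h2 : sq2.lift a (b ≫ w) hab ≫ specMap sZ ρ = b := by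
    apply (yon S).map_injective
    apply sq.hom_ext
    · rw [CategoryTheory.Functor.map_comp, Category.assoc, hp1, ← Functor.map_comp_assoc, h1, h]
    · rw [← CategoryTheory.Functor.map_comp, ← CategoryTheory.Functor.map_comp, Category.assoc,
        hp2, sq2.lift_snd]
  rw [← h2, Category.assoc, ← hcoeq, ← Category.assoc, h1]

end Groth.Agent.Lib.Helper3.FpqcDesc
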