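import Groth.Agent.Lib.Helper3.FpqcDescIso
import Groth.Agent.Lib.Helper3.FpqcDescCore

set_option autoImplicit false

universe u
open CategoryTheory CategoryTheory.Limits AlgebraicGeometry Opposite TensorProduct AlgSp

namespace Groth.Agent.Lib.Helper3.FpqcDesc

open Groth.Agent.Lib.Helper3.AffDesc

variable {S : Scheme.{u}}

/-- **Effective fpqc descent of affine schemes over an algebraic space**: along a faithfully flat
cover of affine schemes. -/
theorem exists_affine_of_fpqc_cover {Z V W : Over S} [IsAffine Z.left] [IsAffine V.left]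
    [IsAffine W.left] (q : V ⟶ Z) (w : W ⟶ V) [Flat q.left] [Surjective q.left]
    {F : Sp S} (hF : IsAlgSpace F) (f : F ⟶ (yon S).obj Z) (fst : (yon S).obj W ⟶ F)
    (sq : IsPullback fst ((yon S).map w) f ((yon S).map q)) :
    ∃ (W₀ : Over S) (i : W₀ ⟶ Z) (c : W ⟶ W₀) (e : (yon S).obj W₀ ≅ F),
      IsAffine W₀.left ∧ e.hom ≫ f = (yon S).map i ∧ (yon S).map c ≫ e.hom = fst ∧
      IsPullback c w i q := by
  -- rings
  let A : Type u := Γ(Z.left, ⊤)
  let A' : Type u := Γ(V.left, ⊤)
  let B : Type u := Γ(W.left, ⊤)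
  let algAA' : Algebra A A' := q.left.appTop.hom.toAlgebra
  let algA'B : Algebra A' B := w.left.appTop.hom.toAlgebra
  let algAB : Algebra A B := (w.left.appTop.hom.comp q.left.appTop.hom).toAlgebra
  have : IsScalarTower A A' B := IsScalarTower.of_algebraMap_eq (fun _ => rfl)
  have : Module.Flat A A' := by
    have h1 : Flat q.left := inferInstance
    rw [HasRingHomProperty.iff_of_isAffine (P := @Flat)] at h1
    exact h1
  let sZ : Spec (CommRingCat.of A) ⟶ S := Z.left.isoSpec.inv ≫ Z.hom
  -- isomorphisms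
  let eZ : Z ≅ Over.mk sZ := Over.isoMk Z.left.isoSpec (by simp [sZ])
  have hV : V.left.isoSpec.hom ≫ (specA sZ A').hom = V.hom := by
    change V.left.isoSpec.hom ≫ Spec.map (CommRingCat.ofHom (algebraMap A A')) ≫
      Z.left.isoSpec.inv ≫ Z.hom = V.hom
    have : Spec.map (CommRingCat.ofHom (algebraMap A A')) = Spec.map q.left.appTop := rfl
    rw [this, ← Category.assoc, Scheme.isoSpec_hom_naturality, Category.assoc,
      Iso.hom_inv_id_assoc, Over.w]
  let eV : V ≅ specA sZ A' := Over.isoMk V.left.isoSpec hV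
  have hW : W.left.isoSpec.hom ≫ (specA sZ B).hom = W.hom := by
    change W.left.isoSpec.hom ≫ Spec.map (CommRingCat.ofHom (algebraMap A B)) ≫
      Z.left.isoSpec.inv ≫ Z.hom = W.hom
    have : Spec.map (CommRingCat.ofHom (algebraMap A B)) =
        Spec.map w.left.appTop ≫ Spec.map q.left.appTop := by
      rw [← Spec.map_comp]; rfl
    rw [this, Category.assoc, ← Category.assoc, Scheme.isoSpec_hom_naturality, Category.assoc,
      ← Category.assoc (V.left.isoSpec.hom), Scheme.isoSpec_hom_naturality, Category.assoc,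
      Iso.hom_inv_id_assoc, Over.w, Over.w]
  let eW : W ≅ specA sZ B := Over.isoMk W.left.isoSpec hW
  -- naturality
  have hqn : q ≫ eZ.hom = eV.hom ≫ toBase sZ A' := by
    apply Over.OverMorphism.ext
    change q.left ≫ Z.left.isoSpec.hom = V.left.isoSpec.hom ≫ Spec.map q.left.appTop
    rw [Scheme.isoSpec_hom_naturality]
  have hwn : w ≫ eV.hom = eW.hom ≫ specMap sZ (IsScalarTower.toAlgHom A A' B) := by
    apply Over.OverMorphism.ext
    change w.left ≫ V.left.isoSpec.hom = W.left.isoSpec.hom ≫ Spec.map w.left.appTop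
    rw [Scheme.isoSpec_hom_naturality]
  -- transported square
  have sq' : IsPullback ((yon S).map eW.inv ≫ fst)
      ((yon S).map (specMap sZ (IsScalarTower.toAlgHom A A' B)))
      (f ≫ (yon S).map eZ.hom) ((yon S).map (toBase sZ A')) := by
    refine IsPullback.of_iso sq ((yon S).mapIso eW) (Iso.refl _) ((yon S).mapIso eV)
      ((yon S).mapIso eZ) ?_ ?_ ?_ ?_
    · simp only [Iso.refl_hom, Category.comp_id, Functor.mapIso_hom]
      rw [← Category.assoc, ← CategoryTheory.Functor.map_comp, Iso.hom_inv_id,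
        CategoryTheory.Functor.map_id, Category.id_comp]
    · simp only [Functor.mapIso_hom]
      rw [← CategoryTheory.Functor.map_comp, ← CategoryTheory.Functor.map_comp, hwn]
    · simp
    · simp only [Functor.mapIso_hom]
      rw [← CategoryTheory.Functor.map_comp, ← CategoryTheory.Functor.map_comp, hqn]
  have h1 : toBase sZ A' = eV.inv ≫ q ≫ eZ.hom := by rw [hqn, Iso.inv_hom_id_assoc]
  have h1L : (toBase sZ A').left = eV.inv.left ≫ q.left ≫ eZ.hom.left := by
    rw [h1]; rfl
  have hiso1 : IsIso eV.inv.left := inferInstanceAs (IsIso ((Over.forget S).map eV.inv))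
  have hiso2 : IsIso eZ.hom.left := inferInstanceAs (IsIso ((Over.forget S).map eZ.hom))
  have hfl : Flat (toBase sZ A').left := by rw [h1L]; infer_instance
  have hsj : Surjective (toBase sZ A').left := by rw [h1L]; infer_instance
  have hqc : QuasiCompact (toBase sZ A').left := by rw [h1L]; infer_instance
  obtain ⟨B₀, sqS, hdesc⟩ := core_pre sZ _ _ sq'
  obtain ⟨e, he1, he2⟩ := exists_iso_of_fpqc_descent (specMap sZ B₀.val) (toBase sZ B₀) hF sqS sq'
    hdesc
  refine ⟨specA sZ B₀, toBase sZ B₀ ≫ eZ.inv, eW.hom ≫ specMap sZ B₀.val, e, inferInstance, ?_, ?_,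
    ?_⟩
  · rw [CategoryTheory.Functor.map_comp, ← he1, Category.assoc, Category.assoc,
      ← CategoryTheory.Functor.map_comp, Iso.hom_inv_id, CategoryTheory.Functor.map_id,
      Category.comp_id]
  · rw [CategoryTheory.Functor.map_comp, Category.assoc, he2, ← Category.assoc,
      ← CategoryTheory.Functor.map_comp, Iso.hom_inv_id, CategoryTheory.Functor.map_id,
      Category.id_comp]
  · refine IsPullback.of_iso sqS eW.symm (Iso.refl _) eV.symm eZ.symm ?_ ?_ ?_ ?_
    · simp
    · simp only [Iso.symm_hom]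
      rw [Iso.comp_inv_eq, Category.assoc, hwn, Iso.inv_hom_id_assoc]
    · simp
    · simp only [Iso.symm_hom]
      rw [Iso.comp_inv_eq, Category.assoc, hqn, Iso.inv_hom_id_assoc]

end Groth.Agent.Lib.Helper3.FpqcDesc
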