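import Groth.Agent.Lib.Helper3.AffDescCore
import Mathlib.AlgebraicGeometry.Sites.Fpqc

set_option autoImplicit false

universe u
open CategoryTheory CategoryTheory.Limits AlgebraicGeometry Opposite AlgSp

namespace Groth.Agent.Lib.Helper3.FpqcDesc

open Groth.Agent.Lib.Helper3.AffDesc

variable {S : Scheme.{u}}

section

variable {Z V W W₀ : Over S} (q : V ⟶ Z) (w : W ⟶ V) (c : W ⟶ W₀)
  {F : Sp S} (f : F ⟶ (yon S).obj Z) (fst : (yon S).obj W ⟶ F)

/-- the data attached to a section `x` of `F` over `T`. -/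
structure SecData {T : Over S} (x : (yon S).obj T ⟶ F) where
  z : T ⟶ Z
  hz : (yon S).map z = x ≫ f
  TV : Over S
  qT : TV ⟶ T
  vT : TV ⟶ V
  sqT : IsPullback qT vT z q
  aV : TV ⟶ W
  haV1 : (yon S).map aV ≫ fst = (yon S).map qT ≫ x
  haV2 : aV ≫ w = vT

variable {q w f fst}

/-- existence of the data. -/
theorem nonempty_secData (sq : IsPullback fst ((yon S).map w) f ((yon S).map q)) {T : Over S}
    (x : (yon S).obj T ⟶ F) : Nonempty (SecData q w f fst x) := by
  obtain ⟨z, hz⟩ := (yon S).map_surjective (x ≫ f)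
  have sqT := IsPullback.of_hasPullback z q
  have hcomm : ((yon S).map (pullback.fst z q) ≫ x) ≫ f =
      (yon S).map (pullback.snd z q) ≫ (yon S).map q := by
    rw [Category.assoc, ← hz, ← CategoryTheory.Functor.map_comp, ← CategoryTheory.Functor.map_comp,
      sqT.w]
  obtain ⟨aV, haV⟩ := (yon S).map_surjective (sq.lift _ _ hcomm)
  refine ⟨⟨z, hz, pullback z q, pullback.fst z q, pullback.snd z q, sqT, aV, ?_, ?_⟩⟩
  · rw [haV, sq.lift_fst]
  · apply (yon S).map_injective
    rw [CategoryTheory.Functor.map_comp, haV, sq.lift_snd]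

/-- the descended point. -/
theorem exists_uT [Flat q.left] [Surjective q.left] [QuasiCompact q.left]
    (hdesc : ∀ {T' : Over S} (g₁ g₂ : T' ⟶ W), (yon S).map g₁ ≫ fst = (yon S).map g₂ ≫ fst →
      g₁ ≫ c = g₂ ≫ c)
    {T : Over S} {x : (yon S).obj T ⟶ F} (D : SecData q w f fst x) :
    ∃ uT : T ⟶ W₀, D.qT ≫ uT = D.aV ≫ c := by
  have sqTL : IsPullback D.qT.left D.vT.left D.z.left q.left := D.sqT.map (Over.forget S)
  have h1 : Flat D.qT.left := MorphismProperty.of_isPullback (P := @Flat) sqTL.flip inferInstance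
  have h2 : Surjective D.qT.left :=
    MorphismProperty.of_isPullback (P := @Surjective) sqTL.flip inferInstance
  have h3 : QuasiCompact D.qT.left :=
    MorphismProperty.of_isPullback (P := @QuasiCompact) sqTL.flip inferInstance
  have hEff : EffectiveEpi D.qT.left := inferInstance
  have hcompat : ∀ {Z' : Scheme.{u}} (g₁ g₂ : Z' ⟶ D.TV.left),
      g₁ ≫ D.qT.left = g₂ ≫ D.qT.left → g₁ ≫ (D.aV ≫ c).left = g₂ ≫ (D.aV ≫ c).left := by
    intro Z' g₁ g₂ h
    let T' : Over S := Over.mk (g₁ ≫ D.TV.hom)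
    let G₁ : T' ⟶ D.TV := Over.homMk g₁ rfl
    have hg₂ : g₂ ≫ D.TV.hom = T'.hom := by
      change g₂ ≫ D.TV.hom = g₁ ≫ D.TV.hom
      rw [← Over.w D.qT, ← Category.assoc, ← h, Category.assoc]
    let G₂ : T' ⟶ D.TV := Over.homMk g₂ hg₂
    have hG : G₁ ≫ D.qT = G₂ ≫ D.qT := by
      ext
      exact h
    have := hdesc (G₁ ≫ D.aV) (G₂ ≫ D.aV) (by
      rw [CategoryTheory.Functor.map_comp, CategoryTheory.Functor.map_comp, Category.assoc,
        Category.assoc, D.haV1, ← Category.assoc, ← Category.assoc,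
        ← CategoryTheory.Functor.map_comp, ← CategoryTheory.Functor.map_comp, hG])
    have := congrArg (fun k => k.left) this
    simp only [Over.comp_left] at this ⊢
    exact this
  let uT₀ : T.left ⟶ W₀.left := EffectiveEpi.desc D.qT.left (D.aV ≫ c).left hcompat
  have hfac : D.qT.left ≫ uT₀ = (D.aV ≫ c).left := EffectiveEpi.fac _ _ _
  have hover : uT₀ ≫ W₀.hom = T.hom := by
    have : Epi D.qT.left := inferInstance
    rw [← cancel_epi D.qT.left, ← Category.assoc, hfac, Over.w, Over.w]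
  refine ⟨Over.homMk uT₀ hover, ?_⟩
  ext
  exact hfac

/-- characterization of the descended point. -/
theorem uT_char (hw : fst ≫ f = (yon S).map w ≫ (yon S).map q)
    (hdesc : ∀ {T' : Over S} (g₁ g₂ : T' ⟶ W), (yon S).map g₁ ≫ fst = (yon S).map g₂ ≫ fst →
      g₁ ≫ c = g₂ ≫ c)
    {T : Over S} {x : (yon S).obj T ⟶ F} (D : SecData q w f fst x) (uT : T ⟶ W₀)
    (huT : D.qT ≫ uT = D.aV ≫ c) {T' : Over S} (b : T' ⟶ T) (a' : T' ⟶ W)
    (ha' : (yon S).map a' ≫ fst = (yon S).map b ≫ x) : b ≫ uT = a' ≫ c := by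
  have hbz : b ≫ D.z = (a' ≫ w) ≫ q := by
    apply (yon S).map_injective
    rw [CategoryTheory.Functor.map_comp, D.hz, ← Category.assoc, ← ha', Category.assoc, hw,
      CategoryTheory.Functor.map_comp, CategoryTheory.Functor.map_comp, Category.assoc]
  have h1 : D.sqT.lift b (a' ≫ w) hbz ≫ D.qT = b := D.sqT.lift_fst _ _ _
  have h2 := hdesc (D.sqT.lift b (a' ≫ w) hbz ≫ D.aV) a' (by
    rw [CategoryTheory.Functor.map_comp, Category.assoc, D.haV1, ← Category.assoc,
      ← CategoryTheory.Functor.map_comp, h1, ha'])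
  rw [← h1, Category.assoc, huT, ← Category.assoc, h2]

end

section main

variable {Z V W W₀ : Over S} {q : V ⟶ Z} {w : W ⟶ V} (c : W ⟶ W₀) (i₀ : W₀ ⟶ Z)
  {F : Sp S} {f : F ⟶ (yon S).obj Z} {fst : (yon S).obj W ⟶ F}
  [Flat q.left] [Surjective q.left] [QuasiCompact q.left]

/-- the value of the descended map on a section. -/
noncomputable def uSec (sq : IsPullback fst ((yon S).map w) f ((yon S).map q))
    (hdesc : ∀ {T' : Over S} (g₁ g₂ : T' ⟶ W), (yon S).map g₁ ≫ fst = (yon S).map g₂ ≫ fst →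
      g₁ ≫ c = g₂ ≫ c) {T : Over S} (x : (yon S).obj T ⟶ F) : T ⟶ W₀ :=
  Classical.choose (exists_uT (c := c) hdesc (Classical.choice (nonempty_secData sq x)))

variable (sq : IsPullback fst ((yon S).map w) f ((yon S).map q))
  (hdesc : ∀ {T' : Over S} (g₁ g₂ : T' ⟶ W), (yon S).map g₁ ≫ fst = (yon S).map g₂ ≫ fst →
      g₁ ≫ c = g₂ ≫ c)

theorem uSec_char {T : Over S} (x : (yon S).obj T ⟶ F) {T' : Over S} (b : T' ⟶ T) (a' : T' ⟶ W)
    (ha' : (yon S).map a' ≫ fst = (yon S).map b ≫ x) : b ≫ uSec c sq hdesc x = a' ≫ c :=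
  uT_char c sq.w hdesc (Classical.choice (nonempty_secData sq x)) _
    (Classical.choose_spec (exists_uT (c := c) hdesc (Classical.choice (nonempty_secData sq x))))
    b a' ha'

theorem epi_qT {T : Over S} {x : (yon S).obj T ⟶ F} (D : SecData q w f fst x) : Epi D.qT := by
  have sqTL : IsPullback D.qT.left D.vT.left D.z.left q.left := D.sqT.map (Over.forget S)
  have h1 : Flat D.qT.left := MorphismProperty.of_isPullback (P := @Flat) sqTL.flip inferInstance
  have h2 : Surjective D.qT.left :=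
    MorphismProperty.of_isPullback (P := @Surjective) sqTL.flip inferInstance
  have h3 : QuasiCompact D.qT.left :=
    MorphismProperty.of_isPullback (P := @QuasiCompact) sqTL.flip inferInstance
  have hEff : EffectiveEpi D.qT.left := inferInstance
  have : Epi ((Over.forget S).map D.qT) := inferInstanceAs (Epi D.qT.left)
  exact (Over.forget S).epi_of_epi_map this

theorem uSec_naturality {T T' : Over S} (x : (yon S).obj T ⟶ F) (b : T' ⟶ T) :
    uSec c sq hdesc ((yon S).map b ≫ x) = b ≫ uSec c sq hdesc x := by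
  obtain ⟨D'⟩ := nonempty_secData sq ((yon S).map b ≫ x)
  have := epi_qT D'
  rw [← cancel_epi D'.qT]
  rw [uSec_char c sq hdesc ((yon S).map b ≫ x) D'.qT D'.aV D'.haV1]
  rw [← Category.assoc, uSec_char c sq hdesc x (D'.qT ≫ b) D'.aV (by
    rw [D'.haV1, CategoryTheory.Functor.map_comp, Category.assoc])]

include sq hdesc in
theorem uSec_comp (hcomm : c ≫ i₀ = w ≫ q) {T : Over S} (x : (yon S).obj T ⟶ F) :
    (yon S).map (uSec c sq hdesc x ≫ i₀) = x ≫ f := by
  obtain ⟨D⟩ := nonempty_secData sq x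
  have := epi_qT D
  rw [← D.hz]
  congr 1
  rw [← cancel_epi D.qT, ← Category.assoc, uSec_char c sq hdesc x D.qT D.aV (by rw [D.haV1]),
    Category.assoc, hcomm, ← Category.assoc, D.haV2, D.sqT.w]

/-- the descended map of sheaves. -/
noncomputable def uHom : F ⟶ (yon S).obj W₀ :=
  ⟨{ app := fun T => ↾(fun x => (⟨uSec c sq hdesc ((J S).uliftYonedaEquiv.{u+1}.symm x)⟩ :
        ULift.{u+1} (T.unop ⟶ W₀)))
     naturality := by
      intro T T' φ
      ext x
      change (⟨uSec c sq hdesc ((J S).uliftYonedaEquiv.{u+1}.symm (F.obj.map φ x))⟩ :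
        ULift.{u+1} (T'.unop ⟶ W₀)) = ⟨φ.unop ≫ uSec c sq hdesc ((J S).uliftYonedaEquiv.{u+1}.symm x)⟩
      congr 1
      rw [← uSec_naturality c sq hdesc]
      congr 1
      exact ((J S).uliftYonedaEquiv_symm_naturality_left.{u+1} φ.unop F x).symm }⟩

theorem comp_uHom {T : Over S} (x : (yon S).obj T ⟶ F) :
    x ≫ uHom c sq hdesc = (yon S).map (uSec c sq hdesc x) := by
  apply (J S).uliftYonedaEquiv.{u+1}.injective
  rw [(J S).uliftYonedaEquiv_comp.{u+1}, (J S).uliftYonedaEquiv_uliftYoneda_map.{u+1}]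
  change (⟨uSec c sq hdesc ((J S).uliftYonedaEquiv.{u+1}.symm ((J S).uliftYonedaEquiv.{u+1} x))⟩ :
    ULift.{u+1} (T ⟶ W₀)) = _
  rw [Equiv.symm_apply_apply]

theorem fst_uHom : fst ≫ uHom c sq hdesc = (yon S).map c := by
  apply hom_ext_of_yon
  intro T t
  obtain ⟨t₀, rfl⟩ := (yon S).map_surjective t
  rw [← Category.assoc, comp_uHom, ← CategoryTheory.Functor.map_comp]
  congr 1
  have := uSec_char c sq hdesc ((yon S).map t₀ ≫ fst) (𝟙 T) t₀ (by
    rw [CategoryTheory.Functor.map_id, Category.id_comp])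
  rwa [Category.id_comp] at this

theorem uHom_comp (hcomm : c ≫ i₀ = w ≫ q) : uHom c sq hdesc ≫ (yon S).map i₀ = f := by
  apply hom_ext_of_yon
  intro T x
  rw [← Category.assoc, comp_uHom, ← CategoryTheory.Functor.map_comp]
  exact uSec_comp c i₀ sq hdesc hcomm x

end main

end Groth.Agent.Lib.Helper3.FpqcDesc
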