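import Groth.Agent.Lib.Helper3.FpqcDescIso
set_option autoImplicit false



universe u
open CategoryTheory CategoryTheory.Limits AlgebraicGeometry Opposite AlgSp

namespace Groth.Agent.Lib.Helper3.FpqcQAff

open Groth.Agent.Lib.Helper3 Groth.Agent.Lib.Helper3.AffDesc Groth.Agent.Lib.Helper3.FpqcDesc

variable {S : Scheme.{u}}

/-- an affine flat surjective morphism of schemes is an fpqc covering. -/
theorem isFpqcCover_yon_map_of_isAffineHom {W W₀ : Over S} (c : W ⟶ W₀)
    [IsAffineHom c.left] [Flat c.left] [Surjective c.left] :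
    IsFpqcCover (fun _ : PUnit.{u+1} => (yon S).obj W) (fun _ => (yon S).map c) := by
  refine ⟨fun _ => locP_of_repWith isEtLocal_flat _ ((repWith_yon_map_iff _ c).2 inferInstance),
    fun Z hZ h => ?_⟩
  obtain ⟨h₀, rfl⟩ := (yon S).map_surjective h
  let W' : Over S := pullback h₀ c
  let c' : W' ⟶ Z := pullback.fst h₀ c
  have sqW : IsPullback c' (pullback.snd h₀ c) h₀ c := IsPullback.of_hasPullback _ _
  have sqWL : IsPullback c'.left (pullback.snd h₀ c).left h₀.left c.left := sqW.map (Over.forget S)
  have h1 : Flat c'.left := MorphismProperty.of_isPullback (P := @Flat) sqWL.flip inferInstance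
  have h2 : Surjective c'.left :=
    MorphismProperty.of_isPullback (P := @Surjective) sqWL.flip inferInstance
  have h3 : IsAffineHom c'.left :=
    MorphismProperty.of_isPullback (P := @IsAffineHom) sqWL.flip inferInstance
  have h4 : IsAffine W'.left := isAffine_of_isAffineHom c'.left
  refine ⟨1, fun _ => W', fun _ => c', fun _ => h4, fun _ => h1, fun z => ⟨0, c'.left.surjective z⟩,
    fun _ => ⟨PUnit.unit, (yon S).map (pullback.snd h₀ c), ?_⟩⟩
  rw [← CategoryTheory.Functor.map_comp, ← CategoryTheory.Functor.map_comp, sqW.w]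

section main

variable {Z V W W₀ : Over S} {q : V ⟶ Z} {w : W ⟶ V} (c : W ⟶ W₀) (i₀ : W₀ ⟶ Z)
  {F : Sp S} {f : F ⟶ (yon S).obj Z} {fst : (yon S).obj W ⟶ F}
  [Flat q.left] [Surjective q.left] [IsAffineHom q.left]

/-- fpqc descent of the representing object along an affine cover, without affineness of the
objects. -/
theorem exists_iso_of_fpqc_descent_of_isAffineHom (hF : IsAlgSpace F)
    (sqS : IsPullback c w i₀ q) (sq : IsPullback fst ((yon S).map w) f ((yon S).map q))
    (hdesc : ∀ {T' : Over S} (g₁ g₂ : T' ⟶ W), (yon S).map g₁ ≫ fst = (yon S).map g₂ ≫ fst →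
      g₁ ≫ c = g₂ ≫ c) :
    ∃ e : (yon S).obj W₀ ≅ F, e.hom ≫ f = (yon S).map i₀ ∧ (yon S).map c ≫ e.hom = fst := by
  have hqc : QuasiCompact q.left := inferInstance
  set u := uHom c sq hdesc with hu_def
  have hu : fst ≫ u = (yon S).map c := fst_uHom c sq hdesc
  have huf : u ≫ (yon S).map i₀ = f := uHom_comp c i₀ sq hdesc sqS.w
  have sq₀ := sqS.map (yon S)
  have sqT : IsPullback fst (𝟙 _) u ((yon S).map c) := by
    refine IsPullback.of_bot ?_ ?_ sq₀
    · rw [Category.id_comp, huf]; exact sq
    · rw [hu, Category.id_comp]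
  have sqSL : IsPullback c.left w.left i₀.left q.left := sqS.map (Over.forget S)
  have h1 : Flat c.left := MorphismProperty.of_isPullback (P := @Flat) sqSL.flip inferInstance
  have h2 : Surjective c.left :=
    MorphismProperty.of_isPullback (P := @Surjective) sqSL.flip inferInstance
  have h3 : IsAffineHom c.left :=
    MorphismProperty.of_isPullback (P := @IsAffineHom) sqSL.flip inferInstance
  have hcov := isFpqcCover_yon_map_of_isAffineHom c
  have key := isLocalOnBase_fpqc_isomorphisms (S := S) (fun _ : PUnit.{u+1} => (yon S).obj W)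
    (fun _ => (yon S).map c) (IsAlgSpace.yon_obj W₀) (fun _ => IsAlgSpace.yon_obj W) hcov u hF
    (fun _ => (yon S).obj W) (fun _ => 𝟙 _) (fun _ => fst) (fun _ => IsAlgSpace.yon_obj W)
    (fun _ => sqT)
  have huiso : IsIso u := key.2 (fun _ => MorphismProperty.isomorphisms.infer_property _)
  refine ⟨(asIso u).symm, ?_, ?_⟩
  · simp only [Iso.symm_hom, asIso_inv]
    rw [IsIso.inv_comp_eq, huf]
  · simp only [Iso.symm_hom, asIso_inv]
    rw [IsIso.comp_inv_eq, hu]

end main

end Groth.Agent.Lib.Helper3.FpqcQAff
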