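import Groth.Agent.Lib.Helper3.QAffDescOpen
import Groth.Agent.Lib.Helper3.FpqcQAffIso
set_option autoImplicit false



universe u
open CategoryTheory CategoryTheory.Limits AlgebraicGeometry Opposite AlgSp

namespace Groth.Agent.Lib.Helper3.FpqcQAff

open Groth.Agent.Lib.Helper3 Groth.Agent.Lib.Helper3.AffDesc Groth.Agent.Lib.Helper3.QAffDesc

variable {S : Scheme.{u}}

/-- Descent of open immersions along an open cover `π` which is an epimorphism of sheaves. -/
theorem exists_open_of_cover_fpqc {G₀ G₁ W : Over S} (π : G₁ ⟶ G₀) (j : W ⟶ G₁)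
    [IsOpenImmersion j.left] [Flat π.left] [Surjective π.left] [IsAffineHom π.left]
    {F : Sp S} (hF : IsAlgSpace F) (u : F ⟶ (yon S).obj G₀) (fst : (yon S).obj W ⟶ F)
    (sq : IsPullback fst ((yon S).map j) u ((yon S).map π)) :
    ∃ (O : Over S) (o : O ⟶ G₀) (k : W ⟶ O) (e : (yon S).obj O ≅ F), IsOpenImmersion o.left ∧
      Set.range o.left = π.left '' Set.range j.left ∧
      e.hom ≫ u = (yon S).map o ∧ (yon S).map k ≫ e.hom = fst ∧ IsPullback k j o π := by
  have hqc : QuasiCompact π.left := inferInstance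
  have hπq := Flat.isQuotientMap_of_surjective π.left
  have hsat : π.left ⁻¹' (π.left '' Set.range j.left) = Set.range j.left := by
    ext x
    constructor
    · rintro ⟨y, hy, hyx⟩
      exact mem_range_of_isPullback π j u fst sq x y hyx.symm hy
    · intro hx
      exact ⟨x, hx, rfl⟩
  have hopen : IsOpen (π.left '' Set.range j.left) := by
    rw [← hπq.isOpen_preimage, hsat]
    exact j.left.opensRange.isOpen
  let O' : G₀.left.Opens := ⟨π.left '' Set.range j.left, hopen⟩
  let O : Over S := Over.mk (O'.ι ≫ G₀.hom)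
  let o : O ⟶ G₀ := Over.homMk O'.ι rfl
  have hro : Set.range o.left = π.left '' Set.range j.left := by
    change Set.range O'.ι = _
    rw [Scheme.Opens.range_ι]
    rfl
  have hrk : Set.range (j.left ≫ π.left) ⊆ Set.range O'.ι := by
    rw [Scheme.Opens.range_ι]
    rintro _ ⟨s, rfl⟩
    exact ⟨j.left s, ⟨s, rfl⟩, rfl⟩
  let k₀ : W.left ⟶ O.left := IsOpenImmersion.lift O'.ι (j.left ≫ π.left) hrk
  have hk₀ : k₀ ≫ O'.ι = j.left ≫ π.left := IsOpenImmersion.lift_fac _ _ _
  have hkO : k₀ ≫ O.hom = W.hom := by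
    change k₀ ≫ O'.ι ≫ G₀.hom = W.hom
    rw [← Category.assoc, hk₀, Category.assoc, Over.w, Over.w]
  let k : W ⟶ O := Over.homMk k₀ hkO
  have hko : k ≫ o = j ≫ π := by
    apply Over.OverMorphism.ext
    exact hk₀
  have sqS : IsPullback k j o π := by
    refine IsPullback.of_map (Over.forget S) hko ?_
    refine IsOpenImmersion.isPullback k₀ j.left O'.ι π.left hk₀.symm ?_
    apply TopologicalSpace.Opens.ext
    ext x
    constructor
    · intro hx
      have hx' : π.left x ∈ Set.range O'.ι := hx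
      rw [Scheme.Opens.range_ι] at hx'
      obtain ⟨y, hy, hyx⟩ := hx'
      exact mem_range_of_isPullback π j u fst sq x y hyx.symm hy
    · rintro ⟨s, rfl⟩
      change π.left (j.left s) ∈ Set.range O'.ι
      rw [Scheme.Opens.range_ι]
      exact ⟨j.left s, ⟨s, rfl⟩, rfl⟩
  have hmono : Mono o := by
    have : Mono o.left := inferInstanceAs (Mono O'.ι)
    exact Over.mono_of_mono_left o
  have hdesc : ∀ {T' : Over S} (g₁ g₂ : T' ⟶ W), (yon S).map g₁ ≫ fst = (yon S).map g₂ ≫ fst →
      g₁ ≫ k = g₂ ≫ k := by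
    intro T' g₁ g₂ h
    rw [← cancel_mono o, Category.assoc, Category.assoc, hko]
    apply (yon S).map_injective
    have e : ∀ g : T' ⟶ W, (yon S).map (g ≫ j ≫ π) = ((yon S).map g ≫ fst) ≫ u := by
      intro g
      rw [Category.assoc, sq.w, ← CategoryTheory.Functor.map_comp,
        ← CategoryTheory.Functor.map_comp]
    rw [e, e, h]
  obtain ⟨e, he1, he2⟩ := exists_iso_of_fpqc_descent_of_isAffineHom k o hF sqS sq hdesc
  exact ⟨O, o, k, e, inferInstanceAs (IsOpenImmersion O'.ι), hro, he1, he2, sqS⟩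

end Groth.Agent.Lib.Helper3.FpqcQAff
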