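import Groth.Agent.Lib.Helper3.QAffDescModel
import Groth.Agent.Lib.Helper3.FpqcQAffIso
set_option autoImplicit false



universe u
open CategoryTheory CategoryTheory.Limits AlgebraicGeometry Opposite AlgSp

namespace Groth.Agent.Lib.Helper3.FpqcQAff

open Groth.Agent.Lib.Helper3 Groth.Agent.Lib.Helper3.AffDesc Groth.Agent.Lib.Helper3.QAffDesc

variable {S : Scheme.{u}}

theorem exists_affine_model_fpqc {Z V W : Over S} [IsAffine Z.left] [IsAffine V.left]
    [W.left.IsQuasiAffine] (q : V ⟶ Z) (w : W ⟶ V) [Flat q.left] [Surjective q.left]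
    {F : Sp S} (f : F ⟶ (yon S).obj Z) (fst : (yon S).obj W ⟶ F)
    (sq : IsPullback fst ((yon S).map w) f ((yon S).map q)) :
    ∃ (G₀ G₁ : Over S) (i₀ : G₀ ⟶ Z) (π : G₁ ⟶ G₀) (g₁ : G₁ ⟶ V) (j : W ⟶ G₁)
      (u : F ⟶ (yon S).obj G₀),
      IsAffine G₀.left ∧ IsAffine G₁.left ∧ IsOpenImmersion j.left ∧ IsPullback π g₁ i₀ q ∧
      j ≫ g₁ = w ∧ u ≫ (yon S).map i₀ = f ∧ fst ≫ u = (yon S).map (j ≫ π) := by
  classical
  -- pullbacks
  let W2 : Over S := pullback (w ≫ q) q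
  let pr₁ : W2 ⟶ W := pullback.fst _ _
  let pr₂ : W2 ⟶ V := pullback.snd _ _
  have sq2 : IsPullback pr₁ pr₂ (w ≫ q) q := IsPullback.of_hasPullback _ _
  let W3 : Over S := pullback (pr₁ ≫ w ≫ q) q
  let pr₁' : W3 ⟶ W2 := pullback.fst _ _
  let pr₂' : W3 ⟶ V := pullback.snd _ _
  have sq3 : IsPullback pr₁' pr₂' (pr₁ ≫ w ≫ q) q := IsPullback.of_hasPullback _ _
  obtain ⟨p, hp2, hp1⟩ := exists_act sq sq2
  obtain ⟨Δ, hΔ1, hΔ2, hΔ3⟩ := exists_diag sq sq2 hp2 hp1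
  obtain ⟨a₁, a₂, h11, h12, h21, h22, h3⟩ := exists_assoc sq sq2 hp2 hp1 sq3
  -- scheme-level squares
  have sq2L : IsPullback pr₁.left pr₂.left (w ≫ q).left q.left := sq2.map (Over.forget S)
  have sq3L : IsPullback pr₁'.left pr₂'.left (pr₁ ≫ w ≫ q).left q.left := sq3.map (Over.forget S)
  -- quasi-affineness
  have hqaff : IsAffineHom q.left := inferInstance
  have hpr₁aff : IsAffineHom pr₁.left := MorphismProperty.of_isPullback sq2L.flip hqaff
  have hW2 : W2.left.IsQuasiAffine := .of_isAffineHom pr₁.left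
  have hpr₁'aff : IsAffineHom pr₁'.left := MorphismProperty.of_isPullback sq3L.flip hqaff
  have hW3 : W3.left.IsQuasiAffine := .of_isAffineHom pr₁'.left
  -- pushouts
  have h₂ := isPushout_appTop sq2L
  have h₃ := isPushout_appTop sq3L
  rw [appTop_comp_left] at h₂
  rw [appTop_comp_left, appTop_comp_left] at h₃
  have hφ : q.left.appTop.hom.Flat := by
    have h1 : Flat q.left := inferInstance
    rw [HasRingHomProperty.iff_of_isAffine (P := @Flat)] at h1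
    exact h1
  obtain ⟨B₀, a₀, incl, hai, hid, hinj, hpo⟩ := exists_isPushout_of_coaction q.left.appTop hφ
    w.left.appTop pr₁.left.appTop pr₂.left.appTop h₂ pr₁'.left.appTop pr₂'.left.appTop
    (by rw [Category.assoc]; exact h₃) p.left.appTop
    (by rw [← appTop_comp_left, hp2])
    Δ.left.appTop (by rw [← appTop_comp_left, hΔ1]; rfl) (by rw [← appTop_comp_left, hΔ2])
    (by rw [← appTop_comp_left, hΔ3]; rfl)
    a₁.left.appTop a₂.left.appTop
    (by rw [← appTop_comp_left, ← appTop_comp_left, h11])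
    (by rw [← appTop_comp_left, h12])
    (by rw [← appTop_comp_left, ← appTop_comp_left, h21])
    (by rw [← appTop_comp_left, h22])
    (by rw [← appTop_comp_left, ← appTop_comp_left, h3])
  -- the affine models
  let sG₀ : Spec B₀ ⟶ S := Spec.map a₀ ≫ Z.left.isoSpec.inv ≫ Z.hom
  let G₀ : Over S := Over.mk sG₀
  let i₀ : G₀ ⟶ Z := Over.homMk (Spec.map a₀ ≫ Z.left.isoSpec.inv) (by simp [G₀, sG₀])
  let sG₁ : Spec Γ(W.left, ⊤) ⟶ S := Spec.map w.left.appTop ≫ V.left.isoSpec.inv ≫ V.hom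
  let G₁ : Over S := Over.mk sG₁
  let g₁ : G₁ ⟶ V := Over.homMk (Spec.map w.left.appTop ≫ V.left.isoSpec.inv) (by simp [G₁, sG₁])
  have hπ : Spec.map incl ≫ G₀.hom = G₁.hom := by
    change Spec.map incl ≫ Spec.map a₀ ≫ Z.left.isoSpec.inv ≫ Z.hom =
      Spec.map w.left.appTop ≫ V.left.isoSpec.inv ≫ V.hom
    rw [← Spec.map_comp_assoc, hai, Spec.map_comp_assoc, Scheme.isoSpec_inv_naturality_assoc,
      Over.w]
  let π : G₁ ⟶ G₀ := Over.homMk (Spec.map incl) hπ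
  have hj : W.left.toSpecΓ ≫ G₁.hom = W.hom := by
    change W.left.toSpecΓ ≫ Spec.map w.left.appTop ≫ V.left.isoSpec.inv ≫ V.hom = W.hom
    rw [← Scheme.toSpecΓ_naturality_assoc, Scheme.toSpecΓ_isoSpec_inv_assoc, Over.w]
  let j : W ⟶ G₁ := Over.homMk W.left.toSpecΓ hj
  have hjg : j ≫ g₁ = w := by
    apply Over.OverMorphism.ext
    change W.left.toSpecΓ ≫ Spec.map w.left.appTop ≫ V.left.isoSpec.inv = w.left
    rw [← Scheme.toSpecΓ_naturality_assoc, Scheme.toSpecΓ_isoSpec_inv, Category.comp_id]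
  have hπi : π ≫ i₀ = g₁ ≫ q := by
    apply Over.OverMorphism.ext
    change Spec.map incl ≫ Spec.map a₀ ≫ Z.left.isoSpec.inv =
      (Spec.map w.left.appTop ≫ V.left.isoSpec.inv) ≫ q.left
    rw [← Spec.map_comp_assoc, hai, Spec.map_comp_assoc, Scheme.isoSpec_inv_naturality,
      Category.assoc]
  have sqG : IsPullback π g₁ i₀ q := by
    refine IsPullback.of_map (Over.forget S) hπi ?_
    have h0 := isPullback_SpecMap_of_isPushout _ _ _ _ hpo
    refine IsPullback.of_iso h0 (Iso.refl _) (Iso.refl _) V.left.isoSpec.symm Z.left.isoSpec.symm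
      ?_ ?_ ?_ ?_
    · simp; rfl
    · simp; rfl
    · simp; rfl
    · simp only [Iso.symm_hom, Over.forget_obj, Over.forget_map]
      exact Scheme.isoSpec_inv_naturality q.left
  have hc : pr₁ ≫ (j ≫ π) = p ≫ (j ≫ π) := by
    apply Over.OverMorphism.ext
    change pr₁.left ≫ W.left.toSpecΓ ≫ Spec.map incl = p.left ≫ W.left.toSpecΓ ≫ Spec.map incl
    rw [Scheme.toSpecΓ_naturality_assoc, Scheme.toSpecΓ_naturality_assoc, ← Spec.map_comp,
      ← Spec.map_comp, hid]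
  have hqc : QuasiCompact q.left := inferInstance
  have hdesc : ∀ {T' : Over S} (g₁ g₂ : T' ⟶ W), (yon S).map g₁ ≫ fst = (yon S).map g₂ ≫ fst →
      g₁ ≫ (j ≫ π) = g₂ ≫ (j ≫ π) := by
    intro T' g₁ g₂ h
    have hw : g₁ ≫ w ≫ q = (g₂ ≫ w) ≫ q := by
      apply (yon S).map_injective
      have e1 : (yon S).map (g₁ ≫ w ≫ q) = ((yon S).map g₁ ≫ fst) ≫ f := by
        rw [Category.assoc, sq.w, ← CategoryTheory.Functor.map_comp,
          ← CategoryTheory.Functor.map_comp]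
      have e2 : (yon S).map ((g₂ ≫ w) ≫ q) = ((yon S).map g₂ ≫ fst) ≫ f := by
        rw [Category.assoc ((yon S).map g₂), sq.w, ← CategoryTheory.Functor.map_comp,
          ← CategoryTheory.Functor.map_comp, Category.assoc]
      rw [e1, e2, h]
    obtain ⟨ρ, hρ1, hρ2⟩ : ∃ ρ : T' ⟶ W2, ρ ≫ pr₁ = g₁ ∧ ρ ≫ pr₂ = g₂ ≫ w :=
      ⟨sq2.lift g₁ (g₂ ≫ w) hw, sq2.lift_fst _ _ _, sq2.lift_snd _ _ _⟩
    have hρp : ρ ≫ p = g₂ := by
      apply (yon S).map_injective
      apply sq.hom_ext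
      · rw [CategoryTheory.Functor.map_comp, Category.assoc, hp1,
          ← CategoryTheory.Functor.map_comp_assoc, hρ1, h]
      · rw [← CategoryTheory.Functor.map_comp, ← CategoryTheory.Functor.map_comp,
          Category.assoc, hp2, hρ2]
    have e1 : g₁ ≫ (j ≫ π) = (ρ ≫ pr₁) ≫ (j ≫ π) := by rw [hρ1]
    have e2 : (ρ ≫ pr₁) ≫ (j ≫ π) = (ρ ≫ p) ≫ (j ≫ π) := by
      rw [Category.assoc, hc, ← Category.assoc]
    rw [e1, e2, hρp]
  have hcomm : (j ≫ π) ≫ i₀ = w ≫ q := by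
    rw [Category.assoc, hπi, ← Category.assoc, hjg]
  have hu : fst ≫ FpqcDesc.uHom (j ≫ π) sq hdesc = (yon S).map (j ≫ π) :=
    FpqcDesc.fst_uHom (j ≫ π) sq hdesc
  have hui : FpqcDesc.uHom (j ≫ π) sq hdesc ≫ (yon S).map i₀ = f :=
    FpqcDesc.uHom_comp (j ≫ π) i₀ sq hdesc hcomm
  exact ⟨G₀, G₁, i₀, π, g₁, j, FpqcDesc.uHom (j ≫ π) sq hdesc,
    inferInstanceAs (IsAffine (Spec B₀)),
    inferInstanceAs (IsAffine (Spec Γ(W.left, ⊤))),
    inferInstanceAs (IsOpenImmersion W.left.toSpecΓ), sqG, hjg, hui, hu⟩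

end Groth.Agent.Lib.Helper3.FpqcQAff
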