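import Mathlib
import Groth.Agent.Lib.Helper4.ActShear
import Groth.Agent.Lib.Helper3.GQ10235
import Groth.Prelude.Def_NonAbH2

set_option autoImplicit false
universe u

namespace Groth.Agent.Lib.Helper3.GA

open CategoryTheory CategoryTheory.Limits AlgebraicGeometry Opposite AlgSp MonoidalCategory
  CartesianMonoidalCategory MonObj GrpObj
open Groth.Agent.Lib.Helper3 Groth.Agent.Lib.Helper4 Groth.Agent.Lib.Helper4.ActShear

variable {S : Scheme.{u}} {G X : Over S} [GrpObj G] (a : AlgGrp.Action G X)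

theorem comp_act {T : Over S} (r : T ⟶ G ⊗ X) : r ≫ a.act = smul a (r ≫ fst G X) (r ≫ snd G X) := by
  rw [act_eq a, comp_smul]

theorem smul_mul {T : Over S} (g h : T ⟶ G) (x : T ⟶ X) :
    smul a (g * h) x = smul a g (smul a h x) := mul_smul' a g h x

theorem smul_one {T : Over S} (x : T ⟶ X) : smul a (1 : T ⟶ G) x = x := one_smul' a x

theorem isEqvRel
    (hfree : ∀ (T : Over S) (g : T ⟶ G) (x : T ⟶ X), lift g x ≫ a.act = x → g = toUnit T ≫ η[G]) :
    AlgSp.IsEqvRel (snd G X) a.act where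
  injective T r r' ht hs := by
    rw [comp_act, comp_act] at ht
    have hx : r ≫ snd G X = r' ≫ snd G X := hs
    rw [← hx] at ht
    set g := r ≫ fst G X
    set g' := r' ≫ fst G X
    set x := r ≫ snd G X
    have h1 : smul a (g'⁻¹ * g) x = x := by
      rw [smul_mul, ht, ← smul_mul, inv_mul_cancel, smul_one]
    have h2 : g'⁻¹ * g = 1 := hfree T _ x h1
    have h3 : g = g' := by
      have := congrArg (fun k => g' * k) h2
      simpa using this
    apply CartesianMonoidalCategory.hom_ext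
    · exact h3
    · exact hx
  equivalence T := by
    refine ⟨fun x => ⟨lift 1 x, ?_, ?_⟩, ?_, ?_⟩
    · rw [comp_act, lift_fst, lift_snd, smul_one]
    · rw [lift_snd]
    · rintro x y ⟨r, h1, h2⟩
      refine ⟨lift (r ≫ fst G X)⁻¹ x, ?_, ?_⟩
      · rw [comp_act, lift_fst, lift_snd, ← h1, comp_act, ← smul_mul, inv_mul_cancel, smul_one, h2]
      · rw [lift_snd]
    · rintro x y z ⟨r, h1, h2⟩ ⟨r', h1', h2'⟩
      refine ⟨lift ((r ≫ fst G X) * (r' ≫ fst G X)) z, ?_, ?_⟩
      · rw [comp_act, lift_fst, lift_snd, smul_mul, ← h1, comp_act, h2, ← h1', comp_act, h2']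
      · rw [lift_snd]

end Groth.Agent.Lib.Helper3.GA

namespace Groth.Agent.Lib.Helper3.GA

open CategoryTheory CategoryTheory.Limits AlgebraicGeometry Opposite AlgSp MonoidalCategory
  CartesianMonoidalCategory MonObj GrpObj
open Groth.Agent.Lib.Helper3 Groth.Agent.Lib.Helper4 Groth.Agent.Lib.Helper4.ActShear
open Groth.Agent.Lib.Helper3.GQ

theorem main10245 {S : Scheme.{u}} (G X : Over S) [GrpObj G]
    (a : AlgGrp.Action G X) (hG : Mor2.IsFinLocFree G.hom)
    (hfree : ∀ (T : Over S) (g : T ⟶ G) (x : T ⟶ X), lift g x ≫ a.act = x → g = toUnit T ≫ η[G])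
    (h3 : IsAffineHom X.hom ∨ (∃ (R : CommRingCat.{u}) (i : X.left ⟶ Spec R), IsOpenImmersion i) ∨
      UniversallyInjective G.hom) :
    ∃ (M : Over S) (q : X ⟶ M), QuotSh.IsQuotient Scheme.fppfPrecoverage (snd G X) a.act q ∧
      IsPullback a.act.left (snd G X).left q.left q.left ∧
      NonAbH1.IsLocallyTrivialFor Scheme.fppfPrecoverage (Over.mk q.left) := by
  obtain ⟨hfin, hflat, hlfp⟩ := hG
  have heq := isEqvRel a hfree
  have hpb : IsPullback (pullback.fst G.hom X.hom) (snd G X).left G.hom X.hom :=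
    IsPullback.of_hasPullback G.hom X.hom
  haveI : IsFinite (snd G X).left := MorphismProperty.of_isPullback (P := @IsFinite) hpb hfin
  haveI : Flat (snd G X).left := MorphismProperty.of_isPullback (P := @Flat) hpb hflat
  haveI : LocallyOfFinitePresentation (snd G X).left :=
    MorphismProperty.of_isPullback (P := @LocallyOfFinitePresentation) hpb hlfp
  let 𝒢 := ofEqvRel (snd G X) a.act heq
  haveI : IsFinite 𝒢.s := ‹IsFinite (snd G X).left›
  haveI : Flat 𝒢.s := ‹Flat (snd G X).left›
  haveI : LocallyOfFinitePresentation 𝒢.s := ‹LocallyOfFinitePresentation (snd G X).left›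
  have hcov : ∀ u : ↥X.left, ∃ W : X.left.Opens, IsAffineOpen W ∧ u ∈ W ∧
      (snd G X).left ⁻¹ᵁ W = a.act.left ⁻¹ᵁ W := by
    intro u
    rcases h3 with h3 | ⟨R, i, hi⟩ | h3
    · obtain ⟨V, hV, huV, -⟩ := exists_isAffineOpen_mem_and_subset
        (x := X.hom u) (U := ⊤) trivial
      refine ⟨X.hom ⁻¹ᵁ V, hV.preimage X.hom, huV, ?_⟩
      rw [← Scheme.Hom.comp_preimage, ← Scheme.Hom.comp_preimage, Over.w, Over.w]
    · let Q : Set ↥X.left := a.act.left '' ((snd G X).left ⁻¹' {u})
      have hQ : Q.Finite := (Scheme.Hom.finite_preimage_singleton (snd G X).left u).image _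
      obtain ⟨f, hf1, hf2⟩ := GrpdAffOpen.exists_basicOpen_of_finite (Y := Spec R) (i '' Q)
        (hQ.image _) i.opensRange (by rintro _ ⟨x, -, rfl⟩; exact ⟨x, rfl⟩)
      let V : X.left.Opens := i ⁻¹ᵁ (Spec R).basicOpen f
      have hV : IsAffineOpen V :=
        ((isAffineOpen_top (Spec R)).basicOpen f).preimage_of_isOpenImmersion i hf2
      exact GrpdAffOpen.main S 𝒢 u V hV (fun r hr => hf1 ⟨_, ⟨r, hr, rfl⟩, rfl⟩)
    · obtain ⟨V, hV, huV, -⟩ := exists_isAffineOpen_mem_and_subset
        (x := u) (U := ⊤) trivial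
      haveI : UniversallyInjective (snd G X).left :=
        MorphismProperty.of_isPullback (P := @UniversallyInjective) hpb h3
      refine GrpdAffOpen.main S 𝒢 u V hV (fun r hr => ?_)
      obtain ⟨e, he1, he2⟩ := eqvRel_exists_e (snd G X) a.act heq
      have hr' : r = e u := by
        apply (snd G X).left.injective
        rw [← Scheme.Hom.comp_apply, he1]
        exact hr
      have : 𝒢.t r = u := by
        rw [hr']
        show a.act.left (e u) = u
        rw [← Scheme.Hom.comp_apply, he2]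
        rfl
      rw [this]
      exact huV
  obtain ⟨M, m, hmfin, hmflat, hmlfp, hmsurj, kpO⟩ :=
    exists_quotient_of_cover (snd G X) a.act heq hcov
  refine ⟨M, m, ?_, kpO.map (Over.forget S), ?_⟩
  · refine QuotIff.isQuotient_of_isKernelPair _ (snd G X) a.act m kpO.flip ?_
    rw [EpiRep.epi_repMap_iff_generate]
    exact Precoverage.generate_mem_toGrothendieck (Scheme.Hom.singleton_mem_fppfPrecoverage m.left)
  · refine ⟨Presieve.singleton m.left, Scheme.Hom.singleton_mem_fppfPrecoverage m.left, ?_⟩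
    rintro S' f ⟨⟩
    exact ⟨𝟙 _, Category.id_comp _⟩

end Groth.Agent.Lib.Helper3.GA
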