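import Mathlib
import Groth.Agent.Lib.Helper3.GQSep
import Groth.Agent.Lib.Helper4.QuotIff
import Groth.Prelude.Def_Mor2
import Groth.Prelude.Def_AlgSp

set_option autoImplicit false
universe u

namespace Groth.Agent.Lib.Helper3.GQ

open CategoryTheory CategoryTheory.Limits AlgebraicGeometry Opposite AlgSp
open Groth.Agent.Lib.Helper4

theorem main10236 {S : Scheme.{u}} (G : Grpd.GroupoidScheme S)
    (M : Over S) (m : Over.mk G.pU ⟶ M) (hm : Mor2.IsFinLocFree m.left)
    (hq : QuotSh.IsQuotient Scheme.fppfPrecoverage (Over.homMk G.s G.s_over : Over.mk G.pR ⟶ Over.mk G.pU) (Over.homMk G.t G.t_over : Over.mk G.pR ⟶ Over.mk G.pU) m) :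
    (QuasiSeparated G.pU → QuasiSeparated M.hom) ∧ (QuasiSeparatedSpace ↥G.U → QuasiSeparatedSpace ↥M.left) ∧
      (IsSeparated G.pU → IsSeparated M.hom) ∧ (G.U.IsSeparated → M.left.IsSeparated) := by
  obtain ⟨hmfin, hmflat, hmlfp⟩ := hm
  haveI := hmfin
  haveI := hmflat
  have hepi := QuotIff.epi_repMap_of_isQuotient _ _ _ m hq
  rw [EpiRep.epi_repMap_iff_generate] at hepi
  obtain ⟨V, g, σ, hg1, hg2, hg3, hσ⟩ := CoverDesc.exists_fppf_section m.left hepi
  haveI : Surjective m.left := by
    haveI : Surjective (σ ≫ m.left) := hσ ▸ hg1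
    exact Surjective.of_comp σ m.left
  have hw : m.left ≫ M.hom = G.pU := Over.w m
  have hterm : m.left ≫ terminal.from M.left = terminal.from G.U := Subsingleton.elim _ _
  refine ⟨fun h => ?_, fun h => ?_, fun h => ?_, fun h => ?_⟩
  · haveI : QuasiSeparated (m.left ≫ M.hom) := by rw [hw]; exact h
    exact quasiSeparated_of_finite_cover m.left M.hom
  · rw [quasiSeparatedSpace_iff_quasiSeparated] at h ⊢
    haveI : QuasiSeparated (m.left ≫ terminal.from M.left) := by rw [hterm]; exact h
    exact quasiSeparated_of_finite_cover m.left (terminal.from M.left)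
  · haveI : IsSeparated (m.left ≫ M.hom) := by rw [hw]; exact h
    exact isSeparated_of_finite_cover m.left M.hom
  · rw [Scheme.isSeparated_iff] at h ⊢
    haveI : IsSeparated (m.left ≫ terminal.from M.left) := by rw [hterm]; exact h
    exact isSeparated_of_finite_cover m.left (terminal.from M.left)

end Groth.Agent.Lib.Helper3.GQ
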