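import Mathlib

set_option autoImplicit false

namespace Groth.Agent.Lib.Helper3.GQ

open Polynomial Matrix

section Idem

variable {A : Type*} [CommRing A] {n : ℕ} (E : Matrix (Fin n) (Fin n) A)

/-- The rank polynomial `det(1 - E + X E)` of a matrix. -/
noncomputable def rankPoly : A[X] := (1 - E.map C + (X : A[X]) • E.map C).det

theorem eval₂_rankPoly {R' : Type*} [CommRing R'] (φ : A →+* R') (w : R') :
    (rankPoly E).eval₂ φ w = (1 - E.map φ + w • E.map φ).det := by
  unfold rankPoly
  rw [← Polynomial.coe_eval₂RingHom, RingHom.map_det]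
  congr 1
  ext j k
  simp only [RingHom.mapMatrix_apply, Matrix.map_apply, Matrix.add_apply, Matrix.sub_apply,
    Matrix.smul_apply, smul_eq_mul, Polynomial.coe_eval₂RingHom, Polynomial.eval₂_add,
    Polynomial.eval₂_sub, Polynomial.eval₂_mul, Polynomial.eval₂_X, Polynomial.eval₂_C]
  congr 2
  by_cases h : j = k
  · subst h; simp
  · simp [Matrix.one_apply_ne h]

theorem mul_key (hE : E * E = E) {R' : Type*} [CommRing R'] (φ : A →+* R') (w w' : R') :
    (1 - E.map φ + w • E.map φ) * (1 - E.map φ + w' • E.map φ) =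
      1 - E.map φ + (w * w') • E.map φ := by
  have hF : E.map φ * E.map φ = E.map φ := by
    rw [← Matrix.map_mul, hE]
  set F := E.map φ
  simp only [add_mul, mul_add, sub_mul, mul_sub, one_mul, mul_one, Matrix.smul_mul,
    Matrix.mul_smul, hF, smul_smul]
  rw [mul_comm w' w]
  abel

theorem eval₂_rankPoly_mul (hE : E * E = E) {R' : Type*} [CommRing R'] (φ : A →+* R')
    (w w' : R') :
    (rankPoly E).eval₂ φ w * (rankPoly E).eval₂ φ w' = (rankPoly E).eval₂ φ (w * w') := by
  rw [eval₂_rankPoly, eval₂_rankPoly, eval₂_rankPoly, ← Matrix.det_mul, mul_key E hE]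

theorem rankPoly_mul_C_coeff (hE : E * E = E) (s : ℕ) :
    rankPoly E * C ((rankPoly E).coeff s) = C ((rankPoly E).coeff s) * X ^ s := by
  set g := rankPoly E with hg
  let φ : A →+* A[X][X] := (C : A[X] →+* A[X][X]).comp (C : A →+* A[X])
  have h1 := eval₂_rankPoly_mul E hE φ (C X) X
  rw [← hg] at h1
  have e1 : g.eval₂ φ (C X) = C g := by
    have := Polynomial.hom_eval₂ g (C : A →+* A[X]) (C : A[X] →+* A[X][X]) X
    rw [Polynomial.eval₂_C_X] at this
    exact this.symm
  have e2 : g.eval₂ φ X = g.map C := by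
    rw [← Polynomial.eval₂_map, Polynomial.eval₂_C_X]
  rw [e1, e2, Polynomial.eval₂_eq_sum_range] at h1
  have h2 := congrArg (fun p : A[X][X] => p.coeff s) h1
  simp only [Polynomial.coeff_C_mul, Polynomial.coeff_map, Polynomial.finsetSum_coeff] at h2
  rw [h2]
  have h3 : ∀ r : ℕ, (φ (g.coeff r) * (C X * X) ^ r : A[X][X]).coeff s =
      if s = r then C (g.coeff r) * X ^ r else 0 := by
    intro r
    have : (φ (g.coeff r) * (C X * X) ^ r : A[X][X]) = C (C (g.coeff r) * X ^ r) * X ^ r := by
      rw [mul_pow, ← mul_assoc, ← C_pow]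
      show C (C (g.coeff r)) * C (X ^ r) * X ^ r = _
      rw [← C_mul]
    rw [this, Polynomial.coeff_C_mul_X_pow]
  simp only [h3]
  rw [Finset.sum_ite_eq]
  split_ifs with hs
  · rfl
  · rw [Finset.mem_range, not_lt, Nat.add_one_le_iff] at hs
    rw [Polynomial.coeff_eq_zero_of_natDegree_lt hs]
    simp

theorem rankPoly_coeff_mul (hE : E * E = E) (r s : ℕ) :
    (rankPoly E).coeff r * (rankPoly E).coeff s = if r = s then (rankPoly E).coeff s else 0 := by
  have h := congrArg (fun p : A[X] => p.coeff r) (rankPoly_mul_C_coeff E hE s)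
  simp only [Polynomial.coeff_mul_C, Polynomial.coeff_C_mul_X_pow] at h
  exact h

theorem rankPoly_sum_coeff :
    ∑ r ∈ Finset.range ((rankPoly E).natDegree + 1), (rankPoly E).coeff r = 1 := by
  have h := eval₂_rankPoly E (RingHom.id A) 1
  rw [Polynomial.eval₂_eq_sum_range] at h
  simp only [RingHom.id_apply, one_pow, mul_one, one_smul] at h
  rw [h]
  have : E.map (RingHom.id A) = E := by ext j k; simp
  rw [this, sub_add_cancel, Matrix.det_one]

theorem rankPoly_coeff_zero : (rankPoly E).coeff 0 = (1 - E).det := by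
  have h := eval₂_rankPoly E (RingHom.id A) 0
  have : E.map (RingHom.id A) = E := by ext j k; simp
  rw [this, zero_smul, add_zero] at h
  rw [← h, Polynomial.coeff_zero_eq_eval_zero]
  rfl

end Idem

/-- Equalizing exponents using orthogonal idempotents. -/
theorem sum_idem_pow_factorial {R' : Type*} [CommRing R'] (e : ℕ → R') (N : ℕ) (he0 : e 0 = 0)
    (hsum : ∑ r ∈ Finset.range (N + 1), e r = 1)
    (horth : ∀ r s, e r * e s = if r = s then e s else 0) (w : R') :
    ∑ r ∈ Finset.range (N + 1),
        e r * (∑ t ∈ Finset.range (N + 1), e t * w ^ t) ^ (N.factorial / r) =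
      w ^ N.factorial := by
  set Q := ∑ t ∈ Finset.range (N + 1), e t * w ^ t with hQ
  have h1 : ∀ r ∈ Finset.range (N + 1), e r * Q ^ (N.factorial / r) = e r * w ^ N.factorial := by
    intro r hr
    by_cases hr0 : r = 0
    · subst hr0; rw [he0, zero_mul, zero_mul]
    have hrN : r ≤ N := Nat.lt_succ_iff.mp (Finset.mem_range.mp hr)
    have hdvd : r ∣ N.factorial := Nat.dvd_factorial (Nat.pos_of_ne_zero hr0) hrN
    have hidem : e r * e r = e r := by rw [horth]; simp
    have h2 : e r * Q = e r * w ^ r := by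
      rw [hQ, Finset.mul_sum]
      rw [Finset.sum_eq_single r]
      · rw [← mul_assoc, hidem]
      · intro t _ htr
        rw [← mul_assoc, horth, if_neg (Ne.symm htr), zero_mul]
      · intro h; exact absurd hr h
    have h3 : ∀ m : ℕ, e r * Q ^ m = e r * w ^ (r * m) := by
      intro m
      induction m with
      | zero => simp
      | succ m ih =>
        rw [pow_succ, ← mul_assoc, ih, mul_assoc, mul_comm (w ^ (r * m)) Q, ← mul_assoc, h2,
          mul_assoc, ← pow_add]
        congr 2
        ring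
    rw [h3, Nat.mul_div_cancel' hdvd]
  rw [Finset.sum_congr rfl h1, ← Finset.sum_mul, hsum, one_mul]

end Groth.Agent.Lib.Helper3.GQ
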