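import Mathlib
import Groth.Agent.Lib.Helper4.ProjNorm

set_option autoImplicit false

namespace Groth.Agent.Lib.Helper3.GQ

open Groth.Agent.Lib.Helper4 Groth.Agent.Lib.Helper4.ProjCharpoly Groth.Agent.Lib.Helper4.ProjNorm

section Pol

variable {A B : Type*} [CommRing A] [CommRing B] [Algebra A B] {n : ℕ}
variable {P : Type*} [CommRing P] {L : Type*}

/-- The polarized matrix `1 - E + ∑ z_l M(b_l)` with entries pushed to `P`. -/
noncomputable def polMat (D : DualBasis A B n) (φ : A →+* P) (s : Finset L) (b : L → B)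
    (z : L → P) : Matrix (Fin n) (Fin n) P :=
  1 - (mat D 1).map φ + ∑ l ∈ s, z l • (mat D (b l)).map φ

/-- The polarized norm. -/
noncomputable def pn (D : DualBasis A B n) (φ : A →+* P) (s : Finset L) (b : L → B)
    (z : L → P) : P := (polMat D φ s b z).det

theorem polMat_apply (D : DualBasis A B n) (φ : A →+* P) (s : Finset L) (b : L → B)
    (z : L → P) (j k : Fin n) :
    polMat D φ s b z j k =
      (1 : Matrix (Fin n) (Fin n) P) j k - φ (mat D 1 j k) + ∑ l ∈ s, z l * φ (mat D (b l) j k) := by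
  simp only [polMat, Matrix.add_apply, Matrix.sub_apply, Matrix.map_apply, Matrix.sum_apply,
    Matrix.smul_apply, smul_eq_mul]

theorem cross_mul (D D' : DualBasis A B n) (b : B) :
    (Matrix.of fun j k => D.ι j (D'.p k)) * (Matrix.of fun j k => D'.ι j (b * D.p k)) =
      mat D b := by
  ext j l
  simp only [Matrix.mul_apply, Matrix.of_apply, mat]
  conv_rhs => rw [← D'.repr (b * D.p l), map_sum]
  refine Finset.sum_congr rfl fun k _ => ?_
  rw [map_smul, smul_eq_mul, mul_comm]

theorem cross_mul' (D D' : DualBasis A B n) (b : B) :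
    (Matrix.of fun j k => D'.ι j (b * D.p k)) * (Matrix.of fun j k => D.ι j (D'.p k)) =
      mat D' b := by
  ext j l
  simp only [Matrix.mul_apply, Matrix.of_apply, mat]
  have h3 : b * D'.p l = ∑ k, D.ι k (D'.p l) • (b * D.p k) := by
    conv_lhs => rw [← D.repr (D'.p l), Finset.mul_sum]
    refine Finset.sum_congr rfl fun k _ => ?_
    rw [mul_smul_comm]
  conv_rhs => rw [h3, map_sum]
  refine Finset.sum_congr rfl fun k _ => ?_
  rw [map_smul, smul_eq_mul, mul_comm]

/-- The polarized norm does not depend on the dual basis. -/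
theorem pn_indep (D D' : DualBasis A B n) (φ : A →+* P) (s : Finset L) (b : L → B)
    (z : L → P) : pn D φ s b z = pn D' φ s b z := by
  let X₀ : Matrix (Fin n) (Fin n) A := Matrix.of fun j k => D.ι j (D'.p k)
  let Y₀ : B → Matrix (Fin n) (Fin n) A := fun b => Matrix.of fun j k => D'.ι j (b * D.p k)
  let X : Matrix (Fin n) (Fin n) P := X₀.map φ
  let Y : Matrix (Fin n) (Fin n) P := ∑ l ∈ s, z l • (Y₀ (b l)).map φ - (Y₀ 1).map φ
  have h1 : X * Y = ∑ l ∈ s, z l • (mat D (b l)).map φ - (mat D 1).map φ := by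
    simp only [X, Y, Matrix.mul_sub, Matrix.mul_sum, Matrix.mul_smul]
    congr 1
    · refine Finset.sum_congr rfl fun l _ => ?_
      rw [← Matrix.map_mul, cross_mul]
    · rw [← Matrix.map_mul, cross_mul]
  have h2 : Y * X = ∑ l ∈ s, z l • (mat D' (b l)).map φ - (mat D' 1).map φ := by
    simp only [X, Y, Matrix.sub_mul, Matrix.sum_mul, Matrix.smul_mul]
    congr 1
    · refine Finset.sum_congr rfl fun l _ => ?_
      rw [← Matrix.map_mul, cross_mul']
    · rw [← Matrix.map_mul, cross_mul']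
  have e1 : polMat D φ s b z = 1 + X * Y := by rw [h1, polMat]; abel
  have e2 : polMat D' φ s b z = 1 + Y * X := by rw [h2, polMat]; abel
  unfold pn
  rw [e1, e2, Matrix.det_one_add_mul_comm]

theorem pn_map {P' : Type*} [CommRing P'] (ψ : P →+* P') (D : DualBasis A B n) (φ : A →+* P)
    (s : Finset L) (b : L → B) (z : L → P) :
    ψ (pn D φ s b z) = pn D (ψ.comp φ) s b (fun l => ψ (z l)) := by
  unfold pn
  rw [RingHom.map_det]
  congr 1
  ext j k
  rw [RingHom.mapMatrix_apply, Matrix.map_apply, polMat_apply, polMat_apply]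
  simp only [map_add, map_sub, map_sum, map_mul, RingHom.comp_apply]
  congr 2
  by_cases h : j = k
  · subst h; simp
  · simp [Matrix.one_apply_ne h]

theorem pn_baseChange {A' B' : Type*} [CommRing A'] [CommRing B'] [Algebra A' B']
    (D : DualBasis A B n) (D' : DualBasis A' B' n) (α : A →+* A') (β : B → B')
    (h : ∀ b, mat D' (β b) = (mat D b).map α) (hβ : β 1 = 1) (φ' : A' →+* P)
    (s : Finset L) (b : L → B) (z : L → P) :
    pn D (φ'.comp α) s b z = pn D' φ' s (fun l => β (b l)) z := by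
  unfold pn
  congr 1
  ext j k
  rw [polMat_apply, polMat_apply]
  have h1 := h 1
  rw [hβ] at h1
  rw [h1]
  simp only [h, Matrix.map_apply, RingHom.comp_apply]

theorem mat_zero (D : DualBasis A B n) : mat D 0 = 0 := by
  ext j k
  simp [mat]

theorem mat_smul (D : DualBasis A B n) (a : A) (b : B) : mat D (a • b) = a • mat D b := by
  ext j k
  simp [mat]

theorem mat_sum (D : DualBasis A B n) (s : Finset L) (f : L → B) :
    mat D (∑ l ∈ s, f l) = ∑ l ∈ s, mat D (f l) := by
  classical
  induction s using Finset.induction_on with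
  | empty => simp [mat_zero]
  | insert a s ha ih => rw [Finset.sum_insert ha, Finset.sum_insert ha, mat_add, ih]

theorem pn_id (D : DualBasis A B n) (s : Finset L) (b : L → B) (z : L → A) :
    pn D (RingHom.id A) s b z = nrm D (∑ l ∈ s, z l • b l) := by
  unfold pn nrm polMat
  rw [mat_sum]
  have h0 : ∀ M : Matrix (Fin n) (Fin n) A, M.map (RingHom.id A) = M := fun M => by
    ext j k; simp
  simp only [h0, mat_smul]

end Pol

section Fibre

open TensorProduct

variable {A B : Type*} [CommRing A] [CommRing B] [Algebra A B] {n : ℕ}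
variable {k : Type*} [Field k] [IsAlgClosed k] [Algebra A k] {L : Type*}

theorem exists_algHom_of_not_isUnit {T : Type*} [CommRing T] [Algebra k T] [Module.Finite k T]
    (g : T) (hg : ¬ IsUnit g) : ∃ ρ' : T →ₐ[k] k, ρ' g = 0 := by
  obtain ⟨m, hm, hgm⟩ := exists_max_ideal_of_mem_nonunits (show g ∈ nonunits T from hg)
  letI : Field (T ⧸ m) := Ideal.Quotient.field m
  haveI : Algebra.IsIntegral k (T ⧸ m) := Algebra.IsIntegral.of_finite k (T ⧸ m)
  have hbij : Function.Bijective (algebraMap k (T ⧸ m)) :=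
    IsAlgClosed.algebraMap_bijective_of_isIntegral
  let e : k ≃ₐ[k] (T ⧸ m) := AlgEquiv.ofBijective (Algebra.ofId k (T ⧸ m)) hbij
  refine ⟨(e.symm : (T ⧸ m) →ₐ[k] k).comp (Ideal.Quotient.mkₐ k m), ?_⟩
  have h0 : Ideal.Quotient.mkₐ k m g = 0 := Ideal.Quotient.eq_zero_iff_mem.mpr hgm
  rw [AlgHom.comp_apply, h0, map_zero]

theorem pn_eq_zero_iff [Module.Finite A B] (D : DualBasis A B n) (s : Finset L) (b : L → B)
    (z : L → k) :
    pn D (algebraMap A k) s b z = 0 ↔ ∃ ρ : B →ₐ[A] k, ∑ l ∈ s, z l * ρ (b l) = 0 := by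
  letI : Algebra B (k ⊗[A] B) := Algebra.TensorProduct.rightAlgebra
  obtain ⟨Dk, hDk⟩ := exists_baseChange_mat (A := A) (B := B) (A' := k) (B' := k ⊗[A] B) D
  set g : k ⊗[A] B := ∑ l ∈ s, z l • algebraMap B (k ⊗[A] B) (b l) with hg
  have h1 : pn D (algebraMap A k) s b z = nrm Dk g := by
    have := pn_baseChange D Dk (algebraMap A k) (algebraMap B (k ⊗[A] B)) hDk (map_one _)
      (RingHom.id k) s b z
    rw [RingHom.id_comp] at this
    rw [this, pn_id]
  have h2 : ∀ (ρ' : (k ⊗[A] B) →ₐ[k] k), ρ' g =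
      ∑ l ∈ s, z l * ρ' (algebraMap B (k ⊗[A] B) (b l)) := by
    intro ρ'
    rw [hg, map_sum]
    refine Finset.sum_congr rfl fun l _ => ?_
    rw [map_smul, smul_eq_mul]
  rw [h1]
  constructor
  · intro h0
    have hnu : ¬ IsUnit g := by
      intro hu
      have := (isUnit_nrm_iff Dk g).mpr hu
      rw [h0] at this
      exact not_isUnit_zero this
    obtain ⟨ρ', hρ'⟩ := exists_algHom_of_not_isUnit (k := k) (T := k ⊗[A] B) g hnu
    refine ⟨(Algebra.TensorProduct.liftEquivRight A k B k).symm ρ', ?_⟩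
    rw [h2] at hρ'
    exact hρ'
  · rintro ⟨ρ, hρ⟩
    let ρ' := Algebra.TensorProduct.liftEquivRight A k B k ρ
    have h3 : ∀ x : B, ρ' (algebraMap B (k ⊗[A] B) x) = ρ x := by
      intro x
      have : algebraMap B (k ⊗[A] B) x = (1 : k) ⊗ₜ[A] x := rfl
      rw [this]
      simp [ρ']
    have h4 : ρ' g = 0 := by
      rw [h2]
      simp only [h3]
      exact hρ
    by_contra hne
    have hu : IsUnit (nrm Dk g) := isUnit_iff_ne_zero.mpr hne
    have hug := (isUnit_nrm_iff Dk g).mp hu
    have := hug.map ρ'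
    rw [h4] at this
    exact not_isUnit_zero this

end Fibre

section Poly

variable {A B : Type*} [CommRing A] [CommRing B] [Algebra A B] {n : ℕ} {L : Type*}

/-- The polarized norm as a polynomial in the variables `X_l`. -/
noncomputable def pnPoly (D : DualBasis A B n) (s : Finset L) (b : L → B) : MvPolynomial L A :=
  pn D MvPolynomial.C s b MvPolynomial.X

theorem eval₂Hom_pnPoly {P : Type*} [CommRing P] (x : A →+* P) (z : L → P)
    (D : DualBasis A B n) (s : Finset L) (b : L → B) :
    MvPolynomial.eval₂Hom x z (pnPoly D s b) = pn D x s b z := by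
  unfold pnPoly
  rw [pn_map]
  congr 1
  · ext a; simp
  · ext l; simp

theorem map_pnPoly {A' : Type*} [CommRing A'] (α : A →+* A')
    (D : DualBasis A B n) (s : Finset L) (b : L → B) :
    MvPolynomial.map α (pnPoly D s b) = pn D (MvPolynomial.C.comp α) s b MvPolynomial.X := by
  unfold pnPoly
  rw [pn_map]
  congr 1
  · ext a; simp
  · ext l; simp

theorem eval₂Hom_congr_of_coeff {P : Type*} [CommRing P] (x₀ x₁ : A →+* P)
    (p : MvPolynomial L A) (h : ∀ m, x₀ (p.coeff m) = x₁ (p.coeff m)) (z : L → P) :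
    MvPolynomial.eval₂Hom x₀ z p = MvPolynomial.eval₂Hom x₁ z p := by
  rw [MvPolynomial.coe_eval₂Hom, MvPolynomial.coe_eval₂Hom, MvPolynomial.eval₂_eq,
    MvPolynomial.eval₂_eq]
  refine Finset.sum_congr rfl fun m _ => ?_
  rw [h]

end Poly

end Groth.Agent.Lib.Helper3.GQ
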