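import Mathlib
import Groth.Agent.Lib.Helper3.GQPol
import Groth.Agent.Lib.Helper3.GQIdem

set_option autoImplicit false

namespace Groth.Agent.Lib.Helper3.GQ

open Groth.Agent.Lib.Helper4 Groth.Agent.Lib.Helper4.ProjCharpoly Groth.Agent.Lib.Helper4.ProjNorm
open TensorProduct Polynomial

/-- `det (1 - E) = 0` when the algebra has a section. -/
theorem det_one_sub_mat_one {A B : Type*} [CommRing A] [CommRing B] [Algebra A B] {n : ℕ}
    (D : DualBasis A B n) (e : B →+* A) (he : ∀ a, e (algebraMap A B a) = a) :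
    (1 - mat D 1).det = 0 := by
  set M := 1 - mat D 1 with hM
  have h0 : M.mulVec (coord D 1) = 0 := by
    rw [hM, Matrix.sub_mulVec, Matrix.one_mulVec, mat_mulVec_coord, one_mul, sub_self]
  have h1 : M.det • coord D 1 = 0 := by
    have := congrArg (fun N : Matrix (Fin n) (Fin n) A => N.mulVec (coord D 1))
      (Matrix.adjugate_mul M)
    simp only [← Matrix.mulVec_mulVec, h0, Matrix.mulVec_zero, Matrix.smul_mulVec,
      Matrix.one_mulVec] at this
    exact this.symm
  have h2 : ∀ j, M.det * D.ι j 1 = 0 := fun j => congrFun h1 j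
  have h3 : (1 : A) = ∑ j, D.ι j 1 * e (D.p j) := by
    have := congrArg e (D.repr 1)
    rw [map_one, map_sum] at this
    rw [← this]
    refine Finset.sum_congr rfl fun j _ => ?_
    rw [Algebra.smul_def, map_mul, he]
  calc M.det = M.det * 1 := (mul_one _).symm
    _ = ∑ j, M.det * D.ι j 1 * e (D.p j) := by
        rw [h3, Finset.mul_sum]
        refine Finset.sum_congr rfl fun j _ => ?_
        rw [mul_assoc]
    _ = 0 := by
        refine Finset.sum_eq_zero fun j _ => ?_
        rw [h2, zero_mul]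

section Main

variable {C A B C' : Type*} [CommRing C] [CommRing A] [CommRing B] [CommRing C']
  [Algebra C A] [Algebra A B] [Algebra C B] [IsScalarTower C A B] [Algebra C C'] {n : ℕ}

theorem exists_poly_of_invariant (D : DualBasis A B n) (τ : A →+* B) (hτ1 : τ 1 = 1)
    (H1 : ∀ r, (rankPoly (mat D 1)).coeff r ∈ Set.range (algebraMap C A))
    (H2 : ∀ (S : Finset (A × C')) (m : Option (A × C') →₀ ℕ),
      (pnPoly D (Finset.insertNone S) (fun o => τ (o.elim 1 Prod.fst))).coeff m ∈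
        Set.range (algebraMap C A))
    (H3 : (1 - mat D 1).det = 0)
    (sT tT : A ⊗[C] C' →ₐ[C] B ⊗[C] C')
    (hsT : ∀ (a : A) (c : C'), sT (a ⊗ₜ c) = algebraMap A B a ⊗ₜ c)
    (htT : ∀ (a : A) (c : C'), tT (a ⊗ₜ c) = τ a ⊗ₜ c)
    (f : A ⊗[C] C') (hf : sT f = tT f) :
    ∃ (N : ℕ) (P : Polynomial C'), 0 < N ∧
      Polynomial.map (Algebra.TensorProduct.includeRight : C' →ₐ[C] A ⊗[C] C').toRingHom P =
        (Polynomial.X - Polynomial.C f) ^ N := by
  classical
  obtain ⟨S, hS⟩ := TensorProduct.exists_finset f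
  set E := mat D 1 with hE
  let inclL : A →+* A ⊗[C] C' := (Algebra.TensorProduct.includeLeft : A →ₐ[C] A ⊗[C] C').toRingHom
  let inclR : C' →+* A ⊗[C] C' :=
    (Algebra.TensorProduct.includeRight : C' →ₐ[C] A ⊗[C] C').toRingHom
  let φ : A →+* (A ⊗[C] C')[X] := (Polynomial.C).comp inclL
  let I : Subring (A ⊗[C] C')[X] := (Polynomial.mapRingHom inclR).range
  -- elements of `C` land in `I`
  have hCI : ∀ a ∈ Set.range (algebraMap C A), φ a ∈ I := by
    rintro _ ⟨c, rfl⟩
    refine ⟨Polynomial.C (algebraMap C C' c), ?_⟩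
    rw [Polynomial.coe_mapRingHom, Polynomial.map_C]
    show Polynomial.C ((1 : A) ⊗ₜ[C] (algebraMap C C' c)) = Polynomial.C ((algebraMap C A c) ⊗ₜ[C] (1 : C'))
    congr 1
    rw [Algebra.algebraMap_eq_smul_one, Algebra.algebraMap_eq_smul_one, TensorProduct.smul_tmul]
  -- the entry identity
  have hent : ∀ j k : Fin n, ∑ i ∈ S, (D.ι j (τ i.1 * D.p k)) ⊗ₜ[C] i.2 =
      f * ((E j k) ⊗ₜ[C] (1 : C')) := by
    intro j k
    let ιj : B ⊗[C] C' →ₗ[C] A ⊗[C] C' := LinearMap.rTensor C' ((D.ι j).restrictScalars C)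
    have h1 : ιj ((D.p k ⊗ₜ[C] (1 : C')) * tT f) = ιj ((D.p k ⊗ₜ[C] (1 : C')) * sT f) := by
      rw [hf]
    rw [hS, map_sum, map_sum, Finset.mul_sum, Finset.mul_sum, map_sum, map_sum] at h1
    have h2 : ∀ i ∈ S, ιj ((D.p k ⊗ₜ[C] (1 : C')) * tT (i.1 ⊗ₜ[C] i.2)) =
        (D.ι j (τ i.1 * D.p k)) ⊗ₜ[C] i.2 := by
      intro i _
      rw [htT, Algebra.TensorProduct.tmul_mul_tmul, one_mul, mul_comm]
      rfl
    have h3 : ∀ i ∈ S, ιj ((D.p k ⊗ₜ[C] (1 : C')) * sT (i.1 ⊗ₜ[C] i.2)) =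
        (i.1 ⊗ₜ[C] i.2) * ((E j k) ⊗ₜ[C] (1 : C')) := by
      intro i _
      rw [hsT, Algebra.TensorProduct.tmul_mul_tmul, one_mul, Algebra.TensorProduct.tmul_mul_tmul,
        mul_one]
      show (D.ι j (D.p k * algebraMap A B i.1)) ⊗ₜ[C] i.2 = _
      congr 1
      rw [mul_comm, ← Algebra.smul_def, map_smul, smul_eq_mul, hE]
      simp [mat]
    rw [Finset.sum_congr rfl h2, Finset.sum_congr rfl h3, ← Finset.sum_mul, ← hS] at h1
    exact h1
  -- the polarized determinant
  let b : Option (A × C') → B := fun o => τ (o.elim 1 Prod.fst)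
  let z : Option (A × C') → (A ⊗[C] C')[X] :=
    fun o => o.elim Polynomial.X (fun i => - Polynomial.C ((1 : A) ⊗ₜ[C] i.2))
  set Q₁ := pn D φ (Finset.insertNone S) b z with hQ₁
  set w : (A ⊗[C] C')[X] := Polynomial.X - Polynomial.C f with hw
  have hQ₁eq : Q₁ = (rankPoly E).eval₂ φ w := by
    rw [eval₂_rankPoly, hQ₁]
    unfold pn
    congr 1
    refine Matrix.ext fun j k => ?_
    rw [polMat_apply, Finset.sum_insertNone]
    simp only [Matrix.add_apply, Matrix.sub_apply, Matrix.smul_apply, Matrix.map_apply,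
      smul_eq_mul]
    have hb0 : b none = 1 := by show τ 1 = 1; exact hτ1
    have hz0 : z none = Polynomial.X := rfl
    rw [hb0, hz0]
    have hsum : ∑ i ∈ S, z (some i) * φ (mat D (b (some i)) j k) =
        - (Polynomial.C f * φ (E j k)) := by
      have : ∀ i ∈ S, z (some i) * φ (mat D (b (some i)) j k) =
          - Polynomial.C ((D.ι j (τ i.1 * D.p k)) ⊗ₜ[C] i.2) := by
        intro i _
        have e1 : z (some i) = - Polynomial.C ((1 : A) ⊗ₜ[C] i.2) := rfl
        have e2 : φ (mat D (b (some i)) j k) =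
            Polynomial.C ((D.ι j (τ i.1 * D.p k)) ⊗ₜ[C] (1 : C')) := rfl
        have e3 : Polynomial.C ((1 : A) ⊗ₜ[C] i.2) *
            Polynomial.C ((D.ι j (τ i.1 * D.p k)) ⊗ₜ[C] (1 : C')) =
            Polynomial.C ((D.ι j (τ i.1 * D.p k)) ⊗ₜ[C] i.2) := by
          rw [← Polynomial.C_mul, Algebra.TensorProduct.tmul_mul_tmul, one_mul, mul_one]
        rw [e1, e2, ← e3]
        ring
      rw [Finset.sum_congr rfl this, Finset.sum_neg_distrib, ← map_sum, hent, Polynomial.C_mul]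
      rfl
    rw [hsum, hw]
    ring
  have hQ₁I : Q₁ ∈ I := by
    have h1 := eval₂Hom_pnPoly φ z D (Finset.insertNone S) b
    rw [← hQ₁] at h1
    rw [← h1, MvPolynomial.coe_eval₂Hom, MvPolynomial.eval₂_eq]
    refine Subring.sum_mem _ fun m _ => ?_
    refine Subring.mul_mem _ (hCI _ (H2 S m)) ?_
    refine Subring.prod_mem _ fun o _ => Subring.pow_mem _ ?_ _
    cases o with
    | none => exact ⟨Polynomial.X, by rw [Polynomial.coe_mapRingHom, Polynomial.map_X]; rfl⟩
    | some i =>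
      refine ⟨- Polynomial.C i.2, ?_⟩
      rw [Polynomial.coe_mapRingHom, Polynomial.map_neg, Polynomial.map_C]
      rfl
  -- idempotents
  set g := rankPoly E with hg
  have hEE : E * E = E := by rw [hE, mat_mul_mat, one_mul]
  let e : ℕ → (A ⊗[C] C')[X] := fun r => φ (g.coeff r)
  have he0 : e 0 = 0 := by
    show φ (g.coeff 0) = 0
    rw [hg, rankPoly_coeff_zero, H3, map_zero]
  have hesum : ∑ r ∈ Finset.range (g.natDegree + 1), e r = 1 := by
    show ∑ r ∈ Finset.range (g.natDegree + 1), φ (g.coeff r) = 1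
    rw [← map_sum, hg, rankPoly_sum_coeff, map_one]
  have horth : ∀ r s, e r * e s = if r = s then e s else 0 := by
    intro r s
    show φ (g.coeff r) * φ (g.coeff s) = if r = s then φ (g.coeff s) else 0
    rw [← map_mul, hg, rankPoly_coeff_mul E hEE]
    split_ifs <;> simp
  have hfin := sum_idem_pow_factorial e g.natDegree he0 hesum horth w
  have hQ₁sum : Q₁ = ∑ t ∈ Finset.range (g.natDegree + 1), e t * w ^ t := by
    rw [hQ₁eq, Polynomial.eval₂_eq_sum_range]
  rw [← hQ₁sum] at hfin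
  have hmem : w ^ g.natDegree.factorial ∈ I := by
    rw [← hfin]
    refine Subring.sum_mem _ fun r _ => Subring.mul_mem _ (hCI _ (H1 r)) (Subring.pow_mem _ hQ₁I _)
  obtain ⟨P, hP⟩ := hmem
  exact ⟨g.natDegree.factorial, P, Nat.factorial_pos _, hP⟩

end Main

end Groth.Agent.Lib.Helper3.GQ
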