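import Mathlib

set_option autoImplicit false

namespace Groth.Agent.Lib.Helper3.GQ

/-- A ring map from `C` to an algebraically closed field extends along an integral extension. -/
theorem exists_extension_of_isIntegral {C A k : Type*} [CommRing C] [CommRing A] [Field k]
    [IsAlgClosed k] [Algebra C A] [Algebra.IsIntegral C A]
    (hinj : Function.Injective (algebraMap C A)) (μ : C →+* k) :
    ∃ χ : A →+* k, χ.comp (algebraMap C A) = μ := by
  let p : Ideal C := RingHom.ker μ
  haveI hp : p.IsPrime := RingHom.ker_isPrime μ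
  obtain ⟨q, -, hq, hqp⟩ := Ideal.exists_ideal_over_prime_of_isIntegral p (⊥ : Ideal A) (by
    intro x hx
    rw [Ideal.mem_comap, Ideal.mem_bot] at hx
    have : x = 0 := hinj (by rw [hx, map_zero])
    rw [this]; exact zero_mem _)
  haveI := hq
  haveI : q.LiesOver p := ⟨hqp.symm⟩
  let μ' : C ⧸ p →+* k := Ideal.Quotient.lift p μ (fun a ha => ha)
  letI : Algebra (C ⧸ p) k := μ'.toAlgebra
  have hμ'inj : Function.Injective (algebraMap (C ⧸ p) k) := by
    rw [injective_iff_map_eq_zero]
    intro x hx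
    obtain ⟨c, rfl⟩ := Ideal.Quotient.mk_surjective x
    have : μ c = 0 := hx
    exact Ideal.Quotient.eq_zero_iff_mem.mpr this
  haveI : Module.IsTorsionFree (C ⧸ p) k := Module.isTorsionFree_iff_algebraMap_injective.mpr hμ'inj
  haveI : Algebra.IsAlgebraic (C ⧸ p) (A ⧸ q) := Algebra.IsIntegral.isAlgebraic
  let f : A ⧸ q →ₐ[C ⧸ p] k := IsAlgClosed.lift
  refine ⟨f.toRingHom.comp (Ideal.Quotient.mk q), ?_⟩
  ext c
  have h1 : (Ideal.Quotient.mk q) (algebraMap C A c) = algebraMap (C ⧸ p) (A ⧸ q) (Ideal.Quotient.mk p c) := rfl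
  simp only [RingHom.comp_apply]
  rw [h1]
  erw [f.commutes]
  rfl

end Groth.Agent.Lib.Helper3.GQ
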