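import Mathlib
import Groth.Agent.Lib.Helper3.GQExt

set_option autoImplicit false

namespace Groth.Agent.Lib.Helper3.GQ

open TensorProduct

section Nil

variable {C A C' : Type*} [CommRing C] [CommRing A] [CommRing C'] [Algebra C A] [Algebra C C']

/-- If `C ⊆ A` is integral, the kernel of `C' → A ⊗_C C'` consists of nilpotents. -/
theorem isNilpotent_of_includeRight_eq_zero [Algebra.IsIntegral C A]
    (hinj : Function.Injective (algebraMap C A)) (c : C')
    (hc : (Algebra.TensorProduct.includeRight : C' →ₐ[C] A ⊗[C] C') c = 0) : IsNilpotent c := by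
  rw [nilpotent_iff_mem_prime]
  intro p' hp'
  haveI := hp'
  let K := FractionRing (C' ⧸ p')
  let k := AlgebraicClosure K
  let ψ : C' →+* k := (algebraMap K k).comp ((algebraMap (C' ⧸ p') K).comp (Ideal.Quotient.mk p'))
  have hψ : ∀ x, ψ x = 0 → x ∈ p' := by
    intro x hx
    have h1 : (algebraMap (C' ⧸ p') K) (Ideal.Quotient.mk p' x) = 0 :=
      (algebraMap K k).injective (by rw [map_zero]; exact hx)
    have h2 : Ideal.Quotient.mk p' x = 0 :=
      (IsFractionRing.injective (C' ⧸ p') K) (by rw [map_zero]; exact h1)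
    exact Ideal.Quotient.eq_zero_iff_mem.mp h2
  let μ : C →+* k := ψ.comp (algebraMap C C')
  obtain ⟨χ, hχ⟩ := exists_extension_of_isIntegral (C := C) (A := A) (k := k) hinj μ
  letI : Algebra C k := μ.toAlgebra
  let χA : A →ₐ[C] k := { toRingHom := χ, commutes' := fun x => congr($hχ x) }
  let ψA : C' →ₐ[C] k := { toRingHom := ψ, commutes' := fun x => rfl }
  let F : A ⊗[C] C' →ₐ[C] k := Algebra.TensorProduct.productMap χA ψA
  have h1 : F ((Algebra.TensorProduct.includeRight : C' →ₐ[C] A ⊗[C] C') c) = ψ c := by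
    show F ((1 : A) ⊗ₜ[C] c) = ψ c
    rw [Algebra.TensorProduct.productMap_apply_tmul, map_one, one_mul]
    rfl
  rw [hc, map_zero] at h1
  exact hψ c h1.symm

end Nil

section Flat

variable {C A B C' : Type*} [CommRing C] [CommRing A] [CommRing B] [CommRing C']
  [Algebra C A] [Algebra C B] [Algebra C C']

theorem rTensor_linearMap_eq :
    (Algebra.linearMap C A).rTensor C' =
      (Algebra.TensorProduct.includeRight : C' →ₐ[C] A ⊗[C] C').toLinearMap ∘ₗ
        (TensorProduct.lid C C').toLinearMap := by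
  refine TensorProduct.ext' fun c c' => ?_
  simp only [LinearMap.rTensor_tmul, Algebra.linearMap_apply, LinearMap.comp_apply,
    LinearEquiv.coe_coe, TensorProduct.lid_tmul, AlgHom.toLinearMap_apply,
    Algebra.TensorProduct.includeRight_apply]
  rw [Algebra.algebraMap_eq_smul_one, TensorProduct.smul_tmul]

theorem flat_part [Module.Flat C C'] (σ' τ' : A →ₗ[C] B)
    (hex : ∀ a, σ' a = τ' a ↔ a ∈ Set.range (algebraMap C A))
    (hinj : Function.Injective (algebraMap C A))
    (sT tT : A ⊗[C] C' →ₗ[C] B ⊗[C] C')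
    (hsT : ∀ (a : A) (c : C'), sT (a ⊗ₜ c) = σ' a ⊗ₜ c)
    (htT : ∀ (a : A) (c : C'), tT (a ⊗ₜ c) = τ' a ⊗ₜ c) :
    Function.Injective (Algebra.TensorProduct.includeRight : C' →ₐ[C] A ⊗[C] C') ∧
      ∀ f : A ⊗[C] C', sT f = tT f →
        f ∈ Set.range (Algebra.TensorProduct.includeRight : C' →ₐ[C] A ⊗[C] C') := by
  let i : C →ₗ[C] A := Algebra.linearMap C A
  let d : A →ₗ[C] B := σ' - τ'
  have hexact : Function.Exact i d := by
    intro a
    show σ' a - τ' a = 0 ↔ _
    rw [sub_eq_zero, hex]
    rfl
  have hexact' := Module.Flat.rTensor_exact C' hexact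
  have hinj' : Function.Injective (i.rTensor C') :=
    Module.Flat.rTensor_preserves_injective_linearMap i hinj
  have hd : d.rTensor C' = sT - tT := by
    refine TensorProduct.ext' fun a c => ?_
    simp only [LinearMap.rTensor_tmul, LinearMap.sub_apply, hsT, htT, d, TensorProduct.sub_tmul]
  have hi := rTensor_linearMap_eq (C := C) (A := A) (C' := C')
  constructor
  · intro x y hxy
    have h1 : (i.rTensor C') ((TensorProduct.lid C C').symm x) =
        (i.rTensor C') ((TensorProduct.lid C C').symm y) := by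
      show (Algebra.linearMap C A).rTensor C' _ = (Algebra.linearMap C A).rTensor C' _
      rw [hi]
      simpa using hxy
    exact (TensorProduct.lid C C').symm.injective (hinj' h1)
  · intro f hf
    have h0 : (d.rTensor C') f = 0 := by
      rw [hd, LinearMap.sub_apply, hf, sub_self]
    obtain ⟨y, hy⟩ := (hexact' f).mp h0
    refine ⟨TensorProduct.lid C C' y, ?_⟩
    rw [← hy]
    show _ = (Algebra.linearMap C A).rTensor C' y
    rw [hi]
    rfl

end Flat

end Groth.Agent.Lib.Helper3.GQ
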