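import Mathlib
import Groth.Agent.Lib.Helper3.GQOrbit
import Groth.Agent.Lib.Helper3.GQPol

set_option autoImplicit false
universe u

namespace Groth.Agent.Lib.Helper3.GQ

open CategoryTheory CategoryTheory.Limits AlgebraicGeometry
open Groth.Agent.Lib.Helper4 Groth.Agent.Lib.Helper4.ProjCharpoly Groth.Agent.Lib.Helper4.ProjNorm

theorem exists_mat_of_isPushout {A B A' P : CommRingCat.{u}} (σ : A ⟶ B) (φ : A ⟶ A') (ψ : B ⟶ P)
    (ρ : A' ⟶ P) (h : IsPushout σ φ ψ ρ) {n : ℕ}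
    (D : letI := σ.hom.toAlgebra; DualBasis A B n) :
    ∃ D' : (letI := ρ.hom.toAlgebra; DualBasis A' P n), ∀ b : B,
      (letI := ρ.hom.toAlgebra; mat D' (ψ.hom b)) =
        (letI := σ.hom.toAlgebra; mat D b).map φ.hom := by
  letI := σ.hom.toAlgebra; letI := φ.hom.toAlgebra; letI := ρ.hom.toAlgebra
  letI := ψ.hom.toAlgebra
  letI := (ρ.hom.comp φ.hom).toAlgebra
  haveI : IsScalarTower A A' P := IsScalarTower.of_algebraMap_eq' rfl
  haveI : IsScalarTower A B P :=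
    IsScalarTower.of_algebraMap_eq fun x ↦ (congr($(h.w).hom x)).symm
  haveI : Algebra.IsPushout A B A' P := CommRingCat.isPushout_iff_isPushout.mp h
  haveI : Algebra.IsPushout A A' B P := Algebra.IsPushout.symm ‹_›
  exact exists_baseChange_mat (A := A) (B := B) (A' := A') (B' := P) D

variable {S : Scheme.{u}} (G : Grpd.GroupoidScheme S)
variable [IsAffine G.U] [IsAffine G.R]

/-- The coefficients of the polarized norm of `t♯ a` are invariant functions. -/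
theorem pnPoly_coeff_mem_invariants {n : ℕ}
    (D : letI := G.s.appTop.hom.toAlgebra; DualBasis Γ(G.U, ⊤) Γ(G.R, ⊤) n) {L : Type*}
    (sL : Finset L) (a : L → Γ(G.U, ⊤)) (m : L →₀ ℕ) :
    (letI := G.s.appTop.hom.toAlgebra;
      (pnPoly D sL (fun l => G.t.appTop.hom (a l))).coeff m) ∈ G.invariants := by
  letI alg := G.s.appTop.hom.toAlgebra
  have sq1 := isPushout_appTop_of_isPullback (IsPullback.of_hasPullback G.s G.t)
  have sq2 := isPushout_appTop_of_isPullback (GrpdInvariant.isPullback_c G)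
  obtain ⟨D1, hD1⟩ := exists_mat_of_isPushout _ _ _ _ sq1 D
  obtain ⟨D2, hD2⟩ := exists_mat_of_isPushout _ _ _ _ sq2 D
  have e3 : ∀ f, (pullback.fst G.s G.t).appTop.hom (G.t.appTop.hom f) =
      G.c.appTop.hom (G.t.appTop.hom f) := fun f => (InvBasis.app_eq (NormBC.c_t G) f).symm
  show G.s.appTop.hom ((pnPoly D sL (fun l => G.t.appTop.hom (a l))).coeff m) =
    G.t.appTop.hom ((pnPoly D sL (fun l => G.t.appTop.hom (a l))).coeff m)
  rw [← MvPolynomial.coeff_map, ← MvPolynomial.coeff_map, map_pnPoly, map_pnPoly]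
  congr 1
  letI := (pullback.snd G.s G.t).appTop.hom.toAlgebra
  rw [pn_baseChange D D2 G.s.appTop.hom G.c.appTop.hom hD2 (map_one _) MvPolynomial.C,
    pn_baseChange D D1 G.t.appTop.hom (pullback.fst G.s G.t).appTop.hom hD1 (map_one _)
      MvPolynomial.C]
  simp only [e3]
  exact pn_indep D2 D1 _ _ _ _

variable [IsFinite G.s] [Flat G.s] [LocallyOfFinitePresentation G.s]

/-- The polarized norm of `t♯ a` takes the same value at two ring maps to `k` agreeing on the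
invariants. -/
theorem pn_eq_of_eq_on_invariants {n : ℕ}
    (D : letI := G.s.appTop.hom.toAlgebra; DualBasis Γ(G.U, ⊤) Γ(G.R, ⊤) n) {L : Type*}
    (sL : Finset L) (a : L → Γ(G.U, ⊤)) {k : Type*} [CommRing k] (χ₀ χ₁ : Γ(G.U, ⊤) →+* k)
    (h : ∀ c ∈ G.invariants, χ₀ c = χ₁ c) (z : L → k) :
    (letI := G.s.appTop.hom.toAlgebra; pn D χ₀ sL (fun l => G.t.appTop.hom (a l)) z) =
      (letI := G.s.appTop.hom.toAlgebra; pn D χ₁ sL (fun l => G.t.appTop.hom (a l)) z) := by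
  letI alg := G.s.appTop.hom.toAlgebra
  rw [← eval₂Hom_pnPoly χ₀ z, ← eval₂Hom_pnPoly χ₁ z]
  exact eval₂Hom_congr_of_coeff χ₀ χ₁ _
    (fun m => h _ (pnPoly_coeff_mem_invariants G D sL a m)) z

/-- Vanishing of the polarized norm at `χ₀` when `∑ z_l χ₀(a_l) = 0` (witnessed by the unit
section). -/
theorem pn_eq_zero_of_sum_eq_zero {n : ℕ}
    (D : letI := G.s.appTop.hom.toAlgebra; DualBasis Γ(G.U, ⊤) Γ(G.R, ⊤) n) {L : Type*}
    (sL : Finset L) (a : L → Γ(G.U, ⊤)) {k : Type*} [Field k] [IsAlgClosed k]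
    (χ₀ : Γ(G.U, ⊤) →+* k) (z : L → k) (hz : ∑ l ∈ sL, z l * χ₀ (a l) = 0) :
    (letI := G.s.appTop.hom.toAlgebra; pn D χ₀ sL (fun l => G.t.appTop.hom (a l)) z) = 0 := by
  letI alg := G.s.appTop.hom.toAlgebra
  letI algk : Algebra Γ(G.U, ⊤) k := χ₀.toAlgebra
  haveI : Module.Finite Γ(G.U, ⊤) Γ(G.R, ⊤) := G.s.finite_app ⊤ (isAffineOpen_top _)
  have hes : ∀ x, G.e.appTop.hom (G.s.appTop.hom x) = x := InvBasis.app_eq_id G.e_s
  have het : ∀ x, G.e.appTop.hom (G.t.appTop.hom x) = x := InvBasis.app_eq_id G.e_t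
  let ρ₀ : Γ(G.R, ⊤) →ₐ[Γ(G.U, ⊤)] k :=
    { toRingHom := χ₀.comp G.e.appTop.hom
      commutes' := fun x => by
        show χ₀ (G.e.appTop.hom (G.s.appTop.hom x)) = χ₀ x
        rw [hes] }
  refine (pn_eq_zero_iff (k := k) D sL _ z).mpr ⟨ρ₀, ?_⟩
  have : ∀ l, ρ₀ (G.t.appTop.hom (a l)) = χ₀ (a l) := fun l => by
    show χ₀ (G.e.appTop.hom (G.t.appTop.hom (a l))) = χ₀ (a l)
    rw [het]
  simp only [this]
  exact hz

/-- Orbits on `k`-points: two ring maps `Γ(U) → k` agreeing on invariants are the `t`- and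
`s`-restrictions of a ring map `Γ(R) → k`. -/
theorem exists_hom_of_eq_on_invariants {k : Type*} [Field k] [IsAlgClosed k]
    (χ₀ χ₁ : Γ(G.U, ⊤) →+* k) (h : ∀ c ∈ G.invariants, χ₀ c = χ₁ c) :
    ∃ ρ : Γ(G.R, ⊤) →+* k, ρ.comp G.t.appTop.hom = χ₀ ∧ ρ.comp G.s.appTop.hom = χ₁ := by
  classical
  letI alg := G.s.appTop.hom.toAlgebra
  letI algk : Algebra Γ(G.U, ⊤) k := χ₁.toAlgebra
  haveI : Module.Finite Γ(G.U, ⊤) Γ(G.R, ⊤) := G.s.finite_app ⊤ (isAffineOpen_top _)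
  obtain ⟨n, ⟨D⟩⟩ := GrpdAffOpen.exists_dualBasis_of_finite_flat G.s
  -- key lemma
  have key : ∀ (sL : Finset Γ(G.U, ⊤)) (z : Γ(G.U, ⊤) → k),
      ∑ l ∈ sL, z l * χ₀ l = 0 →
      ∃ ρ : Γ(G.R, ⊤) →ₐ[Γ(G.U, ⊤)] k, ∑ l ∈ sL, z l * ρ (G.t.appTop.hom l) = 0 := by
    intro sL z hz
    have h0 := pn_eq_zero_of_sum_eq_zero G D sL (fun l => l) χ₀ z hz
    rw [pn_eq_of_eq_on_invariants G D sL (fun l => l) χ₀ χ₁ h z] at h0
    exact (pn_eq_zero_iff (k := k) D sL _ z).mp h0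
  by_contra hno
  have hno' : ∀ ρ : Γ(G.R, ⊤) →ₐ[Γ(G.U, ⊤)] k,
      (ρ : Γ(G.R, ⊤) →+* k).comp G.t.appTop.hom ≠ χ₀ := by
    intro ρ hρ
    refine hno ⟨ρ, hρ, ?_⟩
    ext x
    exact ρ.commutes x
  obtain ⟨ρs, -⟩ := key ∅ (fun _ => 0) (by simp)
  haveI : Fintype (Γ(G.R, ⊤) →ₐ[Γ(G.U, ⊤)] k) := Fintype.ofFinite _
  let T := MonoidAlgebra k Γ(G.U, ⊤)
  let ev : (Γ(G.U, ⊤) →+* k) → (T →ₐ[k] k) := fun χ =>
    MonoidAlgebra.lift k k Γ(G.U, ⊤) (χ : Γ(G.U, ⊤) →* k)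
  have hev : ∀ (χ : Γ(G.U, ⊤) →+* k) (f : T),
      ev χ f = ∑ l ∈ f.coeff.support, f.coeff l * χ l := by
    intro χ f
    show MonoidAlgebra.lift k k Γ(G.U, ⊤) (χ : Γ(G.U, ⊤) →* k) f = _
    rw [MonoidAlgebra.lift_apply]
    rfl
  let I₀ : Ideal T := RingHom.ker (ev χ₀)
  let F : (Γ(G.R, ⊤) →ₐ[Γ(G.U, ⊤)] k) → Ideal T := fun ρ =>
    RingHom.ker (ev ((ρ : Γ(G.R, ⊤) →+* k).comp G.t.appTop.hom))
  have hsub : ¬ ((I₀ : Set T) ⊆ ⋃ ρ ∈ ((Finset.univ : Finset (Γ(G.R, ⊤) →ₐ[Γ(G.U, ⊤)] k)) :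
      Set (Γ(G.R, ⊤) →ₐ[Γ(G.U, ⊤)] k)), (F ρ : Set T)) := by
    rw [Ideal.subset_union_prime ρs ρs (fun ρ _ _ _ => RingHom.ker_isPrime _)]
    rintro ⟨ρ, -, hρ⟩
    refine hno' ρ ?_
    ext x
    have hmem : (MonoidAlgebra.single x (1 : k) - MonoidAlgebra.single (1 : Γ(G.U, ⊤)) (χ₀ x) : T)
        ∈ I₀ := by
      show ev χ₀ _ = 0
      show MonoidAlgebra.lift k k Γ(G.U, ⊤) (χ₀ : Γ(G.U, ⊤) →* k) _ = 0
      rw [map_sub, MonoidAlgebra.lift_single, MonoidAlgebra.lift_single]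
      simp
    have := hρ hmem
    have h2 : MonoidAlgebra.lift k k Γ(G.U, ⊤)
        (((ρ : Γ(G.R, ⊤) →+* k).comp G.t.appTop.hom : Γ(G.U, ⊤) →+* k) : Γ(G.U, ⊤) →* k)
        (MonoidAlgebra.single x (1 : k) - MonoidAlgebra.single (1 : Γ(G.U, ⊤)) (χ₀ x)) = 0 := this
    rw [map_sub, MonoidAlgebra.lift_single, MonoidAlgebra.lift_single] at h2
    simp only [one_smul, smul_eq_mul] at h2
    have h3 : ((ρ : Γ(G.R, ⊤) →+* k).comp G.t.appTop.hom) x - χ₀ x * 1 = 0 := by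
      simpa using h2
    rw [mul_one, sub_eq_zero] at h3
    exact h3
  rw [Set.not_subset] at hsub
  obtain ⟨f, hf0, hf⟩ := hsub
  have hf0' : ev χ₀ f = 0 := hf0
  rw [hev] at hf0'
  obtain ⟨ρ, hρ⟩ := key f.coeff.support f.coeff hf0'
  refine hf ?_
  simp only [Set.mem_iUnion]
  refine ⟨ρ, Finset.mem_coe.mpr (Finset.mem_univ _), ?_⟩
  show ev _ f = 0
  rw [hev]
  exact hρ

end Groth.Agent.Lib.Helper3.GQ
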