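import Mathlib
import Groth.Agent.Lib.Helper3.GQPolInv
import Groth.Agent.Lib.Helper3.GQBCa
import Groth.Agent.Lib.Helper3.GQBCb

set_option autoImplicit false
universe u

namespace Groth.Agent.Lib.Helper3.GQ

open CategoryTheory CategoryTheory.Limits AlgebraicGeometry TensorProduct
open Groth.Agent.Lib.Helper4 Groth.Agent.Lib.Helper4.ProjCharpoly Groth.Agent.Lib.Helper4.ProjNorm

variable {S : Scheme.{u}} (G : Grpd.GroupoidScheme S) [IsAffine G.U] [IsAffine G.R]

/-- The polarized norm of `t♯ a` pushed along `θ ∘ s♯` and `θ ∘ t♯` agree. -/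
theorem pn_comp_s_eq_comp_t {n : ℕ}
    (D : letI := G.s.appTop.hom.toAlgebra; DualBasis Γ(G.U, ⊤) Γ(G.R, ⊤) n) {L : Type*}
    (sL : Finset L) (a : L → Γ(G.U, ⊤)) {P : Type*} [CommRing P] (θ : Γ(G.R, ⊤) →+* P)
    (z : L → P) :
    (letI := G.s.appTop.hom.toAlgebra;
      pn D (θ.comp G.s.appTop.hom) sL (fun l => G.t.appTop.hom (a l)) z) =
    (letI := G.s.appTop.hom.toAlgebra;
      pn D (θ.comp G.t.appTop.hom) sL (fun l => G.t.appTop.hom (a l)) z) := by
  letI alg := G.s.appTop.hom.toAlgebra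
  have sq1 := isPushout_appTop_of_isPullback (IsPullback.of_hasPullback G.s G.t)
  have sq2 := isPushout_appTop_of_isPullback (GrpdInvariant.isPullback_c G)
  obtain ⟨D1, hD1⟩ := exists_mat_of_isPushout _ _ _ _ sq1 D
  obtain ⟨D2, hD2⟩ := exists_mat_of_isPushout _ _ _ _ sq2 D
  have e3 : ∀ f, (pullback.fst G.s G.t).appTop.hom (G.t.appTop.hom f) =
      G.c.appTop.hom (G.t.appTop.hom f) := fun f => (InvBasis.app_eq (NormBC.c_t G) f).symm
  letI := (pullback.snd G.s G.t).appTop.hom.toAlgebra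
  rw [pn_baseChange D D2 G.s.appTop.hom G.c.appTop.hom hD2 (map_one _) θ,
    pn_baseChange D D1 G.t.appTop.hom (pullback.fst G.s G.t).appTop.hom hD1 (map_one _) θ]
  simp only [e3]
  exact pn_indep D2 D1 _ _ _ _

theorem rankPoly_coeff_mem_invariants {n : ℕ}
    (D : letI := G.s.appTop.hom.toAlgebra; DualBasis Γ(G.U, ⊤) Γ(G.R, ⊤) n) (r : ℕ) :
    (letI := G.s.appTop.hom.toAlgebra; (rankPoly (mat D 1)).coeff r) ∈ G.invariants := by
  letI alg := G.s.appTop.hom.toAlgebra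
  show G.s.appTop.hom ((rankPoly (mat D 1)).coeff r) = G.t.appTop.hom ((rankPoly (mat D 1)).coeff r)
  rw [← Polynomial.coeff_map, ← Polynomial.coeff_map]
  congr 1
  show (rankPoly (mat D 1)).eval₂ (Polynomial.C.comp G.s.appTop.hom) Polynomial.X =
    (rankPoly (mat D 1)).eval₂ (Polynomial.C.comp G.t.appTop.hom) Polynomial.X
  rw [eval₂_rankPoly, eval₂_rankPoly]
  have key : ∀ φ : Γ(G.U, ⊤) →+* Polynomial Γ(G.R, ⊤),
      (1 - (mat D 1).map φ + (Polynomial.X : Polynomial Γ(G.R, ⊤)) • (mat D 1).map φ).det =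
        pn D φ {()} (fun _ => G.t.appTop.hom 1) (fun _ => Polynomial.X) := by
    intro φ
    unfold pn polMat
    rw [Finset.sum_singleton, map_one]
  rw [key, key]
  exact pn_comp_s_eq_comp_t G D {()} (fun _ => 1) Polynomial.C _

variable [IsFinite G.s] [Flat G.s] [LocallyOfFinitePresentation G.s]

theorem main7487 (C' : Type u) [CommRing C'] [Algebra G.invariants C'] : letI : Algebra G.invariants Γ(G.R, ⊤) := (G.s.appTop.hom.comp G.invariants.subtype).toAlgebra; ∀ (sT tT : TensorProduct G.invariants Γ(G.U, ⊤) C' →ₐ[G.invariants] TensorProduct G.invariants Γ(G.R, ⊤) C'), (∀ (a : Γ(G.U, ⊤)) (c : C'), sT (a ⊗ₜ c) = G.s.appTop.hom a ⊗ₜ c) → (∀ (a : Γ(G.U, ⊤)) (c : C'), tT (a ⊗ₜ c) = G.t.appTop.hom a ⊗ₜ c) → (∀ f : TensorProduct G.invariants Γ(G.U, ⊤) C', sT f = tT f → ∃ (n : ℕ) (P : Polynomial C'), 0 < n ∧ Polynomial.map (Algebra.TensorProduct.includeRight : C' →ₐ[G.invariants] TensorProduct G.invariants Γ(G.U, ⊤) C').toRingHom P = (Polynomial.X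 - Polynomial.C f) ^ n) ∧ (∀ c : C', (Algebra.TensorProduct.includeRight : C' →ₐ[G.invariants] TensorProduct G.invariants Γ(G.U, ⊤) C') c = 0 → IsNilpotent c) ∧ (Module.Flat G.invariants C' → Function.Injective (Algebra.TensorProduct.includeRight : C' →ₐ[G.invariants] TensorProduct G.invariants Γ(G.U, ⊤) C') ∧ ∀ f : TensorProduct G.invariants Γ(G.U, ⊤) C', sT f = tT f → f ∈ Set.range (Algebra.TensorProduct.includeRight : C' →ₐ[G.invariants] TensorProduct G.invariants Γ(G.U, ⊤) C')) := by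
  letI algCB : Algebra G.invariants Γ(G.R, ⊤) :=
    (G.s.appTop.hom.comp G.invariants.subtype).toAlgebra
  letI alg : Algebra Γ(G.U, ⊤) Γ(G.R, ⊤) := G.s.appTop.hom.toAlgebra
  haveI : IsScalarTower G.invariants Γ(G.U, ⊤) Γ(G.R, ⊤) :=
    IsScalarTower.of_algebraMap_eq fun _ => rfl
  intro sT tT hsT htT
  obtain ⟨n, ⟨D⟩⟩ := GrpdAffOpen.exists_dualBasis_of_finite_flat G.s
  have hrange : ∀ a : Γ(G.U, ⊤), a ∈ G.invariants →
      a ∈ Set.range (algebraMap G.invariants Γ(G.U, ⊤)) := fun a ha => ⟨⟨a, ha⟩, rfl⟩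
  refine ⟨?_, ?_, ?_⟩
  · intro f hf
    refine exists_poly_of_invariant D G.t.appTop.hom (map_one _)
      (fun r => hrange _ (rankPoly_coeff_mem_invariants G D r))
      (fun S m => hrange _ (pnPoly_coeff_mem_invariants G D _ _ m)) ?_ sT tT hsT htT f hf
    exact det_one_sub_mat_one D G.e.appTop.hom (InvBasis.app_eq_id G.e_s)
  · intro c hc
    haveI : Algebra.IsIntegral G.invariants Γ(G.U, ⊤) := GrpdIntegral.main S G
    exact isNilpotent_of_includeRight_eq_zero Subtype.val_injective c hc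
  · intro hflat
    let σ' : Γ(G.U, ⊤) →ₗ[G.invariants] Γ(G.R, ⊤) :=
      { toFun := G.s.appTop.hom
        map_add' := map_add _
        map_smul' := fun c a => by
          show G.s.appTop.hom ((c : Γ(G.U, ⊤)) * a) = G.s.appTop.hom (c : Γ(G.U, ⊤)) * _
          rw [map_mul] }
    let τ' : Γ(G.U, ⊤) →ₗ[G.invariants] Γ(G.R, ⊤) :=
      { toFun := G.t.appTop.hom
        map_add' := map_add _
        map_smul' := fun c a => by
          show G.t.appTop.hom ((c : Γ(G.U, ⊤)) * a) = G.s.appTop.hom (c : Γ(G.U, ⊤)) * _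
          rw [map_mul]
          have : G.s.appTop.hom (c : Γ(G.U, ⊤)) = G.t.appTop.hom (c : Γ(G.U, ⊤)) := c.2
          rw [this] }
    refine flat_part σ' τ' (fun a => ?_) Subtype.val_injective sT.toLinearMap tT.toLinearMap
      hsT htT
    constructor
    · intro h
      exact hrange a h
    · rintro ⟨c, rfl⟩
      exact c.2

end Groth.Agent.Lib.Helper3.GQ
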