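import Mathlib
import Groth.Agent.Lib.Helper3.GQPolInv
import Groth.Agent.Lib.Helper3.GQExt

set_option autoImplicit false
universe u

namespace Groth.Agent.Lib.Helper3.GQ

open CategoryTheory CategoryTheory.Limits AlgebraicGeometry
open Groth.Agent.Lib.Helper4

section KPoints

variable (K : CommRingCat.{u})

/-- The ring map attached to a `K`-point. -/
noncomputable def toHom {X : Scheme.{u}} (x : Spec K ⟶ X) : Γ(X, ⊤) ⟶ K :=
  x.appTop ≫ (Scheme.ΓSpecIso K).hom

/-- The `K`-point of an affine scheme attached to a ring map. -/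
noncomputable def ofHom {X : Scheme.{u}} [IsAffine X] (φ : Γ(X, ⊤) ⟶ K) : Spec K ⟶ X :=
  Spec.map φ ≫ X.isoSpec.inv

theorem comp_toSpecΓ {X : Scheme.{u}} (x : Spec K ⟶ X) :
    x ≫ X.toSpecΓ = Spec.map (toHom K x) := by
  rw [Scheme.toSpecΓ_naturality, ← SpecMap_ΓSpecIso_hom, ← Spec.map_comp]
  rfl

theorem toHom_comp {X Y : Scheme.{u}} (x : Spec K ⟶ X) (f : X ⟶ Y) :
    toHom K (x ≫ f) = f.appTop ≫ toHom K x := by
  unfold toHom
  rw [Scheme.Hom.comp_appTop, Category.assoc]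

theorem toHom_injective {X : Scheme.{u}} [IsAffine X] :
    Function.Injective (toHom K (X := X)) := by
  intro x y h
  have hx := comp_toSpecΓ K x
  have hy := comp_toSpecΓ K y
  rw [h] at hx
  have h2 : x ≫ X.toSpecΓ = y ≫ X.toSpecΓ := hx.trans hy.symm
  haveI : IsIso X.toSpecΓ := inferInstance
  exact (cancel_mono X.toSpecΓ).mp h2

theorem toHom_ofHom {X : Scheme.{u}} [IsAffine X] (φ : Γ(X, ⊤) ⟶ K) :
    toHom K (ofHom K φ) = φ := by
  have h1 := comp_toSpecΓ K (ofHom K φ)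
  unfold ofHom at h1
  rw [Category.assoc, Scheme.isoSpec_inv_toSpecΓ, Category.comp_id] at h1
  exact (Spec.map_injective h1).symm

end KPoints

variable {S : Scheme.{u}} (G : Grpd.GroupoidScheme S)

theorem comp_toQuot (K : CommRingCat.{u}) (x : Spec K ⟶ G.U) :
    x ≫ G.toQuot = Spec.map (CommRingCat.ofHom G.invariants.subtype ≫ toHom K x) := by
  unfold Grpd.GroupoidScheme.toQuot
  rw [← Category.assoc, comp_toSpecΓ, ← Spec.map_comp]

variable [IsAffine G.U] [IsAffine G.R]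
  [IsFinite G.s] [Flat G.s] [LocallyOfFinitePresentation G.s]

theorem surjective_toQuot' : Function.Surjective G.toQuot := by
  haveI := isIntegralHom_toQuot G
  intro x
  have hint : Algebra.IsIntegral G.invariants Γ(G.U, ⊤) := GrpdIntegral.main S G
  obtain ⟨Q, -, hQ, hQc⟩ := Ideal.exists_ideal_over_prime_of_isIntegral x.asIdeal
    (⊥ : Ideal Γ(G.U, ⊤)) (by
      intro c hc
      have h0 : (c : Γ(G.U, ⊤)) = 0 := hc
      have : c = 0 := Subtype.ext h0
      rw [this]; exact Ideal.zero_mem _)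
  haveI : IsIso G.U.toSpecΓ := inferInstance
  obtain ⟨u, hu⟩ := (G.U.toSpecΓ.homeomorph).surjective ⟨Q, hQ⟩
  refine ⟨u, ?_⟩
  unfold Grpd.GroupoidScheme.toQuot
  rw [Scheme.Hom.comp_apply]
  have hu' : G.U.toSpecΓ u = ⟨Q, hQ⟩ := hu
  rw [hu']
  exact PrimeSpectrum.ext hQc

theorem main1878 :
    (Function.Surjective G.toQuot ∧ ∀ u₀ u₁ : G.U, G.toQuot u₀ = G.toQuot u₁ ↔
        ∃ r : G.R, G.t r = u₀ ∧ G.s r = u₁) ∧
    ∀ (k : Type u) [Field k] [IsAlgClosed k],
      (∀ m : Spec (CommRingCat.of k) ⟶ Spec (CommRingCat.of G.invariants),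
        ∃ x : Spec (CommRingCat.of k) ⟶ G.U, x ≫ G.toQuot = m) ∧
      ∀ x₀ x₁ : Spec (CommRingCat.of k) ⟶ G.U, x₀ ≫ G.toQuot = x₁ ≫ G.toQuot ↔
        ∃ r : Spec (CommRingCat.of k) ⟶ G.R, r ≫ G.t = x₀ ∧ r ≫ G.s = x₁ := by
  refine ⟨⟨surjective_toQuot' G, fun u₀ u₁ => ⟨exists_of_toQuot_eq G u₀ u₁, ?_⟩⟩, ?_⟩
  · rintro ⟨r, rfl, rfl⟩
    exact toQuot_t_eq G r
  · intro k _ _
    refine ⟨fun m => ?_, fun x₀ x₁ => ⟨fun h => ?_, ?_⟩⟩
    · have hint : Algebra.IsIntegral G.invariants Γ(G.U, ⊤) := GrpdIntegral.main S G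
      obtain ⟨χ, hχ⟩ := exists_extension_of_isIntegral (C := G.invariants) (A := Γ(G.U, ⊤))
        (k := k) Subtype.val_injective (Spec.preimage m).hom
      refine ⟨ofHom (CommRingCat.of k) (CommRingCat.ofHom χ), ?_⟩
      rw [comp_toQuot, toHom_ofHom]
      have : CommRingCat.ofHom G.invariants.subtype ≫ CommRingCat.ofHom χ = Spec.preimage m := by
        ext c
        exact congr($hχ c)
      rw [this, Spec.map_preimage]
    · rw [comp_toQuot, comp_toQuot] at h
      have h' := Spec.map_injective h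
      obtain ⟨ρ, hρt, hρs⟩ := exists_hom_of_eq_on_invariants G
        (toHom (CommRingCat.of k) x₀).hom (toHom (CommRingCat.of k) x₁).hom
        (fun c hc => congr($h' ⟨c, hc⟩))
      refine ⟨ofHom (CommRingCat.of k) (CommRingCat.ofHom ρ), ?_, ?_⟩
      · apply toHom_injective
        rw [toHom_comp, toHom_ofHom]
        ext a
        exact congr($hρt a)
      · apply toHom_injective
        rw [toHom_comp, toHom_ofHom]
        ext a
        exact congr($hρs a)
    · rintro ⟨r, rfl, rfl⟩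
      rw [Category.assoc, Category.assoc, t_toQuot]

end Groth.Agent.Lib.Helper3.GQ
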