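import Groth.Agent.Lib.lead.GenFiniteSep
import Groth.Agent.Lib.lead.GenFiniteGen

set_option autoImplicit false
universe u

namespace Groth.Agent.Lib.Helper3.GenDense

open CategoryTheory CategoryTheory.Limits AlgebraicGeometry Topology TopologicalSpace

/-- Every point of a scheme has a maximal generization. -/
theorem exists_maximal_generization (A : Scheme.{u}) (a : A) :
    ∃ η : A, η ⤳ a ∧ ∀ a' : A, a' ⤳ η → a' = η := by
  have hZ := irreducibleComponent_mem_irreducibleComponents a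
  obtain ⟨η, hη⟩ := QuasiSober.sober hZ.1 isClosed_irreducibleComponent
  have hηS : closure {η} ∈ irreducibleComponents (A : Type u) := by
    rw [hη.def]; exact hZ
  refine ⟨η, ?_, Groth.Agent.Lib.lead.GenFiniteGen.maximal_of_mem_irreducibleComponents hηS⟩
  rw [specializes_iff_mem_closure, hη.def]
  exact mem_irreducibleComponent

/-- **Generic finiteness, separated case without quasi-compactness**: a separated morphism
locally of finite type to an affine scheme whose fibre over a maximal point `v` is finite and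
consists of points where the morphism is quasi-finite, and whose maximal points all map into
a finite set `B₀ ∪ {v}`, is finite over a neighbourhood of `v`. -/
theorem exists_open_finite_of_separated {A B : Scheme.{u}} [IsAffine B] (g : A ⟶ B)
    [LocallyOfFiniteType g] [IsSeparated g] (v : B) (hv : ∀ y : B, y ⤳ v → y = v)
    (hfib : (g ⁻¹' {v}).Finite) (hq : ∀ a : A, g a = v → g.QuasiFiniteAt a)
    (B₀ : Set B) (hB₀ : B₀.Finite) (hvB₀ : v ∉ B₀)
    (hmax : ∀ a : A, (∀ a' : A, a' ⤳ a → a' = a) → g a ∈ B₀ ∨ g a = v) :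
    ∃ O : B.Opens, v ∈ O ∧ IsFinite (g ∣_ O) := by
  classical
  -- a quasi-compact open containing the fibre
  have hN : ∀ a : A, ∃ N : A.Opens, IsAffineOpen N ∧ a ∈ N := fun a => by
    obtain ⟨_, ⟨N, hN, rfl⟩, haN, -⟩ := A.isBasis_affineOpens.exists_subset_of_mem_open
      (Set.mem_univ a) isOpen_univ
    exact ⟨N, hN, haN⟩
  choose N hNa haN using hN
  let A' : A.Opens := ⨆ a ∈ hfib.toFinset, N a
  have hfibA' : ∀ a : A, g a = v → a ∈ A' := by
    intro a ha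
    refine Opens.mem_iSup.2 ⟨a, Opens.mem_iSup.2 ⟨?_, haN a⟩⟩
    rw [Set.Finite.mem_toFinset]
    exact ha
  have hA'c : CompactSpace ↥A' := by
    refine isCompact_iff_compactSpace.1 ?_
    have : (A' : Set A) = ⋃ a ∈ hfib.toFinset, (N a : Set A) := by
      simp only [A', Opens.coe_iSup]
    rw [this]
    exact hfib.toFinset.finite_toSet.isCompact_biUnion fun a _ => (hNa a).isCompact
  let g' : (A' : Scheme.{u}) ⟶ B := A'.ι ≫ g
  have hg'qc : QuasiCompact g' := (HasAffineProperty.iff_of_isAffine (P := @QuasiCompact)).2 hA'c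
  have hq' : ∀ x : ↥A', g' x = v → g'.QuasiFiniteAt x := by
    intro x hx
    rw [Scheme.Hom.quasiFiniteAt_comp_iff_of_isOpenImmersion]
    exact hq _ hx
  obtain ⟨O₁, hvO₁, hO₁⟩ := Groth.Agent.Lib.lead.GenFiniteSep.main g' v hv hq'
  -- remove the closures of the other maximal points
  have hcl : IsClosed (⋃ b ∈ B₀, closure ({b} : Set B)) :=
    hB₀.isClosed_biUnion fun b _ => isClosed_closure
  let O : B.Opens := O₁ ⊓ ⟨(⋃ b ∈ B₀, closure ({b} : Set B))ᶜ, hcl.isOpen_compl⟩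
  have hvO : v ∈ O := by
    refine ⟨hvO₁, ?_⟩
    intro hmem
    simp only [Set.mem_iUnion] at hmem
    obtain ⟨b, hb, hvb⟩ := hmem
    have : b ⤳ v := specializes_iff_mem_closure.2 hvb
    exact hvB₀ (hv b this ▸ hb)
  refine ⟨O, hvO, ?_⟩
  -- properness of the inclusion over `O₁`
  have hcomp : g' ∣_ O₁ = A'.ι ∣_ g ⁻¹ᵁ O₁ ≫ g ∣_ O₁ := morphismRestrict_comp _ _ _
  have hprop : IsProper (A'.ι ∣_ g ⁻¹ᵁ O₁) := by
    have h1 : IsProper (A'.ι ∣_ g ⁻¹ᵁ O₁ ≫ g ∣_ O₁) := by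
      rw [← hcomp]
      exact ((IsFinite.iff_isProper_and_isAffineHom (f := g' ∣_ O₁)).1 hO₁).1
    exact IsProper.of_comp _ (g ∣_ O₁)
  have hclosed : IsClosed (Set.range (A'.ι ∣_ g ⁻¹ᵁ O₁)) :=
    (A'.ι ∣_ g ⁻¹ᵁ O₁).isClosedMap.isClosed_range
  have hsub : g ⁻¹ᵁ O ≤ A' := by
    intro a ha
    by_contra hna
    obtain ⟨η, hηa, hηmax⟩ := exists_maximal_generization A a
    have hηO : η ∈ g ⁻¹ᵁ O := hηa.mem_open (g ⁻¹ᵁ O).isOpen ha
    have hηA' : η ∉ A' := by
      intro hη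
      -- `η` lies in the closed range, hence so does `a`
      have haO₁ : a ∈ g ⁻¹ᵁ O₁ := ha.1
      have hηO₁ : η ∈ g ⁻¹ᵁ O₁ := hηO.1
      let a₁ : ↥(g ⁻¹ᵁ O₁) := ⟨a, haO₁⟩
      let η₁ : ↥(g ⁻¹ᵁ O₁) := ⟨η, hηO₁⟩
      have hspec : η₁ ⤳ a₁ := (subtype_specializes_iff η₁ a₁).2 hηa
      have hηr : η₁ ∈ Set.range (A'.ι ∣_ g ⁻¹ᵁ O₁) := by
        have hx : (⟨η, hη⟩ : ↥A') ∈ A'.ι ⁻¹ᵁ (g ⁻¹ᵁ O₁) := hηO₁
        refine ⟨⟨⟨η, hη⟩, hx⟩, ?_⟩
        apply Subtype.ext
        have := congrArg (fun k => k ⟨⟨η, hη⟩, hx⟩) (congrArg (fun k => k.base)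
          (morphismRestrict_ι A'.ι (g ⁻¹ᵁ O₁)))
        exact this
      have har : a₁ ∈ Set.range (A'.ι ∣_ g ⁻¹ᵁ O₁) :=
        hclosed.closure_subset (hspec.mem_closure |> fun h => closure_mono
          (Set.singleton_subset_iff.2 hηr) h)
      obtain ⟨x, hx⟩ := har
      apply hna
      have := congrArg (fun k => k x) (congrArg (fun k => k.base)
        (morphismRestrict_ι A'.ι (g ⁻¹ᵁ O₁)))
      have h2 : ((A'.ι ∣_ g ⁻¹ᵁ O₁) x).1 = (x.1).1 := this
      rw [hx] at h2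
      change a = (x.1).1 at h2
      rw [h2]
      exact (x.1).2
    rcases hmax η hηmax with h | h
    · have : g η ∈ (⋃ b ∈ B₀, closure ({b} : Set B)) :=
        Set.mem_biUnion h (subset_closure rfl)
      exact hηO.2 this
    · exact hηA' (hfibA' η h)
  -- conclusion
  have hfin : IsFinite (g' ∣_ O) :=
    Groth.Agent.Lib.lead.GenFiniteSep.isFinite_morphismRestrict_of_le g' inf_le_left hO₁
  have hcomp' : g' ∣_ O = A'.ι ∣_ g ⁻¹ᵁ O ≫ g ∣_ O := morphismRestrict_comp _ _ _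
  have hiso : IsIso (A'.ι ∣_ g ⁻¹ᵁ O) := by
    rw [isIso_iff_isOpenImmersion_and_surjective]
    refine ⟨inferInstance, ⟨fun x => ?_⟩⟩
    have hx : x.1 ∈ A' := hsub x.2
    have hx' : (⟨x.1, hx⟩ : ↥A') ∈ A'.ι ⁻¹ᵁ (g ⁻¹ᵁ O) := x.2
    refine ⟨⟨⟨x.1, hx⟩, hx'⟩, ?_⟩
    apply Subtype.ext
    have := congrArg (fun k => k ⟨⟨x.1, hx⟩, hx'⟩) (congrArg (fun k => k.base)
      (morphismRestrict_ι A'.ι (g ⁻¹ᵁ O)))
    exact this
  rw [hcomp'] at hfin
  have : MorphismProperty.RespectsIso @IsFinite.{u} :=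
    MorphismProperty.IsStableUnderBaseChange.respectsIso
  exact (MorphismProperty.cancel_left_of_respectsIso @IsFinite (A'.ι ∣_ g ⁻¹ᵁ O) (g ∣_ O)).1 hfin

end Groth.Agent.Lib.Helper3.GenDense
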