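import Groth.Agent.Lib.Helper3.GenDense9
import Groth.Agent.Lib.Helper3.AlgSpRepLocal2

set_option autoImplicit false
universe u w

namespace Groth.Agent.Lib.Helper3.GenDense

open CategoryTheory CategoryTheory.Limits AlgebraicGeometry Opposite AlgSp
open Groth.Agent.Lib.Helper3 Groth.Agent.Lib.Helper3.RelNorm Groth.Agent.Lib.Helper3.GenFinSp

variable {S : Scheme.{u}}

/-- Finiteness over each member of a family of open subspaces implies finiteness over the union. -/
theorem isFiniteMor_over_iUnion {X Y : Sp S} (f : X ⟶ Y) {ι : Type u} (Ω : ι → Set (Points Y))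
    (hΩ : ∀ i, IsOpen (Ω i)) (h : ∀ i, IsFiniteMor (pullback.fst (openSubι Y (Ω i)) f)) :
    IsFiniteMor (pullback.fst (openSubι Y (⋃ i, Ω i)) f) := by
  have hΩt : IsOpen (⋃ i, Ω i) := isOpen_iUnion hΩ
  generalize hΩt_def : (⋃ i, Ω i) = Ωt at hΩt ⊢
  have hsub : ∀ i, Ω i ⊆ Ωt := fun i => by rw [← hΩt_def]; exact Set.subset_iUnion _ i
  have hjt : RepWith @IsOpenImmersion (openSubι Y Ωt) := repWith_isOpenImmersion_openSubι Y Ωt hΩt
  have hmono : Mono (openSubι Y Ωt) := mono_of_repWith_isOpenImmersion _ hjt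
  have hji : ∀ i, RepWith @IsOpenImmersion (openSubι Y (Ω i)) := fun i =>
    repWith_isOpenImmersion_openSubι Y (Ω i) (hΩ i)
  have hfac : ∀ i, ∃ a : openSub Y (Ω i) ⟶ openSub Y Ωt, a ≫ openSubι Y Ωt = openSubι Y (Ω i) :=
    fun i => exists_factor_of_range_subset (openSubι Y Ωt) hjt (openSubι Y (Ω i)) (by
      rw [range_map_openSubι, range_map_openSubι]; exact hsub i)
  choose a ha using hfac
  have hao : ∀ i, RepWith @IsOpenImmersion (a i) := by
    intro i
    have s1 : IsPullback (a i) (𝟙 _) (𝟙 _) (a i) := IsPullback.id_vert (a i)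
    have s2 : IsPullback (𝟙 (openSub Y Ωt)) (𝟙 _) (openSubι Y Ωt) (openSubι Y Ωt) :=
      IsKernelPair.id_of_mono _
    have s3 := s1.paste_horiz s2
    rw [Category.comp_id, ha i] at s3
    exact MorphismProperty.of_isPullback s3.flip (hji i)
  have hsurj : ∀ x : Points (openSub Y Ωt), ∃ i, x ∈ Set.range (Points.map (a i)) := by
    intro x
    have hx : Points.map (openSubι Y Ωt) x ∈ Ωt := by
      have : Points.map (openSubι Y Ωt) x ∈ Set.range (Points.map (openSubι Y Ωt)) := ⟨x, rfl⟩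
      rwa [range_map_openSubι] at this
    have hx' : Points.map (openSubι Y Ωt) x ∈ ⋃ i, Ω i := hΩt_def ▸ hx
    obtain ⟨i, hi⟩ := Set.mem_iUnion.1 hx'
    rw [← range_map_openSubι Y (Ω i)] at hi
    obtain ⟨z, hz⟩ := hi
    refine ⟨i, z, ?_⟩
    apply Points.map_injective_of_mono (openSubι Y Ωt)
    rw [← Points.map_comp, ha i]
    exact hz
  let f' := pullback.fst (openSubι Y Ωt) f
  let p : ∀ i, pullback (openSubι Y (Ω i)) f ⟶ pullback (openSubι Y Ωt) f := fun i =>
    pullback.lift (pullback.fst (openSubι Y (Ω i)) f ≫ a i) (pullback.snd (openSubι Y (Ω i)) f) (by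
      rw [Category.assoc, ha i, pullback.condition])
  have sq : ∀ i, IsPullback (p i) (pullback.fst (openSubι Y (Ω i)) f) f' (a i) := by
    intro i
    have t : IsPullback f' (pullback.snd (openSubι Y Ωt) f) (openSubι Y Ωt) f :=
      IsPullback.of_hasPullback _ _
    have s : IsPullback (pullback.fst (openSubι Y (Ω i)) f)
        (p i ≫ pullback.snd (openSubι Y Ωt) f) (a i ≫ openSubι Y Ωt) f := by
      rw [pullback.lift_snd, ha i]
      exact IsPullback.of_hasPullback _ _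
    exact (IsPullback.of_bot s (by rw [pullback.lift_fst]) t).flip
  rw [isFiniteMor_iff_repWith]
  exact repWith_of_zarCover @IsFinite f' (fun i => openSub Y (Ω i)) a ⟨hao, hsurj⟩
    (fun i => pullback (openSubι Y (Ω i)) f) p (fun i => pullback.fst (openSubι Y (Ω i)) f) sq
    (fun i => (isFiniteMor_iff_repWith _).1 (h i))

/-- The codimension 0 points of an algebraic space are dense. -/
theorem dense_of_codimZero_subset {Z : Sp S} (hZ : IsAlgSpace Z) (Ω : Set (Points Z))
    (hΩ : IsOpen Ω) (h : ∀ z : Points Z, HasAt D0 Z z → z ∈ Ω) : Dense Ω := by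
  rw [dense_iff_inter_open]
  intro U hU ⟨z, hz⟩
  obtain ⟨z₀, hz₀, hz₀d⟩ := exists_codimZero_generization hZ z
  exact ⟨z₀, hz₀.mem_open hU hz, h z₀ hz₀d⟩

/-- **Dense open finiteness.** -/
theorem main10400 {X Y : AlgSp.Space S} (f : X ⟶ Y)
    (hf : AlgSp.LocP @LocallyOfFiniteType f.hom) (hY : AlgSp.IsDecent Y.obj)
    (hX0 : {x : AlgSp.Points X.obj | AlgSp.HasAt D0 X.obj x}.Finite)
    (hY0 : {y : AlgSp.Points Y.obj | AlgSp.HasAt D0 Y.obj y}.Finite)
    (hpre : ∀ x : AlgSp.Points X.obj, AlgSp.HasAt D0 X.obj x ↔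
      AlgSp.HasAt D0 Y.obj (AlgSp.Points.map f.hom x))
    (hqs : AlgSp.IsQuasiCompactMor f.hom ∨ AlgSp.IsSeparatedMor f.hom) :
    ∃ (V X' : AlgSp.Space S) (j : V ⟶ Y) (fst : X' ⟶ V) (snd : X' ⟶ X),
      AlgSp.RepWith @IsOpenImmersion j.hom ∧
      Dense (Set.range (AlgSp.Points.map j.hom)) ∧ IsPullback fst.hom snd.hom j.hom f.hom ∧
      AlgSp.IsFiniteMor fst.hom := by
  obtain ⟨n, e, he⟩ := hY0.fin_embedding
  have hloc : ∀ i : ULift.{u} (Fin n), ∃ Ω : Set (Points Y.obj), IsOpen Ω ∧ e i.down ∈ Ω ∧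
      IsFiniteMor (pullback.fst (openSubι Y.obj Ω) f.hom) := by
    intro i
    have hy : HasAt D0 Y.obj (e i.down) := by
      have : e i.down ∈ Set.range e := ⟨_, rfl⟩
      rw [he] at this
      exact this
    exact exists_open_finite_at f hf hY hX0 hY0 hpre hqs (e i.down) hy
  choose Ω hΩo hΩm hΩf using hloc
  have hfin := isFiniteMor_over_iUnion f.hom Ω hΩo hΩf
  have hΩt : IsOpen (⋃ i, Ω i) := isOpen_iUnion hΩo
  have hdense : Dense (⋃ i, Ω i) := by
    refine dense_of_codimZero_subset Y.property _ hΩt ?_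
    intro z hz
    have : z ∈ Set.range e := by rw [he]; exact hz
    obtain ⟨k, rfl⟩ := this
    exact Set.mem_iUnion.2 ⟨⟨k⟩, hΩm ⟨k⟩⟩
  generalize (⋃ i, Ω i) = Ωt at hfin hΩt hdense
  have hj : RepWith @IsOpenImmersion (openSubι Y.obj Ωt) :=
    repWith_isOpenImmersion_openSubι Y.obj Ωt hΩt
  have hY' : IsAlgSpace (openSub Y.obj Ωt) := isAlgSpace_openSub Y.property Ωt hΩt
  have sqX : IsPullback (pullback.fst (openSubι Y.obj Ωt) f.hom)
      (pullback.snd (openSubι Y.obj Ωt) f.hom) (openSubι Y.obj Ωt) f.hom :=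
    IsPullback.of_hasPullback _ _
  have hX' : IsAlgSpace (pullback (openSubι Y.obj Ωt) f.hom) :=
    isAlgSpace_of_isPullback' Y.property hY' X.property sqX
  refine ⟨⟨openSub Y.obj Ωt, hY'⟩, ⟨pullback (openSubι Y.obj Ωt) f.hom, hX'⟩,
    ObjectProperty.homMk (openSubι Y.obj Ωt),
    ObjectProperty.homMk (pullback.fst _ _), ObjectProperty.homMk (pullback.snd _ _), hj, ?_, sqX,
    hfin⟩
  change Dense (Set.range (Points.map (openSubι Y.obj Ωt)))
  rw [range_map_openSubι]
  exact hdense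

end Groth.Agent.Lib.Helper3.GenDense
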