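import Groth.Agent.Lib.Helper3.GenDense1

set_option autoImplicit false
universe u

namespace Groth.Agent.Lib.Helper3.GenDense

open CategoryTheory CategoryTheory.Limits AlgebraicGeometry Topology TopologicalSpace

/-- If the fibre of `h` over `v` is finite and `h` is quasi-finite at its points, then the fibre
of `U ×_V U ⟶ V` over `v` is finite. -/
theorem finite_fibre_pullback {U V : Scheme.{u}} [IsAffine V] (h : U ⟶ V)
    [LocallyOfFiniteType h] (v : V) (hfib : (h ⁻¹' {v}).Finite)
    (hq : ∀ u : U, h u = v → h.QuasiFiniteAt u) :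
    ((pullback.snd h h ≫ h) ⁻¹' {v}).Finite := by
  classical
  have hN : ∀ u : {u : U // h u = v}, ∃ N : U.Opens, IsAffineOpen N ∧ u.1 ∈ N ∧
      N ≤ h.quasiFiniteLocus := fun u => by
    obtain ⟨_, ⟨N, hN, rfl⟩, huN, hle⟩ := U.isBasis_affineOpens.exists_subset_of_mem_open
      (show u.1 ∈ (h.quasiFiniteLocus : Set U) from hq u.1 u.2) h.quasiFiniteLocus.isOpen
    exact ⟨N, hN, huN, hle⟩
  choose N hNa huN hNle using hN
  have hfin' : Finite {u : U // h u = v} := hfib.to_subtype
  let N' : U.Opens := ⨆ u : {u : U // h u = v}, N u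
  have hN'le : N' ≤ h.quasiFiniteLocus := iSup_le hNle
  have hfibN' : ∀ u : U, h u = v → u ∈ N' := fun u hu =>
    Opens.mem_iSup.2 ⟨⟨u, hu⟩, huN ⟨u, hu⟩⟩
  have hN'c : CompactSpace ↥N' := by
    refine isCompact_iff_compactSpace.1 ?_
    have : (N' : Set U) = ⋃ u : {u : U // h u = v}, (N u : Set U) := by
      simp only [N', Opens.coe_iSup]
    rw [this]
    exact isCompact_iUnion fun u => (hNa u).isCompact
  let g : (N' : Scheme.{u}) ⟶ V := N'.ι ≫ h
  have hgq : LocallyQuasiFinite g := by
    have : g = U.homOfLE hN'le ≫ (h.quasiFiniteLocus.ι ≫ h) := by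
      rw [← Category.assoc, Scheme.homOfLE_ι]
    rw [this]
    infer_instance
  have hgc : QuasiCompact g := (HasAffineProperty.iff_of_isAffine (P := @QuasiCompact)).2 hN'c
  have hfinG : ((pullback.snd g g ≫ g) ⁻¹' {v}).Finite :=
    Scheme.Hom.finite_preimage_singleton (pullback.snd g g ≫ g) v
  let j : pullback g g ⟶ pullback h h := pullback.map g g h h N'.ι N'.ι (𝟙 V)
    (by simp [g]) (by simp [g])
  refine (hfinG.image j).subset ?_
  intro w hw
  have hw2 : h (pullback.snd h h w) = v := hw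
  have hw1 : h (pullback.fst h h w) = v := by
    rw [← Scheme.Hom.comp_apply, pullback.condition]
    exact hw
  have hr : w ∈ Set.range j := by
    rw [Scheme.Pullback.range_map]
    refine ⟨?_, ?_⟩
    · change pullback.fst h h w ∈ Set.range N'.ι
      rw [Scheme.Opens.range_ι]
      exact hfibN' _ hw1
    · change pullback.snd h h w ∈ Set.range N'.ι
      rw [Scheme.Opens.range_ι]
      exact hfibN' _ hw2
  obtain ⟨t, rfl⟩ := hr
  refine ⟨t, ?_, rfl⟩
  change (pullback.snd g g ≫ g) t = v
  have : pullback.snd g g ≫ g = j ≫ pullback.snd h h ≫ h := by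
    rw [← Category.assoc j, pullback.lift_snd, Category.assoc]
  rw [this]
  exact hw

/-- A monomorphism into `U ×_V U` has finite fibre over `v`. -/
theorem finite_fibre_of_mono {U V R : Scheme.{u}} [IsAffine V] (h : U ⟶ V)
    [LocallyOfFiniteType h] (v : V) (hfib : (h ⁻¹' {v}).Finite)
    (hq : ∀ u : U, h u = v → h.QuasiFiniteAt u) (d : R ⟶ pullback h h) [Mono d] :
    ((d ≫ pullback.snd h h ≫ h) ⁻¹' {v}).Finite := by
  have h1 := finite_fibre_pullback h v hfib hq
  refine Set.Finite.of_injOn (f := fun r => d r) (t := (pullback.snd h h ≫ h) ⁻¹' {v}) ?_ ?_ h1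
  · intro r hr
    exact hr
  · intro r _ r' _ hrr'
    exact d.injective hrr'

end Groth.Agent.Lib.Helper3.GenDense
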