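import Groth.Agent.Lib.Helper3.GenDense2
import Groth.Agent.Lib.Helper3.GenFinSp3
import Groth.Agent.S9906

set_option autoImplicit false
universe u w

namespace Groth.Agent.Lib.Helper3.GenDense

open CategoryTheory CategoryTheory.Limits AlgebraicGeometry Opposite AlgSp
open Groth.Agent.Lib.Helper3 Groth.Agent.Lib.Helper3.RelNorm Groth.Agent.Lib.Helper3.GenFinSp

variable {S : Scheme.{u}}

/-- Quasi-finiteness at the points of a chart over `v`. -/
theorem quasiFiniteAt_chart {X Y : Sp S} (f : X ⟶ Y) {V U : Over S}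
    (b : (yon S).obj V ⟶ Y) (hbe : RepWith @Etale b) (a : (yon S).obj U ⟶ X)
    (hae : RepWith @Etale a) (h : U ⟶ V) (hcomm : a ≫ f = (yon S).map h ≫ b)
    [LocallyOfFiniteType h.left] (v : ↥V.left)
    (hqf : ∀ x : Points X, Points.map f x = Points.ofPt b v → ZmtGen.QfAt f x) :
    ∀ u : ↥U.left, h.left u = v → h.left.QuasiFiniteAt u := by
  intro u hu
  have hx : Points.map f (Points.ofPt a u) = Points.ofPt b v := by
    rw [Points.map_ofPt, hcomm, SpUC.ofPt_comp_yon_map, hu]
  obtain ⟨U', V', a', b', h', u', ha', hb', w', hx', hQ⟩ := hqf _ hx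
  exact Groth.Agent.Lib.lead.QFCodimSp.quasiFiniteAt_of_charts f a b h a' b' h' hae hbe
    ha' hb' hcomm w' u u' hx'.symm
    (Groth.Agent.Lib.lead.QFCodimSp.quasiFiniteAt_of_QFQ h'.left u' hQ)

/-- **Assembly**: finiteness of the chart and of the relation over an open `O` of the chart `V`
of `Y`, together with surjectivity of the chart over `O`, gives finiteness of the base change
of `f` to `O`. -/
theorem isFiniteMor_over_open {X Y : Sp S} (hX : IsAlgSpace X) (hY : IsAlgSpace Y) (f : X ⟶ Y)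
    {V U R : Over S} (b : (yon S).obj V ⟶ Y) {X₁ : Sp S} (prX : X₁ ⟶ X)
    (pr₁ : X₁ ⟶ (yon S).obj V) (sq₁ : IsPullback prX pr₁ f b)
    (c : (yon S).obj U ⟶ X₁) (hce : RepWith @Etale c) (h : U ⟶ V)
    (hh : (yon S).map h = c ≫ pr₁) (s t : R ⟶ U)
    (sqR : IsPullback ((yon S).map t) ((yon S).map s) c c) (O : V.left.Opens)
    (hOh : IsFinite (h.left ∣_ O)) (hOρ : IsFinite ((s ≫ h).left ∣_ O))
    (hsurj : ∀ (z : Points X₁) (v' : ↥V.left), v' ∈ O →
      Points.map pr₁ z = Points.schemeHomeo V v' → z ∈ Set.range (Points.ofPt c))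
    (X' : Sp S) (fst : X' ⟶ X) (snd : X' ⟶ (yon S).obj (opOver V O))
    (sq : IsPullback fst snd f ((yon S).map (opι V O) ≫ b)) : IsFiniteMor snd := by
  have hX' : IsAlgSpace X' :=
    isAlgSpace_of_isPullback' hY hX (IsAlgSpace.yon_obj _) sq
  have wX : fst ≫ f = (snd ≫ (yon S).map (opι V O)) ≫ b := by rw [Category.assoc]; exact sq.w
  let fstX : X' ⟶ X₁ := sq₁.lift fst (snd ≫ (yon S).map (opι V O)) wX
  have hfstX1 : fstX ≫ prX = fst := sq₁.lift_fst _ _ _
  have hfstX2 : fstX ≫ pr₁ = snd ≫ (yon S).map (opι V O) := sq₁.lift_snd _ _ _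
  have sqX : IsPullback fstX snd pr₁ ((yon S).map (opι V O)) := by
    refine IsPullback.of_right ?_ hfstX2 sq₁
    rw [hfstX1]
    exact sq
  let ρ : R ⟶ V := s ≫ h
  obtain ⟨c', s', t', hc'1, hc'2, sqc', hs'1, ht'1, hs'2, sqR'⟩ :=
    exists_baseChange_chart pr₁ ((yon S).map (opι V O)) c ((yon S).map h) hh ((yon S).map s)
      ((yon S).map t) sqR ((yon S).map (opι U (h.left ⁻¹ᵁ O))) ((yon S).map (opRes h O))
      ((isPullback_opRes h O).map (yon S))
      ((yon S).map (opι R (ρ.left ⁻¹ᵁ O))) ((yon S).map (opRes ρ O))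
      (by
        rw [← Functor.map_comp]
        exact (isPullback_opRes ρ O).map (yon S))
      fstX snd sqX
  obtain ⟨s'', rfl⟩ := (yon S).map_surjective s'
  obtain ⟨t'', rfl⟩ := (yon S).map_surjective t'
  have hc'e : RepWith @Etale c' := MorphismProperty.of_isPullback sqc'.flip hce
  have hιm : Mono ((yon S).map (opι V O)) := by
    have : Mono (opι V O) := by
      have : Mono (opι V O).left := inferInstanceAs (Mono O.ι)
      exact Over.mono_of_mono_left _
    infer_instance
  have hfstXm : Mono fstX := sqX.mono_fst_of_mono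
  have hc's : RepWith @Surjective c' := by
    rw [Groth.Agent.S9906.repWith_surjective_iff c' hc'e.rep]
    intro z'
    obtain ⟨o, ho⟩ := (Points.schemeHomeo (opOver V O)).surjective (Points.map snd z')
    have hpr : Points.map pr₁ (Points.map fstX z') = Points.schemeHomeo V ((opι V O).left o) := by
      rw [← Points.map_comp, hfstX2, Points.map_comp, ← ho, Points.map_yon_map_apply]
    obtain ⟨u, hu⟩ := hsurj (Points.map fstX z') ((opι V O).left o) o.2 hpr
    have huO : u ∈ h.left ⁻¹ᵁ O := by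
      have h1 : Points.map pr₁ (Points.ofPt c u) = Points.schemeHomeo V (h.left u) := by
        rw [Points.map_ofPt, ← hh, SpUC.ofPt_yon_map]
      rw [hu, hpr] at h1
      have := (Points.schemeHomeo V).injective h1
      change h.left u ∈ O
      rw [← this]
      exact o.2
    let u' : ↥(opOver U (h.left ⁻¹ᵁ O)).left := ⟨u, huO⟩
    refine ⟨Points.schemeHomeo _ u', ?_⟩
    apply Points.map_injective_of_mono fstX
    rw [← Points.map_comp, hc'1, Points.map_comp, Points.map_yon_map_apply, ← hu,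
      Points.ofPt_eq_map_ofScheme]
    rfl
  have hs''h : s'' ≫ opRes h O = opRes ρ O := by
    apply (yon S).map_injective
    rw [Functor.map_comp]
    exact hs'2
  refine isFiniteMor_of_chart hX' snd c' hc'e hc's (opRes h O) hc'2.symm s'' t'' sqR' hOh ?_
  rw [hs''h]
  exact hOρ

end Groth.Agent.Lib.Helper3.GenDense
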