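import Groth.Agent.Lib.Helper3.GenDense4
import Groth.Agent.Lib.Helper3.AlgSpImmersionPts
import Groth.Agent.Lib.Helper3.AlgSpPoints2
import Groth.Agent.Lib.Helper3.Rep0418F

set_option autoImplicit false
universe u w

namespace Groth.Agent.Lib.Helper3.GenDense

open CategoryTheory CategoryTheory.Limits AlgebraicGeometry Opposite AlgSp
open Groth.Agent.Lib.Helper3 Groth.Agent.Lib.Helper3.RelNorm Groth.Agent.Lib.Helper3.GenFinSp

variable {S : Scheme.{u}}

/-- Every point of an algebraic space has a generization of codimension zero. -/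
theorem exists_codimZero_generization {Z : Sp S} (hZ : IsAlgSpace Z) (z : Points Z) :
    ∃ z₀ : Points Z, z₀ ⤳ z ∧ HasAt D0 Z z₀ := by
  obtain ⟨W, τ, w, -, hτ, hw⟩ := exists_affine_chart_through hZ z
  obtain ⟨η, hηw, hηmax⟩ := exists_maximal_generization W.left w
  refine ⟨Points.ofPt τ η, ?_, ⟨W, τ, η, hτ, rfl, dim_zero_of_maximal W.left η hηmax⟩⟩
  rw [← hw]
  exact hηw.map (Points.continuous_ofPt τ)

/-- A finite set of points of an algebraic space lies in the image of an affine etale chart. -/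
theorem exists_affine_chart_covering {Z : Sp S} (hZ : IsAlgSpace Z) (F : Set (Points Z))
    (hF : F.Finite) :
    ∃ (U : Over S) (c : (yon S).obj U ⟶ Z), IsAffine U.left ∧ RepWith @Etale c ∧
      F ⊆ Set.range (Points.ofPt c) := by
  obtain ⟨U₀, a₀, ha₀e, ha₀s⟩ := hZ.atlas
  have hFf : Finite F := hF.to_subtype
  have hN : ∀ z : F, ∃ (u : ↥U₀.left) (N : U₀.left.Opens), Points.ofPt a₀ u = z.1 ∧
      IsAffineOpen N ∧ u ∈ N := fun z => by
    obtain ⟨u, hu⟩ := exists_ofPt_eq a₀ ha₀s z.1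
    obtain ⟨_, ⟨N, hN, rfl⟩, huN, -⟩ := U₀.left.isBasis_affineOpens.exists_subset_of_mem_open
      (Set.mem_univ u) isOpen_univ
    exact ⟨u, N, hu, hN, huN⟩
  choose u N hu hNa huN using hN
  let N' : U₀.left.Opens := ⨆ z : F, N z
  have hN'c : CompactSpace ↥N' := by
    refine isCompact_iff_compactSpace.1 ?_
    have : (N' : Set ↥U₀.left) = ⋃ z : F, (N z : Set ↥U₀.left) := by
      simp only [N', TopologicalSpace.Opens.coe_iSup]
    rw [this]
    exact isCompact_iUnion fun z => (hNa z).isCompact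
  have hN'c' : CompactSpace ↥(N' : Scheme.{u}) := hN'c
  obtain ⟨M, m, hms, hme, hMa⟩ :=
    Scheme.exists_hom_isAffine_of_isZariskiLocalAtSource @Etale (N' : Scheme.{u})
  let U : Over S := Over.mk (m ≫ N'.ι ≫ U₀.hom)
  let φ : U ⟶ U₀ := Over.homMk (m ≫ N'.ι) (by simp [U])
  have hφe : Etale φ.left := by
    change Etale (m ≫ N'.ι)
    have : Etale m := hme
    infer_instance
  refine ⟨U, (yon S).map φ ≫ a₀, hMa,
    MorphismProperty.comp_mem _ _ _ ((repWith_yon_map_iff _ _).2 hφe) ha₀e, ?_⟩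
  intro z hz
  have hmem : u ⟨z, hz⟩ ∈ N' := TopologicalSpace.Opens.mem_iSup.2 ⟨⟨z, hz⟩, huN ⟨z, hz⟩⟩
  obtain ⟨μ, hμ⟩ := hms.surj (⟨u ⟨z, hz⟩, hmem⟩ : ↥N')
  refine ⟨μ, ?_⟩
  rw [SpUC.ofPt_comp_yon_map]
  have : φ.left μ = u ⟨z, hz⟩ := by
    change (m ≫ N'.ι) μ = _
    rw [Scheme.Hom.comp_apply, hμ]
    rfl
  rw [this, hu]

end Groth.Agent.Lib.Helper3.GenDense
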