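import Groth.Agent.Lib.Helper3.GenDense5

set_option autoImplicit false
universe u w

namespace Groth.Agent.Lib.Helper3.GenDense

open CategoryTheory CategoryTheory.Limits AlgebraicGeometry Opposite AlgSp
open Groth.Agent.Lib.Helper3 Groth.Agent.Lib.Helper3.RelNorm Groth.Agent.Lib.Helper3.GenFinSp

variable {S : Scheme.{u}}

/-- Finiteness of a chart and of its relation over an open neighbourhood of `v`. -/
theorem exists_open_chart_finite {X Y : Sp S} (f : X ⟶ Y)
    (hlft : LocP @LocallyOfFiniteType f) {V : Over S}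
    (hV : IsAffine V.left) (b : (yon S).obj V ⟶ Y) (hbe : RepWith @Etale b) (v : ↥V.left)
    (hv : ∀ v' : ↥V.left, v' ⤳ v → v' = v)
    (hqf : ∀ x : Points X, Points.map f x = Points.ofPt b v → ZmtGen.QfAt f x)
    (V₀ : Set ↥V.left) (hV₀ : V₀.Finite) (hvV₀ : v ∉ V₀)
    (hmax : ∀ z : Points (pullback f b), HasAt D0 (pullback f b) z → ∀ v' : ↥V.left,
      Points.map (pullback.snd f b) z = Points.schemeHomeo V v' → v' ∈ V₀ ∨ v' = v)
    {U : Over S} (hUa : IsAffine U.left) (c : (yon S).obj U ⟶ pullback f b)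
    (hce : RepWith @Etale c) :
    ∃ (h : U ⟶ V) (R : Over S) (s t : R ⟶ U) (O : V.left.Opens),
      (yon S).map h = c ≫ pullback.snd f b ∧ IsPullback ((yon S).map t) ((yon S).map s) c c ∧
      v ∈ O ∧ IsFinite (h.left ∣_ O) ∧ IsFinite ((s ≫ h).left ∣_ O) := by
  have hVa : IsAffine V.left := hV
  have hUa' : IsAffine U.left := hUa
  let X₁ : Sp S := pullback f b
  let prX : X₁ ⟶ X := pullback.fst f b
  let pr₁ : X₁ ⟶ (yon S).obj V := pullback.snd f b
  have sq₁ : IsPullback prX pr₁ f b := IsPullback.of_hasPullback f b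
  have hprXe : RepWith @Etale prX := MorphismProperty.of_isPullback sq₁.flip hbe
  obtain ⟨h, hh⟩ := (yon S).map_surjective (c ≫ pr₁)
  have hae : RepWith @Etale (c ≫ prX) := MorphismProperty.comp_mem _ _ _ hce hprXe
  have hcomm : (c ≫ prX) ≫ f = (yon S).map h ≫ b := by
    rw [Category.assoc, sq₁.w, ← Category.assoc, hh]
  have hlfth : LocallyOfFiniteType h.left := hlft (c ≫ prX) b h hae hbe hcomm
  have hq := quasiFiniteAt_chart f b hbe (c ≫ prX) hae h hcomm v hqf
  obtain ⟨O₂, hvO₂, hO₂⟩ := Groth.Agent.Lib.lead.GenFiniteSep.main h.left v hv hq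
  -- the relation
  let R : Over S := hce.rep.pullback c
  let t : R ⟶ U := hce.rep.fst' c
  let s : R ⟶ U := hce.rep.snd c
  have sqR : IsPullback ((yon S).map t) ((yon S).map s) c c := hce.rep.isPullback' c
  have hse : Etale s.left := hce.property_snd c
  have hts : t ≫ h = s ≫ h := by
    apply (yon S).map_injective
    rw [Functor.map_comp, Functor.map_comp, hh, ← Category.assoc, sqR.w, Category.assoc]
  let UU : Over S := pullback h h
  let d : R ⟶ UU := pullback.lift t s hts
  have hdmono : Mono d := by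
    refine ⟨fun {T} a₁ a₂ h12 => ?_⟩
    apply (yon S).map_injective
    apply sqR.hom_ext
    · have := congrArg (fun k => k ≫ pullback.fst h h) h12
      simp only [Category.assoc, d, pullback.lift_fst] at this
      rw [← Functor.map_comp, ← Functor.map_comp, this]
    · have := congrArg (fun k => k ≫ pullback.snd h h) h12
      simp only [Category.assoc, d, pullback.lift_snd] at this
      rw [← Functor.map_comp, ← Functor.map_comp, this]
  have hdmono' : Mono d.left := inferInstanceAs (Mono ((Over.forget S).map d))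
  let ρ : R ⟶ V := s ≫ h
  have hρd : ρ = d ≫ pullback.snd h h ≫ h := by
    rw [← Category.assoc, pullback.lift_snd]
  have hUUa : IsAffine UU.left := by
    have sq := (IsPullback.of_hasPullback h h).map (Over.forget S)
    have h1 : IsAffine ((Over.forget S).obj U) := hUa
    have h2 : IsAffineHom ((Over.forget S).map h) := by
      change IsAffineHom h.left
      infer_instance
    exact IsAffine.of_isPullback sq
  have hρlft : LocallyOfFiniteType ρ.left := by
    change LocallyOfFiniteType (s.left ≫ h.left)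
    infer_instance
  have hρsep : IsSeparated ρ.left := by
    rw [hρd]
    change IsSeparated (d.left ≫ (pullback.snd h h ≫ h).left)
    have : IsSeparated (pullback.snd h h ≫ h).left := by
      infer_instance
    infer_instance
  have hρq : ∀ r : ↥R.left, ρ.left r = v → ρ.left.QuasiFiniteAt r := by
    intro r hr
    have : LocallyQuasiFinite s.left := locallyQuasiFinite_of_unramified s.left
    exact Groth.Agent.Lib.lead.QFCodim.quasiFiniteAt_comp_of_locallyQuasiFinite s.left h.left r
      (hq _ hr)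
  have hfibh : (h.left ⁻¹' {v}).Finite :=
    Groth.Agent.Lib.lead.GenFiniteGen.finite_fibre_of_isFinite_morphismRestrict h.left O₂ v hvO₂ hO₂
  have hρfib : (ρ.left ⁻¹' {v}).Finite := by
    have sqUU := (IsPullback.of_hasPullback h h).map (Over.forget S)
    have := @finite_fibre_of_mono' _ _ _ _ hVa h.left hlfth v hfibh hq _ _ sqUU d.left hdmono'
    have e : ρ.left = d.left ≫ (pullback.snd h h).left ≫ h.left := by
      rw [hρd]; rfl
    rw [e]
    exact this
  have hρmax : ∀ r : ↥R.left, (∀ r' : ↥R.left, r' ⤳ r → r' = r) → ρ.left r ∈ V₀ ∨ ρ.left r = v := by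
    intro r hr
    have hdim := dim_zero_of_maximal R.left r hr
    have hRe : RepWith @Etale ((yon S).map s ≫ c) :=
      MorphismProperty.comp_mem _ _ _ ((repWith_yon_map_iff _ _).2 hse) hce
    refine hmax (Points.ofPt ((yon S).map s ≫ c) r) ⟨R, _, r, hRe, rfl, hdim⟩ (ρ.left r) ?_
    rw [Points.map_ofPt, Category.assoc]
    change Points.ofPt ((yon S).map s ≫ c ≫ pr₁) r = _
    rw [← hh, ← Functor.map_comp, SpUC.ofPt_yon_map]
  obtain ⟨O₃, hvO₃, hO₃⟩ := exists_open_finite_of_separated ρ.left v hv hρfib hρq V₀ hV₀ hvV₀ hρmax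
  let O : V.left.Opens := O₂ ⊓ O₃
  have hOh : IsFinite (h.left ∣_ O) :=
    Groth.Agent.Lib.lead.GenFiniteSep.isFinite_morphismRestrict_of_le h.left inf_le_left hO₂
  have hOρ : IsFinite (ρ.left ∣_ O) :=
    Groth.Agent.Lib.lead.GenFiniteSep.isFinite_morphismRestrict_of_le ρ.left inf_le_right hO₃
  exact ⟨h, R, s, t, O, hh, sqR, ⟨hvO₂, hvO₃⟩, hOh, hOρ⟩

end Groth.Agent.Lib.Helper3.GenDense
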