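import Groth.Agent.Lib.Helper3.GenDense6

set_option autoImplicit false
universe u w

namespace Groth.Agent.Lib.Helper3.GenDense

open CategoryTheory CategoryTheory.Limits AlgebraicGeometry Opposite AlgSp
open Groth.Agent.Lib.Helper3 Groth.Agent.Lib.Helper3.RelNorm Groth.Agent.Lib.Helper3.GenFinSp

variable {S : Scheme.{u}}

theorem isFinite_le_universallyClosed :
    (@IsFinite : MorphismProperty Scheme.{u}) ≤ @UniversallyClosed :=
  fun _ _ k hk => by
    have : IsFinite k := hk
    infer_instance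

theorem isOpenImmersion_le_isImmersion :
    (@IsOpenImmersion : MorphismProperty Scheme.{u}) ≤ @IsImmersion :=
  fun _ _ k hk => by
    have : IsOpenImmersion k := hk
    infer_instance

/-- **Local generic finiteness, separated case.** -/
theorem exists_open_finite_sep {X Y : Sp S} (hX : IsAlgSpace X) (hY : IsAlgSpace Y) (f : X ⟶ Y)
    (hlft : LocP @LocallyOfFiniteType f) (hsep : IsSeparatedMor f) {V : Over S}
    (hV : IsAffine V.left) (b : (yon S).obj V ⟶ Y) (hbe : RepWith @Etale b) (v : ↥V.left)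
    (hv : ∀ v' : ↥V.left, v' ⤳ v → v' = v)
    (hqf : ∀ x : Points X, Points.map f x = Points.ofPt b v → ZmtGen.QfAt f x)
    (V₀ : Set ↥V.left) (hV₀ : V₀.Finite) (hvV₀ : v ∉ V₀)
    (hmax : ∀ z : Points (pullback f b), HasAt D0 (pullback f b) z → ∀ v' : ↥V.left,
      Points.map (pullback.snd f b) z = Points.schemeHomeo V v' → v' ∈ V₀ ∨ v' = v)
    (hfibfin : {z : Points (pullback f b) |
      Points.map (pullback.snd f b) z = Points.schemeHomeo V v}.Finite) :
    ∃ O : V.left.Opens, v ∈ O ∧ ∀ (X' : Sp S) (fst : X' ⟶ X)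
      (snd : X' ⟶ (yon S).obj (opOver V O)),
      IsPullback fst snd f ((yon S).map (opι V O) ≫ b) → IsFiniteMor snd := by
  let X₁ : Sp S := pullback f b
  let prX : X₁ ⟶ X := pullback.fst f b
  let pr₁ : X₁ ⟶ (yon S).obj V := pullback.snd f b
  have sq₁ : IsPullback prX pr₁ f b := IsPullback.of_hasPullback f b
  have hX₁ : IsAlgSpace X₁ := isAlgSpace_of_isPullback' hY hX (IsAlgSpace.yon_obj V) sq₁
  obtain ⟨U, c, hUa, hce, hFc⟩ := exists_affine_chart_covering hX₁ _ hfibfin
  obtain ⟨h, R, s, t, O, hh, sqR, hvO, hOh, hOρ⟩ := exists_open_chart_finite f hlft hV b hbe v hv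
    hqf V₀ hV₀ hvV₀ hmax hUa c hce
  -- the smaller open
  have hcl : IsClosed (⋃ v' ∈ V₀, closure ({v'} : Set ↥V.left)) :=
    hV₀.isClosed_biUnion fun _ _ => isClosed_closure
  let O₄ : V.left.Opens := O ⊓ ⟨(⋃ v' ∈ V₀, closure ({v'} : Set ↥V.left))ᶜ, hcl.isOpen_compl⟩
  have hvO₄ : v ∈ O₄ := by
    refine ⟨hvO, ?_⟩
    intro hmem
    simp only [Set.mem_iUnion] at hmem
    obtain ⟨v', hv', hvv'⟩ := hmem
    have : v' ⤳ v := specializes_iff_mem_closure.2 hvv'
    exact hvV₀ (hv v' this ▸ hv')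
  refine ⟨O₄, hvO₄, ?_⟩
  -- the base change to `O`
  let X'O : Sp S := pullback f ((yon S).map (opι V O) ≫ b)
  let fstO : X'O ⟶ X := pullback.fst _ _
  let sndO : X'O ⟶ (yon S).obj (opOver V O) := pullback.snd _ _
  have sqO : IsPullback fstO sndO f ((yon S).map (opι V O) ≫ b) := IsPullback.of_hasPullback _ _
  have hX'O : IsAlgSpace X'O := isAlgSpace_of_isPullback' hY hX (IsAlgSpace.yon_obj _) sqO
  have wX : fstO ≫ f = (sndO ≫ (yon S).map (opι V O)) ≫ b := by rw [Category.assoc]; exact sqO.w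
  let fstX : X'O ⟶ X₁ := sq₁.lift fstO (sndO ≫ (yon S).map (opι V O)) wX
  have hfstX1 : fstX ≫ prX = fstO := sq₁.lift_fst _ _ _
  have hfstX2 : fstX ≫ pr₁ = sndO ≫ (yon S).map (opι V O) := sq₁.lift_snd _ _ _
  have sqX : IsPullback fstX sndO pr₁ ((yon S).map (opι V O)) := by
    refine IsPullback.of_right ?_ hfstX2 sq₁
    rw [hfstX1]
    exact sqO
  let ρ : R ⟶ V := s ≫ h
  obtain ⟨c', s', t', hc'1, hc'2, sqc', -, -, -, -⟩ :=
    exists_baseChange_chart pr₁ ((yon S).map (opι V O)) c ((yon S).map h) hh ((yon S).map s)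
      ((yon S).map t) sqR ((yon S).map (opι U (h.left ⁻¹ᵁ O))) ((yon S).map (opRes h O))
      ((isPullback_opRes h O).map (yon S))
      ((yon S).map (opι R (ρ.left ⁻¹ᵁ O))) ((yon S).map (opRes ρ O))
      (by
        rw [← Functor.map_comp]
        exact (isPullback_opRes ρ O).map (yon S))
      fstX sndO sqX
  -- the chart over `O` is finite, hence closed
  have hsndsep : IsSeparatedMor sndO := repWith_diagonal_of_isPullback @IsClosedImmersion sqO hsep
  have hc'fin : RepWith @IsFinite c' :=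
    Rep0418.repWith_of_comp_of_diagonal Rep0418.isClosedImmersion_le_isFinite c' sndO hsndsep (by
      rw [hc'2]
      exact (repWith_yon_map_iff _ _).2 hOh)
  have hclosedmap : IsClosedMap (Points.map c') :=
    isClosedMap_map_of_repWith (repWith_mono isFinite_le_universallyClosed hc'fin)
  have hιoi : RepWith @IsOpenImmersion ((yon S).map (opι V O)) :=
    (repWith_yon_map_iff _ _).2 (inferInstanceAs (IsOpenImmersion O.ι))
  have hfstXoi : RepWith @IsOpenImmersion fstX := MorphismProperty.of_isPullback sqX.flip hιoi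
  have hemb := (isEmbedding_map_of_immersion hX₁ fstX
    (repWith_mono isOpenImmersion_le_isImmersion hfstXoi)).1
  -- surjectivity over `O₄`
  have hsurj : ∀ (z : Points X₁) (v' : ↥V.left), v' ∈ O₄ →
      Points.map pr₁ z = Points.schemeHomeo V v' → z ∈ Set.range (Points.ofPt c) := by
    intro z v' hv' hz
    obtain ⟨z₀, hz₀z, hz₀D⟩ := exists_codimZero_generization hX₁ z
    obtain ⟨v₀, hv₀⟩ := (Points.schemeHomeo V).surjective (Points.map pr₁ z₀)
    have hspec : v₀ ⤳ v' := by
      have := hz₀z.map (Points.continuous_map pr₁)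
      rw [hz, ← hv₀] at this
      exact (Points.schemeHomeo V).isInducing.specializes_iff.1 this
    have hv₀O₄ : v₀ ∈ O₄ := hspec.mem_open O₄.isOpen hv'
    have hv₀v : v₀ = v := by
      rcases hmax z₀ hz₀D v₀ hv₀.symm with h' | h'
      · exact absurd (Set.mem_biUnion h' (subset_closure (Set.mem_singleton v₀))) hv₀O₄.2
      · exact h'
    have hz₀F : z₀ ∈ Set.range (Points.ofPt c) := hFc (by
      change Points.map pr₁ z₀ = Points.schemeHomeo V v
      rw [← hv₀, hv₀v])
    obtain ⟨u₀, hu₀⟩ := hz₀F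
    -- lifts to `X'O`
    have hv'O : v' ∈ O := hv'.1
    obtain ⟨z', hz'1, -⟩ := Points.exists_of_isPullback sqX z
      (Points.schemeHomeo (opOver V O) ⟨v', hv'O⟩) (by
        rw [hz, Points.map_yon_map_apply]; rfl)
    obtain ⟨z₀', hz₀'1, -⟩ := Points.exists_of_isPullback sqX z₀
      (Points.schemeHomeo (opOver V O) ⟨v, hvO⟩) (by
        rw [← hv₀, hv₀v, Points.map_yon_map_apply]; rfl)
    have hspec' : z₀' ⤳ z' := hemb.toIsInducing.specializes_iff.1 (by
      rw [hz₀'1, hz'1]; exact hz₀z)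
    have hu₀O : u₀ ∈ h.left ⁻¹ᵁ O := by
      have h1 : Points.map pr₁ (Points.ofPt c u₀) = Points.schemeHomeo V (h.left u₀) := by
        rw [Points.map_ofPt, ← hh, SpUC.ofPt_yon_map]
      rw [hu₀, ← hv₀, hv₀v] at h1
      have := (Points.schemeHomeo V).injective h1
      change h.left u₀ ∈ O
      rw [← this]
      exact hvO
    have hz₀'r : z₀' ∈ Set.range (Points.map c') := by
      refine ⟨Points.schemeHomeo (opOver U (h.left ⁻¹ᵁ O)) ⟨u₀, hu₀O⟩, ?_⟩
      apply hemb.injective
      rw [← Points.map_comp, hc'1, Points.map_comp, Points.map_yon_map_apply, hz₀'1, ← hu₀,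
        Points.ofPt_eq_map_ofScheme]
      rfl
    have hz'r : z' ∈ Set.range (Points.map c') :=
      hclosedmap.isClosed_range.closure_subset
        (closure_mono (Set.singleton_subset_iff.2 hz₀'r) hspec'.mem_closure)
    obtain ⟨w, hw⟩ := hz'r
    obtain ⟨u', rfl⟩ := (Points.schemeHomeo (opOver U (h.left ⁻¹ᵁ O))).surjective w
    refine ⟨(opι U (h.left ⁻¹ᵁ O)).left u', ?_⟩
    rw [← hz'1, ← hw, ← Points.map_comp, hc'1, Points.map_comp, Points.map_yon_map_apply,
      Points.ofPt_eq_map_ofScheme]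
    rfl
  intro X' fst snd sq
  exact isFiniteMor_over_open hX hY f b prX pr₁ sq₁ c hce h hh s t sqR O₄
    (Groth.Agent.Lib.lead.GenFiniteSep.isFinite_morphismRestrict_of_le h.left inf_le_left hOh)
    (Groth.Agent.Lib.lead.GenFiniteSep.isFinite_morphismRestrict_of_le (s ≫ h).left inf_le_left
      hOρ) hsurj X' fst snd sq

end Groth.Agent.Lib.Helper3.GenDense
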