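import Groth.Agent.Lib.Helper3.GenDense7
import Groth.Agent.Lib.Helper3.AlgSpMonoPt

set_option autoImplicit false
universe u w

namespace Groth.Agent.Lib.Helper3.GenDense

open CategoryTheory CategoryTheory.Limits AlgebraicGeometry Opposite AlgSp
open Groth.Agent.Lib.Helper3 Groth.Agent.Lib.Helper3.RelNorm Groth.Agent.Lib.Helper3.GenFinSp

variable {S : Scheme.{u}}

/-- The fibre product of a field-valued point with a compact etale chart, over a decent point, has
finitely many points. -/
theorem finite_points_of_isPullback_fieldPt {Y : Sp S} (hY : IsAlgSpace Y) (p q : FieldPt Y)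
    [Mono p.toHom] (hq : RepWith @QuasiCompact p.toHom) (h : Points.mk p = Points.mk q)
    {V : Over S} [CompactSpace ↥V.left] (b : (yon S).obj V ⟶ Y) (hb : RepWith @Etale b)
    {T : Sp S} (t₁ : T ⟶ (yon S).obj q.pt) (t₂ : T ⟶ (yon S).obj V)
    (sq : IsPullback t₁ t₂ q.toHom b) : Finite (Points T) := by
  obtain ⟨c, hc⟩ := exists_factor_of_mono_fieldPt hY p q h
  obtain ⟨F, pV, pK, sqF⟩ := exists_pullback_charts b hb.1 p.toHom
  have hpK : Etale pK.left := hb.2 p.toHom ((yon S).map pV) pK sqF
  have hpV : QuasiCompact pV.left := hq.2 b ((yon S).map pK) pV sqF.flip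
  have hFc : CompactSpace ↥F.left := QuasiCompact.compactSpace_of_compactSpace pV.left
  have hpKe : RepWith @Etale ((yon S).map pK) := (repWith_yon_map_iff _ pK).2 hpK
  obtain ⟨G, gF, gq, sqG⟩ := exists_pullback_charts ((yon S).map pK) hpKe.1 ((yon S).map c)
  have hgq : Etale gq.left := hpKe.2 ((yon S).map c) ((yon S).map gF) gq sqG
  have hpKq : QuasiCompact pK.left := by
    have : IsAffine p.pt.left := by
      change IsAffine (Spec (CommRingCat.of p.K))
      infer_instance
    exact (HasAffineProperty.iff_of_isAffine (P := @QuasiCompact)).2 hFc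
  have hpKq' : RepWith @QuasiCompact ((yon S).map pK) := (repWith_yon_map_iff _ pK).2 hpKq
  have hgqq : QuasiCompact gq.left := hpKq'.2 ((yon S).map c) ((yon S).map gF) gq sqG
  have hGc : CompactSpace ↥G.left := by
    have : IsAffine q.pt.left := by
      change IsAffine (Spec (CommRingCat.of q.K))
      infer_instance
    exact (HasAffineProperty.iff_of_isAffine (P := @QuasiCompact)).1 hgqq
  have hGfin : Finite ↥G.left := by
    have : Etale (show G.left ⟶ Spec (CommRingCat.of q.K) from gq.left) := hgq
    exact finite_of_etale_of_compactSpace (show G.left ⟶ Spec (CommRingCat.of q.K) from gq.left)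
  -- paste
  have sqP : IsPullback ((yon S).map gq) ((yon S).map gF ≫ (yon S).map pV) q.toHom b := by
    have := sqG.flip.paste_vert sqF.flip
    rw [hc] at this
    exact this
  let e : T ≅ (yon S).obj G := sq.isoIsPullback _ _ sqP
  have : Finite (Points ((yon S).obj G)) :=
    Finite.of_equiv _ (Points.schemeEquiv G)
  refine Finite.of_injective (Points.map e.hom) ?_
  intro x y hxy
  have := congrArg (Points.map e.inv) hxy
  rwa [← Points.map_comp, ← Points.map_comp, e.hom_inv_id, Points.map_id, Points.map_id] at this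

/-- For `X`, `Y` decent and a compact etale chart `b : V ⟶ Y`, if the fibre of `f` over `b v` is
finite, then so is the fibre of `X ×_Y V ⟶ V` over `v`. -/
theorem finite_fibre_pullback_of_decent {X Y : Sp S} (hX : IsAlgSpace X) (hY : IsAlgSpace Y)
    (hXd : IsDecent X) (hYd : IsDecent Y) (f : X ⟶ Y) {V : Over S} [CompactSpace ↥V.left]
    (b : (yon S).obj V ⟶ Y) (hbe : RepWith @Etale b) (y : Points Y)
    (hfib : {x : Points X | Points.map f x = y}.Finite) :
    (Points.map (pullback.fst f b) ⁻¹' {x : Points X | Points.map f x = y}).Finite := by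
  let X₁ : Sp S := pullback f b
  let prX : X₁ ⟶ X := pullback.fst f b
  let pr₁ : X₁ ⟶ (yon S).obj V := pullback.snd f b
  have sq₁ : IsPullback prX pr₁ f b := IsPullback.of_hasPullback f b
  refine Set.Finite.preimage' hfib ?_
  intro x hx
  obtain ⟨px, hpx, hpxm, hpxq⟩ := hXd x
  obtain ⟨py, hpy, hpym, hpyq⟩ := hYd y
  let T : Sp S := pullback prX px.toHom
  have sqT : IsPullback (pullback.fst prX px.toHom) (pullback.snd prX px.toHom) prX px.toHom :=
    IsPullback.of_hasPullback _ _
  have sqP : IsPullback (pullback.snd prX px.toHom) (pullback.fst prX px.toHom ≫ pr₁)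
      (px.map f).toHom b := by
    rw [FieldPt.toHom_map]
    exact sqT.flip.paste_vert sq₁
  have hmk : Points.mk py = Points.mk (px.map f) := by
    rw [hpy, ← Points.map_mk, hpx]
    exact hx.symm
  have hfin : Finite (Points T) :=
    finite_points_of_isPullback_fieldPt hY py (px.map f) hpyq hmk b hbe _ _ sqP
  refine (Set.finite_range (Points.map (pullback.fst prX px.toHom))).subset ?_
  intro z hz
  have hz' : Points.map prX z = x := hz
  have hxy : Points.map prX z =
      Points.map px.toHom (Points.ofScheme px.pt (IsLocalRing.closedPoint px.K)) := by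
    rw [Points.map_ofPt, Category.id_comp, Points.ofPt_toHom, hpx, hz']
  obtain ⟨t, ht, -⟩ := Points.exists_of_isPullback sqT _ _ hxy
  exact ⟨t, ht⟩

end Groth.Agent.Lib.Helper3.GenDense
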