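import Groth.Agent.Lib.Helper3.GenFinSp3
import Groth.Agent.Lib.Helper3.EtaleDim

set_option autoImplicit false
universe u w

namespace Groth.Agent.Lib.Helper3.GenFinSp

open CategoryTheory CategoryTheory.Limits AlgebraicGeometry Opposite AlgSp
open Groth.Agent.Lib.Helper3 Groth.Agent.Lib.Helper3.RelNorm

variable {S : Scheme.{u}}

/-- **Generic finiteness for algebraic spaces** (codimension 0 point). -/
theorem main10398 {X Y : AlgSp.Space S} (f : X ⟶ Y)
    (hqs : AlgSp.IsQuasiSeparatedMor f.hom) (hft : AlgSp.IsFiniteTypeMor f.hom)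
    (y : AlgSp.Points Y.obj)
    (hy : AlgSp.HasAt (fun U u => ringKrullDim ↥(U.presheaf.stalk u) = 0) Y.obj y)
    (hqf : ∀ x : AlgSp.Points X.obj, AlgSp.Points.map f.hom x = y → ZmtGen.QfAt f.hom x) :
    ∃ (Y' X' : AlgSp.Space S) (j : Y' ⟶ Y) (fst : X' ⟶ Y') (snd : X' ⟶ X),
      AlgSp.RepWith @IsOpenImmersion j.hom ∧
      y ∈ Set.range (AlgSp.Points.map j.hom) ∧ IsPullback fst.hom snd.hom j.hom f.hom ∧
      AlgSp.IsFiniteMor fst.hom := by
  obtain ⟨V₀, b₀, v₀, hb₀e, hb₀y, hdim⟩ := hy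
  -- shrink to an affine open
  obtain ⟨_, ⟨(W : V₀.left.Opens), hW : IsAffineOpen W, rfl⟩, hv₀W, -⟩ :=
    (V₀.left.isBasis_affineOpens).exists_subset_of_mem_open (Set.mem_univ v₀) isOpen_univ
  let V : Over S := opOver V₀ W
  have hVa : IsAffine V.left := hW
  let b : (yon S).obj V ⟶ Y.obj := (yon S).map (opι V₀ W) ≫ b₀
  have hιe : RepWith @Etale ((yon S).map (opι V₀ W)) := by
    rw [repWith_yon_map_iff]
    change Etale (Scheme.Opens.ι W)
    infer_instance
  have hbe : RepWith @Etale b := MorphismProperty.comp_mem _ _ _ hιe hb₀e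
  let v : ↥V.left := ⟨v₀, hv₀W⟩
  have hbv : Points.ofPt b v = y := by
    rw [SpUC.ofPt_comp_yon_map]
    exact hb₀y
  have hdimv : ringKrullDim ↥(V.left.presheaf.stalk v) = 0 := by
    have := ringKrullDim_stalk_eq_of_etale (Scheme.Opens.ι W) v
    exact this.trans hdim
  have hv : ∀ v' : ↥V.left, v' ⤳ v → v' = v := fun v' h =>
    Groth.Agent.Lib.lead.QFCodim.eq_of_specializes_of_dim_zero V.left hdimv h
  obtain ⟨O, hvO, hO⟩ := exists_open_finite X.property Y.property f.hom hqs hft hVa b hbe v hv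
    (fun x hx => hqf x (hx.trans hbv))
  -- the open subspace
  let a : (yon S).obj (opOver V O) ⟶ Y.obj := (yon S).map (opι V O) ≫ b
  have hιOe : RepWith @Etale ((yon S).map (opι V O)) := by
    rw [repWith_yon_map_iff]
    change Etale O.ι
    infer_instance
  have hae : RepWith @Etale a := MorphismProperty.comp_mem _ _ _ hιOe hbe
  let Ω : Set (Points Y.obj) := Set.range (Points.ofPt a)
  have hΩ : IsOpen Ω := by
    change IsOpen (Set.range (Points.ofPt a))
    rw [← range_map_eq_range_ofPt]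
    exact (isOpenMap_map_of_etale hae).isOpen_range
  have hj : RepWith @IsOpenImmersion (openSubι Y.obj Ω) :=
    repWith_isOpenImmersion_openSubι Y.obj Ω hΩ
  have hY' : IsAlgSpace (openSub Y.obj Ω) := isAlgSpace_openSub Y.property Ω hΩ
  have : Mono (openSubι Y.obj Ω) := mono_of_repWith_isOpenImmersion _ hj
  obtain ⟨a', ha'j, ha'e, ha's, -⟩ := exists_factor_surjective_etale a hae (openSubι Y.obj Ω) hj
    (range_map_openSubι Y.obj Ω)
  -- the base change
  let X' : Sp S := pullback (openSubι Y.obj Ω) f.hom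
  have sqX : IsPullback (pullback.fst (openSubι Y.obj Ω) f.hom)
      (pullback.snd (openSubι Y.obj Ω) f.hom) (openSubι Y.obj Ω) f.hom :=
    IsPullback.of_hasPullback _ _
  have hX' : IsAlgSpace X' := isAlgSpace_of_isPullback' Y.property hY' X.property sqX
  refine ⟨⟨openSub Y.obj Ω, hY'⟩, ⟨X', hX'⟩, ObjectProperty.homMk (openSubι Y.obj Ω),
    ObjectProperty.homMk (pullback.fst _ _), ObjectProperty.homMk (pullback.snd _ _), hj, ?_, sqX,
    ?_⟩
  · change y ∈ Set.range (Points.map (openSubι Y.obj Ω))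
    rw [range_map_openSubι]
    exact ⟨⟨v, hvO⟩, by
      change Points.ofPt ((yon S).map (opι V O) ≫ b) _ = y
      rw [SpUC.ofPt_comp_yon_map]
      exact hbv⟩
  · change IsFiniteMor (pullback.fst (openSubι Y.obj Ω) f.hom)
    -- descend along the etale cover `a'`
    let P : Sp S := pullback (pullback.fst (openSubι Y.obj Ω) f.hom) a'
    have sqP : IsPullback (pullback.fst (pullback.fst (openSubι Y.obj Ω) f.hom) a')
        (pullback.snd (pullback.fst (openSubι Y.obj Ω) f.hom) a')
        (pullback.fst (openSubι Y.obj Ω) f.hom) a' := IsPullback.of_hasPullback _ _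
    have hfin : IsFiniteMor (pullback.snd (pullback.fst (openSubι Y.obj Ω) f.hom) a') := by
      refine hO P (pullback.fst _ _ ≫ pullback.snd _ _) _ ?_
      have := (sqP.flip.paste_vert sqX).flip
      rw [ha'j] at this
      exact this
    exact ((Groth.Agent.S10268.result (X := ⟨X', hX'⟩) (Y := ⟨openSub Y.obj Ω, hY'⟩)
      (ObjectProperty.homMk (pullback.fst _ _)) (opOver V O) a' ha'e ha's _ _ sqP).2 hfin)

end Groth.Agent.Lib.Helper3.GenFinSp
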