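import Groth.Agent.Lib.Helper3.GenDense8
import Groth.Agent.Lib.Helper3.GenFinSp4
import Groth.Agent.Lib.Helper3.DecMonoQSepMor
import Groth.Agent.Lib.Helper3.RDvrFinal
import Groth.Agent.Lib.lead.QFCodimSp
import Groth.Agent.Lib.lead.DecentFibre

set_option autoImplicit false
universe u w

namespace Groth.Agent.Lib.Helper3.GenDense

open CategoryTheory CategoryTheory.Limits AlgebraicGeometry Opposite AlgSp
open Groth.Agent.Lib.Helper3 Groth.Agent.Lib.Helper3.RelNorm Groth.Agent.Lib.Helper3.GenFinSp

variable {S : Scheme.{u}}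

/-- **Local step**: around every codimension 0 point of `Y` there is an open over which `f` is
finite. -/
theorem exists_open_finite_at {X Y : AlgSp.Space S} (f : X ⟶ Y)
    (hf : AlgSp.LocP @LocallyOfFiniteType f.hom) (hY : AlgSp.IsDecent Y.obj)
    (hX0 : {x : AlgSp.Points X.obj | AlgSp.HasAt D0 X.obj x}.Finite)
    (hY0 : {y : AlgSp.Points Y.obj | AlgSp.HasAt D0 Y.obj y}.Finite)
    (hpre : ∀ x : AlgSp.Points X.obj, AlgSp.HasAt D0 X.obj x ↔
      AlgSp.HasAt D0 Y.obj (AlgSp.Points.map f.hom x))
    (hqs : AlgSp.IsQuasiCompactMor f.hom ∨ AlgSp.IsSeparatedMor f.hom)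
    (y : AlgSp.Points Y.obj) (hy : AlgSp.HasAt D0 Y.obj y) :
    ∃ Ω : Set (Points Y.obj), IsOpen Ω ∧ y ∈ Ω ∧
      IsFiniteMor (pullback.fst (openSubι Y.obj Ω) f.hom) := by
  obtain ⟨V₀, b₀, v₀, hb₀e, hb₀y, hdim⟩ := id hy
  -- shrink to an affine open
  obtain ⟨_, ⟨(W : V₀.left.Opens), hW : IsAffineOpen W, rfl⟩, hv₀W, -⟩ :=
    (V₀.left.isBasis_affineOpens).exists_subset_of_mem_open (Set.mem_univ v₀) isOpen_univ
  let V : Over S := opOver V₀ W
  have hVa : IsAffine V.left := hW
  let b : (yon S).obj V ⟶ Y.obj := (yon S).map (opι V₀ W) ≫ b₀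
  have hιe : RepWith @Etale ((yon S).map (opι V₀ W)) := by
    rw [repWith_yon_map_iff]
    change Etale (Scheme.Opens.ι W)
    infer_instance
  have hbe : RepWith @Etale b := MorphismProperty.comp_mem _ _ _ hιe hb₀e
  let v : ↥V.left := ⟨v₀, hv₀W⟩
  have hbv : Points.ofPt b v = y := by
    rw [SpUC.ofPt_comp_yon_map]
    exact hb₀y
  have hdimv : ringKrullDim ↥(V.left.presheaf.stalk v) = 0 := by
    have := ringKrullDim_stalk_eq_of_etale (Scheme.Opens.ι W) v
    exact this.trans hdim
  have hv : ∀ v' : ↥V.left, v' ⤳ v → v' = v := fun v' h =>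
    Groth.Agent.Lib.lead.QFCodim.eq_of_specializes_of_dim_zero V.left hdimv h
  -- the other codimension 0 points of `V`
  let Vz : Set ↥V.left := {v' | ringKrullDim ↥(V.left.presheaf.stalk v') = 0 ∧ v' ≠ v}
  have hVz : Vz.Finite := by
    have hfib : ∀ y' ∈ {y : AlgSp.Points Y.obj | AlgSp.HasAt D0 Y.obj y},
        {w : ↥V.left | Points.ofPt b w = y'}.Finite := by
      intro y' _
      obtain ⟨p, hp, -, hpq⟩ := hY y'
      have := Groth.Agent.Lib.lead.DecentFibre.finite_fibre_inter_affine p hpq b hbe ⊤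
        (isAffineOpen_top V.left)
      refine this.subset ?_
      intro w hw
      exact ⟨trivial, hw.trans hp.symm⟩
    refine (hY0.biUnion hfib).subset ?_
    intro v' hv'
    simp only [Set.mem_iUnion, Set.mem_setOf_eq, exists_prop]
    exact ⟨Points.ofPt b v', ⟨V, b, v', hbe, rfl, hv'.1⟩, rfl⟩
  have hvVz : v ∉ Vz := fun h => h.2 rfl
  -- quasi-finiteness over `y`
  have hfibX : ∀ x : Points X.obj, Points.map f.hom x = y → HasAt D0 X.obj x := fun x hx =>
    (hpre x).2 (hx ▸ hy)
  have hqf : ∀ x : Points X.obj, Points.map f.hom x = Points.ofPt b v → ZmtGen.QfAt f.hom x :=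
    fun x hx => (Groth.Agent.Lib.lead.QFCodimSp.main f hf y hy).1.1 hfibX x (hx.trans hbv)
  let prX : pullback f.hom b ⟶ X.obj := pullback.fst f.hom b
  let pr₁ : pullback f.hom b ⟶ (yon S).obj V := pullback.snd f.hom b
  have sq₁ : IsPullback prX pr₁ f.hom b := IsPullback.of_hasPullback f.hom b
  have hprXe : RepWith @Etale prX := MorphismProperty.of_isPullback sq₁.flip hbe
  have hmax : ∀ z : Points (pullback f.hom b), HasAt D0 (pullback f.hom b) z → ∀ v' : ↥V.left,
      Points.map (pullback.snd f.hom b) z = Points.schemeHomeo V v' → v' ∈ Vz ∨ v' = v := by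
    intro z hz v' hzv'
    have h1 : HasAt D0 X.obj (Points.map prX z) := hasAt_map_of_etale prX hprXe z hz
    have h2 : HasAt D0 Y.obj (Points.map f.hom (Points.map prX z)) := (hpre _).1 h1
    have h3 : Points.map f.hom (Points.map prX z) = Points.ofPt b v' := by
      rw [← Points.map_comp, sq₁.w, Points.map_comp]
      change Points.map b (Points.map (pullback.snd f.hom b) z) = _
      rw [hzv']
      rfl
    have h4 : ringKrullDim ↥(V.left.presheaf.stalk v') = 0 :=
      dim_zero_of_hasAt h2 b hbe v' h3.symm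
    by_cases hvv : v' = v
    · exact Or.inr hvv
    · exact Or.inl ⟨h4, hvv⟩
  obtain ⟨O, hvO, hO⟩ : ∃ O : V.left.Opens, v ∈ O ∧ ∀ (X' : Sp S) (fst : X' ⟶ X.obj)
      (snd : X' ⟶ (yon S).obj (opOver V O)),
      IsPullback fst snd f.hom ((yon S).map (opι V O) ≫ b) → IsFiniteMor snd := by
    rcases hqs with hqc | hsep
    · exact exists_open_finite_qc X.property Y.property f.hom hf hqc hVa b hbe v hv hqf Vz hVz hvVz
        hmax
    · have hXd : IsDecent X.obj := isDecent_of_isDecentMor f.hom
        (DecMono.isDecentMor_of_isQuasiSeparatedMor X.property Y.property f.hom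
          (RDvr.isQuasiSeparatedMor_of_isSeparatedMor hsep)) hY
      have hfibfin0 : {x : Points X.obj | Points.map f.hom x = y}.Finite :=
        hX0.subset fun x hx => hfibX x hx
      have hVc : CompactSpace ↥V.left := inferInstance
      have hfibfin1 := finite_fibre_pullback_of_decent X.property Y.property hXd hY f.hom b hbe y
        hfibfin0
      have hfibfin : {z : Points (pullback f.hom b) |
          Points.map (pullback.snd f.hom b) z = Points.schemeHomeo V v}.Finite := by
        refine hfibfin1.subset ?_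
        intro z hz
        change Points.map f.hom (Points.map prX z) = y
        rw [← Points.map_comp, sq₁.w, Points.map_comp]
        change Points.map b (Points.map (pullback.snd f.hom b) z) = _
        rw [hz]
        exact hbv
      exact exists_open_finite_sep X.property Y.property f.hom hf hsep hVa b hbe v hv hqf Vz hVz
        hvVz hmax hfibfin
  -- the open subspace
  let a : (yon S).obj (opOver V O) ⟶ Y.obj := (yon S).map (opι V O) ≫ b
  have hιOe : RepWith @Etale ((yon S).map (opι V O)) := by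
    rw [repWith_yon_map_iff]
    change Etale O.ι
    infer_instance
  have hae : RepWith @Etale a := MorphismProperty.comp_mem _ _ _ hιOe hbe
  let Ω : Set (Points Y.obj) := Set.range (Points.ofPt a)
  have hΩ : IsOpen Ω := by
    change IsOpen (Set.range (Points.ofPt a))
    rw [← range_map_eq_range_ofPt]
    exact (isOpenMap_map_of_etale hae).isOpen_range
  have hj : RepWith @IsOpenImmersion (openSubι Y.obj Ω) :=
    repWith_isOpenImmersion_openSubι Y.obj Ω hΩ
  have hY' : IsAlgSpace (openSub Y.obj Ω) := isAlgSpace_openSub Y.property Ω hΩ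
  have : Mono (openSubι Y.obj Ω) := mono_of_repWith_isOpenImmersion _ hj
  obtain ⟨a', ha'j, ha'e, ha's, -⟩ := exists_factor_surjective_etale a hae (openSubι Y.obj Ω) hj
    (range_map_openSubι Y.obj Ω)
  -- the base change
  let X' : Sp S := pullback (openSubι Y.obj Ω) f.hom
  have sqX : IsPullback (pullback.fst (openSubι Y.obj Ω) f.hom)
      (pullback.snd (openSubι Y.obj Ω) f.hom) (openSubι Y.obj Ω) f.hom :=
    IsPullback.of_hasPullback _ _
  have hX' : IsAlgSpace X' := isAlgSpace_of_isPullback' Y.property hY' X.property sqX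
  refine ⟨Ω, hΩ, ?_, ?_⟩
  · exact ⟨⟨v, hvO⟩, by
      change Points.ofPt ((yon S).map (opι V O) ≫ b) _ = y
      rw [SpUC.ofPt_comp_yon_map]
      exact hbv⟩
  · -- descend along the etale cover `a'`
    let P : Sp S := pullback (pullback.fst (openSubι Y.obj Ω) f.hom) a'
    have sqP : IsPullback (pullback.fst (pullback.fst (openSubι Y.obj Ω) f.hom) a')
        (pullback.snd (pullback.fst (openSubι Y.obj Ω) f.hom) a')
        (pullback.fst (openSubι Y.obj Ω) f.hom) a' := IsPullback.of_hasPullback _ _
    have hfin : IsFiniteMor (pullback.snd (pullback.fst (openSubι Y.obj Ω) f.hom) a') := by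
      refine hO P (pullback.fst _ _ ≫ pullback.snd _ _) _ ?_
      have := (sqP.flip.paste_vert sqX).flip
      rw [ha'j] at this
      exact this
    exact ((Groth.Agent.S10268.result (X := ⟨X', hX'⟩) (Y := ⟨openSub Y.obj Ω, hY'⟩)
      (ObjectProperty.homMk (pullback.fst _ _)) (opOver V O) a' ha'e ha's _ _ sqP).2 hfin)

end Groth.Agent.Lib.Helper3.GenDense
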