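import Groth.Statements.S14188
import Groth.Agent.Lib.Helper3.SchImGen0
import Mathlib.AlgebraicGeometry.FunctionField
import Mathlib.AlgebraicGeometry.Noetherian
set_option autoImplicit false
universe u
open CategoryTheory CategoryTheory.Limits AlgebraicGeometry
open FlatMor

namespace Groth.Agent.Lib.Helper3.GraphExt

open Groth.Agent.Lib.Helper3.SchIm

theorem isDominant_fromSpecStalk_genericPoint (T : Scheme.{u}) [IsIntegral T] :
    IsDominant (T.fromSpecStalk (genericPoint T)) := by
  constructor
  have h1 : genericPoint T ∈ Set.range (T.fromSpecStalk (genericPoint T)) := by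
    rw [Scheme.range_fromSpecStalk]
    exact specializes_rfl
  have h2 : closure ({genericPoint T} : Set T) = Set.univ := genericPoint_spec T
  rw [DenseRange, dense_iff_closure_eq]
  apply Set.eq_univ_of_univ_subset
  rw [← h2]
  exact closure_mono (Set.singleton_subset_iff.mpr h1)

theorem quasiCompact_fromSpecStalk_genericPoint (T : Scheme.{u}) [IsIntegral T] :
    QuasiCompact (T.fromSpecStalk (genericPoint T)) := by
  letI : Field (T.presheaf.stalk (genericPoint T)) :=
    inferInstanceAs (Field T.functionField)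
  infer_instance

theorem dom_fromSpecStalk_genericPoint (T : Scheme.{u}) [IsIntegral T] :
    IsSchemeTheoreticallyDominant (T.fromSpecStalk (genericPoint T)) := by
  have := isDominant_fromSpecStalk_genericPoint T
  exact IsSchemeTheoreticallyDominant.of_isDominant _

theorem main (T Y Z : Scheme.{u}) [IsIntegral T]
    (pY : Y ⟶ T) (pZ : Z ⟶ T) [Flat pY] [Flat pZ] [IsSeparated pZ]
    (ψ : pullback pY (T.fromSpecStalk (genericPoint T)) ⟶ Z)
    (hψ : ψ ≫ pZ = pullback.fst pY (T.fromSpecStalk (genericPoint T)) ≫ pY)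
    (gr : pullback pY (T.fromSpecStalk (genericPoint T)) ⟶ pullback pY pZ)
    (hgr₁ : gr ≫ pullback.fst pY pZ = pullback.fst pY (T.fromSpecStalk (genericPoint T)))
    (hgr₂ : gr ≫ pullback.snd pY pZ = ψ) :
    (∃ φ : Y ⟶ Z, φ ≫ pZ = pY ∧ pullback.fst pY (T.fromSpecStalk (genericPoint T)) ≫ φ = ψ) ↔
      IsIso (gr.imageι ≫ pullback.fst pY pZ) := by
  constructor
  · rintro ⟨φ, hφ, hφψ⟩
    let Γ : Y ⟶ pullback pY pZ := pullback.lift (𝟙 Y) φ (by rw [Category.id_comp, hφ])
    have hΓ1 : Γ ≫ pullback.fst pY pZ = 𝟙 Y := pullback.lift_fst _ _ _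
    have hΓ2 : Γ ≫ pullback.snd pY pZ = φ := pullback.lift_snd _ _ _
    have : IsClosedImmersion (Γ ≫ pullback.fst pY pZ) := by rw [hΓ1]; infer_instance
    have : IsClosedImmersion Γ := IsClosedImmersion.of_comp Γ (pullback.fst pY pZ)
    have hgr : gr = pullback.fst pY (T.fromSpecStalk (genericPoint T)) ≫ Γ := by
      apply pullback.hom_ext
      · rw [hgr₁, Category.assoc, hΓ1, Category.comp_id]
      · rw [hgr₂, Category.assoc, hΓ2, hφψ]
    have := dom_fromSpecStalk_genericPoint T
    have := quasiCompact_fromSpecStalk_genericPoint T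
    have : IsSchemeTheoreticallyDominant (pullback.fst pY (T.fromSpecStalk (genericPoint T))) :=
      IsSchemeTheoreticallyDominant.of_isPullback (IsPullback.of_hasPullback pY _).flip
    have hker : gr.imageι.ker = Γ.ker := by
      rw [Scheme.IdealSheafData.ker_subschemeι, hgr]
      exact ker_comp_of_isSchemeTheoreticallyDominant _ _
    have hiso := IsClosedImmersion.isIso_lift Γ gr.imageι hker.symm
    have hfac : IsClosedImmersion.lift Γ gr.imageι hker.symm.le ≫ Γ = gr.imageι :=
      IsClosedImmersion.lift_fac _ _ _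
    have : gr.imageι ≫ pullback.fst pY pZ = IsClosedImmersion.lift Γ gr.imageι hker.symm.le := by
      calc gr.imageι ≫ pullback.fst pY pZ
          = (IsClosedImmersion.lift Γ gr.imageι hker.symm.le ≫ Γ) ≫ pullback.fst pY pZ := by
            rw [hfac]
        _ = _ := by rw [Category.assoc, hΓ1, Category.comp_id]
    rw [this]
    exact hiso
  · intro h
    refine ⟨inv (gr.imageι ≫ pullback.fst pY pZ) ≫ gr.imageι ≫ pullback.snd pY pZ, ?_, ?_⟩
    · rw [Category.assoc, Category.assoc, ← pullback.condition, ← Category.assoc gr.imageι,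
        IsIso.inv_hom_id_assoc]
    · have h1 : pullback.fst pY (T.fromSpecStalk (genericPoint T)) =
          gr.toImage ≫ (gr.imageι ≫ pullback.fst pY pZ) := by
        rw [← Category.assoc, Scheme.Hom.toImage_imageι, hgr₁]
      rw [h1, Category.assoc, IsIso.hom_inv_id_assoc, ← Category.assoc,
        Scheme.Hom.toImage_imageι, hgr₂]

end Groth.Agent.Lib.Helper3.GraphExt
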