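import Groth.Statements.S14189
import Groth.Agent.Lib.Helper3.GraphExt
import Mathlib.AlgebraicGeometry.Sites.Fpqc
set_option autoImplicit false
universe u
open CategoryTheory CategoryTheory.Limits AlgebraicGeometry

namespace Groth.Agent.Lib.Helper3.GraphExt2

/-- two morphisms to a separated scheme that agree on a schematically dominant morphism agree -/
theorem ext_of_schDominant_of_isSeparated {W X Y Z : Scheme.{u}} {f g : X ⟶ Y}
    (s : Y ⟶ Z) [IsSeparated s] (h : f ≫ s = g ≫ s)
    (ι : W ⟶ X) [IsSchemeTheoreticallyDominant ι] (hU : ι ≫ f = ι ≫ g) : f = g := by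
  let X' : Over Z := Over.mk (f ≫ s)
  let Y' : Over Z := Over.mk s
  let U' : Over Z := Over.mk (ι ≫ f ≫ s)
  let f' : X' ⟶ Y' := Over.homMk f
  let g' : X' ⟶ Y' := Over.homMk g (h.symm)
  let ι' : U' ⟶ X' := Over.homMk ι
  have : IsSeparated Y'.hom := ‹_›
  have hι' : ι' ≫ f' = ι' ≫ g' := by ext1; exact hU
  have hci : IsClosedImmersion (equalizer.ι f' g').left := inferInstance
  have hker : (equalizer.ι f' g').left.ker = ⊥ := by
    have h1 : (equalizer.lift ι' hι').left ≫ (equalizer.ι f' g').left = ι := by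
      rw [← Over.comp_left, equalizer.lift_ι]
      rfl
    have h2 := Scheme.Hom.le_ker_comp (equalizer.lift ι' hι').left (equalizer.ι f' g').left
    rw [h1, Scheme.Hom.ker_eq_bot ι] at h2
    exact le_bot_iff.mp h2
  have hiso : IsIso (equalizer.ι f' g').left := IsClosedImmersion.isIso_iff_ker_eq_bot.mpr hker
  rw [← cancel_epi (equalizer.ι f' g').left]
  exact congrArg (fun φ => φ.left) (equalizer.condition f' g')

end Groth.Agent.Lib.Helper3.GraphExt2

namespace Groth.Agent.Lib.Helper3.GraphExt2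

open Groth.Agent.Lib.Helper3.GraphExt

theorem aux {T Y Z T' E : Scheme.{u}} (η : E ⟶ T) [IsSchemeTheoreticallyDominant η] [QuasiCompact η]
    (pY : Y ⟶ T) (pZ : Z ⟶ T) [Flat pY] [IsSeparated pZ]
    (ψ : pullback pY η ⟶ Z)
    (g : T' ⟶ T) [Flat g] [Surjective g] [QuasiCompact g]
    (φ' : pullback pY g ⟶ pullback pZ g) (hφ' : φ' ≫ pullback.snd pZ g = pullback.snd pY g)
    (hagree : pullback.fst (pullback.fst pY g) (pullback.fst pY η) ≫ φ' ≫ pullback.fst pZ g =
      pullback.snd (pullback.fst pY g) (pullback.fst pY η) ≫ ψ) :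
    ∃ φ : Y ⟶ Z, φ ≫ pZ = pY ∧ pullback.fst pY η ≫ φ = ψ := by
  obtain ⟨q, hq⟩ : ∃ q, q = pullback.fst pY g := ⟨_, rfl⟩
  obtain ⟨fstη, hfstη⟩ : ∃ q, q = pullback.fst pY η := ⟨_, rfl⟩
  obtain ⟨e, he_def⟩ : ∃ e, e = φ' ≫ pullback.fst pZ g := ⟨_, rfl⟩
  rw [← hq, ← hfstη, ← he_def] at hagree
  have hqfl : Flat q := by rw [hq]; infer_instance
  have hqsurj : Surjective q := by rw [hq]; infer_instance
  have hqqc : QuasiCompact q := by rw [hq]; infer_instance
  have he : e ≫ pZ = q ≫ pY := by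
    rw [he_def, hq, Category.assoc, pullback.condition, ← Category.assoc, hφ', ← pullback.condition]
  -- the key equality on the double overlap
  have key : pullback.fst q q ≫ e = pullback.snd q q ≫ e := by
    obtain ⟨pW, hpW⟩ : ∃ pW, pW = pullback.fst q q ≫ q ≫ pY := ⟨_, rfl⟩
    have : Flat pW := by rw [hpW]; infer_instance
    obtain ⟨j, hj⟩ : ∃ j, j = pullback.fst pW η := ⟨_, rfl⟩
    have : IsSchemeTheoreticallyDominant j := by
      rw [hj]
      exact IsSchemeTheoreticallyDominant.of_isPullback (IsPullback.of_hasPullback pW η).flip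
    have hpZ : (pullback.fst q q ≫ e) ≫ pZ = (pullback.snd q q ≫ e) ≫ pZ := by
      rw [Category.assoc, Category.assoc, he, ← Category.assoc, ← Category.assoc,
        pullback.condition]
    refine ext_of_schDominant_of_isSeparated pZ hpZ j ?_
    have hc : (j ≫ pullback.fst q q ≫ q) ≫ pY = pullback.snd pW η ≫ η := by
      rw [hj, Category.assoc, Category.assoc, ← hpW, pullback.condition]
    obtain ⟨κ, hκ1, hκ2⟩ : ∃ κ : pullback pW η ⟶ pullback pY η,
        κ ≫ fstη = j ≫ pullback.fst q q ≫ q ∧ κ ≫ pullback.snd pY η = pullback.snd pW η :=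
      ⟨pullback.lift (j ≫ pullback.fst q q ≫ q) (pullback.snd pW η) hc,
        by rw [hfstη, pullback.lift_fst], pullback.lift_snd _ _ _⟩
    have hκ' : κ ≫ fstη = j ≫ pullback.snd q q ≫ q := by rw [hκ1, pullback.condition]
    have h1 : j ≫ pullback.fst q q ≫ e = κ ≫ ψ := by
      have hc1 : (j ≫ pullback.fst q q) ≫ q = κ ≫ fstη := by rw [Category.assoc, hκ1]
      have e1 : j ≫ pullback.fst q q = pullback.lift _ _ hc1 ≫ pullback.fst q fstη :=
        (pullback.lift_fst _ _ _).symm
      rw [← Category.assoc, e1, Category.assoc, hagree, ← Category.assoc, pullback.lift_snd]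
    have h2 : j ≫ pullback.snd q q ≫ e = κ ≫ ψ := by
      have hc2 : (j ≫ pullback.snd q q) ≫ q = κ ≫ fstη := by rw [Category.assoc, hκ']
      have e2 : j ≫ pullback.snd q q = pullback.lift _ _ hc2 ≫ pullback.fst q fstη :=
        (pullback.lift_fst _ _ _).symm
      rw [← Category.assoc, e2, Category.assoc, hagree, ← Category.assoc, pullback.lift_snd]
    rw [h1, h2]
  have hdesc : ∀ {W : Scheme.{u}} (g₁ g₂ : W ⟶ pullback pY g), g₁ ≫ q = g₂ ≫ q →
      g₁ ≫ e = g₂ ≫ e := by
    intro W g₁ g₂ h12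
    have e1 : pullback.lift g₁ g₂ h12 ≫ pullback.fst q q = g₁ := pullback.lift_fst _ _ _
    have e2 : pullback.lift g₁ g₂ h12 ≫ pullback.snd q q = g₂ := pullback.lift_snd _ _ _
    calc g₁ ≫ e = (pullback.lift g₁ g₂ h12 ≫ pullback.fst q q) ≫ e := by rw [e1]
      _ = (pullback.lift g₁ g₂ h12 ≫ pullback.snd q q) ≫ e := by
        rw [Category.assoc, key, ← Category.assoc]
      _ = g₂ ≫ e := by rw [e2]
  refine ⟨EffectiveEpi.desc q e hdesc, ?_, ?_⟩
  · rw [← cancel_epi q, ← Category.assoc, EffectiveEpi.fac, he]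
  · have : Flat (pullback.snd q fstη) := inferInstance
    have : Surjective (pullback.snd q fstη) := inferInstance
    have : QuasiCompact (pullback.snd q fstη) := inferInstance
    rw [← hfstη, ← cancel_epi (pullback.snd q fstη), ← Category.assoc, ← pullback.condition,
      Category.assoc, EffectiveEpi.fac, ← hagree]

theorem main (T Y Z T' : Scheme.{u}) [IsIntegral T]
    (pY : Y ⟶ T) (pZ : Z ⟶ T) [Flat pY] [Flat pZ] [IsSeparated pZ]
    (ψ : pullback pY (T.fromSpecStalk (genericPoint T)) ⟶ Z)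
    (hψ : ψ ≫ pZ = pullback.fst pY (T.fromSpecStalk (genericPoint T)) ≫ pY)
    (g : T' ⟶ T) [Flat g] [Surjective g] [QuasiCompact g]
    (φ' : pullback pY g ⟶ pullback pZ g) (hφ' : φ' ≫ pullback.snd pZ g = pullback.snd pY g)
    (hagree : pullback.fst (pullback.fst pY g) (pullback.fst pY (T.fromSpecStalk (genericPoint T))) ≫ φ' ≫ pullback.fst pZ g =
      pullback.snd (pullback.fst pY g) (pullback.fst pY (T.fromSpecStalk (genericPoint T))) ≫ ψ) :
    ∃ φ : Y ⟶ Z, φ ≫ pZ = pY ∧ pullback.fst pY (T.fromSpecStalk (genericPoint T)) ≫ φ = ψ := by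
  have := dom_fromSpecStalk_genericPoint T
  have := quasiCompact_fromSpecStalk_genericPoint T
  exact aux (T.fromSpecStalk (genericPoint T)) pY pZ ψ g φ' hφ' hagree

end Groth.Agent.Lib.Helper3.GraphExt2
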