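import Groth.Statements.S18063
import Groth.Agent.Lib.Helper3.GraphExt2
import Groth.Agent.Lib.Helper3.SchImGrp0
set_option autoImplicit false
universe u
open CategoryTheory CategoryTheory.Limits AlgebraicGeometry MonObj
open MonoidalCategory CartesianMonoidalCategory

namespace Groth.Agent.Lib.Helper3.GenFibEq

open Groth.Agent.Lib.Helper3.SchIm Groth.Agent.Lib.Helper3.GraphExt2

/-- morphisms from a flat scheme to a separated scheme agreeing after a schematically dominant
quasi-compact base change are equal -/
theorem eq_of_pullback_map_eq {S S' : Scheme.{u}} (t : S' ⟶ S) [IsSchemeTheoreticallyDominant t]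
    [QuasiCompact t] (X Y : Over S) [Flat X.hom] [IsSeparated Y.hom] (f g : X ⟶ Y)
    (h : (Over.pullback t).map f = (Over.pullback t).map g) : f = g := by
  have : IsSchemeTheoreticallyDominant (pullback.fst X.hom t) :=
    IsSchemeTheoreticallyDominant.of_isPullback (IsPullback.of_hasPullback X.hom t).flip
  ext1
  refine ext_of_schDominant_of_isSeparated Y.hom ?_ (pullback.fst X.hom t) ?_
  · rw [Over.w f, Over.w g]
  · rw [← pullback_map_left_fst t f, ← pullback_map_left_fst t g, h]

theorem isCommMonObj_of_bc {S S' : Scheme.{u}} (t : S' ⟶ S) [IsSchemeTheoreticallyDominant t]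
    [QuasiCompact t] (G : Over S) [GrpObj G] [Flat G.hom] [IsSeparated G.hom]
    [hc : IsCommMonObj (Red.bc t G)] : IsCommMonObj G := by
  constructor
  have : Flat (G ⊗ G).hom := by
    have : (G ⊗ G).hom = pullback.fst G.hom G.hom ≫ G.hom := rfl
    rw [this]; infer_instance
  apply eq_of_pullback_map_eq t (G ⊗ G) G
  have h1 := hc.mul_comm
  rw [Functor.obj.μ_def, ← Functor.LaxBraided.braided_assoc] at h1
  rw [Functor.map_comp]
  exact (cancel_epi (Functor.LaxMonoidal.μ (Over.pullback t) G G)).mp h1

end Groth.Agent.Lib.Helper3.GenFibEq
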