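import Groth.Agent.Lib.Helper3.QfOpen
import Groth.Agent.S10268

set_option autoImplicit false
universe u w

namespace Groth.Agent.Lib.Helper3.GenFinSp

open CategoryTheory CategoryTheory.Limits AlgebraicGeometry Opposite AlgSp
open Groth.Agent.Lib.Helper3

variable {S : Scheme.{u}}

/-- **Finiteness via a chart**: an algebraic space over a scheme `B` with an etale surjective chart
`U` finite over `B` whose relation `R = U ×_X U` is finite over `B`, is finite over `B`. -/
theorem isFiniteMor_of_chart {Xs : Sp S} (hXs : IsAlgSpace Xs) {B U R : Over S}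
    (p : Xs ⟶ (yon S).obj B) (c : (yon S).obj U ⟶ Xs) (hce : RepWith @Etale c)
    (hcs : RepWith @Surjective c) (h : U ⟶ B) (hh : (yon S).map h = c ≫ p) (s t : R ⟶ U)
    (sqR : IsPullback ((yon S).map t) ((yon S).map s) c c) (hfin : IsFinite h.left)
    (hRfin : IsFinite (s ≫ h).left) : IsFiniteMor p := by
  have hB : IsAlgSpace ((yon S).obj B) := IsAlgSpace.yon_obj B
  have hU : IsAlgSpace ((yon S).obj U) := IsAlgSpace.yon_obj U
  -- `s` is finite
  have hs : IsFinite s.left := by
    have h1 : IsFinite (s.left ≫ h.left) := hRfin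
    exact IsFinite.of_comp s.left h.left
  -- the chart is finite
  have hcfin : IsFiniteMor c :=
    (Groth.Agent.S10268.result (X := ⟨(yon S).obj U, hU⟩) (Y := ⟨Xs, hXs⟩)
      (ObjectProperty.homMk c) U c hce hcs ((yon S).map t) ((yon S).map s) sqR).2
      ((isFiniteMor_iff_repWith _).2 ((repWith_yon_map_iff _ _).2 hs))
  have hcuc : IsUnivClosedMor c := (PropQF.proper_lqf_of_isFiniteMor c hcfin).1.2.2
  -- `h` is proper
  have hhfin : IsFiniteMor ((yon S).map h) :=
    (isFiniteMor_iff_repWith _).2 ((repWith_yon_map_iff _ _).2 hfin)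
  have hhprop : IsProperMor (c ≫ p) := by
    rw [← hh]
    exact (PropQF.proper_lqf_of_isFiniteMor _ hhfin).1
  -- `p` is locally quasi-finite
  have hplqf : LocP (@LocallyQuasiFinite ⊓ @LocallyOfFiniteType) p := by
    refine locP_of_chart isEtLocal_locallyQuasiFinite p c hce hcs (𝟙 _) (repWith_id _ B) h ?_ ?_
    · rw [Category.comp_id, hh]
    · exact ⟨inferInstance, inferInstance⟩
  have hplft : LocP @LocallyOfFiniteType p := fun U' V' a b k ha hb w => (hplqf a b k ha hb w).2
  -- `p` is proper
  have hpprop : IsProperMor p :=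
    SepDesc.isProperMor_of_family (W := ⟨Xs, hXs⟩) (B := ⟨(yon S).obj B, hB⟩)
      (ObjectProperty.homMk p) hplft (ι := Unit) (fun _ => ⟨(yon S).obj U, hU⟩)
      (fun _ => ObjectProperty.homMk c) (fun _ => hcuc) (fun _ => hhprop)
      (fun w => by
        obtain ⟨x, hx⟩ := surjective_map_of_repWith hcs w
        exact ⟨(), x, hx⟩)
  exact PropQF.isFiniteMor_of_proper_lqf hXs hB p hpprop.1 hpprop.2.1.2 hpprop.2.2 hplqf

end Groth.Agent.Lib.Helper3.GenFinSp
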