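import Groth.Agent.Lib.Helper3.GenFinSp1

set_option autoImplicit false
universe u w v

namespace Groth.Agent.Lib.Helper3.GenFinSp

open CategoryTheory CategoryTheory.Limits

/-- **Base change of chart data** (purely categorical): the base change of a chart `c : U ⟶ Xs`
with kernel pair `R` along `o : B' ⟶ B` is a chart of the base change of `Xs` whose kernel pair is
the base change of `R`. -/
theorem exists_baseChange_chart {C : Type u} [Category.{v} C] {Xs B B' U U' R R' X' : C}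
    (p : Xs ⟶ B) (o : B' ⟶ B) (c : U ⟶ Xs) (h : U ⟶ B) (hh : h = c ≫ p) (s t : R ⟶ U)
    (sqR : IsPullback t s c c) (uo : U' ⟶ U) (h' : U' ⟶ B') (sqU : IsPullback uo h' h o)
    (ro : R' ⟶ R) (ρ' : R' ⟶ B') (sqR' : IsPullback ro ρ' (s ≫ h) o)
    (fstX : X' ⟶ Xs) (p' : X' ⟶ B') (sqX : IsPullback fstX p' p o) :
    ∃ (c' : U' ⟶ X') (s' t' : R' ⟶ U'), c' ≫ fstX = uo ≫ c ∧ c' ≫ p' = h' ∧
      IsPullback c' uo fstX c ∧ s' ≫ uo = ro ≫ s ∧ t' ≫ uo = ro ≫ t ∧ s' ≫ h' = ρ' ∧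
      IsPullback t' s' c' c' := by
  subst hh
  have wc' : (uo ≫ c) ≫ p = h' ≫ o := by rw [Category.assoc]; exact sqU.w
  let c' : U' ⟶ X' := sqX.lift (uo ≫ c) h' wc'
  have hc'1 : c' ≫ fstX = uo ≫ c := sqX.lift_fst _ _ _
  have hc'2 : c' ≫ p' = h' := sqX.lift_snd _ _ _
  have sqc' : IsPullback c' uo fstX c := by
    refine IsPullback.of_right ?_ hc'1 sqX.flip
    rw [hc'2]
    exact sqU.flip
  have ws' : (ro ≫ s) ≫ c ≫ p = ρ' ≫ o := by rw [Category.assoc]; exact sqR'.w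
  have wt' : (ro ≫ t) ≫ c ≫ p = ρ' ≫ o := by
    rw [Category.assoc, ← Category.assoc t, sqR.w, Category.assoc]
    exact sqR'.w
  let s' : R' ⟶ U' := sqU.lift (ro ≫ s) ρ' ws'
  let t' : R' ⟶ U' := sqU.lift (ro ≫ t) ρ' wt'
  have hs'1 : s' ≫ uo = ro ≫ s := sqU.lift_fst _ _ _
  have hs'2 : s' ≫ h' = ρ' := sqU.lift_snd _ _ _
  have ht'1 : t' ≫ uo = ro ≫ t := sqU.lift_fst _ _ _
  have ht'2 : t' ≫ h' = ρ' := sqU.lift_snd _ _ _
  have wts : t' ≫ c' = s' ≫ c' := by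
    apply sqX.hom_ext
    · rw [Category.assoc, Category.assoc, hc'1, ← Category.assoc, ← Category.assoc, ht'1, hs'1,
        Category.assoc, Category.assoc, sqR.w]
    · rw [Category.assoc, Category.assoc, hc'2, ht'2, hs'2]
  refine ⟨c', s', t', hc'1, hc'2, sqc', hs'1, ht'1, hs'2, ?_⟩
  refine IsPullback.of_isLimit (c := PullbackCone.mk t' s' wts) ?_
  have key : ∀ (W : C) (a b : W ⟶ U'), a ≫ c' = b ≫ c' →
      ∃ r' : W ⟶ R', r' ≫ t' = a ∧ r' ≫ s' = b ∧
        ∀ m : W ⟶ R', m ≫ t' = a → m ≫ s' = b → m = r' := by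
    intro W a b hab
    have w1 : (a ≫ uo) ≫ c = (b ≫ uo) ≫ c := by
      rw [Category.assoc, Category.assoc, ← hc'1, ← Category.assoc, ← Category.assoc, hab]
    let r : W ⟶ R := sqR.lift (a ≫ uo) (b ≫ uo) w1
    have hr1 : r ≫ t = a ≫ uo := sqR.lift_fst _ _ _
    have hr2 : r ≫ s = b ≫ uo := sqR.lift_snd _ _ _
    have hah : a ≫ h' = b ≫ h' := by
      rw [← hc'2, ← Category.assoc, ← Category.assoc, hab]
    have w2 : r ≫ s ≫ c ≫ p = (b ≫ h') ≫ o := by
      rw [← Category.assoc, hr2, Category.assoc, Category.assoc, sqU.w]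
    let r' : W ⟶ R' := sqR'.lift r (b ≫ h') w2
    have hr'1 : r' ≫ ro = r := sqR'.lift_fst _ _ _
    have hr'2 : r' ≫ ρ' = b ≫ h' := sqR'.lift_snd _ _ _
    refine ⟨r', ?_, ?_, ?_⟩
    · apply sqU.hom_ext
      · rw [Category.assoc, ht'1, ← Category.assoc, hr'1, hr1]
      · rw [Category.assoc, ht'2, hr'2, hah]
    · apply sqU.hom_ext
      · rw [Category.assoc, hs'1, ← Category.assoc, hr'1, hr2]
      · rw [Category.assoc, hs'2, hr'2]
    · intro m hm1 hm2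
      apply sqR'.hom_ext
      · rw [hr'1]
        apply sqR.hom_ext
        · rw [Category.assoc, ← ht'1, ← Category.assoc, hm1, hr1]
        · rw [Category.assoc, ← hs'1, ← Category.assoc, hm2, hr2]
      · rw [hr'2, ← hs'2, ← Category.assoc, hm2]
  choose lift hl1 hl2 hl3 using key
  exact PullbackCone.IsLimit.mk wts (fun sc => lift sc.pt sc.fst sc.snd sc.condition)
    (fun sc => hl1 _ _ _ _) (fun sc => hl2 _ _ _ _)
    (fun sc m h1 h2 => hl3 _ _ _ _ m h1 h2)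

end Groth.Agent.Lib.Helper3.GenFinSp
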