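import Mathlib
import Groth.Agent.Lib.Helper3.GenUniq3
import Groth.Agent.Lib.Helper3.GenDense10
import Groth.Agent.Lib.Helper3.DecFin4
import Groth.Agent.Lib.Helper3.DimLeInt
import Groth.Agent.Lib.Helper3.SchLoc5
set_option autoImplicit false
universe u
open CategoryTheory CategoryTheory.Limits AlgebraicGeometry TopologicalSpace

namespace Groth.Agent.Lib.Helper3.GenUniq

open AlgSp Groth.Agent.Lib.Helper3 Groth.Agent.Lib.lead.QFCodimSp FibCond

variable {S : Scheme.{u}}

/-- The generic point of an integral space has codimension zero, and is the only such point. -/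
theorem hasAt_D0_iff_eq_generic {X : AlgSp.Space S} (hXi : AlgSp.IsIntegralSp X.obj)
    (x : AlgSp.Points X.obj) (hx : IsGenericPoint x (Set.univ : Set (AlgSp.Points X.obj)))
    (x' : AlgSp.Points X.obj) : HasAt D0 X.obj x' ↔ x' = x := by
  haveI : QuasiSober (Points X.obj) := DecDense.quasiSober_points_of_isDecent X hXi.2.1
  haveI : T0Space (Points X.obj) := Groth.Agent.S10338.result X hXi.2.1
  haveI : IrreducibleSpace (Points X.obj) := hXi.2.2
  constructor
  · intro h
    exact DimLeInt.eq_generic_of_codim_zero hXi.2.1 x hx x' h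
  · rintro rfl
    rw [SchLoc.hasAt_codimZero_iff_isGenericPoint_component X hXi.2.1 x']
    exact ⟨Set.univ, by rw [irreducibleComponents_eq_singleton]; rfl, hx⟩

/-- A nonempty open subspace of an integral space contains a nonempty affine open subscheme. -/
theorem exists_affine_open_in_open {Y V' : AlgSp.Space S} (hYi : AlgSp.IsIntegralSp Y.obj)
    (j : V' ⟶ Y) (hj : RepWith @IsOpenImmersion j.hom) (hne : Nonempty (Points V'.obj)) :
    ∃ (V : Over S) (c : (yon S).obj V ⟶ V'.obj), IsAffine V.left ∧ Nonempty ↥V.left ∧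
      RepWith @IsOpenImmersion c := by
  have hVd : IsDecent V'.obj := isDecent_of_representable j.hom hj.1 hYi.2.1
  haveI : IrreducibleSpace (Points Y.obj) := hYi.2.2
  have hemb : Topology.IsOpenEmbedding (Points.map j.hom) :=
    ⟨(isEmbedding_map_of_immersion Y.property j.hom
      (repWith_mono GenDense.isOpenImmersion_le_isImmersion hj)).1,
      (isOpenMap_map_of_etale (repWith_mono isOpenImmersion_le_etale hj)).isOpen_range⟩
  have hpre : IsPreirreducible (Set.univ : Set (Points V'.obj)) := by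
    have := (IrreducibleSpace.isIrreducible_univ (Points Y.obj)).isPreirreducible.preimage hemb
    simpa using this
  haveI : IrreducibleSpace (Points V'.obj) :=
    { toPreirreducibleSpace := ⟨hpre⟩, toNonempty := hne }
  have hfin : (irreducibleComponents (Points V'.obj)).Finite := by
    rw [irreducibleComponents_eq_singleton]; exact Set.finite_singleton _
  obtain ⟨X₀, j₀, hj₀, hdense, -, -⟩ :=
    DecDense.exists_dense_open_subscheme_of_isDecent_finite V' hVd hfin
  obtain ⟨v'⟩ := hne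
  obtain ⟨_, ⟨x₀, rfl⟩⟩ := hdense.nonempty
  obtain ⟨W₀, hW₀, hxW⟩ : ∃ W₀ : X₀.left.Opens, IsAffineOpen W₀ ∧ x₀ ∈ W₀ := by
    obtain ⟨_, ⟨W, hW, rfl⟩, huW, -⟩ := (X₀.left.isBasis_affineOpens).exists_subset_of_mem_open
      (Set.mem_univ x₀) isOpen_univ
    exact ⟨W, hW, huW⟩
  refine ⟨Over.mk (W₀.ι ≫ X₀.hom), chartRestrict j₀ W₀, hW₀, ⟨⟨x₀, hxW⟩⟩, ?_⟩
  refine (RepWith @IsOpenImmersion).comp_mem _ _ ?_ hj₀
  rw [repWith_yon_map_iff]
  change IsOpenImmersion W₀.ι
  infer_instance

section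
variable {X Y : AlgSp.Space S} (hXi : AlgSp.IsIntegralSp X.obj) (hYi : AlgSp.IsIntegralSp Y.obj)
  (f : X ⟶ Y) (hft : AlgSp.LocP @LocallyOfFiniteType f.hom) (hd : AlgSp.IsDominantMor f.hom)
  (x : AlgSp.Points X.obj) (hx : IsGenericPoint x (Set.univ : Set (AlgSp.Points X.obj)))
  (y : AlgSp.Points Y.obj) (hy : IsGenericPoint y (Set.univ : Set (AlgSp.Points Y.obj)))

include hXi hYi hft hd hx hy in
theorem main10488 (hsq : AlgSp.IsSeparatedMor f.hom ∨ AlgSp.IsQuasiCompactMor f.hom) :
    (∀ x' : AlgSp.Points X.obj, AlgSp.Points.map f.hom x' = y → x' = x) ↔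
      ∃ (V : Over S) (b : (AlgSp.yon S).obj V ⟶ Y.obj) (U : Over S) (g : U ⟶ V) (a : (AlgSp.yon S).obj U ⟶ X.obj),
        IsAffine V.left ∧ Nonempty ↥V.left ∧ AlgSp.RepWith @IsOpenImmersion b ∧
          IsPullback a ((AlgSp.yon S).map g) f.hom b ∧ IsAffine U.left ∧ IsFinite g.left := by
  have hxy := map_generic hYi f hd x hx y hy
  constructor
  · intro hu
    have hX0 : {x' : AlgSp.Points X.obj | AlgSp.HasAt D0 X.obj x'}.Finite := by
      refine (Set.finite_singleton x).subset ?_
      intro x' hx'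
      exact (hasAt_D0_iff_eq_generic hXi x hx x').1 hx'
    have hY0 : {y' : AlgSp.Points Y.obj | AlgSp.HasAt D0 Y.obj y'}.Finite := by
      refine (Set.finite_singleton y).subset ?_
      intro y' hy'
      exact (hasAt_D0_iff_eq_generic hYi y hy y').1 hy'
    have hpre : ∀ x' : AlgSp.Points X.obj, AlgSp.HasAt D0 X.obj x' ↔
        AlgSp.HasAt D0 Y.obj (AlgSp.Points.map f.hom x') := by
      intro x'
      rw [hasAt_D0_iff_eq_generic hXi x hx, hasAt_D0_iff_eq_generic hYi y hy]
      constructor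
      · rintro rfl; exact hxy
      · exact hu x'
    obtain ⟨V', X', j, fst, snd, hj, hdense, sq, hfin⟩ :=
      GenDense.main10400 f hft hYi.2.1 hX0 hY0 hpre hsq.symm
    haveI : IrreducibleSpace (Points Y.obj) := hYi.2.2
    have hne : Nonempty (Points V'.obj) := by
      obtain ⟨_, ⟨v, rfl⟩⟩ := hdense.nonempty
      exact ⟨v⟩
    obtain ⟨V, c, hVa, hVne, hc⟩ := exists_affine_open_in_open hYi j hj hne
    obtain ⟨W, i, fst', sq', hWa, hi⟩ := hfin hVa c
    refine ⟨V, c ≫ j.hom, W, i, fst' ≫ snd.hom, hVa, hVne,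
      (RepWith @IsOpenImmersion).comp_mem _ _ hc hj, sq'.paste_horiz sq.flip, hWa, hi⟩
  · rintro ⟨V, b, U, g, a, hVa, hVne, hb, sq, hUa, hg⟩
    rw [← qfq_iff_unique hXi hYi f hd x hx y hy hft]
    have hfin : IsFiniteMor ((yon S).map g) := by
      rw [isFiniteMor_iff_repWith, repWith_yon_map_iff]
      exact hg
    refine hasAtMor_QFQ_of_finite_over_open X.property Y.property (IsAlgSpace.yon_obj V) f.hom hft b
      _ _ sq.flip hfin x ?_
    rw [hxy]
    obtain ⟨v⟩ := hVne
    exact generic_mem_range_of_isOpenImmersion y hy b hb ⟨Points.ofPt (𝟙 _) v⟩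

end

end Groth.Agent.Lib.Helper3.GenUniq
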