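import Mathlib
import Groth.Agent.Lib.Helper3.GenUniq4
import Groth.Agent.Lib.Helper3.GenFinSp3
set_option autoImplicit false
universe u
open CategoryTheory CategoryTheory.Limits AlgebraicGeometry TopologicalSpace

namespace Groth.Agent.Lib.Helper3.GenUniq

open AlgSp Groth.Agent.Lib.Helper3 Groth.Agent.Lib.lead.QFCodimSp FibCond GenFinSp

variable {S : Scheme.{u}}

section
variable {X Y : AlgSp.Space S} (hXi : AlgSp.IsIntegralSp X.obj) (hYi : AlgSp.IsIntegralSp Y.obj)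
  (f : X ⟶ Y) (hft : AlgSp.LocP @LocallyOfFiniteType f.hom) (hd : AlgSp.IsDominantMor f.hom)
  (x : AlgSp.Points X.obj) (hx : IsGenericPoint x (Set.univ : Set (AlgSp.Points X.obj)))
  (y : AlgSp.Points Y.obj) (hy : IsGenericPoint y (Set.univ : Set (AlgSp.Points Y.obj)))

include hXi hYi hd hx hy in
/-- Affine open charts of source and target around the generic points. -/
theorem exists_affine_open_charts :
    ∃ (U₀ V₀ : Over S) (a₀ : (yon S).obj U₀ ⟶ X.obj) (c₀ : (yon S).obj V₀ ⟶ Y.obj) (g₀ : U₀ ⟶ V₀)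
      (u₀ : ↥U₀.left),
      IsAffine U₀.left ∧ IsAffine V₀.left ∧ RepWith @IsOpenImmersion a₀ ∧
        RepWith @IsOpenImmersion c₀ ∧ a₀ ≫ f.hom = (yon S).map g₀ ≫ c₀ ∧ Points.ofPt a₀ u₀ = x := by
  have hxy := map_generic hYi f hd x hx y hy
  have hid : RepWith @IsOpenImmersion (𝟙 Y : Y ⟶ Y).hom :=
    MorphismProperty.of_isIso (RepWith @IsOpenImmersion) (𝟙 Y.obj)
  obtain ⟨V₀, c₀, hV₀a, hV₀ne, hc₀⟩ := exists_affine_open_in_open hYi (𝟙 Y) hid ⟨y⟩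
  have hc₀' : RepWith @IsOpenImmersion (show (yon S).obj V₀ ⟶ Y.obj from c₀) := hc₀
  obtain ⟨c₀', hc₀e⟩ : ∃ c₀' : (yon S).obj V₀ ⟶ Y.obj, c₀' = c₀ := ⟨_, rfl⟩
  have hc₀'' : RepWith @IsOpenImmersion c₀' := hc₀e ▸ hc₀
  have sq := IsPullback.of_hasPullback f.hom c₀'
  have hX₁ : IsAlgSpace (pullback f.hom c₀') :=
    isAlgSpace_of_isPullback' Y.property X.property (IsAlgSpace.yon_obj V₀) sq
  have hj₁ : RepWith @IsOpenImmersion (pullback.fst f.hom c₀') :=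
    MorphismProperty.of_isPullback sq.flip hc₀''
  have hne₁ : Nonempty (Points (pullback f.hom c₀')) := by
    obtain ⟨v₀⟩ := hV₀ne
    have hy' := generic_mem_range_of_isOpenImmersion y hy c₀' hc₀'' ⟨Points.ofPt (𝟙 _) v₀⟩
    obtain ⟨v, hv⟩ := hy'
    obtain ⟨p, -, -⟩ := Points.exists_of_isPullback sq x v (hxy.trans hv.symm)
    exact ⟨p⟩
  obtain ⟨U₀, c₁, hU₀a, hU₀ne, hc₁⟩ := exists_affine_open_in_open (V' := ⟨_, hX₁⟩) hXi
    (ObjectProperty.homMk (pullback.fst f.hom c₀')) hj₁ hne₁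
  obtain ⟨c₁', hc₁e⟩ : ∃ c₁' : (yon S).obj U₀ ⟶ pullback f.hom c₀', c₁' = c₁ := ⟨_, rfl⟩
  have hc₁' : RepWith @IsOpenImmersion c₁' := hc₁e ▸ hc₁
  obtain ⟨g₀, hg₀⟩ := (yon S).map_surjective (c₁' ≫ pullback.snd f.hom c₀')
  have ha₀ : RepWith @IsOpenImmersion (c₁' ≫ pullback.fst f.hom c₀') :=
    (RepWith @IsOpenImmersion).comp_mem _ _ hc₁' hj₁
  obtain ⟨u₀⟩ := hU₀ne
  have hx' := generic_mem_range_of_isOpenImmersion x hx (c₁' ≫ pullback.fst f.hom c₀') ha₀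
    ⟨Points.ofPt (𝟙 _) u₀⟩
  rw [range_map_eq_range_ofPt] at hx'
  obtain ⟨u, hu⟩ := hx'
  refine ⟨U₀, V₀, c₁' ≫ pullback.fst f.hom c₀', c₀', g₀, u, hU₀a, hV₀a, ha₀, hc₀'', ?_, hu⟩
  rw [Category.assoc, pullback.condition, ← Category.assoc, hg₀]

include hXi hYi hft hd hx hy in
theorem main10487 :
    (∃ (U V : Over S) (a : (AlgSp.yon S).obj U ⟶ X.obj) (b : (AlgSp.yon S).obj V ⟶ Y.obj) (g : U ⟶ V),
      IsAffine U.left ∧ IsAffine V.left ∧ Nonempty ↥U.left ∧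
        AlgSp.RepWith @IsOpenImmersion a ∧ AlgSp.RepWith @IsOpenImmersion b ∧
          a ≫ f.hom = (AlgSp.yon S).map g ≫ b ∧ IsFinite g.left) ↔ (∀ x' : AlgSp.Points X.obj, AlgSp.Points.map f.hom x' = y → x' = x) := by
  rw [← qfq_iff_unique hXi hYi f hd x hx y hy hft]
  constructor
  · rintro ⟨U, V, a, b, g, hUa, hVa, hUne, ha, hb, w, hg⟩
    obtain ⟨u₁⟩ := hUne
    have hx' := generic_mem_range_of_isOpenImmersion x hx a ha ⟨Points.ofPt (𝟙 _) u₁⟩
    rw [range_map_eq_range_ofPt] at hx'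
    obtain ⟨u, hu⟩ := hx'
    exact ⟨U, V, a, b, g, u, repWith_mono isOpenImmersion_le_etale ha,
      repWith_mono isOpenImmersion_le_etale hb, w, hu,
      QFQ_of_quasiFiniteAt g.left u (g.left.quasiFiniteAt u)⟩
  · intro hq
    have hu := (qfq_iff_unique hXi hYi f hd x hx y hy hft).1 hq
    obtain ⟨U₀, V₀, a₀, c₀, g₀, u₀, hU₀a, hV₀a, ha₀, hc₀, w, hu₀⟩ :=
      exists_affine_open_charts hXi hYi f hd x hx y hy
    have ha₀e := repWith_mono isOpenImmersion_le_etale ha₀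
    have hc₀e := repWith_mono isOpenImmersion_le_etale hc₀
    haveI : LocallyOfFiniteType g₀.left := hft a₀ c₀ g₀ ha₀e hc₀e w
    have hv₀ : Points.ofPt c₀ (g₀.left u₀) = y := by
      rw [ofPt_map_of_comm f.hom a₀ c₀ g₀ w, hu₀]
      exact map_generic hYi f hd x hx y hy
    have hη : ∀ v' : ↥V₀.left, v' ⤳ g₀.left u₀ → v' = g₀.left u₀ := fun v' hs =>
      eq_of_specializes_generic hYi y hy c₀ hc₀e (g₀.left u₀) v' hv₀ hs
    have hqf : ∀ u : ↥U₀.left, g₀.left u = g₀.left u₀ → g₀.left.QuasiFiniteAt u := by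
      intro u hu'
      have h1 : Points.ofPt a₀ u = x := by
        apply hu
        rw [← ofPt_map_of_comm f.hom a₀ c₀ g₀ w, hu', hv₀]
      obtain ⟨U', V', a', b', h', u', ha', hb', w', hx', hQ⟩ := hq
      exact quasiFiniteAt_of_charts f.hom a₀ c₀ g₀ a' b' h' ha₀e hc₀e ha' hb' w w' u u'
        (h1.trans hx'.symm) (quasiFiniteAt_of_QFQ h'.left u' hQ)
    obtain ⟨O, hvO, hO⟩ := Groth.Agent.Lib.lead.GenFiniteSep.main g₀.left (g₀.left u₀) hη hqf
    obtain ⟨_, ⟨(W : V₀.left.Opens), hW : IsAffineOpen W, rfl⟩, hvW, hWO⟩ :=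
      (V₀.left.isBasis_affineOpens).exists_subset_of_mem_open hvO O.2
    have hWfin : IsFinite (g₀.left ∣_ W) :=
      Groth.Agent.Lib.lead.GenFiniteSep.isFinite_morphismRestrict_of_le g₀.left hWO hO
    have hWa : IsAffine (opOver V₀ W).left := hW
    have hUa : IsAffine (opOver U₀ (g₀.left ⁻¹ᵁ W)).left := by
      have : IsAffine (W : Scheme.{u}) := hW
      exact isAffine_of_isAffineHom (g₀.left ∣_ W)
    refine ⟨opOver U₀ (g₀.left ⁻¹ᵁ W), opOver V₀ W, (yon S).map (opι U₀ _) ≫ a₀,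
      (yon S).map (opι V₀ W) ≫ c₀, opRes g₀ W, hUa, hWa, ⟨⟨u₀, hvW⟩⟩, ?_, ?_, ?_, hWfin⟩
    · refine (RepWith @IsOpenImmersion).comp_mem _ _ ?_ ha₀
      rw [repWith_yon_map_iff]
      change IsOpenImmersion (g₀.left ⁻¹ᵁ W).ι
      infer_instance
    · refine (RepWith @IsOpenImmersion).comp_mem _ _ ?_ hc₀
      rw [repWith_yon_map_iff]
      change IsOpenImmersion W.ι
      infer_instance
    · rw [Category.assoc, w, ← Category.assoc, ← Category.assoc, ← Functor.map_comp,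
        ← Functor.map_comp, (isPullback_opRes g₀ W).w]

end

end Groth.Agent.Lib.Helper3.GenUniq
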