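import Mathlib
import Groth.Agent.Lib.Helper3.GeomInt1
import Groth.Agent.Lib.Helper3.BiratD4
import Groth.Agent.Lib.Helper3.AlgSpQC7
import Groth.Agent.Lib.Helper3.AlgSpDecent2
import Groth.Agent.Lib.Helper3.SpCoprod
import Groth.Agent.Lib.Helper3.AlgSpHasAtMor
set_option autoImplicit false
universe u
open CategoryTheory CategoryTheory.Limits AlgebraicGeometry TopologicalSpace

namespace Groth.Agent.Lib.Helper3.GeomInt

open Groth.Agent.Lib.Helper3 AlgSp

variable {k : Type u} [Field k]

/-- Geometric reducedness at a point of a chart only depends on the point of the space. -/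
theorem isGeomReducedAt_of_ofPt_eq {X : Sp (Spec (CommRingCat.of k))}
    {U U' : Over (Spec (CommRingCat.of k))}
    (a : (yon _).obj U ⟶ X) (a' : (yon _).obj U' ⟶ X) (ha : RepWith @Etale a)
    (ha' : RepWith @Etale a') (u : ↥U.left) (u' : ↥U'.left)
    (h : Points.ofPt a u = Points.ofPt a' u') (hg : FBase.IsGeomReducedAt U'.hom u') :
    FBase.IsGeomReducedAt U.hom u := by
  obtain ⟨W, pU, pT, sq⟩ := exists_pullback_charts a ha.1 a'
  obtain ⟨w, hw1, hw2⟩ := exists_of_ofPt_eq_of_isPullback sq u u' h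
  haveI : Etale pT.left := ha.2 a' ((yon _).map pU) pT sq
  haveI : Etale pU.left := ha'.2 a ((yon _).map pT) pU sq.flip
  rw [← hw2] at hg
  have h1 := (isGeomReducedAt_iff_of_etale pT.left U'.hom w).2 hg
  rw [Over.w pT, ← Over.w pU] at h1
  have h2 := (isGeomReducedAt_iff_of_etale pU.left U.hom w).1 h1
  rwa [hw1] at h2

end Groth.Agent.Lib.Helper3.GeomInt

namespace Groth.Agent.Lib.Helper3.GeomInt

open Groth.Agent.Lib.Helper3 AlgSp

variable {k : Type u} [Field k]

/-- The `k`-scheme `Spec K`. -/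
noncomputable abbrev Kov (k : Type u) [Field k] (K : Type u) [Field K] [Algebra k K] :
    Over (Spec (CommRingCat.of k)) :=
  Over.mk (Spec.map (CommRingCat.ofHom (algebraMap k K)))

theorem isReduced_prod_iff (U : Over (Spec (CommRingCat.of k))) (K : Type u) [Field K]
    [Algebra k K] : IsReduced (U ⨯ Kov k K).left ↔ IsReduced (FBase.bc U.hom K) := by
  let e : (U ⨯ Kov k K).left ≅ FBase.bc U.hom K := Over.prodLeftIsoPullback U (Kov k K)
  constructor
  · intro h
    exact isReduced_of_isOpenImmersion e.inv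
  · intro h
    exact isReduced_of_isOpenImmersion e.hom

theorem isDecent_prod {X : Sp (Spec (CommRingCat.of k))} (hX : IsDecent X) (K : Type u) [Field K]
    [Algebra k K] : IsDecent (X ⨯ (yon _).obj (Kov k K)) := by
  let B : Over (Spec (CommRingCat.of k)) := Over.mk (𝟙 _)
  have tB : IsTerminal ((yon _).obj B) := SpCoprod.isTerminalYonBase
  let f : X ⟶ (yon _).obj B := tB.from _
  let g : (yon _).obj (Kov k K) ⟶ (yon _).obj B := tB.from _
  have sq : IsPullback (prod.fst : X ⨯ (yon _).obj (Kov k K) ⟶ X)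
      (prod.snd : X ⨯ (yon _).obj (Kov k K) ⟶ (yon _).obj (Kov k K)) f g :=
    IsPullback.of_is_product (c := BinaryFan.mk prod.fst prod.snd) (prodIsProd _ _) tB
  have hg : Representable g := (IsAlgSpace.yon_obj B).representable_from_yon g
  have hfst : Representable (prod.fst : X ⨯ (yon _).obj (Kov k K) ⟶ X) :=
    MorphismProperty.of_isPullback (P := Representable) sq.flip hg
  exact isDecent_of_representable _ hfst hX

end Groth.Agent.Lib.Helper3.GeomInt

namespace Groth.Agent.Lib.Helper3.GeomInt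

open Groth.Agent.Lib.Helper3 AlgSp

theorem main10497 (k : Type u) [Field k] (X : AlgSp.Space (Spec (CommRingCat.of k))) (hX : AlgSp.IsDecent X.obj) :
    (∀ (K : Type u) [Field K] [Algebra k K], AlgSp.IsIntegralSp (X.obj ⨯ (AlgSp.yon (Spec (CommRingCat.of k))).obj (Over.mk (Spec.map (CommRingCat.ofHom (algebraMap k K)))))) ↔
      (∀ x : AlgSp.Points X.obj, (∃ (U : Over (Spec (CommRingCat.of k))) (a : (AlgSp.yon (Spec (CommRingCat.of k))).obj U ⟶ X.obj) (u : ↥U.left),
      AlgSp.RepWith @Etale a ∧ AlgSp.Points.ofPt a u = x ∧ FBase.IsGeomReducedAt U.hom u)) ∧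
        ∀ (K : Type u) [Field K] [Algebra k K], IrreducibleSpace (AlgSp.Points (X.obj ⨯ (AlgSp.yon (Spec (CommRingCat.of k))).obj (Over.mk (Spec.map (CommRingCat.ofHom (algebraMap k K)))))) := by
  constructor
  · intro hint
    refine ⟨fun x => ?_, fun K _ _ => (hint K).2.2⟩
    obtain ⟨U, a, u, -, ha, hu⟩ := exists_affine_chart_through X.property x
    refine ⟨U, a, u, ha, hu, ?_⟩
    intro K _ _ x' _
    have hch : RepWith @Etale (prodComparison (yon _) U (Kov k K) ≫
        prod.map a (𝟙 ((yon _).obj (Kov k K)))) :=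
      repWith_prodComparison_prod_map @Etale a (𝟙 _) ha (repWith_id _ _)
    have hred : IsReduced (U ⨯ Kov k K).left := BiratD.isReduced_of_etale_chart (hint K).1 _ hch
    have : IsReduced (FBase.bc U.hom K) := (isReduced_prod_iff U K).1 hred
    infer_instance
  · rintro ⟨hgr, hirr⟩ K _ _
    refine ⟨?_, isDecent_prod hX K, hirr K⟩
    obtain ⟨U, p, hpe, hps⟩ := X.property.atlas
    refine ⟨U ⨯ Kov k K, prodComparison (yon _) U (Kov k K) ≫
        prod.map p (𝟙 ((yon _).obj (Kov k K))),
      repWith_prodComparison_prod_map @Etale p (𝟙 _) hpe (repWith_id _ _),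
      repWith_prodComparison_prod_map @Surjective p (𝟙 _) hps (repWith_id _ _), ?_⟩
    change IsReduced (U ⨯ Kov k K).left
    rw [isReduced_prod_iff]
    have : ∀ x' : ↥(FBase.bc U.hom K), _root_.IsReduced ((FBase.bc U.hom K).presheaf.stalk x') := by
      intro x'
      obtain ⟨U', a', u', ha', hu', hg⟩ := hgr (Points.ofPt p ((FBase.bcπ U.hom K).base x'))
      exact isGeomReducedAt_of_ofPt_eq p a' hpe ha' _ u' hu'.symm hg K x' rfl
    exact isReduced_of_isReduced_stalk _

end Groth.Agent.Lib.Helper3.GeomInt
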