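import Groth.Agent.Lib.Helper3.FieldEmb
import Groth.Agent.Lib.Helper3.AlgSpGeomLift
import Groth.Agent.Lib.Helper3.AlgSpFpqcLocal
import Groth.Agent.Lib.Helper3.AlgSpEtPoint

set_option autoImplicit false
universe u

namespace Groth.Agent.Lib.Helper3.GeomLiftLarge

open CategoryTheory CategoryTheory.Limits AlgebraicGeometry Opposite AlgSp Cardinal
open Groth.Agent.Lib.Helper3

variable {S : Scheme.{u}}

/-- A morphism from the spectrum of a field factors through the residue field of the image of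
the closed point. -/
theorem exists_residueField_hom {K : Type u} [Field K] {X : Scheme.{u}}
    (g : Spec (CommRingCat.of K) ⟶ X) (x : X) (hx : g (IsLocalRing.closedPoint K) = x) :
    ∃ φ : X.residueField x ⟶ CommRingCat.of K, Spec.map φ ≫ X.fromSpecResidueField x = g := by
  subst hx
  exact ⟨_, Scheme.descResidueField_stalkClosedPointTo_fromSpecResidueField K X g⟩

/-- Embedding over `L` of an extension `K₁` into an algebraically closed field `k`, where `K₁`
is algebraic over a field `K` with `#K < #k`. -/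
theorem exists_ringHom_comp_eq {L K K₁ k : Type u} [Field L] [Field K] [Field K₁] [Field k]
    [IsAlgClosed k] [Algebra K K₁] [Algebra.IsAlgebraic K K₁] (h : #K < #k)
    (φ₁ : L →+* K₁) (φ₂ : L →+* k) : ∃ σ : K₁ →+* k, σ.comp φ₁ = φ₂ := by
  letI : Algebra L K₁ := φ₁.toAlgebra
  letI : Algebra L k := φ₂.toAlgebra
  suffices hne : Nonempty (K₁ →ₐ[L] k) by
    obtain ⟨σ⟩ := hne
    exact ⟨σ.toRingHom, RingHom.ext fun x => σ.commutes x⟩
  by_cases hK : Infinite K
  · refine FieldEmb.exists_algHom_of_card_lt L K₁ k ?_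
    have h1 : #K₁ ≤ max #K ℵ₀ := Algebra.IsAlgebraic.cardinalMk_le_max K K₁
    have h2 : ℵ₀ ≤ #K := aleph0_le_mk K
    rw [max_eq_left h2] at h1
    exact lt_of_le_of_lt h1 h
  · haveI : Finite K := not_infinite_iff_finite.1 hK
    haveI : Module.Finite ℤ K := Module.Finite.of_finite
    haveI : Algebra.IsIntegral ℤ K := Algebra.IsIntegral.of_finite ℤ K
    haveI : Algebra.IsIntegral K K₁ := Algebra.IsAlgebraic.isIntegral
    haveI : Algebra.IsIntegral ℤ K₁ := Algebra.IsIntegral.trans (R := ℤ) K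
    haveI : Algebra.IsAlgebraic L K₁ :=
      ⟨fun x => ((Algebra.IsIntegral.isIntegral (R := ℤ) x).tower_top (A := L)).isAlgebraic⟩
    exact ⟨IsAlgClosed.lift⟩

theorem main10000 {X Y : AlgSp.Space S} (f : X ⟶ Y)
    {U : Over S} (a : (AlgSp.yon S).obj U ⟶ X.obj) (ha : AlgSp.RepWith @Etale a)
    (has : AlgSp.RepWith @Surjective a)
    (ybar : AlgSp.FieldPt Y.obj) (hy : ybar.IsGeometric)
    (hk : ∀ u : ↥U.left, Cardinal.mk ↥(U.left.residueField u) < Cardinal.mk ybar.K)
    (x : AlgSp.Points X.obj) (hx : AlgSp.Points.map f.hom x = AlgSp.Points.mk ybar) :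
    ∃ xbar : (AlgSp.yon S).obj ybar.pt ⟶ X.obj, xbar ≫ f.hom = ybar.toHom ∧
      AlgSp.Points.ofPt xbar (IsLocalRing.closedPoint ybar.K) = x := by
  haveI : IsAlgClosed ybar.K := hy
  obtain ⟨u₀, hu₀⟩ := exists_ofPt_eq a has x
  let K := U.left.residueField u₀
  let Kb := AlgebraicClosure K
  let ι : CommRingCat.of K ⟶ CommRingCat.of Kb := CommRingCat.ofHom (algebraMap K Kb)
  let gU : Spec (.of Kb) ⟶ U.left := Spec.map ι ≫ U.left.fromSpecResidueField u₀
  let strb : Spec (.of Kb) ⟶ S := gU ≫ U.hom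
  let jU : Over.mk strb ⟶ U := Over.homMk gU rfl
  let qb : FieldPt Y.obj := fieldPtOfHom Kb strb ((yon S).map jU ≫ a ≫ f.hom)
  have hqb : qb.toHom = (yon S).map jU ≫ a ≫ f.hom := toHom_fieldPtOfHom _ _ _
  have hqg : qb.IsGeometric := (inferInstance : IsAlgClosed Kb)
  have hgU : ∀ t, gU t = u₀ := fun t => by
    change (Spec.map ι ≫ U.left.fromSpecResidueField u₀) t = u₀
    rw [Scheme.Hom.comp_apply, Scheme.fromSpecResidueField_apply]
  have hqx : Points.mk qb = Points.map f.hom x := by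
    have h1 : Points.ofPt ((yon S).map jU ≫ a ≫ f.hom) (IsLocalRing.closedPoint Kb) =
        Points.mk qb := by
      have := Points.ofPt_toHom qb (IsLocalRing.closedPoint Kb)
      rw [hqb] at this
      exact this
    rw [← h1, ← hu₀, Points.map_ofPt, Points.ofPt_yon_map_comp]
    congr 1
    exact hgU _
  obtain ⟨V, b, hbe, hbs⟩ := Y.property.atlas
  obtain ⟨v₀, hv₀⟩ := exists_ofPt_eq b hbs (Points.map f.hom x)
  have hbE : IsEtaleMor b := isEtaleMor_of_repWith_etale hbe
  obtain ⟨yt, hyt, hytp⟩ := exists_lift_geometric_point (IsAlgSpace.yon_obj V) Y.property b hbE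
    ybar hy (Points.ofPt (𝟙 _) v₀) (by rw [Points.map_ofPt, Category.id_comp, hv₀, hx])
  obtain ⟨yt', rfl⟩ := (yon S).map_surjective yt
  have hv₁ : yt'.left (IsLocalRing.closedPoint ybar.K) = v₀ := by
    have := congrArg (Points.toScheme V) hytp
    rwa [Points.toScheme_ofPt, Points.toScheme_ofScheme] at this
  obtain ⟨vt, hvt, hvtp⟩ : ∃ vt : (yon S).obj (Over.mk strb) ⟶ (yon S).obj V,
      vt ≫ b = (yon S).map jU ≫ a ≫ f.hom ∧
        Points.ofPt vt (IsLocalRing.closedPoint Kb) = Points.ofPt (𝟙 _) v₀ := by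
    obtain ⟨vt, h1, h2⟩ := exists_lift_geometric_point (IsAlgSpace.yon_obj V) Y.property b hbE
      qb hqg (Points.ofPt (𝟙 _) v₀) (by rw [Points.map_ofPt, Category.id_comp, hv₀, hqx])
    exact ⟨vt, h1.trans hqb, h2⟩
  obtain ⟨vt', rfl⟩ := (yon S).map_surjective vt
  have hv₂ : vt'.left (IsLocalRing.closedPoint Kb) = v₀ := by
    have := congrArg (Points.toScheme V) hvtp
    rwa [Points.toScheme_ofPt, Points.toScheme_ofScheme] at this
  obtain ⟨φ₂, hφ₂⟩ := exists_residueField_hom yt'.left v₀ hv₁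
  obtain ⟨φ₁, hφ₁⟩ := exists_residueField_hom vt'.left v₀ hv₂
  obtain ⟨σ, hσ⟩ := exists_ringHom_comp_eq (K := K) (K₁ := Kb) (k := ybar.K) (hk u₀) φ₁.hom φ₂.hom
  let σc : CommRingCat.of Kb ⟶ CommRingCat.of ybar.K := CommRingCat.ofHom σ
  have hσc : φ₁ ≫ σc = φ₂ := by
    ext t
    exact congrArg (fun r : _ →+* _ => r t) hσ
  have key : Spec.map σc ≫ vt'.left = yt'.left := by
    rw [← hφ₁, ← hφ₂, ← Category.assoc, ← Spec.map_comp, hσc]
  let σO : ybar.pt ⟶ Over.mk strb := Over.homMk (Spec.map σc) (by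
    have h1 : vt'.left ≫ V.hom = strb := Over.w vt'
    have h2 : yt'.left ≫ V.hom = ybar.pt.hom := Over.w yt'
    change Spec.map σc ≫ strb = ybar.pt.hom
    rw [← h1, ← Category.assoc, key, h2])
  have hσO : σO ≫ vt' = yt' := by
    ext
    exact key
  refine ⟨(yon S).map σO ≫ (yon S).map jU ≫ a, ?_, ?_⟩
  · rw [Category.assoc, Category.assoc, ← hvt, ← Category.assoc, ← Functor.map_comp, hσO,
      hyt]
  · rw [Points.ofPt_yon_map_comp, Points.ofPt_yon_map_comp, ← hu₀]
    congr 1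
    exact hgU _

end Groth.Agent.Lib.Helper3.GeomLiftLarge
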