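import Groth.Prelude.Def_Grpd
import Groth.Agent.Lib.Helper3.GrpdSub
set_option autoImplicit false
universe u
open CategoryTheory CategoryTheory.Limits AlgebraicGeometry

namespace Groth.Agent.Lib.Helper3.GrpdSub

open Grpd Groth.Agent.Lib.Helper3.SchIm

theorem exists_sub_data (S : Scheme.{u}) (G₁ G₂ : Grpd.GroupoidScheme S)
    (f : Grpd.GroupoidScheme.Hom G₁ G₂)
    [IsIso f.fU] [QuasiCompact f.fR] (k : Type u) [Field k] (eU : G₂.U ≅ Spec (CommRingCat.of k)) :
    ∃ (e' : G₂.U ⟶ f.fR.image) (i' : f.fR.image ⟶ f.fR.image)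
      (c' : pullback (f.fR.imageι ≫ G₂.s) (f.fR.imageι ≫ G₂.t) ⟶ f.fR.image),
      e' ≫ f.fR.imageι = G₂.e ∧ i' ≫ f.fR.imageι = f.fR.imageι ≫ G₂.i ∧
      c' ≫ f.fR.imageι = pullback.map (f.fR.imageι ≫ G₂.s) (f.fR.imageι ≫ G₂.t) G₂.s G₂.t
        f.fR.imageι f.fR.imageι (𝟙 _) (by rw [Category.comp_id]) (by rw [Category.comp_id]) ≫ G₂.c ∧
      (G₁.c ≫ f.fR.toImage) ≫ f.fR.imageι = G₁.c ≫ f.fR := by
  obtain ⟨a, ha⟩ : ∃ a, a = f.fR := ⟨_, rfl⟩
  rw [← ha]
  have : QuasiCompact a := by rw [ha]; infer_instance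
  obtain ⟨ι, hι⟩ : ∃ ι, ι = a.imageι := ⟨_, rfl⟩
  rw [← hι]
  have : IsClosedImmersion ι := by rw [hι]; infer_instance
  have hfac : a.toImage ≫ ι = a := by rw [hι]; exact a.toImage_imageι
  have : IsSchemeTheoreticallyDominant a.toImage :=
    Groth.Agent.Lib.Helper3.ImmDesc.isSchemeTheoreticallyDominant_toImage a
  -- identity
  have he : (inv f.fU ≫ G₁.e ≫ a.toImage) ≫ ι = G₂.e := by
    rw [Category.assoc, Category.assoc, hfac, ha, hom_e f, IsIso.inv_hom_id_assoc]
  -- inverse
  obtain ⟨i', hi'⟩ := exists_lift_of_dominant ι a.toImage (ι ≫ G₂.i) (G₁.i ≫ a.toImage) (by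
    rw [← Category.assoc, hfac, Category.assoc, hfac, ha, hom_i f])
  -- composition
  have hs1 : G₁.s ≫ f.fU = a.toImage ≫ ι ≫ G₂.s := by rw [← Category.assoc, hfac, ha, f.comm_s]
  have ht1 : G₁.t ≫ f.fU = a.toImage ≫ ι ≫ G₂.t := by rw [← Category.assoc, hfac, ha, f.comm_t]
  have hfl : ∀ {X : Scheme.{u}} (g : X ⟶ G₂.U), Flat g := fun g => flat_of_iso_Spec_field k eU g
  have := hfl (G₁.t ≫ f.fU)
  have := hfl (ι ≫ G₂.s)
  obtain ⟨m, hm, hmf, hms⟩ : ∃ m : pullback (G₁.s ≫ f.fU) (G₁.t ≫ f.fU) ⟶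
      pullback (ι ≫ G₂.s) (ι ≫ G₂.t), IsSchemeTheoreticallyDominant m ∧
      m ≫ pullback.fst _ _ = pullback.fst _ _ ≫ a.toImage ∧
      m ≫ pullback.snd _ _ = pullback.snd _ _ ≫ a.toImage :=
    ⟨pullback.map (G₁.s ≫ f.fU) (G₁.t ≫ f.fU) (ι ≫ G₂.s)
      (ι ≫ G₂.t) a.toImage a.toImage (𝟙 _) (by rw [Category.comp_id, hs1])
      (by rw [Category.comp_id, ht1]), dom_pullback_map _ _ _ _ _ _ _ _,
      pullback.lift_fst _ _ _, pullback.lift_snd _ _ _⟩
  obtain ⟨d, hd, hdf, hds⟩ : ∃ d : pullback G₁.s G₁.t ⟶ pullback (G₁.s ≫ f.fU) (G₁.t ≫ f.fU),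
      IsIso d ∧ d ≫ pullback.fst _ _ = pullback.fst _ _ ∧ d ≫ pullback.snd _ _ = pullback.snd _ _ :=
    ⟨pullback.mapDesc G₁.s G₁.t f.fU, isIso_mapDesc_of_mono _ _ _,
      (pullback.lift_fst _ _ _).trans (Category.comp_id _),
      (pullback.lift_snd _ _ _).trans (Category.comp_id _)⟩
  obtain ⟨l, hl_def⟩ : ∃ l, l = d ≫ m := ⟨_, rfl⟩
  have : IsSchemeTheoreticallyDominant l := by rw [hl_def]; infer_instance
  have hlf : l ≫ pullback.fst (ι ≫ G₂.s) (ι ≫ G₂.t) = pullback.fst G₁.s G₁.t ≫ a.toImage := by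
    rw [hl_def, Category.assoc, hmf, reassoc_of% hdf]
  have hls : l ≫ pullback.snd (ι ≫ G₂.s) (ι ≫ G₂.t) = pullback.snd G₁.s G₁.t ≫ a.toImage := by
    rw [hl_def, Category.assoc, hms, reassoc_of% hds]
  obtain ⟨mι, hmι, hmιf, hmιs⟩ : ∃ mι : pullback (ι ≫ G₂.s) (ι ≫ G₂.t) ⟶ pullback G₂.s G₂.t,
      mι = pullback.map (ι ≫ G₂.s) (ι ≫ G₂.t) G₂.s G₂.t ι ι (𝟙 _)
        (by rw [Category.comp_id]) (by rw [Category.comp_id]) ∧
      mι ≫ pullback.fst _ _ = pullback.fst _ _ ≫ ι ∧ mι ≫ pullback.snd _ _ = pullback.snd _ _ ≫ ι :=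
    ⟨pullback.map (ι ≫ G₂.s) (ι ≫ G₂.t) G₂.s G₂.t ι ι (𝟙 _)
        (by rw [Category.comp_id]) (by rw [Category.comp_id]), rfl,
      pullback.lift_fst _ _ _, pullback.lift_snd _ _ _⟩
  have hcomm := f.comm_c (pullback.fst G₁.s G₁.t) (pullback.snd G₁.s G₁.t) pullback.condition
  have hl : l ≫ mι ≫ G₂.c = (G₁.c ≫ a.toImage) ≫ ι := by
    rw [Category.assoc, hfac]
    have e1 : pullback.lift (pullback.fst G₁.s G₁.t) (pullback.snd G₁.s G₁.t) pullback.condition =
        𝟙 _ := by apply pullback.hom_ext <;> simp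
    rw [e1, Category.id_comp] at hcomm
    have hcomm' : G₁.c ≫ a = _ := (congrArg (fun x => G₁.c ≫ x) ha).trans hcomm
    rw [hcomm', ← Category.assoc]
    congr 1
    apply pullback.hom_ext
    · rw [Category.assoc, hmιf, reassoc_of% hlf, pullback.lift_fst, hfac, ha]
    · rw [Category.assoc, hmιs, reassoc_of% hls, pullback.lift_snd, hfac, ha]
  obtain ⟨c', hc'⟩ := exists_lift_of_dominant ι l (mι ≫ G₂.c) (G₁.c ≫ a.toImage) hl
  rw [hmι] at hc'
  exact ⟨_, i', c', he, hi', hc', by rw [Category.assoc, hfac]⟩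

end Groth.Agent.Lib.Helper3.GrpdSub

namespace Groth.Agent.Lib.Helper3.GrpdSub

open Grpd

section pair

variable {S U : Scheme.{u}} (pU : U ⟶ S)

theorem pair_c_cond :
    (pullback.fst (pullback.snd pU pU) (pullback.fst pU pU) ≫ pullback.fst pU pU) ≫ pU =
      (pullback.snd (pullback.snd pU pU) (pullback.fst pU pU) ≫ pullback.snd pU pU) ≫ pU := by
  rw [Category.assoc, pullback.condition, ← Category.assoc, pullback.condition, Category.assoc,
    Category.assoc, pullback.condition]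

/-- the composition of the pair groupoid -/
noncomputable def pairC : pullback (pullback.snd pU pU) (pullback.fst pU pU) ⟶ pullback pU pU :=
  pullback.lift (pullback.fst _ _ ≫ pullback.fst pU pU) (pullback.snd _ _ ≫ pullback.snd pU pU)
    (pair_c_cond pU)

theorem lift_pairC_fst {T : Scheme.{u}} (α β : T ⟶ pullback pU pU)
    (h : α ≫ pullback.snd pU pU = β ≫ pullback.fst pU pU) :
    (pullback.lift α β h ≫ pairC pU) ≫ pullback.fst pU pU = α ≫ pullback.fst pU pU := by
  rw [Category.assoc, pairC, pullback.lift_fst, pullback.lift_fst_assoc]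

theorem lift_pairC_snd {T : Scheme.{u}} (α β : T ⟶ pullback pU pU)
    (h : α ≫ pullback.snd pU pU = β ≫ pullback.fst pU pU) :
    (pullback.lift α β h ≫ pairC pU) ≫ pullback.snd pU pU = β ≫ pullback.snd pU pU := by
  rw [Category.assoc, pairC, pullback.lift_snd, pullback.lift_snd_assoc]

/-- the pair groupoid `U ×_S U ⇉ U` -/
noncomputable def pair : GroupoidScheme S where
  U := U
  R := pullback pU pU
  pU := pU
  pR := pullback.fst pU pU ≫ pU
  s := pullback.snd pU pU
  t := pullback.fst pU pU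
  e := pullback.lift (𝟙 U) (𝟙 U) rfl
  i := pullback.lift (pullback.snd pU pU) (pullback.fst pU pU) pullback.condition.symm
  c := pairC pU
  s_over := pullback.condition.symm
  t_over := rfl
  comp_s := fun α β h => lift_pairC_snd pU α β h
  comp_t := fun α β h => lift_pairC_fst pU α β h
  assoc := by
    intro T α β γ h₁ h₂
    apply pullback.hom_ext
    · rw [lift_pairC_fst, lift_pairC_fst, lift_pairC_fst]
    · rw [lift_pairC_snd, lift_pairC_snd, lift_pairC_snd]
  e_s := pullback.lift_snd _ _ _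
  e_t := pullback.lift_fst _ _ _
  comp_e := by
    intro T α
    apply pullback.hom_ext
    · rw [lift_pairC_fst]
    · rw [lift_pairC_snd]
      simp only [Category.assoc, pullback.lift_snd, Category.comp_id]
  e_comp := by
    intro T α
    apply pullback.hom_ext
    · rw [lift_pairC_fst]
      simp only [Category.assoc, pullback.lift_fst, Category.comp_id]
    · rw [lift_pairC_snd]
  i_s := pullback.lift_snd _ _ _
  i_t := pullback.lift_fst _ _ _
  comp_i := by
    intro T α
    apply pullback.hom_ext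
    · rw [lift_pairC_fst]
      simp only [Category.assoc, pullback.lift_fst, Category.comp_id]
    · rw [lift_pairC_snd]
      simp only [Category.assoc, pullback.lift_snd, Category.comp_id]
  i_comp := by
    intro T α
    apply pullback.hom_ext
    · rw [lift_pairC_fst]
      simp only [Category.assoc, pullback.lift_fst, Category.comp_id]
    · rw [lift_pairC_snd]
      simp only [Category.assoc, pullback.lift_snd, Category.comp_id]

end pair

/-- `j = (t, s)` as a morphism of groupoid schemes to the pair groupoid -/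
noncomputable def jHom {S : Scheme.{u}} (G : GroupoidScheme S) : GroupoidScheme.Hom G (pair G.pU) where
  fU := 𝟙 G.U
  fR := G.j
  fU_over := Category.id_comp _
  comm_s := by
    change G.j ≫ pullback.snd G.pU G.pU = G.s ≫ 𝟙 _
    rw [Category.comp_id, GroupoidScheme.j, pullback.lift_snd]
  comm_t := by
    change G.j ≫ pullback.fst G.pU G.pU = G.t ≫ 𝟙 _
    rw [Category.comp_id, GroupoidScheme.j, pullback.lift_fst]
  comm_c := by
    intro T α β h
    have hjf : G.j ≫ pullback.fst G.pU G.pU = G.t := pullback.lift_fst _ _ _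
    have hjs : G.j ≫ pullback.snd G.pU G.pU = G.s := pullback.lift_snd _ _ _
    apply pullback.hom_ext
    · erw [lift_pairC_fst]
      calc ((pullback.lift α β h ≫ G.c) ≫ G.j) ≫ pullback.fst G.pU G.pU
          = (pullback.lift α β h ≫ G.c) ≫ G.j ≫ pullback.fst G.pU G.pU := Category.assoc _ _ _
        _ = α ≫ G.j ≫ pullback.fst G.pU G.pU := by rw [hjf, G.comp_t]
        _ = (α ≫ G.j) ≫ pullback.fst G.pU G.pU := (Category.assoc _ _ _).symm
    · erw [lift_pairC_snd]
      calc ((pullback.lift α β h ≫ G.c) ≫ G.j) ≫ pullback.snd G.pU G.pU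
          = (pullback.lift α β h ≫ G.c) ≫ G.j ≫ pullback.snd G.pU G.pU := Category.assoc _ _ _
        _ = β ≫ G.j ≫ pullback.snd G.pU G.pU := by rw [hjs, G.comp_s]
        _ = (β ≫ G.j) ≫ pullback.snd G.pU G.pU := (Category.assoc _ _ _).symm

end Groth.Agent.Lib.Helper3.GrpdSub

namespace Groth.Agent.Lib.Helper3.GrpdSub

open Grpd

/-- the inclusion of the scheme-theoretic image of `j` -/
noncomputable abbrev jι {S : Scheme.{u}} (G : Grpd.GroupoidScheme S) :
    (jHom G).fR.image ⟶ (pair G.pU).R := (jHom G).fR.imageι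

theorem main2 (S : Scheme.{u}) (G : Grpd.GroupoidScheme S) (k : Type u) [Field k]
    (eU : G.U ≅ Spec (CommRingCat.of k)) [CompactSpace G.R] :
    ∃ (G' : Grpd.GroupoidScheme S) (φ : Grpd.GroupoidScheme.Hom G G'), IsIso φ.fU ∧
      IsClosedImmersion G'.j ∧
      G'.j.ker = (G.j ≫ pullback.map G.pU G.pU G'.pU G'.pU φ.fU φ.fU (𝟙 S)
        ((Category.comp_id _).trans φ.fU_over.symm)
        ((Category.comp_id _).trans φ.fU_over.symm)).ker := by
  have : IsAffine G.U := IsAffine.of_isIso eU.hom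
  have hqc : QuasiCompact G.j := by
    have h1 : QuasiCompact (G.j ≫ pullback.fst G.pU G.pU) := by
      have : G.j ≫ pullback.fst G.pU G.pU = G.t := pullback.lift_fst _ _ _
      rw [this]; infer_instance
    exact QuasiCompact.of_comp G.j (pullback.fst G.pU G.pU)
  have : IsIso (jHom G).fU := by change IsIso (𝟙 G.U); infer_instance
  have : QuasiCompact (jHom G).fR := hqc
  obtain ⟨e', i', c', he, hi, hc, hcc⟩ := exists_sub_data S G (pair G.pU) (jHom G) k eU
  have hci : IsClosedImmersion (jι G) := by unfold jι; infer_instance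
  have hfac : (jHom G).fR.toImage ≫ jι G = G.j := (jHom G).fR.toImage_imageι
  have hjf : G.j ≫ pullback.fst G.pU G.pU = G.t := pullback.lift_fst _ _ _
  have hjs : G.j ≫ pullback.snd G.pU G.pU = G.s := pullback.lift_snd _ _ _
  let G' := sub (pair G.pU) (jι G) e' he i' hi c' hc
  let φ : GroupoidScheme.Hom G G' :=
    { fU := 𝟙 G.U
      fR := (jHom G).fR.toImage
      fU_over := Category.id_comp _
      comm_s := by
        change (jHom G).fR.toImage ≫ (jι G) ≫ pullback.snd G.pU G.pU = G.s ≫ 𝟙 _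
        rw [← Category.assoc, hfac]
        exact hjs.trans (Category.comp_id _).symm
      comm_t := by
        change (jHom G).fR.toImage ≫ (jι G) ≫ pullback.fst G.pU G.pU = G.t ≫ 𝟙 _
        rw [← Category.assoc, hfac]
        exact hjf.trans (Category.comp_id _).symm
      comm_c := by
        intro T α β h
        refine (cancel_mono (jι G)).mp ?_
        refine Eq.trans ?_ (sub_hc (pair G.pU) (jι G) c' hc _ _ _).symm
        have h1 := (jHom G).comm_c α β h
        have h2 : ((pullback.lift α β h ≫ G.c) ≫ (jHom G).fR.toImage) ≫ (jι G) =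
            (pullback.lift α β h ≫ G.c) ≫ (jHom G).fR := by
          rw [Category.assoc, hfac]; rfl
        refine h2.trans (h1.trans ?_)
        refine congrArg (· ≫ (pair G.pU).c) (lift_congr _ ?_ ?_ _)
        · exact ((Category.assoc α _ _).trans (congrArg (α ≫ ·) hfac)).symm
        · exact ((Category.assoc β _ _).trans (congrArg (β ≫ ·) hfac)).symm }
  have hj' : G'.j = (jι G) := by
    apply pullback.hom_ext
    · exact pullback.lift_fst _ _ _
    · exact pullback.lift_snd _ _ _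
  refine ⟨G', φ, ?_, ?_, ?_⟩
  · change IsIso (𝟙 G.U); infer_instance
  · rw [hj']; exact hci
  · rw [hj']
    have h3 : pullback.map G.pU G.pU G'.pU G'.pU φ.fU φ.fU (𝟙 S)
        ((Category.comp_id _).trans φ.fU_over.symm)
        ((Category.comp_id _).trans φ.fU_over.symm) = 𝟙 _ := by
      apply pullback.hom_ext
      · exact (pullback.lift_fst _ _ _).trans ((Category.comp_id _).trans (Category.id_comp _).symm)
      · exact (pullback.lift_snd _ _ _).trans ((Category.comp_id _).trans (Category.id_comp _).symm)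
    rw [h3]
    have h4 : G.j ≫ 𝟙 (pullback G.pU G.pU) = G.j := Category.comp_id _
    exact (Scheme.IdealSheafData.ker_subschemeι _).trans (congrArg Scheme.Hom.ker h4.symm)

end Groth.Agent.Lib.Helper3.GrpdSub
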