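import Mathlib

set_option autoImplicit false
universe u
open CategoryTheory CategoryTheory.Limits AlgebraicGeometry Opposite

namespace Groth.Agent.Lib.Helper3.HensLift

set_option backward.isDefEq.respectTransparency false

/-- A field which is etale over a field is a finite extension. -/
theorem finite_of_etale_field (k l : Type u) [Field k] [Field l]
    (φ : CommRingCat.of k ⟶ CommRingCat.of l) (h : Etale (Spec.map φ)) :
    letI := φ.hom.toAlgebra
    Module.Finite k l := by
  have hφe : φ.hom.Etale := (HasRingHomProperty.Spec_iff (P := @Etale)).1 h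
  algebraize [φ.hom]
  exact Algebra.FormallyUnramified.finite_of_free k l

/-- Two embeddings of a normal extension which agree on the base field differ by an
endomorphism. -/
theorem exists_algHom_of_normal (k E L : Type u) [Field k] [Field E] [Field L] [Algebra k E]
    [Normal k E] (ι₁ ι₂ : E →+* L)
    (h : ι₁.comp (algebraMap k E) = ι₂.comp (algebraMap k E)) :
    ∃ τ : E →ₐ[k] E, ι₂ = ι₁.comp τ.toRingHom := by
  letI : Algebra E L := ι₁.toAlgebra
  letI : Algebra k L := (ι₁.comp (algebraMap k E)).toAlgebra
  haveI : IsScalarTower k E L := IsScalarTower.of_algebraMap_eq (fun x => rfl)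
  have hcomm : ∀ r : k, ι₂ (algebraMap k E r) = algebraMap k L r := fun r =>
    (congrArg (fun f => f r) h).symm
  let ϕ : E →ₐ[k] L := { ι₂ with commutes' := hcomm }
  refine ⟨ϕ.restrictNormal E, ?_⟩
  ext x
  have := AlgHom.restrictNormal_commutes ϕ E x
  exact this.symm

end Groth.Agent.Lib.Helper3.HensLift
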