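import Mathlib
import Groth.Prelude.Def_AlgSpDec
import Groth.Agent.Lib.Helper3.HensLiftA
import Groth.Agent.Lib.Helper3.FibPowG

set_option autoImplicit false
universe u
open CategoryTheory CategoryTheory.Limits AlgebraicGeometry Opposite
open AlgSp
open Groth.Agent.Lib.Helper3
open Groth.Agent.Lib.Helper3.FibPow

namespace Groth.Agent.Lib.Helper3.HensLift

set_option backward.isDefEq.respectTransparency false

variable {S : Scheme.{u}} (k K : Type u) [Field k] [Field K] [Algebra k K]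
  (str₀ : Spec (CommRingCat.of k) ⟶ S)

/-- The spectrum of the extension field, over `S`. -/
noncomputable def TK : Over S :=
  Over.mk (Spec.map (CommRingCat.ofHom (algebraMap k K)) ≫ str₀)

noncomputable def qK : TK k K str₀ ⟶ Over.mk str₀ :=
  Over.homMk (Spec.map (CommRingCat.ofHom (algebraMap k K))) rfl

/-- The action of an endomorphism of the extension. -/
noncomputable def Tτ (τ : K →ₐ[k] K) : TK k K str₀ ⟶ TK k K str₀ :=
  Over.homMk (Spec.map (CommRingCat.ofHom τ.toRingHom)) (by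
    change Spec.map _ ≫ Spec.map _ ≫ str₀ = Spec.map _ ≫ str₀
    rw [← Category.assoc, ← Spec.map_comp, ← CommRingCat.ofHom_comp]
    congr 3
    ext x
    exact τ.commutes x)

theorem Tτ_qK (τ : K →ₐ[k] K) : Tτ k K str₀ τ ≫ qK k K str₀ = qK k K str₀ := by
  apply Over.OverMorphism.ext
  change Spec.map _ ≫ Spec.map _ = Spec.map _
  rw [← Spec.map_comp, ← CommRingCat.ofHom_comp]
  congr 2
  ext x
  exact τ.commutes x

instance : Subsingleton ↥(TK k K str₀).left := inferInstanceAs (Subsingleton (PrimeSpectrum K))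
instance : Nonempty ↥(TK k K str₀).left := inferInstanceAs (Nonempty (PrimeSpectrum K))

/-- **Galois descent of a point of an etale chart.** -/
theorem exists_descent [Normal k K] {X : Sp S} {M : Over S} (f0 : (yon S).obj M ⟶ X)
    (hf0 : RepWith @Etale f0) (z₀ : (yon S).obj (Over.mk str₀) ⟶ X)
    (μ' : TK k K str₀ ⟶ M) (hμ' : (yon S).map μ' ≫ f0 = (yon S).map (qK k K str₀) ≫ z₀)
    (hinv : ∀ τ : K →ₐ[k] K, Tτ k K str₀ τ ≫ μ' = μ') :
    ∃ μ : Over.mk str₀ ⟶ M, (yon S).map μ ≫ f0 = z₀ := by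
  have hrep := hf0.rep
  let Q := hrep.pullback z₀
  let prM : Q ⟶ M := hrep.fst' z₀
  let prk : Q ⟶ Over.mk str₀ := hrep.snd z₀
  have sqQ : IsPullback ((yon S).map prM) ((yon S).map prk) f0 z₀ := hrep.isPullback' z₀
  let θ' : TK k K str₀ ⟶ Q := hrep.lift' μ' (qK k K str₀) hμ'
  have hθ1 : θ' ≫ prM = μ' := hrep.lift'_fst _ _ _
  have hθ2 : θ' ≫ prk = qK k K str₀ := hrep.lift'_snd _ _ _
  -- the descent condition
  have hdesc : ∀ {Z : Scheme.{u}} (g₁ g₂ : Z ⟶ (TK k K str₀).left),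
      g₁ ≫ (qK k K str₀).left = g₂ ≫ (qK k K str₀).left → g₁ ≫ θ'.left = g₂ ≫ θ'.left := by
    intro Z g₁ g₂ hg
    let ZO : Over S := Over.mk (g₁ ≫ (TK k K str₀).hom)
    let G₁ : ZO ⟶ TK k K str₀ := Over.homMk g₁ rfl
    let G₂ : ZO ⟶ TK k K str₀ := Over.homMk g₂ (by
      change g₂ ≫ Spec.map _ ≫ str₀ = g₁ ≫ Spec.map _ ≫ str₀
      rw [← Category.assoc, ← Category.assoc]
      congr 1
      exact hg.symm)
    have hG : G₁ ≫ qK k K str₀ = G₂ ≫ qK k K str₀ := Over.OverMorphism.ext hg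
    have hAB : (yon S).map (G₁ ≫ μ') ≫ f0 = (yon S).map (G₂ ≫ μ') ≫ f0 := by
      rw [Functor.map_comp, Functor.map_comp, Category.assoc, Category.assoc, hμ',
        ← Category.assoc, ← Category.assoc, ← Functor.map_comp, ← Functor.map_comp, hG]
    have hμeq : G₁ ≫ μ' = G₂ ≫ μ' := by
      apply eq_of_eqLoc_eq_univ hrep hf0 _ _ hAB
      ext x
      simp only [Set.mem_univ, iff_true]
      change ptι ZO x ≫ G₁ ≫ μ' = ptι ZO x ≫ G₂ ≫ μ'
      obtain ⟨ψ₁, hψ₁⟩ := Spec.map_surjective (ptι ZO x ≫ G₁).left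
      obtain ⟨ψ₂, hψ₂⟩ := Spec.map_surjective (ptι ZO x ≫ G₂).left
      have hψ : CommRingCat.ofHom (algebraMap k K) ≫ ψ₁ =
          CommRingCat.ofHom (algebraMap k K) ≫ ψ₂ := by
        apply Spec.map_injective
        rw [Spec.map_comp, Spec.map_comp, hψ₁, hψ₂]
        have h3 : (ptι ZO x ≫ G₁) ≫ qK k K str₀ = (ptι ZO x ≫ G₂) ≫ qK k K str₀ := by
          rw [Category.assoc, Category.assoc, hG]
        exact congrArg (fun f => f.left) h3
      obtain ⟨τ, hτ⟩ := exists_algHom_of_normal k K (ZO.left.residueField x) ψ₁.hom ψ₂.hom (by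
        have := congrArg (fun f => f.hom) hψ
        simpa using this)
      have hψ' : ψ₂ = CommRingCat.ofHom τ.toRingHom ≫ ψ₁ := by
        ext y
        have := congrArg (fun f => f y) hτ
        simpa using this
      have h2 : ptι ZO x ≫ G₂ = (ptι ZO x ≫ G₁) ≫ Tτ k K str₀ τ := by
        apply Over.OverMorphism.ext
        change (ptι ZO x ≫ G₂).left =
          (ptι ZO x ≫ G₁).left ≫ Spec.map (CommRingCat.ofHom τ.toRingHom)
        rw [← hψ₁, ← hψ₂, hψ', Spec.map_comp]
      have e1 : ptι ZO x ≫ G₂ ≫ μ' = ptι ZO x ≫ G₁ ≫ μ' := by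
        rw [← Category.assoc, h2, Category.assoc, hinv τ, Category.assoc]
      exact e1.symm
    have : G₁ ≫ θ' = G₂ ≫ θ' := by
      apply hrep.hom_ext'
      · rw [Category.assoc, Category.assoc]
        change G₁ ≫ θ' ≫ prM = G₂ ≫ θ' ≫ prM
        rw [hθ1, hμeq]
      · rw [Category.assoc, Category.assoc]
        change G₁ ≫ θ' ≫ prk = G₂ ≫ θ' ≫ prk
        rw [hθ2, hG]
    exact congrArg (fun f => f.left) this
  -- the field extension is an effective epimorphism
  haveI : Flat (qK k K str₀).left := by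
    change Flat (Spec.map (CommRingCat.ofHom (algebraMap k K)))
    rw [HasRingHomProperty.Spec_iff (P := @Flat)]
    letI := (CommRingCat.ofHom (algebraMap k K)).hom.toAlgebra
    exact (inferInstance : Module.Flat k K)
  haveI : Surjective (qK k K str₀).left := by
    haveI : Subsingleton ↥(Spec (CommRingCat.of k)) :=
      inferInstanceAs (Subsingleton (PrimeSpectrum k))
    exact ⟨fun y => ⟨(Classical.arbitrary ↥(TK k K str₀).left : ↥(TK k K str₀).left),
      @Subsingleton.elim ↥(Spec (CommRingCat.of k)) _ _ _⟩⟩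
  haveI : QuasiCompact (qK k K str₀).left := by
    change QuasiCompact (Spec.map (CommRingCat.ofHom (algebraMap k K)))
    infer_instance
  let ν₀ : Spec (CommRingCat.of k) ⟶ Q.left :=
    EffectiveEpi.desc (qK k K str₀).left θ'.left (fun g₁ g₂ h => hdesc g₁ g₂ h)
  have hν₀ : (qK k K str₀).left ≫ ν₀ = θ'.left := EffectiveEpi.fac _ _ _
  haveI : Epi (qK k K str₀).left := inferInstance
  have hν₀k : ν₀ ≫ prk.left = 𝟙 _ := by
    rw [← cancel_epi (qK k K str₀).left, ← Category.assoc, hν₀]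
    have : θ'.left ≫ prk.left = (qK k K str₀).left := congrArg (fun f => f.left) hθ2
    rw [this]
    exact (Category.comp_id _).symm
  let ν : Over.mk str₀ ⟶ Q := Over.homMk ν₀ (by
    change ν₀ ≫ Q.hom = str₀
    rw [← Over.w prk, ← Category.assoc, hν₀k]
    exact Category.id_comp _)
  have hνk : ν ≫ prk = 𝟙 _ := Over.OverMorphism.ext hν₀k
  refine ⟨ν ≫ prM, ?_⟩
  rw [Functor.map_comp, Category.assoc, sqQ.w, ← Category.assoc, ← Functor.map_comp, hνk,
    CategoryTheory.Functor.map_id, Category.id_comp]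

end Groth.Agent.Lib.Helper3.HensLift
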