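import Mathlib
import Groth.Prelude.Def_AlgSpDec
import Groth.Agent.Lib.Helper3.HensLiftB
import Groth.Agent.Lib.Helper3.FibPowI
import Groth.Agent.Lib.Helper3.EtaleFieldPoint
import Groth.Agent.Lib.Helper3.AlgSpIntegralDim

set_option autoImplicit false
universe u
open CategoryTheory CategoryTheory.Limits AlgebraicGeometry Opposite
open AlgSp
open Groth.Agent.Lib.Helper3
open Groth.Agent.Lib.Helper3.FibPow

namespace Groth.Agent.Lib.Helper3.HensLift

set_option backward.isDefEq.respectTransparency false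

variable {S : Scheme.{u}}

/-- **Every field valued point of an algebraic space lifts to an etale chart by a scheme.** -/
theorem exists_chart_of_field_point {X : Sp S} (hX : IsAlgSpace X) (k : Type u) [Field k]
    (str₀ : Spec (CommRingCat.of k) ⟶ S) (z₀ : (yon S).obj (Over.mk str₀) ⟶ X) :
    ∃ (M : Over S) (f0 : (yon S).obj M ⟶ X) (μ : Over.mk str₀ ⟶ M),
      RepWith @Etale f0 ∧ (yon S).map μ ≫ f0 = z₀ := by
  let pt : ↥(Over.mk str₀).left := (IsLocalRing.closedPoint k : ↥(Spec (CommRingCat.of k)))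
  obtain ⟨U, a, u, hU, hae, hu⟩ := exists_affine_chart_through hX (Points.ofPt z₀ pt)
  haveI := hU
  have c : Ctx a := ⟨hae.rep, hae, repWith_isSeparated_of_isAffine a hae.rep⟩
  let P := c.rep.pullback z₀
  let prU : P ⟶ U := c.rep.fst' z₀
  let prk : P ⟶ Over.mk str₀ := c.rep.snd z₀
  have sqP : IsPullback ((yon S).map prU) ((yon S).map prk) a z₀ := c.rep.isPullback' z₀
  haveI hprk : Etale prk.left := c.et.property _ _ _ sqP
  -- a point of the fibre
  obtain ⟨p₀, -⟩ : ∃ p₀ : ↥P.left, True := by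
    have h1 : Points.map a (Points.schemeHomeo U u) =
        Points.map z₀ (Points.schemeHomeo (Over.mk str₀) pt) := by
      have := hu
      rw [Points.ofPt_eq, Points.ofPt_eq] at this
      exact this
    obtain ⟨z, -, -⟩ := Points.exists_of_isPullback sqP _ _ h1
    exact ⟨(Points.schemeHomeo P).symm z, trivial⟩
  obtain ⟨l, hl, j, hjo, -⟩ := exists_field_openImmersion_of_etale_field k prk.left p₀
  haveI := hjo
  obtain ⟨φ, hφ⟩ := Spec.map_surjective (j ≫ prk.left)
  letI : Algebra k l := φ.hom.toAlgebra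
  haveI hfin : Module.Finite k l := finite_of_etale_field k l φ (by rw [hφ]; infer_instance)
  let K := AlgebraicClosure k
  haveI : Algebra.IsAlgebraic k l := Algebra.IsAlgebraic.of_finite k l
  haveI : Nonempty (l →ₐ[k] K) := ⟨IsAlgClosed.lift⟩
  obtain ⟨n, hn⟩ : ∃ n, Fintype.card (l →ₐ[k] K) = n + 1 :=
    ⟨Fintype.card (l →ₐ[k] K) - 1, (Nat.succ_pred_eq_of_pos Fintype.card_pos).symm⟩
  let e : Fin (n + 1) ≃ (l →ₐ[k] K) := (Fintype.equivFinOfCardEq hn).symm
  let Tl : Over S := Over.mk (j ≫ P.hom)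
  let jl : Tl ⟶ P := Over.homMk j rfl
  haveI : Mono jl := by
    haveI : Mono ((Over.forget S).map jl) := inferInstanceAs (Mono j)
    exact (Over.forget S).mono_of_mono_map inferInstance
  have hσφ : ∀ σ : l →ₐ[k] K, φ ≫ CommRingCat.ofHom σ.toRingHom =
      CommRingCat.ofHom (algebraMap k K) := by
    intro σ
    ext r
    exact σ.commutes r
  have hσ1 : ∀ σ : l →ₐ[k] K, Spec.map (CommRingCat.ofHom σ.toRingHom) ≫ j ≫ prk.left =
      Spec.map (CommRingCat.ofHom (algebraMap k K)) := by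
    intro σ
    rw [← hφ, ← Spec.map_comp, hσφ]
  let sσ : (l →ₐ[k] K) → (TK k K str₀ ⟶ Tl) := fun σ =>
    Over.homMk (Spec.map (CommRingCat.ofHom σ.toRingHom)) (by
      change Spec.map _ ≫ j ≫ P.hom = Spec.map _ ≫ str₀
      have hP : P.hom = prk.left ≫ str₀ := (Over.w prk).symm
      rw [hP, ← Category.assoc j, ← Category.assoc, hσ1])
  let uσ : (l →ₐ[k] K) → (TK k K str₀ ⟶ U) := fun σ => sσ σ ≫ jl ≫ prU
  have hkey : ∀ σ, sσ σ ≫ jl ≫ prk = qK k K str₀ := by
    intro σ
    apply Over.OverMorphism.ext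
    exact hσ1 σ
  have hcompat : ∀ σ, (yon S).map (uσ σ) ≫ a = (yon S).map (qK k K str₀) ≫ z₀ := by
    intro σ
    have h1 : uσ σ = (sσ σ ≫ jl) ≫ prU := (Category.assoc _ _ _).symm
    rw [h1, Functor.map_comp, Category.assoc, sqP.w, ← Category.assoc, ← Functor.map_comp,
      Category.assoc, hkey]
  have hdist : ∀ σ σ', σ ≠ σ' → eqLoc (uσ σ) (uσ σ') = ∅ := by
    intro σ σ' hne
    refine (eq_or_eqLoc_eq_empty c.rep c.et _ _
      ((hcompat σ).trans (hcompat σ').symm)).resolve_left ?_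
    intro huu
    apply hne
    have h1 : sσ σ ≫ jl = sσ σ' ≫ jl := by
      apply c.rep.hom_ext'
      · rw [Category.assoc, Category.assoc]; exact huu
      · rw [Category.assoc, Category.assoc]
        exact (hkey σ).trans (hkey σ').symm
    have h2 : sσ σ = sσ σ' := (cancel_mono jl).1 h1
    have h3 : Spec.map (CommRingCat.ofHom σ.toRingHom) =
        Spec.map (CommRingCat.ofHom σ'.toRingHom) := congrArg (fun f => f.left) h2
    have h4 := Spec.map_injective h3
    ext x
    have := congrArg (fun f => f.hom x) h4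
    exact this
  let t : Fin (n + 1) → (TK k K str₀ ⟶ U) := fun i => uσ (e i)
  set PP := fp c.rep c.et c.sep n with hPP
  let ω : TK k K str₀ ⟶ PP.W c := PP.Wlift c t
    (fun i i' => (hcompat (e i)).trans (hcompat (e i')).symm)
    (fun i i' hii => hdist _ _ (fun h => hii (e.injective h)))
  obtain ⟨M, m, f0, -, -, -, hperm, hmf0, hf0e, -⟩ := PP.exists_quotient c hX
  have hμ' : (yon S).map (ω ≫ m) ≫ f0 = (yon S).map (qK k K str₀) ≫ z₀ := by
    rw [Functor.map_comp, Category.assoc, hmf0, ← PP.wπ_eq c 0, ← Category.assoc,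
      ← Functor.map_comp, PP.Wlift_wpr]
    exact hcompat _
  have hinv : ∀ τ : K →ₐ[k] K, Tτ k K str₀ τ ≫ (ω ≫ m) = ω ≫ m := by
    intro τ
    have hTs : ∀ σ, Tτ k K str₀ τ ≫ sσ σ = sσ (τ.comp σ) := by
      intro σ
      apply Over.OverMorphism.ext
      change Spec.map _ ≫ Spec.map _ = Spec.map _
      rw [← Spec.map_comp]
      rfl
    have hTu : ∀ σ, Tτ k K str₀ τ ≫ uσ σ = uσ (τ.comp σ) := by
      intro σ
      change Tτ k K str₀ τ ≫ sσ σ ≫ jl ≫ prU = sσ (τ.comp σ) ≫ jl ≫ prU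
      rw [← Category.assoc, hTs]
    have hinj : Function.Injective (fun σ : l →ₐ[k] K => τ.comp σ) := by
      intro σ σ' h
      ext x
      have := congrArg (fun f => f x) h
      exact τ.toRingHom.injective this
    let πe : (l →ₐ[k] K) ≃ (l →ₐ[k] K) :=
      Equiv.ofBijective _ (Finite.injective_iff_bijective.1 hinj)
    let ρ : Equiv.Perm (Fin (n + 1)) := e.trans (πe.trans e.symm)
    have hρ : ∀ i, e (ρ i) = τ.comp (e i) := by
      intro i
      simp [ρ, πe]
    have h1 : Tτ k K str₀ τ ≫ ω = ω ≫ PP.perm c ρ.symm := by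
      apply PP.W_hom_ext c
      intro i
      rw [Category.assoc, Category.assoc, PP.perm_wpr, PP.Wlift_wpr, PP.Wlift_wpr]
      change Tτ k K str₀ τ ≫ uσ (e i) = uσ (e (ρ.symm.symm i))
      rw [hTu, Equiv.symm_symm, hρ]
    rw [← Category.assoc, h1, Category.assoc, hperm]
  obtain ⟨μ, hμ⟩ := exists_descent k K str₀ f0 hf0e z₀ (ω ≫ m) hμ' hinv
  exact ⟨M, f0, μ, hf0e, hμ⟩

end Groth.Agent.Lib.Helper3.HensLift
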