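import Mathlib
import Groth.Prelude.Def_AlgSpDec
import Groth.Agent.Lib.Helper3.HensLiftC
import Groth.Agent.S0501

set_option autoImplicit false
universe u
open CategoryTheory CategoryTheory.Limits AlgebraicGeometry Opposite
open AlgSp
open Groth.Agent.Lib.Helper3
open Groth.Agent.Lib.Helper3.FibPow

namespace Groth.Agent.Lib.Helper3.HensLift

set_option backward.isDefEq.respectTransparency false

variable {S : Scheme.{u}}

/-- The closed point of the spectrum of a local ring, over `S`. -/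
noncomputable abbrev clPt (R : Type u) [CommRing R] [IsLocalRing R]
    (str : Spec (CommRingCat.of R) ⟶ S) :
    Over.mk (Spec.map (CommRingCat.ofHom (IsLocalRing.residue R)) ≫ str) ⟶ Over.mk str :=
  Over.homMk (Spec.map (CommRingCat.ofHom (IsLocalRing.residue R))) rfl

/-- **Henselian lifting along an etale chart**: a lift of the closed point extends to a lift of
the whole spectrum. -/
theorem exists_lift_of_etale {X : Sp S} {M : Over S} (f0 : (yon S).obj M ⟶ X)
    (hf0 : RepWith @Etale f0) (R : Type u) [CommRing R] [HenselianLocalRing R]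
    (str : Spec (CommRingCat.of R) ⟶ S) (z : (yon S).obj (Over.mk str) ⟶ X)
    (μ : Over.mk (Spec.map (CommRingCat.ofHom (IsLocalRing.residue R)) ≫ str) ⟶ M)
    (hμ : (yon S).map μ ≫ f0 = (yon S).map (clPt R str) ≫ z) :
    ∃ g : Over.mk str ⟶ M, (yon S).map g ≫ f0 = z ∧ clPt R str ≫ g = μ := by
  have hrep := hf0.rep
  let k := IsLocalRing.ResidueField R
  let Q := hrep.pullback z
  let prM : Q ⟶ M := hrep.fst' z
  let prR : Q ⟶ Over.mk str := hrep.snd z
  have sqQ : IsPullback ((yon S).map prM) ((yon S).map prR) f0 z := hrep.isPullback' z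
  haveI hprR : Etale prR.left := hf0.property _ _ _ sqQ
  let q₀ : Over.mk (Spec.map (CommRingCat.ofHom (IsLocalRing.residue R)) ≫ str) ⟶ Q :=
    hrep.lift' μ (clPt R str) hμ
  have hq1 : q₀ ≫ prM = μ := hrep.lift'_fst _ _ _
  have hq2 : q₀ ≫ prR = clPt R str := hrep.lift'_snd _ _ _
  let pt : ↥(Spec (CommRingCat.of k)) := IsLocalRing.closedPoint k
  obtain ⟨O, hO, hptO⟩ : ∃ O : Q.left.Opens, IsAffineOpen O ∧ q₀.left pt ∈ O := by
    obtain ⟨_, ⟨O, hO, rfl⟩, h, -⟩ := (Q.left.isBasis_affineOpens).exists_subset_of_mem_open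
      (Set.mem_univ (q₀.left pt)) isOpen_univ
    exact ⟨O, hO, h⟩
  haveI : Subsingleton ↥(Spec (CommRingCat.of k)) :=
    inferInstanceAs (Subsingleton (PrimeSpectrum k))
  have hrange : Set.range q₀.left ⊆ Set.range hO.fromSpec := by
    rw [hO.range_fromSpec]
    rintro _ ⟨t, rfl⟩
    have : t = pt := @Subsingleton.elim ↥(Spec (CommRingCat.of k)) _ _ _
    rw [this]
    exact hptO
  let ℓ : Spec (CommRingCat.of k) ⟶ Spec Γ(Q.left, O) :=
    IsOpenImmersion.lift hO.fromSpec q₀.left hrange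
  have hℓ : ℓ ≫ hO.fromSpec = q₀.left := IsOpenImmersion.lift_fac _ _ _
  obtain ⟨χ', hχ'⟩ := Spec.map_surjective ℓ
  obtain ⟨ψ', hψ'⟩ := Spec.map_surjective (hO.fromSpec ≫ prR.left)
  have hψe : ψ'.hom.Etale := by
    have : Etale (Spec.map ψ') := by rw [hψ']; infer_instance
    exact (HasRingHomProperty.Spec_iff (P := @Etale)).1 this
  have hcomp : ψ' ≫ χ' = CommRingCat.ofHom (IsLocalRing.residue R) := by
    apply Spec.map_injective
    rw [Spec.map_comp, hχ', hψ', ← Category.assoc, hℓ]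
    exact congrArg (fun f => f.left) hq2
  algebraize [ψ'.hom]
  let A := ↑Γ(Q.left, O)
  let χ : A →+* k := χ'.hom
  have hχψ : ∀ r : R, χ (algebraMap R A r) = IsLocalRing.residue R r := fun r => by
    have := congrArg (fun f => f.hom r) hcomp
    exact this
  let q : Ideal A := RingHom.ker χ
  haveI : q.IsPrime := RingHom.ker_isPrime χ
  have hunits : q.primeCompl ≤ (IsUnit.submonoid k).comap χ := by
    intro a ha
    change IsUnit (χ a)
    rw [isUnit_iff_ne_zero]
    intro h0
    exact ha ((RingHom.mem_ker).2 h0)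
  let τ : q.ResidueField →+* IsLocalRing.ResidueField R :=
    Ideal.ResidueField.lift q χ le_rfl hunits
  have hτ : τ.comp (algebraMap R q.ResidueField) =
      (IsLocalRing.residue R).comp (algebraMap R R) := by
    ext r
    change τ (algebraMap R q.ResidueField r) = IsLocalRing.residue R r
    rw [IsScalarTower.algebraMap_apply R A q.ResidueField, Ideal.ResidueField.lift_algebraMap,
      hχψ]
  obtain ⟨f, ⟨-, hf⟩, -⟩ := Groth.Agent.S0501.result R R A q τ hτ
  have hfχ : ∀ a : A, IsLocalRing.residue R (f a) = χ a := fun a => by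
    rw [hf a, Ideal.ResidueField.lift_algebraMap]
  let fC : Γ(Q.left, O) ⟶ CommRingCat.of R := CommRingCat.ofHom f.toRingHom
  let σ₀ : Spec (CommRingCat.of R) ⟶ Q.left := Spec.map fC ≫ hO.fromSpec
  have hσ₀R : σ₀ ≫ prR.left = 𝟙 _ := by
    change (Spec.map fC ≫ hO.fromSpec) ≫ prR.left = 𝟙 _
    rw [Category.assoc, ← hψ', ← Spec.map_comp]
    have : ψ' ≫ fC = 𝟙 _ := by
      ext r
      exact f.commutes r
    rw [this, Spec.map_id]
  have hσ₀k : Spec.map (CommRingCat.ofHom (IsLocalRing.residue R)) ≫ σ₀ = q₀.left := by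
    change _ ≫ Spec.map fC ≫ hO.fromSpec = _
    rw [← Category.assoc, ← Spec.map_comp, ← hℓ, ← hχ']
    congr 2
    ext a
    exact hfχ a
  let σ : Over.mk str ⟶ Q := Over.homMk σ₀ (by
    change σ₀ ≫ Q.hom = str
    rw [← Over.w prR, ← Category.assoc, hσ₀R]
    exact Category.id_comp _)
  have hσR : σ ≫ prR = 𝟙 _ := Over.OverMorphism.ext hσ₀R
  have hσk : clPt R str ≫ σ = q₀ := Over.OverMorphism.ext hσ₀k
  refine ⟨σ ≫ prM, ?_, ?_⟩
  · rw [Functor.map_comp, Category.assoc, sqQ.w, ← Category.assoc, ← Functor.map_comp, hσR,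
      CategoryTheory.Functor.map_id, Category.id_comp]
  · rw [← Category.assoc, hσk, hq1]

end Groth.Agent.Lib.Helper3.HensLift
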