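import Mathlib
import Groth.Prelude.Def_AlgSpDec
import Groth.Agent.Lib.Helper3.HensLiftD

set_option autoImplicit false
universe u
open CategoryTheory CategoryTheory.Limits AlgebraicGeometry Opposite
open AlgSp
open Groth.Agent.Lib.Helper3
open Groth.Agent.Lib.Helper3.FibPow

namespace Groth.Agent.Lib.Helper3.HensLift

set_option backward.isDefEq.respectTransparency false

variable {S : Scheme.{u}}

/-- A morphism from the spectrum of a local ring factors through any affine open neighbourhood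
of the image of the closed point. -/
theorem exists_affine_factor (R : Type u) [CommRing R] [IsLocalRing R]
    (str : Spec (CommRingCat.of R) ⟶ S) {M : Over S} (g : Over.mk str ⟶ M) :
    ∃ (Z : Over S) (ι : Z ⟶ M) (g' : Over.mk str ⟶ Z), IsAffine Z.left ∧
      IsOpenImmersion ι.left ∧ g' ≫ ι = g := by
  let pt : ↥(Spec (CommRingCat.of R)) := IsLocalRing.closedPoint R
  obtain ⟨O, hO, hptO⟩ : ∃ O : M.left.Opens, IsAffineOpen O ∧ g.left pt ∈ O := by
    obtain ⟨_, ⟨O, hO, rfl⟩, h, -⟩ := (M.left.isBasis_affineOpens).exists_subset_of_mem_open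
      (Set.mem_univ (g.left pt)) isOpen_univ
    exact ⟨O, hO, h⟩
  have htop : g.left ⁻¹ᵁ O = ⊤ := by
    have : pt ∈ g.left ⁻¹ᵁ O := hptO
    exact (IsLocalRing.closed_point_mem_iff (R := R) (U := g.left ⁻¹ᵁ O)).1 this
  have hrange : Set.range g.left ⊆ Set.range O.ι := by
    rw [Scheme.Opens.range_ι]
    rintro _ ⟨t, rfl⟩
    have : t ∈ g.left ⁻¹ᵁ O := by rw [htop]; trivial
    exact this
  let g₀ := IsOpenImmersion.lift O.ι g.left hrange
  have hg₀ : g₀ ≫ O.ι = g.left := IsOpenImmersion.lift_fac _ _ _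
  refine ⟨Over.mk (O.ι ≫ M.hom), Over.homMk O.ι rfl, Over.homMk g₀ ?_, hO, ?_, ?_⟩
  · change g₀ ≫ O.ι ≫ M.hom = str
    rw [← Category.assoc, hg₀]
    exact Over.w g
  · change IsOpenImmersion O.ι
    infer_instance
  · apply Over.OverMorphism.ext
    exact hg₀

/-- **A point of an algebraic space with values in a henselian local ring lifts to an affine
etale chart.** -/
theorem main18308 (X : AlgSp.Space S)
    (R : Type u) [CommRing R] [HenselianLocalRing R] (str : Spec (CommRingCat.of R) ⟶ S)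
    (z : (AlgSp.yon S).obj (Over.mk str) ⟶ X.obj) :
    ∃ (Z : Over S) (p : (AlgSp.yon S).obj Z ⟶ X.obj) (g : Over.mk str ⟶ Z),
      IsAffine Z.left ∧ AlgSp.RepWith @Etale p ∧ (AlgSp.yon S).map g ≫ p = z := by
  obtain ⟨M, f0, μ, hf0e, hμ⟩ := exists_chart_of_field_point X.property
    (IsLocalRing.ResidueField R) (Spec.map (CommRingCat.ofHom (IsLocalRing.residue R)) ≫ str)
    ((yon S).map (clPt R str) ≫ z)
  obtain ⟨g, hg, -⟩ := exists_lift_of_etale f0 hf0e R str z μ hμ
  obtain ⟨Z, ι, g', hZ, hι, hg'⟩ := exists_affine_factor R str g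
  refine ⟨Z, (yon S).map ι ≫ f0, g', hZ, ?_, ?_⟩
  · exact MorphismProperty.comp_mem _ _ _
      ((repWith_yon_map_iff _ ι).2 (by haveI := hι; infer_instance)) hf0e
  · rw [← Category.assoc, ← Functor.map_comp, hg', hg]

end Groth.Agent.Lib.Helper3.HensLift
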