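import Mathlib
import Groth.Prelude.Def_AlgSpDec
import Groth.Agent.Lib.Helper3.HensLiftE
import Groth.Agent.Lib.Helper3.IntCovD
import Groth.Agent.Lib.Helper3.SpCoprod4
import Groth.Agent.Lib.Helper3.RNCo1
import Groth.Agent.Lib.Helper29.HenselUniv

set_option autoImplicit false
universe u
open CategoryTheory CategoryTheory.Limits AlgebraicGeometry Opposite
open AlgSp
open Groth.Agent.Lib.Helper3
open Groth.Agent.Lib.Helper3.FibPow

namespace Groth.Agent.Lib.Helper3.HensLift

set_option backward.isDefEq.respectTransparency false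

variable {S : Scheme.{u}}

/-- Every field valued point of an algebraic space lifts to an affine etale chart. -/
theorem exists_affine_chart_of_field_point {X : Sp S} (hX : IsAlgSpace X) (k : Type u) [Field k]
    (str₀ : Spec (CommRingCat.of k) ⟶ S) (z₀ : (yon S).obj (Over.mk str₀) ⟶ X) :
    ∃ (M : Over S) (f0 : (yon S).obj M ⟶ X) (μ : Over.mk str₀ ⟶ M),
      IsAffine M.left ∧ RepWith @Etale f0 ∧ (yon S).map μ ≫ f0 = z₀ := by
  obtain ⟨M, f0, μ, hf0e, hμ⟩ := exists_chart_of_field_point hX k str₀ z₀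
  obtain ⟨Z, ι, g', hZ, hι, hg'⟩ := exists_affine_factor k str₀ μ
  refine ⟨Z, (yon S).map ι ≫ f0, g', hZ, ?_, ?_⟩
  · exact MorphismProperty.comp_mem _ _ _
      ((repWith_yon_map_iff _ ι).2 (by haveI := hι; infer_instance)) hf0e
  · rw [← Category.assoc, ← Functor.map_comp, hg', hμ]

open Groth.Agent.Lib.Helper3.ZmtGen Groth.Agent.Lib.Helper3.IntCov in
/-- The coproduct of two etale charts is an etale chart. -/
theorem repWith_etale_coprod {X : Sp S} (hX : IsAlgSpace X) {A B : Over S}
    (g : (yon S).obj (zObj A B) ⟶ X)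
    (hα : RepWith @Etale ((yon S).map (zInl A B) ≫ g))
    (hβ : RepWith @Etale ((yon S).map (zInr A B) ≫ g)) : RepWith @Etale g := by
  refine repWith_of_openCover_source @Etale g (hX.representable_from_yon g) (pairOv A B)
    (fun i => match i with
      | ⟨true⟩ => zInl A B
      | ⟨false⟩ => zInr A B)
    (fun i => match i with
      | ⟨true⟩ => isOpenImmersion_zInl
      | ⟨false⟩ => isOpenImmersion_zInr)
    (fun y => ?_)
    (fun i => match i with
      | ⟨true⟩ => hα
      | ⟨false⟩ => hβ)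
  have hc := isCompl_range_inl_inr A.left B.left
  have hy : y ∈ Set.range (zInl A B).left ∪ Set.range (zInr A B).left := by
    have : Set.range (zInl A B).left ∪ Set.range (zInr A B).left = Set.univ := hc.sup_eq_top
    rw [this]
    trivial
  rcases hy with hy | hy
  · exact ⟨⟨true⟩, hy⟩
  · exact ⟨⟨false⟩, hy⟩

open Groth.Agent.Lib.Helper3.ZmtGen Groth.Agent.Lib.Helper3.IntCov in
/-- Finitely many points with values in a field lift to a common affine etale chart. -/
theorem exists_affine_chart_of_finset {X : Sp S} (hX : IsAlgSpace X) (k : Type u) [Field k]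
    (str₀ : Spec (CommRingCat.of k) ⟶ S) (s : Finset ((yon S).obj (Over.mk str₀) ⟶ X)) :
    ∃ (Z : Over S) (p : (yon S).obj Z ⟶ X), IsAffine Z.left ∧ RepWith @Etale p ∧
      ∀ z ∈ s, ∃ μ : Over.mk str₀ ⟶ Z, (yon S).map μ ≫ p = z := by
  classical
  induction s using Finset.induction_on with
  | empty =>
    obtain ⟨U, q, hqe, -⟩ := hX.atlas
    let O : U.left.Opens := ⊥
    let ι : Over.mk (O.ι ≫ U.hom) ⟶ U := Over.homMk O.ι rfl
    refine ⟨Over.mk (O.ι ≫ U.hom), (yon S).map ι ≫ q, isAffineOpen_bot U.left, ?_, ?_⟩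
    · exact MorphismProperty.comp_mem _ _ _
        ((repWith_yon_map_iff _ ι).2 (by change Etale O.ι; infer_instance)) hqe
    · intro z hz
      exact absurd hz (Finset.notMem_empty z)
  | insert z s hzs ih =>
    obtain ⟨Z, p, hZ, hpe, hlift⟩ := ih
    obtain ⟨M, f0, μ, hM, hf0e, hμ⟩ := exists_affine_chart_of_field_point hX k str₀ z
    obtain ⟨g, hg1, hg2⟩ := exists_coprod_desc f0 p
    haveI := hZ
    haveI := hM
    refine ⟨zObj M Z, g, ?_, ?_, ?_⟩
    · change IsAffine (M.left ⨿ Z.left)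
      infer_instance
    · exact repWith_etale_coprod hX g (by rw [hg1]; exact hf0e) (by rw [hg2]; exact hpe)
    · intro z' hz'
      rcases Finset.mem_insert.1 hz' with rfl | hz'
      · exact ⟨μ ≫ zInl M Z, by rw [Functor.map_comp, Category.assoc, hg1, hμ]⟩
      · obtain ⟨μ', hμ'⟩ := hlift z' hz'
        exact ⟨μ' ≫ zInr M Z, by rw [Functor.map_comp, Category.assoc, hg2, hμ']⟩

/-- **Points with values in quotients of a henselian local ring lift to an etale chart as soon
as the points with values in the residue field do.** -/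
theorem exists_lift_quotient {X : Sp S} {Z : Over S} (p : (yon S).obj Z ⟶ X)
    (hp : RepWith @Etale p) (R : Type u) [CommRing R] [HenselianLocalRing R]
    (str : Spec (CommRingCat.of R) ⟶ S)
    (hk : ∀ z₀ : (yon S).obj (Over.mk (Spec.map (CommRingCat.ofHom (IsLocalRing.residue R)) ≫
        str)) ⟶ X, ∃ μ : Over.mk (Spec.map (CommRingCat.ofHom (IsLocalRing.residue R)) ≫ str) ⟶ Z,
      (yon S).map μ ≫ p = z₀)
    (a : Ideal R)
    (x : (yon S).obj (Over.mk (Spec.map (CommRingCat.ofHom (Ideal.Quotient.mk a)) ≫ str)) ⟶ X) :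
    ∃ g : Over.mk (Spec.map (CommRingCat.ofHom (Ideal.Quotient.mk a)) ≫ str) ⟶ Z,
      (yon S).map g ≫ p = x := by
  by_cases ha : a = ⊤
  · -- the spectrum is empty
    haveI : Subsingleton (R ⧸ a) := by
      subst ha
      exact Ideal.Quotient.subsingleton_iff.2 rfl
    haveI hE : IsEmpty ↥(Spec (CommRingCat.of (R ⧸ a))) :=
      inferInstanceAs (IsEmpty (PrimeSpectrum (R ⧸ a)))
    let g₀ : Spec (CommRingCat.of (R ⧸ a)) ⟶ Z.left := (isInitialOfIsEmpty).to _
    have hE' : IsEmpty ↥(Over.mk (Spec.map (CommRingCat.ofHom (Ideal.Quotient.mk a)) ≫ str)).left :=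
      hE
    refine ⟨Over.homMk g₀ ((isInitialOfIsEmpty (X := Spec (CommRingCat.of (R ⧸ a)))).hom_ext _ _), ?_⟩
    exact RelNorm.hom_ext_of_isEmpty hE' _ _
  · haveI : Nontrivial (R ⧸ a) := Ideal.Quotient.nontrivial_iff.2 ha
    haveI : IsLocalRing (R ⧸ a) :=
      IsLocalRing.of_surjective' (Ideal.Quotient.mk a) Ideal.Quotient.mk_surjective
    haveI : HenselianLocalRing (R ⧸ a) := Groth.Agent.Lib.Helper29.henselian_quotient R a
    haveI : IsLocalHom (Ideal.Quotient.mk a) :=
      IsLocalHom.of_surjective _ Ideal.Quotient.mk_surjective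
    let π : R →+* R ⧸ a := Ideal.Quotient.mk a
    let φ : IsLocalRing.ResidueField R →+* IsLocalRing.ResidueField (R ⧸ a) :=
      IsLocalRing.ResidueField.map π
    have hφ : φ.comp (IsLocalRing.residue R) = (IsLocalRing.residue (R ⧸ a)).comp π :=
      IsLocalRing.ResidueField.map_comp_residue π
    have hφbij : Function.Bijective φ := by
      refine ⟨φ.injective, fun y => ?_⟩
      obtain ⟨y', rfl⟩ := IsLocalRing.residue_surjective y
      obtain ⟨r, rfl⟩ := Ideal.Quotient.mk_surjective y'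
      exact ⟨IsLocalRing.residue R r, congrArg (fun f => f r) hφ⟩
    let φe : IsLocalRing.ResidueField R ≃+* IsLocalRing.ResidueField (R ⧸ a) :=
      RingEquiv.ofBijective φ hφbij
    let str' : Spec (CommRingCat.of (R ⧸ a)) ⟶ S := Spec.map (CommRingCat.ofHom π) ≫ str
    let T : Over S := Over.mk (Spec.map (CommRingCat.ofHom (IsLocalRing.residue R)) ≫ str)
    let T' : Over S := Over.mk (Spec.map (CommRingCat.ofHom (IsLocalRing.residue (R ⧸ a))) ≫ str')
    have hcat : CommRingCat.ofHom (IsLocalRing.residue R) ≫ CommRingCat.ofHom φ =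
        CommRingCat.ofHom π ≫ CommRingCat.ofHom (IsLocalRing.residue (R ⧸ a)) := by
      ext r
      exact congrArg (fun f => f r) hφ
    let ε : T' ⟶ T := Over.homMk (Spec.map (CommRingCat.ofHom φ)) (by
      change Spec.map _ ≫ Spec.map _ ≫ str = Spec.map _ ≫ Spec.map _ ≫ str
      rw [← Category.assoc, ← Category.assoc, ← Spec.map_comp, ← Spec.map_comp, hcat])
    let εinv : T ⟶ T' := Over.homMk (Spec.map (CommRingCat.ofHom φe.symm.toRingHom)) (by
      change Spec.map _ ≫ Spec.map _ ≫ Spec.map _ ≫ str = Spec.map _ ≫ str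
      rw [← Category.assoc (Spec.map _) (Spec.map _) str, ← Spec.map_comp, ← hcat, Spec.map_comp,
        Category.assoc, ← Category.assoc, ← Spec.map_comp]
      have : CommRingCat.ofHom φ ≫ CommRingCat.ofHom φe.symm.toRingHom = 𝟙 _ := by
        ext y
        exact φe.symm_apply_apply y
      rw [this, Spec.map_id, Category.id_comp])
    have hεε : ε ≫ εinv = 𝟙 _ := by
      apply Over.OverMorphism.ext
      change Spec.map _ ≫ Spec.map _ = 𝟙 _
      rw [← Spec.map_comp]
      have : CommRingCat.ofHom φe.symm.toRingHom ≫ CommRingCat.ofHom φ = 𝟙 _ := by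
        ext y
        exact φe.apply_symm_apply y
      rw [this, Spec.map_id]
    let x₀ : (yon S).obj T' ⟶ X := (yon S).map (clPt (R ⧸ a) str') ≫ x
    obtain ⟨μ, hμ⟩ := hk ((yon S).map εinv ≫ x₀)
    have hμ' : (yon S).map (ε ≫ μ) ≫ p = (yon S).map (clPt (R ⧸ a) str') ≫ x := by
      rw [Functor.map_comp, Category.assoc, hμ, ← Category.assoc, ← Functor.map_comp, hεε,
        CategoryTheory.Functor.map_id, Category.id_comp]
    obtain ⟨g, hg, -⟩ := exists_lift_of_etale p hp (R ⧸ a) str' x (ε ≫ μ) hμ'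
    exact ⟨g, hg⟩

/-- **S18312.** -/
theorem main18312 (X : AlgSp.Space S)
    (R : Type u) [CommRing R] [HenselianLocalRing R] (str : Spec (CommRingCat.of R) ⟶ S)
    (hfin : Finite ((AlgSp.yon S).obj (Over.mk (Spec.map (CommRingCat.ofHom (IsLocalRing.residue R)) ≫ str)) ⟶ X.obj)) :
    ∃ (Z : Over S) (p : (AlgSp.yon S).obj Z ⟶ X.obj), IsAffine Z.left ∧ AlgSp.RepWith @Etale p ∧
      ∀ (a : Ideal R) (x : (AlgSp.yon S).obj (Over.mk (Spec.map (CommRingCat.ofHom (Ideal.Quotient.mk a)) ≫ str)) ⟶ X.obj),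
        ∃ g : Over.mk (Spec.map (CommRingCat.ofHom (Ideal.Quotient.mk a)) ≫ str) ⟶ Z, (AlgSp.yon S).map g ≫ p = x := by
  classical
  haveI := Fintype.ofFinite ((AlgSp.yon S).obj (Over.mk (Spec.map (CommRingCat.ofHom
    (IsLocalRing.residue R)) ≫ str)) ⟶ X.obj)
  obtain ⟨Z, p, hZ, hpe, hlift⟩ := exists_affine_chart_of_finset X.property
    (IsLocalRing.ResidueField R) (Spec.map (CommRingCat.ofHom (IsLocalRing.residue R)) ≫ str)
    Finset.univ
  exact ⟨Z, p, hZ, hpe, fun a x =>
    exists_lift_quotient p hpe R str (fun z₀ => hlift z₀ (Finset.mem_univ _)) a x⟩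

end Groth.Agent.Lib.Helper3.HensLift
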