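import Mathlib
import Groth.Prelude.Def_AlgSpDec
import Groth.Agent.Lib.Helper3.HensLiftG
import Groth.Agent.Lib.Helper12.GreenbergB
import Groth.Agent.Lib.Helper29.HenselUniv

set_option autoImplicit false
universe u
open CategoryTheory CategoryTheory.Limits AlgebraicGeometry Opposite
open AlgSp
open Groth.Agent.Lib.Helper3
open Groth.Agent.Lib.Helper3.FibPow

namespace Groth.Agent.Lib.Helper3.HensLift

set_option backward.isDefEq.respectTransparency false

/-- A henselian local ring is henselian along every proper ideal. -/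
theorem henselianRing_of_ne_top (R : Type u) [CommRing R] [HenselianLocalRing R] (a : Ideal R)
    (ha : a ≠ ⊤) : HenselianRing R a := by
  haveI : HenselianRing R (IsLocalRing.maximalIdeal R) := inferInstance
  exact Groth.Agent.Lib.Helper12.Greenberg.henselianRing_of_le (I := IsLocalRing.maximalIdeal R)
    (IsLocalRing.le_maximalIdeal ha)

/-- **Smooth affine schemes over a henselian local ring: points over a quotient lift.** -/
theorem exists_section_of_smooth_affine (R : Type u) [CommRing R] [HenselianLocalRing R]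
    (Z : Over (Spec (CommRingCat.of R))) [IsAffine Z.left] (hZ : Smooth Z.hom)
    (a : Ideal R) (ha : a ≠ ⊤)
    (g : Over.mk (Spec.map (CommRingCat.ofHom (Ideal.Quotient.mk a))) ⟶ Z) :
    ∃ σ : Over.mk (𝟙 (Spec (CommRingCat.of R))) ⟶ Z,
      (Over.homMk (Spec.map (CommRingCat.ofHom (Ideal.Quotient.mk a)))
        (Category.comp_id _) : Over.mk (Spec.map (CommRingCat.ofHom (Ideal.Quotient.mk a))) ⟶
          Over.mk (𝟙 _)) ≫ σ = g := by
  let e := Z.left.isoSpec
  obtain ⟨ψ', hψ'⟩ := Spec.map_surjective (e.inv ≫ Z.hom)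
  obtain ⟨χ', hχ'⟩ := Spec.map_surjective (g.left ≫ e.hom)
  have hψe : ψ'.hom.Smooth := by
    have : Smooth (Spec.map ψ') := by
      rw [hψ']
      haveI := hZ
      infer_instance
    exact (HasRingHomProperty.Spec_iff (P := @Smooth)).1 this
  have hcomp : ψ' ≫ χ' = CommRingCat.ofHom (Ideal.Quotient.mk a) := by
    apply Spec.map_injective
    rw [Spec.map_comp, hχ', hψ', Category.assoc, e.hom_inv_id_assoc]
    exact Over.w g
  algebraize [ψ'.hom]
  let A := ↑Γ(Z.left, ⊤)
  let χ : A →+* R ⧸ a := χ'.hom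
  have hχψ : ∀ r : R, χ (algebraMap R A r) = Ideal.Quotient.mk a r := fun r => by
    have := congrArg (fun f => f.hom r) hcomp
    exact this
  let σA : A →ₐ[R] R ⧸ a :=
    { χ with
      commutes' := fun r => hχψ r }
  haveI : HenselianRing R a := henselianRing_of_ne_top R a ha
  obtain ⟨f, hf⟩ := Groth.Agent.S0536.result R A R a σA
  have hfχ : ∀ x : A, Ideal.Quotient.mk a (f x) = χ x := fun x => by
    have := congrArg (fun g => g x) hf
    exact this
  let fC : Γ(Z.left, ⊤) ⟶ CommRingCat.of R := CommRingCat.ofHom f.toRingHom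
  let σ₀ : Spec (CommRingCat.of R) ⟶ Z.left := Spec.map fC ≫ e.inv
  have hσ₀R : σ₀ ≫ Z.hom = 𝟙 _ := by
    change (Spec.map fC ≫ e.inv) ≫ Z.hom = 𝟙 _
    rw [Category.assoc, ← hψ', ← Spec.map_comp]
    have : ψ' ≫ fC = 𝟙 _ := by
      ext r
      exact f.commutes r
    rw [this, Spec.map_id]
  have hσ₀k : Spec.map (CommRingCat.ofHom (Ideal.Quotient.mk a)) ≫ σ₀ = g.left := by
    change _ ≫ Spec.map fC ≫ e.inv = _
    rw [← Category.assoc, ← Spec.map_comp]
    have : fC ≫ CommRingCat.ofHom (Ideal.Quotient.mk a) = χ' := by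
      ext x
      exact hfχ x
    rw [this, hχ', Category.assoc, e.hom_inv_id, Category.comp_id]
  refine ⟨Over.homMk σ₀ hσ₀R, ?_⟩
  apply Over.OverMorphism.ext
  exact hσ₀k

/-- **Points of a smooth algebraic space over a henselian local ring with values in a quotient
lift.** -/
theorem main18313 (R : Type u) [CommRing R] [HenselianLocalRing R]
    (X : AlgSp.Space (Spec (CommRingCat.of R)))
    (hX : ∃ (U : Over (Spec (CommRingCat.of R))) (c : (AlgSp.yon (Spec (CommRingCat.of R))).obj U ⟶ X.obj),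
      Smooth U.hom ∧ AlgSp.RepWith @Etale c ∧ AlgSp.RepWith @Surjective c)
    (a : Ideal R) (ha : a ≠ ⊤)
    (x₀ : (AlgSp.yon (Spec (CommRingCat.of R))).obj (Over.mk (Spec.map (CommRingCat.ofHom (Ideal.Quotient.mk a)))) ⟶ X.obj) :
    ∃ x : (AlgSp.yon (Spec (CommRingCat.of R))).obj (Over.mk (𝟙 (Spec (CommRingCat.of R)))) ⟶ X.obj,
      (AlgSp.yon (Spec (CommRingCat.of R))).map (Over.homMk (Spec.map (CommRingCat.ofHom (Ideal.Quotient.mk a)))
        (Category.comp_id _) : Over.mk (Spec.map (CommRingCat.ofHom (Ideal.Quotient.mk a))) ⟶ Over.mk (𝟙 _)) ≫ x = x₀ := by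
  obtain ⟨U, c, hU, hce, hcs⟩ := hX
  haveI : Nontrivial (R ⧸ a) := Ideal.Quotient.nontrivial_iff.2 ha
  haveI : IsLocalRing (R ⧸ a) :=
    IsLocalRing.of_surjective' (Ideal.Quotient.mk a) Ideal.Quotient.mk_surjective
  haveI : HenselianLocalRing (R ⧸ a) := Groth.Agent.Lib.Helper29.henselian_quotient R a
  obtain ⟨Z, p, g, hZ, hpe, hg⟩ := main18308 X (R ⧸ a)
    (Spec.map (CommRingCat.ofHom (Ideal.Quotient.mk a))) x₀
  haveI := hZ
  -- `Z` is smooth over `Spec R`
  have hrep := hce.rep
  let P := hrep.pullback p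
  let prU : P ⟶ U := hrep.fst' p
  let prZ : P ⟶ Z := hrep.snd p
  have sq : IsPullback ((yon _).map prU) ((yon _).map prZ) c p := hrep.isPullback' p
  have h1 : Etale prZ.left := hce.property _ _ _ sq
  have h2 : Surjective prZ.left := hcs.property _ _ _ sq
  have h3 : Etale prU.left := hpe.property _ _ _ sq.flip
  have hZs : Smooth Z.hom := by
    refine isEtLocal_smooth.of_comp prZ.left Z.hom h1 h2 ?_
    rw [Over.w prZ, ← Over.w prU]
    haveI := hU
    haveI := h3
    infer_instance
  obtain ⟨σ, hσ⟩ := exists_section_of_smooth_affine R Z hZs a ha g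
  refine ⟨(yon _).map σ ≫ p, ?_⟩
  rw [← Category.assoc, ← Functor.map_comp, hσ, hg]

end Groth.Agent.Lib.Helper3.HensLift
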