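import Mathlib
import Groth.Prelude.Def_AlgSpDec
import Groth.Agent.Lib.Helper3.HensLiftI
import Groth.Agent.Lib.Helper3.HensLiftF

set_option autoImplicit false
universe u
open CategoryTheory CategoryTheory.Limits AlgebraicGeometry Opposite
open AlgSp
open Groth.Agent.Lib.Helper3
open Groth.Agent.Lib.Helper3.FibPow

namespace Groth.Agent.Lib.Helper3.HensLift

set_option backward.isDefEq.respectTransparency false

variable {S : Scheme.{u}}

/-- **A small family of affine etale charts through which every field valued point lifts.** -/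
theorem exists_chart_family {X : Sp S} (hX : IsAlgSpace X) :
    ∃ (κ : Type u) (M : κ → Over S) (f0 : ∀ i, (yon S).obj (M i) ⟶ X),
      (∀ i, IsAffine (M i).left) ∧ (∀ i, RepWith @Etale (f0 i)) ∧
      ∀ (k : Type u) [Field k] (str₀ : Spec (CommRingCat.of k) ⟶ S)
        (z₀ : (yon S).obj (Over.mk str₀) ⟶ X),
        ∃ (i : κ) (μ : Over.mk str₀ ⟶ M i), (yon S).map μ ≫ f0 i = z₀ := by
  obtain ⟨V₀, b₀, hbe, hbs⟩ := hX.atlas
  -- the affine charts
  let UW : V₀.left.affineOpens → Over S := fun W => Over.mk (W.1.ι ≫ V₀.hom)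
  let aW : ∀ W : V₀.left.affineOpens, (yon S).obj (UW W) ⟶ X := fun W => chartRestrict b₀ W.1
  have haW : ∀ W, RepWith @Etale (aW W) := fun W => chartRestrict_etale b₀ hbe W.1
  have hUW : ∀ W, IsAffine (UW W).left := fun W => W.2
  have cW : ∀ W, Ctx (aW W) := fun W =>
    haveI := hUW W
    ⟨(haW W).rep, haW W, repWith_isSeparated_of_isAffine (aW W) (haW W).rep⟩
  have hq : ∀ p : V₀.left.affineOpens × ℕ,
      ∃ (M : Over S) (m : (fp (cW p.1).rep (cW p.1).et (cW p.1).sep p.2).W (cW p.1) ⟶ M)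
        (f0 : (yon S).obj M ⟶ X),
        (∀ σ, (fp (cW p.1).rep (cW p.1).et (cW p.1).sep p.2).perm (cW p.1) σ ≫ m = m) ∧
        (yon S).map m ≫ f0 = (fp (cW p.1).rep (cW p.1).et (cW p.1).sep p.2).wπ (cW p.1) ∧
        RepWith @Etale f0 := by
    intro p
    haveI := hUW p.1
    obtain ⟨M, m, f0, -, -, -, hperm, hmf0, hf0e, -⟩ :=
      (fp (cW p.1).rep (cW p.1).et (cW p.1).sep p.2).exists_quotient (cW p.1) hX
    exact ⟨M, m, f0, hperm, hmf0, hf0e⟩
  choose M m f0 hperm hmf0 hf0e using hq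
  let κ : Type u := Σ p : V₀.left.affineOpens × ℕ, (M p).left.affineOpens
  let Mκ : κ → Over S := fun i => Over.mk (i.2.1.ι ≫ (M i.1).hom)
  let ικ : ∀ i : κ, Mκ i ⟶ M i.1 := fun i => Over.homMk i.2.1.ι rfl
  refine ⟨κ, Mκ, fun i => (yon S).map (ικ i) ≫ f0 i.1, fun i => i.2.2, fun i => ?_, ?_⟩
  · exact MorphismProperty.comp_mem _ _ _
      ((repWith_yon_map_iff _ (ικ i)).2 (by change Etale i.2.1.ι; infer_instance)) (hf0e i.1)
  · intro k _ str₀ z₀
    let pt : ↥(Over.mk str₀).left := (IsLocalRing.closedPoint k : ↥(Spec (CommRingCat.of k)))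
    obtain ⟨v₀, hv₀⟩ := exists_ofPt_eq b₀ hbs (Points.ofPt z₀ pt)
    obtain ⟨W₀, hW₀, huW⟩ : ∃ W₀ : V₀.left.Opens, IsAffineOpen W₀ ∧ v₀ ∈ W₀ := by
      obtain ⟨_, ⟨W, hW, rfl⟩, huW, -⟩ := (V₀.left.isBasis_affineOpens).exists_subset_of_mem_open
        (Set.mem_univ v₀) isOpen_univ
      exact ⟨W, hW, huW⟩
    let W : V₀.left.affineOpens := ⟨W₀, hW₀⟩
    let w : ↥(UW W).left := (⟨v₀, huW⟩ : ↥W₀)
    have hw : Points.ofPt (aW W) w = Points.ofPt z₀ pt := by
      change Points.ofPt (chartRestrict b₀ W₀) w = _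
      rw [ofPt_chartRestrict]
      exact hv₀
    obtain ⟨n, hn⟩ := exists_descended_point (aW W) (cW W) w k str₀ z₀ hw
    obtain ⟨μ, hμ⟩ := hn (M (W, n)) (m (W, n)) (f0 (W, n)) (hperm (W, n)) (hmf0 (W, n))
      (hf0e (W, n))
    -- factor through an affine open
    obtain ⟨O, hO, hptO⟩ : ∃ O : (M (W, n)).left.Opens, IsAffineOpen O ∧ μ.left pt ∈ O := by
      obtain ⟨_, ⟨O, hO, rfl⟩, h, -⟩ :=
        ((M (W, n)).left.isBasis_affineOpens).exists_subset_of_mem_open
          (Set.mem_univ (μ.left pt)) isOpen_univ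
      exact ⟨O, hO, h⟩
    haveI : Subsingleton ↥(Spec (CommRingCat.of k)) :=
      inferInstanceAs (Subsingleton (PrimeSpectrum k))
    have hrange : Set.range μ.left ⊆ Set.range O.ι := by
      rw [Scheme.Opens.range_ι]
      rintro _ ⟨t, rfl⟩
      have : t = pt := @Subsingleton.elim ↥(Spec (CommRingCat.of k)) _ _ _
      rw [this]
      exact hptO
    let g₀ := IsOpenImmersion.lift O.ι μ.left hrange
    have hg₀ : g₀ ≫ O.ι = μ.left := IsOpenImmersion.lift_fac _ _ _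
    let i : κ := ⟨(W, n), ⟨O, hO⟩⟩
    let g : Over.mk str₀ ⟶ Mκ i := Over.homMk g₀ (by
      change g₀ ≫ O.ι ≫ (M (W, n)).hom = str₀
      rw [← Category.assoc, hg₀]
      exact Over.w μ)
    have hg : g ≫ ικ i = μ := Over.OverMorphism.ext hg₀
    refine ⟨i, g, ?_⟩
    rw [← Category.assoc, ← Functor.map_comp, hg, hμ]

end Groth.Agent.Lib.Helper3.HensLift
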