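import Mathlib
import Groth.Prelude.Def_AlgSpDec
import Groth.Agent.Lib.Helper3.HensLiftJ
import Groth.Agent.Lib.Helper3.SpCoprod5

set_option autoImplicit false
universe u
open CategoryTheory CategoryTheory.Limits AlgebraicGeometry Opposite
open AlgSp
open Groth.Agent.Lib.Helper3
open Groth.Agent.Lib.Helper3.FibPow

namespace Groth.Agent.Lib.Helper3.HensLift

set_option backward.isDefEq.respectTransparency false

variable {S : Scheme.{u}}

/-- A scheme covered by pairwise disjoint affine open subschemes is separated over any base. -/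
theorem isSeparated_of_disjoint_affine_cover {Y T : Scheme.{u}} (f : Y ⟶ T) {ι : Type u}
    (V : ι → Scheme.{u}) (j : ∀ i, V i ⟶ Y) [∀ i, IsOpenImmersion (j i)] [∀ i, IsAffine (V i)]
    (hcov : ∀ y : ↥Y, ∃ i, y ∈ Set.range (j i))
    (hdisj : ∀ i i', i ≠ i' → Disjoint (Set.range (j i)) (Set.range (j i'))) :
    IsSeparated f := by
  haveI hσ : IsOpenImmersion (Sigma.desc j) :=
    isOpenImmersion_sigmaDesc _ _ (fun i i' h => hdisj i i' h)
  haveI : IsIso (Sigma.desc j) := by
    apply isIso_of_isOpenImmersion_of_opensRange_eq_top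
    rw [eq_top_iff]
    intro y _
    obtain ⟨i, v, rfl⟩ := hcov y
    refine ⟨Sigma.ι V i v, ?_⟩
    rw [← Scheme.Hom.comp_apply, Sigma.ι_desc]
  let e : (∐ V) ≅ ∐ (fun i => Spec Γ(V i, ⊤)) := Sigma.mapIso (fun i => (V i).isoSpec)
  let τ : Y ⟶ Spec (.of (Π i, Γ(V i, ⊤))) :=
    inv (Sigma.desc j) ≫ e.hom ≫ sigmaSpec (fun i => Γ(V i, ⊤))
  haveI : IsOpenImmersion τ := inferInstance
  haveI : IsSeparated (terminal.from Y) := by
    have : terminal.from Y = τ ≫ terminal.from _ := Subsingleton.elim _ _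
    rw [this]
    infer_instance
  haveI : IsSeparated (f ≫ terminal.from T) := by
    have : f ≫ terminal.from T = terminal.from Y := Subsingleton.elim _ _
    rw [this]
    infer_instance
  exact IsSeparated.of_comp f (terminal.from T)

/-- Two coprojections of a coproduct of sheaves only meet over the empty scheme. -/
theorem isEmpty_of_comp_inj_eq {κ : Type u} {F : κ → Sp S} (c : Cofan F) (hc : IsColimit c)
    {i j : κ} (hij : i ≠ j) {T : Over S} (a : (yon S).obj T ⟶ F i) (b : (yon S).obj T ⟶ F j)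
    (h : a ≫ c.inj i = b ≫ c.inj j) : IsEmpty ↥T.left := by
  refine SpCoprod.isEmpty_of_inj_eq_inj c hc hij ((J S).uliftYonedaEquiv.{u+1} a)
    ((J S).uliftYonedaEquiv.{u+1} b) ?_
  rw [← (J S).uliftYonedaEquiv_comp.{u+1}, ← (J S).uliftYonedaEquiv_comp.{u+1}, h]

/-- **A separated etale chart through which all points with values in quotients of a henselian
local ring lift.** -/
theorem main18311 (X : AlgSp.Space S)
    (R : Type u) [CommRing R] [HenselianLocalRing R] (str : Spec (CommRingCat.of R) ⟶ S) :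
    ∃ (Z : Over S) (p : (AlgSp.yon S).obj Z ⟶ X.obj), IsSeparated Z.hom ∧ AlgSp.RepWith @Etale p ∧
      ∀ (a : Ideal R) (x : (AlgSp.yon S).obj (Over.mk (Spec.map (CommRingCat.ofHom (Ideal.Quotient.mk a)) ≫ str)) ⟶ X.obj),
        ∃ g : Over.mk (Spec.map (CommRingCat.ofHom (Ideal.Quotient.mk a)) ≫ str) ⟶ Z, (AlgSp.yon S).map g ≫ p = x := by
  obtain ⟨κ, M, f0, hMaff, hf0e, hlift⟩ := exists_chart_family X.property
  let c' : Cofan (fun i => (yon S).obj (M i)) := Cofan.mk (∐ fun i => (yon S).obj (M i))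
    (Sigma.ι fun i => (yon S).obj (M i))
  have hc' : IsColimit c' := coproductIsCoproduct _
  obtain ⟨G, e, j, hje, hjo, hjs⟩ := SpCoprod.exists_iso_yon_of_cofan_yon M c' hc'
  let D : c'.pt ⟶ X.obj := Cofan.IsColimit.desc hc' f0
  have hD : ∀ i, c'.inj i ≫ D = f0 i := fun i => Cofan.IsColimit.fac hc' _ i
  have hp : ∀ i, (yon S).map (j i) ≫ e.hom ≫ D = f0 i := by
    intro i
    rw [← Category.assoc, hje, hD]
  have hpe : RepWith @Etale (e.hom ≫ D) :=
    repWith_of_openCover_source @Etale (e.hom ≫ D) (X.property.representable_from_yon _) M j hjo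
      hjs (fun i => by rw [hp]; exact hf0e i)
  refine ⟨G, e.hom ≫ D, ?_, hpe, ?_⟩
  · haveI := hjo
    haveI := hMaff
    refine isSeparated_of_disjoint_affine_cover G.hom (fun i => (M i).left)
      (fun i => (j i).left) hjs ?_
    intro i i' hii
    rw [Set.disjoint_iff_forall_ne]
    rintro _ ⟨v, rfl⟩ _ ⟨v', rfl⟩ heq
    obtain ⟨z, -, -⟩ := exists_left_preimage_pullback (j i) (j i') v v' heq
    have hemp : IsEmpty ↥(pullback (j i) (j i')).left :=
      isEmpty_of_comp_inj_eq c' hc' hii ((yon S).map (pullback.fst (j i) (j i')))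
        ((yon S).map (pullback.snd (j i) (j i'))) (by
          rw [← hje i, ← hje i', ← Category.assoc, ← Category.assoc, ← Functor.map_comp,
            ← Functor.map_comp, pullback.condition])
    exact hemp.false z
  · intro a x
    refine exists_lift_quotient (e.hom ≫ D) hpe R str ?_ a x
    intro z₀
    obtain ⟨i, μ, hμ⟩ := hlift (IsLocalRing.ResidueField R) _ z₀
    exact ⟨μ ≫ j i, by rw [Functor.map_comp, Category.assoc, hp, hμ]⟩

end Groth.Agent.Lib.Helper3.HensLift
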