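import Groth.Agent.Lib.Helper3.DegTower6
import Groth.Agent.Lib.Helper4.RedSubscheme

set_option autoImplicit false
universe u

namespace Groth.Agent.Lib.Helper3.LNDec

open CategoryTheory CategoryTheory.Limits AlgebraicGeometry TopologicalSpace
open Groth.Agent.Lib.Helper3.DegTower

/-- An etale separated morphism with finite fibres to a Noetherian affine scheme has
quasi-compact source. -/
theorem compactSpace_of_noetherian (G : ES.{u}) [IsAffine G.B] [NoetherianSpace ↥G.B]
    (hfib : ∀ b : ↥G.B, (G.g ⁻¹' {b}).Finite) : CompactSpace ↥G.A := by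
  have key : ∀ Z : Closeds ↥G.B, IsCompact (G.g ⁻¹' (Z : Set ↥G.B)) := by
    intro Z
    induction Z using WellFoundedLT.induction with
    | ind Z ih =>
    by_cases hZ : (Z : Set ↥G.B) = ∅
    · rw [hZ, Set.preimage_empty]; exact isCompact_empty
    let I := Scheme.IdealSheafData.vanishingIdeal Z
    let ι : I.subscheme ⟶ G.B := I.subschemeι
    have hr : Set.range ι = (Z : Set ↥G.B) :=
      Groth.Agent.Lib.Helper4.RedSubscheme.range_subschemeι_vanishingIdeal Z
    have hemb : Topology.IsClosedEmbedding ι := ι.isClosedEmbedding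
    haveI : IsAffine I.subscheme := isAffine_of_isAffineHom ι
    haveI : NoetherianSpace ↥I.subscheme := hemb.isInducing.noetherianSpace
    haveI : Nonempty ↥I.subscheme := by
      obtain ⟨z, hz⟩ := Set.nonempty_iff_ne_empty.2 hZ
      rw [← hr] at hz
      obtain ⟨w, _⟩ := hz
      exact ⟨w⟩
    let G' : ES.{u} := ⟨pullback G.g ι, I.subscheme, pullback.snd G.g ι, inferInstance, inferInstance⟩
    have hfst_inj : Function.Injective (pullback.fst G.g ι) :=
      (pullback.fst G.g ι).isClosedEmbedding.injective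
    have hfib' : ∀ b : ↥G'.B, (G'.g ⁻¹' {b}).Finite := by
      intro b
      refine Set.Finite.of_finite_image ((hfib (ι b)).subset ?_) hfst_inj.injOn
      rintro _ ⟨w, hw, rfl⟩
      change G.g (pullback.fst G.g ι w) = ι b
      rw [← Scheme.Hom.comp_apply, pullback.condition, Scheme.Hom.comp_apply]
      exact congrArg ι hw
    obtain ⟨V, hVne, hVfin⟩ := exists_open_finite G' hfib'
    have hVc : CompactSpace ↥V := isCompact_iff_compactSpace.1 (NoetherianSpace.isCompact _)
    have hVc' : CompactSpace ↥(V.toScheme) := hVc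
    have hpc : CompactSpace ↥(G'.g ⁻¹ᵁ V).toScheme :=
      QuasiCompact.compactSpace_of_compactSpace (G'.g ∣_ V)
    have hpc' : IsCompact ((G'.g ⁻¹ᵁ V : G'.A.Opens) : Set ↥G'.A) :=
      isCompact_iff_compactSpace.2 hpc
    -- the smaller closed set
    let Z' : Closeds ↥G.B := ⟨ι '' ((V : Set ↥I.subscheme)ᶜ), hemb.isClosedMap _ V.isOpen.isClosed_compl⟩
    have hZ'le : Z' ≤ Z := by
      intro b hb
      obtain ⟨z, -, rfl⟩ := hb
      change ι z ∈ (Z : Set ↥G.B)
      rw [← hr]; exact ⟨z, rfl⟩
    have hZ'lt : Z' < Z := by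
      refine lt_of_le_of_ne hZ'le ?_
      intro heq
      obtain ⟨v, hv⟩ := hVne
      have h1 : ι v ∈ (Z : Set ↥G.B) := by rw [← hr]; exact ⟨v, rfl⟩
      rw [← heq] at h1
      obtain ⟨z, hz, hzv⟩ := h1
      have := hemb.injective hzv
      subst this
      exact hz hv
    have h1 := ih Z' hZ'lt
    have h2 : IsCompact (pullback.fst G.g ι '' ((G'.g ⁻¹ᵁ V : G'.A.Opens) : Set ↥G'.A)) :=
      hpc'.image (pullback.fst G.g ι).continuous
    refine (h1.union h2).of_isClosed_subset (Z.isClosed.preimage G.g.continuous) ?_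
    intro a ha
    have ha' : G.g a ∈ Set.range ι := by rw [hr]; exact ha
    obtain ⟨z, hz⟩ := ha'
    by_cases hzV : z ∈ V
    · right
      obtain ⟨w, hw1, hw2⟩ := Scheme.Pullback.exists_preimage_pullback a z hz.symm
      refine ⟨w, ?_, hw1⟩
      change pullback.snd G.g ι w ∈ V
      rw [hw2]; exact hzV
    · left
      change G.g a ∈ ι '' ((V : Set ↥I.subscheme)ᶜ)
      exact ⟨z, hzV, hz⟩
  have := key ⊤
  rw [Closeds.coe_top, Set.preimage_univ] at this
  exact isCompact_univ_iff.1 this

end Groth.Agent.Lib.Helper3.LNDec
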