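import Groth.Agent.Lib.Helper3.LNDec1

set_option autoImplicit false
universe u

namespace Groth.Agent.Lib.Helper3.LNDec

open CategoryTheory CategoryTheory.Limits AlgebraicGeometry TopologicalSpace
open Groth.Agent.Lib.Helper3.DegTower

/-- For an etale separated morphism with finite fibres to a locally Noetherian scheme, every
subset of the preimage of an affine open is compact. -/
theorem isCompact_of_subset_preimage_affineOpen {A B : Scheme.{u}} (g : A ⟶ B) [Etale g]
    [IsSeparated g] [IsLocallyNoetherian B] (hfib : ∀ b : ↥B, (g ⁻¹' {b}).Finite)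
    (O : B.Opens) (hO : IsAffineOpen O) (T : Set ↥A) (hT : T ⊆ g ⁻¹' (O : Set ↥B)) :
    IsCompact T := by
  haveI : IsAffine O.toScheme := hO
  haveI : IsNoetherianRing Γ(B, O) := IsLocallyNoetherian.component_noetherian ⟨O, hO⟩
  haveI : NoetherianSpace ↥O := noetherianSpace_of_isAffineOpen O hO
  haveI : NoetherianSpace ↥(O.toScheme) := ‹NoetherianSpace ↥O›
  let G : ES.{u} := ⟨(g ⁻¹ᵁ O).toScheme, O.toScheme, g ∣_ O, inferInstance, inferInstance⟩
  have hfib' : ∀ b : ↥G.B, (G.g ⁻¹' {b}).Finite := by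
    intro b
    refine Set.Finite.of_finite_image ((hfib (O.ι b)).subset ?_)
      ((g ⁻¹ᵁ O).ι.isOpenEmbedding.injective.injOn)
    rintro _ ⟨w, hw, rfl⟩
    change g ((g ⁻¹ᵁ O).ι w) = O.ι b
    rw [← Scheme.Hom.comp_apply, ← morphismRestrict_ι, Scheme.Hom.comp_apply]
    exact congrArg O.ι hw
  haveI : IsAffine G.B := hO
  haveI : NoetherianSpace ↥G.B := ‹NoetherianSpace ↥(O.toScheme)›
  have hc : CompactSpace ↥(g ⁻¹ᵁ O).toScheme := compactSpace_of_noetherian G hfib'
  haveI : IsLocallyNoetherian A := LocallyOfFiniteType.isLocallyNoetherian g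
  haveI : IsNoetherian (g ⁻¹ᵁ O).toScheme := { }
  have hN : NoetherianSpace ↥(g ⁻¹ᵁ O) := ‹IsNoetherian (g ⁻¹ᵁ O).toScheme›.noetherianSpace
  exact (noetherianSpace_set_iff _).1 hN T hT

end Groth.Agent.Lib.Helper3.LNDec
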