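import Groth.Agent.Lib.Helper3.GenDense10
import Groth.Agent.Lib.Helper3.GQRelQuot
import Groth.Agent.Lib.Helper3.DecMonoResidual
import Groth.Agent.Lib.Helper3.DecMonoEmb
import Groth.Agent.Lib.Helper3.DecMonoFib

set_option autoImplicit false
universe u w

namespace Groth.Agent.Lib.Helper3.OnePt

open CategoryTheory CategoryTheory.Limits AlgebraicGeometry Opposite AlgSp
open Groth.Agent.Lib.Helper3 Groth.Agent.Lib.Helper3.GenDense

variable {S : Scheme.{u}}

/-- A morphism out of an affine scheme is separated. -/
theorem isSeparated_of_isAffine_source {X Y : Scheme.{u}} [IsAffine X] (f : X ⟶ Y) :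
    IsSeparated f := by
  have : IsAffineHom (f ≫ terminal.from Y) := by
    have : IsAffine (⊤_ Scheme.{u}) := inferInstance
    exact (HasAffineProperty.iff_of_isAffine (P := @IsAffineHom)).2 inferInstance
  have : IsSeparated (f ≫ terminal.from Y) := inferInstance
  exact IsSeparated.of_comp f (terminal.from Y)

/-- For an equivalence relation `s, t : R ⇉ U` on an affine scheme over `S`, the projection `s`
is separated. -/
theorem isSeparated_of_isEqvRel {R U : Over S} (s t : R ⟶ U) (h : IsEqvRel s t)
    [IsAffine U.left] : IsSeparated s.left := by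
  have hmono : Mono (prod.lift t s) := by
    constructor
    intro T r r' hrr
    refine h.injective T r r' ?_ ?_
    · have := congrArg (fun k => k ≫ (prod.fst : U ⨯ U ⟶ U)) hrr
      simpa only [Category.assoc, prod.lift_fst] using this
    · have := congrArg (fun k => k ≫ (prod.snd : U ⨯ U ⟶ U)) hrr
      simpa only [Category.assoc, prod.lift_snd] using this
  have hmono' : Mono (prod.lift t s).left := inferInstance
  have h1 : (prod.lift t s).left ≫ (prod.snd : U ⨯ U ⟶ U).left = s.left := by
    rw [← Over.comp_left, prod.lift_snd]
  have hU : IsSeparated U.hom := isSeparated_of_isAffine_source U.hom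
  have h2 : IsSeparated (prod.snd : U ⨯ U ⟶ U).left := by
    rw [← Over.prodLeftIsoPullback_hom_snd]
    infer_instance
  rw [← h1]
  infer_instance

/-- A separated etale morphism with finite source to a one-point affine scheme is finite. -/
theorem isFinite_of_subsingleton_target {A B : Scheme.{u}} [IsAffine B] [Subsingleton ↥B]
    (g : A ⟶ B) [Etale g] [IsSeparated g] [Finite ↥A] (v : ↥B) : IsFinite g := by
  have hlqf : LocallyQuasiFinite g := locallyQuasiFinite_of_etale g
  obtain ⟨O, hvO, hO⟩ := exists_open_finite_of_separated g v
    (fun y _ => Subsingleton.elim _ _) (Set.toFinite _) (fun a _ => g.quasiFiniteAt a) ∅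
    Set.finite_empty (Set.notMem_empty v) (fun a _ => Or.inr (Subsingleton.elim _ _))
  have hOtop : O = ⊤ := by
    ext y
    have : y = v := Subsingleton.elim _ _
    simp only [this, SetLike.mem_coe, hvO, TopologicalSpace.Opens.coe_top, Set.mem_univ]
  rw [IsZariskiLocalAtTarget.iff_of_iSup_eq_top (P := @IsFinite) (fun _ : Unit => O)
    (by rw [hOtop]; exact iSup_const)]
  exact fun _ => hO

end Groth.Agent.Lib.Helper3.OnePt
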