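import Groth.Agent.Lib.Helper3.LNDec2
import Groth.Agent.Lib.Helper3.OnePt1
import Groth.Agent.Lib.Helper3.AlgSpDiag
import Groth.Agent.Lib.Helper3.FppfLocal2
import Groth.Agent.Lib.Helper3.DecMonoFib

set_option autoImplicit false
universe u

namespace Groth.Agent.Lib.Helper3.LNDec

open CategoryTheory CategoryTheory.Limits AlgebraicGeometry TopologicalSpace Opposite AlgSp
open Groth.Agent.Lib.Helper3

variable {S : Scheme.{u}}

/-- For a relation `R = U ×_X U`, the restriction of `t` to `s⁻¹(O)` for an affine open `O` of `U`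
is separated. -/
theorem isSeparated_restrict {X : Sp S} {U R : Over S} (p : (yon S).obj U ⟶ X) (s t : R ⟶ U)
    (sqR : IsPullback ((yon S).map t) ((yon S).map s) p p) (O : U.left.Opens)
    (hO : IsAffineOpen O) : IsSeparated ((s.left ⁻¹ᵁ O).ι ≫ t.left) := by
  let A' : Over S := Over.mk ((s.left ⁻¹ᵁ O).ι ≫ R.hom)
  let O' : Over S := Over.mk (O.ι ≫ U.hom)
  let ιA : A' ⟶ R := Over.homMk (s.left ⁻¹ᵁ O).ι rfl
  let ιO : O' ⟶ U := Over.homMk O.ι rfl
  let sA : A' ⟶ O' := Over.homMk (s.left ∣_ O) (by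
    change (s.left ∣_ O) ≫ O.ι ≫ U.hom = (s.left ⁻¹ᵁ O).ι ≫ R.hom
    rw [← Category.assoc, morphismRestrict_ι, Category.assoc, Over.w])
  have hsA : sA ≫ ιO = ιA ≫ s := by
    ext1
    change (s.left ∣_ O) ≫ O.ι = (s.left ⁻¹ᵁ O).ι ≫ s.left
    exact morphismRestrict_ι _ _
  have hιA : Mono ιA := by
    have : Mono ιA.left := by
      change Mono (s.left ⁻¹ᵁ O).ι
      infer_instance
    exact Over.mono_of_mono_left ιA
  have hmono : Mono (prod.lift (ιA ≫ t) sA) := by
    constructor
    intro T r r' hrr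
    have h1 : r ≫ ιA ≫ t = r' ≫ ιA ≫ t := by
      have := congrArg (fun k => k ≫ (prod.fst : U ⨯ O' ⟶ U)) hrr
      simpa only [Category.assoc, prod.lift_fst] using this
    have h2 : r ≫ sA = r' ≫ sA := by
      have := congrArg (fun k => k ≫ (prod.snd : U ⨯ O' ⟶ O')) hrr
      simpa only [Category.assoc, prod.lift_snd] using this
    have h3 : r ≫ ιA ≫ s = r' ≫ ιA ≫ s := by
      rw [← hsA, ← Category.assoc, h2, Category.assoc]
    rw [← cancel_mono ιA]
    apply (yon S).map_injective
    apply sqR.hom_ext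
    · rw [← Functor.map_comp, ← Functor.map_comp, Category.assoc, Category.assoc, h1]
    · rw [← Functor.map_comp, ← Functor.map_comp, Category.assoc, Category.assoc, h3]
  have hmono' : Mono (prod.lift (ιA ≫ t) sA).left := inferInstance
  have h1 : (prod.lift (ιA ≫ t) sA).left ≫ (prod.fst : U ⨯ O' ⟶ U).left =
      (s.left ⁻¹ᵁ O).ι ≫ t.left := by
    rw [← Over.comp_left, prod.lift_fst]
    rfl
  have hO' : IsSeparated O'.hom := by
    haveI : IsAffine O'.left := hO
    exact OnePt.isSeparated_of_isAffine_source O'.hom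
  have h2 : IsSeparated (prod.fst : U ⨯ O' ⟶ U).left := by
    rw [← Over.prodLeftIsoPullback_hom_fst]
    infer_instance
  rw [← h1]
  infer_instance

end Groth.Agent.Lib.Helper3.LNDec
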