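import Groth.Agent.Lib.Helper3.LNDec3

set_option autoImplicit false
universe u

namespace Groth.Agent.Lib.Helper3.LNDec

open CategoryTheory CategoryTheory.Limits AlgebraicGeometry TopologicalSpace Opposite AlgSp
open Groth.Agent.Lib.Helper3

variable {S : Scheme.{u}}

/-- Finite fibres of `t` restricted to `s⁻¹(O)`, `O` a quasi-compact open, for a decent space. -/
theorem finite_fibre_restrict {X : Sp S} (hXd : IsDecent X) {U R : Over S}
    (p : (yon S).obj U ⟶ X) (hpe : RepWith @Etale p) (s t : R ⟶ U)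
    (sqR : IsPullback ((yon S).map t) ((yon S).map s) p p) (O : U.left.Opens)
    (hO : IsCompact (O : Set ↥U.left)) (u : ↥U.left) :
    (((s.left ⁻¹ᵁ O).ι ≫ t.left) ⁻¹' {u}).Finite := by
  obtain ⟨q, hq, hqm, hqc⟩ := hXd (Points.ofPt p u)
  haveI := hqm
  haveI : CompactSpace ↥(Over.mk (O.ι ≫ U.hom)).left := by
    change CompactSpace ↥O
    exact isCompact_iff_compactSpace.1 hO
  have hF := finite_fibre_of_qc_point q hqc (chartRestrict p O) (chartRestrict_etale p hpe O)
  have hF' : {u' : ↥U.left | u' ∈ O ∧ Points.ofPt p u' = Points.ofPt p u}.Finite := by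
    refine (hF.image O.ι).subset ?_
    rintro u' ⟨hu'O, hu'⟩
    refine ⟨⟨u', hu'O⟩, ?_, rfl⟩
    change Points.ofPt (chartRestrict p O) _ = Points.mk q
    rw [ofPt_chartRestrict, hq]
    exact hu'
  have hfin : {r : ↥R.left | s.left r ∈ O ∧ t.left r = u}.Finite := by
    have hsub : {r : ↥R.left | s.left r ∈ O ∧ t.left r = u} ⊆
        ⋃ u' ∈ {u' : ↥U.left | u' ∈ O ∧ Points.ofPt p u' = Points.ofPt p u},
          {r : ↥R.left | s.left r = u' ∧ t.left r = u} := by
      rintro r ⟨hr1, hr2⟩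
      simp only [Set.mem_iUnion]
      refine ⟨s.left r, ⟨hr1, ?_⟩, rfl, hr2⟩
      rw [← hr2]
      exact (ofPt_comm_of_isPullback sqR r).symm
    refine (Set.Finite.biUnion hF' fun u' hu' => ?_).subset hsub
    exact finite_relation_fibre_of_mono_point q p hpe u' u (hu'.2.trans hq.symm) hq.symm R s t sqR
  refine Set.Finite.of_finite_image (hfin.subset ?_)
    ((s.left ⁻¹ᵁ O).ι.isOpenEmbedding.injective.injOn)
  rintro _ ⟨a, ha, rfl⟩
  refine ⟨a.2, ?_⟩
  exact ha

end Groth.Agent.Lib.Helper3.LNDec
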