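import Groth.Agent.Lib.Helper3.LNDec4

set_option autoImplicit false
universe u

namespace Groth.Agent.Lib.Helper3.LNDec

open CategoryTheory CategoryTheory.Limits AlgebraicGeometry TopologicalSpace Opposite AlgSp
open Groth.Agent.Lib.Helper3

variable {S : Scheme.{u}}

/-- **S10354.** A locally Noetherian decent algebraic space is quasi-separated. -/
theorem main10354 (X : AlgSp.Space S) (hN : AlgSp.IsLocNoethSp X.obj)
    (hX : AlgSp.IsDecent X.obj) : AlgSp.IsQuasiSeparatedSp X.obj := by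
  obtain ⟨U, p, hpe, hps, hU⟩ := hN
  haveI : IsLocallyNoetherian U.left := hU
  obtain ⟨R, t, s, sqR⟩ := exists_pullback_charts p hpe.1 p
  haveI := isLocalAtTarget_fppf_quasiCompact.{u}
  rw [AlgSp.IsQuasiSeparatedSp, repWith_diag_iff X.obj X.property.diag p hpe hps s t sqR
    @QuasiCompact]
  have het : Etale t.left := hpe.2 p ((yon S).map s) t sqR.flip
  set j := (prod.lift t s).left with hj
  let π₁ := (prod.fst : U ⨯ U ⟶ U).left
  let π₂ := (prod.snd : U ⨯ U ⟶ U).left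
  have hj1 : j ≫ π₁ = t.left := by rw [hj, ← Over.comp_left, prod.lift_fst]
  have hj2 : j ≫ π₂ = s.left := by rw [hj, ← Over.comp_left, prod.lift_snd]
  have hloc : ∀ z : ↥(U ⨯ U).left, ∃ N : (U ⨯ U).left.Opens, z ∈ N ∧
      ∀ T : Set ↥R.left, T ⊆ j ⁻¹' (N : Set ↥(U ⨯ U).left) → IsCompact T := by
    intro z
    obtain ⟨O₁, hO₁, hz₁, -⟩ := exists_isAffineOpen_mem_and_subset (x := π₁ z) (U := ⊤) trivial
    obtain ⟨O₂, hO₂, hz₂, -⟩ := exists_isAffineOpen_mem_and_subset (x := π₂ z) (U := ⊤) trivial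
    refine ⟨π₁ ⁻¹ᵁ O₁ ⊓ π₂ ⁻¹ᵁ O₂, ⟨hz₁, hz₂⟩, ?_⟩
    intro T hT
    let ι := (s.left ⁻¹ᵁ O₂).ι
    haveI : IsSeparated (ι ≫ t.left) := isSeparated_restrict p s t sqR O₂ hO₂
    have hfib := finite_fibre_restrict hX p hpe s t sqR O₂ hO₂.isCompact
    have hT1 : ι ⁻¹' T ⊆ (ι ≫ t.left) ⁻¹' (O₁ : Set ↥U.left) := by
      intro a ha
      have := (hT ha).1
      change π₁ (j (ι a)) ∈ O₁ at this
      rw [← Scheme.Hom.comp_apply, hj1] at this
      exact this
    have hc := isCompact_of_subset_preimage_affineOpen (ι ≫ t.left) hfib O₁ hO₁ _ hT1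
    have hT2 : T = ι '' (ι ⁻¹' T) := by
      rw [Set.image_preimage_eq_inter_range, Set.inter_eq_left.2]
      intro r hr
      have := (hT hr).2
      change π₂ (j r) ∈ O₂ at this
      rw [← Scheme.Hom.comp_apply, hj2] at this
      rw [Scheme.Opens.range_ι]
      exact this
    rw [hT2]
    exact hc.image ι.continuous
  choose N hzN hN using hloc
  constructor
  intro O hO hOc
  obtain ⟨F, hF⟩ := hOc.elim_finite_subcover (fun z => (N z : Set ↥(U ⨯ U).left))
    (fun z => (N z).isOpen) (fun z _ => Set.mem_iUnion.2 ⟨z, hzN z⟩)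
  have hcov : j ⁻¹' O = ⋃ z ∈ F, j ⁻¹' (O ∩ (N z : Set ↥(U ⨯ U).left)) := by
    ext r
    simp only [Set.mem_preimage, Set.mem_iUnion, Set.mem_inter_iff, exists_and_left, exists_prop]
    constructor
    · intro hr
      obtain ⟨z, hzF, hz⟩ := Set.mem_iUnion₂.1 (hF hr)
      exact ⟨hr, z, hzF, hz⟩
    · rintro ⟨hr, -⟩
      exact hr
  rw [hcov]
  exact F.isCompact_biUnion fun z _ => hN z _ (fun r hr => hr.2)

end Groth.Agent.Lib.Helper3.LNDec
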