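import Mathlib
import Groth.Agent.Lib.Helper3.LocFinIrred3
set_option autoImplicit false
universe u
open CategoryTheory CategoryTheory.Limits AlgebraicGeometry

namespace Groth.Agent.Lib.Helper3

/-- Finitely many points of a fibre of a morphism of finite type are maximal points of the source. -/
theorem finite_maxPts_inter_fibre {N V : Scheme.{u}} (q : N ⟶ V) [LocallyOfFiniteType q]
    [QuasiCompact q] (η : V) : (maxPts N ∩ q ⁻¹' {η}).Finite := by
  have : LocallyOfFiniteType (q.fiberToSpecResidueField η) :=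
    MorphismProperty.pullback_snd (P := @LocallyOfFiniteType) _ _ inferInstance
  haveI : IsLocallyNoetherian (q.fiber η) :=
    LocallyOfFiniteType.isLocallyNoetherian (q.fiberToSpecResidueField η)
  haveI : IsNoetherian (q.fiber η) := {}
  have hfin : (maxPts (q.fiber η)).Finite :=
    (finite_irreducibleComponents_iff_maxPts _).1
      TopologicalSpace.NoetherianSpace.finite_irreducibleComponents
  refine (hfin.image (q.fiberι η)).subset ?_
  rintro x ⟨hx, hxη⟩
  have hxr : x ∈ Set.range (q.fiberι η) := by rw [q.range_fiberι]; exact hxη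
  obtain ⟨z, rfl⟩ := hxr
  refine ⟨z, ?_, rfl⟩
  intro z' hz'
  have h1 : q.fiberι η z' ⤳ q.fiberι η z := hz'.map (q.fiberι η).continuous
  exact (q.fiberι η).isEmbedding.injective (hx _ h1)

theorem mem_maxPts_of_flat {U V : Scheme.{u}} (h : U ⟶ V) [Flat h] {x : U} (hx : x ∈ maxPts U) :
    h x ∈ maxPts V := by
  intro y hy
  obtain ⟨y', hy', rfl⟩ := Flat.generalizingMap h hy
  rw [hx y' hy']

theorem finite_maxPts_inter_of_affine {U V : Scheme.{u}} (h : U ⟶ V) [LocallyOfFiniteType h]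
    (N : U.Opens) (V' : V.Opens) (hN : IsAffineOpen N) (hV : IsAffineOpen V') (hNV : N ≤ h ⁻¹ᵁ V')
    (η : V) : (maxPts U ∩ (h ⁻¹' {η} ∩ (N : Set U))).Finite := by
  by_cases hη : η ∈ V'
  · haveI : IsAffine N.toScheme := hN
    haveI : IsAffine V'.toScheme := hV
    have hfin := finite_maxPts_inter_fibre (h.resLE V' N hNV) ⟨η, hη⟩
    refine (hfin.image N.ι).subset ?_
    rintro x ⟨hxm, hx1, hx2⟩
    refine ⟨⟨x, hx2⟩, ⟨(mem_maxPts_opens_iff N ⟨x, hx2⟩).2 hxm, ?_⟩, rfl⟩
    apply Subtype.ext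
    have := congr($(Scheme.Hom.resLE_comp_ι h hNV) ⟨x, hx2⟩)
    exact this.trans hx1
  · convert Set.finite_empty
    ext x
    simp only [Set.mem_inter_iff, Set.mem_preimage, Set.mem_singleton_iff, Set.mem_empty_iff_false,
      iff_false, not_and]
    intro _ hx hxN
    exact hη (hx ▸ hNV hxN)

theorem locFinIrred_of_flat_of_locallyOfFiniteType {U V : Scheme.{u}} (h : U ⟶ V) [Flat h]
    [LocallyOfFiniteType h] (hV : LocFinIrred V) : LocFinIrred U := by
  rw [locFinIrred_iff] at hV ⊢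
  intro W hW
  have hcov : ∀ w ∈ (W : Set U), ∃ (N : U.Opens) (V' : V.Opens), IsAffineOpen N ∧ IsAffineOpen V' ∧
      w ∈ N ∧ N ≤ h ⁻¹ᵁ V' := by
    intro w _
    obtain ⟨_, ⟨V', hV', rfl⟩, hpV, -⟩ := V.isBasis_affineOpens.exists_subset_of_mem_open
      (Set.mem_univ (h w)) isOpen_univ
    obtain ⟨_, ⟨N, hN, rfl⟩, hwN, hNsub⟩ := U.isBasis_affineOpens.exists_subset_of_mem_open
      (show w ∈ ((h ⁻¹ᵁ V' : U.Opens) : Set U) from hpV) (h ⁻¹ᵁ V').2
    exact ⟨N, V', hN, hV', hwN, hNsub⟩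
  choose! N V' hN hV' hwN hNV using hcov
  obtain ⟨t, htW, ht⟩ := hW.elim_nhds_subcover (fun w => (N w : Set U))
    (fun w hw => (N w).2.mem_nhds (hwN w hw))
  have hpiece : ∀ w ∈ t, (maxPts U ∩ (N w : Set U)).Finite := by
    intro w hw
    have hfinV := hV (V' w) (hV' w (htW w hw)).isCompact
    refine Set.Finite.subset (hfinV.biUnion fun η _ =>
      finite_maxPts_inter_of_affine h (N w) (V' w) (hN w (htW w hw)) (hV' w (htW w hw))
        (hNV w (htW w hw)) η) ?_
    rintro x ⟨hx, hxN⟩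
    simp only [Set.mem_iUnion]
    exact ⟨h x, ⟨mem_maxPts_of_flat h hx, hNV w (htW w hw) hxN⟩, hx, rfl, hxN⟩
  refine Set.Finite.subset (t.finite_toSet.biUnion hpiece) ?_
  rintro x ⟨hx, hxW⟩
  obtain ⟨w, hw, hxw⟩ := Set.mem_iUnion₂.1 (ht hxW)
  exact Set.mem_iUnion₂.2 ⟨w, hw, hx, hxw⟩

end Groth.Agent.Lib.Helper3
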