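import Groth.Agent.Lib.Helper3.AlgSpLocFinIrred
import Groth.Agent.Lib.Helper3.AlgSpNoethChart
import Groth.Agent.Lib.Helper3.AlgSpIntegralDim
import Groth.Agent.Lib.Helper3.LocFinIrred3

set_option autoImplicit false
universe u

namespace Groth.Agent.Lib.Helper3.LocFinT

open CategoryTheory CategoryTheory.Limits AlgebraicGeometry TopologicalSpace Opposite AlgSp
open Groth.Agent.Lib.Helper3

/-- Only finitely many irreducible components meet an open subset with finitely many irreducible
components. -/
theorem finite_irreducibleComponents_meeting_open {Y : Type*} [TopologicalSpace Y] (O : Opens Y)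
    (h : (irreducibleComponents ↥O).Finite) :
    {Z : Set Y | Z ∈ irreducibleComponents Y ∧ (Z ∩ (O : Set Y)).Nonempty}.Finite := by
  have hemb : Topology.IsOpenEmbedding ((↑) : ↥O → Y) := O.isOpenEmbedding'
  refine Set.Finite.of_injOn (f := fun Z => ((↑) : ↥O → Y) ⁻¹' Z) ?_ ?_ h
  · rintro Z ⟨hZ, hne⟩
    refine preimage_mem_irreducibleComponents hZ hemb ?_
    rwa [Subtype.range_coe]
  · rintro Z ⟨hZ, hne⟩ Z' ⟨hZ', hne'⟩ heq
    have key : ∀ W : Set Y, W ∈ irreducibleComponents Y → (W ∩ (O : Set Y)).Nonempty →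
        W = closure (W ∩ (O : Set Y)) := by
      intro W hW hne
      refine Set.Subset.antisymm
        (subset_closure_inter_of_isPreirreducible_of_isOpen hW.1.2 O.isOpen hne) ?_
      exact closure_minimal Set.inter_subset_left (isClosed_of_mem_irreducibleComponents W hW)
    have h2 : Z ∩ (O : Set Y) = Z' ∩ (O : Set Y) := by
      have := congrArg (fun A => ((↑) : ↥O → Y) '' A) heq
      simp only [Set.image_preimage_eq_inter_range] at this
      have hr : Set.range ((↑) : ↥O → Y) = (O : Set Y) := Subtype.range_coe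
      rw [hr] at this
      exact this
    rw [key Z hZ hne, key Z' hZ' hne', h2]

variable {S : Scheme.{u}}

/-- **S10491.** -/
theorem main10491 (X : AlgSp.Space S) (hX : AlgSp.IsLocNoethSp X.obj)
    (T : Set (AlgSp.Points X.obj)) :
    LocallyFinite (fun Z : ↥(irreducibleComponents ↥T) =>
      ((↑) : ↥T → AlgSp.Points X.obj) '' (Z : Set ↥T)) := by
  intro x
  obtain ⟨V, b, v, hV, hb, hv⟩ := exists_affine_chart_through X.property x
  haveI : IsAffine V.left := hV
  haveI : IsLocallyNoetherian V.left := isLocallyNoetherian_of_isLocNoethSp hX b hb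
  haveI : IsNoetherian V.left := { }
  haveI : NoetherianSpace ↥V.left := IsNoetherian.noetherianSpace
  have hNo : IsOpen (Set.range (Points.ofPt b)) := (isOpenMap_ofPt b hb).isOpen_range
  refine ⟨Set.range (Points.ofPt b), hNo.mem_nhds ⟨v, hv⟩, ?_⟩
  let O : Opens ↥T := ⟨((↑) : ↥T → Points X.obj) ⁻¹' Set.range (Points.ofPt b),
    hNo.preimage continuous_subtype_val⟩
  have hfinO : (irreducibleComponents ↥O).Finite := by
    let f : ↥(Points.ofPt b ⁻¹' T) → ↥O := fun w => ⟨⟨Points.ofPt b w.1, w.2⟩, ⟨w.1, rfl⟩⟩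
    have hf : Continuous f :=
      (((Points.continuous_ofPt b).comp continuous_subtype_val).subtype_mk _).subtype_mk _
    have hs : Function.Surjective f := by
      rintro ⟨⟨y, hyT⟩, ⟨w, hw⟩⟩
      have hw' : Points.ofPt b w = y := hw
      refine ⟨⟨w, ?_⟩, ?_⟩
      · change Points.ofPt b w ∈ T
        rw [hw']; exact hyT
      · apply Subtype.ext; apply Subtype.ext
        exact hw'
    exact finite_irreducibleComponents_of_surjective f hf hs
      NoetherianSpace.finite_irreducibleComponents
  have h1 := finite_irreducibleComponents_meeting_open O hfinO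
  have h2 := h1.preimage (f := ((↑) : ↥(irreducibleComponents ↥T) → Set ↥T))
    Subtype.val_injective.injOn
  refine h2.subset ?_
  intro Z hZ
  refine ⟨Z.2, ?_⟩
  obtain ⟨y, ⟨z, hzZ, rfl⟩, hy⟩ := hZ
  exact ⟨z, hzZ, hy⟩

end Groth.Agent.Lib.Helper3.LocFinT
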