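import Mathlib

set_option autoImplicit false
universe u
open CategoryTheory CategoryTheory.Limits AlgebraicGeometry Opposite TensorProduct

namespace Groth.Agent.Lib.Helper3.LocSep

/-- Every element of a pushout of commutative rings is a finite sum of products. -/
theorem exists_finset_sum_of_isPushout {R A B X : CommRingCat.{u}} {f : R ⟶ A} {g : R ⟶ B}
    {a : A ⟶ X} {b : B ⟶ X} (H : IsPushout f g a b) (z : X) :
    ∃ σ : Finset (A × B), z = ∑ p ∈ σ, a.hom p.1 * b.hom p.2 := by
  algebraize [f.hom, g.hom]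
  let e := (CommRingCat.isPushout_tensorProduct R A B).isoIsPushout A B H
  have he1 : ∀ x : A, e.hom.hom (x ⊗ₜ[R] (1 : B)) = a.hom x := fun x =>
    congr($((CommRingCat.isPushout_tensorProduct R A B).inl_isoIsPushout_hom A B H).hom x)
  have he2 : ∀ y : B, e.hom.hom ((1 : A) ⊗ₜ[R] y) = b.hom y := fun y =>
    congr($((CommRingCat.isPushout_tensorProduct R A B).inr_isoIsPushout_hom A B H).hom y)
  obtain ⟨σ, hσ⟩ := TensorProduct.exists_finset (R := R) (e.inv.hom z)
  refine ⟨σ, ?_⟩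
  have hz : z = e.hom.hom (e.inv.hom z) := by
    have := congr($(e.inv_hom_id).hom z)
    exact this.symm
  rw [hz, hσ, map_sum]
  refine Finset.sum_congr rfl fun p _ => ?_
  have : p.1 ⊗ₜ[R] p.2 = (p.1 ⊗ₜ[R] (1 : B)) * ((1 : A) ⊗ₜ[R] p.2) := by
    rw [Algebra.TensorProduct.tmul_mul_tmul, mul_one, one_mul]
  rw [this, map_mul, he1, he2]

/-- Rank argument: if the identity matrix is a sum of `σ` rank-one matrices then its size is at
most `#σ`. -/
theorem card_le_of_sum_eq_delta {L : Type*} [Field L] {ι κ : Type*} [Fintype ι] [Fintype κ]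
    [DecidableEq ι] (α : ι → κ → L) (β : κ → ι → L)
    (h : ∀ i j, ∑ k, α i k * β k j = if i = j then 1 else 0) :
    Fintype.card ι ≤ Fintype.card κ := by
  have hM : (Matrix.of α : Matrix ι κ L) * (Matrix.of β : Matrix κ ι L) = 1 := by
    ext i j
    rw [Matrix.mul_apply, Matrix.one_apply]
    exact h i j
  have h1 : (1 : Matrix ι ι L).rank = Fintype.card ι := Matrix.rank_one
  rw [← h1, ← hM]
  exact (Matrix.rank_mul_le_left _ _).trans (Matrix.rank_le_card_width _)

/-- Finitely many points of a scheme over a field can be simultaneously lifted to points with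
values in one field extension. -/
theorem exists_simultaneous_points {K : Type u} [Field K] {T : Scheme.{u}}
    (c : T ⟶ Spec (CommRingCat.of K)) (s : Finset ↥T) :
    ∃ (L : Type u) (_ : Field L) (ℓ : Spec (CommRingCat.of L) ⟶ Spec (CommRingCat.of K)),
      ∀ w ∈ s, ∃ w' : Spec (CommRingCat.of L) ⟶ T, w' ≫ c = ℓ ∧
        w' (IsLocalRing.closedPoint L) = w := by
  classical
  induction s using Finset.induction_on with
  | empty => exact ⟨K, inferInstance, 𝟙 _, fun w hw => absurd hw (Finset.notMem_empty w)⟩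
  | insert a s ha ih =>
    obtain ⟨L, _, ℓ, hL⟩ := ih
    have hsub : Subsingleton ↥(Spec (CommRingCat.of K)) :=
      (inferInstance : Subsingleton (PrimeSpectrum K))
    obtain ⟨z, hz1, hz2⟩ := Scheme.Pullback.exists_preimage_pullback (f := ℓ)
      (g := T.fromSpecResidueField a ≫ c) (IsLocalRing.closedPoint L)
      (IsLocalRing.closedPoint (T.residueField a)) (Subsingleton.elim _ _)
    let Z := pullback ℓ (T.fromSpecResidueField a ≫ c)
    refine ⟨Z.residueField z, inferInstance, Z.fromSpecResidueField z ≫ pullback.fst _ _ ≫ ℓ, ?_⟩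
    intro w hw
    rw [Finset.mem_insert] at hw
    by_cases hwa : w = a
    · subst hwa
      refine ⟨Z.fromSpecResidueField z ≫ pullback.snd _ _ ≫ T.fromSpecResidueField w, ?_, ?_⟩
      · simp only [Category.assoc]
        rw [pullback.condition]
      · rw [Scheme.Hom.comp_apply, Scheme.Hom.comp_apply, Scheme.fromSpecResidueField_apply]
    · obtain ⟨w', hw'1, hw'2⟩ := hL w (hw.resolve_left hwa)
      refine ⟨Z.fromSpecResidueField z ≫ pullback.fst _ _ ≫ w', ?_, ?_⟩
      · simp only [Category.assoc, hw'1]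
      · rw [Scheme.Hom.comp_apply, Scheme.Hom.comp_apply, Scheme.fromSpecResidueField_apply, hz1,
          hw'2]

/-- Evaluation of a global function at a field-valued point. -/
noncomputable def evalAt {L : Type u} [Field L] {P : Scheme.{u}}
    (g : Spec (CommRingCat.of L) ⟶ P) : Γ(P, ⊤) →+* L :=
  (Scheme.ΓSpecIso (CommRingCat.of L)).hom.hom.comp g.appTop.hom

theorem evalAt_comp {L : Type u} [Field L] {P Q : Scheme.{u}}
    (g : Spec (CommRingCat.of L) ⟶ P) (h : P ⟶ Q) (x : Γ(Q, ⊤)) :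
    evalAt (g ≫ h) x = evalAt g (h.appTop.hom x) := by
  simp [evalAt]

theorem mem_basicOpen_of_evalAt_ne_zero {L : Type u} [Field L] {P : Scheme.{u}}
    (g : Spec (CommRingCat.of L) ⟶ P) (x : Γ(P, ⊤)) (hx : evalAt g x ≠ 0) :
    g (IsLocalRing.closedPoint L) ∈ P.basicOpen x := by
  have hu : IsUnit (evalAt g x) := isUnit_iff_ne_zero.2 hx
  have hu' : IsUnit (g.appTop.hom x) := by
    have := hu.map (Scheme.ΓSpecIso (CommRingCat.of L)).inv.hom
    simpa [evalAt] using this
  have h1 : (Spec (CommRingCat.of L)).basicOpen (g.appTop.hom x) = ⊤ :=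
    Scheme.basicOpen_of_isUnit _ hu'
  have h2 : g ⁻¹ᵁ P.basicOpen x = (Spec (CommRingCat.of L)).basicOpen (g.appTop.hom x) :=
    Scheme.preimage_basicOpen_top g x
  have h3 : IsLocalRing.closedPoint L ∈ g ⁻¹ᵁ P.basicOpen x := by
    rw [h2, h1]; trivial
  exact h3

/-- Given an open neighbourhood `N` of the diagonal of an affine scheme `V` in `V × V`, families
of field-valued points of `V` whose off-diagonal pairs avoid `N` have bounded size. -/
theorem exists_bound_of_open_nhd_diagonal {V Z P : Scheme.{u}} [IsAffine V] [IsAffine Z]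
    (τ : V ⟶ Z) (p₁ p₂ : P ⟶ V) (sqP : IsPullback p₁ p₂ τ τ)
    (Δ : V ⟶ P) (hΔ₁ : Δ ≫ p₁ = 𝟙 V) (hΔ₂ : Δ ≫ p₂ = 𝟙 V)
    (N : P.Opens) (hN : ∀ v : V, Δ v ∈ N) :
    ∃ m : ℕ, ∀ (L : Type u) [Field L] (ι : Type u) [Fintype ι]
      (v : ι → (Spec (CommRingCat.of L) ⟶ V)) (g : ι → ι → (Spec (CommRingCat.of L) ⟶ P)),
      (∀ i j, g i j ≫ p₁ = v i) → (∀ i j, g i j ≫ p₂ = v j) →
      (∀ i j, i ≠ j → g i j (IsLocalRing.closedPoint L) ∉ N) → Fintype.card ι ≤ m := by
  classical
  have hPaff : IsAffine P := IsAffine.of_isPullback sqP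
  have hex : ∀ v : V, ∃ f : Γ(P, ⊤), P.basicOpen f ≤ N ∧ Δ v ∈ P.basicOpen f := fun v =>
    (isAffineOpen_top P).exists_basicOpen_le (V := N) ⟨Δ v, hN v⟩ trivial
  choose h hle hmem using hex
  have hspan : Ideal.span (Set.range fun v : V => Δ.appTop.hom (h v)) = ⊤ := by
    rw [← (isAffineOpen_top V).self_le_iSup_basicOpen_iff]
    intro v _
    rw [TopologicalSpace.Opens.mem_iSup]
    refine ⟨⟨_, v, rfl⟩, ?_⟩
    have h2 : Δ ⁻¹ᵁ P.basicOpen (h v) = V.basicOpen (Δ.appTop.hom (h v)) :=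
      Scheme.preimage_basicOpen_top Δ (h v)
    have h3 : v ∈ Δ ⁻¹ᵁ P.basicOpen (h v) := hmem v
    rw [h2] at h3
    exact h3
  have h1 : (1 : Γ(V, ⊤)) ∈ Ideal.span (Set.range fun v : V => Δ.appTop.hom (h v)) := by
    rw [hspan]; trivial
  rw [Finsupp.mem_ideal_span_range_iff_exists_finsupp] at h1
  obtain ⟨c, hc⟩ := h1
  let f : Γ(P, ⊤) := c.sum fun v a => p₁.appTop.hom a * h v
  have hΔa : ∀ a : Γ(V, ⊤), Δ.appTop.hom (p₁.appTop.hom a) = a := by
    intro a
    have := congrArg (fun m : V ⟶ V => m.appTop.hom a) hΔ₁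
    simpa using this
  have hΔf : Δ.appTop.hom f = 1 := by
    rw [← hc]
    simp only [f, Finsupp.sum, map_sum, map_mul, hΔa]
  obtain ⟨σ, hσ⟩ := exists_finset_sum_of_isPushout (isPushout_appTop_of_isPullback sqP) f
  refine ⟨σ.card, ?_⟩
  intro L _ ι _ v g hg₁ hg₂ hoff
  have hψ₁ : ∀ i j (a : Γ(V, ⊤)), evalAt (g i j) (p₁.appTop.hom a) = evalAt (v i) a := by
    intro i j a
    rw [← evalAt_comp, hg₁]
  have hψ₂ : ∀ i j (a : Γ(V, ⊤)), evalAt (g i j) (p₂.appTop.hom a) = evalAt (v j) a := by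
    intro i j a
    rw [← evalAt_comp, hg₂]
  have hdiag : ∀ i, g i i = v i ≫ Δ := by
    intro i
    apply sqP.hom_ext
    · rw [hg₁, Category.assoc, hΔ₁, Category.comp_id]
    · rw [hg₂, Category.assoc, hΔ₂, Category.comp_id]
  have hf : ∀ i j, evalAt (g i j) f = if i = j then 1 else 0 := by
    intro i j
    by_cases hij : i = j
    · subst hij
      rw [if_pos rfl, hdiag, evalAt_comp, hΔf, map_one]
    · rw [if_neg hij]
      simp only [f, Finsupp.sum, map_sum, map_mul]
      refine Finset.sum_eq_zero fun w _ => ?_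
      have : evalAt (g i j) (h w) = 0 := by
        by_contra hne
        exact hoff i j hij (hle w (mem_basicOpen_of_evalAt_ne_zero _ _ hne))
      rw [this, mul_zero]
  have key := card_le_of_sum_eq_delta (L := L) (ι := ι) (κ := ↥σ)
    (fun i p => evalAt (v i) p.1.1) (fun p j => evalAt (v j) p.1.2) ?_
  · rwa [Fintype.card_coe] at key
  · intro i j
    rw [Finset.sum_coe_sort σ (fun p => evalAt (v i) p.1 * evalAt (v j) p.2), ← hf i j, hσ, map_sum]
    refine Finset.sum_congr rfl fun p _ => ?_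
    rw [map_mul, hψ₁ i j, hψ₂ i j]

end Groth.Agent.Lib.Helper3.LocSep
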