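import Groth.Agent.Lib.Helper3.LocSepAlg

set_option autoImplicit false
universe u
open TensorProduct

namespace Groth.Agent.Lib.Helper3.LocSep

/-- Finitely many field extensions of `k` embed in a common field extension. -/
theorem exists_common_field (k : Type u) [Field k] (K : ℕ → Type u) [∀ n, Field (K n)]
    [∀ n, Algebra k (K n)] (N : ℕ) :
    ∃ (Ω : Type u) (_ : Field Ω) (_ : Algebra k Ω), ∀ n < N, Nonempty (K n →ₐ[k] Ω) := by
  induction N with
  | zero => exact ⟨k, inferInstance, inferInstance, fun n hn => absurd hn (Nat.not_lt_zero n)⟩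
  | succ N ih =>
    obtain ⟨Ω, _, _, hΩ⟩ := ih
    obtain ⟨M, hM⟩ := Ideal.exists_maximal (Ω ⊗[k] K N)
    let _ : Field ((Ω ⊗[k] K N) ⧸ M) := Ideal.Quotient.field M
    refine ⟨(Ω ⊗[k] K N) ⧸ M, inferInstance, inferInstance, ?_⟩
    intro n hn
    by_cases hnN : n = N
    · subst hnN
      exact ⟨(Ideal.Quotient.mkₐ k M).comp Algebra.TensorProduct.includeRight⟩
    · obtain ⟨g⟩ := hΩ n (by omega)
      exact ⟨((Ideal.Quotient.mkₐ k M).comp Algebra.TensorProduct.includeLeft).comp g⟩

/-- The ring homomorphism `A ⊗ A ⟶ Ω` defined by a pair of ring homomorphisms. -/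
noncomputable def pairHom {A Ω : Type u} [CommRing A] [CommRing Ω] (φ ψ : A →+* Ω) :
    A ⊗[ℤ] A →+* Ω :=
  (Algebra.TensorProduct.lift φ.toIntAlgHom ψ.toIntAlgHom (fun _ _ => Commute.all _ _)).toRingHom

theorem pairHom_tmul {A Ω : Type u} [CommRing A] [CommRing Ω] (φ ψ : A →+* Ω) (a b : A) :
    pairHom φ ψ (a ⊗ₜ b) = φ a * ψ b := by
  simp [pairHom]

theorem pairHom_self {A Ω : Type u} [CommRing A] [CommRing Ω] (φ : A →+* Ω) (x : A ⊗[ℤ] A) :
    pairHom φ φ x = φ ((Algebra.TensorProduct.lmul' (S := A) ℤ) x) := by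
  induction x using TensorProduct.induction_on with
  | zero => simp
  | tmul a b => rw [pairHom_tmul]; simp
  | add x y hx hy => rw [map_add, hx, hy, map_add, map_add]

/-- A closed subset of `Spec (A ⊗ A)` missing the diagonal bounds the size of families of
field-valued points whose off-diagonal pairs lie in it. -/
theorem exists_bound_of_closed_disjoint_diagonal {A : Type u} [CommRing A]
    (Z : Set (PrimeSpectrum (A ⊗[ℤ] A))) (hZ : IsClosed Z)
    (hdisj : Z ∩ Set.range (PrimeSpectrum.comap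
      (Algebra.TensorProduct.lmul' (S := A) ℤ).toRingHom) = ∅) :
    ∃ m : ℕ, ∀ (Ω : Type u) [Field Ω] (ι : Type) [Fintype ι] (φ : ι → A →+* Ω),
      (∀ i j, i ≠ j → PrimeSpectrum.comap (pairHom (φ i) (φ j)) ⊥ ∈ Z) →
        Fintype.card ι ≤ m := by
  classical
  have hsurj : Function.Surjective (Algebra.TensorProduct.lmul' (S := A) ℤ).toRingHom := by
    intro a
    exact ⟨a ⊗ₜ 1, by simp⟩
  rw [range_comap_of_surjective _ _ hsurj,
    ← hZ.closure_eq, ← PrimeSpectrum.zeroLocus_vanishingIdeal_eq_closure,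
    ← PrimeSpectrum.zeroLocus_sup, PrimeSpectrum.zeroLocus_empty_iff_eq_top] at hdisj
  have h1 : (1 : A ⊗[ℤ] A) ∈ PrimeSpectrum.vanishingIdeal Z ⊔
      RingHom.ker (Algebra.TensorProduct.lmul' (S := A) ℤ).toRingHom := by
    rw [hdisj]; trivial
  obtain ⟨f, hf, g, hg, hfg⟩ := Submodule.mem_sup.1 h1
  have hmf : (Algebra.TensorProduct.lmul' (S := A) ℤ) f = 1 := by
    have h2 : (Algebra.TensorProduct.lmul' (S := A) ℤ) g = 0 := hg
    have := congrArg (Algebra.TensorProduct.lmul' (S := A) ℤ) hfg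
    rw [map_add, h2, add_zero, map_one] at this
    exact this
  obtain ⟨σ, hσ⟩ := TensorProduct.exists_finset f
  refine ⟨σ.card, ?_⟩
  intro Ω _ ι _ φ hoff
  have hval : ∀ i j, pairHom (φ i) (φ j) f = if i = j then 1 else 0 := by
    intro i j
    by_cases hij : i = j
    · subst hij
      rw [if_pos rfl, pairHom_self, hmf, map_one]
    · rw [if_neg hij]
      have := hoff i j hij
      rw [← hZ.closure_eq, ← PrimeSpectrum.zeroLocus_vanishingIdeal_eq_closure,
        PrimeSpectrum.mem_zeroLocus] at this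
      have h3 : f ∈ (PrimeSpectrum.comap (pairHom (φ i) (φ j)) ⊥).asIdeal := this hf
      rw [PrimeSpectrum.comap_asIdeal] at h3
      exact h3
  have key := card_le_of_sum_eq_delta (L := Ω) (ι := ι) (κ := ↥σ)
    (fun i p => φ i p.1.1) (fun p j => φ j p.1.2) ?_
  · rwa [Fintype.card_coe] at key
  · intro i j
    rw [Finset.sum_coe_sort σ (fun p => φ i p.1 * φ j p.2), ← hval i j, hσ, map_sum]
    refine Finset.sum_congr rfl fun p _ => ?_
    rw [pairHom_tmul]

end Groth.Agent.Lib.Helper3.LocSep
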