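import Groth.Agent.Lib.Helper3.DecMonoQC
import Groth.Agent.Lib.Helper3.DecMonoLoc
import Groth.Agent.Lib.Helper3.AlgSpDiag
import Groth.Agent.Lib.Helper3.LocSepAlg

set_option autoImplicit false
universe u
open CategoryTheory CategoryTheory.Limits AlgebraicGeometry Opposite MorphismProperty

namespace Groth.Agent.Lib.Helper3.LocSep

open Groth.Agent.Lib.Helper3 Groth.Agent.Lib.Helper3.DecMono AlgSp

variable {S : Scheme.{u}}

/-- For a locally separated sheaf, the relation `R = V ×_X V` of a chart maps to
`V ×_ℤ V` by a topological embedding. -/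
theorem exists_embedding_relation {X : Sp S} (hls : IsLocallySeparatedSp X) {V R : Over S}
    (b : (yon S).obj V ⟶ X) (s t : R ⟶ V)
    (sq : IsPullback ((yon S).map s) ((yon S).map t) b b) :
    ∃ j : R.left ⟶ pullback (V.hom ≫ terminal.from S) (V.hom ≫ terminal.from S),
      j ≫ pullback.fst _ _ = s.left ∧ j ≫ pullback.snd _ _ = t.left ∧
        Topology.IsEmbedding j := by
  have sq' := isPullback_diag_of_isPullback sq
  rw [prod_lift_yon] at sq'
  replace sq' := isPullback_shift_iso sq'
  have him : IsImmersion (prod.lift s t).left := hls.2 _ _ _ sq'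
  refine ⟨(prod.lift s t).left ≫ (Over.prodLeftIsoPullback V V).hom ≫
    pullback.mapDesc V.hom V.hom (terminal.from S), ?_, ?_, ?_⟩
  · simp only [Category.assoc, pullback.mapDesc, pullback.map, pullback.lift_fst,
      Category.comp_id, Over.prodLeftIsoPullback_hom_fst]
    rw [← Over.comp_left, prod.lift_fst]
  · simp only [Category.assoc, pullback.mapDesc, pullback.map, pullback.lift_snd,
      Category.comp_id, Over.prodLeftIsoPullback_hom_snd]
    rw [← Over.comp_left, prod.lift_snd]
  · have : IsImmersion ((prod.lift s t).left ≫ (Over.prodLeftIsoPullback V V).hom ≫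
        pullback.mapDesc V.hom V.hom (terminal.from S)) := inferInstance
    exact Scheme.Hom.isEmbedding _

/-- For a locally separated algebraic space, the fibre product of a field-valued point with an
affine etale chart is a finite scheme. -/
theorem finite_pullback_of_isLocallySeparatedSp {X : Sp S}
    (hls : IsLocallySeparatedSp X) {V : Over S} [IsAffine V.left] (b : (yon S).obj V ⟶ X)
    (hb : RepWith @Etale b) {K : Type u} [Field K] (str : Spec (CommRingCat.of K) ⟶ S)
    (q : (yon S).obj (Over.mk str) ⟶ X) {T : Over S} (c : T ⟶ Over.mk str) (d : T ⟶ V)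
    (sqT : IsPullback ((yon S).map c) ((yon S).map d) q b) : Finite ↥T.left := by
  classical
  obtain ⟨R, s, t, sq⟩ := exists_pullback_charts b hb.1 b
  obtain ⟨j, hj₁, hj₂, hjemb⟩ := exists_embedding_relation hls b s t sq
  -- the diagonal section
  obtain ⟨e, he⟩ := (yon S).map_surjective (sq.lift (𝟙 _) (𝟙 _) rfl)
  have hes : e ≫ s = 𝟙 V := by
    apply (yon S).map_injective
    rw [Functor.map_comp, he, sq.lift_fst]
    exact ((yon S).map_id V).symm
  have het : e ≫ t = 𝟙 V := by
    apply (yon S).map_injective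
    rw [Functor.map_comp, he, sq.lift_snd]
    exact ((yon S).map_id V).symm
  have hesl : e.left ≫ s.left = 𝟙 V.left := by
    rw [← Over.comp_left, hes]; rfl
  have hetl : e.left ≫ t.left = 𝟙 V.left := by
    rw [← Over.comp_left, het]; rfl
  have hse : Etale s.left := hb.2 b ((yon S).map t) s sq.flip
  have hee : Etale e.left := by
    have : Etale (e.left ≫ s.left) := by rw [hesl]; infer_instance
    exact Etale.of_comp e.left s.left
  have hem : Mono e.left := mono_of_mono_fac hesl
  have heo : IsOpenImmersion e.left := IsOpenImmersion.of_flat_of_mono e.left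
  -- the open neighbourhood of the diagonal
  obtain ⟨N, hNo, hN⟩ := (hjemb.isInducing.isOpen_iff).1 e.left.opensRange.isOpen
  have hΔ₁ : (e.left ≫ j) ≫ pullback.fst _ _ = 𝟙 V.left := by
    rw [Category.assoc, hj₁, hesl]
  have hΔ₂ : (e.left ≫ j) ≫ pullback.snd _ _ = 𝟙 V.left := by
    rw [Category.assoc, hj₂, hetl]
  have hΔN : ∀ v : ↥V.left, (e.left ≫ j) v ∈ (⟨N, hNo⟩ : TopologicalSpace.Opens _) := by
    intro v
    have : e.left v ∈ j ⁻¹' N := by
      rw [hN]; exact ⟨v, rfl⟩
    rw [Scheme.Hom.comp_apply]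
    exact this
  obtain ⟨m, hm⟩ := exists_bound_of_open_nhd_diagonal (V.hom ≫ terminal.from S)
    (pullback.fst _ _) (pullback.snd _ _) (IsPullback.of_hasPullback _ _) (e.left ≫ j) hΔ₁ hΔ₂
    ⟨N, hNo⟩ hΔN
  by_contra hinf
  rw [not_finite_iff_infinite] at hinf
  obtain ⟨σ, hσ⟩ := Infinite.exists_subset_card_eq ↥T.left (m + 1)
  obtain ⟨L, _, ℓ, hL⟩ := exists_simultaneous_points c.left σ
  choose w' hw'1 hw'2 using hL
  have hTh : T.hom = c.left ≫ str := (Over.w c).symm
  let PL : Over S := Over.mk (ℓ ≫ str)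
  let ℓ' : PL ⟶ Over.mk str := Over.homMk ℓ rfl
  let wo : ∀ i : ↥σ, PL ⟶ T := fun i => Over.homMk (w' i.1 i.2) (by
    change w' i.1 i.2 ≫ T.hom = ℓ ≫ str
    rw [hTh, ← Category.assoc, hw'1])
  have hwoc : ∀ i : ↥σ, wo i ≫ c = ℓ' := by
    intro i
    ext
    exact hw'1 i.1 i.2
  have hcomm : ∀ i : ↥σ, (yon S).map (wo i ≫ d) ≫ b = (yon S).map ℓ' ≫ q := by
    intro i
    rw [Functor.map_comp, Category.assoc, ← sqT.w, ← Category.assoc, ← Functor.map_comp, hwoc]
  have hρ : ∀ i k : ↥σ, ∃ ρ : PL ⟶ R, ρ ≫ s = wo i ≫ d ∧ ρ ≫ t = wo k ≫ d := by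
    intro i k
    obtain ⟨ρ, hρ⟩ := (yon S).map_surjective (sq.lift ((yon S).map (wo i ≫ d))
      ((yon S).map (wo k ≫ d)) (by rw [hcomm i, hcomm k]))
    refine ⟨ρ, ?_, ?_⟩
    · apply (yon S).map_injective
      rw [Functor.map_comp, hρ, sq.lift_fst]
    · apply (yon S).map_injective
      rw [Functor.map_comp, hρ, sq.lift_snd]
  choose ρ hρs hρt using hρ
  have hsub : Subsingleton ↥(Spec (CommRingCat.of L)) :=
    (inferInstance : Subsingleton (PrimeSpectrum L))
  have key := hm L ↥σ (fun i => (wo i ≫ d).left) (fun i k => (ρ i k).left ≫ j) ?_ ?_ ?_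
  · rw [Fintype.card_coe, hσ] at key
    omega
  · intro i k
    rw [Category.assoc, hj₁, ← Over.comp_left, hρs]
  · intro i k
    rw [Category.assoc, hj₂, ← Over.comp_left, hρt]
  · intro i k hik hmem
    apply hik
    have h1 : (ρ i k).left (IsLocalRing.closedPoint L) ∈ j ⁻¹' N := by
      rw [Scheme.Hom.comp_apply] at hmem
      exact hmem
    rw [hN] at h1
    have hrange : Set.range (ρ i k).left ⊆ Set.range e.left := by
      rintro _ ⟨y, rfl⟩
      rw [@Subsingleton.elim _ hsub y (IsLocalRing.closedPoint L)]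
      exact h1
    have hfac : IsOpenImmersion.lift e.left (ρ i k).left hrange ≫ e.left = (ρ i k).left :=
      IsOpenImmersion.lift_fac _ _ _
    have e1 : (wo i ≫ d).left = (wo k ≫ d).left := by
      rw [← hρs i k, ← hρt i k, Over.comp_left, Over.comp_left, ← hfac, Category.assoc,
        Category.assoc, hesl, hetl]
    have e2 : wo i ≫ d = wo k ≫ d := by
      ext
      exact e1
    have e3 : wo i = wo k := by
      apply (yon S).map_injective
      apply sqT.hom_ext
      · rw [← Functor.map_comp, ← Functor.map_comp, hwoc, hwoc]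
      · rw [← Functor.map_comp, ← Functor.map_comp, e2]
    have e4 : w' i.1 i.2 = w' k.1 k.2 := congrArg (fun m : PL ⟶ T => m.left) e3
    apply Subtype.ext
    rw [← hw'2 i.1 i.2, ← hw'2 k.1 k.2, e4]

/-- Every field-valued point of a locally separated algebraic space is quasi-compact. -/
theorem repWith_quasiCompact_of_isLocallySeparatedSp {X : Sp S} (hX : IsAlgSpace X)
    (hls : IsLocallySeparatedSp X) {K : Type u} [Field K] (str : Spec (CommRingCat.of K) ⟶ S)
    (q : (yon S).obj (Over.mk str) ⟶ X) : RepWith @QuasiCompact q := by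
  refine repWith_quasiCompact_of_forall_affine_etale hX q ?_
  intro A ψ hA hψ T c snd sqT
  obtain ⟨c', rfl⟩ := (yon S).map_surjective c
  have : IsAffine A.left := hA
  have := finite_pullback_of_isLocallySeparatedSp hls ψ hψ str q c' snd sqT
  exact Finite.compactSpace

/-- A locally separated algebraic space is decent. -/
theorem isDecent_of_isLocallySeparatedSp {X : Sp S} (hX : IsAlgSpace X)
    (hls : IsLocallySeparatedSp X) : IsDecent X := by
  intro x
  induction x using Points.ind with
  | h p =>
  have hq : RepWith @QuasiCompact p.toHom :=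
    repWith_quasiCompact_of_isLocallySeparatedSp hX hls p.str p.toHom
  exact exists_qc_mono_point_of_qc hX p hq

end Groth.Agent.Lib.Helper3.LocSep
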