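import Groth.Agent.Lib.Helper3.MagPts2
set_option autoImplicit false
universe u
open CategoryTheory CategoryTheory.Limits MonoidalCategory CartesianMonoidalCategory MonObj AlgebraicGeometry Opposite
open Magnet TensorProduct Polynomial
open Groth.Agent.Lib.Helper25.GaPts (toSpecΓ_map_appTop eq_toSpecΓ_map)

namespace Groth.Agent.Lib.Helper3.MagPts

variable {S : Scheme.{u}} (R : Type u) [CommRing R] (f : Spec (CommRingCat.of R) ⟶ S)

/-- `Spec R` as an `S`-scheme -/
noncomputable abbrev TT : Over S := Over.mk f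

/-- `Spec R[X]` as an `S`-scheme -/
noncomputable abbrev WW : Over S := Over.mk (Spec.map (CommRingCat.ofHom (C : R →+* R[X])) ≫ f)

/-- `Spec R[X] → Spec R` -/
noncomputable def cc : WW R f ⟶ TT R f := Over.homMk (Spec.map (CommRingCat.ofHom (C : R →+* R[X]))) rfl

/-- the coordinate `X` as a global function -/
noncomputable def xx : Γ((WW R f).left, ⊤) := (Scheme.ΓSpecIso (CommRingCat.of R[X])).inv X

theorem N1_nonneg (x : ↥N1) : 0 ≤ x.1 := by
  obtain ⟨k, hk⟩ := (AddSubmonoid.mem_multiples_iff _ _).mp x.2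
  rw [← hk]
  simp

/-- the character `k ↦ X^k` -/
noncomputable def phiX : Multiplicative ↥N1 →* Γ((WW R f).left, ⊤) where
  toFun a := xx R f ^ (a.toAdd.1.toNat)
  map_one' := by simp
  map_mul' a b := by
    rw [← pow_add]
    congr 1
    rw [toAdd_mul, AddSubmonoid.coe_add, Int.toNat_add (N1_nonneg _) (N1_nonneg _)]

theorem phiX_g1 : phiX R f (Multiplicative.ofAdd g1) = xx R f := by
  change xx R f ^ ((1 : ℤ).toNat) = _
  simp

/-- the coordinate chart `Spec R[X] → A¹ × Spec R` -/
noncomputable def theta' : WW R f ⟶ AMonS S ↥N1 ⊗ TT R f := lift (pt (phiX R f)) (cc R f)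

/-- the coordinate function on `A¹ × Spec R` -/
noncomputable def tauT : Γ((AMonS S ↥N1 ⊗ TT R f).left, ⊤) := chi (fst (AMonS S ↥N1) (TT R f)) g1

/-- the ring map of the inverse chart -/
noncomputable def psiT : R[X] →+* Γ((AMonS S ↥N1 ⊗ TT R f).left, ⊤) :=
  eval₂RingHom (((snd (AMonS S ↥N1) (TT R f)).left.appTop.hom).comp
    (Scheme.ΓSpecIso (CommRingCat.of R)).inv.hom) (tauT R f)

/-- the inverse chart -/
noncomputable def thetaInv : (AMonS S ↥N1 ⊗ TT R f).left ⟶ Spec (CommRingCat.of R[X]) :=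
  (AMonS S ↥N1 ⊗ TT R f).left.toSpecΓ ≫ Spec.map (CommRingCat.ofHom (psiT R f))

theorem thetaInv_C : thetaInv R f ≫ Spec.map (CommRingCat.ofHom (C : R →+* R[X])) =
    (snd (AMonS S ↥N1) (TT R f)).left := by
  unfold thetaInv
  rw [Category.assoc, ← Spec.map_comp]
  refine Eq.trans ?_ (eq_toSpecΓ_map (R := CommRingCat.of R) (snd (AMonS S ↥N1) (TT R f)).left).symm
  congr 2
  apply CommRingCat.hom_ext
  apply RingHom.ext
  intro r
  change psiT R f (C r) = _
  unfold psiT
  rw [coe_eval₂RingHom, eval₂_C]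
  rfl

theorem thetaInv_appTop_xx : (thetaInv R f).appTop (xx R f) = tauT R f := by
  unfold thetaInv xx
  refine (toSpecΓ_map_appTop (CommRingCat.ofHom (psiT R f)) _).trans ?_
  change psiT R f X = _
  unfold psiT
  rw [coe_eval₂RingHom, eval₂_X]


/-- the inverse chart as a morphism over `S` -/
noncomputable def ThetaInv : AMonS S ↥N1 ⊗ TT R f ⟶ WW R f :=
  Over.homMk (thetaInv R f) (by
    change thetaInv R f ≫ Spec.map (CommRingCat.ofHom (C : R →+* R[X])) ≫ f = _
    rw [← Category.assoc, thetaInv_C]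
    exact Over.w (snd (AMonS S ↥N1) (TT R f)))

theorem ThetaInv_cc : ThetaInv R f ≫ cc R f = snd (AMonS S ↥N1) (TT R f) := by
  apply Over.OverMorphism.ext
  exact thetaInv_C R f

theorem ThetaInv_theta' : ThetaInv R f ≫ theta' R f = 𝟙 _ := by
  apply CartesianMonoidalCategory.hom_ext
  · rw [Category.assoc, Category.id_comp]
    unfold theta'
    rw [lift_fst]
    apply chi_injective
    intro x
    rw [chi_comp, chi_pt]
    obtain ⟨k, rfl⟩ := exists_nsmul_g1 x
    rw [chi_nsmul, ofAdd_nsmul, map_pow, phiX_g1, map_pow]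
    congr 1
    exact thetaInv_appTop_xx R f
  · rw [Category.assoc, Category.id_comp]
    unfold theta'
    rw [lift_snd]
    exact ThetaInv_cc R f

theorem theta'_appTop_tauT : (theta' R f).left.appTop (tauT R f) = xx R f := by
  unfold tauT
  rw [← chi_comp]
  unfold theta'
  rw [lift_fst, chi_pt, phiX_g1]

theorem theta'_snd : (theta' R f).left ≫ (snd (AMonS S ↥N1) (TT R f)).left =
    Spec.map (CommRingCat.ofHom (C : R →+* R[X])) := by
  rw [← Over.comp_left]
  unfold theta'
  rw [lift_snd]
  rfl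

theorem theta'_thetaInv : (theta' R f).left ≫ thetaInv R f = 𝟙 _ := by
  apply ext_of_isAffine
  rw [Scheme.Hom.id_appTop]
  apply CommRingCat.hom_ext
  have key : ((theta' R f).left ≫ thetaInv R f).appTop.hom.comp
      (Scheme.ΓSpecIso (CommRingCat.of R[X])).inv.hom =
      (Scheme.ΓSpecIso (CommRingCat.of R[X])).inv.hom := by
    apply Polynomial.ringHom_ext
    · intro a
      simp only [RingHom.comp_apply]
      have e1 : (Scheme.ΓSpecIso (CommRingCat.of R[X])).inv.hom (C a) =
          (Spec.map (CommRingCat.ofHom (C : R →+* R[X]))).appTop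
            ((Scheme.ΓSpecIso (CommRingCat.of R)).inv a) :=
        (appTop_SpecMap_inv (CommRingCat.ofHom (C : R →+* R[X])) a).symm
      rw [e1]
      change ((theta' R f).left ≫ thetaInv R f).appTop _ = _
      rw [← comp_appTop_apply, Category.assoc, thetaInv_C, theta'_snd]
    · simp only [RingHom.comp_apply]
      change ((theta' R f).left ≫ thetaInv R f).appTop (xx R f) = xx R f
      rw [comp_appTop_apply, thetaInv_appTop_xx, theta'_appTop_tauT]
  apply RingHom.ext
  intro b
  obtain ⟨b', rfl⟩ : ∃ b', (Scheme.ΓSpecIso (CommRingCat.of R[X])).inv b' = b :=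
    ⟨(Scheme.ΓSpecIso _).hom b, congrArg (fun f => f.hom b) (Scheme.ΓSpecIso _).hom_inv_id⟩
  exact congrArg (fun g => g b') key

/-- the coordinate chart as an isomorphism of schemes -/
noncomputable def thetaIso : Spec (CommRingCat.of R[X]) ≅ (AMonS S ↥N1 ⊗ TT R f).left where
  hom := (theta' R f).left
  inv := thetaInv R f
  hom_inv_id := theta'_thetaInv R f
  inv_hom_id := by
    have := congrArg (fun g => g.left) (ThetaInv_theta' R f)
    exact this

end Groth.Agent.Lib.Helper3.MagPts
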