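import Groth.Statements.S18957
import Groth.Agent.Lib.Helper3.GrpdSub
import Groth.Agent.Lib.Helper3.SchImGrp0
set_option autoImplicit false
universe u
open CategoryTheory CategoryTheory.Limits MonoidalCategory CartesianMonoidalCategory MonObj AlgebraicGeometry Opposite
open Magnet

namespace Groth.Agent.Lib.Helper3.MagDense

variable {k : Type u} [Field k]

/-- whiskering a quasi-compact schematically dominant morphism over a field stays dominant -/
theorem dom_whiskerRight {G M : Over (Spec (CommRingCat.of k))} (i : G ⟶ M) [QuasiCompact i.left]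
    [IsSchemeTheoreticallyDominant i.left] (Y : Over (Spec (CommRingCat.of k))) :
    IsSchemeTheoreticallyDominant (i ▷ Y).left := by
  have sq := (Groth.Agent.Lib.Helper3.SchIm.isPullback_whiskerRight Y G M i).flip
  have hfl : Flat (fst M Y).left := by
    have : Flat Y.hom := inferInstance
    change Flat (pullback.fst M.hom Y.hom)
    infer_instance
  exact IsSchemeTheoreticallyDominant.of_isPullback sq

/-- factorization through a closed immersion along a schematically dominant morphism -/
theorem exists_over_lift_of_dominant {S : Scheme.{u}} {W W' Z X : Over S} (j : Z ⟶ X)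
    [IsClosedImmersion j.left] (l : W ⟶ W') [IsSchemeTheoreticallyDominant l.left]
    (x : W' ⟶ X) (y : W ⟶ Z) (h : l ≫ x = y ≫ j) : ∃ x' : W' ⟶ Z, x' ≫ j = x := by
  obtain ⟨x', hx'⟩ := Groth.Agent.Lib.Helper3.GrpdSub.exists_lift_of_dominant j.left l.left
    x.left y.left (by rw [← Over.comp_left, h, Over.comp_left])
  refine ⟨Over.homMk x' ?_, ?_⟩
  · rw [← Over.w j, reassoc_of% hx', Over.w x]
  · ext
    exact hx'

theorem mono_of_isClosedImmersion_left {S : Scheme.{u}} {Z X : Over S} (j : Z ⟶ X)
    [IsClosedImmersion j.left] : Mono j :=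
  Over.mono_of_mono_left j

theorem main18957 (k : Type u) [Field k]
    (M G X Z : Over (Spec (CommRingCat.of k))) [MonObj M] [GrpObj G]
    (i : G ⟶ M) [IsMonHom i] [IsOpenImmersion i.left] [QuasiCompact i.left]
    [IsSchemeTheoreticallyDominant i.left]
    (a : Magnet.MonAct M X) (b : AlgGrp.Action G Z) (j : Z ⟶ X) [IsClosedImmersion j.left]
    (hj : Magnet.MonAct.IsEquivariant (Magnet.MonAct.ofAction b) (a.restrict i) j) :
    ∃ c : Magnet.MonAct M Z, Magnet.MonAct.IsEquivariant c a j ∧
      c.restrict i = Magnet.MonAct.ofAction b := by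
  have := dom_whiskerRight i Z
  have hmono := mono_of_isClosedImmersion_left j
  have hj' : b.act ≫ j = (G ◁ j) ≫ (i ▷ X) ≫ a.act := hj
  obtain ⟨cact, hc⟩ := exists_over_lift_of_dominant j (i ▷ Z) ((M ◁ j) ≫ a.act) b.act (by
    rw [hj', whisker_exchange_assoc])
  have hpt : ∀ {T : Over (Spec (CommRingCat.of k))} (g : T ⟶ M) (x : T ⟶ Z),
      lift g x ≫ cact ≫ j = lift g (x ≫ j) ≫ a.act := by
    intro T g x
    rw [hc, lift_whiskerLeft_assoc]
  refine ⟨Magnet.MonAct.mk' cact ?_ ?_, ?_, ?_⟩
  · intro T x
    rw [← cancel_mono j, Category.assoc, hpt, a.lift_one_act]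
  · intro T g h x
    rw [← cancel_mono j, Category.assoc, hpt, a.lift_mul_act, Category.assoc, hpt, Category.assoc,
      hpt]
  · exact hc
  · apply Magnet.MonAct.ext'
    rw [Magnet.MonAct.restrict_act, Magnet.MonAct.mk'_act, Magnet.MonAct.ofAction_act,
      ← cancel_mono j, Category.assoc, hc, hj', whisker_exchange_assoc]

end Groth.Agent.Lib.Helper3.MagDense
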