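import Groth.Statements.S18956
import Groth.Agent.Lib.Helper3.MagDense
set_option autoImplicit false
universe u
open CategoryTheory CategoryTheory.Limits MonoidalCategory CartesianMonoidalCategory MonObj AlgebraicGeometry Opposite
open Magnet

namespace Groth.Agent.Lib.Helper3.MagDense

theorem main18956 (k : Type u) [Field k]
    (M G X Z : Over (Spec (CommRingCat.of k))) [MonObj M] [GrpObj G]
    (i : G ⟶ M) [IsMonHom i] [IsOpenImmersion i.left] [QuasiCompact i.left]
    [IsSchemeTheoreticallyDominant i.left]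
    (aX : AlgGrp.Action G X) (aZ : AlgGrp.Action G Z) (j : Z ⟶ X) [IsClosedImmersion j.left]
    (hj : Magnet.MonAct.IsEquivariant (Magnet.MonAct.ofAction aZ) (Magnet.MonAct.ofAction aX) j) :
    IsPullback
      (Magnet.MonAct.eqvHom.postcomp ((Magnet.MonAct.regular M).restrict i) j hj)
      (Magnet.MonAct.eqvHom.evalAt ((Magnet.MonAct.regular M).restrict i) (Magnet.MonAct.ofAction aZ) η[M])
      (Magnet.MonAct.eqvHom.evalAt ((Magnet.MonAct.regular M).restrict i) (Magnet.MonAct.ofAction aX) η[M])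
      (yoneda.map j) := by
  have hmono := mono_of_isClosedImmersion_left j
  apply IsPullback.of_forall_isPullback_app
  intro T
  rw [Types.isPullback_iff]
  refine ⟨?_, ?_, ?_⟩
  · ext φ
    change lift (toUnit (unop T) ≫ η[M]) (𝟙 (unop T)) ≫ (φ.1 ≫ j) =
      (lift (toUnit (unop T) ≫ η[M]) (𝟙 (unop T)) ≫ φ.1) ≫ j
    rw [Category.assoc]
  · rintro φ₁ φ₂ ⟨h1, -⟩
    apply Subtype.ext
    have := congrArg Subtype.val h1
    simp only [Magnet.MonAct.eqvHom.postcomp_app_coe] at this
    exact (cancel_mono j).mp this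
  · intro ψ z hz
    have := dom_whiskerRight i (unop T)
    have hz' : lift (toUnit (unop T) ≫ η[M]) (𝟙 (unop T)) ≫ ψ.1 = z ≫ j := hz
    have hψ := (Magnet.MonAct.mem_eqvHom_iff (ρ := (Magnet.MonAct.regular M).restrict i)
      (a := Magnet.MonAct.ofAction aX) ψ.1).mp ψ.2
    have hjpt := (Magnet.MonAct.isEquivariant_iff _ _ j).mp hj
    have key : (i ▷ unop T) ≫ ψ.1 = ((G ◁ z) ≫ aZ.act) ≫ j := by
      apply Magnet.hom_ext_lift₂
      intro T' g t
      have h1 := hψ T' g (1 : T' ⟶ M) t
      rw [Magnet.MonAct.lift_restrict_act, Magnet.MonAct.lift_regular_act, _root_.mul_one] at h1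
      have h2 : lift (1 : T' ⟶ M) t = t ≫ lift (toUnit (unop T) ≫ η[M]) (𝟙 (unop T)) := by
        rw [comp_lift, Category.comp_id, ← Category.assoc, toUnit_unique (t ≫ toUnit _) (toUnit T'),
          Hom.one_def]
      rw [lift_whiskerRight_assoc, h1, h2, Category.assoc, hz', Magnet.MonAct.ofAction_act,
        Category.assoc, lift_whiskerLeft_assoc]
      have h3 := hjpt T' g (t ≫ z)
      rw [Magnet.MonAct.ofAction_act, Magnet.MonAct.ofAction_act] at h3
      rw [h3, Category.assoc]
    obtain ⟨φ, hφ⟩ := exists_over_lift_of_dominant j (i ▷ unop T) ψ.1 ((G ◁ z) ≫ aZ.act) key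
    refine ⟨⟨φ, ?_⟩, ?_, ?_⟩
    · have hψ2 := ψ.2
      unfold Magnet.MonAct.IsEquivariant at hψ2 hj ⊢
      rw [← cancel_mono j, Category.assoc, hφ, hψ2, Category.assoc, hj, ← hφ,
        MonoidalCategory.whiskerLeft_comp, Category.assoc]
    · apply Subtype.ext
      exact hφ
    · change lift (toUnit (unop T) ≫ η[M]) (𝟙 (unop T)) ≫ φ = z
      rw [← cancel_mono j, Category.assoc, hφ, hz']

end Groth.Agent.Lib.Helper3.MagDense
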