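import Groth.Statements.S18958
import Groth.Agent.Lib.Helper3.MagDense
import Groth.Agent.S9344
set_option autoImplicit false
universe u
open CategoryTheory CategoryTheory.Limits MonoidalCategory CartesianMonoidalCategory MonObj AlgebraicGeometry Opposite
open Magnet

namespace Groth.Agent.Lib.Helper3.MagDense

theorem range_whiskerLeft {S : Scheme.{u}} (G U X : Over S) (j : U ⟶ X) :
    Set.range (G ◁ j).left = (snd G X).left ⁻¹' Set.range j.left :=
  Groth.Agent.S9344.range_snd_of_isPullback j.left (snd G X).left (snd G U).left (G ◁ j).left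
    (Groth.Agent.Lib.Helper3.SchIm.isPullback_whiskerLeft G U X j).flip

theorem exists_over_lift_of_range_subset {S : Scheme.{u}} {W U X : Over S} (j : U ⟶ X)
    [IsOpenImmersion j.left] (x : W ⟶ X) (h : Set.range x.left ⊆ Set.range j.left) :
    ∃ x' : W ⟶ U, x' ≫ j = x := by
  refine ⟨Over.homMk (IsOpenImmersion.lift j.left x.left h) ?_, ?_⟩
  · rw [← Over.w j, ← Category.assoc, IsOpenImmersion.lift_fac, Over.w x]
  · ext
    exact IsOpenImmersion.lift_fac _ _ _

theorem main18958 (k : Type u) [Field k]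
    (M G X U : Over (Spec (CommRingCat.of k))) [MonObj M] [GrpObj G] (i : G ⟶ M) [IsMonHom i]
    (o : 𝟙_ (Over (Spec (CommRingCat.of k))) ⟶ M)
    (hM : ∀ (T : Over (Spec (CommRingCat.of k))) (K : Type u) [Field K]
      (eT : T.left ≅ Spec (CommRingCat.of K)) (W : (M ⊗ T).left.Opens),
      (CartesianMonoidalCategory.snd G (M ⊗ T)).left ⁻¹ᵁ W ≤
          ((((Magnet.MonAct.regular M).restrict i).prod (Magnet.MonAct.trivial G T)).act).left ⁻¹ᵁ W →
      (CartesianMonoidalCategory.lift (toUnit T ≫ o) (𝟙 T)).left ⁻¹ᵁ W = ⊤ → W = ⊤)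
    (aX : AlgGrp.Action G X) (aU : AlgGrp.Action G U) (j : U ⟶ X) [IsOpenImmersion j.left]
    (hj : Magnet.MonAct.IsEquivariant (Magnet.MonAct.ofAction aU) (Magnet.MonAct.ofAction aX) j) :
    IsPullback
      (Magnet.MonAct.eqvHom.postcomp ((Magnet.MonAct.regular M).restrict i) j hj)
      (Magnet.MonAct.eqvHom.evalAt ((Magnet.MonAct.regular M).restrict i) (Magnet.MonAct.ofAction aU) o)
      (Magnet.MonAct.eqvHom.evalAt ((Magnet.MonAct.regular M).restrict i) (Magnet.MonAct.ofAction aX) o)
      (yoneda.map j) := by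
  have hmono : Mono j := Over.mono_of_mono_left j
  apply IsPullback.of_forall_isPullback_app
  intro T
  rw [Types.isPullback_iff]
  refine ⟨?_, ?_, ?_⟩
  · ext φ
    change lift (toUnit (unop T) ≫ o) (𝟙 (unop T)) ≫ (φ.1 ≫ j) =
      (lift (toUnit (unop T) ≫ o) (𝟙 (unop T)) ≫ φ.1) ≫ j
    rw [Category.assoc]
  · rintro φ₁ φ₂ ⟨h1, -⟩
    apply Subtype.ext
    have := congrArg Subtype.val h1
    simp only [Magnet.MonAct.eqvHom.postcomp_app_coe] at this
    exact (cancel_mono j).mp this
  · intro ψ z hz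
    obtain ⟨Y, rfl⟩ : ∃ Y, T = op Y := ⟨unop T, rfl⟩
    have hz' : lift (toUnit Y ≫ o) (𝟙 Y) ≫ ψ.1 = z ≫ j := hz
    have hψ2 := ψ.2
    unfold Magnet.MonAct.IsEquivariant at hψ2 hj
    -- the image of ψ lies in the open U
    have hrange : Set.range ψ.1.left ⊆ Set.range j.left := by
      rintro _ ⟨p, rfl⟩
      -- the point of Y under p and its residue field
      obtain ⟨y, hy⟩ : ∃ y, y = (snd M Y).left p := ⟨_, rfl⟩
      let T' : Over (Spec (CommRingCat.of k)) :=
        Over.mk (Y.left.fromSpecResidueField y ≫ Y.hom)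
      let t : T' ⟶ Y := Over.homMk (Y.left.fromSpecResidueField y) rfl
      have hp : p ∈ Set.range (M ◁ t).left := by
        rw [range_whiskerLeft, Set.mem_preimage, ← hy]
        exact ⟨IsLocalRing.closedPoint _, Scheme.fromSpecResidueField_apply _ _⟩
      obtain ⟨p', rfl⟩ := hp
      obtain ⟨ψT, hψT⟩ : ∃ ψT, ψT = (M ◁ t) ≫ ψ.1 := ⟨_, rfl⟩
      have hψTeq : ((((Magnet.MonAct.regular M).restrict i).prod
          (Magnet.MonAct.trivial G T')).act) ≫ ψT = (G ◁ ψT) ≫ aX.act := by
        rw [hψT, Magnet.MonAct.prod_trivial_act_whiskerLeft_assoc, hψ2,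
          MonoidalCategory.whiskerLeft_comp, Category.assoc]
        rfl
      have hW := hM T' (Y.left.residueField y) (Iso.refl _) (ψT.left ⁻¹ᵁ j.left.opensRange) ?_ ?_
      · have : p' ∈ (ψT.left ⁻¹ᵁ j.left.opensRange) := by rw [hW]; trivial
        rw [hψT] at this
        exact this
      · -- G-stability
        intro q hq
        have hq' : ψT.left ((snd G (M ⊗ T')).left q) ∈ Set.range j.left := hq
        have h1 : (G ◁ ψT).left q ∈ Set.range (G ◁ j).left := by
          rw [range_whiskerLeft, Set.mem_preimage]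
          have : (snd G X).left ((G ◁ ψT).left q) = ψT.left ((snd G (M ⊗ T')).left q) := by
            rw [← Scheme.Hom.comp_apply, ← Scheme.Hom.comp_apply, ← Over.comp_left,
              ← Over.comp_left, whiskerLeft_snd]
          rw [this]
          exact hq'
        obtain ⟨q₂, hq₂⟩ := h1
        change ψT.left (((((Magnet.MonAct.regular M).restrict i).prod
          (Magnet.MonAct.trivial G T')).act).left q) ∈ Set.range j.left
        rw [← Scheme.Hom.comp_apply, ← Over.comp_left, hψTeq, Over.comp_left,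
          Scheme.Hom.comp_apply, ← hq₂, ← Scheme.Hom.comp_apply, ← Over.comp_left]
        have hj' : (G ◁ j) ≫ aX.act = aU.act ≫ j := hj.symm
        rw [hj', Over.comp_left, Scheme.Hom.comp_apply]
        exact ⟨_, rfl⟩
      · -- contains the zero section
        rw [eq_top_iff]
        intro q _
        change ψT.left ((lift (toUnit T' ≫ o) (𝟙 T')).left q) ∈ Set.range j.left
        have : lift (toUnit T' ≫ o) (𝟙 T') ≫ ψT = (t ≫ z) ≫ j := by
          rw [hψT, lift_whiskerLeft_assoc, Category.id_comp, Category.assoc, ← hz', ← Category.assoc]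
          congr 1
          rw [comp_lift, Category.comp_id, ← Category.assoc]
          congr 2
        rw [← Scheme.Hom.comp_apply, ← Over.comp_left, this, Over.comp_left, Scheme.Hom.comp_apply]
        exact ⟨_, rfl⟩
    obtain ⟨φ, hφ⟩ := exists_over_lift_of_range_subset j ψ.1 hrange
    refine ⟨⟨φ, ?_⟩, ?_, ?_⟩
    · unfold Magnet.MonAct.IsEquivariant
      rw [← cancel_mono j, Category.assoc, hφ, hψ2, Category.assoc, hj, ← hφ,
        MonoidalCategory.whiskerLeft_comp, Category.assoc]
    · apply Subtype.ext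
      exact hφ
    · change lift (toUnit Y ≫ o) (𝟙 Y) ≫ φ = z
      rw [← cancel_mono j, Category.assoc, hφ, hz']

end Groth.Agent.Lib.Helper3.MagDense
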