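import Groth.Agent.Lib.Helper3.MagLoc
set_option autoImplicit false
universe u
open CategoryTheory CategoryTheory.Limits MonoidalCategory CartesianMonoidalCategory MonObj AlgebraicGeometry Opposite
open Magnet TensorProduct

namespace Groth.Agent.Lib.Helper3.MagPts

variable {S : Scheme.{u}}

instance flat_AMon_hom (M' : Type) [AddCommMonoid M'] : Flat (AMon (ULift.{u} ℤ) M').hom := by
  change Flat (Spec.map (CommRingCat.ofHom (algebraMap (ULift.{u} ℤ) (BB.{u} M'))))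
  rw [Flat.SpecMap_iff]
  exact RingHom.flat_algebraMap_iff.mpr inferInstance

instance flat_AMonS_hom (M' : Type) [AddCommMonoid M'] : Flat (AMonS S M').hom := by
  change Flat (pullback.snd (AMon (ULift.{u} ℤ) M').hom (tS S))
  infer_instance

theorem flat_snd_left (M' : Type) [AddCommMonoid M'] (Y : Over S) :
    Flat (snd (AMonS S M') Y).left := by
  change Flat (pullback.snd (AMonS S M').hom Y.hom)
  infer_instance

theorem iSup_agree {P X' : Scheme.{u}} (f g : P ⟶ X') {J : Type u} (U : J → P.Opens)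
    (hU : ∀ j, (U j).ι ≫ f = (U j).ι ≫ g) : (⨆ j, U j).ι ≫ f = (⨆ j, U j).ι ≫ g := by
  apply (Scheme.Opens.iSupOpenCover U).hom_ext
  intro j
  change P.homOfLE (le_iSup U j) ≫ _ = P.homOfLE (le_iSup U j) ≫ _
  rw [Scheme.homOfLE_ι_assoc, Scheme.homOfLE_ι_assoc]
  exact hU j

/-- every fibre of `A¹ × Y → Y` meets `W' ∩ D(τ)` when `W'` is an open neighbourhood of the
zero section -/
theorem exists_mem_of_forall_not_mem (Y : Over S) (W' : (AMonS S ↥N1 ⊗ Y).left.Opens)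
    (hW : ∀ p, p ∉ (AMonS S ↥N1 ⊗ Y).left.basicOpen (tauY Y) → p ∈ W') (y : Y.left) :
    ∃ v, v ∈ W' ⊓ (AMonS S ↥N1 ⊗ Y).left.basicOpen (tauY Y) ∧
      (snd (AMonS S ↥N1) Y).left v = y := by
  let R : Type u := Y.left.residueField y
  let u : Spec (CommRingCat.of R) ⟶ Y.left := Y.left.fromSpecResidueField y
  let f := u ≫ Y.hom
  let ū : TT R f ⟶ Y := Over.homMk u rfl
  let j := (AMonS S ↥N1 ◁ ū).left
  let θ := thetaIso R f
  let G : Spec (CommRingCat.of (Polynomial R)) ⟶ (AMonS S ↥N1 ⊗ Y).left := θ.hom ≫ j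
  have hGτ : G.appTop (tauY Y) = xx R f := by
    rw [comp_appTop_apply, whiskerLeft_appTop_tauY]
    exact theta'_appTop_tauT R f
  have hpre : G ⁻¹ᵁ ((AMonS S ↥N1 ⊗ Y).left.basicOpen (tauY Y)) =
      PrimeSpectrum.basicOpen (Polynomial.X : Polynomial R) := by
    rw [Scheme.preimage_basicOpen_top, hGτ]
    unfold xx
    rw [basicOpen_eq_of_affine]
  have hprime : (Ideal.span {(Polynomial.X : Polynomial R)}).IsPrime := by
    rw [Ideal.span_singleton_prime Polynomial.X_ne_zero]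
    exact Polynomial.prime_X
  let p₀ : Spec (CommRingCat.of (Polynomial R)) := ⟨Ideal.span {Polynomial.X}, hprime⟩
  let η₀ : Spec (CommRingCat.of (Polynomial R)) := ⟨⊥, Ideal.isPrime_bot⟩
  have hp₀ : G p₀ ∈ W' := by
    apply hW
    intro hc
    have : p₀ ∈ G ⁻¹ᵁ ((AMonS S ↥N1 ⊗ Y).left.basicOpen (tauY Y)) := hc
    rw [hpre] at this
    exact this (Ideal.subset_span (Set.mem_singleton _))
  have hspec : η₀ ⤳ p₀ := by
    refine (PrimeSpectrum.le_iff_specializes (R := Polynomial R) η₀ p₀).mp ?_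
    exact bot_le (a := Ideal.span {(Polynomial.X : Polynomial R)})
  have hη₀W : η₀ ∈ G ⁻¹ᵁ W' := hspec.mem_open (G ⁻¹ᵁ W').isOpen hp₀
  have hη₀τ : η₀ ∈ G ⁻¹ᵁ ((AMonS S ↥N1 ⊗ Y).left.basicOpen (tauY Y)) := by
    rw [hpre]
    intro hc
    exact Polynomial.X_ne_zero (R := R) ((Submodule.mem_bot _).mp hc)
  refine ⟨G η₀, ⟨hη₀W, hη₀τ⟩, ?_⟩
  have hcomp : G ≫ (snd (AMonS S ↥N1) Y).left =
      Spec.map (CommRingCat.ofHom (Polynomial.C : R →+* Polynomial R)) ≫ u := by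
    have h1 : j ≫ (snd (AMonS S ↥N1) Y).left = (snd (AMonS S ↥N1) (TT R f)).left ≫ u := by
      have := congrArg (fun q => q.left) (whiskerLeft_snd (AMonS S ↥N1) ū)
      exact this
    change (θ.hom ≫ j) ≫ _ = _
    rw [Category.assoc, h1, ← Category.assoc]
    congr 1
    exact theta'_snd R f
  rw [← Scheme.Hom.comp_apply, hcomp, Scheme.Hom.comp_apply]
  exact Scheme.fromSpecResidueField_apply _ _


theorem isUnit_of_basicOpen_eq_top {Z : Scheme.{u}} (f : Γ(Z, ⊤)) (h : Z.basicOpen f = ⊤) :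
    IsUnit f := by
  apply RingedSpace.isUnit_of_isUnit_germ (X := Z.toLocallyRingedSpace.toRingedSpace) ⊤ f
  intro x hx
  have : x ∈ Z.basicOpen f := by rw [h]; trivial
  exact (Z.mem_basicOpen_top f x).mp this

theorem isUnit_appTop_of_forall_mem {Z P : Scheme.{u}} (g : Z ⟶ P) (τ : Γ(P, ⊤))
    (hg : ∀ z, g z ∈ P.basicOpen τ) : IsUnit (g.appTop τ) := by
  apply isUnit_of_basicOpen_eq_top
  rw [← Scheme.preimage_basicOpen_top]
  ext z
  simp only [TopologicalSpace.Opens.coe_top, Set.mem_univ, iff_true]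
  exact hg z

variable {X' Y : Over S} (a : AlgGrp.Action (Red.DS S ℤ) X')

/-- the value of an equivariant map at the unit section -/
noncomputable def xOf (g : (Magnet.attr (Magnet.MonAct.ofAction a) N1).obj (op Y)) : Y ⟶ X' :=
  lift (toUnit Y ≫ η[AMonS S ↥N1]) (𝟙 Y) ≫ g.1

theorem comp_eq_act (g : (Magnet.attr (Magnet.MonAct.ofAction a) N1).obj (op Y)) {T : Over S}
    (p : T ⟶ AMonS S ↥N1 ⊗ Y) (d : T ⟶ AMonS S ℤ)
    (hd : d ≫ AMonS.map S N1.subtype = p ≫ fst _ _) :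
    p ≫ g.1 = lift d ((p ≫ snd _ _) ≫ xOf a g) ≫ a.act := by
  have hp : p = lift d (p ≫ snd _ _) ≫ (AMonS.map S N1.subtype ▷ Y) := by
    rw [lift_whiskerRight, hd]
    apply CartesianMonoidalCategory.hom_ext <;> simp
  have hw := MagKey.whiskerRight_comp_eq S ℤ X' (Magnet.MonAct.ofAction a) N1 Y g
  conv_lhs => rw [hp]
  rw [Category.assoc, hw, ← Category.assoc, lift_whiskerLeft]
  rfl

/-- a point of `A¹ × Y` landing in `D(τ)` has its first coordinate in `𝔾_m` -/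
theorem exists_lift_of_forall_mem {Z : Scheme.{u}} (g : Z ⟶ (AMonS S ↥N1 ⊗ Y).left)
    (hg : ∀ z, g z ∈ (AMonS S ↥N1 ⊗ Y).left.basicOpen (tauY Y)) :
    ∃ d : Over.mk (g ≫ (AMonS S ↥N1 ⊗ Y).hom) ⟶ AMonS S ℤ,
      d ≫ AMonS.map S N1.subtype =
        (Over.homMk g rfl : Over.mk (g ≫ (AMonS S ↥N1 ⊗ Y).hom) ⟶ AMonS S ↥N1 ⊗ Y) ≫ fst _ _ := by
  apply exists_lift_of_isUnit
  rw [chi_comp]
  exact isUnit_appTop_of_forall_mem g (tauY Y) hg

theorem main18963 (γ₁ γ₂ : (Magnet.attr (Magnet.MonAct.ofAction a) N1).obj (op Y))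
    (h : ∀ (T : Over S) (m : T ⟶ AMonS S ↥N1) (t : T ⟶ Y),
      (∃ n : ℕ, ∀ m' : T ⟶ AMonS S ↥N1, m ^ (n + 1) * m' = m ^ (n + 1)) →
      lift m t ≫ γ₁.1 = lift m t ≫ γ₂.1) : γ₁ = γ₂ := by
  have hloc : ∀ p : (AMonS S ↥N1 ⊗ Y).left, p ∉ (AMonS S ↥N1 ⊗ Y).left.basicOpen (tauY Y) →
      ∃ O : (AMonS S ↥N1 ⊗ Y).left.Opens, p ∈ O ∧ O.ι ≫ γ₁.1.left = O.ι ≫ γ₂.1.left := by
    intro p hp
    have hoi : IsOpenImmersion (Y.left.affineOpenCover.f
        (Y.left.affineOpenCover.idx ((snd (AMonS S ↥N1) Y).left p))) :=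
      Y.left.affineOpenCover.map_prop _
    exact @exists_open_agree_chart S X' Y γ₁.1 γ₂.1 h
      (Y.left.affineOpenCover.X (Y.left.affineOpenCover.idx ((snd (AMonS S ↥N1) Y).left p))) _
      (Y.left.affineOpenCover.f (Y.left.affineOpenCover.idx ((snd (AMonS S ↥N1) Y).left p))) hoi p
      (Y.left.affineOpenCover.covers _) hp
  -- the open `W'` where the two maps agree
  let J := {O : (AMonS S ↥N1 ⊗ Y).left.Opens // O.ι ≫ γ₁.1.left = O.ι ≫ γ₂.1.left}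
  let W' : (AMonS S ↥N1 ⊗ Y).left.Opens := ⨆ j : J, j.1
  have hW'agree : W'.ι ≫ γ₁.1.left = W'.ι ≫ γ₂.1.left :=
    iSup_agree _ _ (fun j : J => j.1) (fun j => j.2)
  have hW' : ∀ p, p ∉ (AMonS S ↥N1 ⊗ Y).left.basicOpen (tauY Y) → p ∈ W' := by
    intro p hp
    obtain ⟨O, hpO, hO⟩ := hloc p hp
    exact TopologicalSpace.Opens.mem_iSup.mpr ⟨⟨O, hO⟩, hpO⟩
  -- the key: the values at the unit section agree
  have hx : xOf a γ₁ = xOf a γ₂ := by
    let V : (AMonS S ↥N1 ⊗ Y).left.Opens := W' ⊓ (AMonS S ↥N1 ⊗ Y).left.basicOpen (tauY Y)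
    obtain ⟨d, hd⟩ := exists_lift_of_forall_mem (Y := Y) V.ι (fun z => (z.2 : z.1 ∈ V).2)
    let pV : Over.mk (V.ι ≫ (AMonS S ↥N1 ⊗ Y).hom) ⟶ AMonS S ↥N1 ⊗ Y := Over.homMk V.ι rfl
    have hVagree : pV ≫ γ₁.1 = pV ≫ γ₂.1 := by
      apply Over.OverMorphism.ext
      change V.ι ≫ γ₁.1.left = V.ι ≫ γ₂.1.left
      have hle : V ≤ W' := inf_le_left
      rw [← Scheme.homOfLE_ι _ hle, Category.assoc, Category.assoc, hW'agree]
    rw [comp_eq_act a γ₁ pV d hd, comp_eq_act a γ₂ pV d hd] at hVagree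
    have hc := act_cancel a d _ _ hVagree
    have hq : (pV ≫ snd _ _).left ≫ (xOf a γ₁).left = (pV ≫ snd _ _).left ≫ (xOf a γ₂).left :=
      congrArg (fun q => q.left) hc
    have hflat : Flat (pV ≫ snd (AMonS S ↥N1) Y).left := by
      change Flat (V.ι ≫ (snd (AMonS S ↥N1) Y).left)
      have := flat_snd_left ↥N1 Y
      infer_instance
    have hsurj : Surjective (pV ≫ snd (AMonS S ↥N1) Y).left := by
      constructor
      intro y
      obtain ⟨v, hv, hvy⟩ := exists_mem_of_forall_not_mem Y W' hW' y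
      exact ⟨⟨v, hv⟩, hvy⟩
    have := Flat.epi_of_flat_of_surjective (pV ≫ snd (AMonS S ↥N1) Y).left
    apply Over.OverMorphism.ext
    exact (cancel_epi _).mp hq
  apply Subtype.ext
  apply Over.OverMorphism.ext
  apply Scheme.hom_ext_of_forall
  intro p
  by_cases hp : p ∈ (AMonS S ↥N1 ⊗ Y).left.basicOpen (tauY Y)
  · refine ⟨(AMonS S ↥N1 ⊗ Y).left.basicOpen (tauY Y), hp, ?_⟩
    let B := (AMonS S ↥N1 ⊗ Y).left.basicOpen (tauY Y)
    obtain ⟨d, hd⟩ := exists_lift_of_forall_mem (Y := Y) B.ι (fun z => z.2)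
    let pB : Over.mk (B.ι ≫ (AMonS S ↥N1 ⊗ Y).hom) ⟶ AMonS S ↥N1 ⊗ Y := Over.homMk B.ι rfl
    have := (comp_eq_act a γ₁ pB d hd).trans ((by rw [hx]) : _ = _) |>.trans
      (comp_eq_act a γ₂ pB d hd).symm
    exact congrArg (fun q => q.left) this
  · exact hloc p hp

end Groth.Agent.Lib.Helper3.MagPts
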