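import Groth.Statements.S18286
import Groth.Agent.Lib.Helper3.MagDense3
import Groth.Agent.Lib.Helper3.GraphExt2
set_option autoImplicit false
universe u
open CategoryTheory CategoryTheory.Limits MonoidalCategory CartesianMonoidalCategory MonObj AlgebraicGeometry Opposite
open Magnet TensorProduct

namespace Groth.Agent.Lib.Helper3.MagKey

/-- tensoring a split injection stays injective -/
theorem injective_tensor_map_of_retraction {k A B R : Type u} [CommRing k] [CommRing A] [CommRing B]
    [CommRing R] [Algebra k A] [Algebra k B] [Algebra k R] (φ : A →ₐ[k] B) (ρ : B →ₗ[k] A)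
    (h : ∀ a, ρ (φ a) = a) :
    Function.Injective (Algebra.TensorProduct.map φ (AlgHom.id k R)) := by
  have : Function.LeftInverse (TensorProduct.map ρ (LinearMap.id : R →ₗ[k] R))
      (Algebra.TensorProduct.map φ (AlgHom.id k R)) := by
    intro x
    induction x using TensorProduct.induction_on with
    | zero => simp
    | tmul a r => simp [h]
    | add x y hx hy => simp only [map_add, hx, hy]
  exact this.injective

/-- schematic dominance is local on the target (only commutative squares are needed) -/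
theorem dom_of_cover {X Y : Scheme.{u}} (f : X ⟶ Y) {I : Type*} (V X' : I → Scheme.{u})
    [∀ i, IsAffine (V i)] (j : ∀ i, V i ⟶ Y) [∀ i, IsOpenImmersion (j i)]
    (hj : ∀ y : Y, ∃ i, y ∈ Set.range (j i)) (p : ∀ i, X' i ⟶ X) (f' : ∀ i, X' i ⟶ V i)
    (hsq : ∀ i, p i ≫ f = f' i ≫ j i) (hf' : ∀ i, IsSchemeTheoreticallyDominant (f' i)) :
    IsSchemeTheoreticallyDominant f := by
  refine ⟨Scheme.IdealSheafData.ext_of_iSup_eq_top
    (fun i => ⟨(j i).opensRange, isAffineOpen_opensRange _⟩) ?_ ?_⟩
  · rw [eq_top_iff]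
    intro y _
    obtain ⟨i, hi⟩ := hj y
    exact TopologicalSpace.Opens.mem_iSup.mpr ⟨i, hi⟩
  · intro i
    rw [Scheme.IdealSheafData.ideal_bot]
    refine le_antisymm ?_ bot_le
    have h1 : f.ker ≤ (p i ≫ f).ker := Scheme.Hom.le_ker_comp _ _
    rw [hsq i, Scheme.Hom.ker_comp, (hf' i).ker_eq_bot, Scheme.IdealSheafData.map_bot] at h1
    refine (h1 _).trans ?_
    refine ((j i).ideal_ker_le _).trans ?_
    have : IsIso ((j i).app (j i).opensRange) := (j i).isIso_app _ le_rfl
    intro x hx
    rw [RingHom.mem_ker] at hx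
    have hinj := (ConcreteCategory.bijective_of_isIso ((j i).app (j i).opensRange)).1
    exact hinj (hx.trans (map_zero _).symm)

/-- base change of `Spec` of a split injection along an affine scheme is schematically dominant -/
theorem dom_of_isPullback_Spec {k A B : Type u} [CommRing k] [CommRing A] [CommRing B]
    [Algebra k A] [Algebra k B] (φ : A →ₐ[k] B) (ρ : B →ₗ[k] A) (h : ∀ a, ρ (φ a) = a)
    {X Y : Scheme.{u}} (R : CommRingCat.{u}) (t : Spec R ⟶ Spec (CommRingCat.of k))
    {pB : X ⟶ Spec (CommRingCat.of B)} {qB : X ⟶ Spec R}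
    {pA : Y ⟶ Spec (CommRingCat.of A)} {qA : Y ⟶ Spec R}
    (hX : IsPullback pB qB (Spec.map (CommRingCat.ofHom (algebraMap k B))) t)
    (hY : IsPullback pA qA (Spec.map (CommRingCat.ofHom (algebraMap k A))) t)
    (f : X ⟶ Y) (h1 : f ≫ pA = pB ≫ Spec.map (CommRingCat.ofHom φ.toRingHom))
    (h2 : f ≫ qA = qB) : IsSchemeTheoreticallyDominant f := by
  obtain ⟨r, rfl⟩ : ∃ r : CommRingCat.of k ⟶ R, Spec.map r = t := ⟨Spec.preimage t, Spec.map_preimage t⟩
  letI : Algebra k R := r.hom.toAlgebra
  have hr : r = CommRingCat.ofHom (algebraMap k R) := rfl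
  rw [hr] at hX hY
  have hA' := isPullback_SpecMap_of_isPushout _ _ _ _ (CommRingCat.isPushout_tensorProduct k A R)
  have hB' := isPullback_SpecMap_of_isPushout _ _ _ _ (CommRingCat.isPushout_tensorProduct k B R)
  let eY := hY.isoIsPullback _ _ hA'
  let eX := hX.isoIsPullback _ _ hB'
  let ψ := CommRingCat.ofHom (Algebra.TensorProduct.map φ (AlgHom.id k R)).toRingHom
  have hψ : IsSchemeTheoreticallyDominant (Spec.map ψ) :=
    Groth.Agent.Lib.Helper3.SchIm.isSchemeTheoreticallyDominant_Spec_map ψ
      (injective_tensor_map_of_retraction φ ρ h)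
  have key : f = eX.hom ≫ Spec.map ψ ≫ eY.inv := by
    rw [← Category.assoc, Iso.eq_comp_inv]
    apply hA'.hom_ext
    · rw [Category.assoc, Category.assoc, IsPullback.isoIsPullback_hom_fst, h1, ← Spec.map_comp,
        ← IsPullback.isoIsPullback_hom_fst _ _ hX hB', Category.assoc, ← Spec.map_comp]
      congr 2
    · have e1 : eY.hom ≫ Spec.map (CommRingCat.ofHom
          (Algebra.TensorProduct.includeRight (R := k) (A := A) (B := R)).toRingHom) = qA :=
        IsPullback.isoIsPullback_hom_snd _ _ hY hA'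
      have e2 : eX.hom ≫ Spec.map (CommRingCat.ofHom
          (Algebra.TensorProduct.includeRight (R := k) (A := B) (B := R)).toRingHom) = qB :=
        IsPullback.isoIsPullback_hom_snd _ _ hX hB'
      rw [Category.assoc, Category.assoc, e1, h2, ← Spec.map_comp, ← e2]
      congr 2
      ext x
      simp [ψ]
  rw [key]
  infer_instance

/-- a linear retraction of `k[N] → k[M]` for an injective monoid map -/
theorem exists_retraction (k : Type u) [CommRing k] {M N : Type} [AddCommMonoid M] [AddCommMonoid N]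
    (g : N →+ M) (hg : Function.Injective g) :
    ∃ ρ : MonoidAlgebra k (Multiplicative M) →ₗ[k] MonoidAlgebra k (Multiplicative N),
      ∀ a, ρ ((MonoidAlgebra.mapDomainBialgHom k (AddMonoidHom.toMultiplicative g)).toAlgHom a) = a := by
  have hg' : Function.Injective (AddMonoidHom.toMultiplicative g) := hg
  refine ⟨(MonoidAlgebra.coeffLinearEquiv k).symm.toLinearMap ∘ₗ
    Finsupp.lcomapDomain (AddMonoidHom.toMultiplicative g) hg' ∘ₗ
    (MonoidAlgebra.coeffLinearEquiv k).toLinearMap, ?_⟩
  intro a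
  apply MonoidAlgebra.coeff_injective
  have := Finsupp.comapDomain_mapDomain (f := AddMonoidHom.toMultiplicative g) hg' a.coeff
  simpa using this

theorem dom_whiskerRight_of_isAffine (S : Scheme.{u}) {M N : Type} [AddCommMonoid M]
    [AddCommMonoid N] (g : N →+ M) (hg : Function.Injective g) (T : Over S) [IsAffine T.left] :
    IsSchemeTheoreticallyDominant ((AMonS.map S g) ▷ T).left := by
  obtain ⟨ρ, hρ⟩ := exists_retraction (ULift.{u} ℤ) g hg
  let tS := Limits.IsTerminal.from specULiftZIsTerminal S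
  let e := T.left.isoSpec
  have sqM : IsPullback
      ((fst (AMonS S M) T).left ≫ pullback.fst (AMon (ULift.{u} ℤ) M).hom tS)
      ((snd (AMonS S M) T).left ≫ e.hom)
      (Spec.map (CommRingCat.ofHom (algebraMap (ULift.{u} ℤ)
        (MonoidAlgebra (ULift.{u} ℤ) (Multiplicative M)))))
      (e.inv ≫ T.hom ≫ tS) := by
    have sq1 := IsPullback.of_hasPullback (AMonS S M).hom T.hom
    have sq2 := IsPullback.of_hasPullback (AMon (ULift.{u} ℤ) M).hom tS
    have := sq1.paste_horiz sq2
    refine this.of_iso (Iso.refl _) (Iso.refl _) e (Iso.refl _) ?_ ?_ ?_ ?_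
    · simp
    · simp
    · simp; rfl
    · simp
  have sqN : IsPullback
      ((fst (AMonS S N) T).left ≫ pullback.fst (AMon (ULift.{u} ℤ) N).hom tS)
      ((snd (AMonS S N) T).left ≫ e.hom)
      (Spec.map (CommRingCat.ofHom (algebraMap (ULift.{u} ℤ)
        (MonoidAlgebra (ULift.{u} ℤ) (Multiplicative N)))))
      (e.inv ≫ T.hom ≫ tS) := by
    have sq1 := IsPullback.of_hasPullback (AMonS S N).hom T.hom
    have sq2 := IsPullback.of_hasPullback (AMon (ULift.{u} ℤ) N).hom tS
    have := sq1.paste_horiz sq2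
    refine this.of_iso (Iso.refl _) (Iso.refl _) e (Iso.refl _) ?_ ?_ ?_ ?_
    · simp
    · simp
    · simp; rfl
    · simp
  refine dom_of_isPullback_Spec
    (MonoidAlgebra.mapDomainBialgHom (ULift.{u} ℤ) (AddMonoidHom.toMultiplicative g)).toAlgHom
    ρ hρ _ _ sqM sqN _ ?_ ?_
  · have h1 : (AMonS.map S g ▷ T).left ≫ (fst (AMonS S N) T).left =
        (fst (AMonS S M) T).left ≫ (AMonS.map S g).left := Over.whiskerRight_left_fst _
    have h2 : (AMonS.map S g).left ≫ pullback.fst (AMon (ULift.{u} ℤ) N).hom tS =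
        pullback.fst (AMon (ULift.{u} ℤ) M).hom tS ≫ (AMon.map (ULift.{u} ℤ) g).left :=
      Groth.Agent.Lib.Helper3.SchIm.pullback_map_left_fst tS (AMon.map (ULift.{u} ℤ) g)
    rw [AMon.map_left] at h2
    have h3 := congrArg (· ≫ pullback.fst (AMon (ULift.{u} ℤ) N).hom tS) h1
    simp only [Category.assoc] at h3
    rw [h2] at h3
    exact h3.trans (Category.assoc _ _ _).symm
  · have h1 : (AMonS.map S g ▷ T).left ≫ (snd (AMonS S N) T).left =
        (snd (AMonS S M) T).left := Over.whiskerRight_left_snd _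
    exact (Category.assoc _ _ _).symm.trans (congrArg (· ≫ e.hom) h1)

instance isAffineHom_AMonS_hom (S : Scheme.{u}) (N : Type) [AddCommMonoid N] :
    IsAffineHom (AMonS S N).hom := by
  change IsAffineHom (pullback.snd (AMon (ULift.{u} ℤ) N).hom
    (Limits.IsTerminal.from specULiftZIsTerminal S))
  have : IsAffineHom (AMon (ULift.{u} ℤ) N).hom := by
    change IsAffineHom (Spec.map _)
    infer_instance
  exact MorphismProperty.pullback_snd _ _ this

theorem isAffine_tensor_left (S : Scheme.{u}) (N : Type) [AddCommMonoid N] (T : Over S)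
    [IsAffine T.left] : IsAffine (AMonS S N ⊗ T).left := by
  have : IsAffineHom (pullback.snd (AMonS S N).hom T.hom) :=
    MorphismProperty.pullback_snd _ _ (isAffineHom_AMonS_hom S N)
  exact isAffine_of_isAffineHom (pullback.snd (AMonS S N).hom T.hom)

/-- KEY: `A(M)_S × T → A(N)_S × T` is schematically dominant for `N → M` injective -/
theorem dom_whiskerRight (S : Scheme.{u}) {M N : Type} [AddCommMonoid M] [AddCommMonoid N]
    (g : N →+ M) (hg : Function.Injective g) (T : Over S) :
    IsSchemeTheoreticallyDominant ((AMonS.map S g) ▷ T).left := by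
  let 𝒰 := T.left.affineCover
  let Ti : 𝒰.I₀ → Over S := fun i => Over.mk (𝒰.f i ≫ T.hom)
  let ti : ∀ i, Ti i ⟶ T := fun i => Over.homMk (𝒰.f i) rfl
  have hTi : ∀ i, IsAffine (Ti i).left := fun i => inferInstanceAs (IsAffine (𝒰.X i))
  have hAff : ∀ i, IsAffine (AMonS S N ⊗ Ti i).left := fun i => isAffine_tensor_left S N (Ti i)
  have hOpen : ∀ i, IsOpenImmersion (AMonS S N ◁ ti i).left := fun i => by
    have sq := Groth.Agent.Lib.Helper3.SchIm.isPullback_whiskerLeft (AMonS S N) (Ti i) T (ti i)
    have : IsOpenImmersion (ti i).left := inferInstanceAs (IsOpenImmersion (𝒰.f i))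
    exact MorphismProperty.of_isPullback (P := @IsOpenImmersion) sq.flip this
  refine dom_of_cover _ (fun i => (AMonS S N ⊗ Ti i).left) (fun i => (AMonS S M ⊗ Ti i).left)
    (fun i => (AMonS S N ◁ ti i).left) ?_ (fun i => (AMonS S M ◁ ti i).left)
    (fun i => (AMonS.map S g ▷ Ti i).left) ?_ ?_
  · intro y
    obtain ⟨i, x, hx⟩ := 𝒰.exists_eq ((snd (AMonS S N) T).left y)
    refine ⟨i, ?_⟩
    rw [Groth.Agent.Lib.Helper3.MagDense.range_whiskerLeft]
    exact ⟨x, hx⟩
  · intro i
    rw [← Over.comp_left, ← Over.comp_left, whisker_exchange]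
  · intro i
    exact dom_whiskerRight_of_isAffine S g hg (Ti i)

end Groth.Agent.Lib.Helper3.MagKey
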