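import Groth.Agent.Lib.Helper3.MagKey2
import Groth.Statements.S18288
set_option autoImplicit false
universe u
open CategoryTheory CategoryTheory.Limits MonoidalCategory CartesianMonoidalCategory MonObj AlgebraicGeometry Opposite
open Magnet

namespace Groth.Agent.Lib.Helper3.MagKey

theorem AMon_map_id (R : Type u) [CommRing R] (M : Type) [AddCommMonoid M] :
    AMon.map R (AddMonoidHom.id M) = 𝟙 _ := by
  ext : 1
  rw [AMon.map_left]
  change Spec.map _ = 𝟙 _
  rw [← Spec.map_id]
  congr 1
  apply CommRingCat.hom_ext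
  apply MonoidAlgebra.ringHom_ext
  · intro r; simp
  · intro m; simp

theorem AMonS_map_id (S : Scheme.{u}) (M : Type) [AddCommMonoid M] :
    AMonS.map S (AddMonoidHom.id M) = 𝟙 _ := by
  rw [AMonS.map, AMon_map_id, CategoryTheory.Functor.map_id]

theorem AMonS_map_comp_eq_id (S : Scheme.{u}) {M N : Type} [AddCommMonoid M] [AddCommMonoid N]
    (f : N →+ M) (g : M →+ N) (h : f.comp g = AddMonoidHom.id M) :
    AMonS.map S f ≫ AMonS.map S g = 𝟙 _ := by
  rw [← AMonS.map_comp, h, AMonS_map_id]

theorem main18288 (S : Scheme.{u}) (M Z : Type) [AddCommMonoid M]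
    [AddCommMonoid Z] (f : M →+ Z) (hf : Function.Injective f) (Y : AddSubmonoid Z)
    (hY : Y ≤ AddMonoidHom.mrange f) (X : Over S) [IsSeparated X.hom]
    (a : Magnet.MonAct (Magnet.AMonS S M) X) :
    IsIso (Magnet.attrComap a f Y) := by
  -- the restriction of `f` to `f⁻¹ Y → Y` is bijective
  obtain ⟨r, hr⟩ : ∃ r : ↥(Y.comap f) →+ ↥Y,
      r = (f.comp (Y.comap f).subtype).codRestrict Y (fun x => x.2) := ⟨_, rfl⟩
  have hrY : Y.subtype.comp r = f.comp (Y.comap f).subtype := by
    rw [hr]; rfl
  have hbij : Function.Bijective r := by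
    constructor
    · intro x y hxy
      apply Subtype.ext
      apply hf
      have := congrArg (fun z => Y.subtype z) hxy
      have h1 := DFunLike.congr_fun hrY x
      have h2 := DFunLike.congr_fun hrY y
      simp only [AddMonoidHom.comp_apply] at h1 h2
      exact h1.symm.trans (this.trans h2)
    · intro y
      obtain ⟨m, hm⟩ := hY y.2
      refine ⟨⟨m, ?_⟩, ?_⟩
      · change f m ∈ Y
        rw [hm]; exact y.2
      · apply Subtype.ext
        have h1 := DFunLike.congr_fun hrY ⟨m, (by change f m ∈ Y; rw [hm]; exact y.2)⟩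
        simp only [AddMonoidHom.comp_apply] at h1
        exact h1.trans hm
  let e := AddEquiv.ofBijective r hbij
  obtain ⟨s, hs⟩ : ∃ s : ↥Y →+ ↥(Y.comap f), s = e.symm.toAddMonoidHom := ⟨_, rfl⟩
  have hrs : r.comp s = AddMonoidHom.id _ := by
    ext y
    rw [hs]
    exact congrArg Subtype.val (e.apply_symm_apply y)
  have hsr : s.comp r = AddMonoidHom.id _ := by
    ext y
    rw [hs]
    exact congrArg Subtype.val (e.symm_apply_apply y)
  have h1 : AMonS.map S r ≫ AMonS.map S s = 𝟙 _ := AMonS_map_comp_eq_id S r s hrs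
  have h2 : AMonS.map S s ≫ AMonS.map S r = 𝟙 _ := AMonS_map_comp_eq_id S s r hsr
  have hall : ∀ T : (Over S)ᵒᵖ, IsIso ((Magnet.attrComap a f Y).app T) := by
    intro T
    rw [isIso_iff_bijective]
    obtain ⟨T, rfl⟩ : ∃ Y, T = op Y := ⟨unop T, rfl⟩
    constructor
    · intro φ φ' hφ
      apply Subtype.ext
      have h3 : (AMonS.map S r ▷ T) ≫ φ.1 = (AMonS.map S r ▷ T) ≫ φ'.1 := by
        have := congrArg Subtype.val hφ
        rw [hr]
        exact this
      have h4 := congrArg (fun x => (AMonS.map S s ▷ T) ≫ x) h3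
      simp only [← Category.assoc, ← comp_whiskerRight, h2, id_whiskerRight, Category.id_comp] at h4
      exact h4
    · intro ψ
      have hψ := ψ.2
      rw [Magnet.MonAct.mem_eqvHom_iff] at hψ
      have hφ : Magnet.MonAct.IsEquivariant
          ((subAct S M (Y.comap f)).prod (Magnet.MonAct.trivial (AMonS S M) T)) a
          ((AMonS.map S s ▷ T) ≫ ψ.1) := by
        unfold Magnet.MonAct.IsEquivariant
        refine ext_of_whiskerRight S f hf (AMonS S ↥(Y.comap f) ⊗ T) X _ _ ?_
        apply Magnet.hom_ext_lift₂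
        intro T' z p
        obtain ⟨b, t, rfl⟩ : ∃ b t, p = lift b t := ⟨p ≫ fst _ _, p ≫ snd _ _, by simp⟩
        rw [lift_whiskerRight_assoc, lift_whiskerRight_assoc, Magnet.MonAct.lift_prod_act_assoc,
          Magnet.MonAct.lift_trivial_act, lift_whiskerLeft_assoc, lift_whiskerRight_assoc,
          lift_whiskerRight_assoc]
        have := hψ T' z (b ≫ AMonS.map S s) t
        rw [Magnet.MonAct.lift_restrict_act] at this
        rw [← this]
        congr 2
        have hcomp : AMonS.map S f ≫ AMonS.map S (Y.comap f).subtype ≫ AMonS.map S s =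
            AMonS.map S Y.subtype := by
          rw [← AMonS.map_comp, ← AMonS.map_comp, ← AddMonoidHom.comp_assoc, ← hrY,
            AddMonoidHom.comp_assoc, hrs, AddMonoidHom.comp_id]
        rw [subAct, subAct, Magnet.MonAct.lift_restrict_act, Magnet.MonAct.lift_regular_act,
          Magnet.MonAct.lift_restrict_act, Magnet.MonAct.lift_regular_act, MonObj.mul_comp,
          Category.assoc, Category.assoc, hcomp]
      refine ⟨⟨(AMonS.map S s ▷ T) ≫ ψ.1, hφ⟩, ?_⟩
      apply Subtype.ext
      change (AMonS.map S ((f.comp (Y.comap f).subtype).codRestrict Y (fun x => x.2)) ▷ T) ≫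
        (AMonS.map S s ▷ T) ≫ ψ.1 = ψ.1
      rw [← hr, ← Category.assoc, ← comp_whiskerRight, h1, id_whiskerRight, Category.id_comp]
  exact NatIso.isIso_of_isIso_app _

end Groth.Agent.Lib.Helper3.MagKey
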