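import Mathlib
set_option autoImplicit false
universe u
open Polynomial

namespace Groth.Agent.Lib.Helper3.PolyKrull

/-- if `X^n ∣ (g * C g₀)^E * h` with `g₀ = g.coeff 0` then a power of `g₀` kills the low coefficients -/
theorem coeff_killed {R : Type u} [CommRing R] (g h : R[X]) (n E : ℕ)
    (hd : (X : R[X]) ^ n ∣ (g * C (g.coeff 0)) ^ E * h) (j : ℕ) (hj : j < n) :
    (g.coeff 0) ^ ((n + 1) * E) * h.coeff j = 0 := by
  obtain ⟨g₀, hg₀⟩ : ∃ g₀, g₀ = g.coeff 0 := ⟨_, rfl⟩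
  rw [← hg₀] at hd ⊢
  -- g = C g₀ - (-(X * r))
  have hg : C g₀ - (-(X * g.divX)) = g := by
    rw [sub_neg_eq_add, add_comm, hg₀]
    exact Polynomial.X_mul_divX_add g
  -- g ∣ (C g₀)^n - (-(X r))^n
  obtain ⟨gs, hgs⟩ : g ∣ (C g₀) ^ n - (-(X * g.divX)) ^ n := by
    have := sub_dvd_pow_sub_pow (C g₀) (-(X * g.divX)) n
    rwa [hg] at this
  have h1 : (X : R[X]) ^ n ∣ g * gs - (C g₀) ^ n := by
    rw [← hgs, sub_sub_cancel_left, neg_pow, mul_pow]
    refine Dvd.dvd.neg_right ?_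
    exact (Dvd.intro _ rfl).mul_left _
  -- X^n ∣ (g gs)^E - (C g₀)^(n E)
  have h2 : (X : R[X]) ^ n ∣ (g * gs) ^ E - ((C g₀) ^ n) ^ E :=
    h1.trans (sub_dvd_pow_sub_pow _ _ E)
  -- X^n ∣ (g gs)^E (C g₀)^E h
  have h3 : (X : R[X]) ^ n ∣ (g * gs) ^ E * ((C g₀) ^ E * h) := by
    have : (g * gs) ^ E * ((C g₀) ^ E * h) = gs ^ E * ((g * C g₀) ^ E * h) := by ring
    rw [this]
    exact hd.mul_left _
  have h4 : (X : R[X]) ^ n ∣ ((C g₀) ^ n) ^ E * ((C g₀) ^ E * h) := by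
    have : ((C g₀) ^ n) ^ E * ((C g₀) ^ E * h) =
        (g * gs) ^ E * ((C g₀) ^ E * h) - ((g * gs) ^ E - ((C g₀) ^ n) ^ E) * ((C g₀) ^ E * h) := by
      ring
    rw [this]
    exact dvd_sub h3 (h2.mul_right _)
  have h5 : ((C g₀) ^ n) ^ E * ((C g₀) ^ E * h) = C (g₀ ^ ((n + 1) * E)) * h := by
    rw [C_pow]; ring
  rw [h5, Polynomial.X_pow_dvd_iff] at h4
  have := h4 j hj
  rwa [Polynomial.coeff_C_mul] at this

/-- `R[X]` localized at `g * C (g.coeff 0)` is `X`-adically separated -/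
theorem eq_zero_of_forall_mem {R : Type u} [CommRing R] (g : R[X]) (L : Type u) [CommRing L]
    [Algebra R[X] L] [IsLocalization.Away (g * C (g.coeff 0)) L] (b : L)
    (hb : ∀ n : ℕ, ∃ b' : L, b = algebraMap R[X] L (X ^ n) * b') : b = 0 := by
  obtain ⟨s, hs⟩ : ∃ s, s = g * C (g.coeff 0) := ⟨_, rfl⟩
  have hL : IsLocalization.Away s L := by rw [hs]; infer_instance
  have hunit : IsUnit (algebraMap R[X] L s) := IsLocalization.Away.algebraMap_isUnit s
  obtain ⟨⟨h, ⟨_, m, rfl⟩⟩, hbm⟩ := IsLocalization.surj (Submonoid.powers s) b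
  simp only at hbm
  -- each coefficient of `h` is killed by a power of `g₀`
  have hkill : ∀ j : ℕ, ∃ N : ℕ, (g.coeff 0) ^ N * h.coeff j = 0 := by
    intro j
    obtain ⟨bn, hbn⟩ := hb (j + 1)
    obtain ⟨⟨an, ⟨_, e, rfl⟩⟩, han⟩ := IsLocalization.surj (Submonoid.powers s) bn
    simp only at han
    have heq : algebraMap R[X] L (h * s ^ e) = algebraMap R[X] L (X ^ (j + 1) * an * s ^ m) := by
      rw [map_mul, ← hbm, map_mul, map_mul, ← han, hbn]
      ring
    obtain ⟨⟨_, e', rfl⟩, hc⟩ := (IsLocalization.eq_iff_exists (Submonoid.powers s) L).mp heq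
    simp only at hc
    have hd : (X : R[X]) ^ (j + 1) ∣ s ^ (e' + e) * h := by
      refine ⟨s ^ e' * an * s ^ m, ?_⟩
      rw [pow_add]
      calc s ^ e' * s ^ e * h = s ^ e' * (h * s ^ e) := by ring
        _ = s ^ e' * (X ^ (j + 1) * an * s ^ m) := hc
        _ = X ^ (j + 1) * (s ^ e' * an * s ^ m) := by ring
    rw [hs] at hd
    exact ⟨_, coeff_killed g h (j + 1) (e' + e) hd j (Nat.lt_succ_self j)⟩
  choose N hN using hkill
  have hzero : C ((g.coeff 0) ^ ((Finset.range (h.natDegree + 1)).sup N)) * h = 0 := by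
    ext j
    rw [Polynomial.coeff_C_mul, Polynomial.coeff_zero]
    by_cases hj : j ≤ h.natDegree
    · have hle : N j ≤ (Finset.range (h.natDegree + 1)).sup N :=
        Finset.le_sup (f := N) (Finset.mem_range.mpr (Nat.lt_succ_of_le hj))
      obtain ⟨d, hd⟩ := Nat.exists_eq_add_of_le hle
      rw [hd, pow_add, mul_comm (g.coeff 0 ^ N j), mul_assoc, hN j, mul_zero]
    · rw [Polynomial.coeff_eq_zero_of_natDegree_lt (not_le.mp hj), mul_zero]
  have hunit0 : IsUnit (algebraMap R[X] L (C (g.coeff 0))) := by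
    rw [hs, map_mul] at hunit
    exact isUnit_of_mul_isUnit_right hunit
  have h0 : algebraMap R[X] L h = 0 := by
    have := congrArg (algebraMap R[X] L) hzero
    rw [map_mul, map_zero, C_pow, map_pow] at this
    exact (hunit0.pow _).mul_right_eq_zero.mp this
  rw [h0] at hbm
  have hum : IsUnit (algebraMap R[X] L (s ^ m)) := by rw [map_pow]; exact hunit.pow m
  exact hum.mul_left_eq_zero.mp hbm

end Groth.Agent.Lib.Helper3.PolyKrull
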