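import Mathlib
import Groth.Agent.Lib.Helper3.PolyKrull
set_option autoImplicit false
universe u
open Polynomial CategoryTheory AlgebraicGeometry Opposite

namespace Groth.Agent.Lib.Helper3.PolyKrull

/-- `Spec` of the structure map to the sections over an affine open of `Spec R` is `fromSpec` -/
theorem SpecMap_algebraMap_eq_fromSpec (R : CommRingCat.{u}) (O : (Spec R).Opens)
    (hO : IsAffineOpen O) :
    Spec.map (CommRingCat.ofHom (algebraMap R Γ(Spec R, O))) = hO.fromSpec := by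
  rw [IsAffineOpen.algebraMap_Spec_obj]
  have h1 := (isAffineOpen_top (Spec R)).map_fromSpec hO (homOfLE le_top).op
  rw [IsAffineOpen.fromSpec_top, Scheme.isoSpec_Spec_inv, ← Spec.map_comp] at h1
  rw [← h1]
  rfl

theorem isLocalization_away_Spec (R : CommRingCat.{u}) (f : R) :
    IsLocalization.Away f Γ(Spec R, PrimeSpectrum.basicOpen f) := inferInstance

/-- two morphisms from an open of `Spec R[X]` into an affine open that agree on all
`X`-nilpotent points agree, when the open is the basic open of `g * C (g.coeff 0)` -/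
theorem agree_on_basicOpen {R : Type u} [CommRing R] {X' : Scheme.{u}}
    (γ₁ γ₂ : Spec (CommRingCat.of R[X]) ⟶ X')
    (H : ∀ (L : CommRingCat.{u}) (ψ : CommRingCat.of R[X] ⟶ L) (n : ℕ), ψ.hom X ^ (n + 1) = 0 →
      Spec.map ψ ≫ γ₁ = Spec.map ψ ≫ γ₂)
    (g : R[X]) (U : X'.Opens) (hU : IsAffineOpen U)
    (h1 : PrimeSpectrum.basicOpen (g * C (g.coeff 0)) ≤ γ₁ ⁻¹ᵁ U)
    (h2 : PrimeSpectrum.basicOpen (g * C (g.coeff 0)) ≤ γ₂ ⁻¹ᵁ U) :
    Scheme.Opens.ι (X := Spec (CommRingCat.of R[X])) (PrimeSpectrum.basicOpen (g * C (g.coeff 0))) ≫ γ₁ =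
      Scheme.Opens.ι (X := Spec (CommRingCat.of R[X])) (PrimeSpectrum.basicOpen (g * C (g.coeff 0))) ≫ γ₂ := by
  obtain ⟨O, hOdef⟩ : ∃ O : (Spec (CommRingCat.of R[X])).Opens,
      O = PrimeSpectrum.basicOpen (g * C (g.coeff 0)) := ⟨_, rfl⟩
  have hO : IsAffineOpen O := by
    rw [hOdef]
    exact IsAffineOpen.Spec_basicOpen (R := CommRingCat.of R[X]) (g * C (g.coeff 0))
  rw [← hOdef] at h1 h2 ⊢
  -- the lifts to `U`
  have hr1 : Set.range (O.ι ≫ γ₁) ⊆ Set.range U.ι := by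
    rintro _ ⟨x, rfl⟩
    rw [Scheme.Opens.range_ι]
    exact h1 x.2
  have hr2 : Set.range (O.ι ≫ γ₂) ⊆ Set.range U.ι := by
    rintro _ ⟨x, rfl⟩
    rw [Scheme.Opens.range_ι]
    exact h2 x.2
  have hf1 := IsOpenImmersion.lift_fac U.ι (O.ι ≫ γ₁) hr1
  have hf2 := IsOpenImmersion.lift_fac U.ι (O.ι ≫ γ₂) hr2
  obtain ⟨f₁, hf₁⟩ : ∃ f, f = IsOpenImmersion.lift U.ι (O.ι ≫ γ₁) hr1 := ⟨_, rfl⟩
  obtain ⟨f₂, hf₂⟩ : ∃ f, f = IsOpenImmersion.lift U.ι (O.ι ≫ γ₂) hr2 := ⟨_, rfl⟩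
  rw [← hf₁] at hf1
  rw [← hf₂] at hf2
  have hUaff : IsAffine U.toScheme := hU
  suffices hh : f₁ = f₂ by rw [← hf1, ← hf2, hh]
  apply ext_of_isAffine
  apply CommRingCat.hom_ext
  apply RingHom.ext
  intro u
  -- transport to the localization `L = Γ(Spec R[X], O)`
  have hinj : Function.Injective O.topIso.hom.hom :=
    (ConcreteCategory.bijective_of_isIso O.topIso.hom).1
  apply hinj
  rw [← sub_eq_zero]
  subst hOdef
  letI instAlg : Algebra R[X]
      Γ(Spec (CommRingCat.of R[X]), PrimeSpectrum.basicOpen (g * C (g.coeff 0))) :=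
    IsAffineOpen.instAlgebraCarrierObjOppositeOpensCarrierCarrierCommRingCatSpecPresheafOpOpens
      (R := CommRingCat.of R[X]) (U := PrimeSpectrum.basicOpen (g * C (g.coeff 0)))
  haveI instLoc : IsLocalization.Away (g * C (g.coeff 0))
      Γ(Spec (CommRingCat.of R[X]), PrimeSpectrum.basicOpen (g * C (g.coeff 0))) :=
    isLocalization_away_Spec (CommRingCat.of R[X]) (g * C (g.coeff 0))
  refine eq_zero_of_forall_mem g
    Γ(Spec (CommRingCat.of R[X]), PrimeSpectrum.basicOpen (g * C (g.coeff 0))) _ ?_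
  intro n
  rcases n with _ | n
  · exact ⟨_, by rw [pow_zero, map_one, one_mul]⟩
  obtain ⟨L, hL⟩ : ∃ L : CommRingCat.{u},
      L = Γ(Spec (CommRingCat.of R[X]), PrimeSpectrum.basicOpen (g * C (g.coeff 0))) := ⟨_, rfl⟩
  obtain ⟨I, hI⟩ : ∃ I : Ideal Γ(Spec (CommRingCat.of R[X]), PrimeSpectrum.basicOpen (g * C (g.coeff 0))),
      I = Ideal.span {algebraMap R[X] Γ(Spec (CommRingCat.of R[X]), PrimeSpectrum.basicOpen (g * C (g.coeff 0)))
        (X ^ (n + 1))} := ⟨_, rfl⟩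
  let mk : Γ(Spec (CommRingCat.of R[X]), PrimeSpectrum.basicOpen (g * C (g.coeff 0))) ⟶
      CommRingCat.of (Γ(Spec (CommRingCat.of R[X]), PrimeSpectrum.basicOpen (g * C (g.coeff 0))) ⧸ I) :=
    CommRingCat.ofHom (Ideal.Quotient.mk I)
  let alg : CommRingCat.of R[X] ⟶
      Γ(Spec (CommRingCat.of R[X]), PrimeSpectrum.basicOpen (g * C (g.coeff 0))) :=
    CommRingCat.ofHom (algebraMap R[X] _)
  have hψ : (alg ≫ mk).hom X ^ (n + 1) = 0 := by
    change (Ideal.Quotient.mk I) (algebraMap R[X] _ X) ^ (n + 1) = 0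
    rw [← map_pow, ← map_pow, Ideal.Quotient.eq_zero_iff_mem, hI]
    exact Ideal.subset_span rfl
  have halg : Spec.map alg = hO.fromSpec := SpecMap_algebraMap_eq_fromSpec _ _ hO
  have hH2 : (Spec.map mk ≫ hO.isoSpec.inv ≫ f₁) ≫ U.ι =
      (Spec.map mk ≫ hO.isoSpec.inv ≫ f₂) ≫ U.ι := by
    simp only [Category.assoc, hf1, hf2]
    rw [IsAffineOpen.isoSpec_inv_ι_assoc, IsAffineOpen.isoSpec_inv_ι_assoc, ← halg,
      ← Spec.map_comp_assoc, ← Spec.map_comp_assoc]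
    exact H _ (alg ≫ mk) n hψ
  have hH := (cancel_mono U.ι).mp hH2
  have hH' := congrArg (fun φ => φ.appTop.hom u) hH
  simp only [Scheme.Hom.comp_appTop, CommRingCat.hom_comp, RingHom.comp_apply] at hH'
  rw [IsAffineOpen.isoSpec_inv_appTop] at hH'
  simp only [CommRingCat.hom_comp, RingHom.comp_apply] at hH'
  have hnat := fun b => congrArg (fun φ => φ.hom b) (Scheme.ΓSpecIso_inv_naturality mk)
  simp only [CommRingCat.hom_comp, RingHom.comp_apply] at hnat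
  rw [← hnat, ← hnat] at hH'
  have hinj2 : Function.Injective (Scheme.ΓSpecIso (CommRingCat.of
      (Γ(Spec (CommRingCat.of R[X]), PrimeSpectrum.basicOpen (g * C (g.coeff 0))) ⧸ I))).inv.hom :=
    (ConcreteCategory.bijective_of_isIso (Scheme.ΓSpecIso _).inv).1
  have hmk := hinj2 hH'
  have hmem : (Scheme.Opens.topIso _).hom.hom (f₁.appTop.hom u) -
      (Scheme.Opens.topIso _).hom.hom (f₂.appTop.hom u) ∈ I := by
    rw [← Ideal.Quotient.eq_zero_iff_mem, map_sub, sub_eq_zero]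
    exact hmk
  rw [hI, Ideal.mem_span_singleton'] at hmem
  obtain ⟨b', hb'⟩ := hmem
  exact ⟨b', hb'.symm.trans (mul_comm _ _)⟩

/-- two morphisms out of `Spec R[X]` that agree on all `X`-nilpotent points agree on an open
neighbourhood of every point of the zero section `V(X)` -/
theorem exists_open_agree {R : Type u} [CommRing R] {X' : Scheme.{u}}
    (γ₁ γ₂ : Spec (CommRingCat.of R[X]) ⟶ X')
    (H : ∀ (L : CommRingCat.{u}) (ψ : CommRingCat.of R[X] ⟶ L) (n : ℕ), ψ.hom X ^ (n + 1) = 0 →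
      Spec.map ψ ≫ γ₁ = Spec.map ψ ≫ γ₂)
    (p : Spec (CommRingCat.of R[X])) (hp : (X : R[X]) ∈ PrimeSpectrum.asIdeal (R := R[X]) p)
    (hγ : γ₁ p = γ₂ p) :
    ∃ O : (Spec (CommRingCat.of R[X])).Opens, p ∈ O ∧ O.ι ≫ γ₁ = O.ι ≫ γ₂ := by
  obtain ⟨_, ⟨U, hU, rfl⟩, hxU, -⟩ :=
    X'.isBasis_affineOpens.exists_subset_of_mem_open (Set.mem_univ (γ₁ p)) isOpen_univ
  have hpW : p ∈ (γ₁ ⁻¹ᵁ U ⊓ γ₂ ⁻¹ᵁ U : (Spec (CommRingCat.of R[X])).Opens) :=
    ⟨hxU, by change γ₂ p ∈ U; rw [← hγ]; exact hxU⟩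
  obtain ⟨_, ⟨_, ⟨⟨g, rfl⟩, rfl⟩⟩, hpg, hgW⟩ :=
    (PrimeSpectrum.isBasis_basic_opens (R := R[X])).exists_subset_of_mem_open
    hpW (γ₁ ⁻¹ᵁ U ⊓ γ₂ ⁻¹ᵁ U : (Spec (CommRingCat.of R[X])).Opens).isOpen
  have hgp : g ∉ PrimeSpectrum.asIdeal (R := R[X]) p := hpg
  have hg0 : C (g.coeff 0) ∉ PrimeSpectrum.asIdeal (R := R[X]) p := by
    intro h0
    apply hgp
    rw [← Polynomial.X_mul_divX_add g]
    exact Ideal.add_mem _ (Ideal.mul_mem_right _ _ hp) h0
  have hmem : g * C (g.coeff 0) ∉ PrimeSpectrum.asIdeal (R := R[X]) p := by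
    intro h
    rcases (PrimeSpectrum.isPrime (R := R[X]) p).mem_or_mem h with h | h
    · exact hgp h
    · exact hg0 h
  have hle : PrimeSpectrum.basicOpen (g * C (g.coeff 0)) ≤ PrimeSpectrum.basicOpen g :=
    PrimeSpectrum.basicOpen_mul_le_left g _
  refine ⟨PrimeSpectrum.basicOpen (g * C (g.coeff 0)), hmem, ?_⟩
  refine agree_on_basicOpen γ₁ γ₂ H g U hU ?_ ?_
  · exact fun x hx => (hgW (hle hx)).1
  · exact fun x hx => (hgW (hle hx)).2

end Groth.Agent.Lib.Helper3.PolyKrull
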