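import Groth.Agent.Lib.Helper3.MagCoord
import Groth.Agent.Lib.Helper3.PolyKrull2
set_option autoImplicit false
universe u
open CategoryTheory CategoryTheory.Limits MonoidalCategory CartesianMonoidalCategory MonObj AlgebraicGeometry Opposite
open Magnet TensorProduct Polynomial

namespace Groth.Agent.Lib.Helper3.MagPts

/-- version of `PolyKrull.exists_open_agree` without the pointwise hypothesis -/
theorem exists_open_agree' {R : Type u} [CommRing R] {X' : Scheme.{u}}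
    (γ₁ γ₂ : Spec (CommRingCat.of R[X]) ⟶ X')
    (H : ∀ (L : CommRingCat.{u}) (ψ : CommRingCat.of R[X] ⟶ L) (n : ℕ), ψ.hom X ^ (n + 1) = 0 →
      Spec.map ψ ≫ γ₁ = Spec.map ψ ≫ γ₂)
    (p : Spec (CommRingCat.of R[X])) (hp : (X : R[X]) ∈ PrimeSpectrum.asIdeal (R := R[X]) p) :
    ∃ O : (Spec (CommRingCat.of R[X])).Opens, p ∈ O ∧ O.ι ≫ γ₁ = O.ι ≫ γ₂ := by
  refine PolyKrull.exists_open_agree γ₁ γ₂ H p hp ?_
  let I : Ideal R[X] := PrimeSpectrum.asIdeal (R := R[X]) p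
  let ψ : CommRingCat.of R[X] ⟶ CommRingCat.of (R[X] ⧸ I) :=
    CommRingCat.ofHom (Ideal.Quotient.mk I)
  have hψ := H _ ψ 0 (by
    rw [zero_add, pow_one]
    exact Ideal.Quotient.eq_zero_iff_mem.mpr hp)
  have hr : p ∈ Set.range (Spec.map ψ) := by
    have := _root_.range_comap_of_surjective (R[X] ⧸ I) (Ideal.Quotient.mk I)
      Ideal.Quotient.mk_surjective
    change p ∈ Set.range (PrimeSpectrum.comap (Ideal.Quotient.mk I))
    rw [this, Ideal.mk_ker]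
    exact (PrimeSpectrum.mem_zeroLocus (R := R[X]) p _).mpr (le_refl I)
  obtain ⟨z, hz⟩ := hr
  have := congrArg (fun g => g z) hψ
  simp only [Scheme.Hom.comp_apply] at this
  rw [hz] at this
  exact this

variable {S : Scheme.{u}} {X Y : Over S}

/-- the coordinate function on `A¹ × Y` -/
noncomputable def tauY (Y : Over S) : Γ((AMonS S ↥N1 ⊗ Y).left, ⊤) :=
  chi (fst (AMonS S ↥N1) Y) g1

variable (γ₁ γ₂ : AMonS S ↥N1 ⊗ Y ⟶ X)
  (h : ∀ (T : Over S) (m : T ⟶ AMonS S ↥N1) (t : T ⟶ Y),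
    (∃ n : ℕ, ∀ m' : T ⟶ AMonS S ↥N1, m ^ (n + 1) * m' = m ^ (n + 1)) →
    lift m t ≫ γ₁ = lift m t ≫ γ₂)

include h in
/-- Lemma N': the two maps agree on every point with nilpotent coordinate -/
theorem comp_eq_of_nilpotent {Z : Scheme.{u}} (g : Z ⟶ (AMonS S ↥N1 ⊗ Y).left) (n : ℕ)
    (hg : g.appTop (tauY Y) ^ (n + 1) = 0) : g ≫ γ₁.left = g ≫ γ₂.left := by
  let Z' : Over S := Over.mk (g ≫ (AMonS S ↥N1 ⊗ Y).hom)
  let p : Z' ⟶ AMonS S ↥N1 ⊗ Y := Over.homMk g rfl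
  have hp : lift (p ≫ fst _ _) (p ≫ snd _ _) = p := by
    apply CartesianMonoidalCategory.hom_ext <;> simp
  have := h Z' (p ≫ fst _ _) (p ≫ snd _ _) ⟨n, absorbing_of_nilpotent _ n (by
    rw [chi_comp]
    exact hg)⟩
  rw [hp] at this
  exact congrArg (fun q => q.left) this


theorem whiskerLeft_appTop_tauY {T : Over S} (v : T ⟶ Y) :
    (AMonS S ↥N1 ◁ v).left.appTop (tauY Y) = tauY T := by
  unfold tauY
  rw [← chi_comp, whiskerLeft_fst]

include h in
theorem exists_open_agree_chart (R : Type u) [CommRing R] (u : Spec (CommRingCat.of R) ⟶ Y.left)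
    [IsOpenImmersion u] (p : (AMonS S ↥N1 ⊗ Y).left)
    (hpu : (snd (AMonS S ↥N1) Y).left p ∈ Set.range u)
    (hp : p ∉ (AMonS S ↥N1 ⊗ Y).left.basicOpen (tauY Y)) :
    ∃ O : (AMonS S ↥N1 ⊗ Y).left.Opens, p ∈ O ∧ O.ι ≫ γ₁.left = O.ι ≫ γ₂.left := by
  let f := u ≫ Y.hom
  let ū : TT R f ⟶ Y := Over.homMk u rfl
  let j := (AMonS S ↥N1 ◁ ū).left
  have hj : IsOpenImmersion j :=
    MorphismProperty.of_isPullback (P := @IsOpenImmersion)
      (SchIm.isPullback_whiskerLeft (AMonS S ↥N1) (TT R f) Y ū).flip (inferInstanceAs (IsOpenImmersion u))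
  have hpj : p ∈ Set.range j := by
    rw [MagDense.range_whiskerLeft]
    exact hpu
  obtain ⟨p', hp'⟩ := hpj
  let θ := thetaIso R f
  let G : Spec (CommRingCat.of R[X]) ⟶ (AMonS S ↥N1 ⊗ Y).left := θ.hom ≫ j
  have hGτ : G.appTop (tauY Y) = xx R f := by
    rw [comp_appTop_apply, whiskerLeft_appTop_tauY]
    exact theta'_appTop_tauT R f
  have hGp : G (θ.inv p') = p := by
    rw [Scheme.Hom.comp_apply]
    have : θ.hom (θ.inv p') = p' := by
      rw [← Scheme.Hom.comp_apply, θ.inv_hom_id]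
      rfl
    rw [this, hp']
  have hX : (Polynomial.X : R[X]) ∈ PrimeSpectrum.asIdeal (R := R[X]) (θ.inv p') := by
    by_contra hX
    apply hp
    have h1 : θ.inv p' ∈ G ⁻¹ᵁ ((AMonS S ↥N1 ⊗ Y).left.basicOpen (tauY Y)) := by
      rw [Scheme.preimage_basicOpen_top, hGτ]
      unfold xx
      rw [basicOpen_eq_of_affine]
      exact hX
    rw [← hGp]
    exact h1
  obtain ⟨O, hpO, hO⟩ := exists_open_agree' (G ≫ γ₁.left) (G ≫ γ₂.left) (by
    intro L ψ n hψ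
    rw [← Category.assoc, ← Category.assoc]
    refine comp_eq_of_nilpotent γ₁ γ₂ h (Spec.map ψ ≫ G) n ?_
    rw [comp_appTop_apply, hGτ]
    unfold xx
    rw [appTop_SpecMap_inv, ← map_pow]
    change (Scheme.ΓSpecIso L).inv (ψ.hom Polynomial.X ^ (n + 1)) = 0
    rw [hψ, map_zero]) (θ.inv p') hX
  have hG : IsOpenImmersion G := inferInstance
  refine ⟨G ''ᵁ O, ?_, ?_⟩
  · rw [← hGp]
    exact ⟨_, hpO, rfl⟩
  · rw [← Scheme.Hom.isoImage_inv_ι G O]
    simp only [Category.assoc]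
    rw [hO]

end Groth.Agent.Lib.Helper3.MagPts
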