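import Groth.Agent.Lib.Helper3.MagKey3
import Groth.Agent.Lib.Helper25.GaPts
set_option autoImplicit false
universe u
open CategoryTheory CategoryTheory.Limits MonoidalCategory CartesianMonoidalCategory MonObj AlgebraicGeometry Opposite
open Magnet TensorProduct

namespace Groth.Agent.Lib.Helper3.MagPts

theorem appTop_SpecMap_inv {A B : CommRingCat.{u}} (φ : A ⟶ B) (a : A) :
    (Spec.map φ).appTop ((Scheme.ΓSpecIso A).inv a) = (Scheme.ΓSpecIso B).inv (φ a) := by
  have := congrArg (fun ψ => ψ.hom a) (Scheme.ΓSpecIso_inv_naturality φ)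
  simp only [CommRingCat.hom_comp, RingHom.comp_apply] at this
  exact this.symm

theorem comp_appTop_apply {X Y Z : Scheme.{u}} (f : X ⟶ Y) (g : Y ⟶ Z) (a : Γ(Z, ⊤)) :
    (f ≫ g).appTop a = f.appTop (g.appTop a) := by
  rw [Scheme.Hom.comp_appTop]; rfl

/-- the comultiplication on grouplike functions -/
theorem mu_grouplike {R A : Type u} [CommRing R] [CommRing A] [Bialgebra R A] (a : A)
    (ha : Coalgebra.comul (R := R) a = a ⊗ₜ[R] a) :
    μ[(Spec (.of A)).asOver (Spec (.of R))].left.appTop ((Scheme.ΓSpecIso (.of A)).inv a) =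
      (fst ((Spec (.of A)).asOver (Spec (.of R))) ((Spec (.of A)).asOver (Spec (.of R)))).left.appTop
        ((Scheme.ΓSpecIso (.of A)).inv a) *
      (snd ((Spec (.of A)).asOver (Spec (.of R))) ((Spec (.of A)).asOver (Spec (.of R)))).left.appTop
        ((Scheme.ΓSpecIso (.of A)).inv a) := by
  have h1 : (fst ((Spec (.of A)).asOver (Spec (.of R))) ((Spec (.of A)).asOver (Spec (.of R)))).left =
      (pullbackSpecIso R A A).hom ≫
        Spec.map (CommRingCat.ofHom Algebra.TensorProduct.includeLeftRingHom) :=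
    (pullbackSpecIso_hom_fst ..).symm
  have h2 : (snd ((Spec (.of A)).asOver (Spec (.of R))) ((Spec (.of A)).asOver (Spec (.of R)))).left =
      (pullbackSpecIso R A A).hom ≫
        Spec.map (CommRingCat.ofHom (R := A) (S := A ⊗[R] A)
          (RingHomClass.toRingHom Algebra.TensorProduct.includeRight)) :=
    (pullbackSpecIso_hom_snd ..).symm
  have e0 : μ[(Spec (.of A)).asOver (Spec (.of R))].left.appTop ((Scheme.ΓSpecIso (.of A)).inv a) =
      (pullbackSpecIso R A A).hom.appTop ((Spec.map (CommRingCat.ofHom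
        (Bialgebra.comulAlgHom R A).toRingHom)).appTop ((Scheme.ΓSpecIso (.of A)).inv a)) :=
    comp_appTop_apply _ _ _
  have e1 := (congrArg (fun f => f.appTop ((Scheme.ΓSpecIso (.of A)).inv a)) h1).trans
    (comp_appTop_apply _ _ _)
  have e2 := (congrArg (fun f => f.appTop ((Scheme.ΓSpecIso (.of A)).inv a)) h2).trans
    (comp_appTop_apply _ _ _)
  refine e0.trans ?_
  refine Eq.trans ?_ (congrArg₂ (· * ·) e1 e2).symm
  rw [← map_mul]
  congr 1
  rw [appTop_SpecMap_inv]
  erw [appTop_SpecMap_inv, appTop_SpecMap_inv]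
  rw [← map_mul]
  congr 1
  change Coalgebra.comul (R := R) a = _
  rw [ha]
  simp


variable {S : Scheme.{u}} {M' : Type} [AddCommMonoid M']

/-- the monoid algebra `ℤ[M']` -/
abbrev BB (M' : Type) [AddCommMonoid M'] : Type u := MonoidAlgebra (ULift.{u} ℤ) (Multiplicative M')

/-- the coordinate function `X^x` on `Spec ℤ[M']` -/
noncomputable def coord (x : M') : Γ((AMon (ULift.{u} ℤ) M').left, ⊤) :=
  (Scheme.ΓSpecIso (CommRingCat.of (BB.{u} M'))).inv
    (MonoidAlgebra.single (Multiplicative.ofAdd x) 1)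

/-- the structure map `S → Spec ℤ` -/
noncomputable abbrev tS (S : Scheme.{u}) : S ⟶ Spec (CommRingCat.of (ULift.{u} ℤ)) :=
  Limits.IsTerminal.from specULiftZIsTerminal S

/-- the first projection of `A(M')_S` to `Spec ℤ[M']` -/
noncomputable abbrev pr1 (S : Scheme.{u}) (M' : Type) [AddCommMonoid M'] :
    (AMonS S M').left ⟶ (AMon (ULift.{u} ℤ) M').left :=
  pullback.fst (AMon (ULift.{u} ℤ) M').hom (tS S)

/-- the character of a point of `A(M')_S`: the pull back of the coordinate functions -/
noncomputable def chi {T : Over S} (m : T ⟶ AMonS S M') (x : M') : Γ(T.left, ⊤) :=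
  (m.left ≫ pr1 S M').appTop (coord x)

theorem chi_comp {T T' : Over S} (t : T' ⟶ T) (m : T ⟶ AMonS S M') (x : M') :
    chi (t ≫ m) x = t.left.appTop (chi m x) := by
  unfold chi
  rw [Over.comp_left, Category.assoc, Scheme.Hom.comp_appTop]
  rfl

theorem coord_zero : coord.{u} (0 : M') = 1 := by
  unfold coord
  rw [ofAdd_zero, ← MonoidAlgebra.one_def, map_one]
  rfl

theorem coord_add (x y : M') : coord.{u} (x + y) = coord x * coord y := by
  unfold coord
  erw [← map_mul]
  rw [MonoidAlgebra.single_mul_single, ofAdd_add, _root_.mul_one]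
  rfl

theorem chi_zero {T : Over S} (m : T ⟶ AMonS S M') : chi m 0 = 1 := by
  unfold chi
  rw [coord_zero, map_one]

theorem chi_add {T : Over S} (m : T ⟶ AMonS S M') (x y : M') :
    chi m (x + y) = chi m x * chi m y := by
  unfold chi
  rw [coord_add, map_mul]

theorem mu_coord (x : M') :
    μ[AMon (ULift.{u} ℤ) M'].left.appTop (coord x) =
      (fst (AMon (ULift.{u} ℤ) M') (AMon (ULift.{u} ℤ) M')).left.appTop (coord x) *
      (snd (AMon (ULift.{u} ℤ) M') (AMon (ULift.{u} ℤ) M')).left.appTop (coord x) := by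
  refine mu_grouplike (R := ULift.{u} ℤ) (A := BB.{u} M')
    (MonoidAlgebra.single (Multiplicative.ofAdd x) 1) ?_
  rw [MonoidAlgebra.comul_single]
  simp

theorem chi_mul {T : Over S} (m m' : T ⟶ AMonS S M') (x : M') :
    chi (m * m') x = chi m x * chi m' x := by
  set q : T.left ⟶ ((AMon (ULift.{u} ℤ) M') ⊗ (AMon (ULift.{u} ℤ) M')).left :=
    (lift m m').left ≫ (Functor.LaxMonoidal.μ (Over.pullback (tS S))
      (AMon (ULift.{u} ℤ) M') (AMon (ULift.{u} ℤ) M')).left ≫
      pullback.fst ((AMon (ULift.{u} ℤ) M') ⊗ (AMon (ULift.{u} ℤ) M')).hom (tS S) with hq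
  have hμ : (m * m').left ≫ pr1 S M' = q ≫ (μ[AMon (ULift.{u} ℤ) M']).left := by
    rw [Hom.mul_def, Over.comp_left, Functor.obj.μ_def, Over.comp_left, hq]
    simp only [Category.assoc]
    congr 2
    exact SchIm.pullback_map_left_fst (tS S) _
  have hf : m.left ≫ pr1 S M' =
      q ≫ (fst (AMon (ULift.{u} ℤ) M') (AMon (ULift.{u} ℤ) M')).left := by
    rw [hq]
    simp only [Category.assoc]
    rw [← SchIm.pullback_map_left_fst (tS S), ← Over.comp_left_assoc, ← Over.comp_left_assoc]
    congr 2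
    rw [Category.assoc]
    erw [Functor.Monoidal.μ_fst (Over.pullback (tS S))]
    exact (lift_fst m m').symm
  have hs : m'.left ≫ pr1 S M' =
      q ≫ (snd (AMon (ULift.{u} ℤ) M') (AMon (ULift.{u} ℤ) M')).left := by
    rw [hq]
    simp only [Category.assoc]
    rw [← SchIm.pullback_map_left_fst (tS S), ← Over.comp_left_assoc, ← Over.comp_left_assoc]
    congr 2
    rw [Category.assoc]
    erw [Functor.Monoidal.μ_snd (Over.pullback (tS S))]
    exact (lift_snd m m').symm
  clear_value q
  unfold chi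
  rw [hμ, hf, hs, comp_appTop_apply, comp_appTop_apply, comp_appTop_apply, ← map_mul, mu_coord]


open Groth.Agent.Lib.Helper25.GaPts in
theorem chi_injective {T : Over S} (m m' : T ⟶ AMonS S M') (h : ∀ x, chi m x = chi m' x) :
    m = m' := by
  apply Over.OverMorphism.ext
  apply pullback.hom_ext
  · have hx := eq_toSpecΓ_map (R := CommRingCat.of (BB.{u} M')) (m.left ≫ pullback.fst _ _)
    have hy := eq_toSpecΓ_map (R := CommRingCat.of (BB.{u} M')) (m'.left ≫ pullback.fst _ _)
    refine hx.trans (Eq.trans ?_ hy.symm)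
    congr 2
    apply CommRingCat.hom_ext
    apply MonoidAlgebra.ringHom_ext'
    · exact ringHom_ulift_ext _ _
    · apply MonoidHom.ext
      intro a
      exact h a.toAdd
  · have hx := Over.w m
    have hy := Over.w m'
    simp only [Over.pullback_obj_hom] at hx hy
    rw [hx, hy]

/-- the ring hom `ℤ[M'] → B` attached to a monoid hom `M' → (B, ·)` -/
noncomputable def liftHom {B : Type u} [CommRing B] (φ : Multiplicative M' →* B) :
    BB.{u} M' →+* B :=
  letI := Groth.Agent.Lib.Helper25.GaPts.zAlg B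
  (MonoidAlgebra.lift (ULift.{u} ℤ) B (Multiplicative M') φ).toRingHom

theorem liftHom_single {B : Type u} [CommRing B] (φ : Multiplicative M' →* B) (a : Multiplicative M') :
    liftHom φ (MonoidAlgebra.single a 1) = φ a := by
  let _ := Groth.Agent.Lib.Helper25.GaPts.zAlg B
  unfold liftHom
  change (MonoidAlgebra.lift (ULift.{u} ℤ) B (Multiplicative M') φ) (MonoidAlgebra.single a 1) = φ a
  rw [MonoidAlgebra.lift_single]
  exact @one_smul (ULift.{u} ℤ) B _
    (@Algebra.toModule _ _ _ _ (Groth.Agent.Lib.Helper25.GaPts.zAlg B)).toMulAction (φ a)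

/-- the point of `A(M')` with prescribed character -/
noncomputable def ptAux {T : Over S} (φ : Multiplicative M' →* Γ(T.left, ⊤)) :
    T.left ⟶ (AMon (ULift.{u} ℤ) M').left :=
  T.left.toSpecΓ ≫ Spec.map (CommRingCat.ofHom (liftHom φ))

noncomputable def pt {T : Over S} (φ : Multiplicative M' →* Γ(T.left, ⊤)) : T ⟶ AMonS S M' :=
  Over.homMk (pullback.lift (ptAux φ) T.hom (specULiftZIsTerminal.hom_ext _ _))
    (pullback.lift_snd _ _ _)

theorem pt_left_fst {T : Over S} (φ : Multiplicative M' →* Γ(T.left, ⊤)) :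
    (pt φ).left ≫ pr1 S M' = ptAux φ := pullback.lift_fst _ _ _

theorem chi_pt {T : Over S} (φ : Multiplicative M' →* Γ(T.left, ⊤)) (x : M') :
    chi (pt φ) x = φ (Multiplicative.ofAdd x) := by
  unfold chi
  rw [pt_left_fst]
  unfold ptAux coord
  exact (Groth.Agent.Lib.Helper25.GaPts.toSpecΓ_map_appTop (CommRingCat.ofHom (liftHom φ)) _).trans
    (liftHom_single φ _)

/-- the character of a point as a monoid hom -/
noncomputable def chiHom {T : Over S} (m : T ⟶ AMonS S M') : Multiplicative M' →* Γ(T.left, ⊤) where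
  toFun a := chi m a.toAdd
  map_one' := chi_zero m
  map_mul' a b := chi_add m a.toAdd b.toAdd

theorem pt_chiHom {T : Over S} (m : T ⟶ AMonS S M') : pt (chiHom m) = m :=
  chi_injective _ _ fun x => chi_pt _ x

theorem chi_pow {T : Over S} (m : T ⟶ AMonS S M') (n : ℕ) (x : M') :
    chi (m ^ (n + 1)) x = chi m x ^ (n + 1) := by
  induction n with
  | zero => rw [zero_add, pow_one, pow_one]
  | succ n ih => rw [pow_succ, chi_mul, ih, ← pow_succ]

theorem chi_nsmul {T : Over S} (m : T ⟶ AMonS S M') (n : ℕ) (x : M') :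
    chi m (n • x) = chi m x ^ n := by
  induction n with
  | zero => rw [zero_smul, chi_zero, pow_zero]
  | succ n ih => rw [succ_nsmul, chi_add, ih, ← pow_succ]

variable {N' : Type} [AddCommMonoid N']

theorem chi_map {T : Over S} (f : N' →+ M') (m : T ⟶ AMonS S M') (x : N') :
    chi (m ≫ AMonS.map S f) x = chi m (f x) := by
  unfold chi
  have h1 : (AMonS.map S f).left ≫ pr1 S N' = pr1 S M' ≫ (AMon.map (ULift.{u} ℤ) f).left :=
    SchIm.pullback_map_left_fst (tS S) _
  rw [Over.comp_left, Category.assoc, h1, ← Category.assoc, comp_appTop_apply]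
  congr 1
  rw [AMon.map_left]
  unfold coord
  refine (appTop_SpecMap_inv _ _).trans ?_
  congr 1
  simp

end Groth.Agent.Lib.Helper3.MagPts
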