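import Groth.Agent.Lib.Helper3.MagPts
set_option autoImplicit false
universe u
open CategoryTheory CategoryTheory.Limits MonoidalCategory CartesianMonoidalCategory MonObj AlgebraicGeometry Opposite
open Magnet TensorProduct

namespace Groth.Agent.Lib.Helper3.MagPts

variable {S : Scheme.{u}}

/-- the magnet `ℕ ⊆ ℤ` -/
abbrev N1 : AddSubmonoid ℤ := AddSubmonoid.multiples (1 : ℤ)

/-- the generator of `ℕ` -/
def g1 : ↥N1 := ⟨1, AddSubmonoid.mem_multiples 1⟩

theorem exists_nsmul_g1 (x : ↥N1) : ∃ k : ℕ, x = k • g1 := by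
  obtain ⟨k, hk⟩ := (AddSubmonoid.mem_multiples_iff _ _).mp x.2
  refine ⟨k, Subtype.ext ?_⟩
  have : ((k • g1 : ↥N1) : ℤ) = k • (1 : ℤ) := by
    rw [← AddSubmonoid.coe_subtype, map_nsmul]
    rfl
  rw [this]
  exact hk.symm

/-- Lemma N: a point whose coordinate is nilpotent has an absorbing power -/
theorem absorbing_of_nilpotent {T : Over S} (m : T ⟶ AMonS S ↥N1) (n : ℕ)
    (hn : chi m g1 ^ (n + 1) = 0) (m' : T ⟶ AMonS S ↥N1) :
    m ^ (n + 1) * m' = m ^ (n + 1) := by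
  apply chi_injective
  intro x
  rw [chi_mul, chi_pow]
  obtain ⟨k, rfl⟩ := exists_nsmul_g1 x
  rcases k with _ | k
  · rw [zero_smul, chi_zero, chi_zero, one_pow, _root_.mul_one]
  · rw [chi_nsmul, ← pow_mul, _root_.mul_comm (k + 1) (n + 1), pow_mul, hn, zero_pow (by omega),
      zero_mul]

/-- a point of `A¹` with invertible coordinate comes from `𝔾_m` -/
theorem exists_lift_of_isUnit {T : Over S} (m : T ⟶ AMonS S ↥N1) (hu : IsUnit (chi m g1)) :
    ∃ d : T ⟶ AMonS S ℤ, d ≫ AMonS.map S N1.subtype = m := by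
  let φ : Multiplicative ℤ →* Γ(T.left, ⊤) :=
    (Units.coeHom _).comp (zpowersHom _ hu.unit)
  refine ⟨pt φ, ?_⟩
  apply chi_injective
  intro x
  rw [chi_map, chi_pt]
  obtain ⟨k, rfl⟩ := exists_nsmul_g1 x
  rw [chi_nsmul]
  have : (N1.subtype (k • g1) : ℤ) = (k : ℤ) := by
    rw [map_nsmul]
    change k • (1 : ℤ) = _
    simp
  rw [this]
  change ((zpowersHom _ hu.unit (Multiplicative.ofAdd (k : ℤ)) : (Γ(T.left, ⊤))ˣ) : Γ(T.left, ⊤)) = _
  rw [zpowersHom_apply, toAdd_ofAdd, zpow_natCast, Units.val_pow_eq_pow_val, IsUnit.unit_spec]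

/-- group actions are cancellative -/
theorem act_cancel {G X : Over S} [GrpObj G] (a : AlgGrp.Action G X) {T : Over S} (d : T ⟶ G)
    (x x' : T ⟶ X) (h : lift d x ≫ a.act = lift d x' ≫ a.act) : x = x' := by
  have h1 := (MonAct.ofAction a).lift_mul_act d⁻¹ d x
  have h2 := (MonAct.ofAction a).lift_mul_act d⁻¹ d x'
  rw [inv_mul_cancel, MonAct.lift_one_act] at h1 h2
  rw [h1, h2]
  change lift d⁻¹ (lift d x ≫ a.act) ≫ a.act = lift d⁻¹ (lift d x' ≫ a.act) ≫ a.act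
  rw [h]

end Groth.Agent.Lib.Helper3.MagPts
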