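import Groth.Agent.Lib.Helper3.MagKey2
import Groth.Statements.S18232
set_option autoImplicit false
universe u
open CategoryTheory CategoryTheory.Limits MonoidalCategory CartesianMonoidalCategory MonObj AlgebraicGeometry Opposite
open Magnet

namespace Groth.Agent.Lib.Helper3.MagUnr

/-- in a pushout of commutative rings along a surjection, the kernel of the pushed-out map
is generated by the image of the kernel -/
theorem ker_inl_le_of_isPushout {A B C P : CommRingCat.{u}} (f : A ⟶ B) (g : A ⟶ C)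
    (inl : B ⟶ P) (inr : C ⟶ P) (h : IsPushout f g inl inr) (hg : Function.Surjective g.hom) :
    RingHom.ker inl.hom ≤ Ideal.map f.hom (RingHom.ker g.hom) := by
  set K := Ideal.map f.hom (RingHom.ker g.hom) with hK
  -- the quotient `B ⧸ K` receives `C`
  let mk : B ⟶ CommRingCat.of (B ⧸ K) := CommRingCat.ofHom (Ideal.Quotient.mk K)
  have hker : ∀ a, g.hom a = 0 → (Ideal.Quotient.mk K) (f.hom a) = 0 := by
    intro a ha
    rw [Ideal.Quotient.eq_zero_iff_mem]
    exact Ideal.mem_map_of_mem _ ha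
  let c0 : { φ : A →+* (B ⧸ K) // RingHom.ker g.hom ≤ RingHom.ker φ } :=
    ⟨(Ideal.Quotient.mk K).comp f.hom, fun a ha => hker a ha⟩
  let c : C ⟶ CommRingCat.of (B ⧸ K) := CommRingCat.ofHom
    (RingHom.liftOfSurjective g.hom hg c0)
  have hc : g ≫ c = f ≫ mk := by
    apply CommRingCat.hom_ext
    apply RingHom.ext
    intro a
    exact RingHom.liftOfSurjective_comp_apply g.hom hg c0 a
  let d := h.desc mk c hc.symm
  have hd : inl ≫ d = mk := h.inl_desc _ _ _
  intro b hb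
  have : mk.hom b = 0 := by
    rw [← hd]
    change d.hom (inl.hom b) = 0
    rw [RingHom.mem_ker.mp hb, map_zero]
  exact Ideal.Quotient.eq_zero_iff_mem.mp this

/-- base change (between affine schemes) of a square-zero closed immersion is nilpotent -/
theorem isNilpotent_ker_of_isPullback {P₀ P T₀ T : Scheme.{u}} [IsAffine P] [IsAffine T₀]
    [IsAffine T] {i : P₀ ⟶ P} {q₀ : P₀ ⟶ T₀} {q : P ⟶ T} {j : T₀ ⟶ T} (h : IsPullback i q₀ q j)
    (hj : Function.Surjective j.appTop.hom) (hj2 : RingHom.ker j.appTop.hom ^ 2 = ⊥) :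
    IsNilpotent i.ker := by
  have hpo := isPushout_appTop_of_isPullback h
  have hle := ker_inl_le_of_isPushout _ _ _ _ hpo hj
  refine ⟨2, ?_⟩
  change i.ker ^ 2 = ⊥
  refine le_antisymm ?_ bot_le
  apply Scheme.IdealSheafData.le_of_isAffine
  rw [Scheme.IdealSheafData.ideal_pow, Scheme.ker_of_isAffine]
  simp only [Pi.pow_apply, Scheme.IdealSheafData.ofIdealTop_ideal, Scheme.IdealSheafData.ideal_bot,
    Pi.bot_apply]
  have h2 : RingHom.ker i.appTop.hom ^ 2 = ⊥ := by
    refine le_antisymm ?_ bot_le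
    refine (Ideal.pow_right_mono hle 2).trans ?_
    rw [← Ideal.map_pow, hj2, Ideal.map_bot]
  rw [← Ideal.map_pow, h2, Ideal.map_bot]

theorem appTop_SpecMap {A B : CommRingCat.{u}} (φ : A ⟶ B) :
    (Spec.map φ).appTop = (Scheme.ΓSpecIso A).hom ≫ φ ≫ (Scheme.ΓSpecIso B).inv := by
  have h2 := Scheme.ΓSpecIso_naturality φ
  rw [← Category.assoc, ← h2, Category.assoc, Iso.hom_inv_id, Category.comp_id]

theorem surjective_appTop_SpecMap {A B : CommRingCat.{u}} (φ : A ⟶ B)
    (h : Function.Surjective φ.hom) : Function.Surjective (Spec.map φ).appTop.hom := by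
  rw [appTop_SpecMap]
  have i1 : Function.Surjective (Scheme.ΓSpecIso A).hom.hom :=
    (ConcreteCategory.bijective_of_isIso (Scheme.ΓSpecIso A).hom).2
  have i2 : Function.Surjective (Scheme.ΓSpecIso B).inv.hom :=
    (ConcreteCategory.bijective_of_isIso (Scheme.ΓSpecIso B).inv).2
  simp only [CommRingCat.hom_comp, RingHom.coe_comp]
  exact i2.comp (h.comp i1)

theorem ker_appTop_SpecMap_sq {A B : CommRingCat.{u}} (φ : A ⟶ B)
    (h : RingHom.ker φ.hom ^ 2 = ⊥) : RingHom.ker (Spec.map φ).appTop.hom ^ 2 = ⊥ := by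
  rw [appTop_SpecMap]
  have i2 : Function.Injective (Scheme.ΓSpecIso B).inv.hom :=
    (ConcreteCategory.bijective_of_isIso (Scheme.ΓSpecIso B).inv).1
  have i1 : Function.Injective (Scheme.ΓSpecIso A).hom.hom :=
    (ConcreteCategory.bijective_of_isIso (Scheme.ΓSpecIso A).hom).1
  have hk : RingHom.ker ((Scheme.ΓSpecIso A).hom ≫ φ ≫ (Scheme.ΓSpecIso B).inv).hom =
      Ideal.comap (Scheme.ΓSpecIso A).hom.hom (RingHom.ker φ.hom) := by
    ext x
    simp only [CommRingCat.hom_comp, RingHom.mem_ker, RingHom.coe_comp, Function.comp_apply,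
      Ideal.mem_comap]
    constructor
    · intro hx
      exact i2 (hx.trans (map_zero _).symm)
    · intro hx
      rw [hx, map_zero]
  rw [hk]
  refine le_antisymm ?_ bot_le
  refine (Ideal.le_comap_pow _ 2).trans ?_
  rw [h]
  intro x hx
  rw [Ideal.mem_comap, Ideal.mem_bot] at hx
  exact i1 (hx.trans (map_zero _).symm)

/-- uniqueness of lifts along a square-zero thickening for maps out of `A(N) ⊗ -` -/
theorem ext_of_thickening (S : Scheme.{u}) (N : Type) [AddCommMonoid N] {X Y : Over S} (f : X ⟶ Y)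
    [FormallyUnramified f.left] {T₀ T' : Over S} [IsAffine T₀.left] [IsAffine T'.left]
    (t : T₀ ⟶ T') [IsClosedImmersion t.left] (h1 : Function.Surjective t.left.appTop.hom)
    (h2 : RingHom.ker t.left.appTop.hom ^ 2 = ⊥)
    (l₁ l₂ : AMonS S N ⊗ T' ⟶ X)
    (htop : (AMonS S N ◁ t) ≫ l₁ = (AMonS S N ◁ t) ≫ l₂)
    (hbot : l₁ ≫ f = l₂ ≫ f) : l₁ = l₂ := by
  have sq := Groth.Agent.Lib.Helper3.SchIm.isPullback_whiskerLeft (AMonS S N) _ _ t
  have hP : IsAffine (AMonS S N ⊗ T').left :=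
    Groth.Agent.Lib.Helper3.MagKey.isAffine_tensor_left S N _
  have hci' : IsClosedImmersion (AMonS S N ◁ t).left :=
    MorphismProperty.of_isPullback (P := @IsClosedImmersion) sq.flip ‹_›
  have hnil : IsNilpotent (AMonS S N ◁ t).left.ker := isNilpotent_ker_of_isPullback sq h1 h2
  apply Over.OverMorphism.ext
  exact FormallyUnramified.hom_ext (AMonS S N ◁ t).left hnil f.left
    (by rw [← Over.comp_left, htop, Over.comp_left])
    (by rw [← Over.comp_left, hbot, Over.comp_left])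

/-- the same for `Spec` of a surjection with square-zero kernel -/
theorem ext_of_sqZero (S : Scheme.{u}) (N : Type) [AddCommMonoid N] {X Y : Over S} (f : X ⟶ Y)
    [FormallyUnramified f.left] {R R₀ : CommRingCat.{u}} (φ : R ⟶ R₀)
    (hφ : Function.Surjective φ.hom) (hφ2 : RingHom.ker φ.hom ^ 2 = ⊥)
    (str : Spec R ⟶ S)
    (l₁ l₂ : AMonS S N ⊗ Over.mk str ⟶ X)
    (htop : (AMonS S N ◁ (Over.homMk (Spec.map φ) rfl :
        Over.mk (Spec.map φ ≫ str) ⟶ Over.mk str)) ≫ l₁ =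
      (AMonS S N ◁ (Over.homMk (Spec.map φ) rfl :
        Over.mk (Spec.map φ ≫ str) ⟶ Over.mk str)) ≫ l₂)
    (hbot : l₁ ≫ f = l₂ ≫ f) : l₁ = l₂ := by
  obtain ⟨t, ht⟩ : ∃ t : Over.mk (Spec.map φ ≫ str) ⟶ Over.mk str,
      t = Over.homMk (Spec.map φ) rfl := ⟨_, rfl⟩
  rw [← ht] at htop
  have htl : t.left = Spec.map φ := by rw [ht]; rfl
  have hA1 : IsAffine (Over.mk str).left := inferInstanceAs (IsAffine (Spec R))
  have hA0 : IsAffine (Over.mk (Spec.map φ ≫ str)).left := inferInstanceAs (IsAffine (Spec R₀))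
  have hci : IsClosedImmersion t.left := by
    rw [htl]
    exact IsClosedImmersion.spec_of_surjective _ hφ
  refine ext_of_thickening S N f t ?_ ?_ l₁ l₂ htop hbot
  · rw [htl]
    exact surjective_appTop_SpecMap _ hφ
  · rw [htl]
    exact ker_appTop_SpecMap_sq _ hφ2

theorem main18232 (S : Scheme.{u}) (M : Type) [AddCommMonoid M]
    (N : AddSubmonoid M) {X Y : Over S} (aX : Magnet.MonAct (Magnet.AMonS S M) X)
    (aY : Magnet.MonAct (Magnet.AMonS S M) Y) (f : X ⟶ Y) (hf : Magnet.MonAct.IsEquivariant aX aY f)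
    [FormallyUnramified f.left] (A : Type u) [CommRing A] (I : Ideal A) (hI : I ^ 2 = ⊥)
    (str : Spec (CommRingCat.of A) ⟶ S) (l₁ l₂ : (Magnet.attr aX N).obj (op (Over.mk str)))
    (htop : (Magnet.attr aX N).map (Over.homMk (Spec.map (CommRingCat.ofHom (Ideal.Quotient.mk I))) rfl :
        Over.mk (Spec.map (CommRingCat.ofHom (Ideal.Quotient.mk I)) ≫ str) ⟶ Over.mk str).op l₁ =
      (Magnet.attr aX N).map (Over.homMk (Spec.map (CommRingCat.ofHom (Ideal.Quotient.mk I))) rfl :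
        Over.mk (Spec.map (CommRingCat.ofHom (Ideal.Quotient.mk I)) ≫ str) ⟶ Over.mk str).op l₂)
    (hbot : (Magnet.MonAct.eqvHom.postcomp (Magnet.subAct S M N) f hf).app _ l₁ =
      (Magnet.MonAct.eqvHom.postcomp (Magnet.subAct S M N) f hf).app _ l₂) :
    l₁ = l₂ := by
  apply Subtype.ext
  refine ext_of_sqZero S N f (CommRingCat.ofHom (Ideal.Quotient.mk I)) Ideal.Quotient.mk_surjective
    ?_ str l₁.1 l₂.1 (congrArg Subtype.val htop) (congrArg Subtype.val hbot)
  change RingHom.ker (Ideal.Quotient.mk I) ^ 2 = ⊥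
  rw [Ideal.mk_ker, hI]

theorem main18234 (S : Scheme.{u}) (M : Type) [AddCommMonoid M]
    (N : AddSubmonoid M) {X Y : Over S} (aX : Magnet.MonAct (Magnet.AMonS S M) X)
    (aY : Magnet.MonAct (Magnet.AMonS S M) Y) (f : X ⟶ Y) (hf : Magnet.MonAct.IsEquivariant aX aY f)
    [FormallyUnramified f.left] {ZX ZY : Over S} (eX : (Magnet.attr aX N).RepresentableBy ZX)
    (eY : (Magnet.attr aY N).RepresentableBy ZY)
    (j : ZX ⟶ ZY) (hj : ∀ (T : Over S) (z : T ⟶ ZX),
      eY.homEquiv (z ≫ j) = (Magnet.MonAct.eqvHom.postcomp (Magnet.subAct S M N) f hf).app (op T) (eX.homEquiv z)) :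
    FormallyUnramified j.left := by
  apply FormallyUnramified.of_hom_ext
  intro R R₀ φ hφ hφ2 g₁ g₂ hg hgj
  have hstr : g₁ ≫ ZX.hom = g₂ ≫ ZX.hom := by
    rw [← Over.w j, reassoc_of% hgj]
  let z₁ : Over.mk (g₁ ≫ ZX.hom) ⟶ ZX := Over.homMk g₁ rfl
  let z₂ : Over.mk (g₁ ≫ ZX.hom) ⟶ ZX := Over.homMk g₂ hstr.symm
  let t : Over.mk (Spec.map φ ≫ g₁ ≫ ZX.hom) ⟶ Over.mk (g₁ ≫ ZX.hom) := Over.homMk (Spec.map φ) rfl
  have htz : t ≫ z₁ = t ≫ z₂ := by
    ext
    exact hg
  have hzj : z₁ ≫ j = z₂ ≫ j := by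
    ext
    exact hgj
  have h12 : eX.homEquiv z₁ = eX.homEquiv z₂ := by
    apply Subtype.ext
    refine ext_of_sqZero S N f φ hφ hφ2 (g₁ ≫ ZX.hom) _ _ ?_ ?_
    · have e1 := eX.homEquiv_comp t z₁
      have e2 := eX.homEquiv_comp t z₂
      rw [htz] at e1
      exact congrArg Subtype.val (e1.symm.trans e2)
    · have e1 := hj _ z₁
      have e2 := hj _ z₂
      rw [hzj] at e1
      exact congrArg Subtype.val (e1.symm.trans e2)
  have := eX.homEquiv.injective h12
  exact congrArg (fun z => z.left) this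

end Groth.Agent.Lib.Helper3.MagUnr
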