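import Groth.Agent.Lib.Helper3.NoethDescent
import Mathlib.AlgebraicGeometry.Morphisms.Affine

set_option autoImplicit false
universe u
open CategoryTheory CategoryTheory.Limits AlgebraicGeometry MorphismProperty TensorProduct

namespace Groth.Agent.Lib.Helper3

/-- Affine source and target. -/
theorem isNoetherianRing_of_flat_surjective_affine {W V : Scheme.{u}} [IsAffine V] [IsAffine W]
    (h : W ⟶ V) [Flat h] [Surjective h] [IsLocallyNoetherian W] : IsNoetherianRing Γ(V, ⊤) := by
  have hNr : IsNoetherianRing Γ(W, ⊤) :=
    IsLocallyNoetherian.component_noetherian ⟨⊤, isAffineOpen_top _⟩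
  have hff : h.appTop.hom.FaithfullyFlat :=
    (Flat.flat_and_surjective_iff_faithfullyFlat_of_isAffine (f := h)).1 ⟨inferInstance, inferInstance⟩
  algebraize [h.appTop.hom]
  exact isNoetherianRing_of_faithfullyFlat Γ(V, ⊤) Γ(W, ⊤)

/-- Local Noetherianity descends along flat, affine, surjective morphisms. -/
theorem isLocallyNoetherian_of_flat_affine_surjective {W V : Scheme.{u}} (h : W ⟶ V) [Flat h]
    [IsAffineHom h] [Surjective h] [IsLocallyNoetherian W] : IsLocallyNoetherian V := by
  rw [isLocallyNoetherian_iff_of_affine_openCover V.affineCover]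
  intro i
  have : IsLocallyNoetherian (pullback h (V.affineCover.f i)) :=
    isLocallyNoetherian_of_isOpenImmersion (pullback.fst h (V.affineCover.f i))
  have : IsAffine (pullback h (V.affineCover.f i)) :=
    isAffine_of_isAffineHom (pullback.snd h (V.affineCover.f i))
  exact isNoetherianRing_of_flat_surjective_affine (pullback.snd h (V.affineCover.f i))

end Groth.Agent.Lib.Helper3
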