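import Mathlib
import Groth.Agent.Lib.Helper3.GenUniq2
import Groth.Agent.Lib.Helper3.AlgSpGenLift
import Groth.Agent.Lib.Helper3.DecSober1
set_option autoImplicit false
universe u
open CategoryTheory CategoryTheory.Limits AlgebraicGeometry TopologicalSpace

namespace Groth.Agent.Lib.Helper3.NormChart

open Groth.Agent.Lib.Helper3 AlgSp FibCond GenUniq

/-- In a scheme, two maximal generizations of a point whose local ring is a domain coincide. -/
theorem eq_of_specializes_of_isDomain_stalk (W : Scheme.{u}) (t m₁ m₂ : W)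
    [IsDomain (W.presheaf.stalk t)] (h₁ : m₁ ⤳ t) (h₂ : m₂ ⤳ t)
    (hm₁ : ∀ m : W, m ⤳ m₁ → m = m₁) (hm₂ : ∀ m : W, m ⤳ m₂ → m = m₂) : m₁ = m₂ := by
  have hr : Set.range (W.fromSpecStalk t) = {y | y ⤳ t} := Scheme.range_fromSpecStalk
  obtain ⟨q₁, hq₁⟩ : m₁ ∈ Set.range (W.fromSpecStalk t) := by rw [hr]; exact h₁
  obtain ⟨q₂, hq₂⟩ : m₂ ∈ Set.range (W.fromSpecStalk t) := by rw [hr]; exact h₂
  let b : ↥(Spec (W.presheaf.stalk t)) := (⊥ : PrimeSpectrum (W.presheaf.stalk t))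
  have hb : ∀ q : ↥(Spec (W.presheaf.stalk t)), b ⤳ q := by
    intro q
    change (⊥ : PrimeSpectrum (W.presheaf.stalk t)) ⤳ q
    rw [← PrimeSpectrum.le_iff_specializes]
    exact bot_le
  have e₁ : W.fromSpecStalk t b = m₁ :=
    hm₁ _ (hq₁ ▸ (hb q₁).map (W.fromSpecStalk t).continuous)
  have e₂ : W.fromSpecStalk t b = m₂ :=
    hm₂ _ (hq₂ ▸ (hb q₂).map (W.fromSpecStalk t).continuous)
  rw [← e₁, ← e₂]

end Groth.Agent.Lib.Helper3.NormChart

namespace Groth.Agent.Lib.Helper3.NormChart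

open Groth.Agent.Lib.Helper3 AlgSp FibCond GenUniq

/-- Around any point of a scheme with domain stalks and locally finitely many maximal points
there is an affine open neighbourhood with a generic point. -/
theorem exists_affineOpen_generic (W : Scheme.{u}) (hdom : ∀ t : W, IsDomain (W.presheaf.stalk t))
    (F : Set W) (hF1 : ∀ t : W, ∃ m ∈ F, m ⤳ t) (hF2 : ∀ m ∈ F, ∀ m' : W, m' ⤳ m → m' = m)
    (hF3 : ∀ W₀ : W.Opens, IsAffineOpen W₀ → ((W₀ : Set W) ∩ F).Finite) (w : W) :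
    ∃ (U : W.Opens) (η : W), IsAffineOpen U ∧ w ∈ U ∧ η ∈ U ∧ ∀ t ∈ U, η ⤳ t := by
  obtain ⟨W₀, hW₀, hwW₀⟩ : ∃ W₀ : W.Opens, IsAffineOpen W₀ ∧ w ∈ W₀ := by
    obtain ⟨_, ⟨W₀, hW₀, rfl⟩, hw, -⟩ := (W.isBasis_affineOpens).exists_subset_of_mem_open
      (Set.mem_univ w) isOpen_univ
    exact ⟨W₀, hW₀, hw⟩
  obtain ⟨η, hηF, hηw⟩ := hF1 w
  set Φ : Set W := ((W₀ : Set W) ∩ F) \ {η} with hΦ
  have hΦfin : Φ.Finite := (hF3 W₀ hW₀).subset Set.diff_subset
  have hcl : IsClosed (⋃ m ∈ Φ, closure ({m} : Set W)) :=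
    hΦfin.isClosed_biUnion fun m _ => isClosed_closure
  have huniq : ∀ t : W, ∀ m ∈ F, ∀ m' ∈ F, m ⤳ t → m' ⤳ t → m = m' := by
    intro t m hm m' hm' h h'
    haveI := hdom t
    exact eq_of_specializes_of_isDomain_stalk W t m m' h h' (hF2 m hm) (hF2 m' hm')
  have hwT : w ∈ (W₀ : Set W) ∩ (⋃ m ∈ Φ, closure ({m} : Set W))ᶜ := by
    refine ⟨hwW₀, ?_⟩
    simp only [Set.mem_compl_iff, Set.mem_iUnion, not_exists]
    intro m hm hwm
    have h1 : m ⤳ w := specializes_iff_mem_closure.2 hwm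
    exact hm.2 (huniq w m hm.1.2 η hηF h1 hηw)
  obtain ⟨_, ⟨U, hU, rfl⟩, hwU, hUT⟩ := (W.isBasis_affineOpens).exists_subset_of_mem_open hwT
    (W₀.2.inter hcl.isOpen_compl)
  refine ⟨U, η, hU, hwU, hηw.mem_open U.2 hwU, ?_⟩
  intro t ht
  obtain ⟨m, hmF, hmt⟩ := hF1 t
  have htT := hUT ht
  have hmW₀ : m ∈ (W₀ : Set W) := hmt.mem_open W₀.2 htT.1
  by_cases hmη : m = η
  · rw [← hmη]; exact hmt
  · exfalso
    apply htT.2
    simp only [Set.mem_iUnion]
    exact ⟨m, ⟨⟨hmW₀, hmF⟩, hmη⟩, specializes_iff_mem_closure.1 hmt⟩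

end Groth.Agent.Lib.Helper3.NormChart

namespace Groth.Agent.Lib.Helper3.NormChart

open Groth.Agent.Lib.Helper3 AlgSp FibCond GenUniq

/-- An affine scheme all of whose local rings are integrally closed domains and which is integral
has integrally closed ring of global sections. -/
theorem isIntegrallyClosed_of_stalks (V : Scheme.{u}) [IsAffine V] [IsIntegral V]
    (hn : ∀ t : V, IsIntegrallyClosed (V.presheaf.stalk t)) :
    IsIntegrallyClosed Γ(V, ⊤) := by
  refine IsIntegrallyClosed.of_localization_maximal fun P _ hP => ?_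
  let q : PrimeSpectrum Γ(V, ⊤) := ⟨P, hP.isPrime⟩
  obtain ⟨pt, hpt⟩ : ∃ pt : V, V.isoSpec.hom pt = q :=
    ⟨V.isoSpec.inv q, by rw [← Scheme.Hom.comp_apply, Iso.inv_hom_id]; rfl⟩
  have h1 : IsIntegrallyClosed ((Spec Γ(V, ⊤)).presheaf.stalk (V.isoSpec.hom pt)) := by
    haveI := hn pt
    exact IsIntegrallyClosed.of_equiv
      (asIso (V.isoSpec.hom.stalkMap pt)).symm.commRingCatIsoToRingEquiv
  rw [hpt] at h1
  have h2 : IsIntegrallyClosed ↑((structurePresheafInCommRingCat ↑Γ(V, ⊤)).stalk q) := h1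
  exact IsIntegrallyClosed.of_equiv (StructureSheaf.stalkIso Γ(V, ⊤) q).symm.toRingEquiv

end Groth.Agent.Lib.Helper3.NormChart

namespace Groth.Agent.Lib.Helper3.NormChart

open Groth.Agent.Lib.Helper3 AlgSp FibCond GenUniq

theorem isIntegral_and_normal_of_generic (W : Scheme.{u})
    (hn : ∀ t : W, IsDomain (W.presheaf.stalk t) ∧ IsIntegrallyClosed (W.presheaf.stalk t))
    (U : W.Opens) (hU : IsAffineOpen U) (η : W) (hηU : η ∈ U) (hη : ∀ t ∈ U, η ⤳ t) :
    IsIntegral U.toScheme ∧ IsIntegrallyClosed Γ(U.toScheme, ⊤) := by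
  haveI : IsAffine U.toScheme := hU
  have hst : ∀ t : U.toScheme, IsDomain (U.toScheme.presheaf.stalk t) ∧
      IsIntegrallyClosed (U.toScheme.presheaf.stalk t) := by
    intro t
    obtain ⟨h1, h2⟩ := hn t.1
    let e : U.toScheme.presheaf.stalk t ≃+* W.presheaf.stalk t.1 :=
      (U.stalkIso t).commRingCatIsoToRingEquiv
    exact ⟨e.toMulEquiv.isDomain _, IsIntegrallyClosed.of_equiv e.symm⟩
  haveI : IsReduced U.toScheme := by
    haveI : ∀ t : U.toScheme, _root_.IsReduced (U.toScheme.presheaf.stalk t) := fun t => by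
      haveI := (hst t).1
      infer_instance
    exact isReduced_of_isReduced_stalk _
  haveI : IrreducibleSpace ↥U.toScheme := by
    let η' : ↥U.toScheme := ⟨η, hηU⟩
    have hgen : IsGenericPoint η' (Set.univ : Set ↥U.toScheme) := by
      rw [isGenericPoint_def, ← Set.univ_subset_iff]
      intro t _
      rw [← specializes_iff_mem_closure]
      have h1 : η ⤳ t.1 := hη t.1 t.2
      exact (Topology.IsInducing.subtypeVal.specializes_iff (x := η') (y := t)).1 h1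
    exact (irreducibleSpace_def _).2 hgen.isIrreducible
  haveI : IsIntegral U.toScheme := isIntegral_of_irreducibleSpace_of_isReduced _
  exact ⟨inferInstance, isIntegrallyClosed_of_stalks _ fun t => (hst t).2⟩

end Groth.Agent.Lib.Helper3.NormChart

namespace Groth.Agent.Lib.Helper3.NormChart

open Groth.Agent.Lib.Helper3 AlgSp FibCond GenUniq

variable {S : Scheme.{u}}

/-- Affine opens with a generic point around any point of a chart of an integral space whose
local rings are domains. -/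
theorem exists_affineOpen_generic_chart (X : AlgSp.Space S) (hXi : AlgSp.IsIntegralSp X.obj)
    {W : Over S} (p : (yon S).obj W ⟶ X.obj) (hpe : RepWith @Etale p)
    (hdom : ∀ t : ↥W.left, IsDomain (W.left.presheaf.stalk t)) (w : ↥W.left) :
    ∃ (U : W.left.Opens) (η : ↥W.left), IsAffineOpen U ∧ w ∈ U ∧ η ∈ U ∧ ∀ t ∈ U, η ⤳ t := by
  have : QuasiSober (Points X.obj) := DecDense.quasiSober_points_of_isDecent X hXi.2.1
  have : IrreducibleSpace (Points X.obj) := hXi.2.2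
  obtain ⟨ξ, hξ⟩ := QuasiSober.sober (IrreducibleSpace.isIrreducible_univ (Points X.obj)) isClosed_univ
  refine exists_affineOpen_generic W.left hdom (Points.ofPt p ⁻¹' {ξ}) ?_ ?_ ?_ w
  · intro t
    obtain ⟨q, hq, -, hqc⟩ := hXi.2.1 ξ
    have h1 : Points.mk q ⤳ Points.ofPt p t := by
      rw [hq]; exact hξ.specializes (Set.mem_univ _)
    obtain ⟨m, hmt, hm⟩ := exists_specializes_lift_of_qc_point (Points.ofPt p t) q h1 hqc p hpe t rfl
    exact ⟨m, by rw [Set.mem_preimage, hm, hq]; rfl, hmt⟩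
  · intro m hm m' hm'
    exact eq_of_specializes_generic hXi ξ hξ p hpe m m' hm hm'
  · intro W₀ hW₀
    exact finite_inter_fibre ξ (finFib_of_isDecent hXi.2.1 ξ) p hpe W₀ hW₀

theorem main10492 (X : AlgSp.Space S)
    (hXi : AlgSp.IsIntegralSp X.obj)
    (hXn : AlgSp.EtaleLocally (fun U => ∀ u : ↥U, IsDomain ↥(U.presheaf.stalk u) ∧
      IsIntegrallyClosed ↥(U.presheaf.stalk u)) X.obj)
    (x : AlgSp.Points X.obj) :
    ∃ (U : Over S) (a : (AlgSp.yon S).obj U ⟶ X.obj), AlgSp.RepWith @Etale a ∧ IsAffine U.left ∧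
      IsIntegral U.left ∧ IsIntegrallyClosed ↥Γ(U.left, ⊤) ∧ x ∈ Set.range (AlgSp.Points.ofPt a) := by
  obtain ⟨W, p, hpe, hps, hW⟩ := hXn
  obtain ⟨w, hw⟩ := exists_ofPt_eq p hps x
  obtain ⟨U, η, hU, hwU, hηU, hη⟩ :=
    exists_affineOpen_generic_chart X hXi p hpe (fun t => (hW t).1) w
  obtain ⟨h1, h2⟩ := isIntegral_and_normal_of_generic W.left hW U hU η hηU hη
  refine ⟨Over.mk (U.ι ≫ W.hom), chartRestrict p U, chartRestrict_etale p hpe U, hU, h1, h2, ?_⟩
  refine ⟨(⟨w, hwU⟩ : ↥U), ?_⟩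
  rw [ofPt_chartRestrict]
  exact hw

end Groth.Agent.Lib.Helper3.NormChart
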