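import Mathlib
import Groth.Agent.Lib.Helper3.NormNag1
import Groth.Agent.Lib.Helper3.BiratD4
import Groth.Agent.Lib.Helper3.AlgSpRepLocal2
import Groth.Agent.Lib.Helper13.NagataFT
set_option autoImplicit false
universe u

namespace Groth.Agent.Lib.Helper3.NormNag

open CategoryTheory CategoryTheory.Limits AlgebraicGeometry Opposite AlgSp TensorProduct
open Groth.Agent.Lib.Helper3 Groth.Agent.Lib.Helper3.RelNorm

variable {S : Scheme.{u}}

/-- Ring-level finiteness. -/
theorem finite_normSub {A C D : Type u} [CommRing A] [CommRing C] [CommRing D] [Algebra A C]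
    [Algebra A D] (hA : CAlg.IsNagata A) [Algebra.FiniteType A C] [_root_.IsReduced C]
    (p₁ p₂ : C →ₐ[A] D) : Module.Finite A (normSub p₁ p₂) := by
  haveI : IsNoetherianRing A := hA.1
  haveI : Module.Finite A (integralClosure A C) :=
    Groth.Agent.Lib.Helper13.NagataFT.finite_integralClosure_of_isNagata A hA C
  haveI : IsNoetherian A (integralClosure A C) := isNoetherian_of_isNoetherianRing_of_finite _ _
  have hle : normSub p₁ p₂ ≤ integralClosure A C := inf_le_left
  refine Module.Finite.of_injective (Subalgebra.inclusion hle).toLinearMap ?_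
  exact Subalgebra.inclusion_injective hle

variable {A : Type u} [CommRing A] (str : Spec (CommRingCat.of A) ⟶ S)

/-- **Affine Nagata base**: every relative normalization of a reduced algebraic space of finite
type (and quasi-separated) over `Spec A`, `A` Nagata, is finite. -/
theorem isFiniteMor_of_nagata_spec (hA : CAlg.IsNagata A) {X X' : Sp S} (hX' : IsAlgSpace X')
    (f : X ⟶ (yon S).obj (Over.mk str)) (hqc : IsQuasiCompactMor f)
    (hqs : IsQuasiSeparatedMor f) (hlft : LocP @LocallyOfFiniteType f)
    (hred : EtaleLocally (fun T => IsReduced T) X) (ν : X' ⟶ (yon S).obj (Over.mk str))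
    (f' : X ⟶ X') (hn : IsRelNormalization f ν f') : IsFiniteMor ν := by
  obtain ⟨C, D, _, _, _, _, p₁, p₂, v, hP, hve, hvs⟩ := exists_isPres_etale str f hqc hqs
  have hN := isNormRing_normSub p₁ p₂
  obtain ⟨f'₀, hf'v, hf₀, hn₀⟩ := crit str f hP hN
  obtain ⟨e, he1, he2⟩ := isRelNormalization_unique hX' (IsAlgSpace.yon_obj _) hn hn₀
  -- finite type
  have hlftC : LocallyOfFiniteType (specOverBase str C).left :=
    hlft v (𝟙 _) (specOverBase str C) hve (repWith_id _ _) (by rw [Category.comp_id, hP.comm])
  have hft : Algebra.FiniteType A C := by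
    have h1 : LocallyOfFiniteType (Spec.map (CommRingCat.ofHom (algebraMap A C))) := hlftC
    rw [HasRingHomProperty.Spec_iff (P := @LocallyOfFiniteType)] at h1
    exact RingHom.finiteType_algebraMap.1 h1
  have hCred : _root_.IsReduced C := by
    have h1 : IsReduced (specOver str C).left := BiratD.isReduced_of_etale_chart hred v hve
    have h2 : IsReduced (Spec (CommRingCat.of C)) := h1
    exact (affine_isReduced_iff (CommRingCat.of C)).1 h2
  have hfin : Module.Finite A (normSub p₁ p₂) := finite_normSub hA p₁ p₂
  have hfin' : IsFinite (specOverBase str (normSub p₁ p₂)).left := by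
    change IsFinite (Spec.map (CommRingCat.ofHom (algebraMap A (normSub p₁ p₂))))
    rw [IsFinite.SpecMap_iff]
    exact RingHom.finite_algebraMap.2 hfin
  have h0 : RepWith @IsFinite ((yon S).map (specOverBase str (normSub p₁ p₂))) :=
    (repWith_yon_map_iff _ _).2 hfin'
  rw [isFiniteMor_iff_repWith, ← he2]
  exact (MorphismProperty.cancel_left_of_respectsIso (RepWith (S := S) @IsFinite) e.hom _).2 h0

end Groth.Agent.Lib.Helper3.NormNag
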