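import Mathlib
import Groth.Agent.Lib.Helper3.NormNag2
import Groth.Agent.Lib.Helper3.RNResults
import Groth.Agent.Lib.Helper3.FpqcDescMain
import Groth.Agent.Lib.Helper3.AlgSpFppfFpqc
import Groth.Agent.Lib.Helper3.AlgSpHasAtMor
set_option autoImplicit false
universe u

namespace Groth.Agent.Lib.Helper3.NormNag

open CategoryTheory CategoryTheory.Limits AlgebraicGeometry Opposite AlgSp TensorProduct
open Groth.Agent.Lib.Helper3 Groth.Agent.Lib.Helper3.RelNorm Groth.Agent.Lib.Helper3.GenFinSp

variable {S : Scheme.{u}}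

/-- A sheaf etale over a reduced algebraic space is reduced. -/
theorem isReducedSp_of_etale {X X₁ : Sp S} (hX₁ : IsAlgSpace X₁) (j : X₁ ⟶ X)
    (hj : RepWith @Etale j) (hred : EtaleLocally (fun T => IsReduced T) X) :
    EtaleLocally (fun T => IsReduced T) X₁ := by
  obtain ⟨T, c, hce, hcs⟩ := hX₁.atlas
  exact ⟨T, c, hce, hcs, BiratD.isReduced_of_etale_chart hred (c ≫ j)
    (MorphismProperty.comp_mem _ _ _ hce hj)⟩

/-- The literal-spectrum chart attached to an affine open of a chart. -/
theorem exists_spec_chart {Y : Sp S} {U : Over S} (p : (yon S).obj U ⟶ Y) (hpe : RepWith @Etale p)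
    (i : U.left.Opens) (hi : IsAffineOpen i) :
    ∃ (str : Spec (CommRingCat.of Γ(U.left, i)) ⟶ S)
      (w : (yon S).obj (Over.mk str) ⟶ Y), RepWith @Etale w ∧
        Set.range (Points.map w) = Points.ofPt p '' (i : Set ↥U.left) := by
  let str : Spec (CommRingCat.of Γ(U.left, i)) ⟶ S := hi.isoSpec.inv ≫ i.ι ≫ U.hom
  let eW : Over.mk str ≅ opOver U i := Over.isoMk hi.isoSpec.symm (by simp [str])
  let w : (yon S).obj (Over.mk str) ⟶ Y := (yon S).map (eW.hom ≫ opι U i) ≫ p
  refine ⟨str, w, ?_, ?_⟩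
  · refine MorphismProperty.comp_mem _ _ _ ?_ hpe
    rw [repWith_yon_map_iff]
    change Etale (eW.hom.left ≫ i.ι)
    have : IsIso eW.hom.left := inferInstanceAs (IsIso ((Over.forget S).map eW.hom))
    infer_instance
  · have hw : w = (yon S).map eW.hom ≫ ((yon S).map (opι U i) ≫ p) := by
      change (yon S).map (eW.hom ≫ opι U i) ≫ p = _
      rw [Functor.map_comp, Category.assoc]
    have h1 : Set.range (Points.map w) = Set.range (Points.map ((yon S).map (opι U i) ≫ p)) := by
      ext x
      constructor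
      · rintro ⟨z, rfl⟩
        exact ⟨Points.map ((yon S).map eW.hom) z, by rw [← Points.map_comp, ← hw]⟩
      · rintro ⟨z, rfl⟩
        refine ⟨Points.map ((yon S).map eW.inv) z, ?_⟩
        rw [hw, ← Points.map_comp, ← Category.assoc, ← Functor.map_comp, Iso.inv_hom_id,
          CategoryTheory.Functor.map_id, Category.id_comp]
    rw [h1, range_map_eq_range_ofPt, BiratD.range_ofPt_opι_comp]

/-- **S10299.** -/
theorem main10299 {X Y Y' : AlgSp.Space S} (f : X ⟶ Y)
    (hY : AlgSp.EtaleLocally (fun U => ∀ V : U.Opens, IsAffineOpen V → CAlg.IsNagata ↑Γ(U, V)) Y.obj)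
    (hqs : AlgSp.IsQuasiSeparatedMor f.hom) (hft : AlgSp.IsFiniteTypeMor f.hom)
    (hX : AlgSp.EtaleLocally (fun U => IsReduced U) X.obj) (ν : Y' ⟶ Y) (f' : X ⟶ Y')
    (hn : AlgSp.IsRelNormalization f.hom ν.hom f'.hom) : AlgSp.IsFiniteMor ν.hom := by
  obtain ⟨U, p, hpe, hps, hU⟩ := hY
  obtain ⟨hlft, hqc⟩ := hft
  let ι : Type u := U.left.affineOpens
  choose str w hwe hwr using fun i : ι => exists_spec_chart p hpe i.1 i.2
  have hwfl : ∀ i, LocP @Flat (w i) := fun i => by
    refine locP_of_repWith isEtLocal_flat _ (MorphismProperty.relative_monotone ?_ _ (hwe i))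
    intro A B k hk
    have : Etale ((Over.forget S).map k) := hk
    change Flat ((Over.forget S).map k)
    infer_instance
  have hwfp : ∀ i, LocP @LocallyOfFinitePresentation (w i) := fun i => by
    refine locP_of_repWith isEtLocal_locallyOfFinitePresentation _
      (MorphismProperty.relative_monotone ?_ _ (hwe i))
    intro A B k hk
    have : Etale ((Over.forget S).map k) := hk
    change LocallyOfFinitePresentation ((Over.forget S).map k)
    infer_instance
  have hsurj : ∀ y : Points Y.obj, ∃ i : ι, y ∈ Set.range (Points.map (w i)) := by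
    intro y
    obtain ⟨u, rfl⟩ := exists_ofPt_eq p hps y
    obtain ⟨_, ⟨i, hi, rfl⟩, hui, -⟩ :=
      (U.left.isBasis_affineOpens).exists_subset_of_mem_open (Set.mem_univ u) isOpen_univ
    refine ⟨⟨i, hi⟩, ?_⟩
    rw [hwr]
    exact ⟨u, hui, rfl⟩
  have hYi : ∀ i : ι, IsAlgSpace ((yon S).obj (Over.mk (str i))) := fun i => IsAlgSpace.yon_obj _
  have hcov : IsFpqcCover (fun i : ι => (yon S).obj (Over.mk (str i))) w :=
    ⟨hwfl, hasStdRefinement_of_isFppfCover Y.property _ w hYi
      ⟨fun i => ⟨hwfl i, hwfp i⟩, hsurj⟩⟩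
  have hXi : ∀ i : ι, IsAlgSpace (pullback ν.hom (w i)) := fun i =>
    isAlgSpace_of_isPullback' Y.property Y'.property (hYi i) (IsPullback.of_hasPullback _ _)
  refine (FpqcDesc.isLocalOnBase_fpqc_isFiniteMor (fun i : ι => (yon S).obj (Over.mk (str i))) w
    Y.property hYi hcov ν.hom Y'.property (fun i => pullback ν.hom (w i))
    (fun i => pullback.snd ν.hom (w i)) (fun i => pullback.fst ν.hom (w i)) hXi
    (fun i => IsPullback.of_hasPullback _ _)).2 ?_
  intro i
  have hUN := un_of_isRelNormalization Y.property Y'.property f.hom hqc hqs ν.hom f'.hom hn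
  have hwsm : RepWith @Smooth (w i) := repWith_mono etale_le_smooth (hwe i)
  have hSpecAff : IsAffine (Over.mk (str i)).left :=
    inferInstanceAs (IsAffine (Spec (CommRingCat.of Γ(U.left, i.1))))
  have hnorm : IsRelNormalization (pullback.snd f.hom (w i)) (pullback.snd ν.hom (w i)) _ :=
    hUN (w i) hSpecAff hwsm
  have hPalg : IsAlgSpace (pullback f.hom (w i)) :=
    isAlgSpace_of_isPullback' Y.property X.property (hYi i) (IsPullback.of_hasPullback _ _)
  have hfste : RepWith @Etale (pullback.fst f.hom (w i)) :=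
    MorphismProperty.of_isPullback (IsPullback.of_hasPullback f.hom (w i)).flip (hwe i)
  exact isFiniteMor_of_nagata_spec (str i) (hU i.1 i.2) (hXi i) (pullback.snd f.hom (w i))
    (isQuasiCompactMor_snd hqc (w i)) (isQuasiSeparatedMor_snd hqs (w i))
    (locP_of_isPullback isEtLocal_locallyOfFiniteType X.property Y.property (hYi i) hPalg f.hom
      (w i) _ _ (IsPullback.of_hasPullback _ _) hlft)
    (isReducedSp_of_etale hPalg _ hfste hX) (pullback.snd ν.hom (w i)) _ hnorm

end Groth.Agent.Lib.Helper3.NormNag
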