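import Groth.Agent.Lib.Helper3.OnePt1
import Groth.Agent.Lib.Helper3.GQOpenQuot
import Groth.Agent.Lib.Helper3.QAffDescGen
import Groth.Agent.S9883
import Groth.Agent.S9906

set_option autoImplicit false
universe u w

namespace Groth.Agent.Lib.Helper3.OnePt

open CategoryTheory CategoryTheory.Limits AlgebraicGeometry Opposite AlgSp
open Groth.Agent.Lib.Helper3 Groth.Agent.Lib.Helper3.GenDense Groth.Agent.Lib.Helper3.GenFinSp

variable {S : Scheme.{u}}

/-- Two locally surjective maps out of the same sheaf with the same kernel pair have isomorphic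
targets. -/
theorem exists_iso_of_kernelPair {A B B' K : Sp S} (π : A ⟶ B) (π' : A ⟶ B')
    (hπ : Sheaf.IsLocallySurjective π) (hπ' : Sheaf.IsLocallySurjective π') (k₁ k₂ : K ⟶ A)
    (kp : IsPullback k₁ k₂ π π) (kp' : IsPullback k₁ k₂ π' π') :
    ∃ e : B ≅ B', π ≫ e.hom = π' := by
  obtain ⟨b, hb⟩ := GQ.exists_desc_of_kernelPair π hπ k₁ k₂ kp π' kp'.w
  obtain ⟨b', hb'⟩ := GQ.exists_desc_of_kernelPair π' hπ' k₁ k₂ kp' π kp.w
  have hepi : Epi π := inferInstance
  have hepi' : Epi π' := inferInstance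
  refine ⟨⟨b, b', ?_, ?_⟩, hb⟩
  · rw [← cancel_epi π, ← Category.assoc, hb, hb', Category.comp_id]
  · rw [← cancel_epi π', ← Category.assoc, hb', hb, Category.comp_id]

/-- A decent algebraic space with exactly one point is a scheme. -/
theorem isRepresentable_of_isDecent_of_subsingleton (X : AlgSp.Space S)
    (hX : AlgSp.IsDecent X.obj) [Nonempty (AlgSp.Points X.obj)]
    [Subsingleton (AlgSp.Points X.obj)] : X.obj.obj.IsRepresentable := by
  obtain ⟨x⟩ := ‹Nonempty (AlgSp.Points X.obj)›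
  obtain ⟨p, hp, hpm, hpq⟩ := hX x
  obtain ⟨V₁, ψ₁, v₁, hψ₁, hfib⟩ := DecMono.exists_chart_unique_point X.property p hpq
  obtain ⟨_, ⟨(W : V₁.left.Opens), hW : IsAffineOpen W, rfl⟩, hv₁W, -⟩ :=
    (V₁.left.isBasis_affineOpens).exists_subset_of_mem_open (Set.mem_univ v₁) isOpen_univ
  let V : Over S := opOver V₁ W
  have hVa : IsAffine V.left := hW
  let ψ : (yon S).obj V ⟶ X.obj := (yon S).map (opι V₁ W) ≫ ψ₁
  have hιe : RepWith @Etale ((yon S).map (opι V₁ W)) := by
    rw [repWith_yon_map_iff]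
    change Etale (Scheme.Opens.ι W)
    infer_instance
  have hψ : RepWith @Etale ψ := MorphismProperty.comp_mem _ _ _ hιe hψ₁
  let v : ↥V.left := ⟨v₁, hv₁W⟩
  have hVsub : Subsingleton ↥V.left := by
    refine ⟨fun a b => ?_⟩
    have ha : (a : ↥W).1 ∈ Points.ofPt ψ₁ ⁻¹' {Points.mk p} := Subsingleton.elim _ _
    have hb : (b : ↥W).1 ∈ Points.ofPt ψ₁ ⁻¹' {Points.mk p} := Subsingleton.elim _ _
    rw [hfib] at ha hb
    exact Subtype.ext (ha.trans hb.symm)
  have hψs : RepWith @Surjective ψ := by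
    refine (Groth.Agent.S9906.repWith_surjective_iff ψ hψ.rep).2 ?_
    intro y
    exact ⟨Points.schemeHomeo V v, Subsingleton.elim _ _⟩
  obtain ⟨R, t, s, kp⟩ := exists_pullback_charts ψ hψ.1 ψ
  have hs : Etale s.left := hψ.2 ψ ((yon S).map t) s kp
  have heq : IsEqvRel s t := DecMono.isEqvRel_of_kernelPair ψ s t kp
  have hRfin : Finite ↥R.left := by
    have := ((DecMono.finite_fibres_affine_etale_iff_exists_qc_mono_point X.property x).2
      ⟨p, hp, hpm, hpq⟩ V ψ hVa hψ R s t kp).2
    refine Set.finite_univ_iff.1 (this.subset ?_)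
    intro r _
    exact Subsingleton.elim _ _
  have hsep : IsSeparated s.left := isSeparated_of_isEqvRel s t heq
  have hsfin : IsFinite s.left := isFinite_of_subsingleton_target s.left v
  have hRa : IsAffine R.left := isAffine_of_isAffineHom s.left
  obtain ⟨M, q, hMa, hqfin, hqflat, hqlfp, hqsurj, sqq⟩ := GQ.exists_affine_quotient s t heq
  have hψls : Sheaf.IsLocallySurjective ψ :=
    Groth.Agent.S9883.isLocallySurjective_of_etale_surjective ψ hψ hψs
  have hqls : Sheaf.IsLocallySurjective ((yon S).map q) :=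
    QAffDesc.isLocallySurjective_yon_map_of_fppf q
  have kq : IsPullback ((yon S).map t) ((yon S).map s) ((yon S).map q) ((yon S).map q) :=
    sqq.map (yon S)
  obtain ⟨e, -⟩ := exists_iso_of_kernelPair ((yon S).map q) ψ hqls hψls _ _ kq kp
  exact (representableByOfIso e).isRepresentable

end Groth.Agent.Lib.Helper3.OnePt
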