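import Groth.Agent.Lib.Helper3.OnePt2
import Groth.Agent.Lib.Helper3.ZarGlue
import Groth.Agent.Lib.Helper3.DecMonoQSepMor
import Groth.Agent.Lib.Helper3.RDvrFinal
import Groth.Agent.S9937

set_option autoImplicit false
universe u w

namespace Groth.Agent.Lib.Helper3.OnePt

open CategoryTheory CategoryTheory.Limits AlgebraicGeometry Opposite AlgSp
open Groth.Agent.Lib.Helper3 Groth.Agent.Lib.Helper3.GenDense Groth.Agent.Lib.Helper3.GenFinSp

variable {S : Scheme.{u}}

/-- An algebraic space with a monomorphism to a scheme with discrete underlying space is a scheme. -/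
theorem isRepresentable_of_mono_to_discrete (Y : Over S) [DiscreteTopology ↥Y.left]
    {X : Sp S} (hX : IsAlgSpace X) (f : X ⟶ (yon S).obj Y) [Mono f] :
    X.obj.IsRepresentable := by
  -- the one-point opens of `Y`
  let O : ↥Y.left → Y.left.Opens := fun y => ⟨{y}, isOpen_discrete _⟩
  let Xy : ↥Y.left → Sp S := fun y => pullback f ((yon S).map (opι Y (O y)))
  let jy : ∀ y, Xy y ⟶ X := fun y => pullback.fst f ((yon S).map (opι Y (O y)))
  let fy : ∀ y, Xy y ⟶ (yon S).obj (opOver Y (O y)) := fun y =>
    pullback.snd f ((yon S).map (opι Y (O y)))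
  have sq : ∀ y, IsPullback (jy y) (fy y) f ((yon S).map (opι Y (O y))) := fun y =>
    IsPullback.of_hasPullback _ _
  have hιo : ∀ y, RepWith @IsOpenImmersion ((yon S).map (opι Y (O y))) := fun y => by
    rw [repWith_yon_map_iff]
    change IsOpenImmersion (O y).ι
    infer_instance
  have hjy : ∀ y, RepWith @IsOpenImmersion (jy y) := fun y =>
    MorphismProperty.of_isPullback (sq y).flip (hιo y)
  have hXy : ∀ y, IsAlgSpace (Xy y) := fun y =>
    isAlgSpace_of_isPullback' (IsAlgSpace.yon_obj Y) hX (IsAlgSpace.yon_obj _) (sq y)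
  have hfymono : ∀ y, Mono (fy y) := fun y => (sq y).mono_snd_of_mono
  have hXyd : ∀ y, IsDecent (Xy y) := fun y => by
    have := hfymono y
    exact isDecent_of_isDecentMor (fy y)
      (DecMono.isDecentMor_of_isQuasiSeparatedMor (hXy y) (IsAlgSpace.yon_obj _) (fy y)
        (RDvr.isQuasiSeparatedMor_of_isSeparatedMor
          (Groth.Agent.S9937.isSeparatedMor_of_mono (fy y)))) (DecMono.isDecent_yon _)
  have hsub : ∀ y, Subsingleton (Points (Xy y)) := fun y => by
    have := hfymono y
    have hO : Subsingleton ↥(opOver Y (O y)).left := by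
      refine ⟨fun a b => Subtype.ext ?_⟩
      have ha : (a : ↥(O y)).1 ∈ ({y} : Set ↥Y.left) := a.2
      have hb : (b : ↥(O y)).1 ∈ ({y} : Set ↥Y.left) := b.2
      exact ha.trans hb.symm
    have : Subsingleton (Points ((yon S).obj (opOver Y (O y)))) :=
      (Points.schemeEquiv _).symm.subsingleton
    exact (Points.map_injective_of_mono (fy y)).subsingleton
  -- the index set
  let ι : Type u := {y : ↥Y.left // Nonempty (Points (Xy y))}
  have hrep : ∀ i : ι, ∃ (T : Over S), Nonempty ((yon S).obj T ≅ Xy i.1) := fun i => by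
    have := i.2
    have := hsub i.1
    have h := isRepresentable_of_isDecent_of_subsingleton ⟨Xy i.1, hXy i.1⟩ (hXyd i.1)
    obtain ⟨T, ⟨e⟩⟩ := h
    exact ⟨T, ⟨isoOfRepresentableBy e⟩⟩
  choose T e using hrep
  let a : ∀ i : ι, (yon S).obj (T i) ⟶ X := fun i => (e i).some.hom ≫ jy i.1
  have ha : ∀ i, RepWith @IsOpenImmersion (a i) := fun i =>
    (MorphismProperty.cancel_left_of_respectsIso (RepWith (S := S) @IsOpenImmersion) _ _).2
      (hjy i.1)
  have hs : ∀ x : Points X, ∃ (i : ι) (u : ↥(T i).left), Points.ofPt (a i) u = x := by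
    intro x
    obtain ⟨y, hy⟩ := (Points.schemeHomeo Y).surjective (Points.map f x)
    let y' : ↥(opOver Y (O y)).left := ⟨y, rfl⟩
    have hxy : Points.map f x =
        Points.map ((yon S).map (opι Y (O y))) (Points.schemeHomeo _ y') := by
      rw [Points.map_yon_map_apply, ← hy]
      rfl
    obtain ⟨z, hz, -⟩ := Points.exists_of_isPullback (sq y) x _ hxy
    let i : ι := ⟨y, ⟨z⟩⟩
    obtain ⟨u, hu⟩ := (Points.schemeHomeo (T i)).surjective (Points.map (e i).some.inv z)
    refine ⟨i, u, ?_⟩
    rw [Points.ofPt_eq_map_ofScheme]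
    change Points.map ((e i).some.hom ≫ jy y) (Points.schemeHomeo (T i) u) = x
    rw [hu, Points.map_comp, ← Points.map_comp (e i).some.inv, Iso.inv_hom_id, Points.map_id]
    exact hz
  obtain ⟨G, eG, -, -, -, -⟩ := exists_iso_yon_of_openCover a ha hs
  exact (representableByOfIso eG).isRepresentable

end Groth.Agent.Lib.Helper3.OnePt
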