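import Groth.Statements.S10121
import Groth.Agent.Lib.Helper3.AlgSpPoints
set_option autoImplicit false
universe u
open CategoryTheory CategoryTheory.Limits AlgebraicGeometry
open AlgSp

namespace Groth.Agent.Lib.Helper3.PreEqvPts

open Groth.Agent.Lib.Helper3

theorem main (S : Scheme.{u}) (R U : AlgSp.Sp S) (s t : R ⟶ U) (h : AlgSp.IsPreEqvRelSp s t) :
    _root_.Equivalence (fun x y : AlgSp.Points U =>
      ∃ r : AlgSp.Points R, AlgSp.Points.map t r = x ∧ AlgSp.Points.map s r = y) := by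
  refine ⟨fun x => ?_, ?_, ?_⟩
  · obtain ⟨K, _, str, a, rfl⟩ := Points.exists_hom x
    obtain ⟨r, hrt, hrs⟩ := (h (Over.mk str)).refl a
    refine ⟨Points.mk (fieldPtOfHom K str r), ?_, ?_⟩
    · rw [Points.map_mk_fieldPtOfHom, hrt]
    · rw [Points.map_mk_fieldPtOfHom, hrs]
  · rintro x y ⟨r, rfl, rfl⟩
    obtain ⟨K, _, str, ρ, rfl⟩ := Points.exists_hom r
    obtain ⟨r', hrt, hrs⟩ := (h (Over.mk str)).symm ⟨ρ, rfl, rfl⟩
    refine ⟨Points.mk (fieldPtOfHom K str r'), ?_, ?_⟩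
    · rw [Points.map_mk_fieldPtOfHom, Points.map_mk_fieldPtOfHom, hrt]
    · rw [Points.map_mk_fieldPtOfHom, Points.map_mk_fieldPtOfHom, hrs]
  · rintro x y z ⟨r, rfl, rfl⟩ ⟨r', hy, rfl⟩
    obtain ⟨K, _, strK, ρ, rfl⟩ := Points.exists_hom r
    obtain ⟨L, _, strL, ρ', rfl⟩ := Points.exists_hom r'
    rw [Points.map_mk_fieldPtOfHom, Points.map_mk_fieldPtOfHom, mk_fieldPtOfHom_eq_iff] at hy
    obtain ⟨Ω, _, w, d, c, hcd⟩ := hy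
    -- hcd : yon d ≫ ρ' ≫ t = yon c ≫ ρ ≫ s
    obtain ⟨r'', hrt, hrs⟩ := (h (Over.mk w)).trans
      (⟨(yon S).map c ≫ ρ, rfl, rfl⟩ : ∃ r₀ : (yon S).obj (Over.mk w) ⟶ R,
        r₀ ≫ t = ((yon S).map c ≫ ρ) ≫ t ∧ r₀ ≫ s = ((yon S).map c ≫ ρ) ≫ s)
      (⟨(yon S).map d ≫ ρ', by rw [Category.assoc, Category.assoc, hcd], rfl⟩ :
        ∃ r₀ : (yon S).obj (Over.mk w) ⟶ R,
        r₀ ≫ t = ((yon S).map c ≫ ρ) ≫ s ∧ r₀ ≫ s = ((yon S).map d ≫ ρ') ≫ s)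
    refine ⟨Points.mk (fieldPtOfHom Ω w r''), ?_, ?_⟩
    · rw [Points.map_mk_fieldPtOfHom, Points.map_mk_fieldPtOfHom, hrt, mk_fieldPtOfHom_eq_iff]
      exact ⟨Ω, inferInstance, w, 𝟙 _, c, by simp⟩
    · rw [Points.map_mk_fieldPtOfHom, Points.map_mk_fieldPtOfHom, hrs, mk_fieldPtOfHom_eq_iff]
      exact ⟨Ω, inferInstance, w, 𝟙 _, d, by simp⟩

end Groth.Agent.Lib.Helper3.PreEqvPts
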