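import Mathlib

set_option autoImplicit false
universe u

namespace Groth.Agent.Lib.Helper3.Punct

open IsLocalRing

/-- In a Noetherian local domain with a prime strictly between `⊥` and the maximal ideal, every
nonzero element is avoided by some such prime. -/
theorem exists_prime_avoiding {D : Type*} [CommRing D] [IsDomain D] [IsNoetherianRing D]
    [IsLocalRing D] (P : Ideal D) [P.IsPrime] (hP0 : P ≠ ⊥) (hPm : P ≠ maximalIdeal D)
    (f : D) (hf : f ≠ 0) :
    ∃ q : Ideal D, q.IsPrime ∧ q ≠ ⊥ ∧ q ≠ maximalIdeal D ∧ f ∉ q := by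
  by_contra H
  push Not at H
  -- height of the maximal ideal is at least two
  have hPlt : P < maximalIdeal D := lt_of_le_of_ne (le_maximalIdeal Ideal.IsPrime.ne_top') hPm
  have h0P : (⊥ : Ideal D) < P := bot_lt_iff_ne_bot.2 hP0
  have hh1 : (1 : ℕ∞) ≤ P.height := by
    have := Ideal.height_strict_mono_of_isPrime h0P
    rw [Ideal.height_bot] at this
    exact Order.one_le_iff_pos.2 this
  have hh2 : (1 : ℕ∞) < (maximalIdeal D).height :=
    lt_of_le_of_lt hh1 (Ideal.height_strict_mono_of_isPrime hPlt)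
  have hfP : f ∈ P := H P inferInstance hP0 hPm
  have hfu : ¬ IsUnit f := fun hu => Ideal.IsPrime.ne_top' (Ideal.eq_top_of_isUnit_mem _ hfP hu)
  have hQfin : (Ideal.span {f}).minimalPrimes.Finite :=
    Ideal.finite_minimalPrimes_of_isNoetherianRing D _
  -- every element of the maximal ideal lies in a minimal prime of `(f)`
  have hcov : ((maximalIdeal D : Ideal D) : Set D) ⊆
      ⋃ q ∈ (hQfin.toFinset : Set (Ideal D)), (q : Set D) := by
    intro y hy
    simp only [Set.Finite.coe_toFinset, Set.mem_iUnion, SetLike.mem_coe, exists_prop]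
    by_cases hy0 : y = 0
    · obtain ⟨q, hq⟩ := Ideal.nonempty_minimalPrimes (I := Ideal.span {f})
        (by rwa [Ne, Ideal.span_singleton_eq_top])
      exact ⟨q, hq, hy0 ▸ q.zero_mem⟩
    have hyu : ¬ IsUnit y := (mem_maximalIdeal y).1 hy
    obtain ⟨q, hq⟩ := Ideal.nonempty_minimalPrimes (I := Ideal.span {y})
      (by rwa [Ne, Ideal.span_singleton_eq_top])
    haveI := hq.1.1
    have hyq : y ∈ q := hq.1.2 (Ideal.mem_span_singleton_self y)
    have hq0 : q ≠ ⊥ := fun h => hy0 (by rw [h] at hyq; exact hyq)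
    have hqh : q.height ≤ 1 :=
      Ideal.height_le_one_of_isPrincipal_of_mem_minimalPrimes (Ideal.span {y}) q hq
    have hqm : q ≠ maximalIdeal D := by
      rintro rfl
      exact absurd hqh (not_le.2 hh2)
    have hfq : f ∈ q := H q inferInstance hq0 hqm
    refine ⟨q, ?_, hyq⟩
    refine Ideal.mem_minimalPrimes_of_height_le ((Ideal.span_singleton_le_iff_mem q).2 hfq) ?_
    refine hqh.trans ?_
    exact Ideal.one_le_height_span_singleton_of_mem_nonZeroDivisors
      (mem_nonZeroDivisors_of_ne_zero hf)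
  obtain ⟨q, hq, hmq⟩ := (Ideal.subset_union_prime (R := D) (f := fun q : Ideal D => q)
    (s := hQfin.toFinset) ⊥ ⊥ (fun i hi _ _ => by
      rw [Set.Finite.mem_toFinset] at hi
      exact hi.1.1)).1 hcov
  rw [Set.Finite.mem_toFinset] at hq
  haveI := hq.1.1
  have hqeq : q = maximalIdeal D :=
    le_antisymm (le_maximalIdeal Ideal.IsPrime.ne_top') hmq
  have hqh : q.height ≤ 1 :=
    Ideal.height_le_one_of_isPrincipal_of_mem_minimalPrimes (Ideal.span {f}) q hq
  rw [hqeq] at hqh
  exact absurd hqh (not_le.2 hh2)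

end Groth.Agent.Lib.Helper3.Punct
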