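import Groth.Agent.Lib.Helper3.Punct1

set_option autoImplicit false
universe u

namespace Groth.Agent.Lib.Helper3.Punct

open IsLocalRing

/-- In a Noetherian local ring, for primes `p₀ < p₁ < 𝔪` and `f ∉ p₀` there is a prime `q` with
`p₀ < q < 𝔪` avoiding `f`. -/
theorem exists_prime_between {A : Type*} [CommRing A] [IsNoetherianRing A] [IsLocalRing A]
    (p₀ p₁ : Ideal A) [p₀.IsPrime] [p₁.IsPrime] (h01 : p₀ < p₁) (h1m : p₁ < maximalIdeal A)
    (f : A) (hf : f ∉ p₀) :
    ∃ q : Ideal A, q.IsPrime ∧ p₀ < q ∧ q < maximalIdeal A ∧ f ∉ q := by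
  let mk := Ideal.Quotient.mk p₀
  have hsurj : Function.Surjective mk := Ideal.Quotient.mk_surjective
  haveI : IsLocalRing (A ⧸ p₀) := IsLocalRing.of_surjective' mk hsurj
  have hker : RingHom.ker mk = p₀ := Ideal.mk_ker
  -- non-units go to non-units
  have hnu : ∀ a : A, a ∈ maximalIdeal A → mk a ∈ maximalIdeal (A ⧸ p₀) := by
    intro a ha
    rw [mem_maximalIdeal, mem_nonunits_iff] at ha ⊢
    intro hu
    obtain ⟨c, hc⟩ := hu.exists_right_inv
    obtain ⟨c', rfl⟩ := hsurj c
    have h1 : a * c' - 1 ∈ p₀ := by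
      rw [← hker, RingHom.mem_ker, map_sub, map_mul, hc, map_one, sub_self]
    have h2 : a * c' - 1 ∈ maximalIdeal A :=
      (le_maximalIdeal Ideal.IsPrime.ne_top') h1
    have h3 : IsUnit (a * c') := by
      have : a * c' = 1 + (a * c' - 1) := by ring
      rw [this]
      have := (mem_maximalIdeal _).1 h2
      by_contra hcon
      have h4 : (1 + (a * c' - 1)) ∈ maximalIdeal A := (mem_maximalIdeal _).2 hcon
      have h5 : (1 : A) ∈ maximalIdeal A := by
        have := Ideal.sub_mem _ h4 h2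
        simpa using this
      exact (Ideal.ne_top_iff_one _).1 (maximalIdeal.isMaximal A).ne_top h5
    exact ha (isUnit_of_mul_isUnit_left h3)
  have hP : (p₁.map mk).IsPrime :=
    Ideal.map_isPrime_of_surjective hsurj (by rw [hker]; exact h01.le)
  have hcm : (p₁.map mk).comap mk = p₁ := by
    rw [Ideal.comap_map_of_surjective mk hsurj, ← RingHom.ker_eq_comap_bot, hker]
    exact sup_eq_left.2 h01.le
  have hP0 : p₁.map mk ≠ ⊥ := by
    intro h
    obtain ⟨a, ha1, ha0⟩ := Set.exists_of_ssubset h01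
    have : mk a ∈ p₁.map mk := Ideal.mem_map_of_mem mk ha1
    rw [h, Ideal.mem_bot] at this
    have : a ∈ RingHom.ker mk := this
    rw [hker] at this
    exact ha0 this
  have hPm : p₁.map mk ≠ maximalIdeal (A ⧸ p₀) := by
    intro h
    obtain ⟨b, hbm, hb1⟩ := Set.exists_of_ssubset h1m
    have : mk b ∈ p₁.map mk := by rw [h]; exact hnu b hbm
    have : b ∈ (p₁.map mk).comap mk := this
    rw [hcm] at this
    exact hb1 this
  have hf0 : mk f ≠ 0 := by
    intro h
    have : f ∈ RingHom.ker mk := h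
    rw [hker] at this
    exact hf this
  obtain ⟨q, hq, hq0, hqm, hfq⟩ := exists_prime_avoiding (p₁.map mk) hP0 hPm (mk f) hf0
  refine ⟨q.comap mk, inferInstance, ?_, ?_, fun h => hfq h⟩
  · refine lt_of_le_of_ne ?_ ?_
    · exact hker.symm.le.trans (Ideal.ker_le_comap mk)
    · intro h
      apply hq0
      rw [← Ideal.map_comap_of_surjective mk hsurj q, ← h, Ideal.map_eq_bot_iff_le_ker]
      exact hker.symm.le
  · refine lt_of_le_of_ne (le_maximalIdeal Ideal.IsPrime.ne_top') ?_
    intro h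
    apply hqm
    refine le_antisymm (le_maximalIdeal Ideal.IsPrime.ne_top') ?_
    intro x hx
    obtain ⟨a, rfl⟩ := hsurj x
    have ha : a ∈ maximalIdeal A := by
      rw [mem_maximalIdeal, mem_nonunits_iff]
      intro hu
      exact (mem_maximalIdeal _).1 hx (hu.map mk)
    rw [← h] at ha
    exact ha

end Groth.Agent.Lib.Helper3.Punct
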