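import Groth.Agent.Lib.Helper3.Punct2

set_option autoImplicit false
universe u

namespace Groth.Agent.Lib.Helper3.Punct

open IsLocalRing AlgebraicGeometry CategoryTheory

/-- In a locally Noetherian scheme, given a chain of proper specializations `p₀ ⤳ p₁ ⤳ u` and an
open neighbourhood `O` of `p₀`, there is a point of `O` strictly between `p₀` and `u`. -/
theorem exists_point_between {U : Scheme.{u}} [IsLocallyNoetherian U] (u p₀ p₁ : ↥U)
    (h01 : p₀ ⤳ p₁) (h1u : p₁ ⤳ u) (hne01 : p₀ ≠ p₁) (hne1u : p₁ ≠ u) (O : Set ↥U)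
    (hO : IsOpen O) (hp₀ : p₀ ∈ O) :
    ∃ q : ↥U, q ∈ O ∧ p₀ ⤳ q ∧ q ⤳ u ∧ q ≠ p₀ ∧ q ≠ u := by
  let A := U.presheaf.stalk u
  let j : Spec A ⟶ U := U.fromSpecStalk u
  have hemb : Topology.IsEmbedding j := j.isEmbedding
  have hrange : Set.range j = {y | y ⤳ u} := Scheme.range_fromSpecStalk
  have hcl : j (closedPoint A) = u := Scheme.fromSpecStalk_closedPoint
  obtain ⟨P₁, hP₁⟩ : p₁ ∈ Set.range j := by rw [hrange]; exact h1u
  obtain ⟨P₀, hP₀⟩ : p₀ ∈ Set.range j := by rw [hrange]; exact h01.trans h1u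
  have hs01 : (P₀ : PrimeSpectrum A) ⤳ P₁ := by
    rw [← hemb.isInducing.specializes_iff, hP₀, hP₁]; exact h01
  have hs1m : (P₁ : PrimeSpectrum A) ⤳ closedPoint A := by
    rw [← hemb.isInducing.specializes_iff, hP₁, hcl]; exact h1u
  have hle01 : (P₀ : PrimeSpectrum A).asIdeal ≤ (P₁ : PrimeSpectrum A).asIdeal :=
    (PrimeSpectrum.asIdeal_le_asIdeal _ _).2 ((PrimeSpectrum.le_iff_specializes _ _).2 hs01)
  have hlt01 : (P₀ : PrimeSpectrum A).asIdeal < (P₁ : PrimeSpectrum A).asIdeal := by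
    refine lt_of_le_of_ne hle01 fun h => hne01 ?_
    rw [← hP₀, ← hP₁]
    exact congrArg j (PrimeSpectrum.ext h)
  have hlt1m : (P₁ : PrimeSpectrum A).asIdeal < maximalIdeal A := by
    refine lt_of_le_of_ne (le_maximalIdeal (P₁ : PrimeSpectrum A).isPrime.ne_top) fun h => hne1u ?_
    rw [← hP₁, ← hcl]
    exact congrArg j (PrimeSpectrum.ext h)
  have hopen : IsOpen (j ⁻¹' O) := hO.preimage j.continuous
  have hmem : P₀ ∈ j ⁻¹' O := by change j P₀ ∈ O; rw [hP₀]; exact hp₀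
  obtain ⟨_, ⟨f, rfl⟩, hfP₀, hfO⟩ :=
    (PrimeSpectrum.isTopologicalBasis_basic_opens (R := A)).exists_subset_of_mem_open hmem hopen
  haveI := (P₀ : PrimeSpectrum A).isPrime
  haveI := (P₁ : PrimeSpectrum A).isPrime
  obtain ⟨q, hq, hP₀q, hqm, hfq⟩ := exists_prime_between (P₀ : PrimeSpectrum A).asIdeal
    (P₁ : PrimeSpectrum A).asIdeal hlt01 hlt1m f hfP₀
  let Q : PrimeSpectrum A := ⟨q, hq⟩
  refine ⟨j Q, hfO hfq, ?_, ?_, ?_, ?_⟩
  · rw [← hP₀]
    refine (hemb.isInducing.specializes_iff).2 ?_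
    exact (PrimeSpectrum.le_iff_specializes (P₀ : PrimeSpectrum A) Q).1
      ((PrimeSpectrum.asIdeal_le_asIdeal _ _).1 hP₀q.le)
  · rw [← hcl]
    refine (hemb.isInducing.specializes_iff).2 ?_
    exact (PrimeSpectrum.le_iff_specializes Q (closedPoint A)).1
      ((PrimeSpectrum.asIdeal_le_asIdeal _ _).1 hqm.le)
  · intro h
    rw [← hP₀] at h
    have := hemb.injective h
    exact hP₀q.ne (congrArg PrimeSpectrum.asIdeal this).symm
  · intro h
    rw [← hcl] at h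
    have := hemb.injective h
    exact hqm.ne (congrArg PrimeSpectrum.asIdeal this)

end Groth.Agent.Lib.Helper3.Punct
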