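import Mathlib

set_option autoImplicit false
universe u

namespace Groth.Agent.Lib.Helper3.Punct

open TopologicalSpace Topology

/-- The space of proper generizations of a point of a quasi-sober T0 space is quasi-sober. -/
theorem quasiSober_properGenerizations {Y : Type*} [TopologicalSpace Y] [QuasiSober Y] [T0Space Y]
    (x : Y) : QuasiSober {y : Y // y ⤳ x ∧ y ≠ x} := by
  constructor
  intro Z hZi hZc
  have hind : IsInducing (Subtype.val : {y : Y // y ⤳ x ∧ y ≠ x} → Y) := IsInducing.subtypeVal
  have hZ'i : IsIrreducible (closure (Subtype.val '' Z)) :=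
    (hZi.image _ continuous_subtype_val.continuousOn).closure
  obtain ⟨η, hη⟩ := QuasiSober.sober hZ'i isClosed_closure
  obtain ⟨z, hz⟩ := hZi.nonempty
  have hz' : z.1 ∈ closure (Subtype.val '' Z) := subset_closure ⟨z, hz, rfl⟩
  have hηz : η ⤳ z.1 := hη.specializes hz'
  have hηx : η ⤳ x := hηz.trans z.2.1
  have hηne : η ≠ x := by
    rintro rfl
    exact z.2.2 (z.2.1.antisymm hηz).eq
  have hZeq : Z = Subtype.val ⁻¹' closure (Subtype.val '' Z) := by
    have := hind.closure_eq_preimage_closure_image Z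
    rw [hZc.closure_eq] at this
    exact this
  refine ⟨⟨η, hηx, hηne⟩, ?_⟩
  change closure {(⟨η, hηx, hηne⟩ : {y : Y // y ⤳ x ∧ y ≠ x})} = Z
  rw [hind.closure_eq_preimage_closure_image, Set.image_singleton, hη.def, ← hZeq]

/-- A Noetherian T0 space in which every non-closed point has, in each of its open
neighbourhoods, a proper specialization, is Jacobson. -/
theorem jacobsonSpace_of_exists_specialization {W : Type*} [TopologicalSpace W] [T0Space W]
    [NoetherianSpace W]
    (K : ∀ w : W, ¬ IsClosed ({w} : Set W) → ∀ O : Set W, IsOpen O → w ∈ O →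
      ∃ w' ∈ O, w ⤳ w' ∧ w' ≠ w) : JacobsonSpace W := by
  rw [jacobsonSpace_iff_locallyClosed]
  intro Z hZne hZlc
  obtain ⟨O, C, hO, hC, rfl⟩ := hZlc
  haveI : CompactSpace ↥(O ∩ C) := isCompact_iff_compactSpace.1 (NoetherianSpace.isCompact _)
  haveI : Nonempty ↥(O ∩ C) := hZne.to_subtype
  obtain ⟨z, -, hz⟩ := IsClosed.exists_closed_singleton (X := ↥(O ∩ C)) isClosed_univ
    Set.univ_nonempty
  refine ⟨z.1, z.2, ?_⟩
  rw [mem_closedPoints_iff]
  by_contra hncl
  obtain ⟨w', hw'O, hzw', hne⟩ := K z.1 hncl O hO z.2.1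
  have hw'C : w' ∈ C := hzw'.mem_closed hC z.2.2
  have hmem : (⟨w', hw'O, hw'C⟩ : ↥(O ∩ C)) ∈ closure ({z} : Set ↥(O ∩ C)) := by
    rw [← specializes_iff_mem_closure]
    exact IsInducing.subtypeVal.specializes_iff.1 hzw'
  rw [hz.closure_eq] at hmem
  exact hne (congrArg Subtype.val (Set.mem_singleton_iff.1 hmem))

/-- A Noetherian quasi-sober T0 space is spectral. -/
theorem spectralSpace_of_noetherian {W : Type*} [TopologicalSpace W] [T0Space W]
    [NoetherianSpace W] [QuasiSober W] : SpectralSpace W where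
  isCompact_univ := NoetherianSpace.isCompact _
  inter_isCompact := fun _ _ _ _ _ _ => NoetherianSpace.isCompact _

end Groth.Agent.Lib.Helper3.Punct
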