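import Groth.Agent.Lib.Helper3.Punct3
import Groth.Agent.Lib.Helper3.Punct4
import Groth.Agent.S10338
import Groth.Agent.S10339
import Groth.Agent.S10340
import Groth.Agent.Lib.Helper3.AlgSpGenLift
import Groth.Agent.Lib.Helper3.AlgSpNoethChart
import Groth.Agent.Lib.Helper3.AlgSpIntegralDim

set_option autoImplicit false
universe u

namespace Groth.Agent.Lib.Helper3.Punct

open CategoryTheory CategoryTheory.Limits AlgebraicGeometry TopologicalSpace Topology Opposite AlgSp
open Groth.Agent.Lib.Helper3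

variable {S : Scheme.{u}}

/-- **S10405.** -/
theorem main10405 (X : AlgSp.Space S)
    (hd : AlgSp.IsDecent X.obj) (hN : AlgSp.IsLocNoethSp X.obj) (x : AlgSp.Points X.obj) :
    NoetherianSpace {x' : AlgSp.Points X.obj // x' ⤳ x ∧ x' ≠ x} ∧
      SpectralSpace {x' : AlgSp.Points X.obj // x' ⤳ x ∧ x' ≠ x} ∧
      QuasiSober {x' : AlgSp.Points X.obj // x' ⤳ x ∧ x' ≠ x} ∧
      JacobsonSpace {x' : AlgSp.Points X.obj // x' ⤳ x ∧ x' ≠ x} := by
  haveI : T0Space (Points X.obj) := Groth.Agent.S10338.result X hd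
  haveI : QuasiSober (Points X.obj) := Groth.Agent.S10339.result X hd
  obtain ⟨U, a, u, hU, ha, hu⟩ := exists_affine_chart_through X.property x
  haveI : IsAffine U.left := hU
  haveI : IsLocallyNoetherian U.left := isLocallyNoetherian_of_isLocNoethSp hN a ha
  haveI : IsNoetherian U.left := { }
  haveI : NoetherianSpace ↥U.left := IsNoetherian.noetherianSpace
  have hlift : ∀ (v : ↥U.left) (x' : Points X.obj), x' ⤳ Points.ofPt a v →
      ∃ v' : ↥U.left, v' ⤳ v ∧ Points.ofPt a v' = x' := by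
    intro v x' h
    obtain ⟨p, hp, -, hq⟩ := hd x'
    obtain ⟨v', h1, h2⟩ :=
      exists_specializes_lift_of_qc_point (Points.ofPt a v) p (hp ▸ h) hq a ha v rfl
    exact ⟨v', h1, h2.trans hp⟩
  have hinj : ∀ v v' : ↥U.left, v' ⤳ v → Points.ofPt a v = Points.ofPt a v' → v = v' :=
    fun v v' hs he => Groth.Agent.S10340.result X hd a ha v v' he hs
  have hcont : Continuous (Points.ofPt a) := Points.continuous_ofPt a
  -- the punctured generizations of `u`
  let φ : {v : ↥U.left // v ⤳ u ∧ v ≠ u} → {x' : Points X.obj // x' ⤳ x ∧ x' ≠ x} := fun v =>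
    ⟨Points.ofPt a v.1, by rw [← hu]; exact v.2.1.map hcont,
      fun h => v.2.2 (hinj u v.1 v.2.1 (hu.trans h.symm)).symm⟩
  have hφc : Continuous φ := (hcont.comp continuous_subtype_val).subtype_mk _
  have hφs : Function.Surjective φ := by
    rintro ⟨w, hw1, hw2⟩
    obtain ⟨v, hv1, hv2⟩ := hlift u w (by rw [hu]; exact hw1)
    refine ⟨⟨v, hv1, ?_⟩, Subtype.ext hv2⟩
    rintro rfl
    exact hw2 (hv2.symm.trans hu)
  haveI : NoetherianSpace {v : ↥U.left // v ⤳ u ∧ v ≠ u} :=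
    IsInducing.subtypeVal.noetherianSpace
  haveI hWN : NoetherianSpace {x' : Points X.obj // x' ⤳ x ∧ x' ≠ x} :=
    noetherianSpace_of_surjective φ hφc hφs
  haveI hWS : QuasiSober {x' : Points X.obj // x' ⤳ x ∧ x' ≠ x} :=
    quasiSober_properGenerizations x
  refine ⟨hWN, spectralSpace_of_noetherian, hWS, ?_⟩
  refine jacobsonSpace_of_exists_specialization ?_
  rintro w hwncl O hO hwO
  obtain ⟨O', hO', rfl⟩ := isOpen_induced_iff.1 hO
  -- a proper specialization of `w` in `W`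
  obtain ⟨w₁, hw₁, hne₁⟩ : ∃ w₁ : {x' : Points X.obj // x' ⤳ x ∧ x' ≠ x}, w ⤳ w₁ ∧ w₁ ≠ w := by
    by_contra hcon
    push Not at hcon
    apply hwncl
    have : closure ({w} : Set {x' : Points X.obj // x' ⤳ x ∧ x' ≠ x}) = {w} := by
      refine Set.Subset.antisymm ?_ subset_closure
      intro w₁ hw₁
      exact hcon w₁ (specializes_iff_mem_closure.2 hw₁)
    rw [← this]
    exact isClosed_closure
  have hw₁' : w.1 ⤳ w₁.1 := IsInducing.subtypeVal.specializes_iff.2 hw₁
  obtain ⟨v₁, hv₁u, hv₁⟩ := hlift u w₁.1 (by rw [hu]; exact w₁.2.1)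
  obtain ⟨v₀, hv₀₁, hv₀⟩ := hlift v₁ w.1 (by rw [hv₁]; exact hw₁')
  have hne01 : v₀ ≠ v₁ := by
    rintro rfl
    exact hne₁ (Subtype.ext (hv₁.symm.trans hv₀))
  have hne1u : v₁ ≠ u := by
    rintro rfl
    exact w₁.2.2 (hv₁.symm.trans hu)
  obtain ⟨q, hqO, h0q, hqu, hq0, hqu'⟩ := exists_point_between u v₀ v₁ hv₀₁ hv₁u hne01 hne1u
    (Points.ofPt a ⁻¹' O') (hO'.preimage hcont) (by
      change Points.ofPt a v₀ ∈ O'
      rw [hv₀]; exact hwO)
  have hqx : Points.ofPt a q ≠ x := fun h => hqu' (hinj u q hqu (hu.trans h.symm)).symm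
  refine ⟨⟨Points.ofPt a q, by rw [← hu]; exact hqu.map hcont, hqx⟩, hqO, ?_, ?_⟩
  · refine IsInducing.subtypeVal.specializes_iff.1 ?_
    change w.1 ⤳ Points.ofPt a q
    rw [← hv₀]
    exact h0q.map hcont
  · intro h
    have h' : Points.ofPt a q = w.1 := congrArg Subtype.val h
    exact hq0 (hinj q v₀ h0q (h'.trans hv₀.symm))

end Groth.Agent.Lib.Helper3.Punct
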