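import Mathlib
import Groth.Agent.Lib.Helper3.Rep0418H

set_option autoImplicit false
universe u

namespace Groth.Agent.Lib.Helper3.QAOverEt

open CategoryTheory CategoryTheory.Limits AlgebraicGeometry Opposite AlgSp
open Groth.Agent.Lib.Helper3

variable {S : Scheme.{u}}

/-- If `X ≅ h_{X₀}` and `V ≅ h_{V₀}` with `V₀` quasi-compact and `φ : V ⟶ X` is étale locally étale,
then the image of `φ` on points is the set of points of a quasi-compact open subscheme. -/
theorem exists_open_subscheme_range {X V : Sp S} {X₀ V₀ : Over S} (eX : (yon S).obj X₀ ≅ X)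
    (eV : (yon S).obj V₀ ≅ V) [CompactSpace ↥V₀.left] (φ : V ⟶ X) (hφ : LocP @Etale φ) :
    ∃ (W : Over S) (i : (yon S).obj W ⟶ X), RepWith @IsOpenImmersion i ∧ CompactSpace ↥W.left ∧
      Set.range (Points.map i) = Set.range (Points.map φ) := by
  obtain ⟨φ₀, hφ₀⟩ := (yon S).map_surjective (eV.hom ≫ φ ≫ eX.inv)
  have hiso : ∀ {A B : Scheme.{u}} (g : A ⟶ B), IsIso g → Etale g :=
    fun g hg => inferInstance
  have h1 : Etale φ₀.left := by
    refine hφ eV.hom eX.hom φ₀ (S9937.repWith_of_isIso _ hiso _)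
      (S9937.repWith_of_isIso _ hiso _) ?_
    rw [hφ₀, Category.assoc, Category.assoc, Iso.inv_hom_id, Category.comp_id]
  let O : X₀.left.Opens := ⟨Set.range φ₀.left, φ₀.left.isOpenMap.isOpen_range⟩
  let W : Over S := Over.mk (O.ι ≫ X₀.hom)
  let ι : W ⟶ X₀ := Over.homMk O.ι rfl
  have hcomp : CompactSpace ↥W.left := by
    have : IsCompact (O : Set ↥X₀.left) := isCompact_range φ₀.left.continuous
    exact isCompact_iff_compactSpace.1 this
  refine ⟨W, (yon S).map ι ≫ eX.hom, ?_, hcomp, ?_⟩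
  · refine MorphismProperty.comp_mem _ _ _ ((repWith_yon_map_iff _ _).2
      (inferInstanceAs (IsOpenImmersion O.ι))) (S9937.repWith_of_isIso _ (fun {A B} g hg => (inferInstance : IsOpenImmersion g)) _)
  · have h2 : Set.range (Points.map φ) = Set.range (Points.map ((yon S).map φ₀ ≫ eX.hom)) := by
      rw [hφ₀, Category.assoc, Category.assoc, Iso.inv_hom_id, Category.comp_id]
      apply Set.Subset.antisymm
      · rintro _ ⟨x, rfl⟩
        refine ⟨Points.map eV.inv x, ?_⟩
        rw [← Points.map_comp, Iso.inv_hom_id_assoc]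
      · rintro _ ⟨x, rfl⟩
        exact ⟨Points.map eV.hom x, by rw [← Points.map_comp]⟩
    rw [h2]
    apply Set.Subset.antisymm
    · rintro _ ⟨x, rfl⟩
      obtain ⟨w, rfl⟩ := (Points.schemeHomeo W).surjective x
      obtain ⟨v, hv⟩ : (ι.left w) ∈ Set.range φ₀.left := w.2
      refine ⟨Points.schemeHomeo V₀ v, ?_⟩
      rw [Points.map_comp, Points.map_comp, Points.map_yon_map_apply, Points.map_yon_map_apply, hv]
    · rintro _ ⟨x, rfl⟩
      obtain ⟨v, rfl⟩ := (Points.schemeHomeo V₀).surjective x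
      have hmem : φ₀.left v ∈ O := ⟨v, rfl⟩
      refine ⟨Points.schemeHomeo W ⟨φ₀.left v, hmem⟩, ?_⟩
      rw [Points.map_comp, Points.map_comp, Points.map_yon_map_apply, Points.map_yon_map_apply]
      rfl

theorem main10321 {T T' : Over S} [IsAffine T.left]
    [IsAffine T'.left] (e : T' ⟶ T) [Etale e.left] {X P V' : AlgSp.Space S}
    (f : X ⟶ (AlgSp.ofScheme S).obj T)
    (hsep : AlgSp.IsSeparatedMor f.hom)
    (hqf : AlgSp.LocP (@LocallyQuasiFinite ⊓ @LocallyOfFiniteType) f.hom)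
    (p1 : P ⟶ (AlgSp.ofScheme S).obj T') (p2 : P ⟶ X)
    (sq : IsPullback p2.hom p1.hom f.hom ((AlgSp.yon S).map e)) (j : V' ⟶ P)
    (hj : AlgSp.RepWith @IsOpenImmersion j.hom) (hqa : AlgSp.IsQuasiAffineMor (j ≫ p1).hom) :
    ∃ (W : Over S) (i : (AlgSp.yon S).obj W ⟶ X.obj), AlgSp.RepWith @IsOpenImmersion i ∧
      CompactSpace ↥W.left ∧
      Set.range (AlgSp.Points.map i) = Set.range (AlgSp.Points.map (j ≫ p2).hom) := by
  obtain ⟨X₀, ⟨r⟩⟩ := Rep0418.main10259 T X f hqf hsep
  obtain ⟨V₀, i₀, fst, sqV, hV₀⟩ := hqa (Z := T') inferInstance (𝟙 _)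
  have hfst : IsIso fst := sqV.isIso_fst_of_isIso (IsIso.id _)
  have : CompactSpace ↥V₀.left := hV₀.toCompactSpace
  have h1 : LocP @Etale j.hom :=
    locP_of_repWith isEtLocal_etale _ (repWith_mono isOpenImmersion_le_etale hj)
  have h2 : RepWith @Etale p2.hom :=
    MorphismProperty.of_isPullback sq.flip ((repWith_yon_map_iff _ _).2 ‹Etale e.left›)
  have h3 : LocP @Etale (j ≫ p2).hom :=
    locP_comp isEtLocal_etale V'.property P.property X.property _ _ h1
      (locP_of_repWith isEtLocal_etale _ h2)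
  exact exists_open_subscheme_range (AlgSp.isoOfRepresentableBy r) (asIso fst) _ h3

end Groth.Agent.Lib.Helper3.QAOverEt
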