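import Groth.Agent.Lib.Helper3.AffDescCore

set_option autoImplicit false

universe u
open CategoryTheory CategoryTheory.Limits AlgebraicGeometry Opposite AlgSp

namespace Groth.Agent.Lib.Helper3.QAffDesc

open Groth.Agent.Lib.Helper3.AffDesc

variable {S : Scheme.{u}}

section
variable {Z V W W2 : Over S} {q : V ⟶ Z} {w : W ⟶ V}
  {F : Sp S} {f : F ⟶ (yon S).obj Z} {fst : (yon S).obj W ⟶ F}
  (sq : IsPullback fst ((yon S).map w) f ((yon S).map q))
  {pr₁ : W2 ⟶ W} {pr₂ : W2 ⟶ V} (sq2 : IsPullback pr₁ pr₂ (w ≫ q) q)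

include sq sq2 in
/-- the "action" map `p : W ×_Z V ⟶ W` coming from the descent datum. -/
theorem exists_act : ∃ p : W2 ⟶ W, p ≫ w = pr₂ ∧
    (yon S).map p ≫ fst = (yon S).map pr₁ ≫ fst := by
  have hcomm : ((yon S).map pr₁ ≫ fst) ≫ f = (yon S).map pr₂ ≫ (yon S).map q := by
    rw [Category.assoc, sq.w, ← Functor.map_comp, ← Functor.map_comp, ← Functor.map_comp,
      sq2.w]
  obtain ⟨p, hp⟩ := (yon S).map_surjective (sq.lift _ _ hcomm)
  refine ⟨p, ?_, ?_⟩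
  · exact (yon S).map_injective (by rw [Functor.map_comp, hp, sq.lift_snd])
  · rw [hp, sq.lift_fst]

variable {p : W2 ⟶ W} (hp2 : p ≫ w = pr₂)
  (hp1 : (yon S).map p ≫ fst = (yon S).map pr₁ ≫ fst)

include sq sq2 hp1 hp2 in
theorem exists_diag : ∃ Δ : W ⟶ W2, Δ ≫ pr₁ = 𝟙 W ∧ Δ ≫ pr₂ = w ∧ Δ ≫ p = 𝟙 W := by
  refine ⟨sq2.lift (𝟙 W) w (by simp), sq2.lift_fst _ _ _, sq2.lift_snd _ _ _, ?_⟩
  apply (yon S).map_injective
  apply sq.hom_ext
  · rw [Functor.map_comp, Category.assoc, hp1, ← Functor.map_comp_assoc, sq2.lift_fst]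
  · rw [← Functor.map_comp, Category.assoc, hp2, sq2.lift_snd, CategoryTheory.Functor.map_id,
      Category.id_comp]

variable {W3 : Over S} {pr₁' : W3 ⟶ W2} {pr₂' : W3 ⟶ V}
  (sq3 : IsPullback pr₁' pr₂' (pr₁ ≫ w ≫ q) q)

include sq sq2 hp1 hp2 sq3 in
theorem exists_assoc : ∃ a₁ a₂ : W3 ⟶ W2, a₁ ≫ pr₁ = pr₁' ≫ p ∧ a₁ ≫ pr₂ = pr₂' ∧
    a₂ ≫ pr₁ = pr₁' ≫ pr₁ ∧ a₂ ≫ pr₂ = pr₂' ∧ a₁ ≫ p = a₂ ≫ p := by
  have h1 : (pr₁' ≫ p) ≫ w ≫ q = pr₂' ≫ q := by
    rw [Category.assoc, ← Category.assoc p, hp2, sq2.w.symm, sq3.w]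
  have h2 : (pr₁' ≫ pr₁) ≫ w ≫ q = pr₂' ≫ q := by
    rw [Category.assoc, sq3.w]
  refine ⟨sq2.lift _ _ h1, sq2.lift _ _ h2, sq2.lift_fst _ _ _, sq2.lift_snd _ _ _,
    sq2.lift_fst _ _ _, sq2.lift_snd _ _ _, ?_⟩
  apply (yon S).map_injective
  apply sq.hom_ext
  · have e1 : (yon S).map (sq2.lift _ _ h1 ≫ p) ≫ fst =
        (yon S).map pr₁' ≫ (yon S).map pr₁ ≫ fst := by
      rw [Functor.map_comp, Category.assoc, hp1, ← Functor.map_comp_assoc, sq2.lift_fst,
        Functor.map_comp, Category.assoc, hp1]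
    have e2 : (yon S).map (sq2.lift _ _ h2 ≫ p) ≫ fst =
        (yon S).map pr₁' ≫ (yon S).map pr₁ ≫ fst := by
      rw [Functor.map_comp, Category.assoc, hp1, ← Functor.map_comp_assoc, sq2.lift_fst,
        Functor.map_comp, Category.assoc]
    rw [e1, e2]
  · rw [← Functor.map_comp, ← Functor.map_comp, Category.assoc, Category.assoc, hp2,
      sq2.lift_snd, sq2.lift_snd]

include sq sq2 hp1 hp2 in
/-- a map out of `W` coequalizing `pr₁` and `p` descends to `F`. -/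
theorem exists_desc (hq : Sheaf.IsLocallySurjective ((yon S).map q)) {G : Over S} (c : W ⟶ G)
    (hc : pr₁ ≫ c = p ≫ c) : ∃ u : F ⟶ (yon S).obj G, fst ≫ u = (yon S).map c := by
  have hfst : Sheaf.IsLocallySurjective fst := isLocallySurjective_of_isPullback sq.flip hq
  have hepi : Epi fst := inferInstance
  have := IsRegularEpiCategory.regularEpiOfEpi fst
  have hEff : EffectiveEpi fst := inferInstance
  have hdesc : ∀ {Z' : Sp S} (g₁ g₂ : Z' ⟶ (yon S).obj W), g₁ ≫ fst = g₂ ≫ fst →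
      g₁ ≫ (yon S).map c = g₂ ≫ (yon S).map c := by
    intro Z' g₁ g₂ h
    apply hom_ext_of_yon
    intro T t
    obtain ⟨a, ha'⟩ := (yon S).map_surjective (t ≫ g₁)
    obtain ⟨b, hb'⟩ := (yon S).map_surjective (t ≫ g₂)
    have hab : a ≫ w ≫ q = (b ≫ w) ≫ q := by
      apply (yon S).map_injective
      simp only [CategoryTheory.Functor.map_comp, Category.assoc]
      rw [← sq.w, ha', hb', Category.assoc, Category.assoc, reassoc_of% h]
    have h1 : sq2.lift a (b ≫ w) hab ≫ pr₁ = a := sq2.lift_fst _ _ _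
    have h2 : sq2.lift a (b ≫ w) hab ≫ p = b := by
      apply (yon S).map_injective
      apply sq.hom_ext
      · rw [CategoryTheory.Functor.map_comp, Category.assoc, hp1, ← Functor.map_comp_assoc, h1,
          ha', hb', Category.assoc, Category.assoc, h]
      · rw [← CategoryTheory.Functor.map_comp, ← CategoryTheory.Functor.map_comp, Category.assoc,
          hp2, sq2.lift_snd]
    rw [← Category.assoc, ← Category.assoc, ← ha', ← hb', ← CategoryTheory.Functor.map_comp,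
      ← CategoryTheory.Functor.map_comp]
    congr 1
    rw [← h2, Category.assoc, ← hc, ← Category.assoc, h1]
  exact ⟨EffectiveEpi.desc fst ((yon S).map c) hdesc, EffectiveEpi.fac _ _ _⟩

end

end Groth.Agent.Lib.Helper3.QAffDesc
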