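import Groth.Agent.Lib.Helper3.QAffDescModel
import Groth.Agent.Lib.Helper3.QAffDescOpen
import Mathlib.AlgebraicGeometry.Morphisms.UniversallyOpen

set_option autoImplicit false

universe u
open CategoryTheory CategoryTheory.Limits AlgebraicGeometry Opposite AlgSp

namespace Groth.Agent.Lib.Helper3.QAffDesc

open Groth.Agent.Lib.Helper3.AffDesc

variable {S : Scheme.{u}}

/-- Effective descent of quasi-affine schemes along a flat, universally open cover of affine schemes
which is an epimorphism of fppf sheaves. -/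
theorem exists_quasiAffine_of_cover {Z V W : Over S} [IsAffine Z.left] [IsAffine V.left]
    [W.left.IsQuasiAffine] (q : V ⟶ Z) (w : W ⟶ V) [Flat q.left] [UniversallyOpen q.left]
    (hq : Sheaf.IsLocallySurjective ((yon S).map q))
    {F : Sp S} (f : F ⟶ (yon S).obj Z) (fst : (yon S).obj W ⟶ F)
    (sq : IsPullback fst ((yon S).map w) f ((yon S).map q)) :
    ∃ (W₀ : Over S) (i : W₀ ⟶ Z) (c : W ⟶ W₀) (e : (yon S).obj W₀ ≅ F),
      W₀.left.IsQuasiAffine ∧ e.hom ≫ f = (yon S).map i ∧ (yon S).map c ≫ e.hom = fst ∧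
      IsPullback c w i q := by
  obtain ⟨G₀, G₁, i₀, π, g₁, j, u, hG₀, hG₁, hj, sqG, hjg, hui, hu⟩ :=
    exists_affine_model q w hq f fst sq
  have sqGy : IsPullback ((yon S).map π) ((yon S).map g₁) ((yon S).map i₀) ((yon S).map q) :=
    sqG.map (yon S)
  have sq' : IsPullback fst ((yon S).map j) u ((yon S).map π) := by
    refine IsPullback.of_bot ?_ ?_ sqGy
    · rw [← CategoryTheory.Functor.map_comp, hjg, hui]; exact sq
    · rw [hu, CategoryTheory.Functor.map_comp]
  have sqGL : IsPullback π.left g₁.left i₀.left q.left := sqG.map (Over.forget S)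
  have hπuo : UniversallyOpen π.left := MorphismProperty.of_isPullback sqGL.flip inferInstance
  have hπo : IsOpenMap π.left := π.left.isOpenMap
  have hπ : Sheaf.IsLocallySurjective ((yon S).map π) :=
    isLocallySurjective_of_isPullback sqGy.flip hq
  obtain ⟨O, o, k, e, ho, hro, heu, hke, sqS⟩ := exists_open_of_cover π j hπo hπ u fst sq'
  have hcomp : CompactSpace O.left := by
    rw [← isCompact_univ_iff, o.left.isOpenEmbedding.isEmbedding.isCompact_iff, Set.image_univ, hro]
    refine IsCompact.image ?_ π.left.continuous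
    rw [← Set.image_univ]
    exact IsCompact.image isCompact_univ j.left.continuous
  have hqa : O.left.IsQuasiAffine := Scheme.IsQuasiAffine.of_isImmersion o.left
  refine ⟨O, o ≫ i₀, k, e, hqa, ?_, hke, ?_⟩
  · rw [← hui, ← Category.assoc, heu, CategoryTheory.Functor.map_comp]
  · rw [← hjg]
    exact sqS.paste_vert sqG

end Groth.Agent.Lib.Helper3.QAffDesc
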