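import Groth.Agent.Lib.Helper3.QAffDescMain
import Groth.Agent.Lib.Helper3.AlgSpOpenSubsp
import Groth.Agent.Lib.Helper3.ZarGlue
import Groth.Agent.Lib.Helper3.AlgSpChartPts
import Groth.Agent.Lib.Helper3.AlgSpQC

set_option autoImplicit false

universe u
open CategoryTheory CategoryTheory.Limits AlgebraicGeometry Opposite AlgSp

namespace Groth.Agent.Lib.Helper3.QAffDesc

open Groth.Agent.Lib.Helper3.AffDesc Groth.Agent.Lib.Helper3

variable {S : Scheme.{u}}

section
variable {Z V W W2 : Over S} {q : V ⟶ Z} {w : W ⟶ V}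
  {F : Sp S} {f : F ⟶ (yon S).obj Z} {fst : (yon S).obj W ⟶ F}
  (sq : IsPullback fst ((yon S).map w) f ((yon S).map q))
  {pr₁ : W2 ⟶ W} {pr₂ : W2 ⟶ V} (sq2 : IsPullback pr₁ pr₂ (w ≫ q) q)
  {p : W2 ⟶ W} (hp2 : p ≫ w = pr₂)
  (hp1 : (yon S).map p ≫ fst = (yon S).map pr₁ ≫ fst)

include sq sq2 hp1 hp2 in
/-- the kernel pair of `fst` is represented by `W ×_Z V`. -/
theorem isPullback_kernelPair :
    IsPullback ((yon S).map p) ((yon S).map pr₁) fst fst := by
  have big : IsPullback ((yon S).map p ≫ (yon S).map w) ((yon S).map pr₁) ((yon S).map q)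
      (fst ≫ f) := by
    rw [← CategoryTheory.Functor.map_comp, hp2, sq.w, ← CategoryTheory.Functor.map_comp]
    exact (sq2.map (yon S)).flip
  exact IsPullback.of_right big hp1 sq.flip

end

/-- **Effective descent along an fppf cover of affine schemes** for schemes all of whose
quasi-compact opens are quasi-affine (e.g. separated locally quasi-finite over the affine cover, or
immersed in it). -/
theorem exists_rep_of_cover {Z V W : Over S} [IsAffine Z.left] [IsAffine V.left]
    (q : V ⟶ Z) (w : W ⟶ V) [Flat q.left] [UniversallyOpen q.left] [Surjective q.left]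
    (hq : Sheaf.IsLocallySurjective ((yon S).map q))
    (hW : ∀ (V₀ : Scheme.{u}) (i : V₀ ⟶ W.left), IsOpenImmersion i → CompactSpace V₀ →
      V₀.IsQuasiAffine)
    {F : Sp S} (f : F ⟶ (yon S).obj Z) (fst : (yon S).obj W ⟶ F)
    (sq : IsPullback fst ((yon S).map w) f ((yon S).map q)) :
    ∃ (G : Over S), Nonempty ((yon S).obj G ≅ F) := by
  classical
  let W2 : Over S := pullback (w ≫ q) q
  let pr₁ : W2 ⟶ W := pullback.fst _ _
  let pr₂ : W2 ⟶ V := pullback.snd _ _
  have sq2 : IsPullback pr₁ pr₂ (w ≫ q) q := IsPullback.of_hasPullback _ _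
  obtain ⟨p, hp2, hp1⟩ := exists_act sq sq2
  have kp := isPullback_kernelPair sq sq2 hp2 hp1
  have sq2L : IsPullback pr₁.left pr₂.left (w ≫ q).left q.left := sq2.map (Over.forget S)
  have hqaff : IsAffineHom q.left := inferInstance
  have hpr₁aff : IsAffineHom pr₁.left := MorphismProperty.of_isPullback sq2L.flip hqaff
  -- `fst` is universally open and surjective
  have hfstO : RepWith @UniversallyOpen fst :=
    MorphismProperty.of_isPullback sq.flip ((repWith_yon_map_iff _ q).2 inferInstance)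
  have hfstS : RepWith @Surjective fst :=
    MorphismProperty.of_isPullback sq.flip ((repWith_yon_map_iff _ q).2 inferInstance)
  have hopen : IsOpenMap (Points.ofPt fst) := by
    rw [Points.ofPt_eq]
    exact (isOpenMap_map_of_repWith hfstO).comp (Points.schemeHomeo W).isOpenMap
  have hsurj : Function.Surjective (Points.ofPt fst) := by
    rw [Points.ofPt_eq]
    exact (surjective_map_of_repWith hfstS).comp (Points.schemeHomeo W).surjective
  -- the pieces
  have key : ∀ A : W.left.affineOpens, ∃ (G : Over S) (a : (yon S).obj G ⟶ F),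
      RepWith @IsOpenImmersion a ∧ Points.ofPt fst '' (A.1 : Set W.left) ⊆
        Set.range (Points.ofPt a) := by
    intro A
    let 𝒲 : Set (Points F) := Points.ofPt fst '' (A.1 : Set W.left)
    have h𝒲 : IsOpen 𝒲 := hopen _ A.1.isOpen
    obtain ⟨V₀, fst', snd', sq', hsnd', hr⟩ := exists_isPullback_openSubι F 𝒲 h𝒲 fst
    have hsat : Points.ofPt fst ⁻¹' 𝒲 = p.left '' (pr₁.left ⁻¹' (A.1 : Set W.left)) := by
      ext y
      constructor
      · rintro ⟨x, hx, hxy⟩
        obtain ⟨t, ht1, ht2⟩ := exists_of_ofPt_eq_of_isPullback kp y x hxy.symm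
        exact ⟨t, by simpa [ht2] using hx, ht1⟩
      · rintro ⟨t, ht, rfl⟩
        exact ⟨pr₁.left t, ht, (ofPt_comm_of_isPullback kp t).symm⟩
    have hcompact : IsCompact (Points.ofPt fst ⁻¹' 𝒲) := by
      rw [hsat]
      refine IsCompact.image ?_ p.left.continuous
      exact QuasiCompact.isCompact_preimage (f := pr₁.left) _ A.1.isOpen A.2.isCompact
    have hV₀c : CompactSpace V₀.left := by
      rw [← isCompact_univ_iff, snd'.left.isOpenEmbedding.isEmbedding.isCompact_iff,
        Set.image_univ, hr]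
      exact hcompact
    have hV₀qa : V₀.left.IsQuasiAffine := hW V₀.left snd'.left hsnd' hV₀c
    have sq'' : IsPullback fst' ((yon S).map (snd' ≫ w)) (openSubι F 𝒲 ≫ f) ((yon S).map q) := by
      rw [CategoryTheory.Functor.map_comp]
      exact sq'.paste_vert sq
    obtain ⟨W₀, i, c, e, hW₀, he1, he2, sqS⟩ :=
      exists_quasiAffine_of_cover q (snd' ≫ w) hq (openSubι F 𝒲 ≫ f) fst' sq''
    refine ⟨W₀, e.hom ≫ openSubι F 𝒲, ?_, ?_⟩
    · exact (RepWith @IsOpenImmersion).comp_mem _ _
        ((RepWith @IsOpenImmersion).of_isIso e.hom)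
        (repWith_isOpenImmersion_openSubι F 𝒲 h𝒲)
    · intro x hx
      have hx' : x ∈ Set.range (Points.map (openSubι F 𝒲)) := by
        rw [range_map_openSubι]; exact hx
      obtain ⟨x', rfl⟩ := hx'
      have hbij : Function.Surjective (Points.map e.hom) := by
        intro y
        refine ⟨Points.map e.inv y, ?_⟩
        rw [← Points.map_comp, Iso.inv_hom_id, Points.map_id]
      obtain ⟨x'', rfl⟩ := hbij x'
      obtain ⟨u, rfl⟩ := (Points.schemeHomeo W₀).surjective x''
      refine ⟨u, ?_⟩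
      rw [Points.ofPt_eq, Function.comp_apply, Points.map_comp]
  choose G a ha hcov using key
  obtain ⟨G₀, e, -⟩ := exists_iso_yon_of_openCover a ha (by
    intro x
    obtain ⟨y, rfl⟩ := hsurj x
    obtain ⟨_, ⟨A, hA, rfl⟩, hyA, -⟩ := (W.left.isBasis_affineOpens).exists_subset_of_mem_open
      (Set.mem_univ y) isOpen_univ
    obtain ⟨u, hu⟩ := hcov ⟨A, hA⟩ ⟨y, hyA, rfl⟩
    exact ⟨⟨A, hA⟩, u, hu⟩)
  exact ⟨G₀, ⟨e⟩⟩

end Groth.Agent.Lib.Helper3.QAffDesc
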