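import Groth.Agent.Lib.Helper3.SpCoprod

set_option autoImplicit false

universe u
open CategoryTheory CategoryTheory.Limits AlgebraicGeometry Opposite AlgSp

namespace Groth.Agent.Lib.Helper3.QuotRel

open Groth.Agent.Lib.Helper3

variable {S : Scheme.{u}}

/-- maps from a representable sheaf to a sheaf agree if they agree on a Zariski cover. -/
theorem yon_hom_ext_of_openCover {F : Sp S} {G : Over S} {κ : Type*} (P : κ → Over S)
    (j : ∀ i, P i ⟶ G) (hopen : ∀ i, IsOpenImmersion (j i).left)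
    (hsurj : ∀ g : ↥G.left, ∃ i, g ∈ Set.range (j i).left) (α β : (yon S).obj G ⟶ F)
    (h : ∀ i, (yon S).map (j i) ≫ α = (yon S).map (j i) ≫ β) : α = β := by
  apply (J S).uliftYonedaEquiv.{u+1}.injective
  have hF : Presieve.IsSheaf (AlgSp.J S) F.obj := (isSheaf_iff_isSheaf_of_type _ _).1 F.property
  have hmem := generate_ofArrows_mem_J P j hopen hsurj
  refine (hF _ hmem).isSeparatedFor.ext ?_
  rintro T f ⟨Y, k, _, ⟨i⟩, rfl⟩
  rw [(J S).uliftYonedaEquiv_naturality.{u+1}, (J S).uliftYonedaEquiv_naturality.{u+1},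
    CategoryTheory.Functor.map_comp, Category.assoc, Category.assoc, h i]

/-- **Local lifting**: a section over an affine scheme of the target of a locally surjective map
from a representable sheaf lifts over a single affine fppf cover. -/
theorem exists_affine_fppf_lift {U Z : Over S} {F : Sp S} (π : (yon S).obj U ⟶ F)
    (hπ : Sheaf.IsLocallySurjective π) [IsAffine Z.left] (a : (yon S).obj Z ⟶ F) :
    ∃ (V' : Over S) (q : V' ⟶ Z) (a' : V' ⟶ U), IsAffine V'.left ∧ Flat q.left ∧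
      LocallyOfFinitePresentation q.left ∧ Surjective q.left ∧
      (yon S).map q ≫ a = (yon S).map a' ≫ π := by
  classical
  have hmem := Presheaf.imageSieve_mem (J S) π.hom ((J S).uliftYonedaEquiv.{u+1} a)
  obtain ⟨κ, P, g, hg, hfl, hfp, hsurj⟩ := exists_fppf_family_of_mem_J _ hmem
  -- the local lifts
  have hlift : ∀ k, ∃ ak : P k ⟶ U, (yon S).map (g k) ≫ a = (yon S).map ak ≫ π := by
    intro k
    obtain ⟨⟨ak⟩, hak⟩ := hg k
    refine ⟨ak, ?_⟩
    apply (J S).uliftYonedaEquiv.{u+1}.injective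
    rw [← (J S).uliftYonedaEquiv_naturality.{u+1}, (J S).uliftYonedaEquiv_comp.{u+1},
      (J S).uliftYonedaEquiv_uliftYoneda_map.{u+1}]
    exact hak.symm
  choose ak hak using hlift
  -- affine opens
  have key : ∀ z : ↥Z.left, ∃ (k : κ) (A : (P k).left.Opens), IsAffineOpen A ∧
      z ∈ (g k).left '' (A : Set ↥(P k).left) := by
    intro z
    obtain ⟨k, y, rfl⟩ := hsurj z
    obtain ⟨_, ⟨A, hA, rfl⟩, hyA, -⟩ := ((P k).left.isBasis_affineOpens).exists_subset_of_mem_open
      (Set.mem_univ y) isOpen_univ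
    exact ⟨k, A, hA, y, hyA, rfl⟩
  choose kz A hA hzA using key
  have hopen : ∀ z : ↥Z.left, IsOpen ((g (kz z)).left '' (A z : Set ↥(P (kz z)).left)) := by
    intro z
    have : Flat (g (kz z)).left := hfl _
    have : LocallyOfFinitePresentation (g (kz z)).left := hfp _
    exact (g (kz z)).left.isOpenMap _ (A z).isOpen
  obtain ⟨tt, htt⟩ := isCompact_univ.elim_finite_subcover
    (fun z : ↥Z.left => (g (kz z)).left '' (A z : Set ↥(P (kz z)).left)) hopen
    (fun z _ => Set.mem_iUnion.2 ⟨z, hzA z⟩)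
  let W : (↥tt) → Scheme.{u} := fun i => (A i.1 : Scheme.{u})
  have hWaff : ∀ i, IsAffine (W i) := fun i => hA i.1
  let V'₀ : Scheme.{u} := ∐ W
  let strV : V'₀ ⟶ S := Sigma.desc (fun i => (A i.1).ι ≫ (P (kz i.1)).hom)
  let V' : Over S := Over.mk strV
  let q₀ : V'₀ ⟶ Z.left := Sigma.desc (fun i => (A i.1).ι ≫ (g (kz i.1)).left)
  have hq₀ : q₀ ≫ Z.hom = strV := by
    apply Sigma.hom_ext
    intro i
    simp only [q₀, strV, Sigma.ι_desc_assoc, Sigma.ι_desc, Category.assoc, Over.w]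
  let q : V' ⟶ Z := Over.homMk q₀ hq₀
  let a₀ : V'₀ ⟶ U.left := Sigma.desc (fun i => (A i.1).ι ≫ (ak (kz i.1)).left)
  have ha₀ : a₀ ≫ U.hom = strV := by
    apply Sigma.hom_ext
    intro i
    simp only [a₀, strV, Sigma.ι_desc_assoc, Sigma.ι_desc, Category.assoc, Over.w]
  let a' : V' ⟶ U := Over.homMk a₀ ha₀
  have hqfl : Flat q₀ := IsZariskiLocalAtSource.sigmaDesc (P := @Flat) (fun i => by
    have : Flat (g (kz i.1)).left := hfl _
    infer_instance)
  have hqfp : LocallyOfFinitePresentation q₀ :=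
    IsZariskiLocalAtSource.sigmaDesc (P := @LocallyOfFinitePresentation) (fun i => by
      have : LocallyOfFinitePresentation (g (kz i.1)).left := hfp _
      infer_instance)
  have hqs : Surjective q₀ := by
    refine ⟨fun z => ?_⟩
    have hz := htt (Set.mem_univ z)
    simp only [Set.mem_iUnion] at hz
    obtain ⟨z₀, hz₀, y, hy, rfl⟩ := hz
    refine ⟨(Sigma.ι W ⟨z₀, hz₀⟩) ⟨y, hy⟩, ?_⟩
    rw [← Scheme.Hom.comp_apply]
    have : Sigma.ι W ⟨z₀, hz₀⟩ ≫ q₀ = (A z₀).ι ≫ (g (kz z₀)).left := Sigma.ι_desc _ _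
    rw [this]
    rfl
  refine ⟨V', q, a', inferInstanceAs (IsAffine (∐ W)), hqfl, hqfp, hqs, ?_⟩
  -- the components
  let Pi : (↥tt) → Over S := fun i => Over.mk ((A i.1).ι ≫ (P (kz i.1)).hom)
  let ji : ∀ i, Pi i ⟶ V' := fun i => Over.homMk (Sigma.ι W i) (by
    change Sigma.ι W i ≫ strV = (A i.1).ι ≫ (P (kz i.1)).hom
    exact Sigma.ι_desc _ _)
  let incl : ∀ i, Pi i ⟶ P (kz i.1) := fun i => Over.homMk (A i.1).ι rfl
  have hjq : ∀ i, ji i ≫ q = incl i ≫ g (kz i.1) := by
    intro i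
    apply Over.OverMorphism.ext
    exact Sigma.ι_desc _ _
  have hja : ∀ i, ji i ≫ a' = incl i ≫ ak (kz i.1) := by
    intro i
    apply Over.OverMorphism.ext
    exact Sigma.ι_desc _ _
  refine yon_hom_ext_of_openCover Pi ji (fun i => inferInstanceAs (IsOpenImmersion (Sigma.ι W i)))
    ?_ _ _ ?_
  · intro v
    obtain ⟨i, y, hy⟩ := (Scheme.IsLocallyDirected.openCover (Discrete.functor W)).exists_eq v
    exact ⟨i.as, y, hy⟩
  · intro i
    rw [← Category.assoc, ← Category.assoc, ← CategoryTheory.Functor.map_comp,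
      ← CategoryTheory.Functor.map_comp, hjq, hja, CategoryTheory.Functor.map_comp,
      CategoryTheory.Functor.map_comp, Category.assoc, Category.assoc, hak]

end Groth.Agent.Lib.Helper3.QuotRel
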