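import Groth.Agent.Lib.Helper3.QAffDescDiag
import Groth.Agent.Lib.Helper3.QuotRelLift

set_option autoImplicit false

universe u
open CategoryTheory CategoryTheory.Limits AlgebraicGeometry Opposite AlgSp

namespace Groth.Agent.Lib.Helper3.QuotRel

open Groth.Agent.Lib.Helper3 Groth.Agent.Lib.Helper3.QAffDesc

variable {S : Scheme.{u}}

/-- The pullback of the diagonal of `F` along `g = (a, b)` is representable as soon as `a` and `b`
lift, over an fppf cover, through a chart `π : h_U ⟶ F` whose kernel pair is a scheme `R` with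
`R ⟶ U × U` locally of finite type. -/
theorem exists_isPullback_diag {F : Sp S} {U R T T' : Over S} (π : (yon S).obj U ⟶ F)
    (r₁ r₂ : R ⟶ U) (kp : IsPullback ((yon S).map r₁) ((yon S).map r₂) π π)
    (hlft : LocallyOfFiniteType (prod.lift r₁ r₂).left) (g : (yon S).obj T ⟶ F ⨯ F)
    (q : T' ⟶ T) [Flat q.left] [LocallyOfFinitePresentation q.left] [Surjective q.left]
    (a'' b'' : T' ⟶ U) (hqa : (yon S).map q ≫ g ≫ prod.fst = (yon S).map a'' ≫ π)
    (hqb : (yon S).map q ≫ g ≫ prod.snd = (yon S).map b'' ≫ π) :
    ∃ (G : Over S) (i : G ⟶ T) (fst' : (yon S).obj G ⟶ F),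
      IsPullback fst' ((yon S).map i) (Limits.diag F) g := by
  set a := g ≫ prod.fst with ha
  set b := g ≫ prod.snd with hb
  have hg : g = prod.lift a b := by
    apply prod.hom_ext
    · rw [prod.lift_fst]
    · rw [prod.lift_snd]
  let m : R ⟶ U ⨯ U := prod.lift r₁ r₂
  have hm_mono : Mono m := by
    constructor
    intro Q₀ α β hαβ
    apply (yon S).map_injective
    apply kp.hom_ext
    · rw [← CategoryTheory.Functor.map_comp, ← CategoryTheory.Functor.map_comp]
      congr 1
      have := congrArg (fun k => k ≫ prod.fst) hαβ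
      simp only [Category.assoc] at this
      rw [prod.lift_fst] at this
      exact this
    · rw [← CategoryTheory.Functor.map_comp, ← CategoryTheory.Functor.map_comp]
      congr 1
      have := congrArg (fun k => k ≫ prod.snd) hαβ
      simp only [Category.assoc] at this
      rw [prod.lift_snd] at this
      exact this
  have hm_monoL : Mono m.left := inferInstance
  have hm_lft : LocallyOfFiniteType m.left := hlft
  have hmP : Plqf m.left := plqf_of_mono m.left
  let E' : Over S := pullback (prod.lift a'' b'') m
  let w : E' ⟶ T' := pullback.fst _ _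
  let sE : E' ⟶ R := pullback.snd _ _
  have sqE : IsPullback w sE (prod.lift a'' b'') m := IsPullback.of_hasPullback _ _
  have sqEL : IsPullback w.left sE.left (prod.lift a'' b'').left m.left := sqE.map (Over.forget S)
  have hwP : Plqf w.left := MorphismProperty.of_isPullback sqEL.flip hmP
  have hw_mono : Mono w := inferInstance
  have hyw_mono : Mono ((yon S).map w) := inferInstance
  have hwa : w ≫ a'' = sE ≫ r₁ := by
    have := congrArg (fun k => k ≫ prod.fst) sqE.w
    simp only [Category.assoc] at this
    rw [prod.lift_fst, prod.lift_fst] at this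
    exact this
  have hwb : w ≫ b'' = sE ≫ r₂ := by
    have := congrArg (fun k => k ≫ prod.snd) sqE.w
    simp only [Category.assoc] at this
    rw [prod.lift_snd, prod.lift_snd] at this
    exact this
  have sqEy := sqE.map (yon S)
  have sq6 : IsPullback ((yon S).map w ≫ ((yon S).map q ≫ a)) ((yon S).map w) (Limits.diag F)
      (prod.lift ((yon S).map q ≫ a) ((yon S).map q ≫ b)) := by
    refine isPullback_diag_of_equalizer _ _ _ ?_ ?_
    · rw [hqa, hqb, ← CategoryTheory.Functor.map_comp_assoc, ← CategoryTheory.Functor.map_comp_assoc,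
        hwa, hwb, CategoryTheory.Functor.map_comp, CategoryTheory.Functor.map_comp, Category.assoc,
        Category.assoc, kp.w]
    · intro Q' y' hy'
      rw [hqa, hqb, ← Category.assoc, ← Category.assoc] at hy'
      refine ⟨sqEy.lift y' (kp.lift _ _ hy') ?_, sqEy.lift_fst _ _ _⟩
      apply yon_prod_hom_ext
      · rw [Category.assoc, Category.assoc, ← CategoryTheory.Functor.map_comp,
          ← CategoryTheory.Functor.map_comp, prod.lift_fst, prod.lift_fst, kp.lift_fst]
      · rw [Category.assoc, Category.assoc, ← CategoryTheory.Functor.map_comp,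
          ← CategoryTheory.Functor.map_comp, prod.lift_snd, prod.lift_snd, kp.lift_snd]
  have hqg : prod.lift ((yon S).map q ≫ a) ((yon S).map q ≫ b) = (yon S).map q ≫ g := by
    rw [hg]
    apply prod.hom_ext <;> simp
  rw [hqg] at sq6
  have t := IsPullback.of_hasPullback (Limits.diag F) g
  have sq7 := IsPullback.of_right' sq6 t
  have hrep : Representable (pullback.snd (Limits.diag F) g) :=
    representable_of_cover Plqf (fun g hY hg => isQuasiAffine_of_lqf g hY hg) q w hwP _ _ sq7
  obtain ⟨G, i, fst', sqG⟩ := hrep (𝟙 _)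
  have hiso : IsIso fst' := sqG.isIso_fst_of_isIso
  refine ⟨G, i, fst' ≫ pullback.fst (Limits.diag F) g, ?_⟩
  refine IsPullback.of_iso t (asIso fst').symm (Iso.refl _) (Iso.refl _) (Iso.refl _) ?_ ?_ ?_ ?_
  · simp
  · simp only [Iso.refl_hom, Category.comp_id, Iso.symm_hom, asIso_inv]
    rw [IsIso.eq_inv_comp, sqG.w, Category.comp_id]
  · simp
  · simp

/-- A sheaf with a locally surjective chart from a scheme whose kernel pair is a scheme `R` with
`R ⟶ U × U` locally of finite type has representable diagonal. -/
theorem representable_diag_of_kernelPair {F : Sp S} {U R : Over S} (π : (yon S).obj U ⟶ F)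
    (hπ : Sheaf.IsLocallySurjective π)
    (r₁ r₂ : R ⟶ U) (kp : IsPullback ((yon S).map r₁) ((yon S).map r₂) π π)
    (hlft : LocallyOfFiniteType (prod.lift r₁ r₂).left) : Representable (Limits.diag F) := by
  apply representable_of_affine
  intro Z hZ g
  obtain ⟨V₁, q₁, a₁, hV₁, h11, h12, h13, h14⟩ := exists_affine_fppf_lift π hπ (g ≫ prod.fst)
  obtain ⟨V₂, q₂, b₂, hV₂, h21, h22, h23, h24⟩ :=
    exists_affine_fppf_lift π hπ ((yon S).map q₁ ≫ g ≫ prod.snd)
  have hq1 : Flat (q₂ ≫ q₁).left := by
    change Flat (q₂.left ≫ q₁.left); infer_instance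
  have hq2 : LocallyOfFinitePresentation (q₂ ≫ q₁).left := by
    change LocallyOfFinitePresentation (q₂.left ≫ q₁.left); infer_instance
  have hq3 : Surjective (q₂ ≫ q₁).left := by
    change Surjective (q₂.left ≫ q₁.left); infer_instance
  exact exists_isPullback_diag π r₁ r₂ kp hlft g (q₂ ≫ q₁) (q₂ ≫ a₁) b₂
    (by rw [CategoryTheory.Functor.map_comp, CategoryTheory.Functor.map_comp, Category.assoc,
      Category.assoc, h14])
    (by rw [CategoryTheory.Functor.map_comp, Category.assoc, h24])

end Groth.Agent.Lib.Helper3.QuotRel
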