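import Groth.Agent.Lib.Helper3.QuotRelKernel
import Groth.Prelude.Def_Grpd

set_option autoImplicit false

universe u
open CategoryTheory CategoryTheory.Limits AlgebraicGeometry Opposite AlgSp

namespace Groth.Agent.Lib.Helper3.QuotRel

variable {S : Scheme.{u}}

/-- the relation on `T`-points defined by a groupoid scheme is an equivalence relation. -/
theorem relQ_equivalence_of_groupoid (G : Grpd.GroupoidScheme S) (T : Over S) :
    Equivalence (relQ (Over.homMk G.s G.s_over : Over.mk G.pR ⟶ Over.mk G.pU)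
      (Over.homMk G.t G.t_over : Over.mk G.pR ⟶ Over.mk G.pU) T) := by
  have he : G.e ≫ G.pR = G.pU := by
    rw [← G.s_over, ← Category.assoc, G.e_s, Category.id_comp]
  have hi : G.i ≫ G.pR = G.pR := by
    rw [← G.s_over, ← Category.assoc, G.i_s, G.t_over, G.s_over]
  refine ⟨?_, ?_, ?_⟩
  · rintro ⟨a⟩
    refine ⟨a ≫ (Over.homMk G.e he : Over.mk G.pU ⟶ Over.mk G.pR), ?_, ?_⟩
    · ext
      simp only [Over.comp_left, Over.homMk_left, Category.assoc, G.e_t]
      exact Category.comp_id _
    · ext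
      simp only [Over.comp_left, Over.homMk_left, Category.assoc, G.e_s]
      exact Category.comp_id _
  · rintro ⟨a⟩ ⟨b⟩ ⟨r, h1, h2⟩
    refine ⟨r ≫ (Over.homMk G.i hi : Over.mk G.pR ⟶ Over.mk G.pR), ?_, ?_⟩
    · rw [← h2]
      ext
      simp only [Over.comp_left, Over.homMk_left, Category.assoc, G.i_t]
    · rw [← h1]
      ext
      simp only [Over.comp_left, Over.homMk_left, Category.assoc, G.i_s]
  · rintro ⟨a⟩ ⟨b⟩ ⟨c⟩ ⟨r₁, h1, h2⟩ ⟨r₂, h3, h4⟩
    have hst : r₁.left ≫ G.s = r₂.left ≫ G.t := by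
      have e1 := congrArg (fun k => k.left) h2
      have e2 := congrArg (fun k => k.left) h3
      simp only [Over.comp_left, Over.homMk_left] at e1 e2
      rw [e1, e2]
    have hover : (pullback.lift r₁.left r₂.left hst ≫ G.c) ≫ (Over.mk G.pR).hom = T.hom := by
      change (pullback.lift r₁.left r₂.left hst ≫ G.c) ≫ G.pR = T.hom
      have e0 : (pullback.lift r₁.left r₂.left hst ≫ G.c) ≫ G.pR =
          ((pullback.lift r₁.left r₂.left hst ≫ G.c) ≫ G.s) ≫ G.pU := by
        rw [Category.assoc _ G.s, G.s_over]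
      rw [e0, G.comp_s, Category.assoc, G.s_over]
      exact Over.w r₂
    refine ⟨Over.homMk (pullback.lift r₁.left r₂.left hst ≫ G.c) hover, ?_, ?_⟩
    · rw [← h1]
      ext
      simp only [Over.comp_left, Over.homMk_left]
      exact G.comp_t _ _ hst
    · rw [← h4]
      ext
      simp only [Over.comp_left, Over.homMk_left]
      exact G.comp_s _ _ hst

end Groth.Agent.Lib.Helper3.QuotRel
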