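import Groth.Agent.Lib.Helper3.QuotRelRestrict
import Groth.Agent.Lib.Helper3.QuotRelKernel
import Groth.Agent.S9885

set_option autoImplicit false

universe u
open CategoryTheory CategoryTheory.Limits AlgebraicGeometry Opposite AlgSp

namespace Groth.Agent.Lib.Helper3.QuotRel

open Groth.Agent.Lib.Helper3

variable {S : Scheme.{u}}

section

variable {R U : Over S} (s t : R ⟶ U)

/-- the sieve of maps over which two points become related. -/
def relSieve {T : Over S} (a b : T ⟶ U) : Sieve T where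
  arrows T' f := ∃ ρ : T' ⟶ R, ρ ≫ t = f ≫ a ∧ ρ ≫ s = f ≫ b
  downward_closed := by
    rintro Y Z f ⟨ρ, h1, h2⟩ g
    exact ⟨g ≫ ρ, by rw [Category.assoc, h1, Category.assoc],
      by rw [Category.assoc, h2, Category.assoc]⟩

variable {s t}

/-- **Local effectivity** for pre-equivalence relations. -/
theorem relSieve_mem (hE : ∀ T : Over S, Equivalence (relQ s t T)) {F : Sp S}
    (π : (yon S).obj U ⟶ F)
    (hπ : ∃ φ' : F ⟶ G s t, π ≫ φ' = toG s t) {T : Over S} (a b : T ⟶ U)
    (hab : (yon S).map a ≫ π = (yon S).map b ≫ π) : relSieve s t a b ∈ J S T := by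
  obtain ⟨φ', hφ'⟩ := hπ
  have h1 : (yon S).map a ≫ toG s t = (yon S).map b ≫ toG s t := by
    rw [← hφ', ← Category.assoc, hab, Category.assoc]
  have h2 : (toSheafify (J S) (Q s t)).app (op T) (Quot.mk _ ⟨a⟩) =
      (toSheafify (J S) (Q s t)).app (op T) (Quot.mk _ ⟨b⟩) := by
    have := congrArg (fun k => k.hom.app (op T) ⟨𝟙 T⟩) h1
    have ea : ((yon S).map a).hom.app (op T) ⟨𝟙 T⟩ = ⟨a⟩ := by
      change (⟨𝟙 T ≫ a⟩ : ULift.{u+1} (T ⟶ U)) = ⟨a⟩
      rw [Category.id_comp]
    have eb : ((yon S).map b).hom.app (op T) ⟨𝟙 T⟩ = ⟨b⟩ := by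
      change (⟨𝟙 T ≫ b⟩ : ULift.{u+1} (T ⟶ U)) = ⟨b⟩
      rw [Category.id_comp]
    change (toSheafify (J S) (Q s t)).app (op T) (Quot.mk _ (((yon S).map a).hom.app (op T) ⟨𝟙 T⟩)) =
      (toSheafify (J S) (Q s t)).app (op T) (Quot.mk _ (((yon S).map b).hom.app (op T) ⟨𝟙 T⟩)) at this
    rw [ea, eb] at this
    exact this
  have h3 := Presheaf.equalizerSieve_mem (J S) (toSheafify (J S) (Q s t))
    (X := op T) (Quot.mk _ ⟨a⟩) (Quot.mk _ ⟨b⟩) h2
  refine (J S).superset_covering ?_ h3
  intro T' f hf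
  have hf' : (Quot.mk (relQ s t T') ⟨f ≫ a⟩ : Quot (relQ s t T')) = Quot.mk _ ⟨f ≫ b⟩ := hf
  have := Quot.eqvGen_exact hf'
  rw [(hE T').eqvGen_iff] at this
  exact this

end

/-- the comparison map from a representable sheaf to a pullback is locally surjective as soon as
compatible pairs of points lift locally. -/
theorem isLocallySurjective_lift_of_sieve {X A B : Over S} {D : Sp S} (x₁ : X ⟶ A) (x₂ : X ⟶ B)
    (α : (yon S).obj A ⟶ D) (β : (yon S).obj B ⟶ D)
    (w : (yon S).map x₁ ≫ α = (yon S).map x₂ ≫ β)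
    (H : ∀ {T : Over S} (a : T ⟶ A) (b : T ⟶ B), (yon S).map a ≫ α = (yon S).map b ≫ β →
      ∃ Sv : Sieve T, Sv ∈ J S T ∧ ∀ ⦃T' : Over S⦄ (f : T' ⟶ T), Sv f →
        ∃ x : T' ⟶ X, x ≫ x₁ = f ≫ a ∧ x ≫ x₂ = f ≫ b) :
    Sheaf.IsLocallySurjective (pullback.lift ((yon S).map x₁) ((yon S).map x₂) w) := by
  constructor
  intro T sec
  obtain ⟨y, rfl⟩ := (J S).uliftYonedaEquiv.{u+1}.surjective sec
  obtain ⟨a, ha⟩ := (yon S).map_surjective (y ≫ pullback.fst α β)
  obtain ⟨b, hb⟩ := (yon S).map_surjective (y ≫ pullback.snd α β)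
  obtain ⟨Sv, hSv, hlift⟩ := H a b (by rw [ha, hb, Category.assoc, Category.assoc,
    pullback.condition])
  refine (J S).superset_covering ?_ hSv
  intro T' f hf
  obtain ⟨x, hx1, hx2⟩ := hlift f hf
  refine Groth.Agent.S9885.imageSieve_of_isPullback _ y ((yon S).map x) f ?_
  apply pullback.hom_ext
  · rw [Category.assoc, pullback.lift_fst, Category.assoc, ← ha,
      ← CategoryTheory.Functor.map_comp, ← CategoryTheory.Functor.map_comp, hx1]
  · rw [Category.assoc, pullback.lift_snd, Category.assoc, ← hb,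
      ← CategoryTheory.Functor.map_comp, ← CategoryTheory.Functor.map_comp, hx2]

section restrict

variable {R U R' U' : Over S} (s t : R ⟶ U) (g : U' ⟶ U) (s' t' : R' ⟶ U') (r : R' ⟶ R)

/-- The map of quotient sheaves induced by restricting a pre-equivalence relation (e.g. a
groupoid) is representable by open immersions, provided the saturation of the image is open and
covered as a sheaf. -/
theorem repWith_isOpenImmersion_of_restrict_preEqv
    (hsq : IsPullback (prod.lift t' s') r (prod.map g g) (prod.lift t s))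
    (hE : ∀ T : Over S, Equivalence (relQ s t T))
    {F F' : Sp S} (π : (yon S).obj U ⟶ F) (hπ : Sheaf.IsLocallySurjective π)
    (hcoeq : (yon S).map s ≫ π = (yon S).map t ≫ π)
    (hπw : ∃ φ' : F ⟶ G s t, π ≫ φ' = toG s t)
    (π' : (yon S).obj U' ⟶ F') (hπ' : Sheaf.IsLocallySurjective π')
    (hcoeq' : (yon S).map s' ≫ π' = (yon S).map t' ≫ π')
    (φ : F' ⟶ F) (hφ : π' ≫ φ = (yon S).map g ≫ π)
    {W P : Over S} (j : W ⟶ U) [IsOpenImmersion j.left] (pf : P ⟶ U') (ps : P ⟶ R)
    (sqP : IsPullback pf ps g t) (h : P ⟶ W) (hh : Sheaf.IsLocallySurjective ((yon S).map h))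
    (hfac : h ≫ j = ps ≫ s) : RepWith @IsOpenImmersion φ := by
  obtain ⟨c1, c2⟩ := restrict_comm s t g s' t' r hsq
  -- the kernel pair of `π' ≫ φ`
  have hw' : (yon S).map t' ≫ π' ≫ φ = (yon S).map s' ≫ π' ≫ φ := by
    rw [← Category.assoc, ← Category.assoc, hcoeq']
  have hc' : Sheaf.IsLocallySurjective
      (pullback.lift ((yon S).map t') ((yon S).map s') hw') := by
    refine isLocallySurjective_lift_of_sieve t' s' (π' ≫ φ) (π' ≫ φ) hw' ?_
    intro T a b hab
    rw [hφ] at hab
    have hab' : (yon S).map (a ≫ g) ≫ π = (yon S).map (b ≫ g) ≫ π := by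
      rw [CategoryTheory.Functor.map_comp, CategoryTheory.Functor.map_comp, Category.assoc,
        Category.assoc]
      exact hab
    refine ⟨relSieve s t (a ≫ g) (b ≫ g), relSieve_mem hE π hπw _ _ hab', ?_⟩
    rintro T' f ⟨ρ, h1, h2⟩
    obtain ⟨l, hl1, hl2, -⟩ := exists_lift_of_restrict s t g s' t' r hsq (f ≫ a) (f ≫ b) ρ
      (by rw [h1, Category.assoc]) (by rw [h2, Category.assoc])
    exact ⟨l, hl1, hl2⟩
  have hmono : Mono φ := by
    refine mono_of_kernelPair π' hπ' φ (pullback.fst (π' ≫ φ) (π' ≫ φ))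
      (pullback.snd (π' ≫ φ) (π' ≫ φ)) (IsPullback.of_hasPullback _ _) ?_
    have : Epi (pullback.lift ((yon S).map t') ((yon S).map s') hw') :=
      (Sheaf.isLocallySurjective_iff_epi _).1 hc'
    rw [← cancel_epi (pullback.lift ((yon S).map t') ((yon S).map s') hw'),
      pullback.lift_fst_assoc, pullback.lift_snd_assoc, hcoeq']
  -- the comparison map from `P`
  have hwP : (yon S).map pf ≫ π' ≫ φ = (yon S).map (ps ≫ s) ≫ π := by
    rw [hφ, ← Category.assoc, ← CategoryTheory.Functor.map_comp, sqP.w,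
      CategoryTheory.Functor.map_comp, CategoryTheory.Functor.map_comp, Category.assoc,
      Category.assoc, hcoeq]
  have hd : Sheaf.IsLocallySurjective
      (pullback.lift ((yon S).map pf) ((yon S).map (ps ≫ s)) hwP) := by
    refine isLocallySurjective_lift_of_sieve pf (ps ≫ s) (π' ≫ φ) π hwP ?_
    intro T a b hab
    rw [hφ] at hab
    have hab' : (yon S).map (a ≫ g) ≫ π = (yon S).map b ≫ π := by
      rw [CategoryTheory.Functor.map_comp, Category.assoc]
      exact hab
    refine ⟨relSieve s t (a ≫ g) b, relSieve_mem hE π hπw _ _ hab', ?_⟩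
    rintro T' f ⟨ρ, h1, h2⟩
    refine ⟨sqP.lift (f ≫ a) ρ (by rw [h1, Category.assoc]), sqP.lift_fst _ _ _, ?_⟩
    rw [← Category.assoc, sqP.lift_snd, h2]
  -- base change of `π'`
  let b₁ := pullback.fst (π' ≫ φ) π
  let b₂ := pullback.snd (π' ≫ φ) π
  have hb : (b₁ ≫ π') ≫ φ = b₂ ≫ π := by
    rw [Category.assoc]; exact pullback.condition
  let m : pullback (π' ≫ φ) π ⟶ pullback φ π := pullback.lift (b₁ ≫ π') b₂ hb
  have left : IsPullback m b₁ (pullback.fst φ π) π' := by
    refine IsPullback.of_right ?_ (pullback.lift_fst _ _ _) (IsPullback.of_hasPullback φ π).flip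
    rw [pullback.lift_snd]
    exact (IsPullback.of_hasPullback (π' ≫ φ) π).flip
  have hm : Sheaf.IsLocallySurjective m := isLocallySurjective_of_isPullback left.flip hπ'
  let d := pullback.lift ((yon S).map pf) ((yon S).map (ps ≫ s)) hwP
  have he : Sheaf.IsLocallySurjective (d ≫ m) := by
    have : Epi d := (Sheaf.isLocallySurjective_iff_epi _).1 hd
    have : Epi m := (Sheaf.isLocallySurjective_iff_epi _).1 hm
    exact (Sheaf.isLocallySurjective_iff_epi _).2 inferInstance
  have hcomm : (d ≫ m) ≫ pullback.snd φ π = (yon S).map h ≫ (yon S).map j := by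
    rw [Category.assoc, pullback.lift_snd, pullback.lift_snd, ← CategoryTheory.Functor.map_comp,
      hfac]
  have hjm : Mono j := by
    have h1 : Mono j.left := inferInstance
    have h2 : Mono ((Over.forget S).map j) := h1
    exact (Over.forget S).mono_of_mono_map h2
  obtain ⟨fst, sq⟩ := exists_isPullback_of_epi_mono φ π j (d ≫ m) he ((yon S).map h) hh hcomm
  exact repWith_isOpenImmersion_of_chart φ π hπ j fst sq

end restrict

end Groth.Agent.Lib.Helper3.QuotRel
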