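import Groth.Agent.Lib.Helper3.QuotRelDiag
import Mathlib.AlgebraicGeometry.Morphisms.FlatDescent

set_option autoImplicit false

universe u
open CategoryTheory CategoryTheory.Limits AlgebraicGeometry Opposite AlgSp

namespace Groth.Agent.Lib.Helper3.QuotRel

open Groth.Agent.Lib.Helper3 Groth.Agent.Lib.Helper3.QAffDesc

variable {S : Scheme.{u}}

/-- A representable, locally surjective chart `π : h_U ⟶ F` whose kernel pair is a scheme `R` has
every fppf-local property of the projection `R ⟶ U`. -/
theorem repWith_of_kernelPair (P : MorphismProperty Scheme.{u}) [P.IsStableUnderBaseChange]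
    [IsZariskiLocalAtTarget P]
    [P.DescendsAlong (@Surjective ⊓ @Flat ⊓ @LocallyOfFinitePresentation)]
    {F : Sp S} {U R : Over S} (π : (yon S).obj U ⟶ F)
    (hπ : Sheaf.IsLocallySurjective π) (hrep : Representable π)
    (r₁ r₂ : R ⟶ U) (kp : IsPullback ((yon S).map r₁) ((yon S).map r₂) π π)
    (hP : P r₂.left) : RepWith P π := by
  have : P.RespectsIso := inferInstance
  refine repWith_of_affine P π hrep ?_
  intro Z hZ g
  obtain ⟨W, i, fst, sq⟩ := hrep g
  refine ⟨W, i, fst, sq, ?_⟩
  obtain ⟨V', q, a', hV', h1, h2, h3, h4⟩ := exists_affine_fppf_lift π hπ g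
  -- first description of the pullback over `V'`
  let W' : Over S := pullback i q
  let f₁ : W' ⟶ W := pullback.fst i q
  let f₂ : W' ⟶ V' := pullback.snd i q
  have sqW' : IsPullback f₁ f₂ i q := IsPullback.of_hasPullback _ _
  have sqA : IsPullback ((yon S).map f₁ ≫ fst) ((yon S).map f₂) π ((yon S).map q ≫ g) :=
    (sqW'.map (yon S)).paste_horiz sq
  -- second description
  let R' : Over S := pullback r₂ a'
  let pR : R' ⟶ R := pullback.fst r₂ a'
  let pV : R' ⟶ V' := pullback.snd r₂ a'
  have sqR' : IsPullback pR pV r₂ a' := IsPullback.of_hasPullback _ _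
  have sqB : IsPullback ((yon S).map pR ≫ (yon S).map r₁) ((yon S).map pV) π
      ((yon S).map a' ≫ π) := (sqR'.map (yon S)).paste_horiz kp
  rw [← h4] at sqB
  -- comparison
  let e : (yon S).obj W' ≅ (yon S).obj R' := sqA.isoIsPullback _ _ sqB
  have he : e.hom ≫ (yon S).map pV = (yon S).map f₂ := sqA.isoIsPullback_hom_snd _ _ sqB
  let e₀ : W' ≅ R' := (yon S).preimageIso e
  have he₀ : e₀.hom ≫ pV = f₂ := by
    apply (yon S).map_injective
    rw [CategoryTheory.Functor.map_comp, Functor.preimageIso_hom, Functor.map_preimage, he]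
  have hpV : P pV.left := MorphismProperty.of_isPullback (sqR'.map (Over.forget S)) hP
  have hf₂ : P f₂.left := by
    have : f₂.left = e₀.hom.left ≫ pV.left := by rw [← Over.comp_left, he₀]
    rw [this]
    have : IsIso e₀.hom.left := inferInstanceAs (IsIso ((Over.forget S).map e₀.hom))
    exact (MorphismProperty.cancel_left_of_respectsIso P _ _).2 hpV
  have sqL : IsPullback f₂.left f₁.left q.left i.left := (sqW'.map (Over.forget S)).flip
  exact MorphismProperty.of_isPullback_of_descendsAlong
    (Q := @Surjective ⊓ @Flat ⊓ @LocallyOfFinitePresentation) sqL ⟨⟨h3, h1⟩, h2⟩ hf₂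

end Groth.Agent.Lib.Helper3.QuotRel
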