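import Mathlib
set_option autoImplicit false
universe u
open TensorProduct

namespace Groth.Agent.Lib.Helper3.RDvr

variable {R A D : Type u} [CommRing R] [CommRing A] [CommRing D] [Algebra R A] [Algebra R D]

/-- base change of the inclusion of a subalgebra -/
noncomputable abbrev inc (B : Subalgebra R A) : B ⊗[R] D →ₐ[R] A ⊗[R] D :=
  Algebra.TensorProduct.map B.val (AlgHom.id R D)

noncomputable abbrev incl {B B' : Subalgebra R A} (h : B ≤ B') : B ⊗[R] D →ₐ[R] B' ⊗[R] D :=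
  Algebra.TensorProduct.map (Subalgebra.inclusion h) (AlgHom.id R D)

theorem inc_eq_rTensor (B : Subalgebra R A) (t : B ⊗[R] D) :
    inc (D := D) B t = LinearMap.rTensor D B.val.toLinearMap t := rfl

theorem incl_eq_rTensor {B B' : Subalgebra R A} (h : B ≤ B') (t : B ⊗[R] D) :
    incl (D := D) h t = LinearMap.rTensor D (Subalgebra.inclusion h).toLinearMap t := rfl

theorem inc_incl {B B' : Subalgebra R A} (h : B ≤ B') (t : B ⊗[R] D) :
    inc B' (incl (D := D) h t) = inc B t := by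
  induction t using TensorProduct.induction_on with
  | zero => simp
  | tmul a d => simp [inc, incl]
  | add a b ha hb => simp only [map_add, ha, hb]

/-- the ideal of `B ⊗ D` generated by `m ∩ B` -/
noncomputable abbrev idl (m : Ideal A) (B : Subalgebra R A) : Ideal (B ⊗[R] D) :=
  Ideal.map (Algebra.TensorProduct.includeLeft : B →ₐ[R] B ⊗[R] D) (m.comap B.val)

theorem incl_mem_idl (m : Ideal A) {B B' : Subalgebra R A} (h : B ≤ B') (t : B ⊗[R] D)
    (ht : t ∈ idl (D := D) m B) : incl (D := D) h t ∈ idl (D := D) m B' := by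
  have h1 : idl (D := D) m B ≤ Ideal.comap (incl (D := D) h) (idl (D := D) m B') := by
    unfold idl
    rw [Ideal.map_le_iff_le_comap]
    intro b hb
    rw [Ideal.mem_comap, Ideal.mem_comap]
    have : incl (D := D) h ((Algebra.TensorProduct.includeLeft : B →ₐ[R] B ⊗[R] D) b) =
        (Algebra.TensorProduct.includeLeft : B' →ₐ[R] B' ⊗[R] D) (Subalgebra.inclusion h b) := by
      simp [incl]
    rw [this]
    apply Ideal.mem_map_of_mem
    exact hb
  exact h1 ht

theorem exists_fg_of_mem_map (m : Ideal A) (y : A ⊗[R] D)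
    (hy : y ∈ Ideal.map (Algebra.TensorProduct.includeLeft : A →ₐ[R] A ⊗[R] D) m) :
    ∃ (B : Subalgebra R A), B.FG ∧ ∃ y' : B ⊗[R] D, y' ∈ idl (D := D) m B ∧ inc B y' = y := by
  unfold Ideal.map at hy
  induction hy using Submodule.span_induction with
  | mem y hy =>
    obtain ⟨a, ha, rfl⟩ := hy
    have hfg : (Algebra.adjoin R ({a} : Set A)).FG := by
      have := Subalgebra.fg_adjoin_finset (R := R) ({a} : Finset A)
      simpa using this
    refine ⟨Algebra.adjoin R {a}, hfg,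
      (⟨a, Algebra.subset_adjoin rfl⟩ : Algebra.adjoin R ({a} : Set A)) ⊗ₜ 1, ?_, ?_⟩
    · exact Ideal.mem_map_of_mem (Algebra.TensorProduct.includeLeft :
        Algebra.adjoin R ({a} : Set A) →ₐ[R] _)
        (show (⟨a, Algebra.subset_adjoin rfl⟩ : Algebra.adjoin R ({a} : Set A)) ∈
          m.comap (Algebra.adjoin R ({a} : Set A)).val from ha)
    · simp [inc]
  | zero => exact ⟨⊥, Subalgebra.fg_bot, 0, Ideal.zero_mem _, map_zero _⟩
  | add y₁ y₂ _ _ h₁ h₂ =>
    obtain ⟨B₁, hB₁, y₁', hy₁', rfl⟩ := h₁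
    obtain ⟨B₂, hB₂, y₂', hy₂', rfl⟩ := h₂
    refine ⟨B₁ ⊔ B₂, hB₁.sup hB₂, incl (D := D) (B := B₁) (B' := B₁ ⊔ B₂) le_sup_left y₁' +
      incl (D := D) (B := B₂) (B' := B₁ ⊔ B₂) le_sup_right y₂',
      Ideal.add_mem _ (incl_mem_idl m _ _ hy₁') (incl_mem_idl m _ _ hy₂'), ?_⟩
    rw [map_add, inc_incl, inc_incl]
  | smul z y _ h =>
    obtain ⟨B₁, hB₁, y', hy', rfl⟩ := h
    obtain ⟨B₂, hB₂, z', hz'⟩ := TensorProduct.Algebra.exists_of_fg z
    refine ⟨B₂ ⊔ B₁, hB₂.sup hB₁, incl (D := D) (B := B₂) (B' := B₂ ⊔ B₁) le_sup_left z' *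
      incl (D := D) (B := B₁) (B' := B₂ ⊔ B₁) le_sup_right y',
      Ideal.mul_mem_left _ _ (incl_mem_idl m _ _ hy'), ?_⟩
    rw [map_mul, inc_incl, inc_incl, smul_eq_mul]
    congr 1

/-- **Descent of a partition of unity to a finitely generated subalgebra.** -/
theorem exists_fg_subalgebra_relation (I : Ideal (A ⊗[R] D)) (m : Ideal A)
    (h : I ⊔ Ideal.map (Algebra.TensorProduct.includeLeft : A →ₐ[R] A ⊗[R] D) m = ⊤) :
    ∃ (B : Subalgebra R A), B.FG ∧ ∃ (x y : B ⊗[R] D), x + y = 1 ∧ inc B x ∈ I ∧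
      y ∈ idl (D := D) m B := by
  have h1 : (1 : A ⊗[R] D) ∈ I ⊔ Ideal.map
      (Algebra.TensorProduct.includeLeft : A →ₐ[R] A ⊗[R] D) m := by rw [h]; trivial
  obtain ⟨x, hx, y, hy, hxy⟩ := Submodule.mem_sup.1 h1
  obtain ⟨By, hBy, y', hy', hyy'⟩ := exists_fg_of_mem_map m y hy
  obtain ⟨Bx, hBx, x', hx'⟩ := TensorProduct.Algebra.exists_of_fg x
  have hx'' : inc Bx x' = x := hx'
  obtain ⟨B₂, h12, hB₂, he⟩ := TensorProduct.Algebra.eq_of_fg_of_subtype_eq (hBx.sup hBy)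
    (t := incl (D := D) (B := Bx) (B' := Bx ⊔ By) le_sup_left x' +
      incl (D := D) (B := By) (B' := Bx ⊔ By) le_sup_right y') (t' := 1) (by
      rw [← inc_eq_rTensor, ← inc_eq_rTensor, map_add, inc_incl, inc_incl, hx'', hyy', hxy,
        map_one])
  rw [← incl_eq_rTensor, ← incl_eq_rTensor, map_one, map_add] at he
  refine ⟨B₂, hB₂, incl h12 (incl (D := D) (B := Bx) (B' := Bx ⊔ By) le_sup_left x'),
    incl h12 (incl (D := D) (B := By) (B' := Bx ⊔ By) le_sup_right y'), he, ?_, ?_⟩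
  · rw [inc_incl, inc_incl, hx'']; exact hx
  · exact incl_mem_idl m _ _ (incl_mem_idl m _ _ hy')

end Groth.Agent.Lib.Helper3.RDvr
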