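import Mathlib
import Groth.Agent.Lib.Helper13.DvrDominate
set_option autoImplicit false
universe u
open IsLocalRing

namespace Groth.Agent.Lib.Helper3.RDvr

open Classical in
/-- A discrete valuation ring, with finitely generated fraction field, dominating the
contraction of a valuation ring to a finitely generated subalgebra, and containing the image of
a given algebra of finite type. -/
theorem exists_dvr_data {R₀ A K C : Type u} [CommRing R₀] [IsNoetherianRing R₀] [CommRing A]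
    [IsDomain A] [IsLocalRing A] [Field K] [Algebra A K] [IsFractionRing A K] [Algebra R₀ A]
    [CommRing C] (rC : R₀ →+* C) (hrC : rC.FiniteType) (c : C →+* K)
    (hc : c.comp rC = (algebraMap A K).comp (algebraMap R₀ A))
    (B₀ : Subalgebra R₀ A) (hB₀ : B₀.FG)
    (hne : (maximalIdeal A).comap B₀.val ≠ ⊥) :
    ∃ (L : Subfield K) (Rd : ValuationSubring ↥L) (cL : C →+* ↥L) (δ : B₀ →+* ↥Rd),
      IsDiscreteValuationRing ↥Rd ∧ (∀ x, ((cL x : ↥L) : K) = c x) ∧
      (∀ b : B₀, (((δ b : ↥Rd) : ↥L) : K) = algebraMap A K (b : A)) ∧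
      ∀ b : B₀, b ∈ (maximalIdeal A).comap B₀.val → δ b ∈ maximalIdeal ↥Rd := by
  let _ : Algebra R₀ C := rC.toAlgebra
  obtain ⟨G, hG⟩ : ∃ G : Finset C, Algebra.adjoin R₀ (G : Set C) = ⊤ := hrC.out
  obtain ⟨e₀, he₀⟩ : ∃ e₀ : B₀ →+* K, e₀ = (algebraMap A K).comp B₀.val.toRingHom := ⟨_, rfl⟩
  have he₀app : ∀ b : B₀, e₀ b = algebraMap A K (b : A) := fun b => by rw [he₀]; rfl
  have he₀inj : Function.Injective e₀ := by
    rw [he₀]
    exact (IsFractionRing.injective A K).comp Subtype.val_injective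
  set s : Set K := Set.range e₀ ∪ c '' (G : Set C) with hs
  obtain ⟨L, hL⟩ : ∃ L : Subfield K, L = Subfield.closure s := ⟨_, rfl⟩
  have hsL : s ⊆ (L : Set K) := by rw [hL]; exact Subfield.subset_closure
  -- the image of C lies in L
  have hcL : ∀ x : C, c x ∈ L := by
    intro x
    have hx : x ∈ Algebra.adjoin R₀ (G : Set C) := by rw [hG]; trivial
    induction hx using Algebra.adjoin_induction with
    | mem x hx => exact hsL (Or.inr ⟨x, hx, rfl⟩)
    | algebraMap r =>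
      have : c (algebraMap R₀ C r) = e₀ (algebraMap R₀ B₀ r) := by
        rw [he₀app]
        exact congrArg (fun f => f r) hc
      rw [this]
      exact hsL (Or.inl ⟨_, rfl⟩)
    | add x y _ _ hx hy => rw [map_add]; exact L.add_mem hx hy
    | mul x y _ _ hx hy => rw [map_mul]; exact L.mul_mem hx hy
  obtain ⟨cL, hcLdef⟩ : ∃ cL : C →+* ↥L, cL = c.codRestrict L hcL := ⟨_, rfl⟩
  have hcLval : ∀ x, ((cL x : ↥L) : K) = c x := fun x => by rw [hcLdef]; rfl
  obtain ⟨ψ₀, hψ₀def⟩ : ∃ ψ₀ : B₀ →+* ↥L,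
      ψ₀ = e₀.codRestrict L (fun b => hsL (Or.inl ⟨b, rfl⟩)) := ⟨_, rfl⟩
  have hψ₀val : ∀ b, ((ψ₀ b : ↥L) : K) = e₀ b := fun b => by rw [hψ₀def]; rfl
  have hψ₀inj : Function.Injective ψ₀ := by
    intro b b' h
    apply he₀inj
    rw [← hψ₀val, ← hψ₀val, h]
  -- the local ring
  have hprime : ((maximalIdeal A).comap B₀.val).IsPrime := Ideal.comap_isPrime _ _
  obtain ⟨p, hp⟩ : ∃ p : Ideal B₀, p = (maximalIdeal A).comap B₀.val := ⟨_, rfl⟩
  rw [← hp] at hne hprime ⊢
  have hft : Algebra.FiniteType R₀ B₀ := (Subalgebra.fg_iff_finiteType B₀).1 hB₀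
  have hnoeth : IsNoetherianRing B₀ := Algebra.FiniteType.isNoetherianRing R₀ B₀
  have hunit : ∀ y : p.primeCompl, IsUnit (ψ₀ y) := by
    intro y
    rw [isUnit_iff_ne_zero]
    intro h0
    have : (y : B₀) = 0 := hψ₀inj (by rw [h0, map_zero])
    exact y.2 (by rw [this]; exact p.zero_mem)
  obtain ⟨ψ, hψdef⟩ : ∃ ψ : Localization.AtPrime p →+* ↥L,
      ψ = IsLocalization.lift (M := p.primeCompl) hunit := ⟨_, rfl⟩
  have hψalg : ∀ b : B₀, ψ (algebraMap B₀ (Localization.AtPrime p) b) = ψ₀ b := by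
    intro b; rw [hψdef]; exact IsLocalization.lift_eq hunit b
  have hker : RingHom.ker ψ ≠ maximalIdeal (Localization.AtPrime p) := by
    intro h
    obtain ⟨b, hbp, hb0⟩ : ∃ b ∈ p, b ≠ 0 := by
      by_contra hcon
      push Not at hcon
      exact hne ((Submodule.eq_bot_iff _).2 hcon)
    have h1 : algebraMap B₀ (Localization.AtPrime p) b ∈ maximalIdeal (Localization.AtPrime p) :=
      (IsLocalization.AtPrime.to_map_mem_maximal_iff (Localization.AtPrime p) p b).2 hbp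
    rw [← h, RingHom.mem_ker, hψalg] at h1
    exact hb0 (hψ₀inj (by rw [h1, map_zero]))
  -- generators
  let T : Finset ↥L := G.image cL
  have hT : Subfield.closure (Set.range ψ ∪ (T : Set ↥L)) = ⊤ := by
    rw [eq_top_iff]
    intro x _
    have h1 : s ⊆ ((Subfield.closure (Set.range ψ ∪ (T : Set ↥L))).map L.subtype : Set K) := by
      rintro y (⟨b, rfl⟩ | ⟨g, hg, rfl⟩)
      · refine ⟨ψ₀ b, Subfield.subset_closure (Or.inl ⟨_, hψalg b⟩), ?_⟩
        exact hψ₀val b
      · refine ⟨cL g, Subfield.subset_closure (Or.inr ?_), hcLval g⟩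
        exact Finset.mem_coe.2 (Finset.mem_image_of_mem _ hg)
    have h2 : L ≤ (Subfield.closure (Set.range ψ ∪ (T : Set ↥L))).map L.subtype :=
      hL.le.trans (Subfield.closure_le.2 h1)
    obtain ⟨n, hn, hnx⟩ := h2 x.2
    have : n = x := Subtype.ext hnx
    rw [← this]; exact hn
  obtain ⟨Rd, hdvr, hmem, hlt⟩ :=
    Groth.Agent.Lib.Helper13.Dvr.exists_dvr_dominating_ringHom (Localization.AtPrime p) ψ hker T hT
  have hδmem : ∀ b : B₀, ψ₀ b ∈ Rd.toSubring := by
    intro b; rw [← hψalg]; exact hmem _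
  obtain ⟨δ, hδdef⟩ : ∃ δ : B₀ →+* ↥Rd, δ = ψ₀.codRestrict Rd.toSubring hδmem := ⟨_, rfl⟩
  have hδval : ∀ b, ((δ b : ↥Rd) : ↥L) = ψ₀ b := fun b => by rw [hδdef]; rfl
  refine ⟨L, Rd, cL, δ, hdvr, hcLval, fun b => ?_, fun b hb => ?_⟩
  · rw [hδval, hψ₀val, he₀app]
  · rw [Rd.valuation_lt_one_iff, hδval, ← hψalg]
    exact hlt _ ((IsLocalization.AtPrime.to_map_mem_maximal_iff (Localization.AtPrime p) p b).2 hb)

end Groth.Agent.Lib.Helper3.RDvr
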