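import Groth.Agent.Lib.Helper3.AlgSpChartPts
import Groth.Agent.Lib.Helper3.AlgSpHasAtMor
import Groth.Agent.Lib.Helper9.AlgSpVC
set_option autoImplicit false
universe u
open CategoryTheory CategoryTheory.Limits AlgebraicGeometry IsLocalRing
open AlgSp
open Groth.Agent.Lib.Helper3
open Groth.Agent.Lib.Helper9

namespace Groth.Agent.Lib.Helper3.RDvr

variable {S : Scheme.{u}}

/-- Let `a : W ⟶ X'` be an etale surjective chart, `aA : W_A ⟶ P` its base change along
`fst : P ⟶ X'`, `l : T ⟶ X'` a morphism from a scheme with points `t_g ⤳ t_c`, and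
`k : T_K ⟶ T` a morphism hitting `t_g` at `pt` such that `k ≫ l` lifts to `σ : T_K ⟶ P`.
Then there are points `ŵ_g ⤳ ŵ` of the fibre product `Ŵ = W ×_{X'} T` over `t_g` and `t_c`, and
a point `ω` of `Ŵ ×_T T_K` over `ŵ_g`, together with the induced morphism to `W_A`. -/
theorem exists_points_chart {X' P : Sp S} {W WA T TK : Over S} (a : (yon S).obj W ⟶ X')
    (hae : RepWith @Etale a) (has : RepWith @Surjective a)
    (fst : P ⟶ X') (aA : (yon S).obj WA ⟶ P) (pD : WA ⟶ W)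
    (hpb : IsPullback aA ((yon S).map pD) fst a)
    (l : (yon S).obj T ⟶ X') (k : TK ⟶ T) (σ : (yon S).obj TK ⟶ P)
    (hσ : (yon S).map k ≫ l = σ ≫ fst)
    (pt : ↥TK.left) (t_c : ↥T.left) (hsp : k.left pt ⤳ t_c) :
    ∃ (Wh WK : Over S) (pW : Wh ⟶ W) (pT : Wh ⟶ T) (qW : WK ⟶ Wh) (qK : WK ⟶ TK) (μ : WK ⟶ WA)
      (wg w : ↥Wh.left) (ω : ↥WK.left),
      (yon S).map pW ≫ a = (yon S).map pT ≫ l ∧ qW ≫ pT = qK ≫ k ∧ μ ≫ pD = qW ≫ pW ∧
      (yon S).map μ ≫ aA = (yon S).map qK ≫ σ ∧ wg ⤳ w ∧ pT.left w = t_c ∧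
      qW.left ω = wg ∧ qK.left ω = pt := by
  obtain ⟨Wh, pW, pT, sq⟩ := exists_pullback_charts a hae.1 l
  have hpTe : Etale pT.left := hae.2 l ((yon S).map pW) pT sq
  have hpTs : Surjective pT.left := has.2 l ((yon S).map pW) pT sq
  obtain ⟨w, hw⟩ := hpTs.surj t_c
  have hgen : GeneralizingMap pT.left := Flat.generalizingMap pT.left
  obtain ⟨wg, hwg, hwgt⟩ := hgen (a := w) (b := k.left pt) (by rw [hw]; exact hsp)
  -- the fibre product with T_K
  let WK : Over S := Over.mk (pullback.fst pT.left k.left ≫ Wh.hom)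
  let qW : WK ⟶ Wh := Over.homMk (pullback.fst pT.left k.left) rfl
  have hqK : pullback.snd pT.left k.left ≫ TK.hom = WK.hom := by
    change _ = pullback.fst pT.left k.left ≫ Wh.hom
    rw [← Over.w k, ← Over.w pT, ← Category.assoc, ← Category.assoc, pullback.condition]
  let qK : WK ⟶ TK := Over.homMk (pullback.snd pT.left k.left) hqK
  have hq : qW ≫ pT = qK ≫ k := by
    ext
    exact pullback.condition
  obtain ⟨ω, hω1, hω2⟩ := Scheme.Pullback.exists_preimage_pullback (f := pT.left) (g := k.left)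
    wg pt hwgt
  have hcond : ((yon S).map qK ≫ σ) ≫ fst = (yon S).map (qW ≫ pW) ≫ a := by
    rw [Category.assoc, ← hσ, ← Category.assoc, ← Functor.map_comp, ← hq, Functor.map_comp,
      Functor.map_comp, Category.assoc, Category.assoc, sq.w]
  obtain ⟨μ, hμ⟩ := (yon S).map_surjective (hpb.lift _ _ hcond)
  refine ⟨Wh, WK, pW, pT, qW, qK, μ, wg, w, ω, sq.w, hq, ?_, ?_, hwg, hw, hω1, hω2⟩
  · apply (yon S).map_injective
    rw [Functor.map_comp, hμ, hpb.lift_snd]
  · rw [hμ, hpb.lift_fst]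

end Groth.Agent.Lib.Helper3.RDvr
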