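import Groth.Agent.Lib.Helper3.RVCSq
import Mathlib
set_option autoImplicit false
universe u
open CategoryTheory CategoryTheory.Limits AlgebraicGeometry IsLocalRing TensorProduct
open AlgSp
open Groth.Agent.Lib.Helper3.RVC

namespace Groth.Agent.Lib.Helper3.RDvr

variable {S : Scheme.{u}} {R₀ : Type u} [CommRing R₀] {ι : Spec (CommRingCat.of R₀) ⟶ S}

theorem includeLeft_comp {A D : Type u} [CommRing A] [CommRing D] [Algebra R₀ A] [Algebra R₀ D] :
    (Algebra.TensorProduct.includeLeftRingHom : A →+* A ⊗[R₀] D).comp (algebraMap R₀ A) =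
      algebraMap R₀ (A ⊗[R₀] D) := by
  ext x
  simp [Algebra.TensorProduct.algebraMap_apply]

theorem includeRight_comp {A D : Type u} [CommRing A] [CommRing D] [Algebra R₀ A] [Algebra R₀ D] :
    ((Algebra.TensorProduct.includeRight : D →ₐ[R₀] A ⊗[R₀] D) : D →+* A ⊗[R₀] D).comp
      (algebraMap R₀ D) = algebraMap R₀ (A ⊗[R₀] D) := by
  ext x
  simp

/-- The spectrum of a tensor product is the fibre product, in schemes over `S`. -/
theorem isPullback_tensor {A D : Type u} [CommRing A] [CommRing D] [Algebra R₀ A] [Algebra R₀ D]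
    {strA : Spec (CommRingCat.of A) ⟶ S} {strD : Spec (CommRingCat.of D) ⟶ S}
    (hA : IsV ι strA (algebraMap R₀ A)) (hD : IsV ι strD (algebraMap R₀ D))
    {strE : Spec (CommRingCat.of (A ⊗[R₀] D)) ⟶ S}
    (hE : IsV ι strE (algebraMap R₀ (A ⊗[R₀] D))) :
    IsPullback (homV hA hE Algebra.TensorProduct.includeLeftRingHom includeLeft_comp)
      (homV hD hE ((Algebra.TensorProduct.includeRight : D →ₐ[R₀] A ⊗[R₀] D) : D →+* A ⊗[R₀] D)
        includeRight_comp) (toV hA) (toV hD) := by
  refine IsPullback.of_map (Over.forget S) ?_ ?_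
  · rw [homV_toV, homV_toV]
  · exact isPullback_SpecMap_of_isPushout _ _ _ _ (CommRingCat.isPushout_tensorProduct R₀ A D)

/-- The base change of an affine chart `Spec D ⟶ X'` along `Spec A ⟶ Spec R₀`. -/
theorem exists_chart_pullback {X' : Sp S} (f' : X' ⟶ (yon S).obj (Over.mk ι))
    {A D : Type u} [CommRing A] [CommRing D] [Algebra R₀ A] [Algebra R₀ D]
    {strA : Spec (CommRingCat.of A) ⟶ S} {strD : Spec (CommRingCat.of D) ⟶ S}
    (hA : IsV ι strA (algebraMap R₀ A)) (hD : IsV ι strD (algebraMap R₀ D))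
    (a : (yon S).obj (Over.mk strD) ⟶ X') (haf : a ≫ f' = (yon S).map (toV hD))
    {P : Sp S} (fst : P ⟶ X') (snd : P ⟶ (yon S).obj (Over.mk strA))
    (hsq : IsPullback fst snd f' ((yon S).map (toV hA)))
    {strE : Spec (CommRingCat.of (A ⊗[R₀] D)) ⟶ S}
    (hE : IsV ι strE (algebraMap R₀ (A ⊗[R₀] D))) :
    ∃ aA : (yon S).obj (Over.mk strE) ⟶ P,
      aA ≫ snd = (yon S).map (homV hA hE Algebra.TensorProduct.includeLeftRingHom
        includeLeft_comp) ∧
      IsPullback aA ((yon S).map (homV hD hE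
        ((Algebra.TensorProduct.includeRight : D →ₐ[R₀] A ⊗[R₀] D) : D →+* A ⊗[R₀] D)
        includeRight_comp)) fst a := by
  have hT := (isPullback_tensor hA hD hE).map (yon S)
  have hw : ((yon S).map (homV hD hE
      ((Algebra.TensorProduct.includeRight : D →ₐ[R₀] A ⊗[R₀] D) : D →+* A ⊗[R₀] D)
      includeRight_comp) ≫ a) ≫ f' =
      (yon S).map (homV hA hE Algebra.TensorProduct.includeLeftRingHom includeLeft_comp) ≫
        (yon S).map (toV hA) := by
    rw [Category.assoc, haf]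
    exact hT.w.symm
  refine ⟨hsq.lift _ _ hw, hsq.lift_snd _ _ hw, ?_⟩
  refine IsPullback.of_right ?_ (hsq.lift_fst _ _ hw) hsq.flip
  rw [hsq.lift_snd, haf]
  exact hT

end Groth.Agent.Lib.Helper3.RDvr
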