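import Groth.Agent.Lib.Helper3.RDvrSpec
set_option autoImplicit false
universe u
open CategoryTheory CategoryTheory.Limits AlgebraicGeometry IsLocalRing
open AlgSp
open Groth.Agent.Lib.Helper3
open Groth.Agent.Lib.Helper9

namespace Groth.Agent.Lib.Helper3.RDvr

variable {S : Scheme.{u}}

/-- If a valuative square has no dotted arrow after any extension, then in every affine etale
chart `Spec E` of the base change the vanishing ideal of the fibre over the generic section and
the ideal generated by the maximal ideal of the valuation ring are comaximal. -/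
theorem sup_eq_top_of_not_hasLiftExt {X Y : Space S} (f : X ⟶ Y) (sq : ValSq f.hom)
    {P : Sp S} (fst : P ⟶ X.obj) (snd : P ⟶ (yon S).obj sq.ptA)
    (hsq : IsPullback fst snd f.hom sq.bot) (σ : (yon S).obj sq.ptK ⟶ P)
    (hσ1 : σ ≫ fst = sq.top) (hσ2 : σ ≫ snd = (yon S).map sq.j)
    (hqc : RepWith @QuasiCompact σ)
    {E : Type u} [CommRing E] (strE : Spec (CommRingCat.of E) ⟶ S)
    (a₁ : (yon S).obj (Over.mk strE) ⟶ P) (ha₁ : RepWith @Etale a₁)
    (pA : Over.mk strE ⟶ sq.ptA) (hpA : a₁ ≫ snd = (yon S).map pA)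
    (φ : sq.A →+* E) (hφ : pA.left = Spec.map (CommRingCat.ofHom φ))
    (hno : ¬ sq.HasLiftExt) :
    PrimeSpectrum.vanishingIdeal
      ((Points.ofPt a₁ ⁻¹' {Points.ofPt σ (closedPoint sq.K)} : Set ↥(Over.mk strE).left) :
        Set (PrimeSpectrum E)) ⊔
      Ideal.map φ (maximalIdeal sq.A) = ⊤ := by
  by_contra hne
  obtain ⟨𝔭, h𝔭max, h𝔭⟩ := Ideal.exists_le_maximal _ hne
  have h𝔭prime : 𝔭.IsPrime := h𝔭max.isPrime
  let u₀ : PrimeSpectrum E := ⟨𝔭, h𝔭prime⟩
  set Sg : Set (PrimeSpectrum E) :=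
    ((Points.ofPt a₁ ⁻¹' {Points.ofPt σ (closedPoint sq.K)} : Set ↥(Over.mk strE).left) :
        Set (PrimeSpectrum E)) with hSg
  -- finiteness of Sg
  let p : FieldPt P := ⟨sq.K, sq.ptK.hom, (J S).uliftYonedaEquiv σ⟩
  have hp : p.toHom = σ := Equiv.symm_apply_apply _ _
  have hx : Points.ofPt σ (closedPoint sq.K) = Points.mk p := by
    have := Points.ofPt_toHom p (closedPoint sq.K)
    rw [hp] at this
    exact this
  have hcomp : CompactSpace ↥(Over.mk strE).left := by
    change CompactSpace ↥(Spec (CommRingCat.of E))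
    infer_instance
  have hfin : Sg.Finite := by
    have := finite_fibre_of_qc_point p (by rw [hp]; exact hqc) a₁ ha₁
    rw [← hx] at this
    exact this
  have hcl : closure Sg = ⋃ u ∈ Sg, closure {u} := by
    have := hfin.closure_biUnion (f := fun u => ({u} : Set (PrimeSpectrum E)))
    rwa [Set.biUnion_of_singleton] at this
  have hu₀cl : u₀ ∈ closure Sg := by
    rw [← PrimeSpectrum.zeroLocus_vanishingIdeal_eq_closure, PrimeSpectrum.mem_zeroLocus]
    have h1 : PrimeSpectrum.vanishingIdeal Sg ≤ 𝔭 := le_trans le_sup_left h𝔭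
    exact h1
  rw [hcl] at hu₀cl
  simp only [Set.mem_iUnion] at hu₀cl
  obtain ⟨u, huSg, hu⟩ := hu₀cl
  have hus : u ⤳ u₀ := specializes_iff_mem_closure.2 hu
  -- u₀ lies over the closed point
  have hJ : Ideal.map φ (maximalIdeal sq.A) ≤ 𝔭 := le_trans le_sup_right h𝔭
  have hcomap : (maximalIdeal sq.A) ≤ Ideal.comap φ 𝔭 := Ideal.map_le_iff_le_comap.1 hJ
  have hcomap' : Ideal.comap φ 𝔭 = maximalIdeal sq.A :=
    ((maximalIdeal.isMaximal sq.A).eq_of_le (Ideal.comap_ne_top φ h𝔭prime.ne_top) hcomap).symm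
  have hpt : pA.left (show ↥(Over.mk strE).left from u₀) = closedPoint sq.A := by
    rw [hφ]
    apply PrimeSpectrum.ext
    exact hcomap'
  apply hno
  refine hasLiftExt_of_specializes f sq fst snd hsq σ hσ1 hσ2 a₁
    (show ↥(Over.mk strE).left from u) (show ↥(Over.mk strE).left from u₀) hus huSg ?_
  rw [Points.map_ofPt, hpA, AlgSpVC.ofPt_yon_map, hpt]

end Groth.Agent.Lib.Helper3.RDvr
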