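import Groth.Agent.Lib.Helper9.AlgSpVC2
set_option autoImplicit false
universe u
open CategoryTheory CategoryTheory.Limits AlgebraicGeometry IsLocalRing
open AlgSp
open Groth.Agent.Lib.Helper3
open Groth.Agent.Lib.Helper9

namespace Groth.Agent.Lib.Helper3.RDvr

variable {S : Scheme.{u}}

/-- The section of the base change defined by a valuative square is quasi-compact when the
morphism is quasi-separated (extracted from helper9's `AlgSpVC2.existVC_of_quasiSeparated`). -/
theorem exists_section_qc {X Y : Space S} (f : X ⟶ Y) (hqs : IsQuasiSeparatedMor f.hom)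
    (sq : ValSq f.hom) :
    ∃ σ : (yon S).obj sq.ptK ⟶ pullback f.hom sq.bot,
      σ ≫ pullback.fst f.hom sq.bot = sq.top ∧
      σ ≫ pullback.snd f.hom sq.bot = (yon S).map sq.j ∧ RepWith @QuasiCompact σ := by
  have hsq := IsPullback.of_hasPullback f.hom sq.bot
  have hsqK := IsPullback.of_hasPullback f.hom ((yon S).map sq.j ≫ sq.bot)
  have haff : IsAffine sq.ptK.left := by
    change IsAffine (Spec (CommRingCat.of sq.K))
    infer_instance
  have hqsK : IsQuasiSeparatedMor (pullback.snd f.hom ((yon S).map sq.j ≫ sq.bot)) :=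
    (Groth.Agent.S9903.result f).2.1 hqs sq.ptK haff _ _ _ _ hsqK
  let σ' : (yon S).obj sq.ptK ⟶ pullback f.hom ((yon S).map sq.j ≫ sq.bot) :=
    pullback.lift sq.top (𝟙 _) (by rw [Category.id_comp]; exact sq.comm)
  have hσ' : σ' ≫ pullback.snd f.hom ((yon S).map sq.j ≫ sq.bot) = 𝟙 _ := pullback.lift_snd _ _ _
  have hqc' : RepWith @QuasiCompact σ' :=
    Groth.Agent.S9902.repWith_section _ _ σ' hσ' hqsK
  let π : pullback f.hom ((yon S).map sq.j ≫ sq.bot) ⟶ pullback f.hom sq.bot :=
    pullback.lift (pullback.fst _ _) (pullback.snd _ _ ≫ (yon S).map sq.j)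
      (by rw [Category.assoc]; exact pullback.condition)
  have hπ1 : π ≫ pullback.fst f.hom sq.bot = pullback.fst _ _ := pullback.lift_fst _ _ _
  have hπ2 : π ≫ pullback.snd f.hom sq.bot = pullback.snd _ _ ≫ (yon S).map sq.j :=
    pullback.lift_snd _ _ _
  have hsqπ : IsPullback π (pullback.snd f.hom ((yon S).map sq.j ≫ sq.bot))
      (pullback.snd f.hom sq.bot) ((yon S).map sq.j) :=
    IsPullback.of_right (by rw [hπ1]; exact hsqK) hπ2 hsq
  have hj : RepWith @QuasiCompact ((yon S).map sq.j) := by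
    rw [repWith_yon_map_iff]
    change QuasiCompact (Spec.map (CommRingCat.ofHom (algebraMap sq.A sq.K)))
    infer_instance
  have hqcπ : RepWith @QuasiCompact π := (RepWith @QuasiCompact).of_isPullback hsqπ.flip hj
  have hqc : RepWith @QuasiCompact (σ' ≫ π) := (RepWith @QuasiCompact).comp_mem _ _ hqc' hqcπ
  refine ⟨σ' ≫ π, ?_, ?_, hqc⟩
  · rw [Category.assoc, hπ1]; exact pullback.lift_fst _ _ _
  · rw [Category.assoc, hπ2, ← Category.assoc, hσ', Category.id_comp]

end Groth.Agent.Lib.Helper3.RDvr
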