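import Groth.Agent.Lib.Helper3.RVCPt
import Groth.Agent.Lib.Helper3.SchImVal
import Groth.Agent.Lib.Helper3.SchImMain
import Groth.Agent.Lib.Helper3.SchImRed
set_option autoImplicit false
universe u
open CategoryTheory CategoryTheory.Limits AlgebraicGeometry Opposite AlgSp
open Groth.Agent.Lib.lead.ChainVal

namespace Groth.Agent.Lib.Helper3.RVC

variable {S : Scheme.{u}} {R₀ : Type u} [CommRing R₀] {ι : Spec (CommRingCat.of R₀) ⟶ S}

theorem eq_of_toV_eq {R : Type u} [CommRing R] {str : Spec (CommRingCat.of R) ⟶ S}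
    {r₁ r₂ : R₀ →+* R} (h₁ : IsV ι str r₁) (h₂ : IsV ι str r₂) (h : toV h₁ = toV h₂) : r₁ = r₂ := by
  have h1 : Spec.map (CommRingCat.ofHom r₁) = Spec.map (CommRingCat.ofHom r₂) :=
    congrArg (fun g => g.left) h
  have h2 := Spec.map_injective h1
  exact congrArg CommRingCat.Hom.hom h2

/-- the scheme theoretic image of a morphism with dense image is everything -/
theorem surjective_of_isSchImage_of_dense {U' X' Z : Space S} (h' : U' ⟶ X') (i : Z ⟶ X')
    (hZ : IsSchImage h'.hom i.hom) (hd' : DenseRange (Points.map h'.hom)) :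
    Function.Surjective (Points.map i.hom) := by
  intro x
  have hcl : IsClosed (Set.range (Points.map i.hom)) :=
    SchIm.isClosed_range_of_closedImmersion i.hom hZ.1
  obtain ⟨g, hg⟩ := hZ.2.1
  have hsub : Set.range (Points.map h'.hom) ⊆ Set.range (Points.map i.hom) := by
    rintro _ ⟨y, rfl⟩
    exact ⟨Points.map g y, by rw [← Points.map_comp, hg]⟩
  have : closure (Set.range (Points.map h'.hom)) ⊆ Set.range (Points.map i.hom) :=
    hcl.closure_subset_iff.2 hsub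
  exact this (hd' x)

theorem map_comp_map_eq {T₁ T₂ T₂' T₃ : Over S} {F : Sp S} (a : T₃ ⟶ T₂) (b : T₂ ⟶ T₁)
    (c : T₃ ⟶ T₂') (d : T₂' ⟶ T₁) (x : (yon S).obj T₁ ⟶ F) (h : a ≫ b = c ≫ d) :
    (yon S).map a ≫ (yon S).map b ≫ x = (yon S).map c ≫ (yon S).map d ≫ x := by
  rw [← Category.assoc, ← Functor.map_comp, h, Functor.map_comp, Category.assoc]

theorem map_comp_map_eq' {T₁ T₂ T₃ : Over S} {F : Sp S} (a : T₃ ⟶ T₂) (b : T₂ ⟶ T₁)
    (c : T₃ ⟶ T₁) (x : (yon S).obj T₁ ⟶ F) (h : a ≫ b = c) :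
    (yon S).map a ≫ (yon S).map b ≫ x = (yon S).map c ≫ x := by
  rw [← Category.assoc, ← Functor.map_comp, h]

set_option linter.style.haveILetI false in
/-- **Core**: the existence part of the valuative criterion from the refined hypothesis, when
the target is an affine scheme. -/
theorem core_affine (ι : Spec (CommRingCat.of R₀) ⟶ S)
    {X' U' : Space S} (f' : X'.obj ⟶ (yon S).obj (Over.mk ι)) (h' : U' ⟶ X')
    (hh' : IsQuasiCompactMor h'.hom) (hd' : DenseRange (Points.map h'.hom))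
    (hv' : ∀ sq : ValSq f', (∃ t : (yon S).obj sq.ptK ⟶ U'.obj, t ≫ h'.hom = sq.top) →
      sq.HasUniq ∧ sq.HasLiftExt) (sq : ValSq f') : sq.HasLiftExt := by
  -- Step 0: the V-structure of the square
  obtain ⟨β, hβ⟩ := (yon S).map_surjective sq.bot
  obtain ⟨rA, hA, hβeq⟩ := exists_isV β
  have hK : IsV ι (Spec.map (CommRingCat.ofHom (algebraMap sq.A sq.K)) ≫ sq.str)
      ((algebraMap sq.A sq.K).comp rA) := hA.comp _
  have hj : sq.j = homV hA hK (algebraMap sq.A sq.K) rfl := rfl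
  have htop : sq.top ≫ f' = (yon S).map (toV hK) := by
    calc sq.top ≫ f' = (yon S).map sq.j ≫ sq.bot := sq.comm
      _ = (yon S).map (homV hA hK (algebraMap sq.A sq.K) rfl) ≫ (yon S).map (toV hA) := by
        rw [← hβ, hβeq, hj]
      _ = (yon S).map (toV hK) := by rw [← Functor.map_comp, homV_toV]
  -- Step 1: a valuation ring through the point with generic point in `U'`
  obtain ⟨Z, i, hZ⟩ := SchIm.exists_isSchImage h'
  obtain ⟨z, hz⟩ := surjective_of_isSchImage_of_dense h' i hZ hd'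
    (Points.ofPt sq.top (⊥ : PrimeSpectrum sq.K))
  obtain ⟨A', _, _, _, str', a, xg, hcl, hcomm⟩ :=
    SchIm.exists_valuationRing_to_schImage h' i hh' hZ z
  obtain ⟨α, hα⟩ : ∃ α, a ≫ i.hom = α := ⟨_, rfl⟩
  rw [hα] at hcomm
  have hαcl : Points.ofPt α (IsLocalRing.closedPoint A') =
      Points.ofPt sq.top (⊥ : PrimeSpectrum sq.K) := by
    rw [← hα, ← Points.map_ofPt, hcl, hz]
  obtain ⟨β', hβ'⟩ := (yon S).map_surjective (α ≫ f')
  obtain ⟨r', hA', hβ'eq⟩ := exists_isV β'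
  have hαf : α ≫ f' = (yon S).map (toV hA') := by rw [← hβ', hβ'eq]
  have hF' : IsV ι (Spec.map (CommRingCat.ofHom (algebraMap A' (FractionRing A'))) ≫ str')
      ((algebraMap A' (FractionRing A')).comp r') := hA'.comp _
  -- Step 2: common extension
  obtain ⟨Ω, _, w, u₁, u₂, hu, hu₁, hu₂⟩ :=
    exists_common_ext α sq.top (IsLocalRing.closedPoint A') (⊥ : PrimeSpectrum sq.K) hαcl
  obtain ⟨θ, hΩ, hu₁eq⟩ := exists_homV hA' u₁
  obtain ⟨ψΩ, hΩ', hu₂eq⟩ := exists_homV hK u₂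
  have hθkill : ∀ x, x ∈ IsLocalRing.maximalIdeal A' → θ x = 0 := by
    intro x hx
    refine eq_zero_of_mem_maximalIdeal θ (fun y => ?_) x hx
    have := hu₁ y
    rw [hu₁eq] at this
    exact this
  have hring : θ.comp r' = ψΩ.comp ((algebraMap sq.A sq.K).comp rA) := by
    apply eq_of_toV_eq hΩ hΩ'
    apply (yon S).map_injective
    have e1 : (yon S).map (toV hΩ) = (yon S).map u₁ ≫ α ≫ f' := by
      rw [hαf, ← Functor.map_comp, hu₁eq, homV_toV]
    have e2 : (yon S).map (toV hΩ') = (yon S).map u₂ ≫ sq.top ≫ f' := by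
      rw [htop, ← Functor.map_comp, hu₂eq, homV_toV]
    rw [e1, e2, ← Category.assoc, ← Category.assoc, hu]
  -- Step 4: the algebra
  obtain ⟨K'', _, A'', lam, iotaΩ, hlaminj, hlamloc, hiota⟩ := exists_big_residue A' Ω θ hθkill
  obtain ⟨iota, hiotadef⟩ : ∃ iota : sq.K →+* IsLocalRing.ResidueField A'', iota = iotaΩ.comp ψΩ :=
    ⟨_, rfl⟩
  obtain ⟨A₁, hA₁, hloc⟩ :=
    IsLocalRing.exists_factor_valuationRing (iota.comp (algebraMap sq.A sq.K))
  have hres : ∀ x : R₀, IsLocalRing.residue A'' (lam (r' x)) =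
      iota (algebraMap sq.A sq.K (rA x)) := by
    intro x
    rw [← hiota, hiotadef]
    exact congrArg iotaΩ (congrArg (fun f => f x) hring)
  have hrC : ∀ x : R₀, (A''.subtype.comp (lam.comp r')) x ∈ (comp A'' A₁).toSubring := by
    intro x
    change ((lam (r' x) : A'') : K'') ∈ comp A'' A₁
    rw [mem_comp]
    refine ⟨(lam (r' x)).2, ?_⟩
    change IsLocalRing.residue A'' (lam (r' x)) ∈ A₁
    rw [hres]
    exact hA₁ _
  obtain ⟨rC, hrCdef⟩ : ∃ rC : R₀ →+* comp A'' A₁,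
      rC = (A''.subtype.comp (lam.comp r')).codRestrict (comp A'' A₁).toSubring hrC := ⟨_, rfl⟩
  have hrCincl : ∀ x, compIncl A'' A₁ (rC x) = lam (r' x) := by
    intro x; rw [hrCdef]; rfl
  have hrCval : ∀ x, ((rC x : comp A'' A₁) : K'') = ((lam (r' x) : A'') : K'') := by
    intro x; rw [hrCdef]; rfl
  -- Step 5: the square for the composite valuation ring
  have hC : IsV ι (Spec.map (CommRingCat.ofHom rC) ≫ ι) rC := rfl
  have hKC : IsV ι (Spec.map (CommRingCat.ofHom (algebraMap (comp A'' A₁) K'')) ≫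
      Spec.map (CommRingCat.ofHom rC) ≫ ι) ((algebraMap (comp A'' A₁) K'').comp rC) := hC.comp _
  have hginj : Function.Injective (A''.subtype.comp lam) :=
    A''.subtype_injective.comp hlaminj
  obtain ⟨g, hgdef⟩ : ∃ g : FractionRing A' →+* K'', g = IsFractionRing.lift hginj := ⟨_, rfl⟩
  have hgalg : ∀ x : A', g (algebraMap A' (FractionRing A') x) = ((lam x : A'') : K'') := by
    intro x; rw [hgdef]; exact IsFractionRing.lift_algebraMap hginj x
  have hg : g.comp ((algebraMap A' (FractionRing A')).comp r') =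
      (algebraMap (comp A'' A₁) K'').comp rC := by
    ext x
    change g (algebraMap A' (FractionRing A') (r' x)) = ((rC x : comp A'' A₁) : K'')
    rw [hgalg, hrCval]
  have hxgf : (xg ≫ h'.hom) ≫ f' = (yon S).map (toV hF') := by
    rw [hcomm, Category.assoc, hαf, ← Functor.map_comp]
    exact congrArg (yon S).map (homV_toV hA' hF' _ rfl)
  let sqC : ValSq f' :=
    { A := comp A'' A₁
      K := K''
      str := Spec.map (CommRingCat.ofHom rC) ≫ ι
      top := (yon S).map (homV hF' hKC g hg) ≫ xg ≫ h'.hom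
      bot := (yon S).map (toV hC)
      comm := by
        rw [Category.assoc, Category.assoc, ← Category.assoc xg, hxgf, ← Functor.map_comp,
          ← Functor.map_comp, homV_toV]
        exact congrArg (yon S).map (homV_toV hC hKC _ rfl).symm }
  obtain ⟨huC, e, l, hl1, hl2⟩ := hv' sqC ⟨(yon S).map (homV hF' hKC g hg) ≫ xg, by
    rw [Category.assoc]⟩
  have heloc : IsLocalHom e.φ := e.isLocalHom
  obtain ⟨𝔮₂, h𝔮₂, hvq, algL, fracL, hvL, φf, ψf, ν, π, τ, hφfloc, hφψ, hI1, hI2, hI3, hI4, hI5,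
    hτ, hτι⟩ := exists_restrict A'' A₁ iota hA₁ hloc e.φ e.ψ e.comm
  -- V-structures of the extension
  have hAe : IsV ι (Spec.map (CommRingCat.ofHom e.φ) ≫ Spec.map (CommRingCat.ofHom rC) ≫ ι)
      (e.φ.comp rC) := hC.comp _
  have hKe : IsV ι (Spec.map (CommRingCat.ofHom (algebraMap e.A' e.K')) ≫
      Spec.map (CommRingCat.ofHom e.φ) ≫ Spec.map (CommRingCat.ofHom rC) ≫ ι)
      ((algebraMap e.A' e.K').comp (e.φ.comp rC)) := hAe.comp _
  have heψ : e.ψ.comp ((algebraMap (comp A'' A₁) K'').comp rC) =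
      (algebraMap e.A' e.K').comp (e.φ.comp rC) := by
    rw [← RingHom.comp_assoc, ← RingHom.comp_assoc]
    exact congrArg (fun f => f.comp rC) e.comm.symm
  have hl1' : (yon S).map (homV hAe hKe (algebraMap e.A' e.K') rfl) ≫ l =
      (yon S).map (homV hKC hKe e.ψ heψ) ≫ (yon S).map (homV hF' hKC g hg) ≫ xg ≫ h'.hom := hl1
  have hl2' : l ≫ f' = (yon S).map (toV hAe) := by
    have : l ≫ f' = (yon S).map (homV hC hAe e.φ rfl) ≫ (yon S).map (toV hC) := hl2
    rw [this, ← Functor.map_comp, homV_toV]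
  -- Step 8: the localization and uniqueness
  have hL : IsV ι (Spec.map (CommRingCat.ofHom (algebraMap e.A' (Localization.AtPrime 𝔮₂))) ≫
      Spec.map (CommRingCat.ofHom e.φ) ≫ Spec.map (CommRingCat.ofHom rC) ≫ ι)
      ((algebraMap e.A' (Localization.AtPrime 𝔮₂)).comp (e.φ.comp rC)) := hAe.comp _
  have hKL : IsV ι (Spec.map (CommRingCat.ofHom (algebraMap (Localization.AtPrime 𝔮₂) e.K')) ≫
      Spec.map (CommRingCat.ofHom (algebraMap e.A' (Localization.AtPrime 𝔮₂))) ≫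
      Spec.map (CommRingCat.ofHom e.φ) ≫ Spec.map (CommRingCat.ofHom rC) ≫ ι)
      ((algebraMap (Localization.AtPrime 𝔮₂) e.K').comp
        ((algebraMap e.A' (Localization.AtPrime 𝔮₂)).comp (e.φ.comp rC))) := hL.comp _
  obtain ⟨l₁, hl₁⟩ : ∃ l₁, (yon S).map (homV hAe hL (algebraMap e.A' (Localization.AtPrime 𝔮₂)) rfl) ≫
      l = l₁ := ⟨_, rfl⟩
  let sqL : ValSq f' :=
    { A := Localization.AtPrime 𝔮₂
      K := e.K'
      str := Spec.map (CommRingCat.ofHom (algebraMap e.A' (Localization.AtPrime 𝔮₂))) ≫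
        Spec.map (CommRingCat.ofHom e.φ) ≫ Spec.map (CommRingCat.ofHom rC) ≫ ι
      top := (yon S).map (homV hL hKL (algebraMap (Localization.AtPrime 𝔮₂) e.K') rfl) ≫ l₁
      bot := l₁ ≫ f'
      comm := Category.assoc _ _ _ }
  have hκ : (RingHom.id e.K').comp ((algebraMap e.A' e.K').comp (e.φ.comp rC)) =
      (algebraMap (Localization.AtPrime 𝔮₂) e.K').comp
        ((algebraMap e.A' (Localization.AtPrime 𝔮₂)).comp (e.φ.comp rC)) := by
    rw [RingHom.id_comp, ← hI2, RingHom.comp_assoc]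
  have htopL : sqL.top = (yon S).map (homV hKe hKL (RingHom.id e.K') hκ) ≫
      (yon S).map (homV hKC hKe e.ψ heψ) ≫ (yon S).map (homV hF' hKC g hg) ≫ xg ≫ h'.hom := by
    have e1 : homV hL hKL (algebraMap (Localization.AtPrime 𝔮₂) e.K') rfl ≫
        homV hAe hL (algebraMap e.A' (Localization.AtPrime 𝔮₂)) rfl =
        homV hKe hKL (RingHom.id e.K') hκ ≫ homV hAe hKe (algebraMap e.A' e.K') rfl := by
      refine homV_comp_eq hAe hL hKe hKL _ rfl _ rfl _ rfl _ hκ ?_
      rw [RingHom.id_comp, hI2]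
    calc sqL.top = (yon S).map (homV hL hKL (algebraMap (Localization.AtPrime 𝔮₂) e.K') rfl) ≫
          (yon S).map (homV hAe hL (algebraMap e.A' (Localization.AtPrime 𝔮₂)) rfl) ≫ l := by
          rw [hl₁]
      _ = ((yon S).map (homV hL hKL (algebraMap (Localization.AtPrime 𝔮₂) e.K') rfl) ≫
          (yon S).map (homV hAe hL (algebraMap e.A' (Localization.AtPrime 𝔮₂)) rfl)) ≫ l :=
          (Category.assoc _ _ _).symm
      _ = ((yon S).map (homV hKe hKL (RingHom.id e.K') hκ) ≫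
          (yon S).map (homV hAe hKe (algebraMap e.A' e.K') rfl)) ≫ l := by
          refine congrArg (· ≫ l) ?_
          rw [← Functor.map_comp, ← Functor.map_comp, e1]
      _ = (yon S).map (homV hKe hKL (RingHom.id e.K') hκ) ≫
          (yon S).map (homV hAe hKe (algebraMap e.A' e.K') rfl) ≫ l := Category.assoc _ _ _
      _ = _ := by rw [hl1']
  obtain ⟨huL, -⟩ := hv' sqL ⟨(yon S).map (homV hKe hKL (RingHom.id e.K') hκ) ≫
      (yon S).map (homV hKC hKe e.ψ heψ) ≫ (yon S).map (homV hF' hKC g hg) ≫ xg, by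
    rw [htopL]; simp only [Category.assoc]⟩
  have hνr : (ν.comp lam).comp r' =
      (algebraMap e.A' (Localization.AtPrime 𝔮₂)).comp (e.φ.comp rC) := by
    ext x
    change ν (lam (r' x)) = algebraMap e.A' (Localization.AtPrime 𝔮₂) (e.φ (rC x))
    rw [← hI4, hrCincl]
  obtain ⟨l₂, hl₂⟩ : ∃ l₂, (yon S).map (homV hA' hL (ν.comp lam) hνr) ≫ α = l₂ := ⟨_, rfl⟩
  have h12 : l₁ = l₂ := by
    refine huL l₁ l₂ rfl rfl ?_ ?_
    · change (yon S).map (homV hL hKL (algebraMap (Localization.AtPrime 𝔮₂) e.K') rfl) ≫ l₂ =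
        sqL.top
      rw [htopL, hcomm, ← hl₂]
      have hcomm' : (yon S).map (Over.homMk (Spec.map (CommRingCat.ofHom
          (algebraMap A' (FractionRing A')))) rfl : Over.mk (Spec.map (CommRingCat.ofHom
          (algebraMap A' (FractionRing A'))) ≫ str') ⟶ Over.mk str') =
          (yon S).map (homV hA' hF' (algebraMap A' (FractionRing A')) rfl) := rfl
      rw [hcomm']
      simp only [← Category.assoc, ← Functor.map_comp]
      congr 2
      rw [homV_comp, homV_comp, homV_comp, homV_comp]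
      congr 1
      ext x
      change algebraMap (Localization.AtPrime 𝔮₂) e.K' (ν (lam x)) =
        e.ψ (g (algebraMap A' (FractionRing A') x))
      rw [hI3, hgalg]
    · change l₂ ≫ f' = l₁ ≫ f'
      rw [← hl₂, ← hl₁, Category.assoc, Category.assoc, hαf, hl2', ← Functor.map_comp,
        ← Functor.map_comp, homV_toV, homV_toV]
  -- Step 9: the extension of the original square and its dotted arrow
  have hB : IsV ι (Spec.map (CommRingCat.ofHom φf) ≫ sq.str) (φf.comp rA) := hA.comp _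
  have hKB : IsV ι (Spec.map (CommRingCat.ofHom (algebraMap (e.A' ⧸ 𝔮₂)
      (FractionRing (e.A' ⧸ 𝔮₂)))) ≫ Spec.map (CommRingCat.ofHom φf) ≫ sq.str)
      ((algebraMap (e.A' ⧸ 𝔮₂) (FractionRing (e.A' ⧸ 𝔮₂))).comp (φf.comp rA)) := hB.comp _
  have hmk : (Ideal.Quotient.mk 𝔮₂).comp (e.φ.comp rC) = φf.comp rA := by
    ext x
    change Ideal.Quotient.mk 𝔮₂ (e.φ (rC x)) = φf (rA x)
    refine hI1 (rC x) (rA x) ?_
    rw [compRes_val, hrCincl, hres]
  have hπr : π.comp ((algebraMap e.A' (Localization.AtPrime 𝔮₂)).comp (e.φ.comp rC)) =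
      (algebraMap (e.A' ⧸ 𝔮₂) (FractionRing (e.A' ⧸ 𝔮₂))).comp (φf.comp rA) := by
    rw [← RingHom.comp_assoc, hI5, RingHom.comp_assoc, hmk]
  obtain ⟨ω, hωdef⟩ : ∃ ω : Ω →+* FractionRing (e.A' ⧸ 𝔮₂), ω = τ.comp iotaΩ := ⟨_, rfl⟩
  have hωθ : ω.comp θ = π.comp (ν.comp lam) := by
    ext x
    change ω (θ x) = π (ν (lam x))
    rw [hωdef, RingHom.comp_apply, hiota, hτ]
  have hωψ : ω.comp ψΩ = ψf := by
    rw [hωdef, RingHom.comp_assoc, ← hiotadef, hτι]
  have hωr : ω.comp (θ.comp r') =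
      (algebraMap (e.A' ⧸ 𝔮₂) (FractionRing (e.A' ⧸ 𝔮₂))).comp (φf.comp rA) := by
    rw [← RingHom.comp_assoc, hωθ, RingHom.comp_assoc, hνr, hπr]
  have hψfr : ψf.comp ((algebraMap sq.A sq.K).comp rA) =
      (algebraMap (e.A' ⧸ 𝔮₂) (FractionRing (e.A' ⧸ 𝔮₂))).comp (φf.comp rA) := by
    rw [← RingHom.comp_assoc, ← hφψ, RingHom.comp_assoc]
  let ef : sq.DomExt :=
    { A' := e.A' ⧸ 𝔮₂
      K' := FractionRing (e.A' ⧸ 𝔮₂)
      φ := φf
      ψ := ψf
      comm := hφψ
      isLocalHom := hφfloc }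
  refine ⟨ef, (yon S).map (homV hAe hB (Ideal.Quotient.mk 𝔮₂) hmk) ≫ l, ?_, ?_⟩
  · -- the generic point
    change (yon S).map (homV hB hKB (algebraMap (e.A' ⧸ 𝔮₂) (FractionRing (e.A' ⧸ 𝔮₂))) rfl) ≫
      (yon S).map (homV hAe hB (Ideal.Quotient.mk 𝔮₂) hmk) ≫ l =
      (yon S).map (homV hK hKB ψf hψfr) ≫ sq.top
    have e1 : homV hB hKB (algebraMap (e.A' ⧸ 𝔮₂) (FractionRing (e.A' ⧸ 𝔮₂))) rfl ≫
        homV hAe hB (Ideal.Quotient.mk 𝔮₂) hmk =
        homV hL hKB π hπr ≫ homV hAe hL (algebraMap e.A' (Localization.AtPrime 𝔮₂)) rfl :=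
      homV_comp_eq hAe hB hL hKB _ hmk _ rfl _ rfl _ hπr hI5.symm
    have e2 : homV hL hKB π hπr ≫ homV hA' hL (ν.comp lam) hνr =
        homV hΩ hKB ω hωr ≫ homV hA' hΩ θ rfl :=
      homV_comp_eq hA' hL hΩ hKB _ hνr _ hπr _ rfl _ hωr hωθ.symm
    have e3 : homV hΩ hKB ω hωr ≫ homV hK hΩ ψΩ hring.symm = homV hK hKB ψf hψfr := by
      rw [homV_comp]
      congr 1
    have hu₂eq' : u₂ = homV hK hΩ ψΩ hring.symm := hu₂eq
    calc (yon S).map (homV hB hKB (algebraMap (e.A' ⧸ 𝔮₂) (FractionRing (e.A' ⧸ 𝔮₂))) rfl) ≫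
          (yon S).map (homV hAe hB (Ideal.Quotient.mk 𝔮₂) hmk) ≫ l
        = (yon S).map (homV hL hKB π hπr) ≫
          (yon S).map (homV hAe hL (algebraMap e.A' (Localization.AtPrime 𝔮₂)) rfl) ≫ l :=
          map_comp_map_eq _ _ _ _ l e1
      _ = (yon S).map (homV hL hKB π hπr) ≫ l₁ := by rw [hl₁]
      _ = (yon S).map (homV hL hKB π hπr) ≫ (yon S).map (homV hA' hL (ν.comp lam) hνr) ≫ α := by
          rw [h12, hl₂]
      _ = (yon S).map (homV hΩ hKB ω hωr) ≫ (yon S).map (homV hA' hΩ θ rfl) ≫ α :=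
          map_comp_map_eq _ _ _ _ α e2
      _ = (yon S).map (homV hΩ hKB ω hωr) ≫ (yon S).map u₁ ≫ α := by rw [hu₁eq]
      _ = (yon S).map (homV hΩ hKB ω hωr) ≫ (yon S).map u₂ ≫ sq.top := by rw [hu]
      _ = (yon S).map (homV hΩ hKB ω hωr) ≫ (yon S).map (homV hK hΩ ψΩ hring.symm) ≫ sq.top := by
          rw [hu₂eq']
      _ = (yon S).map (homV hK hKB ψf hψfr) ≫ sq.top := map_comp_map_eq' _ _ _ sq.top e3
  · -- over the bottom arrow
    change ((yon S).map (homV hAe hB (Ideal.Quotient.mk 𝔮₂) hmk) ≫ l) ≫ f' =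
      (yon S).map (homV hA hB φf rfl) ≫ sq.bot
    rw [Category.assoc, hl2', ← hβ, hβeq, ← Functor.map_comp, ← Functor.map_comp, homV_toV,
      homV_toV]

end Groth.Agent.Lib.Helper3.RVC
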