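import Groth.Agent.Lib.Helper3.RDvrAlg
import Groth.Agent.Lib.Helper3.RDvrRel
import Groth.Agent.Lib.Helper3.RDvrPB
import Groth.Agent.Lib.Helper3.RDvrDom
import Groth.Agent.Lib.Helper3.RDvrGeom
import Groth.Agent.Lib.Helper3.RDvrSec
import Groth.Agent.Lib.Helper3.RVCCore
import Groth.Agent.Lib.Helper3.AlgSpQC4
set_option autoImplicit false
universe u
open CategoryTheory CategoryTheory.Limits AlgebraicGeometry IsLocalRing TensorProduct
open AlgSp
open Groth.Agent.Lib.Helper3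
open Groth.Agent.Lib.Helper3.RVC
open Groth.Agent.Lib.Helper9

namespace Groth.Agent.Lib.Helper3.RDvr

variable {S : Scheme.{u}} {R₀ : Type u} [CommRing R₀]

/-- a quasi-compact sheaf has an etale surjective chart which is the spectrum of a ring -/
theorem exists_spec_chart_surjective {F : Sp S} (hF : IsQuasiCompactSp F) :
    ∃ (D : Type u) (_ : CommRing D) (strD : Spec (CommRingCat.of D) ⟶ S)
      (a : (yon S).obj (Over.mk strD) ⟶ F), RepWith @Etale a ∧ RepWith @Surjective a := by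
  obtain ⟨M, a₀, hae, has, hMa⟩ := exists_affine_chart_of_isQuasiCompactSp hF
  have hMa' : IsAffine M.left := hMa
  let strD : Spec (CommRingCat.of Γ(M.left, ⊤)) ⟶ S := M.left.isoSpec.inv ≫ M.hom
  let eM : Over.mk strD ≅ M := Over.isoMk M.left.isoSpec.symm rfl
  exact ⟨Γ(M.left, ⊤), inferInstance, strD, (yon S).map eM.hom ≫ a₀,
    MorphismProperty.RespectsIso.precomp (RepWith @Etale) ((yon S).map eM.hom) a₀ hae,
    MorphismProperty.RespectsIso.precomp (RepWith @Surjective) ((yon S).map eM.hom) a₀ has⟩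

set_option linter.style.haveILetI false in
/-- **Core**: a dotted arrow after extension for a valuative square through an affine scheme of
finite type, from dotted arrows for discrete valuation rings, over a Noetherian affine base. -/
theorem core_dvr [IsNoetherianRing R₀] (ι : Spec (CommRingCat.of R₀) ⟶ S)
    {X' : Space S} (f' : X'.obj ⟶ (yon S).obj (Over.mk ι))
    (hfqc : IsQuasiCompactMor f') (hfqs : IsQuasiSeparatedMor f')
    {C : Type u} [CommRing C] (ιC : Spec (CommRingCat.of C) ⟶ S)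
    (g : (yon S).obj (Over.mk ιC) ⟶ X'.obj) (rC : R₀ →+* C) (hC : IsV ι ιC rC)
    (hgf : g ≫ f' = (yon S).map (toV hC)) (hrC : rC.FiniteType)
    (hdvr : ∀ sq : ValSq (g ≫ f'), IsDiscreteValuationRing sq.A →
      ∃ l : (yon S).obj sq.ptA ⟶ X'.obj, (yon S).map sq.j ≫ l = sq.top ≫ g ∧ l ≫ f' = sq.bot)
    (sq : ValSq f') (τ : (yon S).obj sq.ptK ⟶ (yon S).obj (Over.mk ιC)) (hτ : τ ≫ g = sq.top) :
    sq.HasLiftExt := by
  by_contra hno
  -- Step 0: the V-structure of the square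
  obtain ⟨β, hβ⟩ := (yon S).map_surjective sq.bot
  obtain ⟨rA, hA, hβeq⟩ := exists_isV β
  have hK : IsV ι (Spec.map (CommRingCat.ofHom (algebraMap sq.A sq.K)) ≫ sq.str)
      ((algebraMap sq.A sq.K).comp rA) := hA.comp _
  have hj : sq.j = homV hA hK (algebraMap sq.A sq.K) rfl := rfl
  have hbot : sq.bot = (yon S).map (toV hA) := by rw [← hβ, hβeq]
  have htop : sq.top ≫ f' = (yon S).map (toV hK) := by
    calc sq.top ≫ f' = (yon S).map sq.j ≫ sq.bot := sq.comm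
      _ = (yon S).map (homV hA hK (algebraMap sq.A sq.K) rfl) ≫ (yon S).map (toV hA) := by
        rw [hbot, hj]
      _ = (yon S).map (toV hK) := by rw [← Functor.map_comp, homV_toV]
  -- the ring map of τ
  obtain ⟨τ₀, hτ₀⟩ := (yon S).map_surjective τ
  obtain ⟨c, hcV, hτ₀eq⟩ := exists_homV hC τ₀
  have hc : c.comp rC = (algebraMap sq.A sq.K).comp rA := by
    apply eq_of_toV_eq hcV hK
    apply (yon S).map_injective
    rw [← htop, ← hτ, ← hτ₀, Category.assoc, hgf, ← Functor.map_comp, hτ₀eq, homV_toV]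
  have hτ₀eq' : τ₀ = homV hC hK c hc := hτ₀eq
  -- Step 1: the chart of X'
  have hVqc : IsQuasiCompactSp ((yon S).obj (Over.mk ι)) := isQuasiCompactSp_yon (by
    change CompactSpace ↥(Spec (CommRingCat.of R₀)); infer_instance)
  have hXqc : IsQuasiCompactSp X'.obj :=
    hfqc (IsAlgSpace.yon_obj _) hVqc (𝟙 _) (𝟙 _) f' (IsPullback.id_horiz f')
  obtain ⟨D, _, strD, a, hae, has⟩ := exists_spec_chart_surjective hXqc
  obtain ⟨βD, hβD⟩ := (yon S).map_surjective (a ≫ f')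
  obtain ⟨rD, hD, hβDeq⟩ := exists_isV βD
  have haf : a ≫ f' = (yon S).map (toV hD) := by rw [← hβD, hβDeq]
  letI algA : Algebra R₀ sq.A := rA.toAlgebra
  letI algD : Algebra R₀ D := rD.toAlgebra
  have hA' : IsV ι sq.str (algebraMap R₀ sq.A) := hA
  have hD' : IsV ι strD (algebraMap R₀ D) := hD
  -- Step 2: the base change and its section
  let VSp : Space S := ⟨(yon S).obj (Over.mk ι), IsAlgSpace.yon_obj _⟩
  let fS : X' ⟶ VSp := ObjectProperty.homMk f'
  obtain ⟨σ, hσ1, hσ2, hqc⟩ := exists_section_qc fS hfqs sq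
  have hsq : IsPullback (pullback.fst f' sq.bot) (pullback.snd f' sq.bot) f' sq.bot :=
    IsPullback.of_hasPullback _ _
  have hsq' : IsPullback (pullback.fst f' sq.bot) (pullback.snd f' sq.bot) f'
      ((yon S).map (toV hA')) := by
    have key : ∀ b' (_ : sq.bot = b'),
        IsPullback (pullback.fst f' sq.bot) (pullback.snd f' sq.bot) f' b' := by
      intro b' hb; subst hb; exact hsq
    exact key _ hbot
  -- Step 3: the chart of the base change
  have hE : IsV ι (Spec.map (CommRingCat.ofHom (algebraMap R₀ (sq.A ⊗[R₀] D))) ≫ ι)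
      (algebraMap R₀ (sq.A ⊗[R₀] D)) := rfl
  obtain ⟨aA, haA1, hpbA⟩ := exists_chart_pullback f' hA' hD' a haf _ _ hsq' hE
  have haAe : RepWith @Etale aA := (RepWith @Etale).of_isPullback hpbA.flip hae
  have haAs : RepWith @Surjective aA := (RepWith @Surjective).of_isPullback hpbA.flip has
  -- Step 4: the relation
  have hrel := sup_eq_top_of_not_hasLiftExt fS sq _ _ hsq σ hσ1 hσ2 hqc _ aA haAe
    (homV hA' hE Algebra.TensorProduct.includeLeftRingHom includeLeft_comp) haA1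
    Algebra.TensorProduct.includeLeftRingHom rfl hno
  -- Step 5: descent to a finitely generated subalgebra
  obtain ⟨B₀, hB₀, x₀, y₀, hxy, hx₀, hy₀⟩ := exists_fg_subalgebra_relation (R := R₀) (A := sq.A)
    (D := D) _ (maximalIdeal sq.A) hrel
  by_cases hp0 : (maximalIdeal sq.A).comap B₀.val = ⊥
  · -- the degenerate case
    have hy0 : y₀ = 0 := by
      have h1 : idl (D := D) (maximalIdeal sq.A) B₀ = ⊥ := by
        change Ideal.map _ ((maximalIdeal sq.A).comap B₀.val) = ⊥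
        rw [hp0, Ideal.map_bot]
      rw [h1] at hy₀
      exact hy₀
    rw [hy0, add_zero] at hxy
    rw [hxy, map_one] at hx₀
    obtain ⟨u, hu⟩ := exists_ofPt_eq aA haAs (Points.ofPt σ (closedPoint sq.K))
    have h1 := (PrimeSpectrum.mem_vanishingIdeal _ _).1 hx₀ u hu
    exact u.isPrime.ne_top ((Ideal.eq_top_iff_one _).2 h1)
  -- Step 7: the discrete valuation ring
  have hc' : c.comp rC = (algebraMap sq.A sq.K).comp (algebraMap R₀ sq.A) := hc
  obtain ⟨L, Rd, cL, δ, hRd, hcLval, hδval, hδmax⟩ := exists_dvr_data rC hrC c hc' B₀ hB₀ hp0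
  obtain ⟨δ₀, hδ₀⟩ : ∃ δ₀ : R₀ →+* ↥Rd, δ₀ = δ.comp (algebraMap R₀ B₀) := ⟨_, rfl⟩
  have hAd : IsV ι (Spec.map (CommRingCat.ofHom δ₀) ≫ ι) δ₀ := rfl
  have hLd : IsV ι (Spec.map (CommRingCat.ofHom (algebraMap ↥Rd ↥L)) ≫
      Spec.map (CommRingCat.ofHom δ₀) ≫ ι) ((algebraMap ↥Rd ↥L).comp δ₀) := hAd.comp _
  have hcomp : cL.comp rC = (algebraMap ↥Rd ↥L).comp δ₀ := by
    ext r
    change ((cL (rC r) : ↥L) : sq.K) = (((δ₀ r : ↥Rd) : ↥L) : sq.K)
    rw [hcLval, hδ₀]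
    change c (rC r) = (((δ (algebraMap R₀ B₀ r) : ↥Rd) : ↥L) : sq.K)
    rw [hδval]
    exact congrArg (fun f => f r) hc'
  let sqd : ValSq (g ≫ f') :=
    { A := ↥Rd
      K := ↥L
      str := Spec.map (CommRingCat.ofHom δ₀) ≫ ι
      top := (yon S).map (homV hC hLd cL hcomp)
      bot := (yon S).map (toV hAd)
      comm := by
        rw [hgf, ← Functor.map_comp, ← Functor.map_comp, homV_toV]
        exact congrArg (yon S).map (homV_toV hAd hLd _ rfl).symm }
  obtain ⟨ld, hld1, hld2⟩ := hdvr sqd hRd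
  have hld1' : (yon S).map (homV hAd hLd (algebraMap ↥Rd ↥L) rfl) ≫ ld =
      (yon S).map (homV hC hLd cL hcomp) ≫ g := hld1
  have hld2' : ld ≫ f' = (yon S).map (toV hAd) := hld2
  -- Step 9: the points of the charts
  have hincL : L.subtype.comp ((algebraMap ↥Rd ↥L).comp δ₀) = (algebraMap sq.A sq.K).comp rA := by
    ext r
    change (((δ₀ r : ↥Rd) : ↥L) : sq.K) = algebraMap sq.A sq.K (rA r)
    rw [hδ₀]
    change (((δ (algebraMap R₀ B₀ r) : ↥Rd) : ↥L) : sq.K) = _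
    rw [hδval]
    rfl
  have hk : (L.subtype.comp (algebraMap ↥Rd ↥L)).comp δ₀ = (algebraMap sq.A sq.K).comp rA := by
    rw [RingHom.comp_assoc]; exact hincL
  have hkcomp : homV hLd hK L.subtype hincL ≫ homV hAd hLd (algebraMap ↥Rd ↥L) rfl =
      homV hAd hK (L.subtype.comp (algebraMap ↥Rd ↥L)) hk := homV_comp _ _ _ _ _ _ _
  have hcLc : L.subtype.comp cL = c := by
    ext x
    exact hcLval x
  have hτcomp : homV hLd hK L.subtype hincL ≫ homV hC hLd cL hcomp = τ₀ := by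
    rw [hτ₀eq', homV_comp]
    congr 1
  have hσk : (yon S).map (homV hAd hK (L.subtype.comp (algebraMap ↥Rd ↥L)) hk) ≫ ld =
      σ ≫ pullback.fst f' sq.bot := by
    rw [← hkcomp, Functor.map_comp, Category.assoc, hld1', ← Category.assoc, ← Functor.map_comp,
      hτcomp, hτ₀, hτ]
    exact hσ1.symm
  obtain ⟨Wh, WK, pW, pT, qW, qK, μ, wg, w, ω, h1, h2, h3, h4, h5, h6, h7, h8⟩ :=
    exists_points_chart a hae has (pullback.fst f' sq.bot) aA _ hpbA ld
      (homV hAd hK (L.subtype.comp (algebraMap ↥Rd ↥L)) hk) σ hσk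
      (closedPoint sq.K) (closedPoint ↥Rd) (IsLocalRing.specializes_closedPoint (R := ↥Rd) _)
  -- Step 10: the chart over `B₀`
  have hB : IsV ι (Spec.map (CommRingCat.ofHom (algebraMap R₀ B₀)) ≫ ι) (algebraMap R₀ B₀) := rfl
  have hE₀ : IsV ι (Spec.map (CommRingCat.ofHom (algebraMap R₀ (B₀ ⊗[R₀] D))) ≫ ι)
      (algebraMap R₀ (B₀ ⊗[R₀] D)) := rfl
  have hT₀ := isPullback_tensor hB hD' hE₀
  have hδcomp : δ.comp (algebraMap R₀ B₀) = δ₀ := hδ₀.symm
  have hcond : (pT ≫ homV hB hAd δ hδcomp) ≫ toV hB = pW ≫ toV hD' := by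
    rw [Category.assoc, homV_toV]
    apply (yon S).map_injective
    rw [Functor.map_comp, Functor.map_comp, ← hld2', ← haf, ← Category.assoc, ← Category.assoc, h1]
  obtain ⟨ρ, hρdef⟩ : ∃ ρ, ρ = hT₀.lift _ _ hcond := ⟨_, rfl⟩
  have hρ1 : ρ ≫ homV hB hE₀ Algebra.TensorProduct.includeLeftRingHom includeLeft_comp =
      pT ≫ homV hB hAd δ hδcomp := by rw [hρdef]; exact hT₀.lift_fst _ _ _
  have hρ2 : ρ ≫ homV hD' hE₀ ((Algebra.TensorProduct.includeRight : D →ₐ[R₀] B₀ ⊗[R₀] D) :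
      D →+* B₀ ⊗[R₀] D) includeRight_comp = pW := by rw [hρdef]; exact hT₀.lift_snd _ _ _
  have hπ : ((inc (D := D) B₀ : B₀ ⊗[R₀] D →ₐ[R₀] sq.A ⊗[R₀] D) : B₀ ⊗[R₀] D →+* sq.A ⊗[R₀] D).comp
      (algebraMap R₀ (B₀ ⊗[R₀] D)) = algebraMap R₀ (sq.A ⊗[R₀] D) := AlgHom.comp_algebraMap _
  have hval : (B₀.val : B₀ →+* sq.A).comp (algebraMap R₀ B₀) = algebraMap R₀ sq.A :=
    AlgHom.comp_algebraMap _
  have hμA : μ ≫ homV hA' hE Algebra.TensorProduct.includeLeftRingHom includeLeft_comp =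
      qK ≫ sq.j := by
    apply (yon S).map_injective
    rw [Functor.map_comp, Functor.map_comp, ← haA1, ← hσ2, ← Category.assoc, ← Category.assoc, h4]
    rfl
  have hclaim : qW ≫ ρ = μ ≫ homV hE₀ hE
      ((inc (D := D) B₀ : B₀ ⊗[R₀] D →ₐ[R₀] sq.A ⊗[R₀] D) : B₀ ⊗[R₀] D →+* sq.A ⊗[R₀] D) hπ := by
    apply hT₀.hom_ext
    · rw [Category.assoc, hρ1, ← Category.assoc, h2, Category.assoc, Category.assoc]
      have e1 : homV hE₀ hE ((inc (D := D) B₀ : B₀ ⊗[R₀] D →ₐ[R₀] sq.A ⊗[R₀] D) :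
          B₀ ⊗[R₀] D →+* sq.A ⊗[R₀] D) hπ ≫
          homV hB hE₀ Algebra.TensorProduct.includeLeftRingHom includeLeft_comp =
          homV hA' hE Algebra.TensorProduct.includeLeftRingHom includeLeft_comp ≫
          homV hB hA' (B₀.val : B₀ →+* sq.A) hval := by
        refine homV_comp_eq hB hE₀ hA' hE _ _ _ _ _ _ _ _ ?_
        ext b
        simp [inc]
      have e2 : homV hAd hK (L.subtype.comp (algebraMap ↥Rd ↥L)) hk ≫ homV hB hAd δ hδcomp =
          sq.j ≫ homV hB hA' (B₀.val : B₀ →+* sq.A) hval := by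
        rw [hj]
        refine homV_comp_eq hB hAd hA hK _ _ _ _ _ _ _ _ ?_
        ext b
        exact hδval b
      rw [e1, ← Category.assoc μ, hμA, Category.assoc, e2]
    · rw [Category.assoc, hρ2, Category.assoc, ← h3]
      congr 1
      rw [homV_comp]
      congr 1
  -- Step 11: the points
  obtain ⟨w₀, hw₀⟩ : ∃ w₀ : PrimeSpectrum (B₀ ⊗[R₀] D), w₀ = ρ.left w := ⟨_, rfl⟩
  obtain ⟨w₁, hw₁⟩ : ∃ w₁ : PrimeSpectrum (B₀ ⊗[R₀] D), w₁ = ρ.left wg := ⟨_, rfl⟩
  have hsp : w₁ ⤳ w₀ := by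
    rw [hw₀, hw₁]
    exact h5.map ρ.left.continuous
  obtain ⟨u, hu⟩ : ∃ u : PrimeSpectrum (sq.A ⊗[R₀] D), u = μ.left ω := ⟨_, rfl⟩
  have huS : u ∈ (Points.ofPt aA ⁻¹' {Points.ofPt σ (closedPoint sq.K)}) := by
    change Points.ofPt aA u = _
    rw [hu, ← Points.ofPt_yon_map_comp μ aA ω, h4, Points.ofPt_yon_map_comp qK σ ω, h8]
  have hx₀u : inc B₀ x₀ ∈ u.asIdeal := (PrimeSpectrum.mem_vanishingIdeal _ _).1 hx₀ u huS
  have hπu : (homV hE₀ hE ((inc (D := D) B₀ : B₀ ⊗[R₀] D →ₐ[R₀] sq.A ⊗[R₀] D) :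
      B₀ ⊗[R₀] D →+* sq.A ⊗[R₀] D) hπ).left u = w₁ := by
    rw [hu, hw₁, ← h7]
    have := congrArg (fun t => t.left ω) hclaim
    exact this.symm
  have hx₀w₁ : x₀ ∈ w₁.asIdeal := by
    rw [← hπu]
    exact hx₀u
  have hx₀w₀ : x₀ ∈ w₀.asIdeal := (PrimeSpectrum.le_iff_specializes _ _).2 hsp hx₀w₁
  have hy₀w₀ : y₀ ∈ w₀.asIdeal := by
    have hle : idl (D := D) (maximalIdeal sq.A) B₀ ≤ w₀.asIdeal := by
      change Ideal.map _ _ ≤ _
      rw [Ideal.map_le_iff_le_comap]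
      intro b hb
      have e1 : (homV hB hE₀ Algebra.TensorProduct.includeLeftRingHom includeLeft_comp).left w₀ =
          (homV hB hAd δ hδcomp).left (closedPoint ↥Rd) := by
        rw [hw₀, ← h6]
        exact congrArg (fun t => t.left w) hρ1
      have e2 : b ∈ ((homV hB hAd δ hδcomp).left (closedPoint ↥Rd)).asIdeal := hδmax b hb
      rw [← e1] at e2
      exact e2
    exact hle hy₀
  have h1w₀ : (1 : B₀ ⊗[R₀] D) ∈ w₀.asIdeal := by
    rw [← hxy]; exact Ideal.add_mem _ hx₀w₀ hy₀w₀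
  exact w₀.isPrime.ne_top ((Ideal.eq_top_iff_one _).2 h1w₀)

end Groth.Agent.Lib.Helper3.RDvr
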