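import Groth.Agent.Lib.Helper3.RVCSq
import Groth.Agent.Lib.Helper3.SchImVal
set_option autoImplicit false
universe u
open CategoryTheory CategoryTheory.Limits AlgebraicGeometry Opposite AlgSp

namespace Groth.Agent.Lib.Helper3.RVC

variable {S : Scheme.{u}}

theorem map_op_val_eq {F : Sp S} (p : FieldPt F) {Y : Over S} (a : Y ⟶ p.pt) :
    F.obj.map a.op p.val = (J S).uliftYonedaEquiv ((yon S).map a ≫ p.toHom) := by
  have h1 := (J S).uliftYonedaEquiv_naturality p.toHom a
  rw [FieldPt.uliftYonedaEquiv_toHom] at h1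
  exact h1

/-- Two scheme points defining the same point of a sheaf agree, as morphisms, over a common field
extension. -/
theorem exists_common_ext {F : Sp S} {T T' : Over S} (g : (yon S).obj T ⟶ F)
    (g' : (yon S).obj T' ⟶ F) (t : ↥T.left) (t' : ↥T'.left)
    (h : Points.ofPt g t = Points.ofPt g' t') :
    ∃ (Ω : Type u) (_ : Field Ω) (w : Spec (CommRingCat.of Ω) ⟶ S) (a : Over.mk w ⟶ T)
      (b : Over.mk w ⟶ T'), (yon S).map a ≫ g = (yon S).map b ≫ g' ∧ (∀ x, a.left x = t) ∧
        ∀ x, b.left x = t' := by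
  obtain ⟨Ω, hΩ, w, a₀, b₀, h0⟩ := Points.mk_eq_mk_iff.1 h
  rw [map_op_val_eq, map_op_val_eq] at h0
  have h1 := (J S).uliftYonedaEquiv.injective h0
  rw [FieldPt.toHom_ofPt, FieldPt.toHom_ofPt, ← Category.assoc, ← Category.assoc,
    ← Functor.map_comp, ← Functor.map_comp] at h1
  refine ⟨Ω, hΩ, w, a₀ ≫ (Over.homMk (T.left.fromSpecResidueField t) rfl :
      (FieldPt.ofPt g t).pt ⟶ T), b₀ ≫ (Over.homMk (T'.left.fromSpecResidueField t') rfl :
      (FieldPt.ofPt g' t').pt ⟶ T'), h1, fun x => ?_, fun x => ?_⟩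
  · change T.left.fromSpecResidueField t (a₀.left x) = t
    exact Scheme.fromSpecResidueField_apply _ _
  · change T'.left.fromSpecResidueField t' (b₀.left x) = t'
    exact Scheme.fromSpecResidueField_apply _ _

/-- A ring map to a field whose spectrum map hits the closed point kills the maximal ideal. -/
theorem eq_zero_of_mem_maximalIdeal {A' Ω : Type u} [CommRing A'] [IsLocalRing A'] [Field Ω]
    (θ : A' →+* Ω)
    (h : ∀ x, Spec.map (CommRingCat.ofHom θ) x = IsLocalRing.closedPoint A') (a : A')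
    (ha : a ∈ IsLocalRing.maximalIdeal A') : θ a = 0 := by
  have h1 := h (⊥ : PrimeSpectrum Ω)
  have h2 : a ∈ (Spec.map (CommRingCat.ofHom θ) (⊥ : PrimeSpectrum Ω)).asIdeal := by
    rw [h1]; exact ha
  exact h2

end Groth.Agent.Lib.Helper3.RVC
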