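import Groth.Agent.Lib.Helper3.RVCExt
import Groth.Agent.Lib.Helper3.RVCPt
import Groth.Agent.Lib.Helper3.AlgSpHasAtMor
set_option autoImplicit false
universe u
open CategoryTheory CategoryTheory.Limits AlgebraicGeometry IsLocalRing
open AlgSp
open Groth.Agent.Lib.Helper3
open Groth.Agent.Lib.Helper3.RVC

namespace Groth.Agent.Lib.Helper3.RDvr

variable {S : Scheme.{u}}

/-- After a dominating extension of the valuation ring, the generic point of a valuative square
whose top arrow factors through `U'` lifts to a given surjective chart of `U'`. -/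
theorem exists_ext_through_chart {F G U' : Sp S} {f : F ⟶ G} (sq : ValSq f) (hV : U' ⟶ F)
    (t₁ : (yon S).obj sq.ptK ⟶ U') (ht₁ : t₁ ≫ hV = sq.top)
    {C : Type u} [CommRing C] (ιC : Spec (CommRingCat.of C) ⟶ S)
    (c : (yon S).obj (Over.mk ιC) ⟶ U') (hcs : RepWith @Surjective c) :
    ∃ (e : sq.DomExt) (τ : (yon S).obj (extSq sq e).ptK ⟶ (yon S).obj (Over.mk ιC)),
      τ ≫ c ≫ hV = (extSq sq e).top := by
  obtain ⟨u, hu⟩ := exists_ofPt_eq c hcs (Points.ofPt t₁ (closedPoint sq.K))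
  obtain ⟨Ω, _, w, a, b, hab, -, -⟩ := exists_common_ext c t₁ u (closedPoint sq.K) hu
  obtain ⟨ψ, hψ⟩ : ∃ ψ : sq.K →+* Ω, Spec.map (CommRingCat.ofHom ψ) = b.left :=
    ⟨(Spec.preimage b.left).hom, by rw [CommRingCat.ofHom_hom, Spec.map_preimage]⟩
  obtain ⟨A₂, hA₂, hloc⟩ := IsLocalRing.exists_factor_valuationRing
    (ψ.comp (algebraMap sq.A sq.K))
  let e : sq.DomExt :=
    { A' := ↥A₂
      K' := Ω
      φ := (ψ.comp (algebraMap sq.A sq.K)).codRestrict A₂.toSubring hA₂
      ψ := ψ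
      comm := rfl
      isLocalHom := hloc }
  have hw : w = (extSq sq e).ptK.hom := by
    have h1 : w = b.left ≫ sq.ptK.hom := (Over.w b).symm
    rw [h1, ← hψ]
    have e1 : Spec.map (CommRingCat.ofHom ψ) ≫ sq.ptK.hom =
        Spec.map (CommRingCat.ofHom (ψ.comp (algebraMap sq.A sq.K))) ≫ sq.str := by
      change Spec.map _ ≫ Spec.map _ ≫ sq.str = _
      rw [← Spec.map_comp_assoc, ← CommRingCat.ofHom_comp]
    have e2 : (extSq sq e).ptK.hom =
        Spec.map (CommRingCat.ofHom (ψ.comp (algebraMap sq.A sq.K))) ≫ sq.str := by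
      change Spec.map (CommRingCat.ofHom (algebraMap ↥A₂ Ω)) ≫
        Spec.map (CommRingCat.ofHom e.φ) ≫ sq.str = _
      rw [← Spec.map_comp_assoc, ← CommRingCat.ofHom_comp]
      rfl
    rw [e1, e2]
  let θ : (extSq sq e).ptK ⟶ Over.mk w := Over.homMk (𝟙 _) ((Category.id_comp _).trans hw)
  refine ⟨e, (yon S).map (θ ≫ a), ?_⟩
  have hθb : θ ≫ b = homV ((isV_self sq).comp (algebraMap sq.A sq.K))
      (((isV_self sq).comp e.φ).comp (algebraMap e.A' e.K')) e.ψ (by
        rw [RingHom.comp_id, RingHom.comp_id]; exact e.comm.symm) := by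
    ext
    change 𝟙 _ ≫ b.left = Spec.map (CommRingCat.ofHom ψ)
    rw [Category.id_comp, hψ]
  change _ = (yon S).map _ ≫ sq.top
  rw [← hθb, ← ht₁, Functor.map_comp, Functor.map_comp, Category.assoc, Category.assoc,
    ← Category.assoc ((yon S).map a), hab, Category.assoc]

end Groth.Agent.Lib.Helper3.RDvr
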