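import Groth.Prelude.Def_AlgSpMor5
import Mathlib
set_option autoImplicit false
universe u
open CategoryTheory CategoryTheory.Limits AlgebraicGeometry IsLocalRing
open AlgSp

namespace Groth.Agent.Lib.Helper3.RDvr

variable {S : Scheme.{u}}

/-- Transfer of the refined lifting hypothesis for discrete valuation rings along a base change
of the target and a morphism to the base change of the auxiliary source. -/
theorem dvr_lift_of_isPullback_refined {F G G' F' U U' T : Sp S} {f : F ⟶ G} {p : G' ⟶ G}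
    {fst : F' ⟶ F} {snd : F' ⟶ G'} (sqPB : IsPullback fst snd f p) {h : U ⟶ F} {qU : U' ⟶ U}
    {hV : U' ⟶ F'} (hw : qU ≫ h = hV ≫ fst) (c : T ⟶ U')
    (hval : ∀ sq : ValSq (h ≫ f), IsDiscreteValuationRing sq.A →
      ∃ l : (yon S).obj sq.ptA ⟶ F, (yon S).map sq.j ≫ l = sq.top ≫ h ∧ l ≫ f = sq.bot)
    (sqd : ValSq ((c ≫ hV) ≫ snd)) (hd : IsDiscreteValuationRing sqd.A) :
    ∃ l : (yon S).obj sqd.ptA ⟶ F',
      (yon S).map sqd.j ≫ l = sqd.top ≫ (c ≫ hV) ∧ l ≫ snd = sqd.bot := by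
  have hcommd : (sqd.top ≫ c ≫ qU) ≫ h ≫ f = (yon S).map sqd.j ≫ sqd.bot ≫ p := by
    have h1 := sqd.comm
    calc (sqd.top ≫ c ≫ qU) ≫ h ≫ f = sqd.top ≫ c ≫ (qU ≫ h) ≫ f := by
          simp only [Category.assoc]
      _ = sqd.top ≫ c ≫ (hV ≫ fst) ≫ f := by rw [hw]
      _ = sqd.top ≫ c ≫ hV ≫ (fst ≫ f) := by simp only [Category.assoc]
      _ = sqd.top ≫ c ≫ hV ≫ (snd ≫ p) := by rw [sqPB.w]
      _ = (sqd.top ≫ (c ≫ hV) ≫ snd) ≫ p := by simp only [Category.assoc]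
      _ = ((yon S).map sqd.j ≫ sqd.bot) ≫ p := by rw [h1]
      _ = _ := Category.assoc _ _ _
  let sqd' : ValSq (h ≫ f) :=
    { A := sqd.A
      K := sqd.K
      str := sqd.str
      top := sqd.top ≫ c ≫ qU
      bot := sqd.bot ≫ p
      comm := hcommd }
  obtain ⟨l, hl1, hl2⟩ := hval sqd' hd
  have hl1' : (yon S).map sqd.j ≫ l = (sqd.top ≫ c ≫ qU) ≫ h := hl1
  have hl2' : l ≫ f = sqd.bot ≫ p := hl2
  refine ⟨sqPB.lift l sqd.bot hl2', ?_, sqPB.lift_snd _ _ _⟩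
  apply sqPB.hom_ext
  · calc ((yon S).map sqd.j ≫ sqPB.lift l sqd.bot hl2') ≫ fst
        = (yon S).map sqd.j ≫ sqPB.lift l sqd.bot hl2' ≫ fst := Category.assoc _ _ _
      _ = (yon S).map sqd.j ≫ l := by rw [sqPB.lift_fst]
      _ = (sqd.top ≫ c ≫ qU) ≫ h := hl1'
      _ = sqd.top ≫ c ≫ (qU ≫ h) := by simp only [Category.assoc]
      _ = sqd.top ≫ c ≫ (hV ≫ fst) := by rw [hw]
      _ = (sqd.top ≫ c ≫ hV) ≫ fst := by simp only [Category.assoc]
  · calc ((yon S).map sqd.j ≫ sqPB.lift l sqd.bot hl2') ≫ snd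
        = (yon S).map sqd.j ≫ sqPB.lift l sqd.bot hl2' ≫ snd := Category.assoc _ _ _
      _ = (yon S).map sqd.j ≫ sqd.bot := by rw [sqPB.lift_snd]
      _ = sqd.top ≫ (c ≫ hV) ≫ snd := sqd.comm.symm
      _ = (sqd.top ≫ c ≫ hV) ≫ snd := by simp only [Category.assoc]

end Groth.Agent.Lib.Helper3.RDvr
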