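import Groth.Agent.Lib.Helper3.RVCExt
import Groth.Agent.S10286
set_option autoImplicit false
universe u
open CategoryTheory CategoryTheory.Limits AlgebraicGeometry Opposite AlgSp

namespace Groth.Agent.Lib.Helper3.RVC

variable {S : Scheme.{u}} {F G F' G' : Sp S} {f : F ⟶ G} {p : G' ⟶ G} {fst : F' ⟶ F}
  {snd : F' ⟶ G'}

/-- The valuative square of the base change defined by a square of `f` whose bottom arrow lifts
to the new base. -/
noncomputable def pullSq (sqPB : IsPullback fst snd f p) (sq : ValSq f)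
    (l₁ : (yon S).obj sq.ptA ⟶ G') (hl₁ : l₁ ≫ p = sq.bot) : ValSq snd where
  A := sq.A
  K := sq.K
  str := sq.str
  top := sqPB.lift sq.top ((yon S).map sq.j ≫ l₁) (by rw [sq.comm, Category.assoc, hl₁])
  bot := l₁
  comm := sqPB.lift_snd _ _ _

theorem hasLiftExt_of_pullSq (sqPB : IsPullback fst snd f p) (sq : ValSq f)
    (l₁ : (yon S).obj sq.ptA ⟶ G') (hl₁ : l₁ ≫ p = sq.bot)
    (h : (pullSq sqPB sq l₁ hl₁).HasLiftExt) : sq.HasLiftExt := by
  obtain ⟨e', l, hl1, hl2⟩ := h
  let e : sq.DomExt :=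
    { A' := e'.A', K' := e'.K', φ := e'.φ, ψ := e'.ψ, comm := e'.comm, isLocalHom := e'.isLocalHom }
  refine ⟨e, l ≫ fst, ?_, ?_⟩
  · have h1 := congrArg (fun t => t ≫ fst) hl1
    simp only [Category.assoc] at h1
    have h2 : (pullSq sqPB sq l₁ hl₁).top ≫ fst = sq.top := sqPB.lift_fst _ _ _
    rw [h2] at h1
    exact h1
  · have h1 := congrArg (fun t => t ≫ p) hl2
    simp only [Category.assoc] at h1
    have h2 : (pullSq sqPB sq l₁ hl₁).bot ≫ p = sq.bot := hl₁
    rw [h2, ← sqPB.w] at h1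
    rw [Category.assoc]
    exact h1

/-- uniqueness and existence of dotted arrows for a square of the base change follow from those
of the pushed square. -/
theorem hasUniq_of_pushSq (sqPB : IsPullback fst snd f p) (sq' : ValSq snd)
    (h : (Groth.Agent.S10286.pushSq f p fst snd sqPB.w sq').HasUniq) : sq'.HasUniq := by
  intro l l' h1 h2 h1' h2'
  have := h (l ≫ fst) (l' ≫ fst)
    (by rw [← Category.assoc]; exact congrArg (fun t => t ≫ fst) h1)
    (by rw [Category.assoc, sqPB.w, ← Category.assoc]; exact congrArg (fun t => t ≫ p) h2)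
    (by rw [← Category.assoc]; exact congrArg (fun t => t ≫ fst) h1')
    (by rw [Category.assoc, sqPB.w, ← Category.assoc]; exact congrArg (fun t => t ≫ p) h2')
  apply sqPB.hom_ext this
  exact h2.trans h2'.symm

theorem hasLiftExt_of_pushSq (sqPB : IsPullback fst snd f p) (sq' : ValSq snd)
    (h : (Groth.Agent.S10286.pushSq f p fst snd sqPB.w sq').HasLiftExt) : sq'.HasLiftExt := by
  obtain ⟨e, l, hl1, hl2⟩ := h
  let e' : sq'.DomExt :=
    { A' := e.A', K' := e.K', φ := e.φ, ψ := e.ψ, comm := e.comm, isLocalHom := e.isLocalHom }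
  refine ⟨e', ?_⟩
  have hl2' : l ≫ f = ((yon S).map (Over.homMk (Spec.map (CommRingCat.ofHom e'.φ)) rfl :
      e'.ptA' ⟶ sq'.ptA) ≫ sq'.bot) ≫ p := by
    rw [Category.assoc]; exact hl2
  refine ⟨sqPB.lift l _ hl2', ?_, ?_⟩
  · apply sqPB.hom_ext
    · rw [Category.assoc, sqPB.lift_fst, Category.assoc]
      exact hl1
    · rw [Category.assoc, sqPB.lift_snd, Category.assoc, sq'.comm, ← Category.assoc, ← Category.assoc,
        ← Functor.map_comp, ← Functor.map_comp]
      congr 2
      ext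
      change Spec.map _ ≫ Spec.map _ = Spec.map _ ≫ Spec.map _
      rw [← Spec.map_comp, ← Spec.map_comp, ← CommRingCat.ofHom_comp, ← CommRingCat.ofHom_comp]
      exact congrArg (fun r => Spec.map (CommRingCat.ofHom r)) e.comm
  · rw [sqPB.lift_snd]

end Groth.Agent.Lib.Helper3.RVC
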