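import Groth.Agent.Lib.Helper3.RVCCore
import Groth.Agent.Lib.Helper3.RVCPull
import Groth.Agent.Lib.Helper3.AlgSpIntegralDim
import Groth.Agent.Lib.Helper3.AlgSpQC3
import Groth.Agent.Lib.Helper3.AlgSpLocP5
import Groth.Agent.Lib.Helper9.AlgSpVC4
set_option autoImplicit false
universe u
open CategoryTheory CategoryTheory.Limits AlgebraicGeometry Opposite AlgSp
open Groth.Agent.Lib.Helper3

namespace Groth.Agent.Lib.Helper3.RVC

variable {S : Scheme.{u}}

/-- Through every point of an algebraic space there is an etale chart whose source is the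
spectrum of a ring. -/
theorem exists_spec_chart_through {Y : Sp S} (hY : IsAlgSpace Y) (y : Points Y) :
    ∃ (R₀ : Type u) (_ : CommRing R₀) (ι : Spec (CommRingCat.of R₀) ⟶ S)
      (p : (yon S).obj (Over.mk ι) ⟶ Y) (v : ↥(Over.mk ι).left),
      RepWith @Etale p ∧ Points.ofPt p v = y := by
  obtain ⟨V₁, p₁, v₁, hV₁, hp₁e, hv₁⟩ := exists_affine_chart_through hY y
  have hV₁' : IsAffine V₁.left := hV₁
  let ι : Spec (CommRingCat.of Γ(V₁.left, ⊤)) ⟶ S := V₁.left.isoSpec.inv ≫ V₁.hom
  let eV : Over.mk ι ≅ V₁ := Over.isoMk V₁.left.isoSpec.symm rfl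
  refine ⟨Γ(V₁.left, ⊤), inferInstance, ι, (yon S).map eV.hom ≫ p₁, eV.inv.left v₁, ?_, ?_⟩
  · exact MorphismProperty.RespectsIso.precomp (RepWith @Etale) ((yon S).map eV.hom) p₁ hp₁e
  · rw [Points.ofPt_yon_map_comp, ← hv₁]
    congr 1
    change (eV.inv.left ≫ eV.hom.left) v₁ = v₁
    rw [← Over.comp_left, eV.inv_hom_id]
    rfl

/-- **Existence part of the valuative criterion from the refined hypothesis.** -/
theorem existVC_of_refined {U X Y : Space S} (f : X ⟶ Y) (h : U ⟶ X)
    (hh : IsQuasiCompactMor h.hom) (hd : DenseRange (Points.map h.hom))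
    (hv : ∀ sq : ValSq f.hom, (∃ t : (yon S).obj sq.ptK ⟶ U.obj, t ≫ h.hom = sq.top) →
      sq.HasUniq ∧ sq.HasLiftExt) : ExistVC f.hom := by
  intro sq
  -- an affine etale chart of the target through the image of the closed point
  obtain ⟨R₀, _, ι, p, v, hpe, hv₀⟩ := exists_spec_chart_through Y.property
    (Points.ofPt sq.bot (IsLocalRing.closedPoint sq.A))
  have hVsp : IsAlgSpace ((yon S).obj (Over.mk ι)) := IsAlgSpace.yon_obj _
  let VSp : Space S := ⟨(yon S).obj (Over.mk ι), hVsp⟩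
  let pSp : VSp ⟶ Y := ObjectProperty.homMk p
  have hpfl : LocP @Flat pSp.hom := locP_of_repWith isEtLocal_flat p
    (MorphismProperty.relative_monotone (fun A B φ hφ => by
      have : Etale ((Over.forget S).map φ) := hφ
      change Flat ((Over.forget S).map φ)
      infer_instance) _ hpe)
  have hpet : IsEtaleMor p := (isEtaleMor_iff_locP_etale hVsp Y.property).2
    (locP_of_repWith isEtLocal_etale p hpe)
  have hb : Points.ofPt sq.bot (IsLocalRing.closedPoint sq.A) ∈ Set.range (Points.map pSp.hom) :=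
    ⟨Points.ofScheme (Over.mk ι) v, by rw [← hv₀, Points.ofPt_eq_map_ofScheme]; rfl⟩
  obtain ⟨A₁, _, _, _, φ₁, hφ₁inj, hφ₁loc, l₁, hl₁⟩ :=
    Groth.Agent.Lib.Helper9.AlgSpVC4.exists_lift_valuationRing_of_flat pSp hpfl sq.A sq.str sq.bot hb
  -- the extension of the square
  have hinj : Function.Injective ((algebraMap A₁ (FractionRing A₁)).comp φ₁) :=
    (IsFractionRing.injective A₁ (FractionRing A₁)).comp hφ₁inj
  obtain ⟨ψ₁, hψ₁⟩ : ∃ ψ₁ : sq.K →+* FractionRing A₁, ∀ a,
      ψ₁ (algebraMap sq.A sq.K a) = algebraMap A₁ (FractionRing A₁) (φ₁ a) :=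
    ⟨IsFractionRing.lift hinj, fun a => IsFractionRing.lift_algebraMap hinj a⟩
  have hcomm₁ : (algebraMap A₁ (FractionRing A₁)).comp φ₁ = ψ₁.comp (algebraMap sq.A sq.K) := by
    ext a
    exact (hψ₁ a).symm
  let e₁ : sq.DomExt :=
    { A' := A₁
      K' := FractionRing A₁
      φ := φ₁
      ψ := ψ₁
      comm := hcomm₁
      isLocalHom := hφ₁loc }
  apply hasLiftExt_of_extSq sq e₁
  -- the base change to the chart
  have sqPB : IsPullback (pullback.fst f.hom p) (pullback.snd f.hom p) f.hom p :=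
    IsPullback.of_hasPullback _ _
  have hXV : IsAlgSpace (pullback f.hom p) :=
    isAlgSpace_of_isPullback' Y.property X.property hVsp sqPB
  let XV : Space S := ⟨pullback f.hom p, hXV⟩
  have sqU : IsPullback (pullback.fst h.hom (pullback.fst f.hom p))
      (pullback.snd h.hom (pullback.fst f.hom p)) h.hom (pullback.fst f.hom p) :=
    IsPullback.of_hasPullback _ _
  have hUV : IsAlgSpace (pullback h.hom (pullback.fst f.hom p)) :=
    isAlgSpace_of_isPullback' X.property U.property hXV sqU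
  let UV : Space S := ⟨pullback h.hom (pullback.fst f.hom p), hUV⟩
  let hV : UV ⟶ XV := ObjectProperty.homMk (pullback.snd h.hom (pullback.fst f.hom p))
  have hhV : IsQuasiCompactMor hV.hom := isQuasiCompactMor_of_isPullback sqU hh
  have hqet : IsEtaleMor (pullback.fst f.hom p) :=
    SchIm.isEtaleMor_of_isPullback hVsp Y.property X.property hXV sqPB.flip hpet
  have hqopen : IsOpenMap (Points.map (pullback.fst f.hom p)) :=
    SchIm.isOpenMap_map_of_isEtaleMor hXV X.property hqet
  have hdV : DenseRange (Points.map hV.hom) := by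
    have h1 : Dense (Points.map (pullback.fst f.hom p) ⁻¹' Set.range (Points.map h.hom)) :=
      Dense.preimage hd hqopen
    refine h1.mono ?_
    rintro x ⟨u, hu⟩
    obtain ⟨z, -, hz⟩ := Points.exists_of_isPullback sqU u x hu
    exact ⟨z, hz⟩
  have hvV : ∀ sq' : ValSq (pullback.snd f.hom p),
      (∃ t : (yon S).obj sq'.ptK ⟶ UV.obj, t ≫ hV.hom = sq'.top) →
      sq'.HasUniq ∧ sq'.HasLiftExt := by
    intro sq' ⟨t, ht⟩
    obtain ⟨h1, h2⟩ := hv (Groth.Agent.S10286.pushSq f.hom p _ _ sqPB.w sq')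
      ⟨t ≫ pullback.fst h.hom (pullback.fst f.hom p), by
        rw [Category.assoc, sqU.w, ← Category.assoc]
        exact congrArg (fun s => s ≫ pullback.fst f.hom p) ht⟩
    exact ⟨hasUniq_of_pushSq sqPB sq' h1, hasLiftExt_of_pushSq sqPB sq' h2⟩
  have hl₁' : l₁ ≫ p = (extSq sq e₁).bot := hl₁
  apply hasLiftExt_of_pullSq sqPB (extSq sq e₁) l₁ hl₁'
  exact core_affine ι (X' := XV) (U' := UV) (pullback.snd f.hom p) hV hhV hdV hvV _

end Groth.Agent.Lib.Helper3.RVC
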