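import Groth.Agent.Lib.Helper3.RDvrCore
import Groth.Agent.Lib.Helper3.RDvrExt
import Groth.Agent.Lib.Helper3.RDvrTrans
import Groth.Agent.Lib.Helper3.RVCMain
import Groth.Agent.Lib.Helper3.AlgSpNoethChart
import Groth.Agent.Lib.Helper3.AlgSpLocP4
set_option autoImplicit false
universe u
open CategoryTheory CategoryTheory.Limits AlgebraicGeometry IsLocalRing
open AlgSp
open Groth.Agent.Lib.Helper3
open Groth.Agent.Lib.Helper3.RVC

namespace Groth.Agent.Lib.Helper3.RDvr

variable {S : Scheme.{u}}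

/-- **Refined Noetherian existence**: over a locally Noetherian base, for `f` of finite type and
quasi-separated and `h : U ⟶ X` of finite type, dotted arrows for all discrete valuation squares
through `U` give a dotted arrow after extension for every valuative square through `U`. -/
theorem hasLiftExt_of_refined_dvr {U X Y : Space S} (h : U ⟶ X) (f : X ⟶ Y)
    (hY : IsLocNoethSp Y.obj) (hfqs : IsQuasiSeparatedMor f.hom) (hft : IsFiniteTypeMor f.hom)
    (hh : IsFiniteTypeMor h.hom)
    (hval : ∀ sq : ValSq (h.hom ≫ f.hom), IsDiscreteValuationRing sq.A →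
      ∃ l : (yon S).obj sq.ptA ⟶ X.obj,
        (yon S).map sq.j ≫ l = sq.top ≫ h.hom ∧ l ≫ f.hom = sq.bot)
    (sq : ValSq f.hom) (t : (yon S).obj sq.ptK ⟶ U.obj) (ht : t ≫ h.hom = sq.top) :
    sq.HasLiftExt := by
  -- an affine etale chart of the target through the image of the closed point
  obtain ⟨R₀, _, ι, p, v, hpe, hv₀⟩ := exists_spec_chart_through Y.property
    (Points.ofPt sq.bot (IsLocalRing.closedPoint sq.A))
  have hnoeth : IsNoetherianRing R₀ := by
    have h1 : IsLocallyNoetherian (Spec (CommRingCat.of R₀)) :=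
      isLocallyNoetherian_of_isLocNoethSp hY p hpe
    exact isLocallyNoetherian_Spec.1 h1
  have hVsp : IsAlgSpace ((yon S).obj (Over.mk ι)) := IsAlgSpace.yon_obj _
  let VSp : Space S := ⟨(yon S).obj (Over.mk ι), hVsp⟩
  let pSp : VSp ⟶ Y := ObjectProperty.homMk p
  have hpfl : LocP @Flat pSp.hom := locP_of_repWith isEtLocal_flat p
    (MorphismProperty.relative_monotone (fun A B φ hφ => by
      have : Etale ((Over.forget S).map φ) := hφ
      change Flat ((Over.forget S).map φ)
      infer_instance) _ hpe)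
  have hpet : IsEtaleMor p := (isEtaleMor_iff_locP_etale hVsp Y.property).2
    (locP_of_repWith isEtLocal_etale p hpe)
  have hb : Points.ofPt sq.bot (IsLocalRing.closedPoint sq.A) ∈ Set.range (Points.map pSp.hom) :=
    ⟨Points.ofScheme (Over.mk ι) v, by rw [← hv₀, Points.ofPt_eq_map_ofScheme]; rfl⟩
  obtain ⟨A₁, _, _, _, φ₁, hφ₁inj, hφ₁loc, l₁, hl₁⟩ :=
    Groth.Agent.Lib.Helper9.AlgSpVC4.exists_lift_valuationRing_of_flat pSp hpfl sq.A sq.str sq.bot hb
  have hinj : Function.Injective ((algebraMap A₁ (FractionRing A₁)).comp φ₁) :=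
    (IsFractionRing.injective A₁ (FractionRing A₁)).comp hφ₁inj
  obtain ⟨ψ₁, hψ₁⟩ : ∃ ψ₁ : sq.K →+* FractionRing A₁, ∀ a,
      ψ₁ (algebraMap sq.A sq.K a) = algebraMap A₁ (FractionRing A₁) (φ₁ a) :=
    ⟨IsFractionRing.lift hinj, fun a => IsFractionRing.lift_algebraMap hinj a⟩
  have hcomm₁ : (algebraMap A₁ (FractionRing A₁)).comp φ₁ = ψ₁.comp (algebraMap sq.A sq.K) := by
    ext a
    exact (hψ₁ a).symm
  let e₁ : sq.DomExt :=
    { A' := A₁
      K' := FractionRing A₁
      φ := φ₁
      ψ := ψ₁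
      comm := hcomm₁
      isLocalHom := hφ₁loc }
  apply hasLiftExt_of_extSq sq e₁
  -- the base change to the chart
  have sqPB : IsPullback (pullback.fst f.hom p) (pullback.snd f.hom p) f.hom p :=
    IsPullback.of_hasPullback _ _
  have hXV : IsAlgSpace (pullback f.hom p) :=
    isAlgSpace_of_isPullback' Y.property X.property hVsp sqPB
  let XV : Space S := ⟨pullback f.hom p, hXV⟩
  have sqU : IsPullback (pullback.fst h.hom (pullback.fst f.hom p))
      (pullback.snd h.hom (pullback.fst f.hom p)) h.hom (pullback.fst f.hom p) :=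
    IsPullback.of_hasPullback _ _
  have hUV : IsAlgSpace (pullback h.hom (pullback.fst f.hom p)) :=
    isAlgSpace_of_isPullback' X.property U.property hXV sqU
  let UV : Space S := ⟨pullback h.hom (pullback.fst f.hom p), hUV⟩
  let hV : UV ⟶ XV := ObjectProperty.homMk (pullback.snd h.hom (pullback.fst f.hom p))
  have hhVqc : IsQuasiCompactMor hV.hom := isQuasiCompactMor_of_isPullback sqU hh.2
  have hfVqc : IsQuasiCompactMor (pullback.snd f.hom p) := isQuasiCompactMor_of_isPullback sqPB hft.2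
  have haff : IsAffine (Over.mk ι).left := by
    change IsAffine (Spec (CommRingCat.of R₀)); infer_instance
  have hfVqs : IsQuasiSeparatedMor (pullback.snd f.hom p) :=
    (Groth.Agent.S9903.result f).2.1 hfqs (Over.mk ι) haff p _ _ _ sqPB
  have hl₁' : l₁ ≫ p = (extSq sq e₁).bot := hl₁
  apply hasLiftExt_of_pullSq sqPB (extSq sq e₁) l₁ hl₁'
  -- the generic point factors through `UV`
  have htop₁ : (pullSq sqPB (extSq sq e₁) l₁ hl₁').top ≫ pullback.fst f.hom p =
      (extSq sq e₁).top := sqPB.lift_fst _ _ _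
  have hcond : ((yon S).map (homV ((isV_self sq).comp (algebraMap sq.A sq.K))
      (((isV_self sq).comp e₁.φ).comp (algebraMap e₁.A' e₁.K')) e₁.ψ (by
        rw [RingHom.comp_id, RingHom.comp_id]; exact e₁.comm.symm)) ≫ t) ≫ h.hom =
      (pullSq sqPB (extSq sq e₁) l₁ hl₁').top ≫ pullback.fst f.hom p := by
    rw [htop₁, Category.assoc, ht]
    rfl
  obtain ⟨t₁, ht₁def⟩ : ∃ t₁ : (yon S).obj (pullSq sqPB (extSq sq e₁) l₁ hl₁').ptK ⟶ UV.obj,
      t₁ = sqU.lift _ _ hcond := ⟨_, rfl⟩
  have ht₁ : t₁ ≫ hV.hom = (pullSq sqPB (extSq sq e₁) l₁ hl₁').top := by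
    rw [ht₁def]; exact sqU.lift_snd _ _ _
  -- an affine chart of `UV`
  have hUVqc : IsQuasiCompactSp UV.obj := by
    have hVqc : IsQuasiCompactSp ((yon S).obj (Over.mk ι)) := isQuasiCompactSp_yon (by
      change CompactSpace ↥(Spec (CommRingCat.of R₀)); infer_instance)
    have hcomp : IsQuasiCompactMor (hV.hom ≫ pullback.snd f.hom p) :=
      isQuasiCompactMor_comp hXV hVsp.diag hhVqc hfVqc
    exact hcomp hVsp hVqc (𝟙 _) (𝟙 _) _ (IsPullback.id_horiz _)
  obtain ⟨C, _, ιC, c, hce, hcs⟩ := exists_spec_chart_surjective hUVqc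
  obtain ⟨e₂, τ, hτ⟩ := exists_ext_through_chart (pullSq sqPB (extSq sq e₁) l₁ hl₁') hV.hom t₁ ht₁
    ιC c hcs
  apply hasLiftExt_of_extSq _ e₂
  -- the ring map of the chart of `UV`
  obtain ⟨βC, hβC⟩ := (yon S).map_surjective ((c ≫ hV.hom) ≫ pullback.snd f.hom p)
  obtain ⟨rC, hC, hβCeq⟩ := exists_isV βC
  have hgf : (c ≫ hV.hom) ≫ pullback.snd f.hom p = (yon S).map (toV hC) := by
    rw [← hβC, hβCeq]
  have hrC : rC.FiniteType := by
    have hc1 : LocP @LocallyOfFiniteType c := locP_of_repWith isEtLocal_locallyOfFiniteType c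
      (MorphismProperty.relative_monotone (fun A B φ hφ => by
        have : Etale ((Over.forget S).map φ) := hφ
        change LocallyOfFiniteType ((Over.forget S).map φ)
        infer_instance) _ hce)
    have hc2 : LocP @LocallyOfFiniteType hV.hom :=
      locP_of_isPullback isEtLocal_locallyOfFiniteType U.property X.property hXV hUV h.hom
        (pullback.fst f.hom p) _ _ sqU hh.1
    have hc3 : LocP @LocallyOfFiniteType (pullback.snd f.hom p) :=
      locP_of_isPullback isEtLocal_locallyOfFiniteType X.property Y.property hVsp hXV f.hom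
        p _ _ sqPB hft.1
    have hc4 : LocP @LocallyOfFiniteType ((c ≫ hV.hom) ≫ pullback.snd f.hom p) :=
      locP_comp isEtLocal_locallyOfFiniteType (IsAlgSpace.yon_obj _) hXV hVsp _ _
        (locP_comp isEtLocal_locallyOfFiniteType (IsAlgSpace.yon_obj _) hUV hXV _ _ hc1 hc2) hc3
    have hc5 : LocallyOfFiniteType (toV hC).left :=
      hc4 (𝟙 _) (𝟙 _) (toV hC) (repWith_id _ _) (repWith_id _ _) (by
        rw [Category.id_comp, Category.comp_id]; exact hgf)
    have hc6 : LocallyOfFiniteType (Spec.map (CommRingCat.ofHom rC)) := hc5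
    exact HasRingHomProperty.Spec_iff.mp hc6
  have := hnoeth
  refine core_dvr ι (X' := XV) (pullback.snd f.hom p) hfVqc hfVqs ιC (c ≫ hV.hom) rC hC hgf hrC
    ?_ _ τ ?_
  · exact dvr_lift_of_isPullback_refined sqPB sqU.w c hval
  · exact (Category.assoc _ _ _).trans hτ

end Groth.Agent.Lib.Helper3.RDvr
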