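import Groth.Agent.Lib.Helper3.RDvrFinal
import Groth.Agent.Lib.Helper3.AlgSpUC3
import Groth.Agent.S10280
import Groth.Agent.S9951
import Groth.Agent.S9937
import Groth.Agent.S9900
set_option autoImplicit false
universe u
open CategoryTheory CategoryTheory.Limits AlgebraicGeometry IsLocalRing
open AlgSp
open Groth.Agent.Lib.Helper3

namespace Groth.Agent.Lib.Helper3.RDvr

variable {S : Scheme.{u}}

theorem main10070 (S : Scheme.{u}) {U X Y : AlgSp.Space S} (h : U ⟶ X) (f : X ⟶ Y)
    (hY : AlgSp.IsLocNoethSp Y.obj)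
    (hflt : AlgSp.LocP @LocallyOfFiniteType f.hom) (hfqs : AlgSp.IsQuasiSeparatedMor f.hom)
    (hh : AlgSp.IsFiniteTypeMor h.hom) (hdense : Dense (Set.range (AlgSp.Points.map h.hom)))
    (hval : ∀ sq : AlgSp.ValSq (h.hom ≫ f.hom), IsDiscreteValuationRing sq.A →
      ∀ l l' : (AlgSp.yon S).obj sq.ptA ⟶ X.obj,
        (AlgSp.yon S).map sq.j ≫ l = sq.top ≫ h.hom ∧ l ≫ f.hom = sq.bot →
        (AlgSp.yon S).map sq.j ≫ l' = sq.top ≫ h.hom ∧ l' ≫ f.hom = sq.bot → l = l') :
    AlgSp.IsSeparatedMor f.hom := by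
  refine (Groth.Agent.S10280.result f).1.2 ?_
  have sqP := IsPullback.of_hasPullback f.hom f.hom
  have hP : IsAlgSpace (pullback f.hom f.hom) :=
    isAlgSpace_of_isPullback' Y.property X.property X.property sqP
  let PSp : Space S := ⟨pullback f.hom f.hom, hP⟩
  let ΔSp : X ⟶ PSp := ObjectProperty.homMk (pullback.diagonal f.hom)
  -- the fibre square is locally Noetherian
  have hfst : LocP @LocallyOfFiniteType (pullback.fst f.hom f.hom) :=
    locP_of_isPullback isEtLocal_locallyOfFiniteType X.property Y.property X.property hP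
      f.hom f.hom (pullback.snd f.hom f.hom) (pullback.fst f.hom f.hom) sqP.flip hflt
  have hg : LocP @LocallyOfFiniteType (pullback.fst f.hom f.hom ≫ f.hom) :=
    locP_comp isEtLocal_locallyOfFiniteType hP X.property Y.property _ _ hfst hflt
  let gSp : PSp ⟶ Y := ObjectProperty.homMk (pullback.fst f.hom f.hom ≫ f.hom)
  have hPn : IsLocNoethSp PSp.obj := Groth.Agent.S9951.result gSp hg hY
  -- properties of the diagonal
  have hΔqc : IsQuasiCompactMor ΔSp.hom := isQuasiCompactMor_of_repWith_quasiCompact _ hfqs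
  have hrep := Groth.Agent.S9900.repWith_diagonal_lft_mono X.property f.hom
  have hΔlft : LocP @LocallyOfFiniteType ΔSp.hom :=
    locP_of_repWith isEtLocal_locallyOfFiniteType _
      (MorphismProperty.relative_monotone (fun A B φ hφ => hφ.1) _ hrep)
  have hΔmono : Mono (pullback.diagonal f.hom) := inferInstance
  have hΔsep : IsSeparatedMor ΔSp.hom :=
    Groth.Agent.S9937.isSeparatedMor_of_mono (pullback.diagonal f.hom)
  have hΔqs : IsQuasiSeparatedMor ΔSp.hom := isQuasiSeparatedMor_of_isSeparatedMor hΔsep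
  -- lifting for discrete valuation rings
  have hvalΔ : ∀ sqd : ValSq (h.hom ≫ ΔSp.hom), IsDiscreteValuationRing sqd.A →
      ∃ l : (yon S).obj sqd.ptA ⟶ X.obj,
        (yon S).map sqd.j ≫ l = sqd.top ≫ h.hom ∧ l ≫ ΔSp.hom = sqd.bot := by
    intro sqd hd
    have hc := sqd.comm
    have hc1 : (yon S).map sqd.j ≫ sqd.bot ≫ pullback.fst f.hom f.hom = sqd.top ≫ h.hom := by
      have := congrArg (fun t => t ≫ pullback.fst f.hom f.hom) hc
      simp only [Category.assoc] at this
      rw [← this]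
      change sqd.top ≫ h.hom ≫ pullback.diagonal f.hom ≫ pullback.fst f.hom f.hom = _
      rw [pullback.diagonal_fst, Category.comp_id]
    have hc2 : (yon S).map sqd.j ≫ sqd.bot ≫ pullback.snd f.hom f.hom = sqd.top ≫ h.hom := by
      have := congrArg (fun t => t ≫ pullback.snd f.hom f.hom) hc
      simp only [Category.assoc] at this
      rw [← this]
      change sqd.top ≫ h.hom ≫ pullback.diagonal f.hom ≫ pullback.snd f.hom f.hom = _
      rw [pullback.diagonal_snd, Category.comp_id]
    let sq' : ValSq (h.hom ≫ f.hom) :=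
      { A := sqd.A
        K := sqd.K
        str := sqd.str
        top := sqd.top
        bot := sqd.bot ≫ pullback.fst f.hom f.hom ≫ f.hom
        comm := by
          rw [← Category.assoc, ← hc1]
          simp only [Category.assoc] }
    have hl := hval sq' hd (sqd.bot ≫ pullback.fst f.hom f.hom)
      (sqd.bot ≫ pullback.snd f.hom f.hom) ⟨hc1, Category.assoc _ _ _⟩
      ⟨hc2, by
        change (sqd.bot ≫ pullback.snd f.hom f.hom) ≫ f.hom =
          sqd.bot ≫ pullback.fst f.hom f.hom ≫ f.hom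
        rw [Category.assoc, pullback.condition]⟩
    refine ⟨sqd.bot ≫ pullback.fst f.hom f.hom, hc1, ?_⟩
    change (sqd.bot ≫ pullback.fst f.hom f.hom) ≫ pullback.diagonal f.hom = sqd.bot
    apply pullback.hom_ext
    · rw [Category.assoc, pullback.diagonal_fst, Category.comp_id]
    · rw [Category.assoc, pullback.diagonal_snd, Category.comp_id]
      exact hl
  exact (Groth.Agent.S10306.result ΔSp h hΔqc hh.2 hdense (fun sq ⟨t, ht⟩ =>
    ⟨fun l l' _ h2 _ h2' => by
      have : l ≫ pullback.diagonal f.hom = l' ≫ pullback.diagonal f.hom := h2.trans h2'.symm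
      exact (cancel_mono (pullback.diagonal f.hom)).1 this,
     hasLiftExt_of_refined_dvr h ΔSp hPn hΔqs ⟨hΔlft, hΔqc⟩ hh hvalΔ sq t ht⟩)).1

end Groth.Agent.Lib.Helper3.RDvr

namespace Groth.Agent.Lib.Helper3.RDvr

theorem main10071 (S : Scheme.{u}) {U X Y : AlgSp.Space S} (h : U ⟶ X) (f : X ⟶ Y)
    (hY : AlgSp.IsLocNoethSp Y.obj)
    (hft : AlgSp.IsFiniteTypeMor f.hom) (hfqs : AlgSp.IsQuasiSeparatedMor f.hom)
    (hh : AlgSp.IsFiniteTypeMor h.hom) (hdense : Dense (Set.range (AlgSp.Points.map h.hom)))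
    (hval : ∀ sq : AlgSp.ValSq (h.hom ≫ f.hom), IsDiscreteValuationRing sq.A →
      ∃! l : (AlgSp.yon S).obj sq.ptA ⟶ X.obj,
        (AlgSp.yon S).map sq.j ≫ l = sq.top ≫ h.hom ∧ l ≫ f.hom = sq.bot) :
    AlgSp.IsProperMor f.hom := by
  have hsep : IsSeparatedMor f.hom := main10070 S h f hY hft.1 hfqs hh hdense
    (fun sq hd l l' hl hl' => (hval sq hd).unique hl hl')
  exact main10069 S h f hY hsep hft hh hdense (fun sq hd => (hval sq hd).exists)

end Groth.Agent.Lib.Helper3.RDvr
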