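import Groth.Agent.Lib.Helper9.AlgSpVC2
set_option autoImplicit false
universe u
open CategoryTheory CategoryTheory.Limits AlgebraicGeometry IsLocalRing
open AlgSp
open Groth.Agent.Lib.Helper3
open Groth.Agent.Lib.Helper9

namespace Groth.Agent.Lib.Helper3.RDvr

variable {S : Scheme.{u}}

/-- A dotted arrow after extension from a specialization, in a chart of the base change, of a
point over the generic point to a point over the closed point (adapted from helper9's
`AlgSpVC2.hasLiftExt_core`). -/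
theorem hasLiftExt_of_specializes {X Y : Space S} (f : X ⟶ Y) (sq : ValSq f.hom)
    {P : Sp S} (fst : P ⟶ X.obj) (snd : P ⟶ (yon S).obj sq.ptA)
    (hsq : IsPullback fst snd f.hom sq.bot) (σ : (yon S).obj sq.ptK ⟶ P)
    (hσ1 : σ ≫ fst = sq.top) (hσ2 : σ ≫ snd = (yon S).map sq.j)
    {V : Over S} (a₁ : (yon S).obj V ⟶ P) (u u₀' : ↥V.left) (hus : u ⤳ u₀')
    (hu : Points.ofPt a₁ u = Points.ofPt σ (closedPoint sq.K))
    (hx₀ : Points.map snd (Points.ofPt a₁ u₀') =
      Points.schemeHomeo sq.ptA (closedPoint sq.A)) : sq.HasLiftExt := by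
  have hP : IsAlgSpace P :=
    isAlgSpace_of_isPullback' Y.property X.property (IsAlgSpace.yon_obj _) hsq
  -- the field point p
  let p : FieldPt P := ⟨sq.K, sq.ptK.hom, (J S).uliftYonedaEquiv σ⟩
  have hp : p.toHom = σ := Equiv.symm_apply_apply _ _
  have hpm : Mono p.toHom := by
    rw [hp]
    have := AlgSpVC2.mono_yon_map_j sq
    rw [← hσ2] at this
    exact mono_of_mono σ snd
  let x : Points P := Points.ofPt σ (closedPoint sq.K)
  have hx : x = Points.mk p := by
    have := Points.ofPt_toHom p (closedPoint sq.K)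
    rw [hp] at this
    exact this
  -- the field point q at u
  let q : FieldPt P := FieldPt.ofPt a₁ u
  have hpq : Points.mk p = Points.mk q := hx.symm.trans hu.symm
  obtain ⟨c, hc'⟩ := exists_factor_of_mono_fieldPt hP p q hpq
  have hqhom : q.toHom = (yon S).map (Over.homMk (V.left.fromSpecResidueField u) rfl) ≫ a₁ :=
    FieldPt.toHom_ofPt a₁ u
  obtain ⟨h₁, hh₁⟩ := (yon S).map_surjective (a₁ ≫ snd)
  -- the valuation ring
  have hus' : (𝟙 V.left : V.left ⟶ V.left) u ⤳ u₀' := by simpa using hus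
  obtain ⟨A', iA', w, hclA'⟩ := AlgSpVC.exists_valuationRing_of_specializes (𝟙 V.left) u u₀' hus'
  rw [Category.comp_id] at w
  -- Over-level identity: c ≫ j = (point u) ≫ h₁
  have hOver : c ≫ sq.j = (Over.homMk (V.left.fromSpecResidueField u) rfl : q.pt ⟶ V) ≫ h₁ := by
    apply (yon S).map_injective
    rw [Functor.map_comp, Functor.map_comp, hh₁, ← hσ2, ← hp, ← Category.assoc, hc', hqhom,
      Category.assoc]
  have hOverL : c.left ≫ Spec.map (CommRingCat.ofHom (algebraMap sq.A sq.K)) =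
      V.left.fromSpecResidueField u ≫ h₁.left := congrArg CommaMorphism.left hOver
  -- ring maps
  let K' : Type u := V.left.residueField u
  let φ : CommRingCat.of sq.A ⟶ CommRingCat.of A' := Spec.preimage (iA' ≫ h₁.left)
  let ψ : CommRingCat.of sq.K ⟶ CommRingCat.of K' := Spec.preimage c.left
  have hφ : Spec.map φ = iA' ≫ h₁.left := Spec.map_preimage _
  have hψ : Spec.map ψ = c.left := Spec.map_preimage _
  have hcomm : φ ≫ CommRingCat.ofHom (algebraMap A' K') =
      CommRingCat.ofHom (algebraMap sq.A sq.K) ≫ ψ := by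
    apply Spec.map_injective
    rw [Spec.map_comp, Spec.map_comp, hφ, hψ]
    refine Eq.trans ?_ hOverL.symm
    rw [← Category.assoc, ← w]
  have hloc : IsLocalHom φ.hom := by
    rw [isLocalHom_iff_comap_closedPoint]
    change Spec.map φ (closedPoint A') = closedPoint sq.A
    rw [hφ]
    change h₁.left (iA' (closedPoint A')) = _
    rw [hclA']
    apply (Points.schemeHomeo sq.ptA).injective
    rw [← AlgSpVC.ofPt_yon_map h₁ u₀', hh₁, ← Points.map_ofPt, hx₀]
  let e : sq.DomExt :=
    { A' := A'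
      K' := K'
      φ := φ.hom
      ψ := ψ.hom
      comm := congrArg CommRingCat.Hom.hom hcomm
      isLocalHom := hloc }
  refine ⟨e, ?_⟩
  have hstr : iA' ≫ V.hom = Spec.map (CommRingCat.ofHom e.φ) ≫ sq.str := by
    change iA' ≫ V.hom = Spec.map φ ≫ sq.str
    rw [hφ, Category.assoc]
    congr 1
    exact (Over.w h₁).symm
  let ιA' : e.ptA' ⟶ V := Over.homMk iA' hstr
  let l : (yon S).obj e.ptA' ⟶ X.obj := (yon S).map ιA' ≫ a₁ ≫ fst
  refine ⟨l, ?_, ?_⟩
  · -- restriction to the generic point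
    have hθ : 𝟙 _ ≫ q.pt.hom = e.ptK'.hom := by
      rw [Category.id_comp]
      change V.left.fromSpecResidueField u ≫ V.hom =
        Spec.map (CommRingCat.ofHom (algebraMap A' K')) ≫ Spec.map φ ≫ sq.str
      rw [hφ, w]
      simp only [Category.assoc]
      congr 2
      exact (Over.w h₁).symm
    let θ : e.ptK' ⟶ q.pt := Over.homMk (𝟙 _) hθ
    have e1 : (Over.homMk (Spec.map (CommRingCat.ofHom (algebraMap e.A' e.K'))) rfl : e.ptK' ⟶ e.ptA') ≫ ιA' =
        θ ≫ (Over.homMk (V.left.fromSpecResidueField u) rfl : q.pt ⟶ V) := by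
      ext
      change Spec.map (CommRingCat.ofHom (algebraMap A' K')) ≫ iA' = 𝟙 _ ≫ V.left.fromSpecResidueField u
      rw [Category.id_comp, w]
    have e2 : ∀ (hw : Spec.map (CommRingCat.ofHom e.ψ) ≫ sq.ptK.hom = e.ptK'.hom),
        (Over.homMk (Spec.map (CommRingCat.ofHom e.ψ)) hw : e.ptK' ⟶ sq.ptK) = θ ≫ c := by
      intro hw
      ext
      change Spec.map ψ = 𝟙 _ ≫ c.left
      rw [Category.id_comp, hψ]
    rw [e2]
    calc (yon S).map (Over.homMk (Spec.map (CommRingCat.ofHom (algebraMap e.A' e.K'))) rfl :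
            e.ptK' ⟶ e.ptA') ≫ l
        = (yon S).map ((Over.homMk (Spec.map (CommRingCat.ofHom (algebraMap e.A' e.K'))) rfl :
            e.ptK' ⟶ e.ptA') ≫ ιA') ≫ a₁ ≫ fst := by
          simp only [l, Functor.map_comp, Category.assoc]
      _ = (yon S).map θ ≫ q.toHom ≫ fst := by
          rw [e1, hqhom]; simp only [Functor.map_comp, Category.assoc]
      _ = (yon S).map θ ≫ ((yon S).map c ≫ p.toHom) ≫ fst := by rw [hc']
      _ = (yon S).map (θ ≫ c) ≫ sq.top := by
          rw [hp, ← hσ1]; simp only [Functor.map_comp, Category.assoc]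
  · have e1 : ιA' ≫ h₁ = (Over.homMk (Spec.map (CommRingCat.ofHom e.φ)) rfl : e.ptA' ⟶ sq.ptA) := by
      ext
      exact hφ.symm
    calc l ≫ f.hom = (yon S).map ιA' ≫ a₁ ≫ (fst ≫ f.hom) := by simp only [l, Category.assoc]
      _ = (yon S).map ιA' ≫ (a₁ ≫ snd) ≫ sq.bot := by rw [hsq.w]; simp only [Category.assoc]
      _ = (yon S).map (ιA' ≫ h₁) ≫ sq.bot := by rw [← hh₁, Functor.map_comp, Category.assoc]
      _ = _ := by rw [e1]

end Groth.Agent.Lib.Helper3.RDvr
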