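import Groth.Agent.Lib.Helper3.SchImGen0
set_option autoImplicit false
universe u
open CategoryTheory CategoryTheory.Limits AlgebraicGeometry Opposite

namespace Groth.Agent.Lib.Helper3.VLift

/-- A ring over a Bezout domain `R` which embeds into an algebra over the fraction field of `R`
is flat over `R`. -/
theorem flat_of_injective_of_fractionRing {R K A B : Type u} [CommRing R] [IsDomain R] [IsBezout R]
    [Field K] [Algebra R K] [IsFractionRing R K] [CommRing A] [CommRing B] (φ : R →+* A)
    (ψ : A →+* B) (hψ : Function.Injective ψ) (κ : K →+* B)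
    (h : κ.comp (algebraMap R K) = ψ.comp φ) : φ.Flat := by
  algebraize [φ, κ, ψ.comp φ]
  have : IsScalarTower R K B := IsScalarTower.of_algebraMap_eq' h.symm
  have h1 : Module.Flat R K := IsLocalization.flat K (nonZeroDivisors R)
  have h2 : Module.Flat R B := Module.Flat.trans R K B
  have h3 : Module.IsTorsionFree R B := inferInstance
  have h4 : Module.IsTorsionFree R A := by
    refine Function.Injective.moduleIsTorsionFree ψ hψ ?_
    intro r a
    rw [Algebra.smul_def, Algebra.smul_def, map_mul]
    rfl
  change Module.Flat R A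
  rw [Module.Flat.flat_iff_torsion_eq_bot_of_isBezout, ← Submodule.isTorsionFree_iff_torsion_eq_bot]
  exact h4

/-- A scheme over a Bezout domain receiving a quasi-compact scheme theoretically dominant
morphism from a scheme over the fraction field is flat. -/
theorem flat_of_dominant_of_fractionRing (R K : Type u) [CommRing R] [IsDomain R] [IsBezout R]
    [Field K] [Algebra R K] [IsFractionRing R K]
    {C W : Scheme.{u}} (π : C ⟶ Spec (CommRingCat.of R)) (l : W ⟶ C) [QuasiCompact l]
    [IsSchemeTheoreticallyDominant l] (ν : W ⟶ Spec (CommRingCat.of K))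
    (hν : ν ≫ Spec.map (CommRingCat.ofHom (algebraMap R K)) = l ≫ π) : Flat π := by
  rw [HasRingHomProperty.iff_of_source_openCover (P := @Flat) C.affineCover]
  intro i
  have hdom : IsSchemeTheoreticallyDominant (pullback.snd l (C.affineCover.f i)) := inferInstance
  have hqc : QuasiCompact (pullback.snd l (C.affineCover.f i)) := inferInstance
  have hinj : Function.Injective (pullback.snd l (C.affineCover.f i)).appTop.hom :=
    (pullback.snd l (C.affineCover.f i)).app_injective ⊤
  have hcomm : (pullback.fst l (C.affineCover.f i) ≫ ν) ≫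
      Spec.map (CommRingCat.ofHom (algebraMap R K)) =
      pullback.snd l (C.affineCover.f i) ≫ (C.affineCover.f i ≫ π) := by
    rw [Category.assoc, hν, ← Category.assoc, pullback.condition, Category.assoc]
  rw [← RingHom.Flat.respectsIso.cancel_left_isIso (Scheme.ΓSpecIso (CommRingCat.of R)).inv]
  refine flat_of_injective_of_fractionRing (K := K) _ _ hinj
    ((Scheme.ΓSpecIso (CommRingCat.of K)).inv ≫
      (pullback.fst l (C.affineCover.f i) ≫ ν).appTop).hom ?_
  have h1 := congrArg (fun f => (Scheme.ΓSpecIso (CommRingCat.of R)).inv ≫ f.appTop) hcomm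
  simp only [Scheme.Hom.comp_appTop] at h1
  have h2 := Scheme.ΓSpecIso_inv_naturality (CommRingCat.ofHom (algebraMap R K))
  have h3 : CommRingCat.ofHom (algebraMap R K) ≫
      (Scheme.ΓSpecIso (CommRingCat.of K)).inv ≫
        (pullback.fst l (C.affineCover.f i) ≫ ν).appTop =
      ((Scheme.ΓSpecIso (CommRingCat.of R)).inv ≫ (C.affineCover.f i ≫ π).appTop) ≫
        (pullback.snd l (C.affineCover.f i)).appTop := by
    rw [← Category.assoc, h2, Category.assoc, Category.assoc]
    simpa [Scheme.Hom.comp_appTop] using h1
  exact congrArg CommRingCat.Hom.hom h3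

end Groth.Agent.Lib.Helper3.VLift
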