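import Mathlib
import Groth.Agent.Lib.lead.ChainVal
import Groth.Agent.Lib.Helper3.VLift0
set_option autoImplicit false
set_option linter.unusedSectionVars false
universe u
open IsLocalRing Groth.Agent.Lib.lead.ChainVal

namespace Groth.Agent.Lib.Helper3.RVC


/-- A domain `P` with a surjection `ev` onto a field `K`: there is a valuation ring receiving `P`
whose residue field contains `K` compatibly, and the kernel goes into the maximal ideal. -/
theorem exists_valuationSubring_of_surjective (P : Type u) [CommRing P] [IsDomain P]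
    (K : Type u) [Field K] (ev : P →+* K) (hev : Function.Surjective ev) :
    ∃ (K'' : Type u) (_ : Field K'') (A'' : ValuationSubring K'') (g : P →+* A'')
      (iota : K →+* ResidueField A''),
      Function.Injective g ∧ (∀ p, ev p = 0 → g p ∈ maximalIdeal A'') ∧
        ∀ p, iota (ev p) = residue A'' (g p) := by
  have h𝔓 : (RingHom.ker ev).IsPrime := RingHom.ker_isPrime ev
  have hinj : Function.Injective (algebraMap P (FractionRing P)) :=
    IsFractionRing.injective P (FractionRing P)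
  obtain ⟨A'', hA, hcomap⟩ := Groth.Agent.Lib.lead.ChainVal.exists_valuationSubring_of_prime
    (algebraMap P (FractionRing P)) (RingHom.ker ev)
    (by rw [(RingHom.injective_iff_ker_eq_bot _).1 hinj]; exact bot_le)
  have hginj : Function.Injective ((algebraMap P (FractionRing P)).codRestrict A''.toSubring hA) := by
    intro x y hxy
    exact hinj (congrArg Subtype.val hxy)
  have hmem : ∀ p : P, ev p = 0 →
      ((algebraMap P (FractionRing P)).codRestrict A''.toSubring hA) p ∈ maximalIdeal A'' := by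
    intro p hp
    have h1 : p ∈ (maximalIdeal A'').comap
        ((algebraMap P (FractionRing P)).codRestrict A''.toSubring hA) := by
      rw [hcomap]; exact hp
    exact h1
  have hker : RingHom.ker ev ≤ RingHom.ker ((residue A'').comp
      ((algebraMap P (FractionRing P)).codRestrict A''.toSubring hA)) := by
    intro p hp
    rw [RingHom.mem_ker] at hp ⊢
    exact (residue_eq_zero_iff _).2 (hmem p hp)
  refine ⟨_, inferInstance, A'', _, RingHom.liftOfSurjective ev hev ⟨_, hker⟩,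
    hginj, hmem, fun p => ?_⟩
  exact RingHom.liftOfRightInverse_comp_apply ev _ _ ⟨_, hker⟩ p

/-- Enlarging the residue field: a local domain `A'` with a ring map `θ : A' → K` to a field
killing the maximal ideal is dominated by a valuation ring whose residue field contains `K`
compatibly. -/
theorem exists_big_residue (A' : Type u) [CommRing A'] [IsDomain A'] [IsLocalRing A']
    (K : Type u) [Field K] (θ : A' →+* K) (hθ : ∀ a, a ∈ maximalIdeal A' → θ a = 0) :
    ∃ (K'' : Type u) (_ : Field K'') (A'' : ValuationSubring K'') (lam : A' →+* A'')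
      (iota : K →+* ResidueField A''),
      Function.Injective lam ∧ IsLocalHom lam ∧ ∀ a, iota (θ a) = residue A'' (lam a) := by
  have hev : Function.Surjective (MvPolynomial.eval₂Hom θ (id : K → K)) :=
    fun k => ⟨MvPolynomial.X k, by simp⟩
  obtain ⟨K'', _, A'', g, iota, hg, hmem, hι⟩ :=
    exists_valuationSubring_of_surjective (MvPolynomial K A') K _ hev
  refine ⟨K'', inferInstance, A'', g.comp MvPolynomial.C, iota,
    hg.comp (MvPolynomial.C_injective K A'), ⟨fun a ha => ?_⟩, fun a => ?_⟩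
  · by_contra hna
    have h1 : a ∈ maximalIdeal A' := (mem_maximalIdeal a).2 hna
    have h2 : (MvPolynomial.eval₂Hom θ (id : K → K)) (MvPolynomial.C a) = 0 := by
      simp [hθ a h1]
    exact (mem_maximalIdeal _).1 (hmem _ h2) ha
  · have h1 : θ a = (MvPolynomial.eval₂Hom θ (id : K → K)) (MvPolynomial.C a) := by simp
    rw [h1, hι]
    rfl



section Comp

variable {K : Type u} [Field K] (V₁ : ValuationSubring K)
  (Vb : ValuationSubring (ResidueField V₁))

theorem compIncl_injective : Function.Injective (compIncl V₁ Vb) := by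
  intro x y h
  exact Subtype.ext (congrArg (fun z : V₁ => (z : K)) h)

theorem compRes_val (c : comp V₁ Vb) : ((compRes V₁ Vb c : Vb) : ResidueField V₁) =
    residue V₁ (compIncl V₁ Vb c) := rfl

theorem compRes_eq_zero_iff (c : comp V₁ Vb) :
    compRes V₁ Vb c = 0 ↔ compIncl V₁ Vb c ∈ maximalIdeal V₁ := by
  rw [← residue_eq_zero_iff, ← compRes_val]
  constructor
  · intro h; rw [h]; rfl
  · intro h; exact Subtype.ext h

/-- elements of the first valuation ring whose residue lies in the second one come from the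
composite. -/
theorem exists_compIncl_eq (z : V₁) (hz : residue V₁ z ∈ Vb) : ∃ c : comp V₁ Vb,
    compIncl V₁ Vb c = z :=
  ⟨⟨z.1, (mem_comp V₁ Vb z.1).2 ⟨z.2, hz⟩⟩, rfl⟩

theorem compRes_surjective : Function.Surjective (compRes V₁ Vb) := by
  intro b
  obtain ⟨z, hz⟩ := residue_surjective (R := V₁) b.1
  obtain ⟨c, hc⟩ := exists_compIncl_eq V₁ Vb z (by rw [hz]; exact b.2)
  refine ⟨c, Subtype.ext ?_⟩
  rw [compRes_val, hc, hz]

/-- elements of the maximal ideal of the first valuation ring come from the composite. -/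
theorem exists_compIncl_eq_of_mem_maximalIdeal (z : V₁) (hz : z ∈ maximalIdeal V₁) :
    ∃ c : comp V₁ Vb, compIncl V₁ Vb c = z ∧ compRes V₁ Vb c = 0 := by
  obtain ⟨c, hc⟩ := exists_compIncl_eq V₁ Vb z
    (by rw [(residue_eq_zero_iff _).2 hz]; exact Vb.zero_mem)
  exact ⟨c, hc, (compRes_eq_zero_iff V₁ Vb c).2 (hc ▸ hz)⟩

/-- every element of the first valuation ring is a quotient of elements of the composite with
denominator outside the prime. -/
theorem exists_compIncl_mul_eq (z : V₁) : ∃ c s : comp V₁ Vb,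
    compIncl V₁ Vb s ∉ maximalIdeal V₁ ∧ z * compIncl V₁ Vb s = compIncl V₁ Vb c := by
  by_cases h : residue V₁ z ∈ Vb
  · obtain ⟨c, hc⟩ := exists_compIncl_eq V₁ Vb z h
    refine ⟨c, 1, ?_, by rw [map_one, mul_one, hc]⟩
    rw [map_one]
    exact fun h1 => (maximalIdeal.isMaximal V₁).ne_top ((Ideal.eq_top_iff_one _).2 h1)
  · have hne : residue V₁ z ≠ 0 := fun h0 => h (h0 ▸ Vb.zero_mem)
    have hu : IsUnit z := by
      by_contra hnu
      exact hne ((residue_eq_zero_iff _).2 ((mem_maximalIdeal _).2 hnu))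
    obtain ⟨u, rfl⟩ := hu
    have h2 : residue V₁ ((u⁻¹ : (V₁)ˣ) : V₁) = (residue V₁ (u : V₁))⁻¹ := by
      have h4 : residue V₁ (u : V₁) * residue V₁ ((u⁻¹ : (V₁)ˣ) : V₁) = 1 := by
        rw [← map_mul, u.mul_inv, map_one]
      exact eq_inv_of_mul_eq_one_right h4
    obtain ⟨s, hs⟩ := exists_compIncl_eq V₁ Vb ((u⁻¹ : (V₁)ˣ) : V₁)
      (by rw [h2]; exact (Vb.mem_or_inv_mem _).resolve_left h)
    refine ⟨1, s, ?_, ?_⟩
    · rw [hs]
      exact fun h1 => (mem_maximalIdeal _).1 h1 (u⁻¹).isUnit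
    · rw [hs, map_one, u.mul_inv]

end Comp



/-- A local homomorphism of valuation rings compatible with a map of fraction fields is
surjective on spectra. -/
theorem exists_prime_comap_eq {C KC Ae Ke : Type u} [CommRing C] [IsDomain C] [ValuationRing C]
    [Field KC] [Algebra C KC] [IsFractionRing C KC] [CommRing Ae] [IsDomain Ae] [IsLocalRing Ae]
    [Field Ke] [Algebra Ae Ke] [IsFractionRing Ae Ke] (φ : C →+* Ae) (ψ : KC →+* Ke)
    (comm : (algebraMap Ae Ke).comp φ = ψ.comp (algebraMap C KC)) [IsLocalHom φ]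
    (𝔮 : Ideal C) [𝔮.IsPrime] : ∃ 𝔮₂ : Ideal Ae, 𝔮₂.IsPrime ∧ 𝔮₂.comap φ = 𝔮 := by
  have hflat : φ.Flat := VLift.flat_of_injective_of_fractionRing (K := KC) φ (algebraMap Ae Ke)
    (IsFractionRing.injective Ae Ke) ψ comm.symm
  algebraize [φ]
  have h1 : Module.Flat C Ae := hflat
  have h2 : IsLocalHom (algebraMap C Ae) := ‹IsLocalHom φ›
  have h3 : Module.FaithfullyFlat C Ae := Module.FaithfullyFlat.of_flat_of_isLocalHom
  obtain ⟨p, hp⟩ := PrimeSpectrum.comap_surjective_of_faithfullyFlat (A := C) (B := Ae) ⟨𝔮, inferInstance⟩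
  exact ⟨p.asIdeal, p.isPrime, congrArg PrimeSpectrum.asIdeal hp⟩



/-- quotient of a valuation ring by a prime is a valuation ring -/
theorem valuationRing_quotient (Ae : Type u) [CommRing Ae] [IsDomain Ae] [ValuationRing Ae]
    (𝔮₂ : Ideal Ae) [𝔮₂.IsPrime] : ValuationRing (Ae ⧸ 𝔮₂) := by
  have : PreValuationRing (Ae ⧸ 𝔮₂) :=
    Function.Surjective.preValuationRing (R := Ae) (S := Ae ⧸ 𝔮₂)
      (Ideal.Quotient.mk 𝔮₂ : Ae →+* Ae ⧸ 𝔮₂) Ideal.Quotient.mk_surjective
  exact ValuationRing.mk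



section Loc

variable (Ae Ke : Type u) [CommRing Ae] [IsDomain Ae] [ValuationRing Ae] [Field Ke]
  [Algebra Ae Ke] [IsFractionRing Ae Ke] (𝔮₂ : Ideal Ae) [𝔮₂.IsPrime]

theorem isUnit_algebraMap_of_primeCompl (y : 𝔮₂.primeCompl) : IsUnit (algebraMap Ae Ke y) := by
  rw [isUnit_iff_ne_zero]
  intro h0
  have : (y : Ae) = 0 := IsFractionRing.injective Ae Ke (by rw [h0, map_zero])
  exact y.2 (this ▸ 𝔮₂.zero_mem)

/-- The localization of a valuation ring at a prime, with its structure over the fraction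
field. -/
theorem exists_loc_structure :
    ∃ (_ : Algebra (Localization.AtPrime 𝔮₂) Ke)
      (_ : IsScalarTower Ae (Localization.AtPrime 𝔮₂) Ke)
      (_ : IsFractionRing (Localization.AtPrime 𝔮₂) Ke), ValuationRing (Localization.AtPrime 𝔮₂) := by
  let alg : Algebra (Localization.AtPrime 𝔮₂) Ke :=
    (IsLocalization.lift (M := 𝔮₂.primeCompl) (S := Localization.AtPrime 𝔮₂)
      (g := algebraMap Ae Ke) (isUnit_algebraMap_of_primeCompl Ae Ke 𝔮₂)).toAlgebra
  have tower : IsScalarTower Ae (Localization.AtPrime 𝔮₂) Ke :=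
    IsScalarTower.of_algebraMap_eq (fun x => (IsLocalization.lift_eq _ x).symm)
  have frac : IsFractionRing (Localization.AtPrime 𝔮₂) Ke :=
    IsFractionRing.isFractionRing_of_isDomain_of_isLocalization 𝔮₂.primeCompl
      (Localization.AtPrime 𝔮₂) Ke
  refine ⟨alg, tower, frac, ?_⟩
  rw [ValuationRing.iff_isInteger_or_isInteger (Localization.AtPrime 𝔮₂) Ke]
  intro x
  rcases ValuationRing.isInteger_or_isInteger Ae x with ⟨a, ha⟩ | ⟨a, ha⟩
  · exact Or.inl ⟨algebraMap Ae _ a, by rw [← IsScalarTower.algebraMap_apply, ha]⟩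
  · exact Or.inr ⟨algebraMap Ae _ a, by rw [← IsScalarTower.algebraMap_apply, ha]⟩

end Loc


set_option linter.style.haveILetI false in
theorem exists_restrict
    {A K : Type u} [CommRing A] [IsDomain A] [ValuationRing A] [Field K] [Algebra A K]
    [IsFractionRing A K]
    {K'' : Type u} [Field K''] (A'' : ValuationSubring K'')
    (A₁ : ValuationSubring (ResidueField A''))
    (iota : K →+* ResidueField A'') (hA₁ : ∀ a : A, iota (algebraMap A K a) ∈ A₁)
    (hloc : IsLocalHom ((iota.comp (algebraMap A K)).codRestrict A₁.toSubring hA₁))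
    {Ae Ke : Type u} [CommRing Ae] [IsDomain Ae] [ValuationRing Ae] [Field Ke] [Algebra Ae Ke]
    [IsFractionRing Ae Ke]
    (φ : comp A'' A₁ →+* Ae) (ψ : K'' →+* Ke)
    (comm : (algebraMap Ae Ke).comp φ = ψ.comp (algebraMap (comp A'' A₁) K'')) [IsLocalHom φ] :
    ∃ (𝔮₂ : Ideal Ae) (_ : 𝔮₂.IsPrime) (_ : ValuationRing (Ae ⧸ 𝔮₂))
      (_ : Algebra (Localization.AtPrime 𝔮₂) Ke)
      (_ : IsFractionRing (Localization.AtPrime 𝔮₂) Ke)
      (_ : ValuationRing (Localization.AtPrime 𝔮₂))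
      (φf : A →+* Ae ⧸ 𝔮₂) (ψf : K →+* FractionRing (Ae ⧸ 𝔮₂))
      (ν : A'' →+* Localization.AtPrime 𝔮₂)
      (π : Localization.AtPrime 𝔮₂ →+* FractionRing (Ae ⧸ 𝔮₂))
      (τ : ResidueField A'' →+* FractionRing (Ae ⧸ 𝔮₂)),
      IsLocalHom φf ∧
      (algebraMap (Ae ⧸ 𝔮₂) (FractionRing (Ae ⧸ 𝔮₂))).comp φf = ψf.comp (algebraMap A K) ∧
      (∀ (c : comp A'' A₁) (a : A),
        ((compRes A'' A₁ c : A₁) : ResidueField A'') = iota (algebraMap A K a) →
          Ideal.Quotient.mk 𝔮₂ (φ c) = φf a) ∧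
      (algebraMap (Localization.AtPrime 𝔮₂) Ke).comp
        (algebraMap Ae (Localization.AtPrime 𝔮₂)) = algebraMap Ae Ke ∧
      (∀ z : A'', algebraMap (Localization.AtPrime 𝔮₂) Ke (ν z) = ψ (z : K'')) ∧
      (∀ c, ν (compIncl A'' A₁ c) = algebraMap Ae (Localization.AtPrime 𝔮₂) (φ c)) ∧
      π.comp (algebraMap Ae (Localization.AtPrime 𝔮₂)) =
        (algebraMap (Ae ⧸ 𝔮₂) (FractionRing (Ae ⧸ 𝔮₂))).comp (Ideal.Quotient.mk 𝔮₂) ∧
      (∀ z : A'', τ (residue A'' z) = π (ν z)) ∧ τ.comp iota = ψf := by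
  have hkp : (RingHom.ker (compRes A'' A₁)).IsPrime := RingHom.ker_isPrime _
  obtain ⟨𝔮₂, h𝔮₂p, h𝔮₂⟩ := exists_prime_comap_eq φ ψ comm (RingHom.ker (compRes A'' A₁))
  have hmem : ∀ c, φ c ∈ 𝔮₂ ↔ compRes A'' A₁ c = 0 := by
    intro c
    rw [← RingHom.mem_ker, ← h𝔮₂]
    rfl
  have hvq : ValuationRing (Ae ⧸ 𝔮₂) := valuationRing_quotient Ae 𝔮₂
  obtain ⟨alg, tower, frac, hvl⟩ := exists_loc_structure Ae Ke 𝔮₂
  -- σ
  have hker : RingHom.ker (compRes A'' A₁) ≤ RingHom.ker ((Ideal.Quotient.mk 𝔮₂).comp φ) := by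
    intro c hc
    rw [RingHom.mem_ker] at hc ⊢
    exact Ideal.Quotient.eq_zero_iff_mem.2 ((hmem c).2 hc)
  let σ : A₁ →+* Ae ⧸ 𝔮₂ :=
    RingHom.liftOfSurjective (compRes A'' A₁) (compRes_surjective A'' A₁) ⟨_, hker⟩
  have hσ : ∀ c, σ (compRes A'' A₁ c) = Ideal.Quotient.mk 𝔮₂ (φ c) := fun c =>
    RingHom.liftOfRightInverse_comp_apply _ _ _ ⟨_, hker⟩ c
  have hmkloc : IsLocalHom (Ideal.Quotient.mk 𝔮₂) :=
    IsLocalHom.of_surjective _ Ideal.Quotient.mk_surjective
  have hσloc : IsLocalHom σ := by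
    constructor
    intro b hb
    obtain ⟨c, rfl⟩ := compRes_surjective A'' A₁ b
    rw [hσ] at hb
    have h1 : IsUnit (φ c) := hmkloc.map_nonunit _ hb
    have h2 : IsUnit c := IsLocalHom.map_nonunit (f := φ) _ h1
    exact h2.map _
  have hσinj : Function.Injective σ := by
    rw [injective_iff_map_eq_zero]
    intro b hb
    obtain ⟨c, rfl⟩ := compRes_surjective A'' A₁ b
    rw [hσ] at hb
    exact (hmem c).1 (Ideal.Quotient.eq_zero_iff_mem.1 hb)
  let ρ : A →+* A₁ := (iota.comp (algebraMap A K)).codRestrict A₁.toSubring hA₁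
  have hρinj : Function.Injective ρ := by
    intro x y hxy
    have h1 : iota (algebraMap A K x) = iota (algebraMap A K y) := congrArg Subtype.val hxy
    exact IsFractionRing.injective A K (iota.injective h1)
  let φf : A →+* Ae ⧸ 𝔮₂ := σ.comp ρ
  have hφfloc : IsLocalHom φf := RingHom.isLocalHom_comp σ ρ
  have hφfinj : Function.Injective
      ((algebraMap (Ae ⧸ 𝔮₂) (FractionRing (Ae ⧸ 𝔮₂))).comp φf) :=
    (IsFractionRing.injective _ _).comp (hσinj.comp hρinj)
  let ψf : K →+* FractionRing (Ae ⧸ 𝔮₂) := IsFractionRing.lift hφfinj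
  have hψf : ∀ a, ψf (algebraMap A K a) = algebraMap _ _ (φf a) := fun a =>
    IsFractionRing.lift_algebraMap hφfinj a
  -- ν
  let incl := compIncl A'' A₁
  have hunit : ∀ s : comp A'' A₁, incl s ∉ maximalIdeal A'' →
      IsUnit (algebraMap Ae (Localization.AtPrime 𝔮₂) (φ s)) := by
    intro s hs
    have h1 : φ s ∉ 𝔮₂ := fun h => hs ((compRes_eq_zero_iff A'' A₁ s).1 ((hmem s).1 h))
    exact IsLocalization.map_units (Localization.AtPrime 𝔮₂) (⟨φ s, h1⟩ : 𝔮₂.primeCompl)

  -- `A''` is the localization of the composite at the kernel of `compRes`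
  letI algC : Algebra (comp A'' A₁) A'' := (compIncl A'' A₁).toAlgebra
  have hloc' : IsLocalization (RingHom.ker (compRes A'' A₁)).primeCompl A'' := by
    refine ⟨?_, ?_, ?_⟩
    · intro y
      have h1 : compIncl A'' A₁ y ∉ maximalIdeal A'' := fun h =>
        y.2 ((compRes_eq_zero_iff A'' A₁ y).2 h)
      exact IsLocalRing.notMem_maximalIdeal.1 h1
    · intro z
      obtain ⟨c, s, hs, hzs⟩ := exists_compIncl_mul_eq A'' A₁ z
      exact ⟨(c, ⟨s, fun h => hs ((compRes_eq_zero_iff A'' A₁ s).1 h)⟩), hzs⟩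
    · intro x y hxy
      exact ⟨1, by rw [compIncl_injective A'' A₁ hxy]⟩
  have hunit' : ∀ y : (RingHom.ker (compRes A'' A₁)).primeCompl,
      IsUnit (((algebraMap Ae (Localization.AtPrime 𝔮₂)).comp φ) y) := fun y =>
    hunit y (fun h => y.2 ((compRes_eq_zero_iff A'' A₁ y).2 h))
  let ν : A'' →+* Localization.AtPrime 𝔮₂ :=
    IsLocalization.lift (M := (RingHom.ker (compRes A'' A₁)).primeCompl) (S := A'') hunit'
  have hν : ∀ c, ν (compIncl A'' A₁ c) = algebraMap Ae (Localization.AtPrime 𝔮₂) (φ c) :=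
    fun c => IsLocalization.lift_eq hunit' c
  have hLK : (algebraMap (Localization.AtPrime 𝔮₂) Ke).comp
      (algebraMap Ae (Localization.AtPrime 𝔮₂)) = algebraMap Ae Ke := by
    ext x
    exact (IsScalarTower.algebraMap_apply Ae (Localization.AtPrime 𝔮₂) Ke x).symm
  have hνψ : (algebraMap (Localization.AtPrime 𝔮₂) Ke).comp ν = ψ.comp A''.subtype := by
    apply IsLocalization.ringHom_ext (RingHom.ker (compRes A'' A₁)).primeCompl
    ext c
    change algebraMap (Localization.AtPrime 𝔮₂) Ke (ν (compIncl A'' A₁ c)) = ψ (c : K'')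
    rw [hν]
    have h1 := congrArg (fun f => f c) comm
    have h2 := congrArg (fun f => f (φ c)) hLK
    simp only [RingHom.comp_apply] at h1 h2
    rw [h2, h1]
    rfl
  -- π
  let π : Localization.AtPrime 𝔮₂ →+* FractionRing (Ae ⧸ 𝔮₂) :=
    IsLocalization.lift (M := 𝔮₂.primeCompl) (S := Localization.AtPrime 𝔮₂)
      (g := (algebraMap (Ae ⧸ 𝔮₂) (FractionRing (Ae ⧸ 𝔮₂))).comp (Ideal.Quotient.mk 𝔮₂))
      (fun y => by
        rw [isUnit_iff_ne_zero]
        intro h0
        have h1 : Ideal.Quotient.mk 𝔮₂ (y : Ae) = 0 :=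
          IsFractionRing.injective (Ae ⧸ 𝔮₂) (FractionRing (Ae ⧸ 𝔮₂)) (by rw [map_zero]; exact h0)
        exact y.2 (Ideal.Quotient.eq_zero_iff_mem.1 h1))
  have hπ : ∀ x, π (algebraMap Ae (Localization.AtPrime 𝔮₂) x) =
      algebraMap (Ae ⧸ 𝔮₂) (FractionRing (Ae ⧸ 𝔮₂)) (Ideal.Quotient.mk 𝔮₂ x) :=
    fun x => IsLocalization.lift_eq _ x

  have hρval : ∀ a : A, ((ρ a : A₁) : ResidueField A'') = iota (algebraMap A K a) := fun a => rfl
  have hI1 : ∀ (c : comp A'' A₁) (a : A),
      ((compRes A'' A₁ c : A₁) : ResidueField A'') = iota (algebraMap A K a) →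
        Ideal.Quotient.mk 𝔮₂ (φ c) = φf a := by
    intro c a h
    have h1 : compRes A'' A₁ c = ρ a := Subtype.ext h
    change _ = σ (ρ a)
    rw [← h1, hσ]
  -- the composite `π ∘ ν` kills the maximal ideal
  have hkill : ∀ m : A'', m ∈ maximalIdeal A'' → π (ν m) = 0 := by
    intro m hm
    obtain ⟨c, rfl, hc⟩ := exists_compIncl_eq_of_mem_maximalIdeal A'' A₁ m hm
    rw [hν, hπ, Ideal.Quotient.eq_zero_iff_mem.2 ((hmem c).2 hc), map_zero]
  have hA : ∀ (a : A) (c : comp A'' A₁),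
      ((compRes A'' A₁ c : A₁) : ResidueField A'') = iota (algebraMap A K a) →
      π (ν (compIncl A'' A₁ c)) = ψf (algebraMap A K a) := by
    intro a c h
    rw [hν, hπ, hI1 c a h, hψf]
  have hI6 : ∀ (z : A'') (k : K), residue A'' z = iota k → π (ν z) = ψf k := by
    intro z k hz
    obtain ⟨a, s, hs, rfl⟩ := IsFractionRing.div_surjective (A := A) k
    have hs0 : algebraMap A K s ≠ 0 :=
      (map_ne_zero_iff _ (IsFractionRing.injective A K)).2 (nonZeroDivisors.ne_zero hs)
    obtain ⟨cs, hcs⟩ := compRes_surjective A'' A₁ (ρ s)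
    obtain ⟨ca, hca⟩ := compRes_surjective A'' A₁ (ρ a)
    have hcs' : ((compRes A'' A₁ cs : A₁) : ResidueField A'') = iota (algebraMap A K s) := by
      rw [hcs]; rfl
    have hca' : ((compRes A'' A₁ ca : A₁) : ResidueField A'') = iota (algebraMap A K a) := by
      rw [hca]; rfl
    have h1 : z * compIncl A'' A₁ cs - compIncl A'' A₁ ca ∈ maximalIdeal A'' := by
      rw [← residue_eq_zero_iff, map_sub, map_mul, hz, ← compRes_val, ← compRes_val, hcs', hca',
        ← map_mul, div_mul_cancel₀ _ hs0, sub_self]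
    have h2 := hkill _ h1
    rw [map_sub, map_sub, map_mul, map_mul, hA s cs hcs', hA a ca hca', sub_eq_zero] at h2
    have h3 : ψf (algebraMap A K s) ≠ 0 := (map_ne_zero_iff _ ψf.injective).2 hs0
    rw [map_div₀, eq_div_iff h3]
    exact h2
  let τ : ResidueField A'' →+* FractionRing (Ae ⧸ 𝔮₂) :=
    Ideal.Quotient.lift (maximalIdeal A'') (π.comp ν) (fun m hm => hkill m hm)
  have hτ : ∀ z : A'', τ (residue A'' z) = π (ν z) := fun z =>
    Ideal.Quotient.lift_mk (maximalIdeal A'') (π.comp ν) _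
  refine ⟨𝔮₂, h𝔮₂p, hvq, alg, frac, hvl, φf, ψf, ν, π, τ, hφfloc, ?_, hI1, hLK, ?_, hν, ?_, hτ, ?_⟩
  · ext a
    exact (hψf a).symm
  · intro z
    exact congrArg (fun f => f z) hνψ
  · ext x
    exact hπ x
  · ext k
    obtain ⟨z, hz⟩ := residue_surjective (R := A'') (iota k)
    change τ (iota k) = ψf k
    rw [← hz, hτ]
    exact hI6 z k hz


end Groth.Agent.Lib.Helper3.RVC
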