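import Groth.Agent.Lib.Helper3.RVCSq
set_option autoImplicit false
universe u
open CategoryTheory CategoryTheory.Limits AlgebraicGeometry Opposite AlgSp

namespace Groth.Agent.Lib.Helper3.RVC

variable {S : Scheme.{u}} {F G : Sp S} {f : F ⟶ G}

theorem yon_map_comp_eq {T₁ T₂ T₂' T₃ : Over S} {F : Sp S} (a : T₃ ⟶ T₂) (b : T₂ ⟶ T₁)
    (c : T₃ ⟶ T₂') (d : T₂' ⟶ T₁) (x : (yon S).obj T₁ ⟶ F) (h : a ≫ b = c ≫ d) :
    (yon S).map a ≫ (yon S).map b ≫ x = (yon S).map c ≫ (yon S).map d ≫ x := by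
  rw [← Category.assoc, ← Functor.map_comp, h, Functor.map_comp, Category.assoc]

theorem isV_self (sq : ValSq f) : IsV sq.str sq.str (RingHom.id sq.A) := by
  unfold IsV
  have : CommRingCat.ofHom (RingHom.id sq.A) = 𝟙 (CommRingCat.of sq.A) := rfl
  rw [this, Spec.map_id, Category.id_comp]

/-- The square obtained from a dominating extension. -/
noncomputable def extSq (sq : ValSq f) (e : sq.DomExt) : ValSq f where
  A := e.A'
  K := e.K'
  str := Spec.map (CommRingCat.ofHom e.φ) ≫ sq.str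
  top := (yon S).map (homV ((isV_self sq).comp (algebraMap sq.A sq.K))
    (((isV_self sq).comp e.φ).comp (algebraMap e.A' e.K')) e.ψ (by
      rw [RingHom.comp_id, RingHom.comp_id]; exact e.comm.symm)) ≫ sq.top
  bot := (yon S).map (homV (isV_self sq) ((isV_self sq).comp e.φ) e.φ rfl) ≫ sq.bot
  comm := by
    have h1 : sq.top ≫ f = (yon S).map (homV (isV_self sq)
        ((isV_self sq).comp (algebraMap sq.A sq.K)) (algebraMap sq.A sq.K) rfl) ≫ sq.bot := sq.comm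
    rw [Category.assoc, h1]
    refine yon_map_comp_eq _ _ _ _ sq.bot ?_
    refine homV_comp_eq _ _ _ _ _ rfl _ _ _ rfl _ rfl ?_
    exact e.comm.symm

theorem yon_map_comp_eq' {T₁ T₂ T₃ : Over S} {F : Sp S} (a : T₃ ⟶ T₂) (b : T₂ ⟶ T₁)
    (c : T₃ ⟶ T₁) (x : (yon S).obj T₁ ⟶ F) (h : a ≫ b = c) :
    (yon S).map a ≫ (yon S).map b ≫ x = (yon S).map c ≫ x := by
  rw [← Category.assoc, ← Functor.map_comp, h]

/-- A dotted arrow after an extension of an extended square gives one for the original square. -/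
theorem hasLiftExt_of_extSq (sq : ValSq f) (e : sq.DomExt) (h : (extSq sq e).HasLiftExt) :
    sq.HasLiftExt := by
  obtain ⟨e₂, l₂, hl1, hl2⟩ := h
  have hloc1 : IsLocalHom e.φ := e.isLocalHom
  have hloc2 : IsLocalHom e₂.φ := e₂.isLocalHom
  let φ₃ : sq.A →+* e₂.A' := e₂.φ.comp e.φ
  let ψ₃ : sq.K →+* e₂.K' := e₂.ψ.comp e.ψ
  have hcomm3 : (algebraMap e₂.A' e₂.K').comp φ₃ = ψ₃.comp (algebraMap sq.A sq.K) := by
    change (algebraMap e₂.A' e₂.K').comp (e₂.φ.comp e.φ) = (e₂.ψ.comp e.ψ).comp (algebraMap sq.A sq.K)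
    rw [← RingHom.comp_assoc, e₂.comm, RingHom.comp_assoc, RingHom.comp_assoc]
    exact congrArg (fun r => e₂.ψ.comp r) e.comm
  let e₃ : sq.DomExt :=
    { A' := e₂.A'
      K' := e₂.K'
      φ := φ₃
      ψ := ψ₃
      comm := hcomm3
      isLocalHom := @RingHom.isLocalHom_comp _ _ _ _ _ _ e₂.φ e.φ hloc2 hloc1 }
  have h0 := isV_self sq
  have hK0 := h0.comp (algebraMap sq.A sq.K)
  have h1 := h0.comp e.φ
  have hK1 := h1.comp (algebraMap e.A' e.K')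
  have h2 := h1.comp e₂.φ
  have hK2 := h2.comp (algebraMap e₂.A' e₂.K')
  have h3 := h0.comp φ₃
  have hK3 := h3.comp (algebraMap e₂.A' e₂.K')
  have hκ : (RingHom.id e₂.A').comp (e₂.φ.comp (e.φ.comp (RingHom.id sq.A))) =
      φ₃.comp (RingHom.id sq.A) := rfl
  have hκK : (RingHom.id e₂.K').comp ((algebraMap e₂.A' e₂.K').comp
      (e₂.φ.comp (e.φ.comp (RingHom.id sq.A)))) =
      (algebraMap e₂.A' e₂.K').comp (φ₃.comp (RingHom.id sq.A)) := rfl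
  have hψ1 : e.ψ.comp ((algebraMap sq.A sq.K).comp (RingHom.id sq.A)) =
      (algebraMap e.A' e.K').comp (e.φ.comp (RingHom.id sq.A)) := by
    rw [RingHom.comp_id, RingHom.comp_id]; exact e.comm.symm
  have hψ2 : e₂.ψ.comp ((algebraMap e.A' e.K').comp (e.φ.comp (RingHom.id sq.A))) =
      (algebraMap e₂.A' e₂.K').comp (e₂.φ.comp (e.φ.comp (RingHom.id sq.A))) := by
    rw [← RingHom.comp_assoc, ← RingHom.comp_assoc]
    exact congrArg (fun r => r.comp (e.φ.comp (RingHom.id sq.A))) e₂.comm.symm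
  have hψ3 : ψ₃.comp ((algebraMap sq.A sq.K).comp (RingHom.id sq.A)) =
      (algebraMap e₂.A' e₂.K').comp (φ₃.comp (RingHom.id sq.A)) := by
    rw [RingHom.comp_id, RingHom.comp_id]; exact hcomm3.symm
  have hl1' : (yon S).map (homV h2 hK2 (algebraMap e₂.A' e₂.K') rfl) ≫ l₂ =
      (yon S).map (homV hK1 hK2 e₂.ψ hψ2) ≫ (yon S).map (homV hK0 hK1 e.ψ hψ1) ≫ sq.top := hl1
  have hl2' : l₂ ≫ f = (yon S).map (homV h1 h2 e₂.φ rfl) ≫
      (yon S).map (homV h0 h1 e.φ rfl) ≫ sq.bot := hl2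
  refine ⟨e₃, (yon S).map (homV h2 h3 (RingHom.id e₂.A') hκ) ≫ l₂, ?_, ?_⟩
  · change (yon S).map (homV h3 hK3 (algebraMap e₂.A' e₂.K') rfl) ≫
      (yon S).map (homV h2 h3 (RingHom.id e₂.A') hκ) ≫ l₂ =
      (yon S).map (homV hK0 hK3 ψ₃ hψ3) ≫ sq.top
    have e1 : homV h3 hK3 (algebraMap e₂.A' e₂.K') rfl ≫ homV h2 h3 (RingHom.id e₂.A') hκ =
        homV hK2 hK3 (RingHom.id e₂.K') hκK ≫ homV h2 hK2 (algebraMap e₂.A' e₂.K') rfl :=
      homV_comp_eq h2 h3 hK2 hK3 _ hκ _ rfl _ rfl _ hκK rfl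
    have e2 : homV hK2 hK3 (RingHom.id e₂.K') hκK ≫ homV hK1 hK2 e₂.ψ hψ2 =
        homV hK1 hK3 e₂.ψ (hψ2.trans rfl) := by
      rw [homV_comp]; rfl
    have e3 : homV hK1 hK3 e₂.ψ (hψ2.trans rfl) ≫ homV hK0 hK1 e.ψ hψ1 =
        homV hK0 hK3 ψ₃ hψ3 := by
      rw [homV_comp]; rfl
    calc (yon S).map (homV h3 hK3 (algebraMap e₂.A' e₂.K') rfl) ≫
          (yon S).map (homV h2 h3 (RingHom.id e₂.A') hκ) ≫ l₂
        = (yon S).map (homV hK2 hK3 (RingHom.id e₂.K') hκK) ≫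
          (yon S).map (homV h2 hK2 (algebraMap e₂.A' e₂.K') rfl) ≫ l₂ :=
          yon_map_comp_eq _ _ _ _ l₂ e1
      _ = (yon S).map (homV hK2 hK3 (RingHom.id e₂.K') hκK) ≫
          (yon S).map (homV hK1 hK2 e₂.ψ hψ2) ≫ (yon S).map (homV hK0 hK1 e.ψ hψ1) ≫ sq.top := by
          rw [hl1']
      _ = (yon S).map (homV hK1 hK3 e₂.ψ (hψ2.trans rfl)) ≫
          (yon S).map (homV hK0 hK1 e.ψ hψ1) ≫ sq.top := yon_map_comp_eq' _ _ _ _ e2
      _ = (yon S).map (homV hK0 hK3 ψ₃ hψ3) ≫ sq.top := yon_map_comp_eq' _ _ _ _ e3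
  · change ((yon S).map (homV h2 h3 (RingHom.id e₂.A') hκ) ≫ l₂) ≫ f =
      (yon S).map (homV h0 h3 φ₃ rfl) ≫ sq.bot
    have e1 : homV h2 h3 (RingHom.id e₂.A') hκ ≫ homV h1 h2 e₂.φ rfl =
        homV h1 h3 e₂.φ rfl := by
      rw [homV_comp]; rfl
    have e2 : homV h1 h3 e₂.φ rfl ≫ homV h0 h1 e.φ rfl = homV h0 h3 φ₃ rfl := by
      rw [homV_comp]; rfl
    calc ((yon S).map (homV h2 h3 (RingHom.id e₂.A') hκ) ≫ l₂) ≫ f
        = (yon S).map (homV h2 h3 (RingHom.id e₂.A') hκ) ≫ l₂ ≫ f := Category.assoc _ _ _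
      _ = (yon S).map (homV h2 h3 (RingHom.id e₂.A') hκ) ≫ (yon S).map (homV h1 h2 e₂.φ rfl) ≫
          (yon S).map (homV h0 h1 e.φ rfl) ≫ sq.bot :=
          congrArg (fun t => (yon S).map (homV h2 h3 (RingHom.id e₂.A') hκ) ≫ t) hl2'
      _ = (yon S).map (homV h1 h3 e₂.φ rfl) ≫ (yon S).map (homV h0 h1 e.φ rfl) ≫ sq.bot :=
          yon_map_comp_eq' _ _ _ _ e1
      _ = (yon S).map (homV h0 h3 φ₃ rfl) ≫ sq.bot := yon_map_comp_eq' _ _ _ _ e2

end Groth.Agent.Lib.Helper3.RVC
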