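import Groth.Prelude.Def_AlgSpMor5
import Groth.Agent.Lib.Helper3.RVCAlg
set_option autoImplicit false
universe u
open CategoryTheory CategoryTheory.Limits AlgebraicGeometry Opposite AlgSp

namespace Groth.Agent.Lib.Helper3.RVC

variable {S : Scheme.{u}} {R₀ : Type u} [CommRing R₀] (ι : Spec (CommRingCat.of R₀) ⟶ S)

/-- the structure map `str` of `Spec R` is the one induced by the ring map `r` out of `R₀`. -/
def IsV {R : Type u} [CommRing R] (str : Spec (CommRingCat.of R) ⟶ S) (r : R₀ →+* R) : Prop :=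
  str = Spec.map (CommRingCat.ofHom r) ≫ ι

variable {ι}

theorem IsV.comp {R R' : Type u} [CommRing R] [CommRing R'] {str : Spec (CommRingCat.of R) ⟶ S}
    {r : R₀ →+* R} (h : IsV ι str r) (φ : R →+* R') :
    IsV ι (Spec.map (CommRingCat.ofHom φ) ≫ str) (φ.comp r) := by
  unfold IsV at h ⊢
  rw [h, ← Category.assoc, ← Spec.map_comp, ← CommRingCat.ofHom_comp]

theorem IsV.of_eq {R R' : Type u} [CommRing R] [CommRing R'] {str : Spec (CommRingCat.of R) ⟶ S}
    {r : R₀ →+* R} (h : IsV ι str r) (φ : R →+* R') {str' : Spec (CommRingCat.of R') ⟶ S}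
    (hs : Spec.map (CommRingCat.ofHom φ) ≫ str = str') {r' : R₀ →+* R'} (hr : φ.comp r = r') :
    IsV ι str' r' := by
  subst hs hr
  exact h.comp φ

/-- the morphism over `S` induced by a ring map compatible with the maps out of `R₀`. -/
noncomputable def homV {R R' : Type u} [CommRing R] [CommRing R'] {str : Spec (CommRingCat.of R) ⟶ S}
    {str' : Spec (CommRingCat.of R') ⟶ S} {r : R₀ →+* R} {r' : R₀ →+* R'} (h : IsV ι str r)
    (h' : IsV ι str' r') (φ : R →+* R') (hφ : φ.comp r = r') : Over.mk str' ⟶ Over.mk str :=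
  Over.homMk (Spec.map (CommRingCat.ofHom φ)) (by
    change Spec.map _ ≫ str = str'
    rw [h, h', ← hφ, ← Category.assoc, ← Spec.map_comp, ← CommRingCat.ofHom_comp])

@[simp] theorem homV_left {R R' : Type u} [CommRing R] [CommRing R']
    {str : Spec (CommRingCat.of R) ⟶ S}
    {str' : Spec (CommRingCat.of R') ⟶ S} {r : R₀ →+* R} {r' : R₀ →+* R'} (h : IsV ι str r)
    (h' : IsV ι str' r') (φ : R →+* R') (hφ : φ.comp r = r') :
    (homV h h' φ hφ).left = Spec.map (CommRingCat.ofHom φ) := rfl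

theorem homV_comp {R R' R'' : Type u} [CommRing R] [CommRing R'] [CommRing R'']
    {str : Spec (CommRingCat.of R) ⟶ S} {str' : Spec (CommRingCat.of R') ⟶ S}
    {str'' : Spec (CommRingCat.of R'') ⟶ S} {r : R₀ →+* R} {r' : R₀ →+* R'} {r'' : R₀ →+* R''}
    (h : IsV ι str r) (h' : IsV ι str' r') (h'' : IsV ι str'' r'') (φ : R →+* R')
    (hφ : φ.comp r = r') (φ' : R' →+* R'') (hφ' : φ'.comp r' = r'') :
    homV h' h'' φ' hφ' ≫ homV h h' φ hφ =
      homV h h'' (φ'.comp φ) (by rw [RingHom.comp_assoc, hφ, hφ']) := by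
  ext
  change Spec.map _ ≫ Spec.map _ = Spec.map _
  rw [← Spec.map_comp, ← CommRingCat.ofHom_comp]

/-- two composites of induced morphisms agree as soon as the composite ring maps agree. -/
theorem homV_comp_eq {R R₁ R₂ R'' : Type u} [CommRing R] [CommRing R₁] [CommRing R₂] [CommRing R'']
    {str : Spec (CommRingCat.of R) ⟶ S} {str₁ : Spec (CommRingCat.of R₁) ⟶ S}
    {str₂ : Spec (CommRingCat.of R₂) ⟶ S}
    {str'' : Spec (CommRingCat.of R'') ⟶ S} {r : R₀ →+* R} {r₁ : R₀ →+* R₁} {r₂ : R₀ →+* R₂}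
    {r'' : R₀ →+* R''}
    (h : IsV ι str r) (h₁ : IsV ι str₁ r₁) (h₂ : IsV ι str₂ r₂) (h'' : IsV ι str'' r'')
    (φ₁ : R →+* R₁) (hφ₁ : φ₁.comp r = r₁) (φ₁' : R₁ →+* R'') (hφ₁' : φ₁'.comp r₁ = r'')
    (φ₂ : R →+* R₂) (hφ₂ : φ₂.comp r = r₂) (φ₂' : R₂ →+* R'') (hφ₂' : φ₂'.comp r₂ = r'')
    (e : φ₁'.comp φ₁ = φ₂'.comp φ₂) :
    homV h₁ h'' φ₁' hφ₁' ≫ homV h h₁ φ₁ hφ₁ = homV h₂ h'' φ₂' hφ₂' ≫ homV h h₂ φ₂ hφ₂ := by
  rw [homV_comp, homV_comp]
  congr 1

/-- the morphism to `V = Spec R₀`. -/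
noncomputable def toV {R : Type u} [CommRing R] {str : Spec (CommRingCat.of R) ⟶ S} {r : R₀ →+* R}
    (h : IsV ι str r) : Over.mk str ⟶ Over.mk ι :=
  Over.homMk (Spec.map (CommRingCat.ofHom r)) h.symm

theorem homV_toV {R R' : Type u} [CommRing R] [CommRing R'] {str : Spec (CommRingCat.of R) ⟶ S}
    {str' : Spec (CommRingCat.of R') ⟶ S} {r : R₀ →+* R} {r' : R₀ →+* R'} (h : IsV ι str r)
    (h' : IsV ι str' r') (φ : R →+* R') (hφ : φ.comp r = r') :
    homV h h' φ hφ ≫ toV h = toV h' := by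
  ext
  change Spec.map _ ≫ Spec.map _ = Spec.map _
  rw [← Spec.map_comp, ← CommRingCat.ofHom_comp, hφ]

/-- every morphism to `V = Spec R₀` over `S` comes from a ring map. -/
theorem exists_isV {R : Type u} [CommRing R] {str : Spec (CommRingCat.of R) ⟶ S}
    (b : Over.mk str ⟶ Over.mk ι) : ∃ (r : R₀ →+* R) (h : IsV ι str r), b = toV h := by
  refine ⟨(Spec.preimage b.left).hom, ?_, ?_⟩
  · unfold IsV
    rw [CommRingCat.ofHom_hom, Spec.map_preimage]
    exact (Over.w b).symm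
  · ext
    change b.left = Spec.map (CommRingCat.ofHom (Spec.preimage b.left).hom)
    rw [CommRingCat.ofHom_hom, Spec.map_preimage]

/-- a morphism over `S` between spectra comes from a ring map, compatibly. -/
theorem exists_homV {R R' : Type u} [CommRing R] [CommRing R'] {str : Spec (CommRingCat.of R) ⟶ S}
    {str' : Spec (CommRingCat.of R') ⟶ S} {r : R₀ →+* R} (h : IsV ι str r)
    (g : Over.mk str' ⟶ Over.mk str) :
    ∃ (φ : R →+* R') (h' : IsV ι str' (φ.comp r)), g = homV h h' φ rfl := by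
  have hφ : Spec.map (CommRingCat.ofHom (Spec.preimage g.left).hom) = g.left := by
    rw [CommRingCat.ofHom_hom, Spec.map_preimage]
  have h' : IsV ι str' ((Spec.preimage g.left).hom.comp r) :=
    h.of_eq _ (by rw [hφ]; exact Over.w g) rfl
  refine ⟨(Spec.preimage g.left).hom, h', ?_⟩
  ext
  exact hφ.symm

end Groth.Agent.Lib.Helper3.RVC
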