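import Mathlib
import Groth.Agent.Lib.Helper3.RedSub
import Groth.Agent.Lib.Helper3.GrpdSub2
set_option autoImplicit false
set_option linter.style.haveILetI false
universe u
open CategoryTheory CategoryTheory.Limits AlgebraicGeometry TopologicalSpace

namespace Groth.Agent.Lib.Helper3.RedSubMain

open Grpd Groth.Agent.Lib.Helper3.GrpdSub Groth.Agent.Lib.Helper3.RedSub Groth.Agent.Lib.Helper3.SchIm

/-- reduced closed subscheme on a closed subset, packaged -/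
theorem exists_reduced_closed {R : Scheme.{u}} (D : Set R) :
    ∃ (Z : Scheme.{u}) (ι : Z ⟶ R), IsReduced Z ∧ IsClosedImmersion ι ∧
      Set.range ι = closure D :=
  ⟨_, (Scheme.IdealSheafData.vanishingIdeal (Closeds.closure D)).subschemeι,
    Groth.Agent.Lib.Helper4.RedSubscheme.isReduced_subscheme_vanishingIdeal _, inferInstance,
    Groth.Agent.Lib.Helper4.RedSubscheme.range_subschemeι_vanishingIdeal _⟩

theorem main (S : Scheme.{u}) (G₁ G₂ : Grpd.GroupoidScheme S) (f : Grpd.GroupoidScheme.Hom G₁ G₂)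
    [IsIso f.fU] (k : Type u) [Field k] [PerfectField k] (eU : G₂.U ≅ Spec (CommRingCat.of k)) :
    ∃ (G' : Grpd.GroupoidScheme S) (ψ : Grpd.GroupoidScheme.Hom G' G₂),
      IsIso ψ.fU ∧ IsClosedImmersion ψ.fR ∧ IsReduced G'.R ∧
        Set.range ⇑ψ.fR = closure (Set.range ⇑f.fR) := by
  obtain ⟨a, ha⟩ : ∃ a, a = f.fR := ⟨_, rfl⟩
  obtain ⟨Z, ι, hZ, hιc, hιr⟩ := exists_reduced_closed (Set.range a)
  obtain ⟨R', ρ, hR', hρc, hρr⟩ := exists_reduced_closed (Set.univ : Set G₁.R)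
  rw [closure_univ] at hρr
  have hρs : Function.Surjective ρ := Set.range_eq_univ.mp hρr
  have hUred : IsReduced G₂.U := isReduced_of_isOpenImmersion eU.hom
  have hsub : Set.range a ⊆ Set.range ι := by rw [hιr]; exact subset_closure
  -- the lift of R' to Z
  obtain ⟨b, hb⟩ := exists_lift_of_range_subset ι (ρ ≫ a) (by
    refine subset_trans ?_ hsub
    rintro _ ⟨x, rfl⟩
    exact ⟨ρ x, by simp⟩)
  have hbdom : IsDominant b := by
    constructor
    rw [DenseRange, dense_iff_closure_eq,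
      ι.isEmbedding.isInducing.closure_eq_preimage_closure_image, ← Set.range_comp]
    have : Set.range (ι ∘ b) = Set.range a := by
      have : (ι ∘ b : R' → G₂.R) = a ∘ ρ := by
        funext x
        have := congrArg (fun g : R' ⟶ G₂.R => g x) hb
        simpa using this
      rw [this, Set.range_comp, hρr, Set.image_univ]
    rw [this, ← hιr]
    exact Set.preimage_range _
  -- identity
  obtain ⟨e', he⟩ := exists_lift_of_range_subset ι G₂.e (by
    refine subset_trans ?_ hsub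
    have : G₂.e = (inv f.fU ≫ G₁.e) ≫ a := by
      rw [Category.assoc, ha, hom_e f, IsIso.inv_hom_id_assoc]
    rw [this]
    rintro _ ⟨x, rfl⟩
    exact ⟨(inv f.fU ≫ G₁.e) x, by simp⟩)
  -- inverse
  obtain ⟨i', hi'⟩ := exists_lift_of_range_subset ι (ι ≫ G₂.i) (by
    rw [hιr]
    apply range_subset_closure_of_dominant b
    have : b ≫ ι ≫ G₂.i = (ρ ≫ G₁.i) ≫ a := by
      rw [reassoc_of% hb, ha, ← hom_i f, Category.assoc]
    rw [this]
    rintro _ ⟨x, rfl⟩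
    exact ⟨(ρ ≫ G₁.i) x, by simp⟩)
  -- composition
  have hop : ∀ {X : Scheme.{u}} (g : X ⟶ G₂.U), UniversallyOpen g :=
    fun g => universallyOpen_of_iso_Spec_field k eU g
  have := hop (ρ ≫ G₁.t ≫ f.fU)
  have := hop (ι ≫ G₂.s)
  have hs1 : ρ ≫ G₁.s ≫ f.fU = b ≫ ι ≫ G₂.s := by
    rw [reassoc_of% hb, ha, f.comm_s]
  have ht1 : ρ ≫ G₁.t ≫ f.fU = b ≫ ι ≫ G₂.t := by
    rw [reassoc_of% hb, ha, f.comm_t]
  obtain ⟨l, hl, hlf, hls⟩ : ∃ l : pullback (ρ ≫ G₁.s ≫ f.fU) (ρ ≫ G₁.t ≫ f.fU) ⟶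
      pullback (ι ≫ G₂.s) (ι ≫ G₂.t), IsDominant l ∧
      l ≫ pullback.fst _ _ = pullback.fst _ _ ≫ b ∧
      l ≫ pullback.snd _ _ = pullback.snd _ _ ≫ b :=
    ⟨pullback.map (ρ ≫ G₁.s ≫ f.fU) (ρ ≫ G₁.t ≫ f.fU) (ι ≫ G₂.s)
      (ι ≫ G₂.t) b b (𝟙 _) (by rw [Category.comp_id, hs1])
      (by rw [Category.comp_id, ht1]), isDominant_pullback_map _ _ _ _ _ _ _ _,
      pullback.lift_fst _ _ _, pullback.lift_snd _ _ _⟩
  obtain ⟨mι, hmι, hmιf, hmιs⟩ : ∃ mι : pullback (ι ≫ G₂.s) (ι ≫ G₂.t) ⟶ pullback G₂.s G₂.t,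
      mι = pullback.map (ι ≫ G₂.s) (ι ≫ G₂.t) G₂.s G₂.t ι ι (𝟙 _)
        (by rw [Category.comp_id]) (by rw [Category.comp_id]) ∧
      mι ≫ pullback.fst _ _ = pullback.fst _ _ ≫ ι ∧ mι ≫ pullback.snd _ _ = pullback.snd _ _ ≫ ι :=
    ⟨pullback.map (ι ≫ G₂.s) (ι ≫ G₂.t) G₂.s G₂.t ι ι (𝟙 _)
        (by rw [Category.comp_id]) (by rw [Category.comp_id]), rfl,
      pullback.lift_fst _ _ _, pullback.lift_snd _ _ _⟩
  have hαβ : (pullback.fst (ρ ≫ G₁.s ≫ f.fU) (ρ ≫ G₁.t ≫ f.fU) ≫ ρ) ≫ G₁.s =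
      (pullback.snd (ρ ≫ G₁.s ≫ f.fU) (ρ ≫ G₁.t ≫ f.fU) ≫ ρ) ≫ G₁.t := by
    rw [← cancel_mono f.fU]
    simpa only [Category.assoc] using
      pullback.condition (f := ρ ≫ G₁.s ≫ f.fU) (g := ρ ≫ G₁.t ≫ f.fU)
  have hcomm := f.comm_c _ _ hαβ
  have hPred : IsReduced (pullback (ι ≫ G₂.s) (ι ≫ G₂.t)) :=
    isReduced_pullback_of_iso eU _ _
  obtain ⟨c', hc'⟩ := exists_lift_of_range_subset ι (mι ≫ G₂.c) (by
    rw [hιr]
    apply range_subset_closure_of_dominant l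
    have : l ≫ mι ≫ G₂.c = (pullback.lift _ _ hαβ ≫ G₁.c) ≫ a := by
      rw [ha, hcomm, ← Category.assoc l mι G₂.c]
      congr 1
      apply pullback.hom_ext
      · rw [Category.assoc, hmιf, reassoc_of% hlf, pullback.lift_fst, hb, ha, Category.assoc]
      · rw [Category.assoc, hmιs, reassoc_of% hls, pullback.lift_snd, hb, ha, Category.assoc]
    rw [this]
    rintro _ ⟨x, rfl⟩
    exact ⟨(pullback.lift _ _ hαβ ≫ G₁.c) x, by simp⟩)
  rw [hmι] at hc'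
  refine ⟨sub G₂ ι e' he i' hi' c' hc', subHom G₂ ι e' he i' hi' c' hc', ?_, ?_, ?_, ?_⟩
  · change IsIso (𝟙 _); infer_instance
  · change IsClosedImmersion ι; infer_instance
  · change IsReduced Z; exact hZ
  · change Set.range ι = _
    rw [hιr, ha]

end Groth.Agent.Lib.Helper3.RedSubMain
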