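import Mathlib
import Groth.Agent.Lib.Helper3.RedSubMain
set_option autoImplicit false
set_option linter.style.haveILetI false
universe u
open CategoryTheory CategoryTheory.Limits AlgebraicGeometry TopologicalSpace

namespace Groth.Agent.Lib.Helper3.RedSubJ

open Grpd Groth.Agent.Lib.Helper3.GrpdSub Groth.Agent.Lib.Helper3.RedSub

theorem mainJ (S : Scheme.{u}) (G : Grpd.GroupoidScheme S) (k : Type u) [Field k] [PerfectField k]
    (eU : G.U ≅ Spec (CommRingCat.of k)) :
    ∃ (G' : Grpd.GroupoidScheme S) (ψ : G'.U ≅ G.U) (hψ : ψ.hom ≫ G.pU = G'.pU),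
      IsReduced G'.R ∧ IsClosedImmersion G'.j ∧
      Set.range ⇑(G'.j ≫ pullback.map G'.pU G'.pU G.pU G.pU ψ.hom ψ.hom (𝟙 S)
        ((Category.comp_id _).trans hψ.symm) ((Category.comp_id _).trans hψ.symm)) =
        closure (Set.range ⇑G.j) := by
  have : IsIso (jHom G).fU := by change IsIso (𝟙 G.U); infer_instance
  obtain ⟨G', ψ, hψU, hψR, hred, hrange⟩ :=
    Groth.Agent.Lib.Helper3.RedSubMain.main S G (pair G.pU) (jHom G) k eU
  obtain ⟨u, hu⟩ : ∃ u : G'.U ⟶ G.U, u = ψ.fU := ⟨_, rfl⟩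
  have huiso : IsIso u := by rw [hu]; exact hψU
  have hover : u ≫ G.pU = G'.pU := by rw [hu]; exact ψ.fU_over
  obtain ⟨r, hr⟩ : ∃ r : G'.R ⟶ pullback G.pU G.pU, r = ψ.fR := ⟨_, rfl⟩
  have hrt : r ≫ pullback.fst G.pU G.pU = G'.t ≫ u := by rw [hr, hu]; exact ψ.comm_t
  have hrs : r ≫ pullback.snd G.pU G.pU = G'.s ≫ u := by rw [hr, hu]; exact ψ.comm_s
  have hrc : IsClosedImmersion r := by rw [hr]; exact hψR
  have hrr : Set.range r = closure (Set.range G.j) := by rw [hr]; exact hrange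
  have hkey : G'.j ≫ pullback.map G'.pU G'.pU G.pU G.pU u u (𝟙 S)
      ((Category.comp_id _).trans hover.symm) ((Category.comp_id _).trans hover.symm) = r := by
    apply pullback.hom_ext
    · rw [Category.assoc, pullback.lift_fst, hrt, ← Category.assoc]
      congr 1
      exact pullback.lift_fst _ _ _
    · rw [Category.assoc, pullback.lift_snd, hrs, ← Category.assoc]
      congr 1
      exact pullback.lift_snd _ _ _
  refine ⟨G', asIso u, hover, hred, ?_, ?_⟩
  · have : IsClosedImmersion (G'.j ≫ pullback.map G'.pU G'.pU G.pU G.pU u u (𝟙 S)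
      ((Category.comp_id _).trans hover.symm) ((Category.comp_id _).trans hover.symm)) := by
      rw [hkey]; exact hrc
    exact IsClosedImmersion.of_comp G'.j (pullback.map G'.pU G'.pU G.pU G.pU u u (𝟙 S)
      ((Category.comp_id _).trans hover.symm) ((Category.comp_id _).trans hover.symm))
  · change Set.range ⇑(G'.j ≫ pullback.map G'.pU G'.pU G.pU G.pU u u (𝟙 S) _ _) = _
    rw [hkey, hrr]

end Groth.Agent.Lib.Helper3.RedSubJ
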