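import Mathlib
import Groth.Agent.Lib.Helper3.Rep0418H
import Groth.Agent.S9937

set_option autoImplicit false
universe u

namespace Groth.Agent.Lib.Helper3.Rep0418

open CategoryTheory CategoryTheory.Limits AlgebraicGeometry Opposite AlgSp Polynomial
open Groth.Agent.Lib.Helper3

variable {S : Scheme.{u}}

/-- An algebraic space with a jointly monic pair of maps to two schemes, one of which is locally
quasi-finite, is a scheme. -/
theorem isRepresentable_of_jointly_mono {Q : Sp S} (hQ : IsAlgSpace Q) {X₀ U₀ : Over S}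
    (a : Q ⟶ (yon S).obj X₀) (b : Q ⟶ (yon S).obj U₀)
    (hmono : ∀ {T : Sp S} (φ φ' : T ⟶ Q), φ ≫ a = φ' ≫ a → φ ≫ b = φ' ≫ b → φ = φ')
    (hb : LocP (@LocallyQuasiFinite ⊓ @LocallyOfFiniteType) b) : Q.obj.IsRepresentable := by
  let m : Q ⟶ (yon S).obj (X₀ ⨯ U₀) := prod.lift a b ≫ inv (prodComparison (yon S) X₀ U₀)
  have hm1 : m ≫ (yon S).map prod.fst = a := by
    rw [Category.assoc, ← prodComparison_fst, IsIso.inv_hom_id_assoc, prod.lift_fst]
  have hm2 : m ≫ (yon S).map prod.snd = b := by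
    rw [Category.assoc, ← prodComparison_snd, IsIso.inv_hom_id_assoc, prod.lift_snd]
  haveI : Mono m := ⟨fun φ φ' h => hmono φ φ'
    (by rw [← hm1, ← Category.assoc, h, Category.assoc])
    (by rw [← hm2, ← Category.assoc, h, Category.assoc])⟩
  have hm : LocP (@LocallyQuasiFinite ⊓ @LocallyOfFiniteType) m := by
    intro V Z' α β h hα hβ hcomm
    obtain ⟨β₀, rfl⟩ := (yon S).map_surjective β
    have h1 : α ≫ b = (yon S).map (h ≫ β₀ ≫ prod.snd) ≫ 𝟙 _ := by
      rw [Category.comp_id, ← hm2, ← Category.assoc, hcomm, Functor.map_comp, Functor.map_comp,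
        Category.assoc]
    have h2 := hb α (𝟙 _) (h ≫ β₀ ≫ prod.snd) hα (repWith_id _ _) h1
    rw [Over.comp_left] at h2
    haveI : LocallyQuasiFinite (h.left ≫ (β₀ ≫ prod.snd).left) := h2.1
    haveI : LocallyOfFiniteType (h.left ≫ (β₀ ≫ prod.snd).left) := h2.2
    exact ⟨LocallyQuasiFinite.of_comp h.left (β₀ ≫ prod.snd).left,
      locallyOfFiniteType_of_comp h.left (β₀ ≫ prod.snd).left⟩
  exact isRepresentable_of_forall_schPt hQ (fun x =>
    schPt_of_lqf_separated hQ m hm (Groth.Agent.S9937.isSeparatedMor_of_mono m) x)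

end Groth.Agent.Lib.Helper3.Rep0418
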