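import Mathlib
import Groth.Agent.Lib.Helper3.Rep0418I
import Groth.Prelude.Def_AlgSpRep

set_option autoImplicit false
universe u

namespace Groth.Agent.Lib.Helper3.Rep0418

open CategoryTheory CategoryTheory.Limits AlgebraicGeometry Opposite AlgSp Polynomial
open Groth.Agent.Lib.Helper3

variable {S : Scheme.{u}}

/-- A pullback square of presheaves over a cospan with representable legs whose corner is an
algebraic space locally quasi-finite over one leg is represented by a scheme. -/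
theorem exists_isPullback_pyon {F : PSp S} {X U : Over S} (p : (pyon S).obj X ⟶ F)
    (ξ : (pyon S).obj U ⟶ F) {F' : PSp S} (fst' : F' ⟶ (pyon S).obj X)
    (snd' : F' ⟶ (pyon S).obj U) (sq : IsPullback fst' snd' p ξ)
    (h : Presheaf.IsSheaf (J S) F') (hQ : IsAlgSpace (⟨F', h⟩ : Sp S))
    (hb : LocP (@LocallyQuasiFinite ⊓ @LocallyOfFiniteType)
      (ObjectProperty.homMk snd' : (⟨F', h⟩ : Sp S) ⟶ (yon S).obj U)) :
    ∃ (G : Over S) (snd : G ⟶ U) (fst : (pyon S).obj G ⟶ (pyon S).obj X),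
      IsPullback fst ((pyon S).map snd) p ξ := by
  let Q : Sp S := ⟨F', h⟩
  let a : Q ⟶ (yon S).obj X := ObjectProperty.homMk fst'
  let b : Q ⟶ (yon S).obj U := ObjectProperty.homMk snd'
  have hrep : Q.obj.IsRepresentable := by
    refine isRepresentable_of_jointly_mono hQ a b ?_ hb
    intro T φ φ' h1 h2
    apply ObjectProperty.hom_ext
    apply sq.hom_ext
    · exact congrArg (fun k => k.hom) h1
    · exact congrArg (fun k => k.hom) h2
  obtain ⟨G, ⟨r⟩⟩ := hrep.has_representation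
  let e : (yon S).obj G ≅ Q := AlgSp.isoOfRepresentableBy r
  obtain ⟨i, hi⟩ := (yon S).map_surjective (e.hom ≫ b)
  refine ⟨G, i, (e.hom ≫ a).hom, ?_⟩
  have hi' : (pyon S).map i = e.hom.hom ≫ snd' := congrArg (fun k => k.hom) hi
  rw [hi']
  let e' : (pyon S).obj G ≅ F' := (sheafToPresheaf (J S) _).mapIso e
  have hinv : e.inv.hom ≫ e.hom.hom = 𝟙 F' := congrArg (fun k => k.hom) e.inv_hom_id
  refine IsPullback.of_iso sq e'.symm (Iso.refl _) (Iso.refl _) (Iso.refl _) ?_ ?_
    (by simp) (by simp)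
  · change fst' ≫ 𝟙 _ = e.inv.hom ≫ (e.hom.hom ≫ fst')
    rw [← Category.assoc, hinv, Category.id_comp, Category.comp_id]
  · change snd' ≫ 𝟙 _ = e.inv.hom ≫ (e.hom.hom ≫ snd')
    rw [← Category.assoc, hinv, Category.id_comp, Category.comp_id]

theorem main10100 (F : AlgSp.PSp S) (X : Over S) (p : (AlgSp.pyon S).obj X ⟶ F)
    (hp : AlgSp.RepBySpWith (AlgSp.LocP (@LocallyQuasiFinite ⊓ @LocallyOfFiniteType)) p) :
    (AlgSp.pyon S).relativelyRepresentable p := by
  intro U ξ
  have sq := IsPullback.of_hasPullback p ξ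
  obtain ⟨h, hQ, hb⟩ := hp ξ _ _ sq
  exact exists_isPullback_pyon p ξ _ _ sq h hQ hb

end Groth.Agent.Lib.Helper3.Rep0418
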