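import Mathlib
import Groth.Agent.Lib.Helper3.Rep0418J
import Groth.Agent.Lib.Helper3.EtSheaf
import Groth.Agent.Lib.Helper3.AlgSpLocP5
import Groth.Prelude.Def_AlgSp4

set_option autoImplicit false
universe u

namespace Groth.Agent.Lib.Helper3.Rep0418

open CategoryTheory CategoryTheory.Limits AlgebraicGeometry Opposite AlgSp Polynomial
open Groth.Agent.Lib.Helper3

variable {S : Scheme.{u}}

/-- Variant of `exists_isPullback_pyon` exposing the isomorphism. -/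
theorem exists_isPullback_pyon' {F : PSp S} {X U : Over S} (p : (pyon S).obj X ⟶ F)
    (ξ : (pyon S).obj U ⟶ F) {F' : PSp S} (fst' : F' ⟶ (pyon S).obj X)
    (snd' : F' ⟶ (pyon S).obj U) (sq : IsPullback fst' snd' p ξ)
    (h : Presheaf.IsSheaf (J S) F') (hQ : IsAlgSpace (⟨F', h⟩ : Sp S))
    (hb : LocP (@LocallyQuasiFinite ⊓ @LocallyOfFiniteType)
      (ObjectProperty.homMk snd' : (⟨F', h⟩ : Sp S) ⟶ (yon S).obj U)) :
    ∃ (G : Over S) (e : (yon S).obj G ≅ (⟨F', h⟩ : Sp S)) (snd : G ⟶ U),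
      (yon S).map snd = e.hom ≫ (ObjectProperty.homMk snd' : (⟨F', h⟩ : Sp S) ⟶ (yon S).obj U) ∧
      IsPullback (e.hom.hom ≫ fst') ((pyon S).map snd) p ξ := by
  let Q : Sp S := ⟨F', h⟩
  let a : Q ⟶ (yon S).obj X := ObjectProperty.homMk fst'
  let b : Q ⟶ (yon S).obj U := ObjectProperty.homMk snd'
  have hrep : Q.obj.IsRepresentable := by
    refine isRepresentable_of_jointly_mono hQ a b ?_ hb
    intro T φ φ' h1 h2
    apply ObjectProperty.hom_ext
    apply sq.hom_ext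
    · exact congrArg (fun k => k.hom) h1
    · exact congrArg (fun k => k.hom) h2
  obtain ⟨G, ⟨r⟩⟩ := hrep.has_representation
  let e : (yon S).obj G ≅ Q := AlgSp.isoOfRepresentableBy r
  obtain ⟨i, hi⟩ := (yon S).map_surjective (e.hom ≫ b)
  refine ⟨G, e, i, hi, ?_⟩
  have hi' : (pyon S).map i = e.hom.hom ≫ snd' := congrArg (fun k => k.hom) hi
  rw [hi']
  let e' : (pyon S).obj G ≅ F' := (sheafToPresheaf (J S) _).mapIso e
  have hinv : e.inv.hom ≫ e.hom.hom = 𝟙 F' := congrArg (fun k => k.hom) e.inv_hom_id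
  refine IsPullback.of_iso sq e'.symm (Iso.refl _) (Iso.refl _) (Iso.refl _) ?_ ?_
    (by simp) (by simp)
  · change fst' ≫ 𝟙 _ = e.inv.hom ≫ (e.hom.hom ≫ fst')
    rw [← Category.assoc, hinv, Category.id_comp, Category.comp_id]
  · change snd' ≫ 𝟙 _ = e.inv.hom ≫ (e.hom.hom ≫ snd')
    rw [← Category.assoc, hinv, Category.id_comp, Category.comp_id]

theorem etale_le_lqf : (@Etale : MorphismProperty Scheme.{u}) ≤
    (@LocallyQuasiFinite ⊓ @LocallyOfFiniteType : MorphismProperty Scheme.{u}) :=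
  fun _ _ g hg => isEtLocal_locallyQuasiFinite.etale_le g hg

/-- The composite of an étale surjective chart of an algebraic space `U` with a map `U ⟶ F`
representable by algebraic spaces, surjective and étale, is representable by schemes, étale and
surjective. -/
theorem relative_chart_comp {F : PSp S} {Usp : Sp S} (hU : IsAlgSpace Usp) (p : Usp.obj ⟶ F)
    (h2 : RepBySpWith (IsSurjectiveMor ⊓ IsEtaleMor) p) {U₀ : Over S}
    (c : (yon S).obj U₀ ⟶ Usp) (hce : RepWith @Etale c) (hcs : RepWith @Surjective c) :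
    (MorphismProperty.inverseImage @Etale (Over.forget S)).relative (pyon S) (c.hom ≫ p) ∧
    (MorphismProperty.inverseImage @Surjective (Over.forget S)).relative (pyon S) (c.hom ≫ p) := by
  have key : ∀ ⦃T : Over S⦄ (ξ : (pyon S).obj T ⟶ F), ∃ (G : Over S) (snd : G ⟶ T)
      (fst : (pyon S).obj G ⟶ (pyon S).obj U₀), IsPullback fst ((pyon S).map snd) (c.hom ≫ p) ξ ∧
        Etale snd.left ∧ Surjective snd.left := by
    intro T ξ
    have sq1 := IsPullback.of_hasPullback p ξ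
    obtain ⟨F₁, fst₁, snd₁, sq1⟩ : ∃ (F₁ : PSp S) (fst₁ : F₁ ⟶ Usp.obj)
        (snd₁ : F₁ ⟶ (pyon S).obj T), IsPullback fst₁ snd₁ p ξ := ⟨_, _, _, sq1⟩
    obtain ⟨h₁, hQ₁, hs₁, he₁⟩ := h2 ξ fst₁ snd₁ sq1
    let Q₁ : Sp S := ⟨F₁, h₁⟩
    let a₁ : Q₁ ⟶ Usp := ObjectProperty.homMk fst₁
    let b₁ : Q₁ ⟶ (yon S).obj T := ObjectProperty.homMk snd₁
    have sq2 := IsPullback.of_hasPullback c a₁
    obtain ⟨Q₂, fst₂, snd₂, sq2⟩ : ∃ (Q₂ : Sp S) (fst₂ : Q₂ ⟶ (yon S).obj U₀) (snd₂ : Q₂ ⟶ Q₁),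
        IsPullback fst₂ snd₂ c a₁ := ⟨_, _, _, sq2⟩
    have hQ₂ : IsAlgSpace Q₂ := isAlgSpace_of_isPullback' hU (IsAlgSpace.yon_obj _) hQ₁ sq2
    have hsnd₂e : RepWith @Etale snd₂ := MorphismProperty.of_isPullback sq2 hce
    have hsnd₂s : RepWith @Surjective snd₂ := MorphismProperty.of_isPullback sq2 hcs
    have sq2' : IsPullback fst₂.hom snd₂.hom c.hom fst₁ :=
      sq2.map (sheafToPresheaf (J S) (Type (u + 1)))
    have sq3 : IsPullback fst₂.hom (snd₂.hom ≫ snd₁) (c.hom ≫ p) ξ := sq2'.paste_vert sq1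
    have hb₂ : LocP (@LocallyQuasiFinite ⊓ @LocallyOfFiniteType)
        (ObjectProperty.homMk (snd₂.hom ≫ snd₁) : (⟨Q₂.obj, Q₂.property⟩ : Sp S) ⟶
          (yon S).obj T) := by
      have h3 : LocP @Etale (snd₂ ≫ b₁) :=
        locP_comp isEtLocal_etale hQ₂ hQ₁ (IsAlgSpace.yon_obj _) snd₂ b₁
          (locP_of_repWith isEtLocal_etale snd₂ hsnd₂e) (locP_etale_of_isEtaleMor he₁)
      exact locP_mono etale_le_lqf h3
    obtain ⟨G, e, i, hi, sq4⟩ := exists_isPullback_pyon' (c.hom ≫ p) ξ fst₂.hom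
      (snd₂.hom ≫ snd₁) sq3 Q₂.property hQ₂ hb₂
    refine ⟨G, i, _, sq4, ?_, ?_⟩
    · have hφ : RepWith @Etale (e.hom ≫ snd₂) :=
        MorphismProperty.RespectsIso.precomp _ e.hom snd₂ hsnd₂e
      have h4 : RepWith @Etale ((e.hom ≫ snd₂) ≫ b₁) := he₁ _ hφ
      have h5 : (yon S).map i = (e.hom ≫ snd₂) ≫ b₁ := by
        rw [hi, Category.assoc]; rfl
      rw [← h5] at h4
      exact (repWith_yon_map_iff _ _).1 h4
    · constructor
      intro t
      have hs₂ : IsSurjectiveMor snd₂ :=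
        (Groth.Agent.S9906.repWith_surjective_iff snd₂ hsnd₂e.1).1 hsnd₂s
      obtain ⟨z₁, hz₁⟩ := hs₁ (Points.schemeHomeo T t)
      obtain ⟨z₂, hz₂⟩ := hs₂ z₁
      obtain ⟨g, hg⟩ := (Points.schemeHomeo G).surjective (Points.map e.inv z₂)
      refine ⟨g, ?_⟩
      apply (Points.schemeHomeo T).injective
      rw [← Points.map_yon_map_apply, hg, hi, ← Points.map_comp, Iso.inv_hom_id_assoc]
      change Points.map (snd₂ ≫ b₁) z₂ = _
      rw [Points.map_comp, hz₂, hz₁]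
  constructor
  · apply MorphismProperty.relative.of_exists
    intro T ξ
    obtain ⟨G, snd, fst, sq, he, -⟩ := key ξ
    exact ⟨G, fst, snd, sq, he⟩
  · apply MorphismProperty.relative.of_exists
    intro T ξ
    obtain ⟨G, snd, fst, sq, -, hs⟩ := key ξ
    exact ⟨G, fst, snd, sq, hs⟩

theorem main10109 (F : AlgSp.PSp S)
    (h1 : Presheaf.IsSheaf (QuotSh.J Scheme.etalePrecoverage S) F) (U : AlgSp.Space S)
    (p : U.obj.obj ⟶ F)
    (h2 : AlgSp.RepBySpWith (AlgSp.IsSurjectiveMor ⊓ AlgSp.IsEtaleMor) p) :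
    AlgSp.IsAlgSpaceP F := by
  obtain ⟨U₀, c, hce, hcs⟩ := U.property.atlas
  obtain ⟨he, hs⟩ := relative_chart_comp U.property p h2 c hce hcs
  exact EtSheaf.isAlgSpaceP_of_chart F h1 U₀ (c.hom ≫ p) he hs

end Groth.Agent.Lib.Helper3.Rep0418
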