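import Groth.Agent.Lib.Helper3.AlgSpEpiDescent
import Groth.Agent.Lib.Helper3.AlgSpOpenSubsp2
import Groth.Agent.S10233
import Groth.Agent.S9883
import Mathlib.CategoryTheory.Sites.RegularEpi
import Mathlib.AlgebraicGeometry.IdealSheaf.Functorial
set_option autoImplicit false
universe u
open CategoryTheory CategoryTheory.Limits AlgebraicGeometry Opposite AlgSp

namespace Groth.Agent.Lib.Helper3.SchIm

variable {S : Scheme.{u}}

/-- Epimorphisms of sheaves lift against monomorphisms. -/
theorem exists_lift_of_epi_mono {A X Z Y : Sp S} (e : A ⟶ X) [Epi e] (i : Z ⟶ Y) [Mono i]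
    (g : A ⟶ Z) (f : X ⟶ Y) (w : g ≫ i = e ≫ f) : ∃ f' : X ⟶ Z, e ≫ f' = g ∧ f' ≫ i = f := by
  have h1 : IsRegularEpi e := IsRegularEpiCategory.regularEpiOfEpi e
  have h2 : StrongEpi e := inferInstance
  have sq : CommSq g e i f := ⟨w⟩
  exact ⟨sq.lift, sq.fac_left, sq.fac_right⟩

/-- The pullback data of the closed subscheme of an ideal sheaf invariant under a pair of
morphisms. -/
theorem exists_invariant_data {R U : Scheme.{u}} (s t : R ⟶ U) (I : U.IdealSheafData)
    (hI : I.comap s = I.comap t) :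
    ∃ (R' : Scheme.{u}) (k : R' ⟶ R) (s' t' : R' ⟶ I.subscheme),
      IsPullback k s' s I.subschemeι ∧ IsPullback k t' t I.subschemeι := by
  have hs : I ≤ (I.comap s).map s := I.le_map_comap s
  have ht : I ≤ (I.comap s).map t := by
    rw [Scheme.IdealSheafData.le_map_iff_comap_le, hI]
  refine ⟨(I.comap s).subscheme, (I.comap s).subschemeι,
    Scheme.IdealSheafData.subschemeMap _ _ s hs, Scheme.IdealSheafData.subschemeMap _ _ t ht, ?_, ?_⟩
  · refine isPullback_of_isClosedImmersion _ _ _ _ (by simp) ?_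
    rw [Scheme.IdealSheafData.ker_subschemeι, Scheme.IdealSheafData.ker_subschemeι]
  · refine isPullback_of_isClosedImmersion _ _ _ _ (by simp) ?_
    rw [Scheme.IdealSheafData.ker_subschemeι, Scheme.IdealSheafData.ker_subschemeι, hI]

/-- The supremum of a family of invariant ideal sheaves is invariant. -/
theorem comap_sSup_eq {R U : Scheme.{u}} (s t : R ⟶ U) (𝓘 : Set U.IdealSheafData)
    (h : ∀ I ∈ 𝓘, I.comap s = I.comap t) : (sSup 𝓘).comap s = (sSup 𝓘).comap t := by
  rw [(Scheme.IdealSheafData.map_gc s).l_sSup, (Scheme.IdealSheafData.map_gc t).l_sSup]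
  exact iSup_congr fun I => iSup_congr fun hI => h I hI

end Groth.Agent.Lib.Helper3.SchIm
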