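import Groth.Agent.Lib.Helper3.SchImCartier0
import Groth.Prelude.Def_W4stk3spdivLocPr
import Groth.Agent.Lib.Helper3.AlgSpImmersionPts
import Groth.Agent.Lib.Helper3.AlgSpLocSrc2
set_option autoImplicit false
universe u
open CategoryTheory CategoryTheory.Limits AlgebraicGeometry Opposite AlgSp

namespace Groth.Agent.Lib.Helper3.SchIm

/-- The open immersion of the complement of a locally principal closed subscheme is affine. -/
theorem isAffineHom_of_range_eq_compl_support {P V : Scheme.{u}} (w : P ⟶ V) [IsOpenImmersion w]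
    (𝓘 : V.IdealSheafData) (h𝓘 : Curv2.IsLocPrincipal 𝓘)
    (hr : Set.range w = (𝓘.support : Set V)ᶜ) : IsAffineHom w := by
  apply isAffineHom_of_forall_exists_isAffineOpen
  intro x
  by_cases hx : x ∈ 𝓘.support
  · obtain ⟨O, hxO, f, hf⟩ := h𝓘 x hx
    refine ⟨O.1, hxO, O.2, ?_⟩
    rw [← w.isAffineOpen_iff_of_isOpenImmersion, w.image_preimage_eq_opensRange_inf]
    have : w.opensRange ⊓ O.1 = V.basicOpen f := by
      ext y
      constructor
      · rintro ⟨hy1, hy2⟩
        have hy1' : y ∈ Set.range w := hy1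
        rw [hr] at hy1'
        have := (Scheme.IdealSheafData.mem_support_iff_of_mem (I := 𝓘) (U := O) hy2).not.1 hy1'
        rw [hf, Scheme.zeroLocus_span, Scheme.zeroLocus_singleton] at this
        simpa using this
      · intro hy
        have hyO : y ∈ O.1 := V.basicOpen_le f hy
        refine ⟨?_, hyO⟩
        change y ∈ Set.range w
        rw [hr]
        intro hys
        have := (Scheme.IdealSheafData.mem_support_iff_of_mem (I := 𝓘) (U := O) hyO).1 hys
        rw [hf, Scheme.zeroLocus_span, Scheme.zeroLocus_singleton] at this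
        exact this hy
    rw [this]
    exact O.2.basicOpen f
  · have hxr : x ∈ w.opensRange := by
      change x ∈ Set.range w
      rw [hr]; exact hx
    obtain ⟨O, hO, hxO, hOr⟩ := exists_isAffineOpen_mem_and_subset hxr
    exact ⟨O, hxO, hO, hO.preimage_of_isOpenImmersion w hOr⟩

end Groth.Agent.Lib.Helper3.SchIm

namespace Groth.Agent.Lib.Helper3.SchIm

variable {S : Scheme.{u}}

/-- The image of a chart of a morphism is the preimage of the image of the morphism. -/
theorem range_chart_eq {F X : Sp S} {i : F ⟶ X} {U V : Over S} {a : (yon S).obj U ⟶ X}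
    {fst : (yon S).obj V ⟶ F} {snd : V ⟶ U} (sq : IsPullback fst ((yon S).map snd) i a) :
    Set.range snd.left = {u | Points.ofPt a u ∈ Set.range (Points.map i)} := by
  ext u
  constructor
  · rintro ⟨v, rfl⟩
    exact ⟨Points.ofPt fst v, by rw [Points.map_ofPt, sq.w, Points.ofPt_yon_map_comp]⟩
  · rintro ⟨z, hz⟩
    obtain ⟨v, -, hv⟩ := Groth.Agent.Lib.Helper3.exists_of_isPullback_chart sq z u hz
    exact ⟨v, hv⟩

/-- The chart of the open complement of a closed subspace is the complement of the support. -/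
theorem range_chart_compl {X Z U : Sp S} (i : Z ⟶ X) (j : U ⟶ X)
    (hU : Set.range (Points.map j) = (Set.range (Points.map i))ᶜ) {V P : Over S}
    {φ : (yon S).obj V ⟶ X} (𝓘 : V.left.IdealSheafData)
    {fst : (yon S).obj (Over.mk (𝓘.subschemeι ≫ V.hom)) ⟶ Z}
    (sq : IsPullback fst ((yon S).map (Over.homMk 𝓘.subschemeι rfl :
      Over.mk (𝓘.subschemeι ≫ V.hom) ⟶ V)) i φ)
    {w : P ⟶ V} {fstP : (yon S).obj P ⟶ U} (sqj : IsPullback fstP ((yon S).map w) j φ) :
    Set.range w.left = (𝓘.support : Set V.left)ᶜ := by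
  rw [range_chart_eq sqj, hU]
  have h2 := range_chart_eq sq
  have h3 : Set.range (Over.homMk 𝓘.subschemeι rfl :
      Over.mk (𝓘.subschemeι ≫ V.hom) ⟶ V).left = (𝓘.support : Set V.left) :=
    𝓘.range_subschemeι
  rw [h3] at h2
  ext v
  simp only [Set.mem_compl_iff, h2]
  exact Iff.rfl

/-- The complement of a locally principal closed subspace is affine over the ambient space. -/
theorem isAffineMor_compl_of_isLocPrincipalSub (X Z U : Space S) (i : Z ⟶ X)
    (hZ : IsLocPrincipalSub i.hom) (j : U ⟶ X) (hj : RepWith @IsOpenImmersion j.hom)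
    (hU : Set.range (Points.map j.hom) = (Set.range (Points.map i.hom))ᶜ) :
    IsAffineMor j.hom := by
  obtain ⟨hi, V, φ, 𝓘, fst, hφe, hφs, sq, hprin⟩ := hZ
  have sqj := hj.rep.isPullback φ
  have hw : IsOpenImmersion (hj.rep.snd φ).left := hj.property_snd φ
  have hr := range_chart_compl i.hom j.hom hU 𝓘 sq sqj
  exact isAffineMor_of_chart X.property U.property j.hom φ hφe hφs _ _ sqj
    (isAffineHom_of_range_eq_compl_support _ 𝓘 hprin hr)

end Groth.Agent.Lib.Helper3.SchIm
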