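import Groth.Agent.Lib.Helper3.SchImCartier1
import Groth.Prelude.Def_AlgSpSub
set_option autoImplicit false
universe u
open CategoryTheory CategoryTheory.Limits AlgebraicGeometry Opposite AlgSp

namespace Groth.Agent.Lib.Helper3.SchIm

/-- The complement of an effective Cartier divisor is schematically dense. -/
theorem isSchematicallyDense_of_isEffCartierIdeal {V : Scheme.{u}} (𝓘 : V.IdealSheafData)
    (h𝓘 : BlowUp.IsEffCartierIdeal 𝓘) (W : V.Opens) (hW : (W : Set V) = (𝓘.support : Set V)ᶜ) :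
    CInt.IsSchematicallyDense W := by
  intro V'
  rw [injective_iff_map_eq_zero]
  intro s hs
  refine V.IsSheaf.section_ext fun x hx ↦ ?_
  obtain ⟨O, hxO, f, hf, hI⟩ := h𝓘 x
  obtain ⟨g, hgV', hxg⟩ := O.2.exists_basicOpen_le (V := V') ⟨x, hx⟩ hxO
  have hNaff : IsAffineOpen (V.basicOpen g) := O.2.basicOpen g
  refine ⟨V.basicOpen g, hgV', hxg, ?_⟩
  rw [map_zero]
  -- the restriction of `f` to `N = D(g)`
  have hloc : IsLocalization.Away g Γ(V, V.basicOpen g) := O.2.isLocalization_basicOpen g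
  set f' : Γ(V, V.basicOpen g) := algebraMap Γ(V, O.1) Γ(V, V.basicOpen g) f with hf'
  have hf'nzd : f' ∈ nonZeroDivisors Γ(V, V.basicOpen g) :=
    IsLocalization.map_nonZeroDivisors_le (Submonoid.powers g) Γ(V, V.basicOpen g)
      (Submonoid.mem_map_of_mem _ hf)
  have hloc' : IsLocalization.Away f' Γ(V, V.basicOpen f') := hNaff.isLocalization_basicOpen f'
  have hinj : Function.Injective (algebraMap Γ(V, V.basicOpen g) Γ(V, V.basicOpen f')) :=
    IsLocalization.injective _ (Submonoid.powers_le.2 hf'nzd)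
  apply hinj
  rw [map_zero]
  -- `D(f') ≤ V' ⊓ W`
  have hle : V.basicOpen f' ≤ V' ⊓ W := by
    intro y hy
    have hyN : y ∈ V.basicOpen g := V.basicOpen_le f' hy
    refine ⟨hgV' hyN, ?_⟩
    change y ∈ (W : Set V)
    rw [hW]
    intro hys
    have hyO : y ∈ O.1 := V.basicOpen_le g hyN
    have := (Scheme.IdealSheafData.mem_support_iff_of_mem (I := 𝓘) (U := O) hyO).1 hys
    rw [hI, Scheme.zeroLocus_span, Scheme.zeroLocus_singleton] at this
    apply this
    have h1 : V.basicOpen f' = V.basicOpen g ⊓ V.basicOpen f := V.basicOpen_res f _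
    rw [h1] at hy
    exact hy.2
  have h2 : (algebraMap Γ(V, V.basicOpen g) Γ(V, V.basicOpen f'))
      ((ConcreteCategory.hom (V.presheaf.map (homOfLE hgV').op)) s) =
      (ConcreteCategory.hom (V.presheaf.map (homOfLE hle).op))
        ((ConcreteCategory.hom (V.presheaf.map (homOfLE (inf_le_left : V' ⊓ W ≤ V')).op)) s) := by
    change (ConcreteCategory.hom (V.presheaf.map _)) ((ConcreteCategory.hom (V.presheaf.map _)) s) = _
    rw [← ConcreteCategory.comp_apply, ← ConcreteCategory.comp_apply, ← Functor.map_comp,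
      ← Functor.map_comp]
    rfl
  rw [h2, hs, map_zero]

end Groth.Agent.Lib.Helper3.SchIm

namespace Groth.Agent.Lib.Helper3.SchIm

variable {S : Scheme.{u}}

/-- The complement of an effective Cartier divisor on an algebraic space is affine over the
space and scheme theoretically dense. -/
theorem isAffineMor_and_isSchDense_compl_of_isEffCartierSub (X D U : Space S) (i : D ⟶ X)
    (hD : IsEffCartierSub i.hom) (j : U ⟶ X) (hj : RepWith @IsOpenImmersion j.hom)
    (hU : Set.range (Points.map j.hom) = (Set.range (Points.map i.hom))ᶜ) :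
    IsAffineMor j.hom ∧ IsSchDense j.hom := by
  obtain ⟨hi, V, φ, 𝓘, fst, hφe, hφs, sq, hcart⟩ := hD
  have hprin : Curv2.IsLocPrincipal 𝓘 := fun x _ => by
    obtain ⟨O, hxO, f, -, hf⟩ := hcart x
    exact ⟨O, hxO, f, hf⟩
  refine ⟨isAffineMor_compl_of_isLocPrincipalSub X D U i
    ⟨hi, V, φ, 𝓘, fst, hφe, hφs, sq, hprin⟩ j hj hU, hj, ?_⟩
  have sqj := hj.rep.isPullback φ
  have hw : IsOpenImmersion (hj.rep.snd φ).left := hj.property_snd φ
  have hr := range_chart_compl i.hom j.hom hU 𝓘 sq sqj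
  obtain ⟨ε, hε⟩ := exists_iso_opens_of_isOpenImmersion (hj.rep.snd φ)
  refine ⟨V, φ, (hj.rep.snd φ).left.opensRange, (yon S).map ε.hom ≫ hj.rep.fst φ, hφe, hφs, ?_, ?_⟩
  · refine IsPullback.of_iso sqj ((yon S).mapIso ε.symm) (Iso.refl _) (Iso.refl _) (Iso.refl _)
      ?_ ?_ ?_ ?_
    · simp only [Iso.refl_hom, Category.comp_id, Functor.mapIso_hom, Iso.symm_hom]
      rw [← Category.assoc, ← Functor.map_comp, Iso.inv_hom_id, CategoryTheory.Functor.map_id,
        Category.id_comp]
    · simp only [Iso.refl_hom, Category.comp_id, Functor.mapIso_hom, Iso.symm_hom]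
      rw [← Functor.map_comp, ← hε, Iso.inv_hom_id_assoc]
    · simp
    · simp
  · exact isSchematicallyDense_of_isEffCartierIdeal 𝓘 hcart _ hr

end Groth.Agent.Lib.Helper3.SchIm
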