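import Groth.Agent.Lib.Helper3.SchImIdeal2
set_option autoImplicit false
universe u
open CategoryTheory CategoryTheory.Limits AlgebraicGeometry Opposite

namespace Groth.Agent.Lib.Helper3.SchIm

/-- **fpqc descent of quasi-coherent ideal sheaves** (existence). -/
theorem exists_idealSheafData_comap_eq_of_fpqc {S S' : Scheme.{u}} (g : S' ⟶ S) [Flat g]
    [Surjective g] [QuasiCompact g] (J' : S'.IdealSheafData)
    (h : J'.comap (pullback.fst g g) = J'.comap (pullback.snd g g)) :
    ∃ J : S.IdealSheafData, J.comap g = J' := by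
  refine ⟨J'.map g, ?_⟩
  have hqc : QuasiCompact (J'.subschemeι ≫ g) := inferInstance
  have h1 : (J'.map g).comap g = (pullback.fst g (J'.subschemeι ≫ g)).ker :=
    ker_comap_of_flat (J'.subschemeι ≫ g) g
  have sqA := IsPullback.of_hasPullback (pullback.snd g g) J'.subschemeι
  have sqB := IsPullback.of_hasPullback g g
  have sqAB := sqA.paste_horiz sqB
  have h2 : (pullback.fst g (J'.subschemeι ≫ g)).ker =
      (pullback.fst (pullback.snd g g) J'.subschemeι ≫ pullback.fst g g).ker := by
    rw [← sqAB.isoPullback_hom_fst, Scheme.Hom.ker_comp_of_isIso]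
  have h3 : (pullback.fst (pullback.snd g g) J'.subschemeι ≫ pullback.fst g g).ker =
      (J'.comap (pullback.snd g g)).map (pullback.fst g g) :=
    (Scheme.IdealSheafData.map_ker _ _).symm
  rw [h1, h2, h3, ← h, map_comap_of_flat_surjective]

end Groth.Agent.Lib.Helper3.SchIm
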