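import Groth.Agent.Lib.Helper3.SchImChart
import Groth.Agent.Lib.Helper3.AlgSpLocP3
import Groth.Agent.Lib.Helper3.AlgSpUC3
set_option autoImplicit false
universe u
open CategoryTheory CategoryTheory.Limits AlgebraicGeometry Opposite AlgSp

namespace Groth.Agent.Lib.Helper3.SchIm

variable {S : Scheme.{u}}

/-- The chart of a base change is the base change of the chart. -/
theorem exists_chart_of_base_change {A A' X Y : Sp S} {a : A ⟶ Y} {f : X ⟶ Y} {a₁ : A' ⟶ A}
    {aX : A' ⟶ X} (sq : IsPullback a₁ aX a f) {C U U' : Over S} (c : C ⟶ U)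
    (q : (yon S).obj C ⟶ A) (p : (yon S).obj U ⟶ Y) (sqa : IsPullback q ((yon S).map c) a p)
    (p' : (yon S).obj U' ⟶ X) (φ : U' ⟶ U) (hφ : p' ≫ f = (yon S).map φ ≫ p) :
    ∃ q' : (yon S).obj (pullback c φ) ⟶ A',
      IsPullback q' ((yon S).map (pullback.snd c φ)) aX p' ∧
      q' ≫ a₁ = (yon S).map (pullback.fst c φ) ≫ q := by
  have sq1 : IsPullback ((yon S).map (pullback.fst c φ)) ((yon S).map (pullback.snd c φ))
      ((yon S).map c) ((yon S).map φ) := (IsPullback.of_hasPullback c φ).map (yon S)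
  have big : IsPullback ((yon S).map (pullback.fst c φ) ≫ q) ((yon S).map (pullback.snd c φ)) a
      ((yon S).map φ ≫ p) := sq1.paste_horiz sqa
  rw [← hφ] at big
  have hw : ((yon S).map (pullback.fst c φ) ≫ q) ≫ a =
      ((yon S).map (pullback.snd c φ) ≫ p') ≫ f := by
    rw [Category.assoc ((yon S).map (pullback.snd c φ))]; exact big.w
  refine ⟨sq.lift _ _ hw, IsPullback.of_right ?_ (sq.lift_snd _ _ _) sq, sq.lift_fst _ _ _⟩
  rwa [sq.lift_fst]

/-- The kernel of the projection of a pullback over `S` is the kernel of the projection of the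
underlying pullback of schemes. -/
theorem ker_over_pullback_snd {C U U' : Over S} (c : C ⟶ U) (φ : U' ⟶ U) :
    (pullback.snd c φ).left.ker = (pullback.fst φ.left c.left).ker := by
  have sq1 : IsPullback (pullback.snd c φ).left (pullback.fst c φ).left φ.left c.left :=
    ((IsPullback.of_hasPullback c φ).map (Over.forget S)).flip
  rw [← sq1.isoPullback_hom_fst, Scheme.Hom.ker_comp_of_isIso]

/-- **Flat base change of the scheme theoretic image** of a representable quasi-compact
morphism. -/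
theorem isSchImage_of_flat_base_change {X Y V Z VX ZX : Space S} (f : X ⟶ Y)
    (hf : LocP @Flat f.hom) (g : V ⟶ Y) (hgr : Representable g.hom)
    (hg : IsQuasiCompactMor g.hom) (i : Z ⟶ Y) (hZ : IsSchImage g.hom i.hom)
    (g₁ : VX ⟶ V) (gX : VX ⟶ X) (sqV : IsPullback g₁.hom gX.hom g.hom f.hom)
    (i₁ : ZX ⟶ Z) (iX : ZX ⟶ X) (sqZ : IsPullback i₁.hom iX.hom i.hom f.hom) :
    IsSchImage gX.hom iX.hom := by
  obtain ⟨R, U, s, t, p, hp⟩ := exists_presentation Y
  obtain ⟨Wo, w, fstW, sqw⟩ := hgr p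
  have hwq : QuasiCompact w.left :=
    (Groth.Agent.Lib.Helper3.repWith_quasiCompact_of_isQuasiCompactMor g.hom hgr hg).property
      p fstW w sqw
  obtain ⟨Z₀, i₀, q₀, hZ₀, sqZ₀⟩ := isSchImage_of_chart_quasiCompact g s t p hp fstW w sqw
  obtain ⟨e, he⟩ := isSchImage_unique Z₀.property Z.property hZ₀ hZ
  have sqZc : IsPullback (q₀ ≫ e.hom) ((yon S).map (Over.homMk w.left.ker.subschemeι rfl :
        Over.mk (w.left.ker.subschemeι ≫ U.hom) ⟶ U)) i.hom p := by
    refine IsPullback.of_iso sqZ₀ (Iso.refl _) e (Iso.refl _) (Iso.refl _) ?_ ?_ ?_ ?_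
    · simp
    · simp
    · simpa using he.symm
    · simp
  obtain ⟨U', u, φ, hue, hus, hp'e, hp's, hφ, hcomm⟩ :=
    exists_chart_over X.property Y.property f.hom p hp.etale
  have hp's' := hp's hp.surjective
  have hφflat : Flat φ.left := hf _ p φ hp'e hp.etale hcomm
  obtain ⟨qW', sqW', hqW'⟩ := exists_chart_of_base_change sqV w fstW p sqw _ φ hcomm
  obtain ⟨qC', sqC', hqC'⟩ := exists_chart_of_base_change sqZ _ (q₀ ≫ e.hom) p sqZc _ φ hcomm
  have hi : RepWith @IsClosedImmersion iX.hom := MorphismProperty.of_isPullback sqZ hZ.1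
  obtain ⟨g', hg'⟩ := hZ.2.1
  refine ⟨hi, ⟨sqZ.lift (g₁.hom ≫ g') gX.hom (by rw [Category.assoc, hg']; exact sqV.w),
    sqZ.lift_snd _ _ _⟩, ?_⟩
  rintro Z' i' hZ' hi' ⟨f'', hf''⟩
  obtain ⟨D, d, fstD, sqD⟩ := hi'.1 (u ≫ pullback.fst f.hom p)
  have hd : IsClosedImmersion d.left := hi'.property _ fstD d sqD
  have hmono' : Mono i' := mono_of_closedImmersion _ hi'
  have hw' : (qW' ≫ f'') ≫ i' = (yon S).map (pullback.snd w φ) ≫ (u ≫ pullback.fst f.hom p) := by
    rw [Category.assoc, hf'']; exact sqW'.w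
  obtain ⟨h₁, hh₁⟩ := (yon S).map_surjective (sqD.lift _ _ hw')
  have hh₁d : h₁ ≫ d = pullback.snd w φ := by
    apply (yon S).map_injective
    rw [Functor.map_comp, hh₁]
    exact sqD.lift_snd _ _ hw'
  have hle : d.left.ker ≤ (pullback.snd w φ).left.ker := by
    rw [← hh₁d, Over.comp_left]
    exact Scheme.Hom.le_ker_comp _ _
  have hkerc : (pullback.snd (Over.homMk w.left.ker.subschemeι rfl :
        Over.mk (w.left.ker.subschemeι ≫ U.hom) ⟶ U) φ).left.ker =
      (pullback.snd w φ).left.ker := by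
    rw [ker_over_pullback_snd, ker_over_pullback_snd, ← ker_comap_of_flat w.left φ.left]
    change (pullback.fst φ.left w.left.ker.subschemeι).ker = _
    rw [Scheme.IdealSheafData.ker_fst_of_isClosedImmersion, Scheme.IdealSheafData.ker_subschemeι]
  let m : pullback (Over.homMk w.left.ker.subschemeι rfl :
        Over.mk (w.left.ker.subschemeι ≫ U.hom) ⟶ U) φ ⟶ D :=
    Over.homMk (IsClosedImmersion.lift d.left (pullback.snd (Over.homMk w.left.ker.subschemeι rfl :
        Over.mk (w.left.ker.subschemeι ≫ U.hom) ⟶ U) φ).left (by rw [hkerc]; exact hle)) (by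
      rw [← Over.w d, IsClosedImmersion.lift_fac_assoc, Over.w])
  have hm : m ≫ d = pullback.snd _ φ := by
    ext; exact IsClosedImmersion.lift_fac _ _ _
  have hqC'epi : Epi qC' := epi_of_etale_surjective _
    (MorphismProperty.of_isPullback sqC'.flip hp'e) (MorphismProperty.of_isPullback sqC'.flip hp's')
  obtain ⟨k, -, hk⟩ := exists_lift_of_epi_mono qC' i' ((yon S).map m ≫ fstD) iX.hom (by
    rw [Category.assoc, sqD.w, ← Category.assoc, ← Functor.map_comp, hm, sqC'.w])
  exact ⟨k, hk⟩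

end Groth.Agent.Lib.Helper3.SchIm
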