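import Groth.Agent.Lib.Helper3.SchImFBC
import Groth.Agent.Lib.Helper3.AlgSpQC4
import Groth.Agent.Lib.Helper3.AlgSpLocP4
import Groth.Agent.Lib.Helper3.AlgSpFibre
import Groth.Agent.S9969
import Groth.Agent.S9973
import Groth.Agent.S9906
import Groth.Agent.S9885
import Mathlib.CategoryTheory.Limits.Shapes.KernelPair
set_option autoImplicit false
universe u
open CategoryTheory CategoryTheory.Limits AlgebraicGeometry Opposite AlgSp

namespace Groth.Agent.Lib.Helper3.SchIm

variable {S : Scheme.{u}}

/-- A surjective flat morphism of algebraic spaces locally of finite presentation is an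
epimorphism of sheaves. -/
theorem epi_of_flat_lfp_surjective {X Z : Sp S} (hX : IsAlgSpace X) (hZ : IsAlgSpace Z)
    (g : X ⟶ Z) (hgs : IsSurjectiveMor g) (hgf : LocP @Flat g)
    (hgp : LocP @LocallyOfFinitePresentation g) : Epi g := by
  obtain ⟨U, a, hae, has⟩ := hX.atlas
  have hU := IsAlgSpace.yon_obj (S := S) U
  have hrep : Representable (a ≫ g) := Functor.relativelyRepresentable.of_diag hZ.diag (a ≫ g)
  have haf : LocP @Flat a := locP_of_repWith isEtLocal_flat a
    (MorphismProperty.relative_monotone (fun A B φ hφ => by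
      have : Etale ((Over.forget S).map φ) := hφ
      change Flat ((Over.forget S).map φ)
      infer_instance) _ hae)
  have hap : LocP @LocallyOfFinitePresentation a :=
    locP_of_repWith isEtLocal_locallyOfFinitePresentation a
    (MorphismProperty.relative_monotone (fun A B φ hφ => by
      have : Etale ((Over.forget S).map φ) := hφ
      change LocallyOfFinitePresentation ((Over.forget S).map φ)
      infer_instance) _ hae)
  have h1 : RepWith @Flat (a ≫ g) := repWith_of_locP isEtLocal_flat hU hZ _ hrep
    (locP_comp isEtLocal_flat hU hX hZ a g haf hgf)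
  have h2 : RepWith @LocallyOfFinitePresentation (a ≫ g) :=
    repWith_of_locP isEtLocal_locallyOfFinitePresentation hU hZ _ hrep
      (locP_comp isEtLocal_locallyOfFinitePresentation hU hX hZ a g hap hgp)
  have h3 : RepWith @Surjective (a ≫ g) :=
    (Groth.Agent.S9906.repWith_surjective_iff _ hrep).2
      (isSurjectiveMor_comp (isSurjectiveMor_of_repWith has) hgs)
  have hepi : Epi (a ≫ g) :=
    (Sheaf.isLocallySurjective_iff_epi _).1 (Groth.Agent.S9885.result S _ _ _ h1 h2 h3)
  exact epi_of_epi a g

/-- Descent of a morphism along an epimorphism of sheaves. -/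
theorem exists_desc_of_epi {X Z Y R : Sp S} (g : X ⟶ Z) [Epi g] {a b : R ⟶ X}
    (hk : IsKernelPair g a b) (f : X ⟶ Y) (hf : a ≫ f = b ≫ f) : ∃ h : Z ⟶ Y, g ≫ h = f := by
  have h1 : IsRegularEpi g := IsRegularEpiCategory.regularEpiOfEpi g
  obtain ⟨⟨r⟩⟩ := h1
  have hl : r.left ≫ g = r.right ≫ g := r.w
  have h1 : hk.lift r.left r.right hl ≫ a = r.left := hk.lift_fst _ _ _
  have h2 : hk.lift r.left r.right hl ≫ b = r.right := hk.lift_snd _ _ _
  have hw : r.left ≫ f = r.right ≫ f := by
    calc r.left ≫ f = (hk.lift r.left r.right hl ≫ a) ≫ f := by rw [h1]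
      _ = (hk.lift r.left r.right hl ≫ b) ≫ f := by rw [Category.assoc, hf, Category.assoc]
      _ = r.right ≫ f := by rw [h2]
  exact ⟨Cofork.IsColimit.desc r.isColimit f hw, Cofork.IsColimit.π_desc r.isColimit⟩

end Groth.Agent.Lib.Helper3.SchIm
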