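import Groth.Agent.Lib.Helper3.SchImIdeal0
set_option autoImplicit false
universe u
open CategoryTheory CategoryTheory.Limits AlgebraicGeometry Opposite AlgSp

namespace Groth.Agent.Lib.Helper3.SchIm

variable {S : Scheme.{u}}

/-- The ideal family of the scheme theoretic image of a representable quasi-compact morphism
is the ideal family of the morphism. -/
theorem idealOfRep_eq_of_isSchImage {X Y Z : Space S} (f : X ⟶ Y) (hf : Representable f.hom)
    (hqc : IsQuasiCompactMor f.hom) (i : Z ⟶ Y) (hZ : IsSchImage f.hom i.hom) :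
    idealOfRep hZ.1.1 = idealOfRep hf := by
  apply IdealEt.ext
  funext E hE
  change RingHom.ker (EtOver.bcπ hZ.1.1 E).left.appTop.hom =
    RingHom.ker (EtOver.bcπ hf E).left.appTop.hom
  have : IsAffine E.obj.left.left := hE
  apply ker_appTop_eq_of_ker_eq
  have hflat : LocP @Flat E.obj.hom := by
    refine locP_of_repWith isEtLocal_flat _ (MorphismProperty.relative_monotone ?_ _ E.property)
    intro A B f hf
    have : Etale ((Over.forget S).map f) := hf
    change Flat ((Over.forget S).map f)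
    infer_instance
  let V : Space S := (ofScheme S).obj E.obj.left
  let a : V ⟶ Y := ObjectProperty.homMk E.obj.hom
  let VX : Space S := (ofScheme S).obj (hf.pullback E.obj.hom)
  let ZX : Space S := (ofScheme S).obj (hZ.1.1.pullback E.obj.hom)
  have key := isSchImage_of_flat_base_change' a hflat f hqc i hZ
    (ObjectProperty.homMk (hf.fst E.obj.hom) : VX ⟶ X)
    (ObjectProperty.homMk ((yon S).map (hf.snd E.obj.hom)) : VX ⟶ V)
    (hf.isPullback E.obj.hom)
    (ObjectProperty.homMk (hZ.1.1.fst E.obj.hom) : ZX ⟶ Z)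
    (ObjectProperty.homMk ((yon S).map (hZ.1.1.snd E.obj.hom)) : ZX ⟶ V)
    (hZ.1.1.isPullback E.obj.hom)
  exact ker_eq_of_isSchImage_yon _ _ key

/-- On an affine open of a chart, the kernel of a closed chart of `i` is given by the ideal
family of `i`. -/
theorem ker_comap_ι_eq_of_chart {Z Y : Sp S} (i : Z ⟶ Y) (hi : RepWith @IsClosedImmersion i)
    {C U : Over S} (c : C ⟶ U) (p : (yon S).obj U ⟶ Y)
    {fst : (yon S).obj C ⟶ Z} (sq : IsPullback fst ((yon S).map c) i p) (O : U.left.affineOpens)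
    (hE : RepWith @Etale ((yon S).map (Over.homMk O.1.ι rfl : Over.mk (O.1.ι ≫ U.hom) ⟶ U) ≫ p)) :
    c.left.ker.comap O.1.ι = Scheme.IdealSheafData.ofIdealTop
      ((idealOfRep hi.1).ideal (EtOver.mk _ hE) O.2) := by
  have : IsClosedImmersion c.left := hi.property p fst c sq
  let ιO : Over.mk (O.1.ι ≫ U.hom) ⟶ U := Over.homMk O.1.ι rfl
  have hA : IsAffine (Over.mk (O.1.ι ≫ U.hom)).left := O.2
  rw [← Scheme.IdealSheafData.ker_fst_of_isClosedImmersion]
  have h1 := ker_over_pullback_snd c ιO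
  have sqA : IsPullback ((yon S).map (pullback.fst c ιO) ≫ fst) ((yon S).map (pullback.snd c ιO)) i
      ((yon S).map ιO ≫ p) := ((IsPullback.of_hasPullback c ιO).map (yon S)).paste_horiz sq
  have sqB := hi.1.isPullback ((yon S).map ιO ≫ p)
  have h2 := ker_eq_of_isPullback_same i (pullback.snd c ιO) (hi.1.snd ((yon S).map ιO ≫ p))
    ((yon S).map ιO ≫ p) sqA sqB
  have h3 := Scheme.ker_of_isAffine (hi.1.snd ((yon S).map ιO ≫ p)).left
  exact h1.symm.trans (h2.trans h3)

/-- Closed subspaces of an algebraic space with the same ideal family: a morphism over the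
ambient space. -/
theorem exists_hom_of_idealOfRep_eq {Y Z Z₀ : Sp S} (hY : IsAlgSpace Y) (i : Z ⟶ Y)
    (i₀ : Z₀ ⟶ Y) (hi : RepWith @IsClosedImmersion i) (hi₀ : RepWith @IsClosedImmersion i₀)
    (h : idealOfRep hi.1 = idealOfRep hi₀.1) : ∃ k : Z ⟶ Z₀, k ≫ i₀ = i := by
  obtain ⟨U, p, hpe, hps⟩ := hY.atlas
  have sq := hi.1.isPullback p
  have sq₀ := hi₀.1.isPullback p
  have hc : IsClosedImmersion (hi.1.snd p).left := hi.property_snd p
  have hc₀ : IsClosedImmersion (hi₀.1.snd p).left := hi₀.property_snd p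
  have hker : (hi.1.snd p).left.ker = (hi₀.1.snd p).left.ker := by
    apply idealSheafData_ext_of_comap
    intro O
    have hE : RepWith @Etale ((yon S).map (Over.homMk O.1.ι rfl :
        Over.mk (O.1.ι ≫ U.hom) ⟶ U) ≫ p) :=
      MorphismProperty.comp_mem _ _ _ ((repWith_yon_map_iff _ _).2
        (inferInstanceAs (Etale O.1.ι))) hpe
    rw [ker_comap_ι_eq_of_chart i hi _ p sq O hE, ker_comap_ι_eq_of_chart i₀ hi₀ _ p sq₀ O hE, h]
  let m : hi.1.pullback p ⟶ hi₀.1.pullback p :=
    Over.homMk (IsClosedImmersion.lift (hi₀.1.snd p).left (hi.1.snd p).left hker.ge) (by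
      rw [← Over.w (hi₀.1.snd p), IsClosedImmersion.lift_fac_assoc, Over.w])
  have hm : m ≫ hi₀.1.snd p = hi.1.snd p := by
    ext
    exact IsClosedImmersion.lift_fac _ _ _
  have hepi : Epi (hi.1.fst p) := epi_of_etale_surjective _
    (MorphismProperty.of_isPullback sq.flip hpe) (MorphismProperty.of_isPullback sq.flip hps)
  have : Mono i₀ := mono_of_closedImmersion _ hi₀
  obtain ⟨k, -, hk⟩ := exists_lift_of_epi_mono (hi.1.fst p) i₀ ((yon S).map m ≫ hi₀.1.fst p) i (by
    rw [Category.assoc, sq₀.w, ← Category.assoc, ← Functor.map_comp, hm, sq.w])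
  exact ⟨k, hk⟩

/-- Closed subspaces of an algebraic space with the same ideal family are isomorphic over the
ambient space. -/
theorem exists_iso_of_idealOfRep_eq {Y Z Z₀ : Sp S} (hY : IsAlgSpace Y) (i : Z ⟶ Y)
    (i₀ : Z₀ ⟶ Y) (hi : RepWith @IsClosedImmersion i) (hi₀ : RepWith @IsClosedImmersion i₀)
    (h : idealOfRep hi.1 = idealOfRep hi₀.1) : ∃ e : Z ≅ Z₀, e.hom ≫ i₀ = i := by
  obtain ⟨k, hk⟩ := exists_hom_of_idealOfRep_eq hY i i₀ hi hi₀ h
  obtain ⟨k', hk'⟩ := exists_hom_of_idealOfRep_eq hY i₀ i hi₀ hi h.symm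
  have : Mono i₀ := mono_of_closedImmersion _ hi₀
  have : Mono i := mono_of_closedImmersion _ hi
  refine ⟨⟨k, k', ?_, ?_⟩, hk⟩
  · rw [← cancel_mono i, Category.assoc, hk', hk, Category.id_comp]
  · rw [← cancel_mono i₀, Category.assoc, hk, hk', Category.id_comp]

/-- A representable quasi-compact morphism: the scheme theoretic image is the closed subspace
cut out by the ideal family of the morphism. -/
theorem isSchImage_iff_isCutOutBy {X Y Z : Space S} (f : X ⟶ Y) (hf : Representable f.hom)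
    (hqc : IsQuasiCompactMor f.hom) (i : Z ⟶ Y) :
    IsSchImage f.hom i.hom ↔ IsCutOutBy (idealOfRep hf) i.hom := by
  constructor
  · intro hZ
    exact ⟨hZ.1, idealOfRep_eq_of_isSchImage f hf hqc i hZ⟩
  · rintro ⟨hi, hI⟩
    obtain ⟨Z₀, i₀, h₀⟩ := exists_isSchImage f
    have hI₀ := idealOfRep_eq_of_isSchImage f hf hqc i₀ h₀
    obtain ⟨e, he⟩ := exists_iso_of_idealOfRep_eq Y.property i.hom i₀.hom hi h₀.1 (hI.trans hI₀.symm)
    obtain ⟨f₀, hf₀⟩ := h₀.2.1
    refine ⟨hi, ⟨f₀ ≫ e.inv, ?_⟩, ?_⟩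
    · rw [← he, Category.assoc, Iso.inv_hom_id_assoc, hf₀]
    · intro Z' i' hZ' hi' hfac
      obtain ⟨k, hk⟩ := h₀.2.2 i' hZ' hi' hfac
      exact ⟨e.hom ≫ k, by rw [Category.assoc, hk, he]⟩


end Groth.Agent.Lib.Helper3.SchIm
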