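import Groth.Agent.Lib.Helper3.SchImGen0
import Groth.Agent.Lib.Helper3.SchImIdeal1
import Groth.Agent.Lib.Helper3.AlgSpUC3
set_option autoImplicit false
universe u
open CategoryTheory CategoryTheory.Limits AlgebraicGeometry Opposite AlgSp

namespace Groth.Agent.Lib.Helper3.SchIm

variable {S : Scheme.{u}}


/-- Chart description of the scheme theoretic image of a quasi-compact morphism: on a flat chart
of the target, the closed chart of the image has the kernel of the chart of the morphism. -/
theorem ker_eq_of_isSchImage_chart {X Y Z : Space S} (f : X ⟶ Y) (hqc : IsQuasiCompactMor f.hom)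
    (i : Z ⟶ Y) (hZ : IsSchImage f.hom i.hom) {U W C : Over S} (p : (yon S).obj U ⟶ Y.obj)
    (hp : LocP @Flat p) {e : (yon S).obj W ⟶ X.obj} {h : W ⟶ U}
    (sqW : IsPullback e ((yon S).map h) f.hom p) {q : (yon S).obj C ⟶ Z.obj} {c : C ⟶ U}
    (sqC : IsPullback q ((yon S).map c) i.hom p) : c.left.ker = h.left.ker := by
  let V : Space S := (ofScheme S).obj U
  let a : V ⟶ Y := ObjectProperty.homMk p
  let VX : Space S := (ofScheme S).obj W
  let ZX : Space S := (ofScheme S).obj C
  have key := isSchImage_of_flat_base_change' a hp f hqc i hZ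
    (ObjectProperty.homMk e : VX ⟶ X)
    (ObjectProperty.homMk ((yon S).map h) : VX ⟶ V) sqW
    (ObjectProperty.homMk q : ZX ⟶ Z)
    (ObjectProperty.homMk ((yon S).map c) : ZX ⟶ V) sqC
  exact ker_eq_of_isSchImage_yon _ _ key



theorem hom_yon_terminal_ext {F : Sp S} (a b : F ⟶ (yon S).obj (Over.mk (𝟙 S))) : a = b := by
  apply Sheaf.hom_ext
  ext T x
  apply ULift.ext
  exact Over.mkIdTerminal.hom_ext _ _

/-- Chart computation: a closed subspace flat over the base whose generic fibre is `H`. -/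
theorem ker_eq_of_flat_of_isPullback_genPt (R : Type u) [CommRing R] [IsDomain R]
    {Y YK H Z' : Space (Spec (CommRingCat.of R))}
    (pY : Y.obj ⟶ (yon (Spec (CommRingCat.of R))).obj (Over.mk (𝟙 (Spec (CommRingCat.of R)))))
    (pr : YK ⟶ Y)
    (qK : YK.obj ⟶ (yon (Spec (CommRingCat.of R))).obj (Over.mk (Neron.genPt R)))
    (hYK : IsPullback pr.hom qK pY ((yon (Spec (CommRingCat.of R))).map
      (Over.mkIdTerminal.from (Over.mk (Neron.genPt R)))))
    (k : H ⟶ YK) (i' : Z' ⟶ Y) (m' : H ⟶ Z') (hfl : LocP @Flat (i'.hom ≫ pY))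
    (sq : IsPullback m'.hom k.hom i'.hom pr.hom) {U W C : Over (Spec (CommRingCat.of R))}
    (p : (yon _).obj U ⟶ Y.obj) (hpe : RepWith @Etale p) {e : (yon _).obj W ⟶ H.obj} {h : W ⟶ U}
    (sqW : IsPullback e ((yon _).map h) (k.hom ≫ pr.hom) p) {q : (yon _).obj C ⟶ Z'.obj}
    {c : C ⟶ U} (sqC : IsPullback q ((yon _).map c) i'.hom p) : c.left.ker = h.left.ker := by
  have hw : (e ≫ m'.hom) ≫ i'.hom = (yon _).map h ≫ p := by
    rw [Category.assoc, sq.w]; exact sqW.w
  obtain ⟨μ, hμ⟩ := (yon _).map_surjective (sqC.lift (e ≫ m'.hom) ((yon _).map h) hw)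
  have hμc : μ ≫ c = h := by
    apply (yon _).map_injective
    rw [Functor.map_comp, hμ, sqC.lift_snd]
  have hμq : (yon _).map μ ≫ q = e ≫ m'.hom := by rw [hμ, sqC.lift_fst]
  have sqTop : IsPullback e ((yon _).map μ) m'.hom q := by
    refine IsPullback.of_bot ?_ hμq.symm sqC
    rw [← Functor.map_comp, hμc, sq.w]
    exact sqW
  have sqH := sq.flip.paste_horiz hYK.flip
  have sqBig := sqTop.paste_horiz sqH
  obtain ⟨ν, hν⟩ := (yon _).map_surjective (e ≫ k.hom ≫ qK)
  let τ : C ⟶ Over.mk (𝟙 (Spec (CommRingCat.of R))) := Over.homMk C.hom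
  have hτ : (yon _).map τ = q ≫ i'.hom ≫ pY := hom_yon_terminal_ext _ _
  rw [← hν, ← hτ] at sqBig
  have sqO := IsPullback.of_map (yon _) ((yon _).map_injective (by
    simp only [Functor.map_comp]; exact sqBig.w)) sqBig
  have hqe : RepWith @Etale q := MorphismProperty.of_isPullback sqC.flip hpe
  have hflatC : Flat C.hom := hfl q (𝟙 _) τ hqe (repWith_id _ _) (by
    rw [Category.comp_id]; exact hτ.symm)
  have hj : (Over.mkIdTerminal.from (Over.mk (Neron.genPt R))).left = Neron.genPt R := by
    have := Over.w (Over.mkIdTerminal.from (Over.mk (Neron.genPt R)))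
    exact (Category.comp_id _).symm.trans this
  have sqS : IsPullback ν.left μ.left (Neron.genPt R) C.hom := by
    have := sqO.map (Over.forget _)
    exact (congrArg (fun x => IsPullback ν.left μ.left x C.hom) hj).mp this
  have h1 := isSchemeTheoreticallyDominant_genPt R
  have h2 : QuasiCompact (Neron.genPt R) := by
    delta Neron.genPt
    infer_instance
  have hdom : IsSchemeTheoreticallyDominant μ.left :=
    IsSchemeTheoreticallyDominant.of_isPullback sqS
  rw [← hμc, Over.comp_left, ker_comp_of_isSchemeTheoreticallyDominant]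



/-- The scheme theoretic image in an algebraic space over a Dedekind domain of a quasi-compact
representable morphism from a space over the fraction field is flat over the base. -/
theorem locP_flat_of_isSchImage_of_genPt (R : Type u) [CommRing R] [IsDedekindDomain R]
    {H Y Z : Space (Spec (CommRingCat.of R))} (g : H ⟶ Y) (hgrep : Representable g.hom)
    (hgqc : IsQuasiCompactMor g.hom)
    (qH : H.obj ⟶ (yon (Spec (CommRingCat.of R))).obj (Over.mk (Neron.genPt R)))
    (i : Z ⟶ Y) (hZ : IsSchImage g.hom i.hom)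
    (pY : Y.obj ⟶ (yon (Spec (CommRingCat.of R))).obj
      (Over.mk (𝟙 (Spec (CommRingCat.of R))))) :
    LocP @Flat (i.hom ≫ pY) := by
  obtain ⟨U, p, hpe, hps⟩ := Y.property.atlas
  have hpf : LocP @Flat p := locP_of_repWith isEtLocal_flat p
    (MorphismProperty.relative_monotone (fun A B φ hφ => by
      have : Etale ((Over.forget _).map φ) := hφ
      change Flat ((Over.forget _).map φ)
      infer_instance) _ hpe)
  have sqC := hZ.1.1.isPullback p
  have sqW := hgrep.isPullback p
  have hker := ker_eq_of_isSchImage_chart g hgqc i hZ p hpf sqW sqC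
  have hcl : IsClosedImmersion (hZ.1.1.snd p).left := hZ.1.property_snd p
  have hgq : RepWith @QuasiCompact g.hom := repWith_quasiCompact_of_isQuasiCompactMor g.hom hgrep hgqc
  have hqc : QuasiCompact (hgrep.snd p).left := hgq.property _ _ _ sqW
  obtain ⟨m, hm⟩ := hZ.2.1
  obtain ⟨μ, hμ⟩ := (yon _).map_surjective (sqC.lift (hgrep.fst p ≫ m) ((yon _).map (hgrep.snd p))
    (by rw [Category.assoc, hm]; exact sqW.w))
  have hμc : μ ≫ hZ.1.1.snd p = hgrep.snd p := by
    apply (yon _).map_injective
    rw [Functor.map_comp, hμ, sqC.lift_snd]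
  have hμl : μ.left ≫ (hZ.1.1.snd p).left = (hgrep.snd p).left := by
    rw [← Over.comp_left, hμc]
  have hdom : IsSchemeTheoreticallyDominant μ.left :=
    isSchemeTheoreticallyDominant_of_ker_eq _ _ μ.left hμl hker
  have hqμ : QuasiCompact μ.left := by
    have : QuasiCompact (μ.left ≫ (hZ.1.1.snd p).left) := by rw [hμl]; exact hqc
    exact QuasiCompact.of_comp μ.left (hZ.1.1.snd p).left
  obtain ⟨ν, hν⟩ := (yon _).map_surjective (hgrep.fst p ≫ qH)
  have hflat : Flat (hZ.1.1.pullback p).hom := by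
    refine flat_of_dominant_of_genPt R _ μ.left ν.left ?_
    rw [Over.w μ]
    exact Over.w ν
  have hqe : RepWith @Etale (hZ.1.1.fst p) := MorphismProperty.of_isPullback sqC.flip hpe
  have hqs : RepWith @Surjective (hZ.1.1.fst p) := MorphismProperty.of_isPullback sqC.flip hps
  refine locP_of_chart isEtLocal_flat (i.hom ≫ pY) (hZ.1.1.fst p) hqe hqs (𝟙 _)
    (repWith_id _ _) (Over.homMk (hZ.1.1.pullback p).hom) (hom_yon_terminal_ext _ _) ?_
  exact hflat



theorem isSchImage_self {H Y : Sp S} (k : H ⟶ Y) (hk : RepWith @IsClosedImmersion k) :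
    IsSchImage k k :=
  ⟨hk, ⟨𝟙 _, Category.id_comp _⟩, fun _ _ _ _ h => h⟩

/-- The scheme theoretic image of a closed subspace of the source of a flat monomorphism
`pr : YK ⟶ Y` pulls back to the closed subspace. -/
theorem exists_isPullback_of_isSchImage_of_mono_flat {Y YK H Z : Space S} (pr : YK ⟶ Y)
    (hmono : Mono pr.hom) (hflat : LocP @Flat pr.hom) (k : H ⟶ YK)
    (hk : RepWith @IsClosedImmersion k.hom) (hqc : IsQuasiCompactMor (k.hom ≫ pr.hom))
    (i : Z ⟶ Y) (hZ : IsSchImage (k.hom ≫ pr.hom) i.hom) :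
    ∃ m : H ⟶ Z, m ≫ i = k ≫ pr ∧ IsPullback m.hom k.hom i.hom pr.hom := by
  have sqZ := IsPullback.of_hasPullback i.hom pr.hom
  have hP : IsAlgSpace (pullback i.hom pr.hom) :=
    isAlgSpace_of_isPullback' Y.property Z.property YK.property sqZ
  let ZX : Space S := ⟨pullback i.hom pr.hom, hP⟩
  let i₁ : ZX ⟶ Z := ObjectProperty.homMk (pullback.fst i.hom pr.hom)
  let iX : ZX ⟶ YK := ObjectProperty.homMk (pullback.snd i.hom pr.hom)
  have sqV : IsPullback (𝟙 H : H ⟶ H).hom k.hom (k ≫ pr).hom pr.hom := by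
    refine IsPullback.of_isLimit' ⟨by simp⟩ ?_
    refine PullbackCone.IsLimit.mk _ (fun s => s.fst) (fun s => by simp) (fun s => ?_)
      (fun s m h1 _ => by simpa using h1)
    rw [← cancel_mono pr.hom, Category.assoc]
    exact s.condition
  have key : IsSchImage k.hom iX.hom :=
    isSchImage_of_flat_base_change' pr hflat (k ≫ pr) hqc i hZ (𝟙 H) k sqV i₁ iX sqZ
  obtain ⟨e, he⟩ := isSchImage_unique H.property hP (isSchImage_self k.hom hk) key
  have he' : e.hom ≫ pullback.snd i.hom pr.hom = k.hom := he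
  refine ⟨ObjectProperty.homMk (e.hom ≫ pullback.fst i.hom pr.hom), ?_, ?_⟩
  · apply ObjectProperty.hom_ext
    change (e.hom ≫ pullback.fst i.hom pr.hom) ≫ i.hom = k.hom ≫ pr.hom
    rw [Category.assoc, pullback.condition, ← Category.assoc, he']
  · refine IsPullback.of_iso_pullback ⟨?_⟩ e rfl he'
    change (e.hom ≫ pullback.fst i.hom pr.hom) ≫ i.hom = k.hom ≫ pr.hom
    rw [Category.assoc, pullback.condition, ← Category.assoc, he']

end Groth.Agent.Lib.Helper3.SchIm
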