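import Groth.Agent.Lib.Helper3.SchImGen1
import Groth.Agent.S9928
set_option autoImplicit false
universe u
open CategoryTheory CategoryTheory.Limits AlgebraicGeometry Opposite AlgSp

namespace Groth.Agent.Lib.Helper3.SchIm

theorem schImage_of_closed_sub_genericFibre (R : Type u) [CommRing R] [IsDedekindDomain R]
    (Y YK H Z : AlgSp.Space (Spec (CommRingCat.of R)))
    (pY : Y.obj ⟶ (AlgSp.yon (Spec (CommRingCat.of R))).obj (Over.mk (𝟙 (Spec (CommRingCat.of R)))))
    (pr : YK ⟶ Y) (qK : YK.obj ⟶ (AlgSp.yon (Spec (CommRingCat.of R))).obj (Over.mk (Neron.genPt R)))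
    (hYK : IsPullback pr.hom qK pY ((AlgSp.yon (Spec (CommRingCat.of R))).map (Over.mkIdTerminal.from (Over.mk (Neron.genPt R)))))
    (k : H ⟶ YK) (hk : AlgSp.RepWith @IsClosedImmersion k.hom)
    (i : Z ⟶ Y) (hZ : AlgSp.IsSchImage (k.hom ≫ pr.hom) i.hom) :
    AlgSp.LocP @Flat (i.hom ≫ pY) ∧
    (∃ m : H ⟶ Z, m ≫ i = k ≫ pr ∧ IsPullback m.hom k.hom i.hom pr.hom) ∧
    (∀ (Z' : AlgSp.Space (Spec (CommRingCat.of R))) (i' : Z' ⟶ Y) (m' : H ⟶ Z'),
      AlgSp.RepWith @IsClosedImmersion i'.hom → AlgSp.LocP @Flat (i'.hom ≫ pY) →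
      IsPullback m'.hom k.hom i'.hom pr.hom → ∃ e : Z ≅ Z', e.hom ≫ i' = i) := by
  have hjl : (Over.mkIdTerminal.from (Over.mk (Neron.genPt R))).left = Neron.genPt R := by
    have := Over.w (Over.mkIdTerminal.from (Over.mk (Neron.genPt R)))
    exact (Category.comp_id _).symm.trans this
  have hprP : ∀ (P : MorphismProperty Scheme.{u}) [P.IsStableUnderBaseChange],
      P (Neron.genPt R) → RepWith P pr.hom := by
    intro P _ hP
    refine MorphismProperty.of_isPullback hYK.flip ((repWith_yon_map_iff P _).2 ?_)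
    rw [hjl]; exact hP
  have hprflat : LocP @Flat pr.hom :=
    locP_of_repWith isEtLocal_flat _ (hprP @Flat (flat_genPt R))
  have hprqc : RepWith @QuasiCompact pr.hom := hprP @QuasiCompact (by
    delta Neron.genPt; infer_instance)
  have hprmono : Mono pr.hom :=
    Groth.Agent.S9928.mono_of_repWith (MorphismProperty.monomorphisms Scheme.{u})
      (fun g hg => hg) pr.hom (hprP _ (mono_genPt R))
  have hkqc : RepWith @QuasiCompact k.hom :=
    MorphismProperty.relative_monotone (fun A B φ hφ => by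
      have : IsClosedImmersion ((Over.forget _).map φ) := hφ
      change QuasiCompact ((Over.forget _).map φ)
      infer_instance) _ hk
  have hgq : RepWith @QuasiCompact (k.hom ≫ pr.hom) :=
    (RepWith @QuasiCompact).comp_mem _ _ hkqc hprqc
  have hgrep : Representable (k ≫ pr).hom := hgq.1
  have hgqc : IsQuasiCompactMor (k ≫ pr).hom := isQuasiCompactMor_of_repWith_quasiCompact _ hgq
  refine ⟨locP_flat_of_isSchImage_of_genPt R (k ≫ pr) hgrep hgqc (k.hom ≫ qK) i hZ pY,
    exists_isPullback_of_isSchImage_of_mono_flat pr hprmono hprflat k hk hgqc i hZ, ?_⟩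
  intro Z' i' m' hi' hfl sq
  have h' : IsSchImage (k ≫ pr).hom i'.hom := by
    refine (isSchImage_iff_isCutOutBy (k ≫ pr) hgrep hgqc i').2 ⟨hi', ?_⟩
    apply IdealEt.ext
    funext E hE
    change RingHom.ker (EtOver.bcπ hi'.1 E).left.appTop.hom =
      RingHom.ker (EtOver.bcπ hgrep E).left.appTop.hom
    have : IsAffine E.obj.left.left := hE
    apply ker_appTop_eq_of_ker_eq
    exact ker_eq_of_flat_of_isPullback_genPt R pY pr qK hYK k i' m' hfl sq E.obj.hom E.property
      (hgrep.isPullback E.obj.hom) (hi'.1.isPullback E.obj.hom)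
  obtain ⟨e, he⟩ := isSchImage_unique Z.property Z'.property hZ h'
  refine ⟨ObjectProperty.isoMk _ e, ?_⟩
  apply ObjectProperty.hom_ext
  exact he

end Groth.Agent.Lib.Helper3.SchIm
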