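import Groth.Agent.Lib.Helper3.SchImGrp0
set_option autoImplicit false
universe u
open CategoryTheory CategoryTheory.Limits AlgebraicGeometry Opposite
open MonoidalCategory CartesianMonoidalCategory MonObj GrpObj

namespace Groth.Agent.Lib.Helper3.SchIm

theorem tensor_compat {S S' : Scheme.{u}} (t : S' ⟶ S) (G H : Over S) (HK : Over S')
    (i : HK ⟶ (Over.pullback t).obj G) (j : H ⟶ G)
    (φ' : Over.mk (HK.hom ≫ t) ⟶ H) (hφ : φ'.left ≫ j.left = i.left ≫ pullback.fst G.hom t) :
    (i ⊗ₘ i).left ≫ (Functor.LaxMonoidal.μ (Over.pullback t) G G).left ≫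
        pullback.fst (G ⊗ G).hom t =
      pullback.mapDesc HK.hom HK.hom t ≫ (φ' ⊗ₘ φ').left ≫ (j ⊗ₘ j).left := by
  have e1 : (i ⊗ₘ i).left ≫ pullback.fst ((Over.pullback t).obj G).hom ((Over.pullback t).obj G).hom =
      pullback.fst HK.hom HK.hom ≫ i.left := Over.tensorHom_left_fst _ _ i i
  have e1' : (i ⊗ₘ i).left ≫ pullback.snd ((Over.pullback t).obj G).hom ((Over.pullback t).obj G).hom =
      pullback.snd HK.hom HK.hom ≫ i.left := Over.tensorHom_left_snd _ _ i i
  have e2 := Over.μ_pullback_left_fst_fst (f := t) G G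
  have e2' := Over.μ_pullback_left_fst_snd (f := t) G G
  have e3 : (j ⊗ₘ j).left ≫ pullback.fst G.hom G.hom = pullback.fst H.hom H.hom ≫ j.left :=
    Over.tensorHom_left_fst _ _ j j
  have e3' : (j ⊗ₘ j).left ≫ pullback.snd G.hom G.hom = pullback.snd H.hom H.hom ≫ j.left :=
    Over.tensorHom_left_snd _ _ j j
  have e4 : (φ' ⊗ₘ φ').left ≫ pullback.fst H.hom H.hom =
      pullback.fst (HK.hom ≫ t) (HK.hom ≫ t) ≫ φ'.left := Over.tensorHom_left_fst _ _ φ' φ'
  have e4' : (φ' ⊗ₘ φ').left ≫ pullback.snd H.hom H.hom =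
      pullback.snd (HK.hom ≫ t) (HK.hom ≫ t) ≫ φ'.left := Over.tensorHom_left_snd _ _ φ' φ'
  have e5 : pullback.mapDesc HK.hom HK.hom t ≫ pullback.fst (HK.hom ≫ t) (HK.hom ≫ t) =
      pullback.fst HK.hom HK.hom := (pullback.lift_fst _ _ _).trans (Category.comp_id _)
  have e5' : pullback.mapDesc HK.hom HK.hom t ≫ pullback.snd (HK.hom ≫ t) (HK.hom ≫ t) =
      pullback.snd HK.hom HK.hom := (pullback.lift_snd _ _ _).trans (Category.comp_id _)
  apply pullback.hom_ext
  · calc ((i ⊗ₘ i).left ≫ (Functor.LaxMonoidal.μ (Over.pullback t) G G).left ≫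
          pullback.fst (G ⊗ G).hom t) ≫ pullback.fst G.hom G.hom
        = (i ⊗ₘ i).left ≫ ((Functor.LaxMonoidal.μ (Over.pullback t) G G).left ≫
          pullback.fst (G ⊗ G).hom t ≫ pullback.fst G.hom G.hom) := by
          simp only [Category.assoc]
      _ = ((i ⊗ₘ i).left ≫ pullback.fst _ _) ≫ pullback.fst G.hom t := by
          rw [e2, Category.assoc]
      _ = pullback.fst HK.hom HK.hom ≫ i.left ≫ pullback.fst G.hom t := by
          rw [e1, Category.assoc]
      _ = pullback.fst HK.hom HK.hom ≫ φ'.left ≫ j.left := by rw [hφ]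
      _ = (pullback.mapDesc HK.hom HK.hom t ≫ pullback.fst (HK.hom ≫ t) (HK.hom ≫ t)) ≫
          φ'.left ≫ j.left := by rw [e5]
      _ = pullback.mapDesc HK.hom HK.hom t ≫ ((φ' ⊗ₘ φ').left ≫ pullback.fst H.hom H.hom) ≫
          j.left := by rw [e4]; simp only [Category.assoc]
      _ = pullback.mapDesc HK.hom HK.hom t ≫ (φ' ⊗ₘ φ').left ≫
          ((j ⊗ₘ j).left ≫ pullback.fst G.hom G.hom) := by rw [e3]; simp only [Category.assoc]
      _ = _ := by simp only [Category.assoc]
  · calc ((i ⊗ₘ i).left ≫ (Functor.LaxMonoidal.μ (Over.pullback t) G G).left ≫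
          pullback.fst (G ⊗ G).hom t) ≫ pullback.snd G.hom G.hom
        = (i ⊗ₘ i).left ≫ ((Functor.LaxMonoidal.μ (Over.pullback t) G G).left ≫
          pullback.fst (G ⊗ G).hom t ≫ pullback.snd G.hom G.hom) := by
          simp only [Category.assoc]
      _ = ((i ⊗ₘ i).left ≫ pullback.snd _ _) ≫ pullback.fst G.hom t := by
          rw [e2', Category.assoc]
      _ = pullback.snd HK.hom HK.hom ≫ i.left ≫ pullback.fst G.hom t := by
          rw [e1', Category.assoc]
      _ = pullback.snd HK.hom HK.hom ≫ φ'.left ≫ j.left := by rw [hφ]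
      _ = (pullback.mapDesc HK.hom HK.hom t ≫ pullback.snd (HK.hom ≫ t) (HK.hom ≫ t)) ≫
          φ'.left ≫ j.left := by rw [e5']
      _ = pullback.mapDesc HK.hom HK.hom t ≫ ((φ' ⊗ₘ φ').left ≫ pullback.snd H.hom H.hom) ≫
          j.left := by rw [e4']; simp only [Category.assoc]
      _ = pullback.mapDesc HK.hom HK.hom t ≫ (φ' ⊗ₘ φ').left ≫
          ((j ⊗ₘ j).left ≫ pullback.snd G.hom G.hom) := by rw [e3']; simp only [Category.assoc]
      _ = _ := by simp only [Category.assoc]


theorem exists_flat_closedSubgroup (R : Type u) [CommRing R] [IsDedekindDomain R]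
    (G : Over (Spec (CommRingCat.of R))) [GrpObj G]
    (HK : Over (Spec (CommRingCat.of (FractionRing R)))) [GrpObj HK]
    (i : HK ⟶ Red.bc (Neron.genPt R) G) [IsMonHom i] [IsClosedImmersion i.left] :
    ∃ (H : Over (Spec (CommRingCat.of R))) (_ : GrpObj H) (j : H ⟶ G) (φ : HK.left ⟶ H.left),
      IsMonHom j ∧ IsClosedImmersion j.left ∧ Flat H.hom ∧
      IsPullback φ HK.hom H.hom (Neron.genPt R) ∧
      φ ≫ j.left = i.left ≫ pullback.fst G.hom (Neron.genPt R) ∧
      φ.ker = ⊥ := by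
  have hmono := mono_genPt R
  have hfl := flat_genPt R
  have hdomt := isSchemeTheoreticallyDominant_genPt R
  have hqct : QuasiCompact (Neron.genPt R) := by delta Neron.genPt; infer_instance
  let f : HK.left ⟶ G.left := i.left ≫ pullback.fst G.hom (Neron.genPt R)
  have hιq : i.left ≫ pullback.snd G.hom (Neron.genPt R) = HK.hom := Over.w i
  have hfqc : QuasiCompact f := inferInstance
  let H : Over (Spec (CommRingCat.of R)) := Over.mk (f.imageι ≫ G.hom)
  let j : H ⟶ G := Over.homMk f.imageι rfl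
  have hjc : IsClosedImmersion j.left := inferInstanceAs (IsClosedImmersion f.imageι)
  have hφd : IsSchemeTheoreticallyDominant f.toImage :=
    ImmDesc.isSchemeTheoreticallyDominant_toImage f
  have hφq : QuasiCompact f.toImage := inferInstance
  have hφj : f.toImage ≫ f.imageι = f := f.toImage_imageι
  have hw : HK.hom ≫ Neron.genPt R = f.toImage ≫ H.hom := by
    change _ = f.toImage ≫ f.imageι ≫ G.hom
    rw [← Category.assoc, hφj, Category.assoc, pullback.condition, ← Category.assoc, hιq]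
  have hflat : Flat H.hom := flat_of_dominant_of_genPt R H.hom f.toImage HK.hom hw
  have hpb : IsPullback f.toImage HK.hom H.hom (Neron.genPt R) :=
    isPullback_toImage_of_closedImmersion (Neron.genPt R) G.hom HK.hom i.left hιq f.imageι
      f.toImage hφj
  have hker : j.left.ker = f.ker := Scheme.IdealSheafData.ker_subschemeι _
  let HK' : Over (Spec (CommRingCat.of R)) := Over.mk (HK.hom ≫ Neron.genPt R)
  let φ' : HK' ⟶ H := Over.homMk f.toImage hw.symm
  have hflatHK : Flat HK.hom := inferInstance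
  have hflatHK' : Flat HK'.hom := inferInstanceAs (Flat (HK.hom ≫ Neron.genPt R))
  -- unit
  obtain ⟨e, he⟩ := exists_over_lift j η[G] (by
    rw [hker]
    have h1 : (η[HK]).left ≫ f = Neron.genPt R ≫ (η[G]).left := by
      change (η[HK]).left ≫ i.left ≫ _ = _
      rw [← Category.assoc, ← Over.comp_left, IsMonHom.one_hom]
      exact bc_one_left_fst (Neron.genPt R) G
    calc f.ker ≤ ((η[HK]).left ≫ f).ker := Scheme.Hom.le_ker_comp _ _
      _ = (Neron.genPt R ≫ (η[G]).left).ker := by rw [h1]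
      _ = (η[G]).left.ker := ker_comp_of_isSchemeTheoreticallyDominant _ _)
  -- inverse
  obtain ⟨v, hv⟩ := exists_over_lift j (j ≫ ι[G]) (by
    rw [hker]
    have h1 : (ι[HK]).left ≫ f = f.toImage ≫ (j ≫ ι[G]).left := by
      change (ι[HK]).left ≫ i.left ≫ _ = f.toImage ≫ f.imageι ≫ (ι[G]).left
      rw [← Category.assoc f.toImage, hφj]
      change _ = (i.left ≫ _) ≫ _
      rw [← Category.assoc, ← Over.comp_left, GrpObj.inv_hom, Over.comp_left, Category.assoc,
        bc_inv_left_fst, Category.assoc]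
    calc f.ker ≤ ((ι[HK]).left ≫ f).ker := Scheme.Hom.le_ker_comp _ _
      _ = (f.toImage ≫ (j ≫ ι[G]).left).ker := by rw [h1]
      _ = (j ≫ ι[G]).left.ker := ker_comp_of_isSchemeTheoreticallyDominant _ _)
  -- multiplication
  obtain ⟨m, hm⟩ := exists_over_lift j ((j ⊗ₘ j) ≫ μ[G]) (by
    rw [hker]
    have : QuasiCompact φ'.left := hφq
    have : IsSchemeTheoreticallyDominant φ'.left := hφd
    have hdom2 : IsSchemeTheoreticallyDominant (φ' ⊗ₘ φ').left :=
      isSchemeTheoreticallyDominant_tensorHom φ'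
    let c : (HK ⊗ HK).left ⟶ (HK' ⊗ HK').left := pullback.mapDesc HK.hom HK.hom (Neron.genPt R)
    have hc : IsIso c := isIso_mapDesc_of_mono HK.hom HK.hom (Neron.genPt R)
    have hcf : c ≫ pullback.fst HK'.hom HK'.hom = pullback.fst HK.hom HK.hom := by
      exact (pullback.lift_fst _ _ _).trans (Category.comp_id _)
    have hcs : c ≫ pullback.snd HK'.hom HK'.hom = pullback.snd HK.hom HK.hom := by
      exact (pullback.lift_snd _ _ _).trans (Category.comp_id _)
    have key : (i ⊗ₘ i).left ≫ (Functor.LaxMonoidal.μ (Over.pullback (Neron.genPt R)) G G).left ≫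
        pullback.fst (G ⊗ G).hom (Neron.genPt R) = c ≫ (φ' ⊗ₘ φ').left ≫ (j ⊗ₘ j).left :=
      tensor_compat (Neron.genPt R) G H HK i j φ' hφj
    have h1 : (μ[HK]).left ≫ f = c ≫ (φ' ⊗ₘ φ').left ≫ ((j ⊗ₘ j) ≫ μ[G]).left := by
      change (μ[HK]).left ≫ i.left ≫ _ = _
      rw [← Category.assoc, ← Over.comp_left, IsMonHom.mul_hom, Over.comp_left, Category.assoc,
        bc_mul_left_fst, Over.comp_left, ← Category.assoc, ← Category.assoc, ← Category.assoc,
        ← Category.assoc]
      congr 1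
    calc f.ker ≤ ((μ[HK]).left ≫ f).ker := Scheme.Hom.le_ker_comp _ _
      _ = (c ≫ (φ' ⊗ₘ φ').left ≫ ((j ⊗ₘ j) ≫ μ[G]).left).ker := by rw [h1]
      _ = ((φ' ⊗ₘ φ').left ≫ ((j ⊗ₘ j) ≫ μ[G]).left).ker :=
        ker_comp_of_isSchemeTheoreticallyDominant _ _
      _ = ((j ⊗ₘ j) ≫ μ[G]).left.ker := ker_comp_of_isSchemeTheoreticallyDominant _ _)
  have hjm : Mono j := by
    have : Mono j.left := inferInstance
    exact Over.mono_of_mono_left j
  obtain ⟨inst, hmon⟩ := SubGrp.exists_grpObj_of_mono j e he m hm v hv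
  exact ⟨H, inst, j, f.toImage, hmon, hjc, hflat, hpb, hφj, hφd.ker_eq_bot⟩

end Groth.Agent.Lib.Helper3.SchIm
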