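import Groth.Agent.Lib.Helper3.SchImQC4
import Groth.Prelude.Def_AlgSpModX
set_option autoImplicit false
universe u
open CategoryTheory CategoryTheory.Limits AlgebraicGeometry Opposite AlgSp

namespace Groth.Agent.Lib.Helper3.SchIm

/-- The value at the top affine open of the ideal sheaf of an ideal of global sections. -/
theorem ofIdealTop_ideal_top {X : Scheme.{u}} [IsAffine X] (I : Ideal Γ(X, ⊤)) :
    (Scheme.IdealSheafData.ofIdealTop I).ideal ⟨⊤, isAffineOpen_top X⟩ = I := by
  simp

/-- Global sections of the kernel of a morphism to an affine scheme. -/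
theorem ker_ideal_top {X Y : Scheme.{u}} (f : X ⟶ Y) [IsAffine Y] :
    f.ker.ideal ⟨⊤, isAffineOpen_top Y⟩ = RingHom.ker f.appTop.hom := by
  rw [Scheme.ker_of_isAffine, ofIdealTop_ideal_top]

/-- Equality of kernels of morphisms to an affine scheme is detected on global sections. -/
theorem ker_appTop_eq_of_ker_eq {X X' Y : Scheme.{u}} (f : X ⟶ Y) (f' : X' ⟶ Y) [IsAffine Y]
    (h : f.ker = f'.ker) : RingHom.ker f.appTop.hom = RingHom.ker f'.appTop.hom := by
  rw [← ker_ideal_top, ← ker_ideal_top, h]

theorem ker_eq_of_ker_appTop_eq {X X' Y : Scheme.{u}} (f : X ⟶ Y) (f' : X' ⟶ Y) [IsAffine Y]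
    (h : RingHom.ker f.appTop.hom = RingHom.ker f'.appTop.hom) : f.ker = f'.ker := by
  rw [Scheme.ker_of_isAffine, Scheme.ker_of_isAffine, h]

/-- Flat base change of the kernel of functions of a quasi-compact morphism, affine base. -/
theorem ker_appTop_le_map_of_flat {W V W' V' : Scheme.{u}} (h : W ⟶ V) [QuasiCompact h]
    (g : V' ⟶ V) [Flat g] [IsAffine V] [IsAffine V'] (top : W' ⟶ W) (h' : W' ⟶ V')
    (sq : IsPullback top h' h g) :
    RingHom.ker h'.appTop.hom ≤ (RingHom.ker h.appTop.hom).map g.appTop.hom := by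
  have e1 : h'.ker = h.ker.comap g := by
    rw [ker_comap_of_flat, ← sq.flip.isoPullback_hom_fst, Scheme.Hom.ker_comp_of_isIso]
  rw [← ker_ideal_top h', e1]
  set K := RingHom.ker h.appTop.hom with hK
  have hle : h.ker.comap g ≤ Scheme.IdealSheafData.ofIdealTop (K.map g.appTop.hom) := by
    rw [← Scheme.IdealSheafData.le_map_iff_comap_le]
    apply Scheme.IdealSheafData.le_of_isAffine
    rw [ker_ideal_top]
    have : IsAffineHom g := inferInstance
    rw [Scheme.IdealSheafData.ideal_map_of_isAffineHom]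
    intro x hx
    rw [Ideal.mem_comap]
    simp only [Scheme.IdealSheafData.ofIdealTop_ideal]
    have h1 := Ideal.mem_map_of_mem (CommRingCat.Hom.hom (V'.presheaf.map
      (homOfLE (le_top : g ⁻¹ᵁ ⊤ ≤ ⊤)).op)) (Ideal.mem_map_of_mem g.appTop.hom hx)
    have h2 : V'.presheaf.map (homOfLE (le_top : g ⁻¹ᵁ ⊤ ≤ ⊤)).op = 𝟙 _ := V'.presheaf.map_id _
    have h3 : (CommRingCat.Hom.hom (V'.presheaf.map (homOfLE (le_top : g ⁻¹ᵁ ⊤ ≤ ⊤)).op))
        (g.appTop.hom x) = g.appTop.hom x := by rw [h2]; rfl
    rw [h3] at h1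
    exact h1
  have := hle ⟨⊤, isAffineOpen_top V'⟩
  rwa [ofIdealTop_ideal_top] at this

/-- Ideal sheaves agreeing after restriction to every affine open are equal. -/
theorem idealSheafData_ext_of_comap {U : Scheme.{u}} (I J : U.IdealSheafData)
    (h : ∀ O : U.affineOpens, I.comap O.1.ι = J.comap O.1.ι) : I = J := by
  ext O : 2
  have hO := h O
  have hA : IsAffine (O.1 : Scheme.{u}) := O.2
  have h1 := congrArg (fun K => K.ideal ⟨⊤, isAffineOpen_top _⟩) hO
  simp only [Scheme.IdealSheafData.ideal_comap_of_isOpenImmersion] at h1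
  have hsurj : Function.Surjective (CommRingCat.Hom.hom (Scheme.Hom.appIso O.1.ι ⊤).inv) :=
    (ConcreteCategory.bijective_of_isIso (Scheme.Hom.appIso O.1.ι ⊤).inv).2
  have h2 := Ideal.comap_injective_of_surjective _ hsurj h1
  have h3 : (⟨O.1.ι ''ᵁ ⊤, (isAffineOpen_top _).image_of_isOpenImmersion O.1.ι⟩ : U.affineOpens) = O :=
    Subtype.ext (Scheme.Opens.ι_image_top O.1)
  have key : ∀ (O' : U.affineOpens), O' = O → I.ideal O' = J.ideal O' →
      I.ideal O = J.ideal O := by
    rintro O' rfl h
    exact h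
  exact key _ h3 h2

variable {S : Scheme.{u}}

/-- The ideal family of a quasi-compact representable morphism is quasi-coherent. -/
theorem idealOfRep_isQCoh {X Y : Sp S} (f : X ⟶ Y) (hf : Representable f)
    (hq : RepWith @QuasiCompact f) : (idealOfRep hf).IsQCoh := by
  intro E E' g hE hE'
  have he : Etale g.hom.left.left := EtOver.etale_left g
  have : Flat g.hom.left.left := inferInstance
  have : QuasiCompact (EtOver.bcπ hf E).left := hq.property _ _ _ (hf.isPullback E.obj.hom)
  exact ker_appTop_le_map_of_flat (EtOver.bcπ hf E).left g.hom.left.left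
    (EtOver.bcMap hf g).hom.left.left (EtOver.bcπ hf E').left (EtOver.isPullback_bcMap_left hf g)

/-- Two charts of the same morphism over the same base have the same kernel. -/
theorem ker_eq_of_isPullback_same {Z Y : Sp S} (i : Z ⟶ Y) {C C' T : Over S} (c : C ⟶ T)
    (c' : C' ⟶ T) (q : (yon S).obj T ⟶ Y) {a : (yon S).obj C ⟶ Z} {a' : (yon S).obj C' ⟶ Z}
    (sq : IsPullback a ((yon S).map c) i q) (sq' : IsPullback a' ((yon S).map c') i q) :
    c.left.ker = c'.left.ker := by
  let e := sq.isoIsPullback _ _ sq'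
  have he : e.hom ≫ (yon S).map c' = (yon S).map c := sq.isoIsPullback_hom_snd _ _ sq'
  let φ : C ≅ C' := (yon S).preimageIso e
  have hφ : φ.hom ≫ c' = c := by
    apply (yon S).map_injective
    rw [Functor.map_comp]
    simp only [φ, Functor.preimageIso_hom, Functor.map_preimage]
    exact he
  have hφl : φ.hom.left ≫ c'.left = c.left := by rw [← Over.comp_left, hφ]
  have : IsIso φ.hom.left := inferInstanceAs (IsIso ((Over.forget S).map φ.hom))
  rw [← hφl, Scheme.Hom.ker_comp_of_isIso]

/-- If `h_c` is the scheme theoretic image of `h_h`, then `c` and `h` have the same kernel. -/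
theorem ker_eq_of_isSchImage_yon {W C V : Over S} (h : W ⟶ V) (c : C ⟶ V)
    (hc : IsSchImage ((yon S).map h) ((yon S).map c)) : c.left.ker = h.left.ker := by
  apply le_antisymm
  · obtain ⟨f', hf'⟩ := hc.2.1
    obtain ⟨h', rfl⟩ := (yon S).map_surjective f'
    rw [← Functor.map_comp] at hf'
    have := (yon S).map_injective hf'
    rw [← this, Over.comp_left]
    exact Scheme.Hom.le_ker_comp _ _
  · let ι : Over.mk (h.left.ker.subschemeι ≫ V.hom) ⟶ V := Over.homMk h.left.ker.subschemeι rfl
    have hι : RepWith @IsClosedImmersion ((yon S).map ι) :=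
      (repWith_yon_map_iff _ ι).2 (inferInstanceAs (IsClosedImmersion h.left.ker.subschemeι))
    let h₀ : W ⟶ Over.mk (h.left.ker.subschemeι ≫ V.hom) :=
      Over.homMk h.left.toImage (by
        change h.left.toImage ≫ h.left.ker.subschemeι ≫ V.hom = _
        rw [← Category.assoc]
        have : h.left.toImage ≫ h.left.ker.subschemeι = h.left := h.left.toImage_imageι
        rw [this, Over.w])
    have hh₀ : h₀ ≫ ι = h := by
      ext
      exact h.left.toImage_imageι
    obtain ⟨k, hk⟩ := hc.2.2 ((yon S).map ι) (IsAlgSpace.yon_obj _) hι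
      ⟨(yon S).map h₀, by rw [← Functor.map_comp, hh₀]⟩
    obtain ⟨k', rfl⟩ := (yon S).map_surjective k
    rw [← Functor.map_comp] at hk
    have := (yon S).map_injective hk
    have h2 : h.left.ker = ι.left.ker := (Scheme.IdealSheafData.ker_subschemeι _).symm
    rw [h2, ← this, Over.comp_left]
    exact Scheme.Hom.le_ker_comp _ _

end Groth.Agent.Lib.Helper3.SchIm
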