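import Groth.Agent.Lib.Helper3.SchImIdeal1
set_option autoImplicit false
universe u
open CategoryTheory CategoryTheory.Limits AlgebraicGeometry Opposite AlgSp

namespace Groth.Agent.Lib.Helper3.SchIm

/-- Pullback of the ideal sheaf of an ideal along a morphism of affine schemes is the ideal
sheaf of the extended ideal. -/
theorem comap_ofIdealTop {Q O : Scheme.{u}} [IsAffine Q] [IsAffine O] (g : Q ⟶ O)
    (J : Ideal Γ(O, ⊤)) :
    (Scheme.IdealSheafData.ofIdealTop J).comap g =
      Scheme.IdealSheafData.ofIdealTop (J.map g.appTop.hom) := by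
  have : IsAffineHom g := inferInstance
  have hres : ∀ x : Γ(Q, ⊤), (CommRingCat.Hom.hom (Q.presheaf.map
      (homOfLE (le_top : g ⁻¹ᵁ ⊤ ≤ ⊤)).op)) x = x := by
    intro x
    have h2 : Q.presheaf.map (homOfLE (le_top : g ⁻¹ᵁ ⊤ ≤ ⊤)).op = 𝟙 _ := Q.presheaf.map_id _
    rw [h2]; rfl
  apply le_antisymm
  · rw [← Scheme.IdealSheafData.le_map_iff_comap_le]
    apply Scheme.IdealSheafData.le_of_isAffine
    rw [ofIdealTop_ideal_top, Scheme.IdealSheafData.ideal_map_of_isAffineHom]
    intro x hx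
    rw [Ideal.mem_comap]
    simp only [Scheme.IdealSheafData.ofIdealTop_ideal]
    have h1 := Ideal.mem_map_of_mem (CommRingCat.Hom.hom (Q.presheaf.map
      (homOfLE (le_top : g ⁻¹ᵁ ⊤ ≤ ⊤)).op)) (Ideal.mem_map_of_mem g.appTop.hom hx)
    rw [hres] at h1
    exact h1
  · apply Scheme.IdealSheafData.le_of_isAffine
    rw [ofIdealTop_ideal_top, Ideal.map_le_iff_le_comap]
    have h1 := Scheme.IdealSheafData.le_map_comap (Scheme.IdealSheafData.ofIdealTop J) g
      ⟨⊤, isAffineOpen_top O⟩
    rw [ofIdealTop_ideal_top, Scheme.IdealSheafData.ideal_map_of_isAffineHom] at h1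
    exact h1

/-- Ideal sheaves descend along flat surjective morphisms. -/
theorem map_comap_of_flat_surjective {W E : Scheme.{u}} (w : W ⟶ E) [Flat w] [Surjective w]
    (𝒥 : E.IdealSheafData) : (𝒥.comap w).map w = 𝒥 := by
  change ((pullback.fst w 𝒥.subschemeι).ker).map w = 𝒥
  rw [Scheme.IdealSheafData.map_ker, pullback.condition, ker_comp_of_flat_surjective,
    Scheme.IdealSheafData.ker_subschemeι]

theorem comap_injective_of_flat_surjective {W E : Scheme.{u}} (w : W ⟶ E) [Flat w] [Surjective w]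
    {𝒥 𝒥' : E.IdealSheafData} (h : 𝒥.comap w = 𝒥'.comap w) : 𝒥 = 𝒥' := by
  rw [← map_comap_of_flat_surjective w 𝒥, h, map_comap_of_flat_surjective]

/-- Ideal sheaves agreeing after restriction to the members of an affine open cover are
equal. -/
theorem idealSheafData_ext_of_comap_cover {U : Scheme.{u}} (I J : U.IdealSheafData)
    {ι : Type*} (O : ι → U.affineOpens) (hO : ⨆ i, (O i).1 = ⊤)
    (h : ∀ i, I.comap (O i).1.ι = J.comap (O i).1.ι) : I = J := by
  refine Scheme.IdealSheafData.ext_of_iSup_eq_top O hO fun i => ?_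
  have hA : IsAffine ((O i).1 : Scheme.{u}) := (O i).2
  have h1 := congrArg (fun K => K.ideal ⟨⊤, isAffineOpen_top _⟩) (h i)
  simp only [Scheme.IdealSheafData.ideal_comap_of_isOpenImmersion] at h1
  have hsurj : Function.Surjective (CommRingCat.Hom.hom (Scheme.Hom.appIso (O i).1.ι ⊤).inv) :=
    (ConcreteCategory.bijective_of_isIso (Scheme.Hom.appIso (O i).1.ι ⊤).inv).2
  have h2 := Ideal.comap_injective_of_surjective _ hsurj h1
  have h3 : (⟨(O i).1.ι ''ᵁ ⊤, (isAffineOpen_top _).image_of_isOpenImmersion (O i).1.ι⟩ :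
      U.affineOpens) = O i := Subtype.ext (Scheme.Opens.ι_image_top (O i).1)
  have key : ∀ (O' : U.affineOpens), O' = O i → I.ideal O' = J.ideal O' →
      I.ideal (O i) = J.ideal (O i) := by
    rintro O' rfl h
    exact h
  exact key _ h3 h2

end Groth.Agent.Lib.Helper3.SchIm
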