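import Groth.Agent.Lib.Helper3.SchImIdeal2
set_option autoImplicit false
universe u
open CategoryTheory CategoryTheory.Limits AlgebraicGeometry Opposite AlgSp

namespace Groth.Agent.Lib.Helper3.SchIm

variable {S : Scheme.{u}} {X : Sp S}

/-- Change of chart for a quasi-coherent ideal family. -/
theorem comap_ofIdealTop_ideal (I : IdealEt X) (hI : I.IsQCoh) {E E' : EtOver X} (g : E' ⟶ E)
    (hE : IsAffine E.obj.left.left) (hE' : IsAffine E'.obj.left.left) :
    (Scheme.IdealSheafData.ofIdealTop (I.ideal E hE)).comap g.hom.left.left =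
      Scheme.IdealSheafData.ofIdealTop (I.ideal E' hE') := by
  rw [comap_ofIdealTop, le_antisymm (I.map_le g hE hE') (hI g hE hE')]

/-- An ideal sheaf on a chart restricting to the given ideal family on all affine charts
over it. -/
def IsAdapted (I : IdealEt X) {U : Over S} (p : (yon S).obj U ⟶ X)
    (𝓘 : U.left.IdealSheafData) : Prop :=
  ∀ (E : EtOver X) (hE : IsAffine E.obj.left.left) (τ : E.obj.left ⟶ U),
    (yon S).map τ ≫ p = E.obj.hom →
      𝓘.comap τ.left = Scheme.IdealSheafData.ofIdealTop (I.ideal E hE)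

/-- The ideal of a quasi-coherent family on an affine chart is adapted. -/
theorem isAdapted_ofIdealTop (I : IdealEt X) (hI : I.IsQCoh) (E : EtOver X)
    (hE : IsAffine E.obj.left.left) :
    IsAdapted I E.obj.hom (Scheme.IdealSheafData.ofIdealTop (I.ideal E hE)) := by
  intro E' hE' τ hτ
  exact comap_ofIdealTop_ideal I hI (EtOver.homMk τ hτ) hE hE'

/-- Adapted ideal sheaves on two charts agree on any common refinement. -/
theorem comap_eq_of_isAdapted (I : IdealEt X) {U₁ U₂ W : Over S} (p₁ : (yon S).obj U₁ ⟶ X)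
    (p₂ : (yon S).obj U₂ ⟶ X) (𝓘₁ : U₁.left.IdealSheafData) (𝓘₂ : U₂.left.IdealSheafData)
    (h₁ : IsAdapted I p₁ 𝓘₁) (h₂ : IsAdapted I p₂ 𝓘₂) (v₁ : W ⟶ U₁) (v₂ : W ⟶ U₂)
    (hW : RepWith @Etale ((yon S).map v₁ ≫ p₁))
    (hv : (yon S).map v₁ ≫ p₁ = (yon S).map v₂ ≫ p₂) :
    𝓘₁.comap v₁.left = 𝓘₂.comap v₂.left := by
  apply idealSheafData_ext_of_comap
  intro Q
  let ιQ : Over.mk (Q.1.ι ≫ W.hom) ⟶ W := Over.homMk Q.1.ι rfl
  have hιQ : RepWith @Etale ((yon S).map ιQ) :=
    (repWith_yon_map_iff _ _).2 (inferInstanceAs (Etale Q.1.ι))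
  have hE : RepWith @Etale ((yon S).map (ιQ ≫ v₁) ≫ p₁) := by
    rw [Functor.map_comp, Category.assoc]
    exact MorphismProperty.comp_mem _ _ _ hιQ hW
  have hA : IsAffine (EtOver.mk _ hE).obj.left.left := Q.2
  have e₁ := h₁ (EtOver.mk _ hE) hA (ιQ ≫ v₁) rfl
  have e₂ := h₂ (EtOver.mk _ hE) hA (ιQ ≫ v₂) (by
    change (yon S).map (ιQ ≫ v₂) ≫ p₂ = (yon S).map (ιQ ≫ v₁) ≫ p₁
    rw [Functor.map_comp, Functor.map_comp, Category.assoc, Category.assoc, hv])
  rw [← Scheme.IdealSheafData.comap_comp, ← Scheme.IdealSheafData.comap_comp]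
  exact e₁.trans e₂.symm

/-- The kernel of a closed chart of a closed immersion is adapted to its ideal family. -/
theorem isAdapted_ker_of_chart {Z : Sp S} (i : Z ⟶ X) (hi : RepWith @IsClosedImmersion i)
    {C U : Over S} (c : C ⟶ U) (p : (yon S).obj U ⟶ X)
    {fst : (yon S).obj C ⟶ Z} (sq : IsPullback fst ((yon S).map c) i p) :
    IsAdapted (idealOfRep hi.1) p c.left.ker := by
  intro E hE τ hτ
  have : IsClosedImmersion c.left := hi.property p fst c sq
  have hA : IsAffine E.obj.left.left := hE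
  rw [← Scheme.IdealSheafData.ker_fst_of_isClosedImmersion]
  have h1 := ker_over_pullback_snd c τ
  have sqA : IsPullback ((yon S).map (pullback.fst c τ) ≫ fst) ((yon S).map (pullback.snd c τ)) i
      ((yon S).map τ ≫ p) := ((IsPullback.of_hasPullback c τ).map (yon S)).paste_horiz sq
  rw [hτ] at sqA
  have sqB := hi.1.isPullback E.obj.hom
  have h2 := ker_eq_of_isPullback_same i (pullback.snd c τ) (hi.1.snd E.obj.hom)
    E.obj.hom sqA sqB
  have h3 := Scheme.ker_of_isAffine (hi.1.snd E.obj.hom).left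
  exact h1.symm.trans (h2.trans h3)

end Groth.Agent.Lib.Helper3.SchIm
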