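import Groth.Agent.Lib.Helper3.SchImIdeal3
set_option autoImplicit false
universe u
open CategoryTheory CategoryTheory.Limits AlgebraicGeometry Opposite AlgSp

namespace Groth.Agent.Lib.Helper3.SchIm

variable {S : Scheme.{u}} {X : Sp S}

/-- The object of the small etale site given by an open of a chart. -/
noncomputable abbrev etOpen {U : Over S} (p : (yon S).obj U ⟶ X) (hp : RepWith @Etale p)
    (O : U.left.Opens) : EtOver X :=
  EtOver.mk ((yon S).map (Over.homMk O.ι rfl : Over.mk (O.ι ≫ U.hom) ⟶ U) ≫ p)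
    (MorphismProperty.comp_mem _ _ _
      ((repWith_yon_map_iff _ _).2 (inferInstanceAs (Etale O.ι))) hp)

/-- Inclusions of opens of a chart as morphisms of the small etale site. -/
noncomputable abbrev etOpenHom {U : Over S} (p : (yon S).obj U ⟶ X) (hp : RepWith @Etale p)
    {O' O : U.left.Opens} (h : O' ≤ O) : etOpen p hp O' ⟶ etOpen p hp O :=
  EtOver.homMk (Over.homMk (U.left.homOfLE h) (by
    change U.left.homOfLE h ≫ O.ι ≫ U.hom = O'.ι ≫ U.hom
    rw [Scheme.homOfLE_ι_assoc])) (by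
    change (yon S).map _ ≫ (yon S).map _ ≫ p = (yon S).map _ ≫ p
    rw [← Category.assoc, ← Functor.map_comp]
    congr 2
    ext
    exact Scheme.homOfLE_ι _ h)

theorem etOpenHom_left {U : Over S} (p : (yon S).obj U ⟶ X) (hp : RepWith @Etale p)
    {O' O : U.left.Opens} (h : O' ≤ O) :
    (etOpenHom p hp h).hom.left.left = U.left.homOfLE h := rfl

/-- The ideal sheaf on a chart given by a quasi-coherent ideal family. -/
noncomputable def idealSheafOfIdealEt (I : IdealEt X) (hI : I.IsQCoh) {U : Over S}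
    (p : (yon S).obj U ⟶ X) (hp : RepWith @Etale p) : U.left.IdealSheafData where
  ideal O := (I.ideal (etOpen p hp O.1) O.2).map O.1.topIso.hom.hom
  map_ideal_basicOpen O f := by
    have hle : (U.left.affineBasicOpen f).1 ≤ O.1 := U.left.basicOpen_le f
    have h1 := le_antisymm (I.map_le (etOpenHom p hp hle) O.2 (U.left.affineBasicOpen f).2)
      (hI (etOpenHom p hp hle) O.2 (U.left.affineBasicOpen f).2)
    rw [← h1, Ideal.map_map, Ideal.map_map]
    congr 1
    have key : O.1.topIso.hom ≫ U.left.presheaf.map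
        (homOfLE (U.left.basicOpen_le f)).op =
        (U.left.homOfLE hle).appTop ≫ (U.left.affineBasicOpen f).1.topIso.hom := by
      rw [Scheme.homOfLE_appTop]
      simp only [Scheme.Opens.topIso_hom]
      refine (U.left.presheaf.map_comp _ _).symm.trans
        (Eq.trans ?_ (U.left.presheaf.map_comp _ _))
      exact congrArg U.left.presheaf.map (Subsingleton.elim _ _)
    exact congrArg CommRingCat.Hom.hom key

end Groth.Agent.Lib.Helper3.SchIm

namespace Groth.Agent.Lib.Helper3.SchIm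

variable {S : Scheme.{u}} {X : Sp S}

theorem idealSheafOfIdealEt_comap_ι (I : IdealEt X) (hI : I.IsQCoh) {U : Over S}
    (p : (yon S).obj U ⟶ X) (hp : RepWith @Etale p) (O : U.left.affineOpens) :
    (idealSheafOfIdealEt I hI p hp).comap O.1.ι =
      Scheme.IdealSheafData.ofIdealTop (I.ideal (etOpen p hp O.1) O.2) := by
  have hA : IsAffine (O.1 : Scheme.{u}) := O.2
  apply Scheme.IdealSheafData.ext_of_isAffine
  rw [ofIdealTop_ideal_top, Scheme.IdealSheafData.ideal_comap_of_isOpenImmersion]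
  rw [Scheme.Opens.ι_appIso]
  have h0 := (idealSheafOfIdealEt I hI p hp).map_ideal'
    (U := ⟨O.1.ι ''ᵁ ⊤, (isAffineOpen_top _).image_of_isOpenImmersion O.1.ι⟩) (V := O)
    (eqToHom (by simp)).op
  rw [← h0]
  change Ideal.comap (RingHom.id _) (Ideal.map _ (Ideal.map O.1.topIso.hom.hom _)) = _
  rw [Ideal.comap_id]
  refine (Ideal.map_map _ _).trans ?_
  have key : O.1.topIso.hom ≫ U.left.presheaf.map (eqToHom (by simp : O.1.ι ''ᵁ ⊤ = O.1)).op =
      𝟙 _ := by
    rw [Scheme.Opens.topIso_hom]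
    refine (U.left.presheaf.map_comp _ _).symm.trans (Eq.trans ?_ (U.left.presheaf.map_id _))
    exact congrArg U.left.presheaf.map (Subsingleton.elim _ _)
  have key' := congrArg CommRingCat.Hom.hom key
  change (CommRingCat.Hom.hom _).comp (CommRingCat.Hom.hom _) = RingHom.id _ at key'
  exact (congrArg (fun φ => Ideal.map φ (I.ideal (etOpen p hp O.1) O.2)) key').trans
    (Ideal.map_id _)

end Groth.Agent.Lib.Helper3.SchIm

namespace Groth.Agent.Lib.Helper3.SchIm

variable {S : Scheme.{u}} {X : Sp S}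

/-- An ideal sheaf on a chart restricting to the given quasi-coherent ideal family on all
affine opens of the chart is adapted. -/
theorem isAdapted_of_comap_ι (I : IdealEt X) (hI : I.IsQCoh) {U : Over S}
    (p : (yon S).obj U ⟶ X) (hp : RepWith @Etale p) (𝓘 : U.left.IdealSheafData)
    (h : ∀ O : U.left.affineOpens, 𝓘.comap O.1.ι =
      Scheme.IdealSheafData.ofIdealTop (I.ideal (etOpen p hp O.1) O.2)) :
    IsAdapted I p 𝓘 := by
  intro E hE τ hτ
  have hA : IsAffine E.obj.left.left := hE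
  let ι := {QO : E.obj.left.left.affineOpens × U.left.affineOpens //
    QO.1.1 ≤ τ.left ⁻¹ᵁ QO.2.1}
  refine idealSheafData_ext_of_comap_cover _ _ (fun j : ι => j.1.1) ?_ ?_
  · rw [eq_top_iff]
    intro x _
    obtain ⟨O, hO, hxO, -⟩ := exists_isAffineOpen_mem_and_subset (x := τ.left x)
      (U := ⊤) trivial
    obtain ⟨Q, hQ, hxQ, hQO⟩ := exists_isAffineOpen_mem_and_subset (x := x)
      (U := τ.left ⁻¹ᵁ O) hxO
    exact TopologicalSpace.Opens.mem_iSup.2 ⟨⟨(⟨Q, hQ⟩, ⟨O, hO⟩), hQO⟩, hxQ⟩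
  · rintro ⟨⟨Q, O⟩, hQO⟩
    change (𝓘.comap τ.left).comap Q.1.ι = (Scheme.IdealSheafData.ofIdealTop (I.ideal E hE)).comap Q.1.ι
    -- the morphism `Q ⟶ O`
    have hrange : Set.range (Q.1.ι ≫ τ.left) ⊆ Set.range O.1.ι := by
      rintro _ ⟨x, rfl⟩
      rw [Scheme.Opens.range_ι]
      exact hQO x.2
    let τQ : (Q.1 : Scheme.{u}) ⟶ O.1 := IsOpenImmersion.lift O.1.ι (Q.1.ι ≫ τ.left) hrange
    have hτQ : τQ ≫ O.1.ι = Q.1.ι ≫ τ.left := IsOpenImmersion.lift_fac _ _ _
    -- the object `E_Q`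
    let ιQ : Over.mk (Q.1.ι ≫ E.obj.left.hom) ⟶ E.obj.left := Over.homMk Q.1.ι rfl
    have hEQ : RepWith @Etale ((yon S).map ιQ ≫ E.obj.hom) :=
      MorphismProperty.comp_mem _ _ _
        ((repWith_yon_map_iff _ _).2 (inferInstanceAs (Etale Q.1.ι))) E.property
    let EQ : EtOver X := EtOver.mk _ hEQ
    have hAQ : IsAffine EQ.obj.left.left := Q.2
    let g₁ : EQ ⟶ E := EtOver.homMk ιQ rfl
    let ιO : Over.mk (O.1.ι ≫ U.hom) ⟶ U := Over.homMk O.1.ι rfl
    let τQ' : Over.mk (Q.1.ι ≫ E.obj.left.hom) ⟶ Over.mk (O.1.ι ≫ U.hom) := Over.homMk τQ (by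
      change τQ ≫ O.1.ι ≫ U.hom = Q.1.ι ≫ E.obj.left.hom
      rw [← Category.assoc, hτQ, Category.assoc, Over.w])
    have hcomp : τQ' ≫ ιO = ιQ ≫ τ := by
      ext
      exact hτQ
    let g₂ : EQ ⟶ etOpen p hp O.1 := EtOver.homMk τQ' (by
      change (yon S).map τQ' ≫ (yon S).map ιO ≫ p = (yon S).map ιQ ≫ E.obj.hom
      rw [← hτ, ← Category.assoc, ← Functor.map_comp, hcomp, Functor.map_comp, Category.assoc])
    have e₁ := comap_ofIdealTop_ideal I hI g₁ hE hAQ
    have e₂ := comap_ofIdealTop_ideal I hI g₂ O.2 hAQ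
    rw [← Scheme.IdealSheafData.comap_comp, ← hτQ, Scheme.IdealSheafData.comap_comp, h O]
    exact e₂.trans e₁.symm

end Groth.Agent.Lib.Helper3.SchIm

namespace Groth.Agent.Lib.Helper3.SchIm

variable {S : Scheme.{u}}

/-- Every quasi-coherent ideal family on an algebraic space cuts out a closed subspace. -/
theorem exists_isCutOutBy (X : Space S) (I : IdealEt X.obj) (hI : I.IsQCoh) :
    ∃ (Z : Space S) (i : Z ⟶ X), IsCutOutBy I i.hom := by
  obtain ⟨R, U, s, t, p, hp⟩ := exists_presentation X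
  let 𝓘 := idealSheafOfIdealEt I hI p hp.etale
  have had : IsAdapted I p 𝓘 := isAdapted_of_comap_ι I hI p hp.etale 𝓘
    (idealSheafOfIdealEt_comap_ι I hI p hp.etale)
  have hst : (yon S).map s ≫ p = (yon S).map t ≫ p := hp.isPullback.w.symm
  have hse : RepWith @Etale ((yon S).map s ≫ p) :=
    MorphismProperty.comp_mem _ _ _ ((repWith_yon_map_iff _ _).2 hp.eqvRel.etale_left) hp.etale
  have hinv : 𝓘.comap s.left = 𝓘.comap t.left :=
    comap_eq_of_isAdapted I p p 𝓘 𝓘 had had s t hse hst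
  obtain ⟨Z, i, q, hcl, sq⟩ := exists_closedSubspace_of_invariant X s t p hp 𝓘 hinv
  refine ⟨Z, i, hcl, ?_⟩
  have hqc : RepWith @QuasiCompact i.hom := by
    refine MorphismProperty.relative_monotone ?_ _ hcl
    intro A B f hf
    have : IsClosedImmersion ((Over.forget S).map f) := hf
    change QuasiCompact ((Over.forget S).map f)
    infer_instance
  have hKq : (idealOfRep hcl.1).IsQCoh := idealOfRep_isQCoh i.hom hcl.1 hqc
  have hadK : IsAdapted (idealOfRep hcl.1) p 𝓘 := by
    have h1 := isAdapted_ker_of_chart i.hom hcl (Over.homMk 𝓘.subschemeι rfl :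
      Over.mk (𝓘.subschemeι ≫ U.hom) ⟶ U) p sq
    have h2 : (Over.homMk 𝓘.subschemeι rfl : Over.mk (𝓘.subschemeι ≫ U.hom) ⟶ U).left.ker = 𝓘 :=
      Scheme.IdealSheafData.ker_subschemeι _
    rwa [h2] at h1
  apply IdealEt.ext
  funext E hE
  have hA : IsAffine E.obj.left.left := hE
  have sqW := hp.etale.rep.isPullback E.obj.hom
  obtain ⟨v, hv⟩ := (yon S).map_surjective (hp.etale.rep.fst E.obj.hom)
  rw [← hv] at sqW
  have hwe : Etale (hp.etale.rep.snd E.obj.hom).left := hp.etale.property _ _ _ sqW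
  have hws : Surjective (hp.etale.rep.snd E.obj.hom).left := hp.surjective.property _ _ _ sqW
  have : Flat (hp.etale.rep.snd E.obj.hom).left := inferInstance
  have hcomm : (yon S).map (hp.etale.rep.snd E.obj.hom) ≫ E.obj.hom = (yon S).map v ≫ p :=
    sqW.w.symm
  have hWet : RepWith @Etale ((yon S).map (hp.etale.rep.snd E.obj.hom) ≫ E.obj.hom) :=
    MorphismProperty.comp_mem _ _ _ ((repWith_yon_map_iff _ _).2 hwe) E.property
  have e₁ := comap_eq_of_isAdapted I E.obj.hom p _ 𝓘 (isAdapted_ofIdealTop I hI E hE) had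
    (hp.etale.rep.snd E.obj.hom) v hWet hcomm
  have e₂ := comap_eq_of_isAdapted (idealOfRep hcl.1) E.obj.hom p _ 𝓘
    (isAdapted_ofIdealTop _ hKq E hE) hadK (hp.etale.rep.snd E.obj.hom) v hWet hcomm
  have e₃ := comap_injective_of_flat_surjective _ (e₂.trans e₁.symm)
  have e₄ := congrArg (fun 𝒥 => 𝒥.ideal ⟨⊤, isAffineOpen_top _⟩) e₃
  simp only [ofIdealTop_ideal_top] at e₄
  exact e₄

end Groth.Agent.Lib.Helper3.SchIm
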