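import Groth.Agent.Lib.Helper3.SchImBasic
import Groth.Agent.S9928
set_option autoImplicit false
universe u
open CategoryTheory CategoryTheory.Limits AlgebraicGeometry Opposite AlgSp

namespace Groth.Agent.Lib.Helper3.SchIm

variable {S : Scheme.{u}}

theorem mono_of_closedImmersion {F G : Sp S} (i : F ⟶ G) (hi : RepWith @IsClosedImmersion i) :
    Mono i :=
  Groth.Agent.S9928.mono_of_repWith @IsClosedImmersion
    (fun g hg => by have : IsClosedImmersion g := hg; infer_instance) i hi

/-- Every algebraic space has a presentation. -/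
theorem exists_presentation (Y : Space S) :
    ∃ (R U : Over S) (s t : R ⟶ U) (p : (yon S).obj U ⟶ Y.obj), IsPresentation s t p := by
  obtain ⟨U, p, hpe, hps⟩ := Y.property.atlas
  obtain ⟨R, s, fst, sq⟩ := hpe.1 p
  obtain ⟨t, rfl⟩ := (yon S).map_surjective fst
  exact ⟨R, U, s, t, p, isEtaleEqvRel_of_isPullback s t p hpe sq, hpe, hps, sq⟩

/-- The closed subspace cut out by an invariant ideal sheaf on a presentation. -/
theorem exists_closedSubspace_of_invariant (Y : Space S) {R U : Over S} (s t : R ⟶ U)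
    (p : (yon S).obj U ⟶ Y.obj) (hp : IsPresentation s t p) (I : U.left.IdealSheafData)
    (hI : I.comap s.left = I.comap t.left) :
    ∃ (Z : Space S) (i : Z ⟶ Y) (q : (yon S).obj (Over.mk (I.subschemeι ≫ U.hom)) ⟶ Z.obj),
      RepWith @IsClosedImmersion i.hom ∧
      IsPullback q ((yon S).map (Over.homMk I.subschemeι rfl :
        Over.mk (I.subschemeι ≫ U.hom) ⟶ U)) i.hom p := by
  obtain ⟨R', k, s', t', hs, ht⟩ := exists_invariant_data s.left t.left I hI
  obtain ⟨Z, i, q, -, sq, hcl, -⟩ := Groth.Agent.S10233.result Y s t p hp I.subschemeι k s' t' hs ht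
  exact ⟨Z, i, q, hcl inferInstance, sq⟩

/-- Factorisation through a subspace can be checked on charts. -/
theorem exists_factor_of_chart {X Y Z : Sp S} (f : X ⟶ Y) (i : Z ⟶ Y) [Mono i] {Zo U W : Over S}
    (p : (yon S).obj U ⟶ Y) (iO : Zo ⟶ U) (q : (yon S).obj Zo ⟶ Z)
    (sq : IsPullback q ((yon S).map iO) i p) (e : (yon S).obj W ⟶ X) [Epi e] (h : W ⟶ U)
    (hw : e ≫ f = (yon S).map h ≫ p) (h₀ : W ⟶ Zo) (hh : h₀ ≫ iO = h) :
    ∃ f' : X ⟶ Z, f' ≫ i = f := by
  obtain ⟨f', -, hf'⟩ := exists_lift_of_epi_mono e i ((yon S).map h₀ ≫ q) f (by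
    rw [Category.assoc, sq.w, ← Category.assoc, ← Functor.map_comp, hh, hw])
  exact ⟨f', hf'⟩

end Groth.Agent.Lib.Helper3.SchIm
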