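import Groth.Agent.Lib.Helper3.SchImOpen
import Groth.Agent.Lib.Helper3.AlgSpImmersionPts
import Groth.Agent.Lib.Helper3.AlgSpReducedChart
import Groth.Agent.Lib.Helper3.AlgSpUC3
import Groth.Agent.S9966
import Groth.Agent.S10191
import Groth.Agent.S10176
set_option autoImplicit false
universe u
open CategoryTheory CategoryTheory.Limits AlgebraicGeometry Opposite AlgSp

namespace Groth.Agent.Lib.Helper3.SchIm

variable {S : Scheme.{u}}

theorem representable_of_comp_mono {Z Zbar X : Sp S} (h' : Z ⟶ Zbar) (c : Zbar ⟶ X) [Mono c]
    (hh : Representable (h' ≫ c)) : Representable h' := by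
  intro a g
  obtain ⟨b, snd, fst, sq⟩ := hh (g ≫ c)
  exact ⟨b, snd, fst, isPullback_of_comp_mono c sq⟩

/-- reduced case -/
theorem immersion_into_schImage_of_reduced {Z X Zbar : Space S} (h : Z ⟶ X)
    (hh : RepWith @IsImmersion h.hom) (hred : IsReducedSp Z.obj)
    (c : Zbar ⟶ X) (hc : IsSchImage h.hom c.hom) (h' : Z ⟶ Zbar) (fac : h' ≫ c = h) :
    RepWith @IsOpenImmersion h'.hom ∧ IsSchDense h'.hom ∧
      Dense (Set.range (Points.map h'.hom)) := by
  have hfac : h'.hom ≫ c.hom = h.hom := congrArg (fun φ => φ.hom) fac
  have hmono : Mono c.hom := mono_of_closedImmersion _ hc.1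
  have hrep : Representable h'.hom := representable_of_comp_mono h'.hom c.hom (by
    rw [hfac]; exact hh.1)
  obtain ⟨hcl, hrange, hZred⟩ := Groth.Agent.S9966.result h c hred hc
  -- density of the image of `h'`
  have hemb : Topology.IsEmbedding (Points.map c.hom) :=
    (Groth.Agent.S10191.result c (MorphismProperty.relative_monotone (fun A B φ hφ => by
      have : IsClosedImmersion ((Over.forget S).map φ) := hφ
      change IsImmersion ((Over.forget S).map φ)
      infer_instance) _ hcl)).1
  have hclosedmap : IsClosedMap (Points.map c.hom) := by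
    have huc : RepWith @UniversallyClosed c.hom :=
      MorphismProperty.relative_monotone (fun A B φ hφ => by
        have : IsClosedImmersion ((Over.forget S).map φ) := hφ
        change UniversallyClosed ((Over.forget S).map φ)
        infer_instance) _ hcl
    exact isClosedMap_map_of_repWith huc
  have hdense : Dense (Set.range (Points.map h'.hom)) := by
    have himg : Points.map c.hom '' (closure (Set.range (Points.map h'.hom))) =
        Set.range (Points.map c.hom) := by
      rw [hrange]
      have : Set.range (Points.map h.hom) = Points.map c.hom '' Set.range (Points.map h'.hom) := by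
        rw [← Set.range_comp]
        congr 1
        funext x
        rw [← hfac, Points.map_comp]
        rfl
      rw [this]
      exact (hclosedmap.closure_image_eq_of_continuous (Points.continuous_map _) _).symm
    rw [dense_iff_closure_eq]
    have himg' : Points.map c.hom '' (closure (Set.range (Points.map h'.hom))) =
        Points.map c.hom '' Set.univ := by rw [himg, Set.image_univ]
    exact hemb.injective.image_injective himg'
  obtain ⟨T, q, hqe, hqs⟩ := Zbar.property.atlas
  obtain ⟨Wo, w, fst, sqw⟩ := hh.1 (q ≫ c.hom)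
  have hwimm : IsImmersion w.left := hh.property (q ≫ c.hom) fst w sqw
  have sqw' : IsPullback fst ((yon S).map w) h'.hom q :=
    isPullback_of_comp_mono c.hom (by rw [hfac]; exact sqw)
  have hTred : IsReduced T.left := isReduced_of_isReducedSp hZred (EtOver.mk q hqe)
  have hwd : DenseRange w.left := by
    have hop : IsOpenMap (Points.ofPt q) := Groth.Agent.S10176.result Zbar q hqe
    have hpre : Dense (Points.ofPt q ⁻¹' Set.range (Points.map h'.hom)) := hdense.preimage hop
    refine hpre.mono ?_
    rintro t ⟨z, hz⟩
    obtain ⟨a, -, ha⟩ := exists_of_isPullback_chart sqw' z t hz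
    exact ⟨a, ha⟩
  have hwo : IsOpenImmersion w.left := isOpenImmersion_of_immersion_dense_reduced w.left hwd
  have hsd : CInt.IsSchematicallyDense w.left.opensRange :=
    isSchematicallyDense_of_dense_of_isReduced _ (by
      have : (w.left.opensRange : Set T.left) = Set.range w.left := rfl
      rw [this]; exact hwd)
  exact conclusions_of_chart h'.hom hrep q hqe hqs fst w sqw' hsd hwd

end Groth.Agent.Lib.Helper3.SchIm

namespace Groth.Agent.Lib.Helper3.SchIm

variable {S : Scheme.{u}}

/-- quasi-compact case -/
theorem immersion_into_schImage_of_quasiCompact {Z X Zbar : Space S} (h : Z ⟶ X)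
    (hh : RepWith @IsImmersion h.hom) (hq : IsQuasiCompactMor h.hom)
    (c : Zbar ⟶ X) (hc : IsSchImage h.hom c.hom) (h' : Z ⟶ Zbar) (fac : h' ≫ c = h) :
    RepWith @IsOpenImmersion h'.hom ∧ IsSchDense h'.hom ∧
      Dense (Set.range (Points.map h'.hom)) := by
  have hfac : h'.hom ≫ c.hom = h.hom := congrArg (fun φ => φ.hom) fac
  have hmono : Mono c.hom := mono_of_closedImmersion _ hc.1
  have hrep : Representable h'.hom := representable_of_comp_mono h'.hom c.hom (by
    rw [hfac]; exact hh.1)
  obtain ⟨R, V, s, t, p, hp⟩ := exists_presentation X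
  obtain ⟨Wo, w, fst, sqw⟩ := hh.1 p
  have hwimm : IsImmersion w.left := hh.property p fst w sqw
  have hwq : QuasiCompact w.left :=
    (repWith_quasiCompact_of_isQuasiCompactMor h.hom hh.1 hq).property p fst w sqw
  obtain ⟨Z₀, i₀, q, hZ₀, sqZ⟩ := isSchImage_of_chart_quasiCompact h s t p hp fst w sqw
  obtain ⟨e, he⟩ := isSchImage_unique Z₀.property Zbar.property hZ₀ hc
  let T : Over S := Over.mk (w.left.ker.subschemeι ≫ V.hom)
  let ιo : T ⟶ V := Over.homMk w.left.ker.subschemeι rfl
  have hqe : RepWith @Etale q := MorphismProperty.of_isPullback sqZ.flip hp.etale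
  have hqs : RepWith @Surjective q := MorphismProperty.of_isPullback sqZ.flip hp.surjective
  have hq'e : RepWith @Etale (q ≫ e.hom) :=
    ((RepWith @Etale).cancel_right_of_respectsIso q e.hom).2 hqe
  have hq's : RepWith @Surjective (q ≫ e.hom) :=
    ((RepWith @Surjective).cancel_right_of_respectsIso q e.hom).2 hqs
  let toIm : Wo ⟶ T := Over.homMk w.left.toImage (by
    change w.left.toImage ≫ w.left.imageι ≫ V.hom = Wo.hom
    rw [Scheme.Hom.toImage_imageι_assoc, Over.w])
  have htoIm : toIm ≫ ιo = w := by
    ext
    exact w.left.toImage_imageι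
  have hιmono : Mono ((yon S).map ιo) :=
    mono_of_closedImmersion _ ((repWith_yon_map_iff _ _).2
      (inferInstanceAs (IsClosedImmersion w.left.ker.subschemeι)))
  have sq1 : IsPullback fst ((yon S).map toIm) h.hom ((yon S).map ιo ≫ p) := by
    refine isPullback_of_mono_comp ?_
    rw [← Functor.map_comp, htoIm]
    exact sqw
  have sq' : IsPullback fst ((yon S).map toIm) h'.hom (q ≫ e.hom) := by
    refine isPullback_of_comp_mono c.hom ?_
    rw [hfac, Category.assoc, he, sqZ.w]
    exact sq1
  have hopen : IsOpenImmersion toIm.left :=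
    inferInstanceAs (IsOpenImmersion w.left.toImage)
  have hdr : DenseRange toIm.left := w.left.toImage.denseRange
  have hdom : IsSchemeTheoreticallyDominant toIm.left :=
    ImmDesc.isSchemeTheoreticallyDominant_toImage w.left
  have hqc : QuasiCompact toIm.left := inferInstanceAs (QuasiCompact w.left.toImage)
  obtain ⟨ε, hε⟩ := exists_iso_opens_of_isOpenImmersion toIm
  have hεl : ε.hom.left ≫ toIm.left = toIm.left.opensRange.ι := by
    have := congrArg (fun φ => φ.left) hε
    simpa using this
  have hεiso : IsIso ε.hom.left := inferInstanceAs (IsIso ((Over.forget S).map ε.hom))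
  have hkerW : toIm.left.opensRange.ι.ker = ⊥ := by
    rw [← hεl, Scheme.Hom.ker_comp_of_isIso]
    exact hdom.ker_eq_bot
  have hqcW : QuasiCompact toIm.left.opensRange.ι := by
    rw [← hεl]; infer_instance
  exact conclusions_of_chart h'.hom hrep (q ≫ e.hom) hq'e hq's fst toIm sq'
    (isSchematicallyDense_of_ker_ι_eq_bot _ hkerW) hdr

end Groth.Agent.Lib.Helper3.SchIm
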