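import Groth.Agent.Lib.Helper3.SchImChart
import Groth.Agent.Lib.Helper3.AlgSpLocSrc2
import Groth.Agent.Lib.Helper3.FppfLocal
import Groth.Agent.S9906
set_option autoImplicit false
universe u
open CategoryTheory CategoryTheory.Limits AlgebraicGeometry Opposite AlgSp

namespace Groth.Agent.Lib.Helper3.SchIm

variable {S : Scheme.{u}}

theorem isPullback_of_mono_comp {C : Type*} [Category C] {P A B B' X : C} {fst : P ⟶ A}
    {b : P ⟶ B'} {m : B' ⟶ B} [Mono m] {f : A ⟶ X} {g : B ⟶ X}
    (h : IsPullback fst (b ≫ m) f g) : IsPullback fst b f (m ≫ g) := by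
  refine IsPullback.mk' ?_ ?_ ?_
  · rw [h.w, Category.assoc]
  · intro T φ φ' h1 h2
    exact h.hom_ext h1 (by rw [← Category.assoc, h2, Category.assoc])
  · intro T x y hxy
    have hw : x ≫ f = (y ≫ m) ≫ g := by rw [hxy, Category.assoc]
    refine ⟨h.lift x (y ≫ m) hw, h.lift_fst _ _ _, ?_⟩
    rw [← cancel_mono m, Category.assoc]
    exact h.lift_snd _ _ _

/-- A dense immersion into a reduced scheme is an open immersion. -/
theorem isOpenImmersion_of_immersion_dense_reduced {A T : Scheme.{u}} (w : A ⟶ T) [IsImmersion w]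
    [IsReduced T] (hd : DenseRange w) : IsOpenImmersion w := by
  have hsurj : Surjective w.liftCoborder := by
    constructor
    have hcl : IsClosed (Set.range w.liftCoborder) := w.liftCoborder.isClosedEmbedding.isClosed_range
    have hdense : Dense (Set.range w.liftCoborder) := by
      rw [dense_iff_inter_open]
      rintro N hN ⟨u, hu⟩
      have hN' : IsOpen (w.coborderRange.ι '' N) := w.coborderRange.ι.isOpenEmbedding.isOpenMap N hN
      obtain ⟨_, ⟨n, hn, hn'⟩, ⟨a, rfl⟩⟩ := hd.inter_open_nonempty _ hN' ⟨_, u, hu, rfl⟩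
      refine ⟨n, hn, a, ?_⟩
      apply w.coborderRange.ι.isOpenEmbedding.injective
      rw [hn', ← Scheme.Hom.comp_apply, w.liftCoborder_ι]
    intro u
    have : Set.range w.liftCoborder = Set.univ := by
      rw [← hcl.closure_eq]; exact hdense.closure_eq
    exact Set.range_eq_univ.1 this u
  have hiso : IsIso w.liftCoborder := isIso_of_isClosedImmersion_of_surjective _
  rw [← w.liftCoborder_ι]
  infer_instance

/-- A dense open subscheme of a reduced scheme is schematically dense. -/
theorem isSchematicallyDense_of_dense_of_isReduced {T : Scheme.{u}} [IsReduced T] (W : T.Opens)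
    (hW : Dense (W : Set T)) : CInt.IsSchematicallyDense W := by
  intro V'
  rw [injective_iff_map_eq_zero]
  intro x hx
  have h1 : T.basicOpen (T.presheaf.map (homOfLE (inf_le_left : V' ⊓ W ≤ V')).op x) = ⊥ := by
    rw [hx]; exact Scheme.basicOpen_zero _ _
  rw [Scheme.basicOpen_res] at h1
  have h2 : T.basicOpen x = ⊥ := by
    by_contra hne
    have hne' : (T.basicOpen x : Set T).Nonempty := by
      rw [Set.nonempty_iff_ne_empty]
      intro he
      exact hne (TopologicalSpace.Opens.ext he)
    obtain ⟨y, hy1, hy2⟩ := hW.inter_open_nonempty _ (T.basicOpen x).isOpen hne'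
    have : y ∈ ((V' ⊓ W) ⊓ T.basicOpen x : T.Opens) := ⟨⟨T.basicOpen_le x hy1, hy2⟩, hy1⟩
    rw [h1] at this
    exact this
  exact (basicOpen_eq_bot_iff x).1 h2

end Groth.Agent.Lib.Helper3.SchIm

namespace Groth.Agent.Lib.Helper3.SchIm

variable {S : Scheme.{u}}

/-- The three conclusions about a morphism into its scheme theoretic image, from a chart. -/
theorem conclusions_of_chart {Z Zbar : Sp S} (h' : Z ⟶ Zbar) (hrep : Representable h')
    {T Wo : Over S} (q : (yon S).obj T ⟶ Zbar) (hqe : RepWith @Etale q)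
    (hqs : RepWith @Surjective q) (fst : (yon S).obj Wo ⟶ Z) (w : Wo ⟶ T)
    (sq : IsPullback fst ((yon S).map w) h' q) [IsOpenImmersion w.left]
    (hdense : CInt.IsSchematicallyDense w.left.opensRange) (hd : DenseRange w.left) :
    RepWith @IsOpenImmersion h' ∧ IsSchDense h' ∧ Dense (Set.range (Points.map h')) := by
  have := isLocalAtTarget_fppf_isOpenImmersion.{u}
  have h1 : RepWith @IsOpenImmersion h' :=
    (Groth.Agent.S9883.repWith_iff_of_chart h' hrep q hqe hqs fst w sq @IsOpenImmersion).2
      inferInstance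
  refine ⟨h1, ?_, ?_⟩
  · obtain ⟨ε, hε⟩ := exists_iso_opens_of_isOpenImmersion w
    refine ⟨h1, T, q, w.left.opensRange, (yon S).map ε.hom ≫ fst, hqe, hqs, ?_, hdense⟩
    refine IsPullback.of_iso sq ((yon S).mapIso ε).symm (Iso.refl _) (Iso.refl _)
      (Iso.refl _) ?_ ?_ ?_ ?_
    · simp
    · simp only [Iso.refl_hom, Category.comp_id, Iso.symm_hom, Functor.mapIso_inv]
      rw [← hε, Functor.map_comp, ← Category.assoc, ← Functor.map_comp, Iso.inv_hom_id,
        CategoryTheory.Functor.map_id, Category.id_comp]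
    · simp
    · simp
  · have hsurj : Function.Surjective (Points.ofPt q) := by
      intro y
      obtain ⟨x, rfl⟩ := (Groth.Agent.S9906.repWith_surjective_iff q hqe.1).1 hqs y
      obtain ⟨t, rfl⟩ := (Points.schemeHomeo T).surjective x
      exact ⟨t, Points.ofPt_eq_map_ofScheme q t⟩
    have hdr : DenseRange (Points.ofPt q ∘ w.left) :=
      hsurj.denseRange.comp hd (Points.continuous_ofPt q)
    refine hdr.mono ?_
    rintro _ ⟨a, rfl⟩
    refine ⟨Points.ofPt fst a, ?_⟩
    rw [Points.map_ofPt, sq.w, Points.ofPt_yon_map_comp]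
    rfl

end Groth.Agent.Lib.Helper3.SchIm
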