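import Groth.Agent.Lib.Helper3.SchImFBC
import Mathlib.AlgebraicGeometry.Morphisms.Flat
set_option autoImplicit false
universe u
open CategoryTheory CategoryTheory.Limits AlgebraicGeometry Opposite AlgSp

namespace Groth.Agent.Lib.Helper3.SchIm

variable {S : Scheme.{u}}

/-- A flat surjective morphism of schemes is injective on sections. -/
theorem app_injective_of_flat_surjective {X Y : Scheme.{u}} (f : X ⟶ Y) [Flat f] [Surjective f]
    (U : Y.Opens) : Function.Injective (f.app U).hom := by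
  rw [injective_iff_map_eq_zero]
  intro a ha
  apply TopCat.Presheaf.section_ext Y.sheaf U
  intro y hy
  obtain ⟨x, rfl⟩ := f.surjective y
  have h2 : (f.stalkMap x).hom.Flat := Flat.stalkMap f x
  have h3 : (f.stalkMap x).hom.FaithfullyFlat := by
    algebraize [(f.stalkMap x).hom]
    have : IsLocalHom (algebraMap (Y.presheaf.stalk (f x)) (X.presheaf.stalk x)) := by
      rw [RingHom.algebraMap_toAlgebra]
      infer_instance
    exact Module.FaithfullyFlat.of_flat_of_isLocalHom
  apply h3.injective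
  have := Scheme.Hom.germ_stalkMap_apply f U x hy a
  have h0 : (Y.presheaf.germ U (f x) hy).hom 0 = 0 := map_zero _
  change (f.stalkMap x).hom ((Y.presheaf.germ U (f x) hy).hom a) =
    (f.stalkMap x).hom ((Y.presheaf.germ U (f x) hy).hom 0)
  rw [h0, map_zero]
  refine this.trans ?_
  change (X.presheaf.germ (f ⁻¹ᵁ U) x hy).hom ((f.app U).hom a) = 0
  rw [ha, map_zero]

/-- A flat surjective morphism of schemes is scheme theoretically dominant. -/
theorem ker_eq_bot_of_flat_surjective {X Y : Scheme.{u}} (f : X ⟶ Y) [Flat f] [Surjective f] :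
    f.ker = ⊥ := by
  rw [eq_bot_iff]
  intro U
  refine (Scheme.Hom.ideal_ker_le f U).trans ?_
  rw [(RingHom.injective_iff_ker_eq_bot _).1 (app_injective_of_flat_surjective f U.1)]
  exact bot_le

theorem ker_comp_of_flat_surjective {W' W U : Scheme.{u}} (a : W' ⟶ W) [Flat a] [Surjective a]
    (h : W ⟶ U) : (a ≫ h).ker = h.ker := by
  rw [Scheme.Hom.ker_comp, ker_eq_bot_of_flat_surjective a, Scheme.IdealSheafData.map_bot]

/-- The kernel of the map from an etale surjective chart of a sheaf over a scheme does not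
depend on the chart. -/
theorem ker_eq_of_charts {𝒱 : Sp S} {T W₁ W₂ : Over S} (γ : 𝒱 ⟶ (yon S).obj T)
    (e₁ : (yon S).obj W₁ ⟶ 𝒱) (e₂ : (yon S).obj W₂ ⟶ 𝒱) (he₁ : RepWith @Etale e₁)
    (hs₁ : RepWith @Surjective e₁) (he₂ : RepWith @Etale e₂) (hs₂ : RepWith @Surjective e₂)
    (h₁ : W₁ ⟶ T) (h₂ : W₂ ⟶ T) (hh₁ : (yon S).map h₁ = e₁ ≫ γ) (hh₂ : (yon S).map h₂ = e₂ ≫ γ) :
    h₁.left.ker = h₂.left.ker := by
  obtain ⟨W₁₂, α₂, a₁, sq⟩ := he₁.1 e₂
  obtain ⟨α₁, rfl⟩ := (yon S).map_surjective a₁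
  have h1e : Etale α₁.left := he₂.property e₁ _ α₁ sq.flip
  have h1s : Surjective α₁.left := hs₂.property e₁ _ α₁ sq.flip
  have h2e : Etale α₂.left := he₁.property e₂ _ α₂ sq
  have h2s : Surjective α₂.left := hs₁.property e₂ _ α₂ sq
  have hcomm : α₁ ≫ h₁ = α₂ ≫ h₂ := by
    apply (yon S).map_injective
    rw [Functor.map_comp, Functor.map_comp, hh₁, hh₂, ← Category.assoc, ← Category.assoc, sq.w]
  have hcl : α₁.left ≫ h₁.left = α₂.left ≫ h₂.left := by
    rw [← Over.comp_left, ← Over.comp_left, hcomm]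
  rw [← ker_comp_of_flat_surjective α₁.left h₁.left, ← ker_comp_of_flat_surjective α₂.left h₂.left,
    hcl]

/-- A presentation with a prescribed atlas. -/
theorem exists_presentation_of_atlas (Y : Space S) {U : Over S} (p : (yon S).obj U ⟶ Y.obj)
    (hpe : RepWith @Etale p) (hps : RepWith @Surjective p) :
    ∃ (R : Over S) (s t : R ⟶ U), IsPresentation s t p := by
  obtain ⟨R, s, fst, sq⟩ := hpe.1 p
  obtain ⟨t, rfl⟩ := (yon S).map_surjective fst
  exact ⟨R, s, t, isEtaleEqvRel_of_isPullback s t p hpe sq, hpe, hps, sq⟩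

end Groth.Agent.Lib.Helper3.SchIm
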