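import Groth.Agent.Lib.Helper3.SchImQC1
set_option autoImplicit false
universe u
open CategoryTheory CategoryTheory.Limits AlgebraicGeometry Opposite AlgSp

namespace Groth.Agent.Lib.Helper3.SchIm

variable {S : Scheme.{u}}

/-- Base change of a chart of `V ×_Y U` along a morphism `r : R ⟶ U` of schemes. -/
theorem exists_chart_base_change {V Y : Sp S} (g : V ⟶ Y) {U W R : Over S}
    (p : (yon S).obj U ⟶ Y) (e : (yon S).obj W ⟶ V) (h : W ⟶ U)
    (hw : e ≫ g = (yon S).map h ≫ p)
    (hêe : RepWith @Etale (pullback.lift e ((yon S).map h) hw))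
    (hês : RepWith @Surjective (pullback.lift e ((yon S).map h) hw))
    (r : R ⟶ U) (pR : (yon S).obj R ⟶ Y) (hr : (yon S).map r ≫ p = pR) :
    ∃ eR : (yon S).obj (pullback h r) ⟶ pullback g pR,
      RepWith @Etale eR ∧ RepWith @Surjective eR ∧
      eR ≫ pullback.snd g pR = (yon S).map (pullback.snd h r) := by
  subst hr
  have hwR : ((yon S).map (pullback.fst h r) ≫ e) ≫ g =
      (yon S).map (pullback.snd h r) ≫ ((yon S).map r ≫ p) := by
    rw [Category.assoc, hw, ← Category.assoc, ← Functor.map_comp, pullback.condition,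
      Functor.map_comp, Category.assoc]
  -- the comparison of the two fibre products
  have hρw : pullback.fst g ((yon S).map r ≫ p) ≫ g =
      (pullback.snd g ((yon S).map r ≫ p) ≫ (yon S).map r) ≫ p := by
    rw [Category.assoc]; exact pullback.condition
  have sqρ : IsPullback (pullback.lift _ _ hρw) (pullback.snd g ((yon S).map r ≫ p))
      (pullback.snd g p) ((yon S).map r) := by
    refine IsPullback.of_right ?_ (pullback.lift_snd _ _ _) (IsPullback.of_hasPullback g p)
    rw [pullback.lift_fst]
    exact IsPullback.of_hasPullback g ((yon S).map r ≫ p)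
  have sqL : IsPullback (pullback.lift _ _ hwR) ((yon S).map (pullback.fst h r))
      (pullback.lift _ _ hρw) (pullback.lift e ((yon S).map h) hw) := by
    refine IsPullback.of_right ?_ ?_ sqρ.flip
    · rw [pullback.lift_snd, pullback.lift_snd]
      exact ((IsPullback.of_hasPullback h r).map (yon S)).flip
    · apply pullback.hom_ext
      · rw [Category.assoc, pullback.lift_fst, pullback.lift_fst, Category.assoc, pullback.lift_fst]
      · rw [Category.assoc, pullback.lift_snd, ← Category.assoc, pullback.lift_snd, Category.assoc,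
          pullback.lift_snd, ← Functor.map_comp, ← Functor.map_comp, pullback.condition]
  exact ⟨pullback.lift _ _ hwR, MorphismProperty.of_isPullback sqL.flip hêe,
    MorphismProperty.of_isPullback sqL.flip hês, pullback.lift_snd _ _ _⟩

/-- Invariance of the kernel of a good chart. -/
theorem ker_invariant_of_good_chart {V Y : Sp S} (g : V ⟶ Y) {U W R : Over S}
    (p : (yon S).obj U ⟶ Y) (e : (yon S).obj W ⟶ V) (h : W ⟶ U)
    (hw : e ≫ g = (yon S).map h ≫ p)
    (hêe : RepWith @Etale (pullback.lift e ((yon S).map h) hw))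
    (hês : RepWith @Surjective (pullback.lift e ((yon S).map h) hw))
    [QuasiCompact h.left] (s t : R ⟶ U) [Flat s.left] [Flat t.left]
    (hst : (yon S).map s ≫ p = (yon S).map t ≫ p) :
    h.left.ker.comap s.left = h.left.ker.comap t.left := by
  rw [ker_comap_of_flat, ker_comap_of_flat, ← ker_over_pullback_snd, ← ker_over_pullback_snd]
  obtain ⟨e₁, h1e, h1s, h1⟩ := exists_chart_base_change g p e h hw hêe hês s _ rfl
  obtain ⟨e₂, h2e, h2s, h2⟩ := exists_chart_base_change g p e h hw hêe hês t _ hst.symm
  exact ker_eq_of_charts (pullback.snd g ((yon S).map s ≫ p)) e₁ e₂ h1e h1s h2e h2s _ _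
    h1.symm h2.symm

/-- **Chart description of the scheme theoretic image, good chart.** -/
theorem isSchImage_of_good_chart {V Y : Space S} (g : V ⟶ Y) {R U W : Over S} (s t : R ⟶ U)
    (p : (yon S).obj U ⟶ Y.obj) (hp : IsPresentation s t p) (e : (yon S).obj W ⟶ V.obj)
    (h : W ⟶ U) (hw : e ≫ g.hom = (yon S).map h ≫ p)
    (hêe : RepWith @Etale (pullback.lift e ((yon S).map h) hw))
    (hês : RepWith @Surjective (pullback.lift e ((yon S).map h) hw))
    [QuasiCompact h.left] :
    ∃ (Z : Space S) (i : Z ⟶ Y)
      (q : (yon S).obj (Over.mk (h.left.ker.subschemeι ≫ U.hom)) ⟶ Z.obj),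
      IsSchImage g.hom i.hom ∧
      IsPullback q ((yon S).map (Over.homMk h.left.ker.subschemeι rfl :
        Over.mk (h.left.ker.subschemeι ≫ U.hom) ⟶ U)) i.hom p := by
  have hst : (yon S).map s ≫ p = (yon S).map t ≫ p := hp.isPullback.w.symm
  have : Flat s.left := by have := hp.eqvRel.etale_left; infer_instance
  have : Flat t.left := by have := hp.eqvRel.etale_right; infer_instance
  have hinv := ker_invariant_of_good_chart g.hom p e h hw hêe hês s t hst
  have hepi1 : Epi (pullback.lift e ((yon S).map h) hw) := epi_of_etale_surjective _ hêe hês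
  have sqP := IsPullback.of_hasPullback g.hom p
  have hepi2 : Epi (pullback.fst g.hom p) := epi_of_etale_surjective _
    (MorphismProperty.of_isPullback sqP.flip hp.etale)
    (MorphismProperty.of_isPullback sqP.flip hp.surjective)
  have hepi : Epi e := by
    rw [← pullback.lift_fst e ((yon S).map h) hw]
    exact epi_comp _ _
  exact isSchImage_of_chart g s t p hp e h hw h.left.ker
    ⟨⟨hinv, le_refl _⟩, fun I hI => hI.2⟩

end Groth.Agent.Lib.Helper3.SchIm
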