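import Groth.Agent.Lib.Helper3.SchImQC2
import Groth.Agent.Lib.Helper3.AlgSpQC5
import Groth.Agent.S10213
set_option autoImplicit false
universe u
open CategoryTheory CategoryTheory.Limits AlgebraicGeometry Opposite AlgSp

namespace Groth.Agent.Lib.Helper3.SchIm

variable {S : Scheme.{u}}

/-- A member of a disjoint open cover is closed. -/
theorem isClosed_of_disjoint_cover {U₀ : Scheme.{u}} {ι : Type*} (O : ι → U₀.Opens)
    (hsup : ⨆ i, O i = ⊤) (hdisj : ∀ i j, i ≠ j → Disjoint (O i) (O j)) (i : ι) :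
    IsClosed (O i : Set U₀) := by
  rw [← isOpen_compl_iff]
  have : ((O i : Set U₀))ᶜ = ⋃ j ∈ {j | j ≠ i}, (O j : Set U₀) := by
    ext x
    simp only [Set.mem_compl_iff, SetLike.mem_coe, Set.mem_iUnion, Set.mem_ofPred_eq, exists_prop]
    constructor
    · intro hx
      have hx' : x ∈ (⨆ i, O i : U₀.Opens) := by rw [hsup]; trivial
      obtain ⟨j, hj⟩ := TopologicalSpace.Opens.mem_iSup.1 hx'
      exact ⟨j, fun hji => hx (hji ▸ hj), hj⟩
    · rintro ⟨j, hji, hj⟩ hx
      exact (hdisj j i hji).le_bot ⟨hj, hx⟩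
  rw [this]
  exact isOpen_biUnion fun j _ => (O j).isOpen

/-- Shrinking a chart over a disjoint affine cover to a quasi-compact one. -/
theorem quasiCompact_of_disjoint_cover {W' U₀ : Scheme.{u}} (h₀ : W' ⟶ U₀) {ι : Type*}
    (O : ι → U₀.Opens) (hO : ∀ i, IsAffineOpen (O i)) (hsup : ⨆ i, O i = ⊤)
    (hdisj : ∀ i j, i ≠ j → Disjoint (O i) (O j)) (W'' : ι → W'.Opens)
    (hc : ∀ i, IsCompact (W'' i : Set W')) :
    QuasiCompact ((⨆ i, W'' i ⊓ h₀ ⁻¹ᵁ O i).ι ≫ h₀) := by
  rw [HasAffineProperty.iff_of_iSup_eq_top (P := @QuasiCompact) (fun i => ⟨O i, hO i⟩) hsup]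
  intro i
  change CompactSpace ↥(((⨆ i, W'' i ⊓ h₀ ⁻¹ᵁ O i).ι ≫ h₀) ⁻¹ᵁ O i)
  refine isCompact_iff_compactSpace.1 ?_
  have hK : IsCompact ((W'' i : Set W') ∩ (h₀ ⁻¹ᵁ O i : Set W')) :=
    (hc i).inter_right ((isClosed_of_disjoint_cover O hsup hdisj i).preimage h₀.continuous)
  have hsub : ((W'' i : Set W') ∩ (h₀ ⁻¹ᵁ O i : Set W')) ⊆
      Set.range (⨆ i, W'' i ⊓ h₀ ⁻¹ᵁ O i).ι := by
    rw [Scheme.Opens.range_ι]
    intro x hx
    exact TopologicalSpace.Opens.mem_iSup.2 ⟨i, hx⟩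
  have key := ((⨆ i, W'' i ⊓ h₀ ⁻¹ᵁ O i).ι.isOpenEmbedding.isInducing.isCompact_preimage_iff
    hsub).2 hK
  convert key using 1
  ext y
  constructor
  · intro hy
    have hy' : h₀ ((⨆ i, W'' i ⊓ h₀ ⁻¹ᵁ O i).ι y) ∈ O i := by
      simpa using hy
    obtain ⟨j, hj⟩ := TopologicalSpace.Opens.mem_iSup.1 y.2
    have hji : j = i := by
      by_contra hne
      exact (hdisj j i hne).le_bot ⟨hj.2, hy'⟩
    subst hji
    exact ⟨hj.1, hy'⟩
  · rintro ⟨-, hy⟩
    simpa using hy

/-- **Existence of good charts** for a quasi-compact morphism of algebraic spaces. -/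
theorem exists_good_chart {V Y : Space S} (g : V ⟶ Y) (hq : IsQuasiCompactMor g.hom) :
    ∃ (R U W : Over S) (s t : R ⟶ U) (p : (yon S).obj U ⟶ Y.obj) (_ : IsPresentation s t p)
      (e : (yon S).obj W ⟶ V.obj) (h : W ⟶ U) (hw : e ≫ g.hom = (yon S).map h ≫ p),
      RepWith @Etale (pullback.lift e ((yon S).map h) hw) ∧
      RepWith @Surjective (pullback.lift e ((yon S).map h) hw) ∧ QuasiCompact h.left := by
  obtain ⟨ι, Vi, hVi, q, p, hpe, hps, -⟩ := Groth.Agent.S10213.result Y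
  obtain ⟨R, s, t, hp⟩ := exists_presentation_of_atlas Y p hpe hps
  have sqP := IsPullback.of_hasPullback g.hom p
  have hVU : IsAlgSpace (pullback g.hom p) :=
    isAlgSpace_of_isPullback' Y.property V.property (IsAlgSpace.yon_obj _) sqP
  obtain ⟨W', ê₀, hêe, hês⟩ := hVU.atlas
  obtain ⟨h₀, hh₀⟩ := (yon S).map_surjective (ê₀ ≫ pullback.snd g.hom p)
  let O : ι → (∐ Vi).Opens := fun i => (Sigma.ι Vi i).opensRange
  have hO : ∀ i, IsAffineOpen (O i) := fun i => isAffineOpen_opensRange _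
  have hsup : ⨆ i, O i = ⊤ := (sigmaOpenCover Vi).iSup_opensRange
  have hdisj : ∀ i j, i ≠ j → Disjoint (O i) (O j) := disjoint_opensRange_sigmaι Vi
  have hopen : IsOpenMap (Points.map ê₀) := isOpenMap_map_of_etale hêe
  have hsurj : Function.Surjective (Points.map ê₀) := surjective_map_of_repWith hês
  have key : ∀ i, ∃ Wi : W'.left.Opens, IsCompact (Wi : Set ↥W'.left) ∧
      ∀ x : Points (pullback g.hom p),
        Points.map (pullback.snd g.hom p) x ∈
          Points.schemeHomeo (Over.mk q) '' (O i : Set ↥(∐ Vi)) →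
        ∃ w ∈ Wi, Points.map ê₀ (Points.schemeHomeo W' w) = x := by
    intro i
    let Ui : Over S := Over.mk (Sigma.ι Vi i ≫ q)
    let ji : Ui ⟶ Over.mk q := Over.homMk (Sigma.ι Vi i) rfl
    have sqG := IsPullback.of_hasPullback (pullback.snd g.hom p) ((yon S).map ji)
    have hc : CompactSpace ↥Ui.left := by
      change CompactSpace ↥(Vi i)
      infer_instance
    have hGq : IsQuasiCompactSp (pullback (pullback.snd g.hom p) ((yon S).map ji)) :=
      hq (IsAlgSpace.yon_obj Ui) (isQuasiCompactSp_yon hc) _ _ _ (sqG.paste_horiz sqP)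
    have hcomp : CompactSpace (Points (pullback (pullback.snd g.hom p) ((yon S).map ji))) :=
      compactSpace_points_of_isQuasiCompactSp hGq
    have hK : IsCompact (Set.range (Points.map
        (pullback.fst (pullback.snd g.hom p) ((yon S).map ji)))) :=
      isCompact_range (Points.continuous_map _)
    obtain ⟨Wi, hWic, hWi⟩ := exists_compact_open_of_isCompact' ê₀ hopen _ hK (by
      rw [hsurj.range_eq]; exact Set.subset_univ _)
    refine ⟨Wi, hWic, fun x hx => ?_⟩
    obtain ⟨u, hu, hxu⟩ := hx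
    obtain ⟨v, rfl⟩ := hu
    have hxv : Points.map (pullback.snd g.hom p) x =
        Points.map ((yon S).map ji) (Points.schemeHomeo Ui v) := by
      rw [Points.map_yon_map_apply]; exact hxu.symm
    obtain ⟨z, hz1, hz2⟩ := Points.exists_of_isPullback sqG x (Points.schemeHomeo Ui v) hxv
    obtain ⟨_, ⟨w, hw, rfl⟩, hwx⟩ := hWi ⟨z, hz1⟩
    exact ⟨w, hw, hwx⟩
  choose Wi hWic hWi using key
  let W'' : W'.left.Opens := ⨆ i, Wi i ⊓ h₀.left ⁻¹ᵁ O i
  let W : Over S := Over.mk (W''.ι ≫ W'.hom)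
  let jW : W ⟶ W' := Over.homMk W''.ι rfl
  have hjWe : RepWith @Etale ((yon S).map jW) :=
    (repWith_yon_map_iff _ _).2 (inferInstance : Etale W''.ι)
  have hw : ((yon S).map jW ≫ ê₀ ≫ pullback.fst g.hom p) ≫ g.hom =
      (yon S).map (jW ≫ h₀) ≫ p := by
    rw [Functor.map_comp, hh₀, Category.assoc, Category.assoc, Category.assoc, Category.assoc,
      pullback.condition]
  have hlift : pullback.lift _ _ hw = (yon S).map jW ≫ ê₀ := by
    apply pullback.hom_ext
    · rw [pullback.lift_fst, Category.assoc]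
    · rw [pullback.lift_snd, Functor.map_comp, hh₀, Category.assoc]
  refine ⟨R, Over.mk q, W, s, t, p, hp, (yon S).map jW ≫ ê₀ ≫ pullback.fst g.hom p, jW ≫ h₀, hw,
    ?_, ?_, ?_⟩
  · rw [hlift]; exact MorphismProperty.comp_mem _ _ _ hjWe hêe
  · rw [hlift]
    have hrep : Representable ((yon S).map jW ≫ ê₀) :=
      (MorphismProperty.comp_mem _ _ _ hjWe hêe).1
    rw [Groth.Agent.S9906.repWith_surjective_iff _ hrep]
    intro x
    obtain ⟨u, hu⟩ := (Points.schemeHomeo (Over.mk q)).surjective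
      (Points.map (pullback.snd g.hom p) x)
    have hu' : u ∈ (⨆ i, O i : (∐ Vi).Opens) := by rw [hsup]; trivial
    obtain ⟨i, hi⟩ := TopologicalSpace.Opens.mem_iSup.1 hu'
    obtain ⟨w, hwW, hwx⟩ := hWi i x ⟨u, hi, hu⟩
    have hh₀w : h₀.left w ∈ O i := by
      have : Points.schemeHomeo (Over.mk q) (h₀.left w) = Points.schemeHomeo (Over.mk q) u := by
        rw [← Points.map_yon_map_apply, hh₀, Points.map_comp, hwx, hu]
      rw [(Points.schemeHomeo (Over.mk q)).injective this]; exact hi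
    have hwW'' : w ∈ W'' := TopologicalSpace.Opens.mem_iSup.2 ⟨i, hwW, hh₀w⟩
    refine ⟨Points.schemeHomeo W ⟨w, hwW''⟩, ?_⟩
    rw [Points.map_comp, Points.map_yon_map_apply]
    exact hwx
  · exact quasiCompact_of_disjoint_cover h₀.left O hO hsup hdisj Wi hWic

end Groth.Agent.Lib.Helper3.SchIm
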