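import Groth.Agent.Lib.Helper3.OnePt3
import Groth.Agent.Lib.Helper3.OpenSch
import Groth.Agent.Lib.Helper3.QSepChart

set_option autoImplicit false
universe u w

namespace Groth.Agent.Lib.Helper3.SchLoc

open CategoryTheory CategoryTheory.Limits AlgebraicGeometry Opposite AlgSp
open Groth.Agent.Lib.Helper3 Groth.Agent.Lib.Helper3.GenDense Groth.Agent.Lib.Helper3.GenFinSp
  Groth.Agent.Lib.Helper3.RelNorm

variable {S : Scheme.{u}}

/-- For a quasi-separated sheaf, the fibre product of two affine charts lying over a common affine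
open of the base is quasi-compact. -/
theorem compactSpace_of_isPullback_of_isQuasiSeparatedSp {X : Sp S} (hqs : IsQuasiSeparatedSp X)
    {U T P : Over S} [IsAffine U.left] [IsAffine T.left] (W : S.Opens) (hW : IsAffineOpen W)
    (hU : ∀ v : ↥U.left, U.hom v ∈ W) (hT : ∀ v : ↥T.left, T.hom v ∈ W)
    (p : (yon S).obj U ⟶ X) (ξ : (yon S).obj T ⟶ X) (fst' : P ⟶ U) (snd : P ⟶ T)
    (sq : IsPullback ((yon S).map fst') ((yon S).map snd) p ξ) : CompactSpace ↥P.left := by
  have sqD := isPullback_diag_of_isPullback sq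
  rw [prod_lift_yon'] at sqD
  replace sqD := isPullback_shift_iso sqD
  have hqc : QuasiCompact (prod.lift fst' snd).left := hqs.2 _ _ _ sqD
  have : CompactSpace ↥(pullback U.hom T.hom) :=
    QSepChart.compactSpace_pullback_of_affine W hW hU hT
  have : CompactSpace ↥(U ⨯ T).left :=
    (Over.prodLeftIsoPullback U T).hom.homeomorph.symm.compactSpace
  exact QuasiCompact.compactSpace_of_compactSpace (prod.lift fst' snd).left

/-- If all base changes of `f` along the etale chart `c` are finite, then `f` is finite over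
the open image of `c`. -/
theorem isFiniteMor_over_range {X Y : Sp S} (hX : IsAlgSpace X) (hY : IsAlgSpace Y) (f : X ⟶ Y)
    {V : Over S} (c : (yon S).obj V ⟶ Y) (hce : RepWith @Etale c)
    (hO : ∀ (X' : Sp S) (fst : X' ⟶ X) (snd : X' ⟶ (yon S).obj V),
      IsPullback fst snd f c → IsFiniteMor snd) :
    IsFiniteMor (pullback.fst (openSubι Y (Set.range (Points.ofPt c))) f) := by
  let Ω : Set (Points Y) := Set.range (Points.ofPt c)
  have hΩ : IsOpen Ω := by
    change IsOpen (Set.range (Points.ofPt c))
    rw [← range_map_eq_range_ofPt]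
    exact (isOpenMap_map_of_etale hce).isOpen_range
  have hj : RepWith @IsOpenImmersion (openSubι Y Ω) := repWith_isOpenImmersion_openSubι Y Ω hΩ
  have hY' : IsAlgSpace (openSub Y Ω) := isAlgSpace_openSub hY Ω hΩ
  have : Mono (openSubι Y Ω) := mono_of_repWith_isOpenImmersion _ hj
  obtain ⟨a', ha'j, ha'e, ha's, -⟩ := exists_factor_surjective_etale c hce (openSubι Y Ω) hj
    (range_map_openSubι Y Ω)
  let X' : Sp S := pullback (openSubι Y Ω) f
  have sqX : IsPullback (pullback.fst (openSubι Y Ω) f) (pullback.snd (openSubι Y Ω) f)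
      (openSubι Y Ω) f := IsPullback.of_hasPullback _ _
  have hX' : IsAlgSpace X' := isAlgSpace_of_isPullback' hY hY' hX sqX
  let P : Sp S := pullback (pullback.fst (openSubι Y Ω) f) a'
  have sqP : IsPullback (pullback.fst (pullback.fst (openSubι Y Ω) f) a')
      (pullback.snd (pullback.fst (openSubι Y Ω) f) a')
      (pullback.fst (openSubι Y Ω) f) a' := IsPullback.of_hasPullback _ _
  have hfin : IsFiniteMor (pullback.snd (pullback.fst (openSubι Y Ω) f) a') := by
    refine hO P (pullback.fst _ _ ≫ pullback.snd _ _) _ ?_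
    have := (sqP.flip.paste_vert sqX).flip
    rw [ha'j] at this
    exact this
  exact ((Groth.Agent.S10268.result (X := ⟨X', hX'⟩) (Y := ⟨openSub Y Ω, hY'⟩)
    (ObjectProperty.homMk (pullback.fst _ _)) V a' ha'e ha's _ _ sqP).2 hfin)

end Groth.Agent.Lib.Helper3.SchLoc
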