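import Groth.Agent.Lib.Helper3.SchLoc1

set_option autoImplicit false
universe u w

namespace Groth.Agent.Lib.Helper3.SchLoc

open CategoryTheory CategoryTheory.Limits AlgebraicGeometry Opposite AlgSp
open Groth.Agent.Lib.Helper3 Groth.Agent.Lib.Helper3.GenDense Groth.Agent.Lib.Helper3.GenFinSp
  Groth.Agent.Lib.Helper3.RelNorm

variable {S : Scheme.{u}}

/-- **Local step.** A codimension 0 point of an affine etale chart whose relation is quasi-compact
over the chart has an open neighbourhood in `X` which is a scheme. -/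
theorem exists_open_subscheme_of_qc_chart {X : Sp S} (hX : IsAlgSpace X) {U R : Over S}
    [IsAffine U.left] (a : (yon S).obj U ⟶ X) (hae : RepWith @Etale a) (s t : R ⟶ U)
    (kp : IsPullback ((yon S).map t) ((yon S).map s) a a) [QuasiCompact s.left] (u : ↥U.left)
    (hdim : ringKrullDim ↥(U.left.presheaf.stalk u) = 0) :
    ∃ (M : Over S) (b : (yon S).obj M ⟶ X), RepWith @IsOpenImmersion b ∧
      Points.ofPt a u ∈ Set.range (Points.ofPt b) := by
  have hu : ∀ u' : ↥U.left, u' ⤳ u → u' = u := fun u' h =>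
    Groth.Agent.Lib.lead.QFCodim.eq_of_specializes_of_dim_zero U.left hdim h
  have heq : IsEqvRel s t := DecMono.isEqvRel_of_kernelPair a s t kp
  have hsep : IsSeparated s.left := OnePt.isSeparated_of_isEqvRel s t heq
  have hset : Etale s.left := hae.2 a ((yon S).map t) s kp
  have hlqf : LocallyQuasiFinite s.left := locallyQuasiFinite_of_etale s.left
  obtain ⟨V, huV, hfinV⟩ := Groth.Agent.Lib.lead.GenFiniteSep.main s.left u hu
    (fun r _ => s.left.quasiFiniteAt r)
  -- the chart `V ⟶ X`
  let c : (yon S).obj (opOver U V) ⟶ X := (yon S).map (opι U V) ≫ a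
  have hιe : RepWith @Etale ((yon S).map (opι U V)) := by
    rw [repWith_yon_map_iff]
    change Etale V.ι
    infer_instance
  have hce : RepWith @Etale c := MorphismProperty.comp_mem _ _ _ hιe hae
  -- the standard pullback
  have sq₀ : IsPullback ((yon S).map (opι R (s.left ⁻¹ᵁ V)) ≫ (yon S).map t)
      ((yon S).map (opRes s V)) a c :=
    ((isPullback_opRes s V).map (yon S)).paste_horiz kp
  have hres : IsFiniteMor ((yon S).map (opRes s V)) := by
    rw [isFiniteMor_iff_repWith, repWith_yon_map_iff]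
    exact hfinV
  have hO : ∀ (X' : Sp S) (fst : X' ⟶ (yon S).obj U) (snd : X' ⟶ (yon S).obj (opOver U V)),
      IsPullback fst snd a c → IsFiniteMor snd := by
    intro X' fst snd sq
    have hsnd : snd = (sq.isoIsPullback _ _ sq₀).hom ≫ (yon S).map (opRes s V) :=
      (IsPullback.isoIsPullback_hom_snd _ _ sq sq₀).symm
    rw [hsnd, isFiniteMor_iff_repWith]
    exact (MorphismProperty.cancel_left_of_respectsIso (RepWith (S := S) @IsFinite) _ _).2
      ((isFiniteMor_iff_repWith _).1 hres)
  have hfin := isFiniteMor_over_range (IsAlgSpace.yon_obj U) hX a c hce hO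
  -- the open subspace
  let Ω : Set (Points X) := Set.range (Points.ofPt c)
  have hΩ : IsOpen Ω := by
    change IsOpen (Set.range (Points.ofPt c))
    rw [← range_map_eq_range_ofPt]
    exact (isOpenMap_map_of_etale hce).isOpen_range
  have hj : RepWith @IsOpenImmersion (openSubι X Ω) := repWith_isOpenImmersion_openSubι X Ω hΩ
  have hX' : IsAlgSpace (openSub X Ω) := isAlgSpace_openSub hX Ω hΩ
  have hjm : Mono (openSubι X Ω) := mono_of_repWith_isOpenImmersion _ hj
  obtain ⟨V₂, a₂, i₂, sq₂, hi₂, hri₂⟩ := exists_isPullback_openSubι X Ω hΩ a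
  -- `a₂` is finite etale surjective
  have ha₂e : RepWith @Etale a₂ := MorphismProperty.of_isPullback sq₂.flip hae
  have ha₂f : RepWith @IsFinite a₂ := by
    have sqp := IsPullback.of_hasPullback (openSubι X Ω) a
    have hsnd : a₂ = (sq₂.isoIsPullback _ _ sqp).hom ≫ pullback.fst (openSubι X Ω) a :=
      (IsPullback.isoIsPullback_hom_fst _ _ sq₂ sqp).symm
    rw [hsnd]
    exact (MorphismProperty.cancel_left_of_respectsIso (RepWith (S := S) @IsFinite) _ _).2
      ((isFiniteMor_iff_repWith _).1 hfin)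
  have ha₂s : RepWith @Surjective a₂ := by
    refine (Groth.Agent.S9906.repWith_surjective_iff a₂ ha₂e.rep).2 ?_
    intro y
    have hy : Points.map (openSubι X Ω) y ∈ Ω := by
      have : Points.map (openSubι X Ω) y ∈ Set.range (Points.map (openSubι X Ω)) := ⟨y, rfl⟩
      rwa [range_map_openSubι] at this
    obtain ⟨v, hv⟩ := hy
    have hxy : Points.map (openSubι X Ω) y =
        Points.map a (Points.schemeHomeo U ((opι U V).left v)) := by
      rw [← hv]
      change Points.ofPt ((yon S).map (opι U V) ≫ a) v = _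
      rw [SpUC.ofPt_comp_yon_map]
      rfl
    obtain ⟨z, hz, -⟩ := Points.exists_of_isPullback sq₂ y _ hxy
    exact ⟨z, hz⟩
  have hV₂qs : QuasiSeparatedSpace ↥V₂.left := by
    have : IsOpenImmersion i₂.left := hi₂
    exact quasiSeparatedSpace_of_quasiSeparated i₂.left
  obtain ⟨X'', j'', hj'', hrep, -, hcod⟩ := OpenSch.main10204 ⟨openSub X Ω, hX'⟩ a₂ ha₂f ha₂e ha₂s
  obtain ⟨M, ⟨eM⟩⟩ := hrep
  let e : (yon S).obj M ≅ X''.obj := isoOfRepresentableBy eM
  refine ⟨M, e.hom ≫ j''.hom ≫ openSubι X Ω, ?_, ?_⟩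
  · exact (MorphismProperty.cancel_left_of_respectsIso (RepWith (S := S) @IsOpenImmersion) _ _).2
      (MorphismProperty.comp_mem _ _ _ hj'' hj)
  · -- the point
    obtain ⟨a', ha'j, ha'e, -, -⟩ := exists_factor_surjective_etale c hce (openSubι X Ω) hj
      (range_map_openSubι X Ω)
    let v : ↥(opOver U V).left := ⟨u, huV⟩
    have hdimv : ringKrullDim ↥((opOver U V).left.presheaf.stalk v) = 0 :=
      (ringKrullDim_stalk_eq_of_etale (Scheme.Opens.ι V) v).trans hdim
    have hmem := hcod (Points.ofPt a' v) ⟨opOver U V, a', v, ha'e, rfl, hdimv⟩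
    obtain ⟨z, hz⟩ := hmem
    obtain ⟨m, hm⟩ := (Points.schemeHomeo M).surjective (Points.map e.inv z)
    refine ⟨m, ?_⟩
    rw [Points.ofPt_eq_map_ofScheme]
    change Points.map (e.hom ≫ j''.hom ≫ openSubι X Ω) (Points.schemeHomeo M m) = _
    rw [hm, Points.map_comp, ← Points.map_comp e.inv, Iso.inv_hom_id, Points.map_id,
      Points.map_comp, hz, Points.map_ofPt, ha'j]
    change Points.ofPt ((yon S).map (opι U V) ≫ a) v = _
    rw [SpUC.ofPt_comp_yon_map]
    rfl

end Groth.Agent.Lib.Helper3.SchLoc
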