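import Groth.Agent.Lib.Helper3.SchLoc2
import Groth.Prelude.Def_AlgSpCov

set_option autoImplicit false
universe u w

namespace Groth.Agent.Lib.Helper3.SchLoc

open CategoryTheory CategoryTheory.Limits AlgebraicGeometry Opposite AlgSp
open Groth.Agent.Lib.Helper3 Groth.Agent.Lib.Helper3.GenDense Groth.Agent.Lib.Helper3.GenFinSp
  Groth.Agent.Lib.Helper3.RelNorm

variable {S : Scheme.{u}}

/-- A union of open subschemes is an open subscheme. -/
theorem exists_iso_yon_openSub_iUnion {X : Sp S} {ι : Type u} (M : ι → Over S)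
    (b : ∀ i, (yon S).obj (M i) ⟶ X) (hb : ∀ i, RepWith @IsOpenImmersion (b i)) :
    ∃ (G : Over S), Nonempty ((yon S).obj G ≅ openSub X (⋃ i, Set.range (Points.ofPt (b i)))) := by
  have hΩi : ∀ i, IsOpen (Set.range (Points.ofPt (b i))) := fun i => by
    rw [← range_map_eq_range_ofPt]
    exact (isOpenMap_map_of_etale (repWith_mono isOpenImmersion_le_etale (hb i))).isOpen_range
  have hΩ : IsOpen (⋃ i, Set.range (Points.ofPt (b i))) := isOpen_iUnion hΩi
  generalize hΩdef : (⋃ i, Set.range (Points.ofPt (b i))) = Ω at hΩ ⊢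
  have hj : RepWith @IsOpenImmersion (openSubι X Ω) := repWith_isOpenImmersion_openSubι X Ω hΩ
  have hjm : Mono (openSubι X Ω) := mono_of_repWith_isOpenImmersion _ hj
  have hfac : ∀ i, ∃ b' : (yon S).obj (M i) ⟶ openSub X Ω, b' ≫ openSubι X Ω = b i := fun i =>
    exists_factor_of_range_subset (openSubι X Ω) hj (b i) (by
      rw [range_map_openSubι, range_map_eq_range_ofPt, ← hΩdef]
      exact Set.subset_iUnion (fun i => Set.range (Points.ofPt (b i))) i)
  choose b' hb' using hfac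
  have hb'o : ∀ i, RepWith @IsOpenImmersion (b' i) := by
    intro i
    have s1 : IsPullback (b' i) (𝟙 _) (𝟙 _) (b' i) := IsPullback.id_vert (b' i)
    have s2 : IsPullback (𝟙 (openSub X Ω)) (𝟙 _) (openSubι X Ω) (openSubι X Ω) :=
      IsKernelPair.id_of_mono _
    have s3 := s1.paste_horiz s2
    rw [Category.comp_id, hb' i] at s3
    exact MorphismProperty.of_isPullback s3.flip (hb i)
  have hs : ∀ x : Points (openSub X Ω), ∃ (i : ι) (m : ↥(M i).left),
      Points.ofPt (b' i) m = x := by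
    intro x
    have hx : Points.map (openSubι X Ω) x ∈ Ω := by
      have : Points.map (openSubι X Ω) x ∈ Set.range (Points.map (openSubι X Ω)) := ⟨x, rfl⟩
      rwa [range_map_openSubι] at this
    have hx' : Points.map (openSubι X Ω) x ∈ ⋃ i, Set.range (Points.ofPt (b i)) := hΩdef ▸ hx
    obtain ⟨i, m, hm⟩ := Set.mem_iUnion.1 hx'
    refine ⟨i, m, ?_⟩
    apply Points.map_injective_of_mono (openSubι X Ω)
    rw [Points.map_ofPt, hb' i]
    exact hm
  obtain ⟨G, e, -, -, -, -⟩ := exists_iso_yon_of_openCover b' hb'o hs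
  exact ⟨G, ⟨e⟩⟩

/-- The quasi-separated local statement: every codimension 0 point of a Zariski locally
quasi-separated algebraic space has an open neighbourhood which is a scheme. -/
theorem exists_open_subscheme_nhd_of_zlqs (X : AlgSp.Space S)
    (hX : ∃ (ι : Type u) (Xi : ι → AlgSp.Space S) (j : ∀ i, Xi i ⟶ X),
        AlgSp.IsZarCover (fun i => (Xi i).obj) (fun i => (j i).hom) ∧
          ∀ i, AlgSp.IsQuasiSeparatedSp (Xi i).obj)
    (x : Points X.obj) (hx : HasAt D0 X.obj x) :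
    ∃ (M : Over S) (b : (yon S).obj M ⟶ X.obj), RepWith @IsOpenImmersion b ∧
      x ∈ Set.range (Points.ofPt b) := by
  obtain ⟨ι, Xi, j, ⟨hjo, hjs⟩, hqs⟩ := hX
  obtain ⟨i, xi, rfl⟩ := hjs x
  have hje : RepWith @Etale (j i).hom := repWith_mono isOpenImmersion_le_etale (hjo i)
  have hxi : HasAt D0 (Xi i).obj xi := hasAt_of_etale (Xi i).property (j i).hom hje xi hx
  obtain ⟨U₁, a₁, u₁, -, ha₁e, ha₁u⟩ := exists_affine_chart_through (Xi i).property xi
  have hdim₁ : ringKrullDim ↥(U₁.left.presheaf.stalk u₁) = 0 :=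
    dim_zero_of_hasAt hxi a₁ ha₁e u₁ ha₁u
  -- shrink so that the chart lies over an affine open of `S`
  obtain ⟨_, ⟨(W : S.Opens), hW : IsAffineOpen W, rfl⟩, hu₁W, -⟩ :=
    (S.isBasis_affineOpens).exists_subset_of_mem_open (Set.mem_univ (U₁.hom u₁)) isOpen_univ
  obtain ⟨_, ⟨(O : U₁.left.Opens), hO : IsAffineOpen O, rfl⟩, hu₁O, hOW⟩ :=
    (U₁.left.isBasis_affineOpens).exists_subset_of_mem_open
      (show u₁ ∈ ((U₁.hom ⁻¹ᵁ W : U₁.left.Opens) : Set ↥U₁.left) from hu₁W)
      (U₁.hom ⁻¹ᵁ W).isOpen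
  let U : Over S := opOver U₁ O
  have hUa : IsAffine U.left := hO
  let a : (yon S).obj U ⟶ (Xi i).obj := (yon S).map (opι U₁ O) ≫ a₁
  have hιe : RepWith @Etale ((yon S).map (opι U₁ O)) := by
    rw [repWith_yon_map_iff]
    change Etale O.ι
    infer_instance
  have hae : RepWith @Etale a := MorphismProperty.comp_mem _ _ _ hιe ha₁e
  let u : ↥U.left := ⟨u₁, hu₁O⟩
  have hau : Points.ofPt a u = xi := by
    rw [SpUC.ofPt_comp_yon_map]
    exact ha₁u
  have hdim : ringKrullDim ↥(U.left.presheaf.stalk u) = 0 :=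
    (ringKrullDim_stalk_eq_of_etale (Scheme.Opens.ι O) u).trans hdim₁
  have hUW : ∀ v : ↥U.left, U.hom v ∈ W := by
    intro v
    change (O.ι ≫ U₁.hom) v ∈ W
    rw [Scheme.Hom.comp_apply]
    exact hOW v.2
  obtain ⟨R, t, s, kp⟩ := exists_pullback_charts a hae.1 a
  have hRc : CompactSpace ↥R.left :=
    compactSpace_of_isPullback_of_isQuasiSeparatedSp (hqs i) W hW hUW hUW a a t s kp
  have hsqc : QuasiCompact s.left := (HasAffineProperty.iff_of_isAffine (P := @QuasiCompact)).2 hRc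
  obtain ⟨M, b, hbo, hbx⟩ := exists_open_subscheme_of_qc_chart (Xi i).property a hae s t kp u hdim
  refine ⟨M, b ≫ (j i).hom, MorphismProperty.comp_mem _ _ _ hbo (hjo i), ?_⟩
  rw [hau] at hbx
  obtain ⟨m, hm⟩ := hbx
  exact ⟨m, by rw [← Points.map_ofPt, hm]⟩

/-- **Dense open subscheme of a Zariski locally quasi-separated algebraic space.** -/
theorem main10200 (X : AlgSp.Space S)
    (hX : ∃ (ι : Type u) (Xi : ι → AlgSp.Space S) (j : ∀ i, Xi i ⟶ X),
        AlgSp.IsZarCover (fun i => (Xi i).obj) (fun i => (j i).hom) ∧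
          ∀ i, AlgSp.IsQuasiSeparatedSp (Xi i).obj) :
    ∃ (X' : AlgSp.Space S) (j : X' ⟶ X), AlgSp.RepWith @IsOpenImmersion j.hom ∧
      X'.obj.obj.IsRepresentable ∧
      Dense (Set.range (AlgSp.Points.map j.hom)) ∧
      ∀ x : AlgSp.Points X.obj, AlgSp.HasAt D0 X.obj x →
        x ∈ Set.range (AlgSp.Points.map j.hom) := by
  obtain ⟨U₀, a₀, ha₀e, ha₀s⟩ := X.property.atlas
  let ι : Type u := {u : ↥U₀.left // ringKrullDim ↥(U₀.left.presheaf.stalk u) = 0}
  have hloc : ∀ i : ι, ∃ (M : Over S) (b : (yon S).obj M ⟶ X.obj), RepWith @IsOpenImmersion b ∧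
      Points.ofPt a₀ i.1 ∈ Set.range (Points.ofPt b) := fun i =>
    exists_open_subscheme_nhd_of_zlqs X hX _ ⟨U₀, a₀, i.1, ha₀e, rfl, i.2⟩
  choose M b hbo hbx using hloc
  obtain ⟨G, ⟨e⟩⟩ := exists_iso_yon_openSub_iUnion M b hbo
  have hΩi : ∀ i, IsOpen (Set.range (Points.ofPt (b i))) := fun i => by
    rw [← range_map_eq_range_ofPt]
    exact (isOpenMap_map_of_etale (repWith_mono isOpenImmersion_le_etale (hbo i))).isOpen_range
  have hΩ : IsOpen (⋃ i, Set.range (Points.ofPt (b i))) := isOpen_iUnion hΩi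
  have hcod : ∀ x : Points X.obj, HasAt D0 X.obj x → x ∈ ⋃ i, Set.range (Points.ofPt (b i)) := by
    intro x hx
    obtain ⟨u, rfl⟩ := exists_ofPt_eq a₀ ha₀s x
    have hdim := dim_zero_of_hasAt hx a₀ ha₀e u rfl
    exact Set.mem_iUnion.2 ⟨⟨u, hdim⟩, hbx ⟨u, hdim⟩⟩
  have hdense := dense_of_codimZero_subset X.property _ hΩ hcod
  generalize (⋃ i, Set.range (Points.ofPt (b i))) = Ω at e hΩ hcod hdense
  refine ⟨⟨openSub X.obj Ω, isAlgSpace_openSub X.property Ω hΩ⟩,
    ObjectProperty.homMk (openSubι X.obj Ω), repWith_isOpenImmersion_openSubι X.obj Ω hΩ,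
    (representableByOfIso e).isRepresentable, ?_, ?_⟩
  · change Dense (Set.range (Points.map (openSubι X.obj Ω)))
    rw [range_map_openSubι]
    exact hdense
  · intro x hx
    change x ∈ Set.range (Points.map (openSubι X.obj Ω))
    rw [range_map_openSubι]
    exact hcod x hx

end Groth.Agent.Lib.Helper3.SchLoc
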