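import Groth.Agent.Lib.Helper3.SchLoc3
import Groth.Agent.Lib.Helper3.AlgSpImmersionPts
import Groth.Agent.S10192
import Groth.Agent.S10338
import Groth.Agent.Lib.Helper3.SchImSub

set_option autoImplicit false
universe u w

namespace Groth.Agent.Lib.Helper3.SchLoc

open CategoryTheory CategoryTheory.Limits AlgebraicGeometry Opposite AlgSp Topology
open Groth.Agent.Lib.Helper3 Groth.Agent.Lib.Helper3.GenDense Groth.Agent.Lib.Helper3.GenFinSp
  Groth.Agent.Lib.Helper3.RelNorm

variable {S : Scheme.{u}}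

/-- An embedding whose range is relatively open in a preirreducible set has preirreducible
source. -/
theorem preirreducibleSpace_of_isEmbedding {A B : Type*} [TopologicalSpace A] [TopologicalSpace B]
    (φ : A → B) (hφ : IsEmbedding φ) (T W₀ : Set B) (hT : IsPreirreducible T) (hW₀ : IsOpen W₀)
    (hr : Set.range φ = T ∩ W₀) : PreirreducibleSpace A := by
  refine ⟨?_⟩
  rintro O₁ O₂ hO₁ hO₂ ⟨a₁, -, ha₁⟩ ⟨a₂, -, ha₂⟩
  obtain ⟨W₁, hW₁, rfl⟩ := hφ.isInducing.isOpen_iff.1 hO₁
  obtain ⟨W₂, hW₂, rfl⟩ := hφ.isInducing.isOpen_iff.1 hO₂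
  have h1 : (T ∩ (W₁ ∩ W₀)).Nonempty := by
    have : φ a₁ ∈ T ∩ W₀ := hr ▸ Set.mem_range_self a₁
    exact ⟨φ a₁, this.1, ha₁, this.2⟩
  have h2 : (T ∩ (W₂ ∩ W₀)).Nonempty := by
    have : φ a₂ ∈ T ∩ W₀ := hr ▸ Set.mem_range_self a₂
    exact ⟨φ a₂, this.1, ha₂, this.2⟩
  obtain ⟨b, hbT, ⟨hb1, hb0⟩, ⟨hb2, -⟩⟩ := hT _ _ (hW₁.inter hW₀) (hW₂.inter hW₀) h1 h2
  have hb : b ∈ Set.range φ := hr ▸ ⟨hbT, hb0⟩
  obtain ⟨a, rfl⟩ := hb
  exact ⟨a, Set.mem_univ _, hb1, hb2⟩

/-- Points of a quasi-separated algebraic space form a quasi-sober space. -/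
theorem quasiSober_points_of_isQuasiSeparatedSp (X : AlgSp.Space S)
    (hqs : IsQuasiSeparatedSp X.obj) : QuasiSober (Points X.obj) := by
  refine ⟨?_⟩
  intro T hTirr hTcl
  obtain ⟨Z, i, hicl, hirange, -⟩ := Groth.Agent.S10192.result X T hTcl
  have himono : Mono i.hom := SchIm.mono_of_closedImmersion i.hom hicl
  have hZqs : IsQuasiSeparatedSp Z.obj := QSepChart.isQuasiSeparatedSp_of_mono i.hom hqs
  have hZ : ∃ (ι : Type u) (Xi : ι → AlgSp.Space S) (j : ∀ k, Xi k ⟶ Z),
      AlgSp.IsZarCover (fun k => (Xi k).obj) (fun k => (j k).hom) ∧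
        ∀ k, AlgSp.IsQuasiSeparatedSp (Xi k).obj :=
    ⟨PUnit, fun _ => Z, fun _ => 𝟙 Z,
      ⟨fun _ => Groth.Agent.S9937.repWith_of_isIso @IsOpenImmersion
        (fun g hg => by have := hg; infer_instance) _,
        fun x => ⟨PUnit.unit, x, AlgSp.Points.map_id x⟩⟩, fun _ => hZqs⟩
  obtain ⟨Z', j, hjo, hrep, hjdense, -⟩ := main10200 Z hZ
  obtain ⟨G, ⟨eG⟩⟩ := hrep
  let e : (yon S).obj G ≅ Z'.obj := isoOfRepresentableBy eG
  -- the embedding `G ⟶ |X|`
  have hiimm : RepWith @IsImmersion i.hom :=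
    repWith_mono (fun _ _ k hk => by
      have : IsClosedImmersion k := hk
      exact (inferInstance : IsImmersion k)) hicl
  have hjimm : RepWith @IsImmersion j.hom := repWith_mono isOpenImmersion_le_isImmersion hjo
  have hiemb := (isEmbedding_map_of_immersion X.property i.hom hiimm).1
  have hjemb := (isEmbedding_map_of_immersion Z.property j.hom hjimm).1
  have heemb : IsEmbedding (Points.map e.hom) := by
    let h : Points ((yon S).obj G) ≃ₜ Points Z'.obj :=
      { toFun := Points.map e.hom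
        invFun := Points.map e.inv
        left_inv := fun x => by rw [← Points.map_comp, e.hom_inv_id, Points.map_id]
        right_inv := fun x => by rw [← Points.map_comp, e.inv_hom_id, Points.map_id]
        continuous_toFun := Points.continuous_map _
        continuous_invFun := Points.continuous_map _ }
    exact h.isEmbedding
  let φ : ↥G.left → Points X.obj := fun g =>
    Points.map i.hom (Points.map j.hom (Points.map e.hom (Points.schemeHomeo G g)))
  have hφ : IsEmbedding φ :=
    hiemb.comp (hjemb.comp (heemb.comp (Points.schemeHomeo G).isEmbedding))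
  -- the range of `φ`
  have hjopen : IsOpen (Set.range (Points.map j.hom)) :=
    (isOpenMap_map_of_etale (repWith_mono isOpenImmersion_le_etale hjo)).isOpen_range
  obtain ⟨W₀, hW₀, hW₀eq⟩ := hiemb.isInducing.isOpen_iff.1 hjopen
  have hrange : Set.range φ = T ∩ W₀ := by
    ext x
    constructor
    · rintro ⟨g, rfl⟩
      refine ⟨hirange ▸ ⟨_, rfl⟩, ?_⟩
      have : Points.map j.hom (Points.map e.hom (Points.schemeHomeo G g)) ∈
          Points.map i.hom ⁻¹' W₀ := hW₀eq ▸ ⟨_, rfl⟩
      exact this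
    · rintro ⟨hxT, hxW⟩
      rw [← hirange] at hxT
      obtain ⟨z, rfl⟩ := hxT
      have hz : z ∈ Points.map i.hom ⁻¹' W₀ := hxW
      rw [hW₀eq] at hz
      obtain ⟨z', rfl⟩ := hz
      obtain ⟨g, hg⟩ := (Points.schemeHomeo G).surjective (Points.map e.inv z')
      refine ⟨g, ?_⟩
      change Points.map i.hom (Points.map j.hom (Points.map e.hom (Points.schemeHomeo G g))) = _
      rw [hg, ← Points.map_comp e.inv, e.inv_hom_id, Points.map_id]
  have hpre : PreirreducibleSpace ↥G.left :=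
    preirreducibleSpace_of_isEmbedding φ hφ T W₀ hTirr.isPreirreducible hW₀ hrange
  -- nonempty
  have hne : Nonempty ↥G.left := by
    obtain ⟨x, hx⟩ := hTirr.nonempty
    rw [← hirange] at hx
    obtain ⟨z, rfl⟩ := hx
    have : Nonempty (Points Z.obj) := ⟨z⟩
    obtain ⟨z', hz'⟩ := hjdense.nonempty
    obtain ⟨z'', rfl⟩ := hz'
    exact ⟨(Points.schemeHomeo G).symm (Points.map e.inv z'')⟩
  have hirrG : IrreducibleSpace ↥G.left := { toPreirreducibleSpace := hpre, toNonempty := hne }
  refine ⟨φ (genericPoint ↥G.left), ?_⟩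
  have hgen : IsGenericPoint (genericPoint ↥G.left) Set.univ := genericPoint_spec ↥G.left
  have h1 := hgen.image hφ.continuous
  rw [Set.image_univ] at h1
  have h2 : closure (Set.range φ) = T := by
    apply Set.Subset.antisymm
    · exact closure_minimal (hrange ▸ Set.inter_subset_left) hTcl
    · rw [hrange]
      refine (isPreirreducible_iff_subset_closure_inter_open T).1 hTirr.isPreirreducible W₀ hW₀ ?_
      obtain ⟨g⟩ := hne
      exact ⟨φ g, hrange ▸ Set.mem_range_self g⟩
  rw [h2] at h1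
  exact h1

/-- **Sobriety of Zariski locally quasi-separated algebraic spaces.** -/
theorem main10199 (X : AlgSp.Space S)
    (hX : ∃ (ι : Type u) (Xi : ι → AlgSp.Space S) (j : ∀ i, Xi i ⟶ X),
        AlgSp.IsZarCover (fun i => (Xi i).obj) (fun i => (j i).hom) ∧
          ∀ i, AlgSp.IsQuasiSeparatedSp (Xi i).obj) :
    QuasiSober (AlgSp.Points X.obj) ∧ T0Space (AlgSp.Points X.obj) := by
  obtain ⟨ι, Xi, j, ⟨hjo, hjs⟩, hqs⟩ := hX
  have hemb : ∀ i, IsOpenEmbedding (Points.map (j i).hom) := fun i =>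
    ⟨(isEmbedding_map_of_immersion X.property (j i).hom
      (repWith_mono isOpenImmersion_le_isImmersion (hjo i))).1,
      (isOpenMap_map_of_etale (repWith_mono isOpenImmersion_le_etale (hjo i))).isOpen_range⟩
  constructor
  · let U : ι → TopologicalSpace.Opens (Points X.obj) := fun i =>
      ⟨Set.range (Points.map (j i).hom), (hemb i).isOpen_range⟩
    have hU : TopologicalSpace.IsOpenCover U := by
      rw [TopologicalSpace.IsOpenCover, eq_top_iff]
      intro x _
      obtain ⟨i, hi⟩ := hjs x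
      exact TopologicalSpace.Opens.mem_iSup.2 ⟨i, hi⟩
    have hUs : ∀ i, QuasiSober ↥(U i) := fun i => by
      have := quasiSober_points_of_isQuasiSeparatedSp (Xi i) (hqs i)
      let h : Points (Xi i).obj ≃ₜ ↥(U i) := (hemb i).isEmbedding.toHomeomorph
      exact h.symm.isOpenEmbedding.quasiSober
    exact hU.quasiSober
  · rw [t0Space_iff_inseparable]
    intro x y hxy
    obtain ⟨i, x', rfl⟩ := hjs x
    have hy : y ∈ Set.range (Points.map (j i).hom) :=
      (hxy.mem_open_iff (hemb i).isOpen_range).1 ⟨x', rfl⟩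
    obtain ⟨y', rfl⟩ := hy
    have h1 : Inseparable x' y' := (hemb i).isInducing.inseparable_iff.1 hxy
    have hd : IsDecent (Xi i).obj := DecMono.isDecent_of_isQuasiSeparatedSp (Xi i).property (hqs i)
    have := Groth.Agent.S10338.result (Xi i) hd
    rw [h1.eq]

end Groth.Agent.Lib.Helper3.SchLoc
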