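import Groth.Agent.Lib.Helper3.SchemeDim

set_option autoImplicit false
universe u
open CategoryTheory CategoryTheory.Limits AlgebraicGeometry

namespace Groth.Agent.Lib.Helper3

/-- Every nonempty open subset of a scheme contains a point whose local ring has dimension `0`. -/
theorem exists_mem_open_ringKrullDim_stalk_eq_zero (X : Scheme.{u}) (W : Set X) (hW : IsOpen W)
    (hne : W.Nonempty) : ∃ x ∈ W, ringKrullDim (X.presheaf.stalk x) = 0 := by
  obtain ⟨u₀, hu₀⟩ := hne
  have hirr : IsIrreducible (irreducibleComponent u₀) := isIrreducible_irreducibleComponent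
  have hcl : IsClosed (irreducibleComponent u₀) := isClosed_irreducibleComponent
  obtain ⟨η, hη⟩ := QuasiSober.sober hirr hcl
  have hηu : η ⤳ u₀ := hη.specializes mem_irreducibleComponent
  refine ⟨η, hηu.mem_open hW hu₀, ?_⟩
  rw [ringKrullDim_stalk_eq_coheight]
  have : Order.coheight η = 0 := by
    rw [Order.coheight_eq_zero]
    intro y hy
    -- `hy : η ≤ y`, i.e. `y ⤳ η`
    have hy' : y ⤳ η := hy
    have h1 : irreducibleComponent u₀ ⊆ closure {y} := by
      rw [← hη.def]
      exact closure_minimal (Set.singleton_subset_iff.2 hy'.mem_closure) isClosed_closure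
    have h2 : closure {y} = irreducibleComponent u₀ :=
      eq_irreducibleComponent isIrreducible_singleton.closure.isPreirreducible h1
    have h3 : y ∈ closure {η} := by
      rw [hη.def, ← h2]
      exact subset_closure rfl
    exact (specializes_iff_mem_closure.2 h3 : η ⤳ y)
  rw [this]
  rfl

end Groth.Agent.Lib.Helper3
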