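import Groth.Agent.Lib.Helper3.AlgSpUC3
import Groth.Agent.Lib.Helper3.AlgSpInj
import Groth.Agent.Lib.Helper3.AlgSpProper
import Groth.Agent.S10280
set_option autoImplicit false
universe u
open CategoryTheory CategoryTheory.Limits AlgebraicGeometry Opposite AlgSp

namespace Groth.Agent.Lib.Helper3.SepDesc

variable {S : Scheme.{u}}

/-- The fibre square over `B` of a universally closed morphism is universally closed. -/
theorem isUnivClosedMor_pullback_map {X W B : Sp S} (hX : IsAlgSpace X) (hW : IsAlgSpace W)
    (hB : IsAlgSpace B) (g : X ⟶ W) (c : W ⟶ B) (a : X ⟶ B) (h : g ≫ c = a)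
    (hg : IsUnivClosedMor g) :
    IsUnivClosedMor (pullback.map a a c c g g (𝟙 B) (by rw [h, Category.comp_id])
      (by rw [h, Category.comp_id])) := by
  let m1 : pullback a a ⟶ pullback c a :=
    pullback.map a a c a g (𝟙 X) (𝟙 B) (by rw [h, Category.comp_id]) (by simp)
  let m2 : pullback c a ⟶ pullback c c :=
    pullback.map c a c c (𝟙 W) g (𝟙 B) (by simp) (by rw [h, Category.comp_id])
  have m1f : m1 ≫ pullback.fst c a = pullback.fst a a ≫ g := pullback.lift_fst _ _ _
  have m1s : m1 ≫ pullback.snd c a = pullback.snd a a := by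
    rw [show m1 ≫ pullback.snd c a = pullback.snd a a ≫ 𝟙 X from pullback.lift_snd _ _ _,
      Category.comp_id]
  have m2f : m2 ≫ pullback.fst c c = pullback.fst c a := by
    rw [show m2 ≫ pullback.fst c c = pullback.fst c a ≫ 𝟙 W from pullback.lift_fst _ _ _,
      Category.comp_id]
  have m2s : m2 ≫ pullback.snd c c = pullback.snd c a ≫ g := pullback.lift_snd _ _ _
  have hm : pullback.map a a c c g g (𝟙 B) (by rw [h, Category.comp_id])
      (by rw [h, Category.comp_id]) = m1 ≫ m2 := by
    apply pullback.hom_ext
    · rw [Category.assoc, m2f, m1f]; exact pullback.lift_fst _ _ _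
    · rw [Category.assoc, m2s, ← Category.assoc, m1s]; exact pullback.lift_snd _ _ _
  have sq1 : IsPullback m1 (pullback.fst a a) (pullback.fst c a) g := by
    refine IsPullback.of_right (h₁₂ := pullback.snd c a) (h₂₂ := c) (v₁₃ := a) ?_ m1f
      (IsPullback.of_hasPullback c a).flip
    rw [m1s, h]
    exact (IsPullback.of_hasPullback a a).flip
  have sq2 : IsPullback m2 (pullback.snd c a) (pullback.snd c c) g := by
    refine IsPullback.of_right (h₁₂ := pullback.fst c c) (h₂₂ := c) (v₁₃ := c) ?_ m2s
      (IsPullback.of_hasPullback c c)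
    rw [m2f, h]
    exact (IsPullback.of_hasPullback c a)
  have h1 : IsUnivClosedMor m1 := isUnivClosedMor_of_isPullback sq1.flip hg
  have h2 : IsUnivClosedMor m2 := isUnivClosedMor_of_isPullback sq2.flip hg
  have hmid : IsAlgSpace (pullback c a) :=
    isAlgSpace_of_isPullback' hB hW hX (IsPullback.of_hasPullback c a)
  have hcc : IsAlgSpace (pullback c c) :=
    isAlgSpace_of_isPullback' hB hW hW (IsPullback.of_hasPullback c c)
  rw [hm]
  exact isUnivClosedMor_comp hmid hcc.diag h1 h2

/-- Separatedness over `B` descends along a finite jointly surjective family of universally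
closed morphisms from spaces separated over `B`. -/
theorem isSeparatedMor_of_family {W B : Space S} (c : W ⟶ B) {ι : Type} [Finite ι]
    (X : ι → Space S) (g : ∀ k, X k ⟶ W) (hg : ∀ k, IsUnivClosedMor (g k).hom)
    (hsep : ∀ k, IsSeparatedMor ((g k).hom ≫ c.hom))
    (hsurj : ∀ w : Points W.obj, ∃ (k : ι) (x : Points (X k).obj), Points.map (g k).hom x = w) :
    IsSeparatedMor c.hom := by
  refine (Groth.Agent.S10280.result c).1.2 ?_
  intro T WT hT gT fst snd sq
  have hsndmono : Mono snd := by
    have : Mono (pullback.diagonal c.hom) := inferInstance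
    exact MorphismProperty.of_isPullback (P := MorphismProperty.monomorphisms _) sq this
  have hsndinj : Function.Injective (Points.map snd) := by
    have h : InjOnFieldPts snd := fun K _ str a b hab => (cancel_mono snd).1 hab
    exact h.injective_map
  -- the data for each index
  have key : ∀ k : ι, ∃ (XT : Sp S) (r : XT ⟶ WT) (ρ : XT ⟶ T), r ≫ snd = ρ ∧
      IsClosedMap (Points.map ρ) ∧
      ∀ (z : Points WT) (x : Points (X k).obj), Points.map (g k).hom x = Points.map fst z →
        ∃ x' : Points XT, Points.map r x' = z := by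
    intro k
    obtain ⟨a, ha⟩ : ∃ a, (g k).hom ≫ c.hom = a := ⟨_, rfl⟩
    have hsepa : IsSeparatedMor a := ha ▸ hsep k
    have hgg := isUnivClosedMor_pullback_map (X k).property W.property B.property (g k).hom c.hom
      a ha (hg k)
    let gg : pullback a a ⟶ pullback c.hom c.hom :=
      pullback.map a a c.hom c.hom (g k).hom (g k).hom (𝟙 _) (by rw [ha, Category.comp_id])
        (by rw [ha, Category.comp_id])
    have hggf : gg ≫ pullback.fst c.hom c.hom = pullback.fst a a ≫ (g k).hom :=
      pullback.lift_fst _ _ _
    have hggs : gg ≫ pullback.snd c.hom c.hom = pullback.snd a a ≫ (g k).hom :=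
      pullback.lift_snd _ _ _
    have hdiag : pullback.diagonal a ≫ gg = (g k).hom ≫ pullback.diagonal c.hom := by
      apply pullback.hom_ext
      · rw [Category.assoc, hggf, ← Category.assoc, pullback.diagonal_fst, Category.id_comp,
          Category.assoc, pullback.diagonal_fst, Category.comp_id]
      · rw [Category.assoc, hggs, ← Category.assoc, pullback.diagonal_snd, Category.id_comp,
          Category.assoc, pullback.diagonal_snd, Category.comp_id]
    let pP1 := pullback.fst gg gT
    let pP2 := pullback.snd gg gT
    have hpP2 : IsClosedMap (Points.map pP2) :=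
      hgg hT gT pP1 pP2 (IsPullback.of_hasPullback gg gT)
    let q1 := pullback.fst (pullback.diagonal a) pP1
    let q2 := pullback.snd (pullback.diagonal a) pP1
    have hq2 : RepWith @IsClosedImmersion q2 :=
      MorphismProperty.pullback_snd (P := RepWith (S := S) @IsClosedImmersion) _ _ hsepa
    have hq2cl : IsClosedMap (Points.map q2) :=
      isClosedMap_map_of_repWith (repWith_mono (fun _ _ f hf => by
        have : IsClosedImmersion f := hf
        exact (inferInstance : UniversallyClosed f)) hq2)
    have hcomp : (q1 ≫ (g k).hom) ≫ pullback.diagonal c.hom = (q2 ≫ pP2) ≫ gT := by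
      rw [Category.assoc, ← hdiag, ← Category.assoc, pullback.condition, Category.assoc,
        Category.assoc]
      congr 1
      exact pullback.condition
    refine ⟨pullback (pullback.diagonal a) pP1, sq.lift (q1 ≫ (g k).hom) (q2 ≫ pP2) hcomp,
      q2 ≫ pP2, sq.lift_snd _ _ _, ?_, ?_⟩
    · have : Points.map (q2 ≫ pP2) = Points.map pP2 ∘ Points.map q2 := by
        funext z; exact Points.map_comp _ _ z
      rw [this]
      exact hpP2.comp hq2cl
    · intro z x hx
      have h1 : Points.map gg (Points.map (pullback.diagonal a) x) =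
          Points.map gT (Points.map snd z) := by
        rw [← Points.map_comp, hdiag, Points.map_comp, hx, ← Points.map_comp, ← Points.map_comp,
          sq.w]
      obtain ⟨pt, hpt1, hpt2⟩ :=
        Points.exists_of_isPullback (IsPullback.of_hasPullback gg gT) _ _ h1
      obtain ⟨x', hx'1, hx'2⟩ := Points.exists_of_isPullback
        (IsPullback.of_hasPullback (pullback.diagonal a) pP1) x pt hpt1.symm
      refine ⟨x', hsndinj ?_⟩
      rw [← Points.map_comp, sq.lift_snd, Points.map_comp]
      rw [hx'2, hpt2]
  choose XT r ρ hrρ hρcl hlift using key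
  intro C hC
  have : Points.map snd '' C = ⋃ k, Points.map (ρ k) '' (Points.map (r k) ⁻¹' C) := by
    ext t
    simp only [Set.mem_image, Set.mem_iUnion, Set.mem_preimage]
    constructor
    · rintro ⟨z, hz, rfl⟩
      obtain ⟨k, x, hx⟩ := hsurj (Points.map fst z)
      obtain ⟨x', hx'⟩ := hlift k z x hx
      refine ⟨k, x', by rw [hx']; exact hz, ?_⟩
      rw [← hrρ k, Points.map_comp, hx']
    · rintro ⟨k, x', hx', rfl⟩
      exact ⟨_, hx', by rw [← hrρ k, Points.map_comp]⟩
  rw [this]
  exact isClosed_iUnion_of_finite fun k =>
    hρcl k _ (hC.preimage (Points.continuous_map (r k)))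

/-- Properness over `B` descends along a finite jointly surjective family of universally closed
morphisms from spaces proper over `B`, for a target locally of finite type over `B`. -/
theorem isProperMor_of_family {W B : Space S} (c : W ⟶ B)
    (hc : LocP @LocallyOfFiniteType c.hom) {ι : Type} [Finite ι]
    (X : ι → Space S) (g : ∀ k, X k ⟶ W) (hg : ∀ k, IsUnivClosedMor (g k).hom)
    (hprop : ∀ k, IsProperMor ((g k).hom ≫ c.hom))
    (hsurj : ∀ w : Points W.obj, ∃ (k : ι) (x : Points (X k).obj), Points.map (g k).hom x = w) :
    IsProperMor c.hom := by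
  refine ⟨isSeparatedMor_of_family c X g hg (fun k => (hprop k).1) hsurj, ⟨hc, ?_⟩, ?_⟩
  · -- quasi-compact
    intro T WT hT hTqc t fst snd sqW
    have hWT : IsAlgSpace WT := isAlgSpace_of_isPullback' B.property W.property hT sqW
    rw [isQuasiCompactSp_iff_compactSpace hWT]
    have hk : ∀ k, IsCompact (Set.range (Points.map (pullback.snd (g k).hom fst))) := by
      intro k
      have sqX := IsPullback.of_hasPullback (g k).hom fst
      have sqP : IsPullback (pullback.fst (g k).hom fst) (pullback.snd (g k).hom fst ≫ snd)
          ((g k).hom ≫ c.hom) t := (sqX.flip.paste_horiz sqW.flip).flip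
      have hqc : IsQuasiCompactSp (pullback (g k).hom fst) := (hprop k).2.1.2 hT hTqc t _ _ sqP
      have : CompactSpace (Points (pullback (g k).hom fst)) :=
        compactSpace_points_of_isQuasiCompactSp hqc
      exact isCompact_range (Points.continuous_map _)
    have hcover : (Set.univ : Set (Points WT)) =
        ⋃ k, Set.range (Points.map (pullback.snd (g k).hom fst)) := by
      ext z
      simp only [Set.mem_univ, Set.mem_iUnion, Set.mem_range, true_iff]
      obtain ⟨k, x, hx⟩ := hsurj (Points.map fst z)
      obtain ⟨x', -, hx'⟩ :=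
        Points.exists_of_isPullback (IsPullback.of_hasPullback (g k).hom fst) x z hx
      exact ⟨k, x', hx'⟩
    refine ⟨?_⟩
    rw [hcover]
    exact isCompact_iUnion hk
  · -- universally closed
    intro T WT hT t fst snd sqW C hC
    have : Points.map snd '' C = ⋃ k, Points.map (pullback.snd (g k).hom fst ≫ snd) ''
        (Points.map (pullback.snd (g k).hom fst) ⁻¹' C) := by
      ext y
      simp only [Set.mem_image, Set.mem_iUnion, Set.mem_preimage]
      constructor
      · rintro ⟨z, hz, rfl⟩
        obtain ⟨k, x, hx⟩ := hsurj (Points.map fst z)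
        obtain ⟨x', -, hx'⟩ :=
          Points.exists_of_isPullback (IsPullback.of_hasPullback (g k).hom fst) x z hx
        exact ⟨k, x', by rw [hx']; exact hz, by rw [Points.map_comp, hx']⟩
      · rintro ⟨k, x', hx', rfl⟩
        exact ⟨_, hx', by rw [Points.map_comp]⟩
    rw [this]
    refine isClosed_iUnion_of_finite fun k => ?_
    have sqX := IsPullback.of_hasPullback (g k).hom fst
    have sqP : IsPullback (pullback.fst (g k).hom fst) (pullback.snd (g k).hom fst ≫ snd)
        ((g k).hom ≫ c.hom) t := (sqX.flip.paste_horiz sqW.flip).flip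
    exact (hprop k).2.2 hT t _ _ sqP _ (hC.preimage (Points.continuous_map _))

end Groth.Agent.Lib.Helper3.SepDesc
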