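import Mathlib.RingTheory.Etale.StandardEtale
import Mathlib.RingTheory.Etale.Kaehler
import Mathlib.RingTheory.Unramified.LocalStructure

set_option autoImplicit false
universe u
open TensorProduct Polynomial

namespace Groth.Agent.Lib.Helper3

variable {P₀ S T : Type u} [CommRing P₀] [CommRing S] [CommRing T] [Algebra P₀ S] [Algebra S T]

/-- A standard etale pair over `S` lifts along a surjection `P₀ → S`, up to replacing `g` by a
power. -/
theorem exists_standardEtalePair_lift (hsurj : Function.Surjective (algebraMap P₀ S))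
    (pair₀ : StandardEtalePair S) :
    ∃ (pair : StandardEtalePair P₀) (n : ℕ), pair.f.map (algebraMap P₀ S) = pair₀.f ∧
      pair.g.map (algebraMap P₀ S) = pair₀.g ^ (n + 1) := by
  obtain ⟨p₁, p₂, n, e⟩ := pair₀.cond
  obtain ⟨f', hf'1, -, hf'3⟩ := Polynomial.lifts_and_natDegree_eq_and_monic
    (f := algebraMap P₀ S) (p := pair₀.f)
    (by rw [Polynomial.lifts_iff_coeff_lifts]; intro k; exact hsurj _) pair₀.monic_f
  obtain ⟨g', hg'⟩ := Polynomial.map_surjective _ hsurj pair₀.g
  obtain ⟨q₁, hq₁⟩ := Polynomial.map_surjective _ hsurj p₁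
  obtain ⟨q₂, hq₂⟩ := Polynomial.map_surjective _ hsurj p₂
  refine ⟨⟨f', hf'3, (derivative f' * q₁ + f' * q₂) * g', q₁ * g', q₂ * g', 1, by ring⟩, n, hf'1, ?_⟩
  simp only [Polynomial.map_mul, Polynomial.map_add, Polynomial.derivative_map, hf'1, hq₁, hq₂, hg']
  rw [← Polynomial.derivative_map, hf'1, e, pow_succ]

/-- Two standard etale pairs with the same `f` and with `g`'s differing by a positive power
give isomorphic algebras. -/
noncomputable def StandardEtalePair.ringEquivOfPow (A B : StandardEtalePair S) (n : ℕ)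
    (hf : A.f = B.f) (hg : A.g = B.g ^ (n + 1)) : A.Ring ≃ₐ[S] B.Ring :=
  AlgEquiv.ofAlgHom
    (A.lift B.X ⟨by rw [hf]; exact B.hasMap_X.1, by
      rw [hg, map_pow]; exact B.hasMap_X.2.pow _⟩)
    (B.lift A.X ⟨by rw [← hf]; exact A.hasMap_X.1, by
      have := A.hasMap_X.2
      rw [hg, map_pow] at this
      exact (isUnit_pow_iff (Nat.succ_ne_zero n)).1 this⟩)
    (B.hom_ext (by simp)) (A.hom_ext (by simp))

/-- A standard etale algebra over `S` is the base change of a standard etale algebra over `P₀`,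
for `P₀ → S` surjective. -/
theorem exists_standardEtalePair_tensor_equiv (hsurj : Function.Surjective (algebraMap P₀ S))
    [Algebra.IsStandardEtale S T] :
    ∃ (pair : StandardEtalePair P₀), Nonempty ((S ⊗[P₀] pair.Ring) ≃ₐ[S] T) := by
  let pres : StandardEtalePresentation S T :=
    Algebra.IsStandardEtale.nonempty_standardEtalePresentation.some
  obtain ⟨pair, n, hf, hg⟩ := exists_standardEtalePair_lift hsurj pres.P
  let B : StandardEtalePresentation P₀ pair.Ring :=
    ⟨pair, pair.X, pair.hasMap_X, by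
      simpa [StandardEtalePair.lift_X_left] using Function.bijective_id⟩
  let e₁ : (S ⊗[P₀] pair.Ring) ≃ₐ[S] (pair.map (algebraMap P₀ S)).Ring :=
    (B.baseChange (T := S)).equivRing
  let e₂ : (pair.map (algebraMap P₀ S)).Ring ≃ₐ[S] pres.P.Ring :=
    StandardEtalePair.ringEquivOfPow _ _ n hf hg
  exact ⟨pair, ⟨(e₁.trans e₂).trans pres.equivRing.symm⟩⟩

end Groth.Agent.Lib.Helper3
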