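import Groth.Agent.Lib.Helper3.SmoothEt1

set_option autoImplicit false
universe u
open TensorProduct

namespace Groth.Agent.Lib.Helper3

open Algebra

variable {R S : Type u} [CommRing R] [CommRing S] [Algebra R S]

section

variable (P : Algebra.Extension.{u} R S) (Q : Type u) [CommRing Q] [Algebra P.Ring Q]
  [Algebra R Q] [IsScalarTower R P.Ring Q]

/-- The map `Q → S ⊗[P] Q`. -/
noncomputable def liftIncl : Q →ₐ[R] S ⊗[P.Ring] Q :=
  (Algebra.TensorProduct.includeRight : Q →ₐ[P.Ring] S ⊗[P.Ring] Q).restrictScalars R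

theorem liftIncl_surjective : Function.Surjective (liftIncl P Q) := by
  intro x
  induction x using TensorProduct.induction_on with
  | zero => exact ⟨0, map_zero _⟩
  | tmul s q =>
    obtain ⟨p, rfl⟩ := P.algebraMap_surjective s
    refine ⟨p • q, ?_⟩
    change (1 : S) ⊗ₜ[P.Ring] (p • q) = _
    rw [TensorProduct.tmul_smul, TensorProduct.smul_tmul', Algebra.smul_def, mul_one]
  | add x y hx hy =>
    obtain ⟨a, rfl⟩ := hx
    obtain ⟨b, rfl⟩ := hy
    exact ⟨a + b, map_add _ _ _⟩

/-- The extension `Q → S ⊗[P] Q`. -/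
noncomputable def liftExt : Algebra.Extension.{u} R (S ⊗[P.Ring] Q) :=
  Algebra.Extension.ofSurjective (liftIncl P Q) (liftIncl_surjective P Q)

/-- The morphism of extensions `(P → S) → (Q → S ⊗[P] Q)`. -/
noncomputable def liftHom : P.Hom (liftExt P Q) where
  toRingHom := algebraMap P.Ring Q
  toRingHom_algebraMap x := (IsScalarTower.algebraMap_apply R P.Ring Q x).symm
  algebraMap_toRingHom x := by
    change (1 : S) ⊗ₜ[P.Ring] (algebraMap P.Ring Q x) = (algebraMap P.Ring S x) ⊗ₜ[P.Ring] (1 : Q)
    rw [Algebra.algebraMap_eq_smul_one, Algebra.algebraMap_eq_smul_one, TensorProduct.tmul_smul,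
      TensorProduct.smul_tmul']

theorem rid_lTensor_mem_map (z : Q ⊗[P.Ring] P.ker) :
    (TensorProduct.rid P.Ring Q) ((P.ker.subtype.lTensor Q) z) ∈
      P.ker.map (algebraMap P.Ring Q) := by
  induction z using TensorProduct.induction_on with
  | zero => simp
  | tmul q i =>
    simp only [LinearMap.lTensor_tmul, Submodule.subtype_apply, TensorProduct.rid_tmul,
      Algebra.smul_def]
    exact Ideal.mul_mem_right _ _ (Ideal.mem_map_of_mem _ i.2)
  | add x y hx hy =>
    simp only [map_add]
    exact Ideal.add_mem _ hx hy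

theorem liftExt_ker_le (y : Q) (hy : y ∈ (liftExt P Q).ker) :
    y ∈ P.ker.map (algebraMap P.Ring Q) := by
  have hy' : (1 : S) ⊗ₜ[P.Ring] (y : Q) = 0 := hy
  have hexact : Function.Exact P.ker.subtype (Algebra.linearMap P.Ring S) := by
    intro x
    constructor
    · intro hx
      exact ⟨⟨x, hx⟩, rfl⟩
    · rintro ⟨i, rfl⟩
      exact i.2
  have hex2 := lTensor_exact Q hexact P.algebraMap_surjective
  have h3 : (Algebra.linearMap P.Ring S).lTensor Q ((y : Q) ⊗ₜ[P.Ring] (1 : P.Ring)) = 0 := by
    rw [LinearMap.lTensor_tmul]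
    change (y : Q) ⊗ₜ[P.Ring] (algebraMap P.Ring S 1) = 0
    rw [map_one]
    have := congrArg (TensorProduct.comm P.Ring S Q) hy'
    rw [TensorProduct.comm_tmul, map_zero] at this
    exact this
  obtain ⟨z, hz⟩ := (hex2 _).1 h3
  have := rid_lTensor_mem_map P Q z
  rw [hz, TensorProduct.rid_tmul, one_smul] at this
  exact this

end

section

variable {T : Type u} [CommRing T] [Algebra R T] [Algebra S T] [IsScalarTower R S T]

theorem mapKer_liftBaseChange_bijective
    {P : Algebra.Extension.{u} R S} {Q : Algebra.Extension.{u} R T} (f : P.Hom Q)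
    [alg : Algebra P.Ring Q.Ring] (halg : algebraMap P.Ring Q.Ring = f.toRingHom)
    [Module.Flat P.Ring Q.Ring]
    (hker : ∀ y ∈ Q.ker, y ∈ P.ker.map (algebraMap P.Ring Q.Ring)) :
    Function.Bijective ((f.mapKer halg).liftBaseChange Q.Ring) := by
  set Φ := (f.mapKer halg).liftBaseChange Q.Ring with hΦ
  have hval : ∀ z : Q.Ring ⊗[P.Ring] P.ker, ((Φ z : Q.ker) : Q.Ring) =
      (TensorProduct.rid P.Ring Q.Ring) ((P.ker.subtype.lTensor Q.Ring) z) := by
    intro z
    induction z using TensorProduct.induction_on with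
    | zero => simp
    | tmul q i =>
      change q * f.toRingHom i.1 = _
      simp only [LinearMap.lTensor_tmul, Submodule.subtype_apply, TensorProduct.rid_tmul,
        Algebra.smul_def, mul_comm, halg]
    | add x y hx hy =>
      simp only [map_add, Submodule.coe_add, hx, hy]
  constructor
  · rw [injective_iff_map_eq_zero]
    intro z hz
    have h1 : (TensorProduct.rid P.Ring Q.Ring) ((P.ker.subtype.lTensor Q.Ring) z) = 0 := by
      rw [← hval, hz]; rfl
    have h2 : (P.ker.subtype.lTensor Q.Ring) z = 0 := by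
      simpa using h1
    exact (injective_iff_map_eq_zero _).1
      (Module.Flat.lTensor_preserves_injective_linearMap (M := Q.Ring) P.ker.subtype
        Subtype.val_injective) z h2
  · intro y
    have key : ∀ y ∈ P.ker.map (algebraMap P.Ring Q.Ring), ∃ z : Q.Ring ⊗[P.Ring] P.ker,
        (TensorProduct.rid P.Ring Q.Ring) ((P.ker.subtype.lTensor Q.Ring) z) = y := by
      intro y hy
      induction hy using Submodule.span_induction with
      | mem x hx =>
        obtain ⟨i, hi, rfl⟩ := hx
        refine ⟨1 ⊗ₜ ⟨i, hi⟩, ?_⟩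
        simp [Algebra.smul_def]
      | zero => exact ⟨0, by simp⟩
      | add x y _ _ hx hy =>
        obtain ⟨a, rfl⟩ := hx
        obtain ⟨b, rfl⟩ := hy
        exact ⟨a + b, by simp⟩
      | smul a x _ hx =>
        obtain ⟨b, rfl⟩ := hx
        refine ⟨a • b, ?_⟩
        rw [← hval, ← hval, map_smul]
        rfl
    obtain ⟨z, hz⟩ := key y.1 (hker y.1 y.2)
    refine ⟨z, Subtype.ext ?_⟩
    rw [hval, hz]

end

end Groth.Agent.Lib.Helper3
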