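import Groth.Agent.Lib.Helper3.SmoothEt2

set_option autoImplicit false
universe u
open TensorProduct

namespace Groth.Agent.Lib.Helper3

open Algebra

variable {R S : Type u} [CommRing R] [CommRing S] [Algebra R S]

section

variable (P : Algebra.Extension.{u} R S) (Q : Type u) [CommRing Q] [Algebra P.Ring Q]
  [Algebra R Q] [IsScalarTower R P.Ring Q]

set_option backward.isDefEq.respectTransparency false in
/-- If `P → S` is a formally smooth extension and `Q` is formally etale and flat over `P`, then
`(S ⊗[P] Q) ⊗[S] H¹(L_{S/R}) ≃ H¹(L_{S ⊗[P] Q / R})`. -/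
noncomputable def tensorH1CotangentLift [FormallySmooth R P.Ring] [FormallyEtale P.Ring Q]
    [Module.Flat P.Ring Q] :
    (S ⊗[P.Ring] Q) ⊗[S] P.H1Cotangent ≃ₗ[S ⊗[P.Ring] Q] H1Cotangent R (S ⊗[P.Ring] Q) := by
  letI : Algebra P.Ring (liftExt P Q).Ring := (inferInstance : Algebra P.Ring Q)
  haveI : FormallySmooth P.Ring Q := inferInstance
  haveI : FormallySmooth R (liftExt P Q).Ring := FormallySmooth.comp R P.Ring Q
  haveI : Module.Flat P.Ring (liftExt P Q).Ring := (inferInstance : Module.Flat P.Ring Q)
  refine Extension.tensorH1CotangentOfFormallyEtale (liftHom P Q) rfl ?_ ?_ ≪≫ₗ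
      Extension.equivH1CotangentOfFormallySmooth _
  · exact RingHom.formallyEtale_algebraMap.mpr (inferInstance : FormallyEtale P.Ring Q)
  · exact mapKer_liftBaseChange_bijective (liftHom P Q) rfl (liftExt_ker_le P Q)

end

section

variable {T : Type u} [CommRing T] [Algebra S T] [Algebra R T] [IsScalarTower R S T]

set_option backward.isDefEq.respectTransparency false in
/-- If `T` is standard etale over `S` and formally smooth over `R`, then
`T ⊗[S] H¹(L_{S/R}) = 0`. -/
theorem subsingleton_tensor_h1Cotangent_of_isStandardEtale [Algebra.IsStandardEtale S T]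
    [FormallySmooth R T] : Subsingleton (T ⊗[S] H1Cotangent R S) := by
  let P : Algebra.Extension.{u} R S := (Generators.self R S).toExtension
  have : FormallySmooth R P.Ring := inferInstanceAs (FormallySmooth R (MvPolynomial _ _))
  obtain ⟨pair, ⟨e⟩⟩ := exists_standardEtalePair_tensor_equiv (P₀ := P.Ring) (S := S) (T := T)
    P.algebraMap_surjective
  let : Algebra R pair.Ring := ((algebraMap P.Ring pair.Ring).comp (algebraMap R P.Ring)).toAlgebra
  have : IsScalarTower R P.Ring pair.Ring := .of_algebraMap_eq' rfl
  have : FormallySmooth R (S ⊗[P.Ring] pair.Ring) :=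
    FormallySmooth.of_equiv (e.symm.restrictScalars R)
  have h1 : Subsingleton ((S ⊗[P.Ring] pair.Ring) ⊗[S] P.H1Cotangent) :=
    (tensorH1CotangentLift P pair.Ring).toEquiv.subsingleton
  exact (TensorProduct.congr e.symm.toLinearEquiv
    (LinearEquiv.refl S (H1Cotangent R S))).toEquiv.subsingleton

end

end Groth.Agent.Lib.Helper3
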