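import Groth.Agent.Lib.Helper3.SmoothEt3
import Mathlib.RingTheory.Etale.Descent
import Mathlib.RingTheory.Localization.BaseChange

set_option autoImplicit false
universe u
open TensorProduct

namespace Groth.Agent.Lib.Helper3

open Algebra

variable {R S T : Type u} [CommRing R] [CommRing S] [CommRing T] [Algebra R S]
  [Algebra S T] [Algebra R T] [IsScalarTower R S T]

/-- If `T` is etale and faithfully flat over `S` and formally smooth over `R`, then
`H¹(L_{S/R}) = 0`. -/
theorem subsingleton_h1Cotangent_of_etale_of_faithfullyFlat [Algebra.Etale S T]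
    [Module.FaithfullyFlat S T] [FormallySmooth R T] : Subsingleton (H1Cotangent R S) := by
  suffices h : Subsingleton (T ⊗[S] H1Cotangent R S) from
    Module.FaithfullyFlat.lTensor_reflects_triviality S T _
  refine subsingleton_of_forall_eq 0 fun x => ?_
  by_contra hx
  let I : Ideal T := LinearMap.ker (LinearMap.toSpanSingleton T _ x)
  have hI : I ≠ ⊤ := by
    intro h
    have : (1 : T) ∈ I := h ▸ Submodule.mem_top
    exact hx (by simpa [I] using this)
  obtain ⟨q, hq, hIq⟩ := Ideal.exists_le_maximal I hI
  haveI := hq.isPrime
  obtain ⟨h, hhq, hstd⟩ := Algebra.IsEtaleAt.exists_isStandardEtale (R := S) q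
  have : FormallySmooth R (Localization.Away h) := FormallySmooth.comp R T (Localization.Away h)
  have h2 : Subsingleton ((Localization.Away h) ⊗[S] H1Cotangent R S) :=
    subsingleton_tensor_h1Cotangent_of_isStandardEtale
  have h3 : Subsingleton ((Localization.Away h) ⊗[T] (T ⊗[S] H1Cotangent R S)) :=
    (TensorProduct.AlgebraTensorModule.cancelBaseChange S T (Localization.Away h)
      (Localization.Away h) _).toEquiv.subsingleton
  have hloc : IsLocalizedModule (Submonoid.powers h)
      (TensorProduct.mk T (Localization.Away h) (T ⊗[S] H1Cotangent R S) 1) :=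
    (isLocalizedModule_iff_isBaseChange _ (Localization.Away h) _).mpr
      (TensorProduct.isBaseChange T _ (Localization.Away h))
  have hx0 : TensorProduct.mk T (Localization.Away h) (T ⊗[S] H1Cotangent R S) 1 x = 0 :=
    Subsingleton.elim _ _
  obtain ⟨⟨c, n, rfl⟩, hc⟩ := (IsLocalizedModule.eq_zero_iff (Submonoid.powers h)
    (TensorProduct.mk T (Localization.Away h) (T ⊗[S] H1Cotangent R S) 1)).1 hx0
  have : h ^ n ∈ q := hIq hc
  exact hhq (hq.isPrime.mem_of_pow_mem _ this)

/-- Smoothness descends along etale faithfully flat maps on the source: if `S` is a finitely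
presented `R`-algebra and `T` is etale and faithfully flat over `S` and formally smooth over `R`,
then `S` is smooth over `R`. -/
theorem smooth_of_etale_of_faithfullyFlat [Algebra.FinitePresentation R S] [Algebra.Etale S T]
    [Module.FaithfullyFlat S T] [FormallySmooth R T] : Algebra.Smooth R S := by
  refine ⟨?_, inferInstance⟩
  rw [formallySmooth_iff]
  constructor
  · let e' : T ⊗[S] Ω[S⁄R] ≃ₗ[T] Ω[T⁄R] :=
      KaehlerDifferential.tensorKaehlerEquivOfFormallyEtale R S T
    have : Module.Flat T (T ⊗[S] Ω[S⁄R]) := .of_linearEquiv e'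
    have : Module.Flat S Ω[S⁄R] := Module.Flat.of_flat_tensorProduct _ _ T
    exact Module.Flat.projective_of_finitePresentation
  · exact subsingleton_h1Cotangent_of_etale_of_faithfullyFlat (T := T)

end Groth.Agent.Lib.Helper3
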