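import Groth.Agent.Lib.Helper3.SpUC
import Groth.Agent.Lib.Helper3.AlgSpImmersionPts
import Groth.Agent.Lib.Helper3.AlgSpDiag
set_option autoImplicit false
universe u
open CategoryTheory CategoryTheory.Limits AlgebraicGeometry Opposite MorphismProperty Topology

namespace Groth.Agent.Lib.Helper3.SpUC

open AlgSp Groth.Agent.Lib.lead.UnivClosedAffine Groth.Agent.Lib.lead.UnivSubtrAffine
open Groth.Agent.Lib.Helper3 AlgebraicGeometry.AffineSpace

variable {S : Scheme.{u}}

/-- closedness on points restricts along a base change whose top map is inducing on points -/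
theorem isClosedMap_of_isPullback_of_isInducing {P P' T T' : Sp S} {ι : P' ⟶ P} {snd' : P' ⟶ T'}
    {snd : P ⟶ T} {j : T' ⟶ T} (sq : IsPullback ι snd' snd j)
    (hι : IsInducing (Points.map ι)) (h : IsClosedMap (Points.map snd)) :
    IsClosedMap (Points.map snd') := by
  intro Z hZ
  obtain ⟨Z', hZ', rfl⟩ := hι.isClosed_iff.mp hZ
  have : Points.map snd' '' (Points.map ι ⁻¹' Z') = Points.map j ⁻¹' (Points.map snd '' Z') := by
    ext t'
    constructor
    · rintro ⟨z, hz, rfl⟩
      refine ⟨Points.map ι z, hz, ?_⟩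
      rw [← Points.map_comp, ← Points.map_comp, sq.w]
    · rintro ⟨zb, hzb, hzt⟩
      obtain ⟨z', hz1, hz2⟩ := Points.exists_of_isPullback sq zb t' hzt
      exact ⟨z', by simpa [hz1] using hzb, hz2⟩
  rw [this]
  exact (h _ hZ').preimage (Points.continuous_map j)

/-- the open immersion `Spec B[x_n] → 𝔸^m_V` attached to an affine open `Spec B → V` -/
noncomputable def jn {B : Type u} [CommRing B] {V : Scheme.{u}} (w : Spec (CommRingCat.of B) ⟶ V)
    {n m : Type u} (e : n ≃ m) :
    Spec (CommRingCat.of (MvPolynomial n B)) ⟶ 𝔸(m; V) :=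
  (SpecIso n (CommRingCat.of B)).inv ≫ reindex e.symm (Spec (CommRingCat.of B)) ≫
    AffineSpace.map m w

theorem jn_over {B : Type u} [CommRing B] {V : Scheme.{u}} (w : Spec (CommRingCat.of B) ⟶ V)
    {n m : Type u} (e : n ≃ m) :
    jn w e ≫ (𝔸(m; V) ↘ V) =
      Spec.map (CommRingCat.ofHom (algebraMap B (MvPolynomial n B))) ≫ w := by
  unfold jn
  rw [Category.assoc, Category.assoc, map_over, reindex_over_assoc, SpecIso_inv_over_assoc,
    MvPolynomial.algebraMap_eq]

instance isOpenImmersion_jn {B : Type u} [CommRing B] {V : Scheme.{u}}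
    (w : Spec (CommRingCat.of B) ⟶ V) [IsOpenImmersion w] {n m : Type u} (e : n ≃ m) :
    IsOpenImmersion (jn w e) := by
  have h1 : IsIso (reindex e.symm (Spec (CommRingCat.of B))) :=
    ⟨reindex e (Spec (CommRingCat.of B)), Groth.Agent.Lib.lead.UnivOpenFin.reindex_symm_comp e _, by
      simpa using Groth.Agent.Lib.lead.UnivOpenFin.reindex_symm_comp e.symm
        (Spec (CommRingCat.of B))⟩
  have h2 := Groth.Agent.Lib.lead.UnivOpenAffine.isOpenImmersion_map m w
  unfold jn
  infer_instance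


/-- the test hypothesis over an affine open `Spec B ⊆ V`, from closedness for `𝔸^k_V` -/
theorem closed_of_affineSpace {X Y : Sp S} (hX : IsAlgSpace X) (hY : IsAlgSpace Y) (f : X ⟶ Y)
    (V : Over S) (p : (yon S).obj V ⟶ Y)
    (Hn : ∀ (k : ℕ) (P : Sp S) (fst : P ⟶ X)
      (snd : P ⟶ (yon S).obj (Over.mk ((𝔸(ULift.{u} (Fin k); V.left) ↘ V.left) ≫ V.hom))),
      IsPullback fst snd f
        ((yon S).map (Over.homMk (𝔸(ULift.{u} (Fin k); V.left) ↘ V.left)) ≫ p) →
        IsClosedMap (Points.map snd))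
    {B : Type u} [CommRing B] (w : Spec (CommRingCat.of B) ⟶ V.left) [IsOpenImmersion w]
    (n : Type u) [Finite n] {P : Sp S} {fst : P ⟶ X}
    {snd : P ⟶ (yon S).obj (TC (w ≫ V.hom) (MvPolynomial n B))}
    (sq : IsPullback fst snd f ((yon S).map (cC (w ≫ V.hom) (MvPolynomial n B)) ≫
      (yon S).map (Over.homMk w rfl : V0 (w ≫ V.hom) ⟶ V) ≫ p)) :
    IsClosedMap (Points.map snd) := by
  let k := Nat.card n
  let e : n ≃ ULift.{u} (Fin k) := (Finite.equivFin n).trans Equiv.ulift.symm
  let A : Over S := Over.mk ((𝔸(ULift.{u} (Fin k); V.left) ↘ V.left) ≫ V.hom)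
  let An : A ⟶ V := Over.homMk (𝔸(ULift.{u} (Fin k); V.left) ↘ V.left)
  let jn' : TC (w ≫ V.hom) (MvPolynomial n B) ⟶ A := Over.homMk (jn w e) (by
    change jn w e ≫ (𝔸(ULift.{u} (Fin k); V.left) ↘ V.left) ≫ V.hom = _
    rw [← Category.assoc, jn_over, Category.assoc]
    rfl)
  have hfac : cC (w ≫ V.hom) (MvPolynomial n B) ≫ (Over.homMk w rfl : V0 (w ≫ V.hom) ⟶ V) =
      jn' ≫ An := by
    apply Over.OverMorphism.ext
    exact (jn_over w e).symm
  have sq1 : IsPullback fst snd f ((yon S).map jn' ≫ (yon S).map An ≫ p) := by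
    rw [← Category.assoc, ← Functor.map_comp, ← hfac, Functor.map_comp, Category.assoc]
    exact sq
  have sqk := IsPullback.of_hasPullback f ((yon S).map An ≫ p)
  have hw : fst ≫ f = (snd ≫ (yon S).map jn') ≫ (yon S).map An ≫ p := by
    rw [sq1.w, Category.assoc]
  let lift : P ⟶ pullback f ((yon S).map An ≫ p) := sqk.lift fst (snd ≫ (yon S).map jn') hw
  have hl1 : lift ≫ pullback.fst f ((yon S).map An ≫ p) = fst := sqk.lift_fst _ _ _
  have hl2 : lift ≫ pullback.snd f ((yon S).map An ≫ p) = snd ≫ (yon S).map jn' :=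
    sqk.lift_snd _ _ _
  have sqι : IsPullback lift snd (pullback.snd f ((yon S).map An ≫ p)) ((yon S).map jn') := by
    refine IsPullback.of_right ?_ hl2 sqk
    rw [hl1]
    exact sq1
  have hjn : RepWith @IsOpenImmersion ((yon S).map jn') :=
    (repWith_yon_map_iff _ jn').2 (inferInstanceAs (IsOpenImmersion (jn w e)))
  have hlift : RepWith @IsOpenImmersion lift := MorphismProperty.of_isPullback sqι.flip hjn
  have hPk : IsAlgSpace (pullback f ((yon S).map An ≫ p)) :=
    isAlgSpace_of_isPullback' hY hX (IsAlgSpace.yon_obj A) sqk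
  have hind : IsInducing (Points.map lift) :=
    (isEmbedding_map_of_immersion hPk lift
      (repWith_mono (fun _ _ g hg => @IsImmersion.instOfIsOpenImmersion _ _ g hg) hlift)).1.isInducing
  exact isClosedMap_of_isPullback_of_isInducing sqι hind (Hn k _ _ _ sqk)


/-- closedness of the base change of `f` to an affine scheme over an affine open of `V` -/
theorem closed_piece {X Y : Sp S} (hX : IsAlgSpace X) (hY : IsAlgSpace Y) (f : X ⟶ Y)
    (hqc : IsQuasiCompactMor f) (V : Over S) (p : (yon S).obj V ⟶ Y)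
    (Hn : ∀ (k : ℕ) (P : Sp S) (fst : P ⟶ X)
      (snd : P ⟶ (yon S).obj (Over.mk ((𝔸(ULift.{u} (Fin k); V.left) ↘ V.left) ≫ V.hom))),
      IsPullback fst snd f
        ((yon S).map (Over.homMk (𝔸(ULift.{u} (Fin k); V.left) ↘ V.left)) ≫ p) →
        IsClosedMap (Points.map snd))
    {B : Type u} [CommRing B] (w : Spec (CommRingCat.of B) ⟶ V.left) [IsOpenImmersion w]
    (B' : Type u) [CommRing B'] [Algebra B B'] {Q : Sp S} {a : Q ⟶ X}
    {b : Q ⟶ (yon S).obj (TC (w ≫ V.hom) B')}
    (sq : IsPullback a b f ((yon S).map (cC (w ≫ V.hom) B') ≫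
      (yon S).map (Over.homMk w rfl : V0 (w ≫ V.hom) ⟶ V) ≫ p)) :
    IsClosedMap (Points.map b) := by
  let q : (yon S).obj (V0 (w ≫ V.hom)) ⟶ Y :=
    (yon S).map (Over.homMk w rfl : V0 (w ≫ V.hom) ⟶ V) ≫ p
  have sq₀ := IsPullback.of_hasPullback f q
  have hX₀ : IsAlgSpace (pullback f q) :=
    isAlgSpace_of_isPullback' hY hX (IsAlgSpace.yon_obj _) sq₀
  have hX₀qc : IsQuasiCompactSp (pullback f q) :=
    hqc (IsAlgSpace.yon_obj (V0 (w ≫ V.hom)))
      (isQuasiCompactSp_yon (inferInstanceAs (CompactSpace ↥(Spec (CommRingCat.of B))))) q _ _ sq₀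
  obtain ⟨U, π, hπe, hπs, hUaff⟩ := exists_affine_chart_of_isQuasiCompactSp hX₀qc
  obtain ⟨g, hg⟩ := (yon S).map_surjective (π ≫ pullback.snd f q)
  have : IsAffine U.left := hUaff
  have : IsAffine (V0 (w ≫ V.hom)).left := inferInstanceAs (IsAffine (Spec (CommRingCat.of B)))
  have : QuasiCompact g.left := inferInstance
  have hw : a ≫ f = (b ≫ (yon S).map (cC (w ≫ V.hom) B')) ≫ q := by
    rw [sq.w, Category.assoc]
  have hl1 : sq₀.lift a (b ≫ (yon S).map (cC (w ≫ V.hom) B')) hw ≫ pullback.fst f q = a :=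
    sq₀.lift_fst _ _ _
  have hl2 : sq₀.lift a (b ≫ (yon S).map (cC (w ≫ V.hom) B')) hw ≫ pullback.snd f q =
      b ≫ (yon S).map (cC (w ≫ V.hom) B') := sq₀.lift_snd _ _ _
  have sqQ : IsPullback (sq₀.lift a (b ≫ (yon S).map (cC (w ≫ V.hom) B')) hw) b
      (pullback.snd f q) ((yon S).map (cC (w ≫ V.hom) B')) := by
    refine IsPullback.of_right ?_ hl2 sq₀
    rw [hl1]
    exact sq
  refine core (w ≫ V.hom) (pullback.snd f q) π g hg hπe hπs ?_ B' sqQ
  intro n _ _ P fst snd sqn
  exact closed_of_affineSpace hX hY f V p Hn w n (sqn.paste_horiz sq₀)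


/-- local data: an affine etale piece of `Z` mapping into an affine open of `V` -/
structure Piece {Y : Sp S} (V : Over S) (p : (yon S).obj V ⟶ Y) (Z : Over S)
    (h : (yon S).obj Z ⟶ Y) where
  B : Type u
  B' : Type u
  [cB : CommRing B]
  [cB' : CommRing B']
  [alg : Algebra B B']
  w : Spec (CommRingCat.of B) ⟶ V.left
  [hw : IsOpenImmersion w]
  c : TC (w ≫ V.hom) B' ⟶ Z
  etale : Etale c.left
  compat : (yon S).map c ≫ h = (yon S).map (cC (w ≫ V.hom) B') ≫
    (yon S).map (Over.homMk w rfl : V0 (w ≫ V.hom) ⟶ V) ≫ p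

attribute [instance] Piece.cB Piece.cB' Piece.alg Piece.hw

theorem piece_of_data {Y : Sp S} (V : Over S) (p : (yon S).obj V ⟶ Y) (Z : Over S)
    (h : (yon S).obj Z ⟶ Y) {Z' : Over S} (r : Z' ⟶ Z) (l : Z' ⟶ V) (hre : Etale r.left)
    (hsq : (yon S).map l ≫ p = (yon S).map r ≫ h) (RB RB' : CommRingCat.{u})
    (w : Spec RB ⟶ V.left) [IsOpenImmersion w] (ww : Spec RB' ⟶ pullback l.left w)
    [IsOpenImmersion ww] :
    ∃ d : Piece V p Z h, Set.range (ww ≫ pullback.fst l.left w ≫ r.left) ⊆ Set.range d.c.left := by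
  obtain ⟨φ, hφ⟩ := Spec.map_surjective (ww ≫ pullback.snd l.left w)
  let _ : Algebra RB RB' := φ.hom.toAlgebra
  have hφ' : Spec.map (CommRingCat.ofHom (algebraMap RB RB')) = ww ≫ pullback.snd l.left w := hφ
  have hc' : (ww ≫ pullback.fst l.left w) ≫ Z'.hom =
      Spec.map (CommRingCat.ofHom (algebraMap RB RB')) ≫ w ≫ V.hom := by
    rw [hφ', Category.assoc, Category.assoc, ← Over.w l, ← Category.assoc (pullback.fst l.left w),
      pullback.condition, Category.assoc]
  let c' : TC (w ≫ V.hom) RB' ⟶ Z' := Over.homMk (ww ≫ pullback.fst l.left w) hc'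
  have hcl : c' ≫ l = cC (w ≫ V.hom) RB' ≫ (Over.homMk w rfl : V0 (w ≫ V.hom) ⟶ V) := by
    apply Over.OverMorphism.ext
    change (ww ≫ pullback.fst l.left w) ≫ l.left = Spec.map _ ≫ w
    rw [hφ', Category.assoc, Category.assoc, pullback.condition]
  refine ⟨⟨RB, RB', w, c' ≫ r, ?_, ?_⟩, ?_⟩
  · change Etale ((ww ≫ pullback.fst l.left w) ≫ r.left)
    infer_instance
  · rw [Functor.map_comp, Category.assoc, ← hsq, ← Category.assoc, ← Functor.map_comp, hcl,
      Functor.map_comp, Category.assoc]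
  · change Set.range (ww ≫ pullback.fst l.left w ≫ r.left) ⊆
      Set.range ((ww ≫ pullback.fst l.left w) ≫ r.left)
    rw [Category.assoc]

theorem exists_piece {Y : Sp S} (V : Over S) (p : (yon S).obj V ⟶ Y) (hpe : RepWith @Etale p)
    (hps : RepWith @Surjective p) (Z : Over S) (h : (yon S).obj Z ⟶ Y) (z : ↥Z.left) :
    ∃ d : Piece V p Z h, z ∈ Set.range d.c.left := by
  have sqh := hpe.rep.isPullback h
  obtain ⟨l, hl⟩ := (yon S).map_surjective (hpe.rep.fst h)
  have hre : Etale (hpe.rep.snd h).left := hpe.property_snd h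
  have hrs : Surjective (hpe.rep.snd h).left := hps.property h _ _ sqh
  obtain ⟨z', hz'⟩ := hrs.surj z
  have hv := V.left.affineOpenCover.covers (l.left z')
  have hoiw : IsOpenImmersion (V.left.affineOpenCover.f (V.left.affineOpenCover.idx (l.left z'))) :=
    V.left.affineOpenCover.map_prop _
  obtain ⟨q, hq⟩ : z' ∈ Set.range (pullback.fst l.left
      (V.left.affineOpenCover.f (V.left.affineOpenCover.idx (l.left z')))) := by
    rw [Scheme.Pullback.range_fst]
    exact hv
  obtain ⟨s, hs⟩ := (pullback l.left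
    (V.left.affineOpenCover.f (V.left.affineOpenCover.idx (l.left z')))).affineOpenCover.covers q
  have hoiww := (pullback l.left
    (V.left.affineOpenCover.f (V.left.affineOpenCover.idx (l.left z')))).affineOpenCover.map_prop
      ((pullback l.left (V.left.affineOpenCover.f
        (V.left.affineOpenCover.idx (l.left z')))).affineOpenCover.idx q)
  obtain ⟨d, hd⟩ := piece_of_data V p Z h (hpe.rep.snd h) l hre (by rw [hl]; exact sqh.w) _ _
    (V.left.affineOpenCover.f (V.left.affineOpenCover.idx (l.left z')))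
    ((pullback l.left (V.left.affineOpenCover.f
      (V.left.affineOpenCover.idx (l.left z')))).affineOpenCover.f
        ((pullback l.left (V.left.affineOpenCover.f
          (V.left.affineOpenCover.idx (l.left z')))).affineOpenCover.idx q))
  refine ⟨d, hd ⟨s, ?_⟩⟩
  rw [Scheme.Hom.comp_apply, Scheme.Hom.comp_apply, hs, hq, hz']


theorem isUnivClosedMor_of_tests {X Y : Sp S} (hX : IsAlgSpace X) (hY : IsAlgSpace Y) (f : X ⟶ Y)
    (hqc : IsQuasiCompactMor f) (V : Over S) (p : (yon S).obj V ⟶ Y) (hpe : RepWith @Etale p)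
    (hps : RepWith @Surjective p)
    (Hn : ∀ (k : ℕ) (P : Sp S) (fst : P ⟶ X)
      (snd : P ⟶ (yon S).obj (Over.mk ((𝔸(ULift.{u} (Fin k); V.left) ↘ V.left) ≫ V.hom))),
      IsPullback fst snd f
        ((yon S).map (Over.homMk (𝔸(ULift.{u} (Fin k); V.left) ↘ V.left)) ≫ p) →
        IsClosedMap (Points.map snd)) : IsUnivClosedMor f := by
  rw [Groth.Agent.S9923.isUnivClosedMor_iff_affine]
  intro Z hZ h P₀ fst snd sqZ
  choose d hd using exists_piece V p hpe hps Z h
  have hopen : ∀ z, IsOpen (Set.range (d z).c.left) := fun z => by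
    have := (d z).etale
    exact (d z).c.left.isOpenMap.isOpen_range
  obtain ⟨t, ht⟩ := isCompact_univ.elim_finite_subcover (fun z => Set.range (d z).c.left) hopen
    (fun z _ => Set.mem_iUnion.mpr ⟨z, hd z⟩)
  let W : Fin t.card → Over S := fun j =>
    TC ((d (t.equivFin.symm j).1).w ≫ V.hom) (d (t.equivFin.symm j).1).B'
  let cc : ∀ j, W j ⟶ Z := fun j => (d (t.equivFin.symm j).1).c
  have hc : StdFpqc Z W cc :=
    { affine := fun j => inferInstanceAs (IsAffine (Spec _))
      flat := fun j => by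
        have := (d (t.equivFin.symm j).1).etale
        exact inferInstanceAs (Flat (d (t.equivFin.symm j).1).c.left)
      surj := fun z => by
        have := ht (Set.mem_univ z)
        simp only [Set.mem_iUnion] at this
        obtain ⟨z₀, hz₀, hz⟩ := this
        refine ⟨t.equivFin ⟨z₀, hz₀⟩, ?_⟩
        change z ∈ Set.range (d (t.equivFin.symm (t.equivFin ⟨z₀, hz₀⟩)).1).c.left
        rw [Equiv.symm_apply_apply]
        exact hz }
  have := hZ
  refine hc.isClosedMap (fun j => IsPullback.of_hasPullback snd ((yon S).map (cc j))) ?_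
  intro j
  have big := (IsPullback.of_hasPullback snd ((yon S).map (cc j))).paste_horiz sqZ
  rw [(d (t.equivFin.symm j).1).compat] at big
  exact closed_piece hX hY f hqc V p Hn (d (t.equivFin.symm j).1).w (d (t.equivFin.symm j).1).B' big

end Groth.Agent.Lib.Helper3.SpUC
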