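import Groth.Agent.Lib.Helper3.SpUC2
import Groth.Agent.Lib.Helper3.AlgSpLocP4
import Groth.Agent.Lib.Helper3.AlgSpLocP3
set_option autoImplicit false
universe u
open CategoryTheory CategoryTheory.Limits AlgebraicGeometry Opposite MorphismProperty Topology

namespace Groth.Agent.Lib.Helper3.SpUC

open AlgSp Groth.Agent.Lib.Helper3 AlgebraicGeometry.AffineSpace

theorem main10053 (S : Scheme.{u}) {X Y : AlgSp.Space S} (f : X ⟶ Y)
    (hqc : AlgSp.IsQuasiCompactMor f.hom) :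
    (AlgSp.IsUnivClosedMor f.hom ↔
      ∀ (Z : AlgSp.Space S) (g : Z ⟶ Y), AlgSp.LocP @LocallyOfFinitePresentation g.hom →
        ∀ (P : AlgSp.Sp S) (fst : P ⟶ X.obj) (snd : P ⟶ Z.obj), IsPullback fst snd f.hom g.hom →
          IsClosedMap (AlgSp.Points.map snd)) ∧
    (AlgSp.IsUnivClosedMor f.hom ↔
      ∃ (V : Over S) (p : (AlgSp.yon S).obj V ⟶ Y.obj), AlgSp.RepWith @Etale p ∧ AlgSp.RepWith @Surjective p ∧
        ∀ (n : ℕ) (P : AlgSp.Sp S) (fst : P ⟶ X.obj)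
          (snd : P ⟶ (AlgSp.yon S).obj (Over.mk ((𝔸(ULift.{u} (Fin n); V.left) ↘ V.left) ≫ V.hom))),
          IsPullback fst snd f.hom ((AlgSp.yon S).map (Over.homMk (𝔸(ULift.{u} (Fin n); V.left) ↘ V.left)) ≫ p) →
            IsClosedMap (AlgSp.Points.map snd)) := by
  have h13 : AlgSp.IsUnivClosedMor f.hom →
      ∃ (V : Over S) (p : (AlgSp.yon S).obj V ⟶ Y.obj), AlgSp.RepWith @Etale p ∧ AlgSp.RepWith @Surjective p ∧
        ∀ (n : ℕ) (P : AlgSp.Sp S) (fst : P ⟶ X.obj)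
          (snd : P ⟶ (AlgSp.yon S).obj (Over.mk ((𝔸(ULift.{u} (Fin n); V.left) ↘ V.left) ≫ V.hom))),
          IsPullback fst snd f.hom ((AlgSp.yon S).map (Over.homMk (𝔸(ULift.{u} (Fin n); V.left) ↘ V.left)) ≫ p) →
            IsClosedMap (AlgSp.Points.map snd) := by
    intro hf
    obtain ⟨V, p, hpe, hps⟩ := Y.property.atlas
    exact ⟨V, p, hpe, hps, fun n P fst snd sq => hf (IsAlgSpace.yon_obj _) _ fst snd sq⟩
  have h31 : (∃ (V : Over S) (p : (AlgSp.yon S).obj V ⟶ Y.obj), AlgSp.RepWith @Etale p ∧ AlgSp.RepWith @Surjective p ∧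
        ∀ (n : ℕ) (P : AlgSp.Sp S) (fst : P ⟶ X.obj)
          (snd : P ⟶ (AlgSp.yon S).obj (Over.mk ((𝔸(ULift.{u} (Fin n); V.left) ↘ V.left) ≫ V.hom))),
          IsPullback fst snd f.hom ((AlgSp.yon S).map (Over.homMk (𝔸(ULift.{u} (Fin n); V.left) ↘ V.left)) ≫ p) →
            IsClosedMap (AlgSp.Points.map snd)) → AlgSp.IsUnivClosedMor f.hom := by
    rintro ⟨V, p, hpe, hps, Hn⟩
    exact isUnivClosedMor_of_tests X.property Y.property f.hom hqc V p hpe hps Hn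
  refine ⟨⟨fun hf Z g _ P fst snd sq => hf Z.property g.hom fst snd sq, fun h2 => ?_⟩, ⟨h13, h31⟩⟩
  obtain ⟨V, p, hpe, hps⟩ := Y.property.atlas
  refine h31 ⟨V, p, hpe, hps, fun n P fst snd sq => ?_⟩
  let A : Over S := Over.mk ((𝔸(ULift.{u} (Fin n); V.left) ↘ V.left) ≫ V.hom)
  let An : A ⟶ V := Over.homMk (𝔸(ULift.{u} (Fin n); V.left) ↘ V.left)
  let Z : AlgSp.Space S := ⟨(yon S).obj A, IsAlgSpace.yon_obj A⟩
  let g : Z ⟶ Y := ObjectProperty.homMk ((yon S).map An ≫ p)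
  have hP := isEtLocal_locallyOfFinitePresentation.{u}
  have hg : AlgSp.LocP @LocallyOfFinitePresentation g.hom := by
    change AlgSp.LocP @LocallyOfFinitePresentation ((yon S).map An ≫ p)
    refine locP_comp hP (IsAlgSpace.yon_obj A) (IsAlgSpace.yon_obj V) Y.property _ _ ?_ ?_
    · refine locP_of_repWith hP _ ((repWith_yon_map_iff _ An).2 ?_)
      change LocallyOfFinitePresentation (𝔸(ULift.{u} (Fin n); V.left) ↘ V.left)
      infer_instance
    · refine locP_of_repWith hP _ (repWith_mono ?_ hpe)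
      intro _ _ q hq
      have : Etale q := hq
      infer_instance
  exact h2 Z g hg P fst snd sq

end Groth.Agent.Lib.Helper3.SpUC
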