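import Groth.Statements.S14695
import Groth.Agent.S13152
import Groth.Agent.Lib.Helper3.SchImGrp0
import Groth.Agent.Lib.Helper3.AffDescFlat
set_option autoImplicit false
universe u
open CategoryTheory CategoryTheory.Limits AlgebraicGeometry MonObj
open MonoidalCategory CartesianMonoidalCategory

namespace Groth.Agent.Lib.Helper3.TorsPush

section abstract

variable {C : Type*} [Category C] [CartesianMonoidalCategory C]

/-- for a pseudo-torsor `P'` under `G'` and any `φ : P ⟶ P'`, the map
`(g', p) ↦ (g' φ(p), p) : G' ⊗ P ⟶ P' ⊗ P` is an isomorphism -/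
theorem isIso_theta {G' P P' : C} (act' : G' ⊗ P' ⟶ P')
    (hτ : IsIso (lift act' (snd G' P'))) (φ : P ⟶ P') :
    IsIso (lift ((G' ◁ φ) ≫ act') (snd G' P)) := by
  set τ' := lift act' (snd G' P') with hτ'
  have h1 : τ' ≫ fst P' P' = act' := lift_fst _ _
  have h2 : τ' ≫ snd P' P' = snd G' P' := lift_snd _ _
  have h3 : inv τ' ≫ snd G' P' = snd P' P' := by rw [IsIso.inv_comp_eq, h2]
  have h4 : inv τ' ≫ act' = fst P' P' := by rw [IsIso.inv_comp_eq, h1]
  set θ := lift ((G' ◁ φ) ≫ act') (snd G' P) with hθ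
  have h5 : θ ≫ (P' ◁ φ) = (G' ◁ φ) ≫ τ' := by
    apply CartesianMonoidalCategory.hom_ext
    · simp [hθ, hτ']
    · simp [hθ, hτ']
  refine ⟨⟨lift ((P' ◁ φ) ≫ inv τ' ≫ fst G' P') (snd P' P), ?_, ?_⟩⟩
  · apply CartesianMonoidalCategory.hom_ext
    · rw [Category.assoc, lift_fst, reassoc_of% h5, IsIso.hom_inv_id_assoc, Category.id_comp,
        whiskerLeft_fst]
    · rw [Category.assoc, lift_snd, Category.id_comp, hθ, lift_snd]
  · have h6 : lift ((P' ◁ φ) ≫ inv τ' ≫ fst G' P') (snd P' P) ≫ (G' ◁ φ) = (P' ◁ φ) ≫ inv τ' := by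
      apply CartesianMonoidalCategory.hom_ext
      · simp
      · simp [h3]
    apply CartesianMonoidalCategory.hom_ext
    · rw [Category.assoc, hθ, lift_fst, reassoc_of% h6, h4, Category.id_comp, whiskerLeft_fst]
    · rw [Category.assoc, hθ, lift_snd, lift_snd, Category.id_comp]

/-- equivariance square through the pseudo-torsor isomorphisms -/
theorem square {G G' P P' : C} (act : G ⊗ P ⟶ P) (act' : G' ⊗ P' ⟶ P') (g : G ⟶ G') (φ : P ⟶ P')
    (h : act ≫ φ = lift (fst G P ≫ g) (snd G P ≫ φ) ≫ act') :
    lift act (snd G P) ≫ (φ ▷ P) = (g ▷ P) ≫ lift ((G' ◁ φ) ≫ act') (snd G' P) := by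
  have h0 : lift (fst G P ≫ g) (snd G P ≫ φ) = (g ▷ P) ≫ (G' ◁ φ) := by
    apply CartesianMonoidalCategory.hom_ext <;> simp
  apply CartesianMonoidalCategory.hom_ext
  · rw [Category.assoc, whiskerRight_fst, lift_fst_assoc, h, Category.assoc, lift_fst, h0,
      Category.assoc]
  · simp

end abstract

end Groth.Agent.Lib.Helper3.TorsPush

namespace Groth.Agent.Lib.Helper3.TorsPush

variable {X T : Scheme.{u}} (t : T ⟶ X)

/-- base change of a morphism whose generic fibre is an isomorphism -/
theorem isIso_pullback_map_of_isPullback {A A' B B' : Over X} {h' : A' ⟶ B'} {a : A' ⟶ A}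
    {b : B' ⟶ B} {h : A ⟶ B} (sq : IsPullback h' a b h)
    (hh : IsIso ((Over.pullback t).map h)) : IsIso ((Over.pullback t).map h') :=
  (sq.map (Over.pullback t)).isIso_fst_of_isIso

theorem isPullback_pullback_map_left {A B : Over X} (b : A ⟶ B) :
    IsPullback ((Over.pullback t).map b).left (pullback.fst A.hom t) (pullback.fst B.hom t)
      b.left := by
  have hAB : A.hom = b.left ≫ B.hom := (Over.w b).symm
  refine IsPullback.of_right (h₁₂ := pullback.snd B.hom t) (h₂₂ := B.hom) (v₁₃ := t) ?_
    (Groth.Agent.Lib.Helper3.SchIm.pullback_map_left_fst t b) (IsPullback.of_hasPullback B.hom t).flip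
  have h1 : ((Over.pullback t).map b).left ≫ pullback.snd B.hom t = pullback.snd A.hom t :=
    pullback.lift_snd _ _ _
  rw [h1, ← hAB]
  exact (IsPullback.of_hasPullback A.hom t).flip

/-- descent of "generic fibre is an isomorphism" along an fpqc base change -/
theorem isIso_pullback_map_of_isPullback_of_fpqc {A A' B B' : Over X} {h' : A' ⟶ B'} {a : A' ⟶ A}
    {b : B' ⟶ B} {h : A ⟶ B} (sq : IsPullback h' a b h)
    [Surjective b.left] [Flat b.left] [QuasiCompact b.left]
    (hh : IsIso ((Over.pullback t).map h')) : IsIso ((Over.pullback t).map h) := by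
  have sq1 := (sq.map (Over.pullback t)).map (Over.forget T)
  have hb := isPullback_pullback_map_left t b
  have hQ : (@Surjective ⊓ @Flat ⊓ @QuasiCompact : MorphismProperty Scheme.{u})
      ((Over.pullback t).map b).left :=
    ⟨⟨MorphismProperty.of_isPullback (P := @Surjective) hb.flip inferInstance,
      MorphismProperty.of_isPullback (P := @Flat) hb.flip inferInstance⟩,
      MorphismProperty.of_isPullback (P := @QuasiCompact) hb.flip inferInstance⟩
  have h1 : IsIso ((Over.pullback t).map h').left :=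
    inferInstanceAs (IsIso ((Over.forget T).map ((Over.pullback t).map h')))
  have h2 : (MorphismProperty.isomorphisms Scheme.{u}) ((Over.pullback t).map h).left :=
    MorphismProperty.of_isPullback_of_descendsAlong
      (P := MorphismProperty.isomorphisms Scheme.{u})
      (Q := (@Surjective ⊓ @Flat ⊓ @QuasiCompact : MorphismProperty Scheme.{u}))
      (fst := ((Over.pullback t).map h').left) (snd := ((Over.pullback t).map a).left)
      (f := ((Over.pullback t).map b).left) (g := ((Over.pullback t).map h).left) sq1 hQ h1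
  have h3 : IsIso ((Over.forget T).map ((Over.pullback t).map h)) := h2
  exact isIso_of_reflects_iso _ (Over.forget T)

end Groth.Agent.Lib.Helper3.TorsPush

namespace Groth.Agent.Lib.Helper3.TorsPush

open Groth.Agent.Lib.Helper3.SchIm in
theorem isPullback_whiskerRight_over {X : Scheme.{u}} (T G H : Over X) (v : G ⟶ H) :
    IsPullback (v ▷ T) (fst G T) (fst H T) v :=
  IsPullback.of_map (Over.forget X) (whiskerRight_fst v T) (isPullback_whiskerRight T G H v)

theorem main {X : Scheme.{u}} [IsIntegral X]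
    (hX : Pi1.IsNormalScheme X) (G G' : Over X) [GrpObj G] [GrpObj G']
    [IsFinite G.hom] [Flat G.hom] [IsFinite G'.hom] [Flat G'.hom]
    (g : G ⟶ G') [IsMonHom g]
    (hg : IsIso ((Over.pullback (X.fromSpecStalk (genericPoint X))).map g))
    (P : Over X) (a : AlgGrp.Action G P) (hP : NonAbH1.IsTorsorFor Scheme.fppfPrecoverage a)
    (P' : Over X) (a' : AlgGrp.Action G' P') (hP' : NonAbH1.IsTorsorFor Scheme.fppfPrecoverage a')
    (hpush : NonAbH1.IsPushforwardAlongSch g a a') (htriv : NonAbH1.HasSectionOver P' (𝟙 X)) :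
    NonAbH1.HasSectionOver P (𝟙 X) := by
  apply Groth.Agent.S13152.result hX G P a hP
  obtain ⟨φ, hφ⟩ := hpush
  -- `P ⟶ X` is fpqc
  have hT : NonAbH1.IsTorsorFor Scheme.fpqcPrecoverage a := by
    obtain ⟨h1, Rr, hR, h2⟩ := hP
    exact ⟨h1, Rr, Scheme.fppfPrecoverage_le_fpqcPrecoverage _ hR, h2⟩
  have hfin : IsFinite P.hom :=
    Groth.Agent.Lib.Helper9.Tors.prop_hom_of_isTorsorFor_fpqc (P := @IsFinite) a hT inferInstance
  have hflat : Flat P.hom :=
    Groth.Agent.Lib.Helper9.Tors.prop_hom_of_isTorsorFor_fpqc (P := @Flat) a hT inferInstance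
  have hsurj : Surjective P.hom :=
    Groth.Agent.Lib.Helper9.Tors.prop_hom_of_isTorsorFor_fpqc (P := @Surjective) a hT
      (Groth.Agent.Lib.Helper9.Tors.surjective_hom G)
  set j := X.fromSpecStalk (genericPoint X) with hj
  -- generic iso of `g ▷ P`
  have h1 : IsIso ((Over.pullback j).map (g ▷ P)) :=
    isIso_pullback_map_of_isPullback j (isPullback_whiskerRight_over P G G' g) hg
  -- generic iso of `φ ▷ P`
  have hτ : IsIso (lift a.act (snd G P)) := hP.1
  have hθ : IsIso (lift ((G' ◁ φ) ≫ a'.act) (snd G' P)) := isIso_theta a'.act hP'.1 φ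
  have hsq := square a.act a'.act g φ hφ
  have h2 : IsIso ((Over.pullback j).map (φ ▷ P)) := by
    have e : φ ▷ P = inv (lift a.act (snd G P)) ≫ (g ▷ P) ≫
        lift ((G' ◁ φ) ≫ a'.act) (snd G' P) := by
      rw [IsIso.eq_inv_comp, hsq]
    rw [e, Functor.map_comp, Functor.map_comp]
    infer_instance
  -- descent
  have : Surjective (fst P' P).left := by
    change Surjective (pullback.fst P'.hom P.hom)
    infer_instance
  have : Flat (fst P' P).left := by
    change Flat (pullback.fst P'.hom P.hom)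
    infer_instance
  have : QuasiCompact (fst P' P).left := by
    change QuasiCompact (pullback.fst P'.hom P.hom)
    infer_instance
  have h3 : IsIso ((Over.pullback j).map φ) :=
    isIso_pullback_map_of_isPullback_of_fpqc j (isPullback_whiskerRight_over P P P' φ) h2
  -- the section
  obtain ⟨σ', hσ'⟩ := htriv
  let x' : Spec (X.presheaf.stalk (genericPoint X)) ⟶ pullback P'.hom j :=
    pullback.lift (j ≫ σ') (𝟙 _) (by rw [Category.assoc, hσ', Category.comp_id, Category.id_comp])
  refine ⟨x' ≫ (inv ((Over.pullback j).map φ)).left ≫ pullback.fst P.hom j, ?_⟩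
  rw [Category.assoc, Category.assoc, pullback.condition]
  have h4 : (inv ((Over.pullback j).map φ)).left ≫ pullback.snd P.hom j = pullback.snd P'.hom j :=
    Over.w (inv ((Over.pullback j).map φ))
  rw [reassoc_of% h4, pullback.lift_snd_assoc, Category.id_comp]

end Groth.Agent.Lib.Helper3.TorsPush
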