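import Groth.Agent.Lib.Helper3.VLift0
import Groth.Agent.Lib.Helper3.SchImFlat
import Mathlib.AlgebraicGeometry.Morphisms.LocalFlatDescent
import Mathlib.AlgebraicGeometry.Morphisms.Etale
set_option autoImplicit false
universe u
open CategoryTheory CategoryTheory.Limits AlgebraicGeometry Opposite

namespace Groth.Agent.Lib.Helper3.VLift

/-- The fibre square of a quasi-compact scheme theoretically dominant morphism between flat
schemes over `T` is scheme theoretically dominant. -/
theorem dominant_pullback_map {X Y T : Scheme.{u}} (a : X ⟶ T) (c : Y ⟶ T) (b' : X ⟶ Y)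
    (h : b' ≫ c = a) [Flat a] [Flat c] [QuasiCompact b'] [IsSchemeTheoreticallyDominant b'] :
    IsSchemeTheoreticallyDominant
      (pullback.map a a c c b' b' (𝟙 T) (by rw [h, Category.comp_id]) (by rw [h, Category.comp_id])) := by
  let m1 : pullback a a ⟶ pullback c a :=
    pullback.map a a c a b' (𝟙 X) (𝟙 T) (by rw [h, Category.comp_id]) (by simp)
  let m2 : pullback c a ⟶ pullback c c :=
    pullback.map c a c c (𝟙 Y) b' (𝟙 T) (by simp) (by rw [h, Category.comp_id])
  have m1f : m1 ≫ pullback.fst c a = pullback.fst a a ≫ b' := pullback.lift_fst _ _ _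
  have m1s : m1 ≫ pullback.snd c a = pullback.snd a a := by
    rw [show m1 ≫ pullback.snd c a = pullback.snd a a ≫ 𝟙 X from pullback.lift_snd _ _ _,
      Category.comp_id]
  have m2f : m2 ≫ pullback.fst c c = pullback.fst c a := by
    rw [show m2 ≫ pullback.fst c c = pullback.fst c a ≫ 𝟙 Y from pullback.lift_fst _ _ _,
      Category.comp_id]
  have m2s : m2 ≫ pullback.snd c c = pullback.snd c a ≫ b' := pullback.lift_snd _ _ _
  have hm : pullback.map a a c c b' b' (𝟙 T) (by rw [h, Category.comp_id])
      (by rw [h, Category.comp_id]) = m1 ≫ m2 := by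
    apply pullback.hom_ext
    · rw [Category.assoc, m2f, m1f]; exact pullback.lift_fst _ _ _
    · rw [Category.assoc, m2s, ← Category.assoc, m1s]; exact pullback.lift_snd _ _ _
  have sq1 : IsPullback m1 (pullback.fst a a) (pullback.fst c a) b' := by
    refine IsPullback.of_right (h₁₂ := pullback.snd c a) (h₂₂ := c) (v₁₃ := a) ?_ m1f
      (IsPullback.of_hasPullback c a).flip
    rw [m1s, h]
    exact (IsPullback.of_hasPullback a a).flip
  have sq2 : IsPullback m2 (pullback.snd c a) (pullback.snd c c) b' := by
    refine IsPullback.of_right (h₁₂ := pullback.fst c c) (h₂₂ := c) (v₁₃ := c) ?_ m2s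
      (IsPullback.of_hasPullback c c)
    rw [m2f, h]
    exact (IsPullback.of_hasPullback c a)
  have : Flat (pullback.fst c a) := inferInstance
  have : Flat (pullback.snd c c) := inferInstance
  have h1 : IsSchemeTheoreticallyDominant m1 := IsSchemeTheoreticallyDominant.of_isPullback sq1.flip
  have h2 : IsSchemeTheoreticallyDominant m2 := IsSchemeTheoreticallyDominant.of_isPullback sq2.flip
  rw [hm]
  infer_instance

end Groth.Agent.Lib.Helper3.VLift

namespace Groth.Agent.Lib.Helper3.VLift

open Scheme.IdealSheafData in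
/-- **Scheme-level core**: the closure of a generic section in an etale chart is etale over a
valuation ring. -/
theorem core_scheme (A K : Type u) [CommRing A] [IsDomain A] [ValuationRing A] [Field K]
    [Algebra A K] [IsFractionRing A K] {U R Ux : Scheme.{u}} [IsAffine U]
    (q : U ⟶ Spec (CommRingCat.of A)) (s t : R ⟶ U) [Etale s] (hst : s ≫ q = t ≫ q)
    (hcl : IsClosedImmersion (pullback.lift s t hst))
    (b : Ux ⟶ U) [QuasiCompact b] (a : Ux ⟶ Spec (CommRingCat.of K))
    (ha : a ≫ Spec.map (CommRingCat.ofHom (algebraMap A K)) = b ≫ q)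
    (hinv : b.ker.comap s = b.ker.comap t)
    (ρ : pullback (b ≫ q) (b ≫ q) ⟶ R) (hρs : ρ ≫ s = pullback.fst _ _ ≫ b)
    (hρt : ρ ≫ t = pullback.snd _ _ ≫ b)
    (u : U) (hu : u ∈ closure (Set.range b)) (hqu : q u = IsLocalRing.closedPoint A) :
    Etale (b.imageι ≫ q) ∧ Surjective (b.imageι ≫ q) ∧
      ∃ ρ' : pullback (b.imageι ≫ q) (b.imageι ≫ q) ⟶ R,
        ρ' ≫ s = pullback.fst _ _ ≫ b.imageι ∧ ρ' ≫ t = pullback.snd _ _ ≫ b.imageι := by
  have hdom : IsSchemeTheoreticallyDominant b.toImage :=
    ImmDesc.isSchemeTheoreticallyDominant_toImage b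
  -- flatness
  have hKA : Flat (Spec.map (CommRingCat.ofHom (algebraMap A K))) := by
    rw [HasRingHomProperty.Spec_iff (P := @Flat)]
    exact RingHom.flat_algebraMap_iff.mpr (IsLocalization.flat _ (nonZeroDivisors A))
  have hv : Flat (b.imageι ≫ q) :=
    flat_of_dominant_of_fractionRing A K (b.imageι ≫ q) b.toImage a (by
      rw [ha, ← Category.assoc, b.toImage_imageι])
  have hbq : Flat (b ≫ q) := by
    rw [← ha]; infer_instance
  -- the restricted relation
  let I := b.ker
  have hs'' : Etale (subschemeMap (I.comap s) I s (I.le_map_comap s)) := by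
    rw [← comapIso_hom_snd]
    infer_instance
  let s'' : (I.comap s).subscheme ⟶ I.subscheme := subschemeMap (I.comap s) I s (I.le_map_comap s)
  have hle : I ≤ (I.comap s).map t := by
    rw [le_map_iff_comap_le]; exact hinv.ge
  let t'' : (I.comap s).subscheme ⟶ I.subscheme := subschemeMap (I.comap s) I t hle
  have hs''ι : s'' ≫ I.subschemeι = (I.comap s).subschemeι ≫ s := subschemeMap_subschemeι _ _ _ _
  have ht''ι : t'' ≫ I.subschemeι = (I.comap s).subschemeι ≫ t := subschemeMap_subschemeι _ _ _ _
  let ι : I.subscheme ⟶ U := I.subschemeι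
  have hιdef : b.imageι = ι := rfl
  let v : I.subscheme ⟶ Spec (CommRingCat.of A) := ι ≫ q
  have hm0 : s'' ≫ v = t'' ≫ v := by
    simp only [v, ι]
    rw [← Category.assoc, hs''ι, ← Category.assoc, ht''ι, Category.assoc, Category.assoc, hst]
  let m : (I.comap s).subscheme ⟶ pullback v v := pullback.lift s'' t'' hm0
  have hmf : m ≫ pullback.fst v v = s'' := pullback.lift_fst _ _ _
  have hms : m ≫ pullback.snd v v = t'' := pullback.lift_snd _ _ _
  -- m is a closed immersion
  let pm : pullback v v ⟶ pullback q q :=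
    pullback.map v v q q ι ι (𝟙 _) (by simp [v]) (by simp [v])
  have hpmf : pm ≫ pullback.fst q q = pullback.fst v v ≫ ι := pullback.lift_fst _ _ _
  have hpms : pm ≫ pullback.snd q q = pullback.snd v v ≫ ι := pullback.lift_snd _ _ _
  have hpm_mono : Mono pm := by
    constructor
    intro Z x y hxy
    apply pullback.hom_ext
    · rw [← cancel_mono ι, Category.assoc, Category.assoc, ← hpmf, ← Category.assoc,
        ← Category.assoc, hxy]
    · rw [← cancel_mono ι, Category.assoc, Category.assoc, ← hpms, ← Category.assoc,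
        ← Category.assoc, hxy]
  have hmpm : m ≫ pm = (I.comap s).subschemeι ≫ pullback.lift s t hst := by
    apply pullback.hom_ext
    · rw [Category.assoc, hpmf, ← Category.assoc, hmf, Category.assoc, pullback.lift_fst]
      exact hs''ι
    · rw [Category.assoc, hpms, ← Category.assoc, hms, Category.assoc, pullback.lift_snd]
      exact ht''ι
  have hmcl : IsClosedImmersion m := by
    have : IsClosedImmersion (m ≫ pm) := by rw [hmpm]; infer_instance
    exact IsClosedImmersion.of_comp m pm
  -- m is scheme theoretically dominant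
  have hbv : b.toImage ≫ v = b ≫ q := by
    simp only [v, ι]; rw [← Category.assoc]; congr 1; exact b.toImage_imageι
  have hvflat : Flat v := hv
  have hδ := dominant_pullback_map (b ≫ q) v b.toImage hbv
  let ρ'' : pullback (b ≫ q) (b ≫ q) ⟶ (I.comap s).subscheme :=
    pullback.lift ρ (pullback.fst _ _ ≫ b.toImage) (by
      rw [hρs, Category.assoc]; congr 1; exact b.toImage_imageι.symm) ≫ (I.comapIso s).inv
  have hρ''ι : ρ'' ≫ (I.comap s).subschemeι = ρ := by
    simp only [ρ'']
    rw [Category.assoc, comapIso_inv_subschemeι, pullback.lift_fst]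
  have hδm : pullback.map (b ≫ q) (b ≫ q) v v b.toImage b.toImage (𝟙 _)
      (by rw [hbv, Category.comp_id]) (by rw [hbv, Category.comp_id]) = ρ'' ≫ m := by
    apply pullback.hom_ext
    · rw [pullback.lift_fst, Category.assoc, hmf, ← cancel_mono ι, Category.assoc, Category.assoc,
        hs''ι, ← Category.assoc ρ'', hρ''ι, hρs]
      congr 1; exact b.toImage_imageι
    · rw [pullback.lift_snd, Category.assoc, hms, ← cancel_mono ι, Category.assoc, Category.assoc,
        ht''ι, ← Category.assoc ρ'', hρ''ι, hρt]
      congr 1; exact b.toImage_imageι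
  have hmker : m.ker = ⊥ := by
    have h1 : m.ker ≤ (ρ'' ≫ m).ker := Scheme.Hom.le_ker_comp _ _
    rw [← hδm, hδ.ker_eq_bot] at h1
    exact le_bot_iff.1 h1
  have hmiso : IsIso m := IsClosedImmersion.isIso_iff_ker_eq_bot.mpr hmker
  -- surjectivity
  have hsurj : Surjective v := by
    have hcl' : closure (Set.range b) ⊆ Set.range ι := by
      refine closure_minimal ?_ ι.isClosedEmbedding.isClosed_range
      rintro _ ⟨x, rfl⟩
      refine ⟨b.toImage x, ?_⟩
      rw [← Scheme.Hom.comp_apply]
      exact congrArg (fun f : Ux ⟶ U => f x) b.toImage_imageι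
    obtain ⟨u', hu'⟩ := hcl' hu
    have hvu' : v u' = IsLocalRing.closedPoint A := by
      simp only [v]
      rw [Scheme.Hom.comp_apply, hu', hqu]
    constructor
    intro y
    have hy : y ⤳ v u' := by
      rw [hvu']
      exact IsLocalRing.specializes_closedPoint (R := A) y
    obtain ⟨x', -, hx'⟩ := (Flat.generalizingMap (f := v)) hy
    exact ⟨x', hx'⟩
  have hqc : QuasiCompact v := inferInstance
  -- etale by descent
  have hfst : Etale (pullback.fst v v) := by
    have : pullback.fst v v = inv m ≫ s'' := by rw [← hmf, IsIso.inv_hom_id_assoc]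
    rw [this]
    infer_instance
  have hvet : Etale v :=
    MorphismProperty.of_pullback_fst_of_descendsAlong (P := @Etale)
      (Q := @Surjective ⊓ @Flat ⊓ @QuasiCompact) (f := v) (g := v) ⟨⟨hsurj, hvflat⟩, hqc⟩ hfst
  refine ⟨hvet, hsurj, inv m ≫ (I.comap s).subschemeι, ?_, ?_⟩
  · rw [Category.assoc, ← hs''ι, ← Category.assoc]
    congr 1
    rw [← hmf, IsIso.inv_hom_id_assoc]
  · rw [Category.assoc, ← ht''ι, ← Category.assoc]
    congr 1
    rw [← hms, IsIso.inv_hom_id_assoc]

end Groth.Agent.Lib.Helper3.VLift
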