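import Groth.Agent.Lib.Helper3.VLift1
import Groth.Agent.Lib.Helper3.AlgSpDiag
import Groth.Prelude.Def_AlgSpMor5
set_option autoImplicit false
universe u
open CategoryTheory CategoryTheory.Limits AlgebraicGeometry Opposite AlgSp

namespace Groth.Agent.Lib.Helper3.VLift

variable {S : Scheme.{u}}

/-- Over a separated morphism to a scheme, the represented pullback of two charts is a closed
subscheme of the fibre product of the charts over the base. -/
theorem isClosedImmersion_lift_of_separated {G : Sp S} {T : Over S} (π : G ⟶ (yon S).obj T)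
    (hπ : IsSeparatedMor π) {V₁ V₂ W : Over S} (a : (yon S).obj V₁ ⟶ G) (b : (yon S).obj V₂ ⟶ G)
    (w₁ : W ⟶ V₁) (w₂ : W ⟶ V₂) (sq : IsPullback ((yon S).map w₁) ((yon S).map w₂) a b)
    (v₁ : V₁ ⟶ T) (v₂ : V₂ ⟶ T) (h₁ : a ≫ π = (yon S).map v₁) (h₂ : b ≫ π = (yon S).map v₂)
    (hw : w₁.left ≫ v₁.left = w₂.left ≫ v₂.left) :
    IsClosedImmersion (pullback.lift w₁.left w₂.left hw) := by
  have hwO : w₁ ≫ v₁ = w₂ ≫ v₂ := by
    ext; exact hw
  let lam : W ⟶ pullback v₁ v₂ := pullback.lift w₁ w₂ hwO
  have hl1 : lam ≫ pullback.fst v₁ v₂ = w₁ := pullback.lift_fst _ _ _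
  have hl2 : lam ≫ pullback.snd v₁ v₂ = w₂ := pullback.lift_snd _ _ _
  have sqQ : IsPullback ((yon S).map (pullback.fst v₁ v₂)) ((yon S).map (pullback.snd v₁ v₂))
      ((yon S).map v₁) ((yon S).map v₂) := (IsPullback.of_hasPullback v₁ v₂).map (yon S)
  let m' : (yon S).obj (pullback v₁ v₂) ⟶ pullback π π :=
    pullback.lift ((yon S).map (pullback.fst v₁ v₂) ≫ a) ((yon S).map (pullback.snd v₁ v₂) ≫ b) (by
      rw [Category.assoc, h₁, Category.assoc, h₂]; exact sqQ.w)
  have hm1 : m' ≫ pullback.fst π π = (yon S).map (pullback.fst v₁ v₂) ≫ a := pullback.lift_fst _ _ _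
  have hm2 : m' ≫ pullback.snd π π = (yon S).map (pullback.snd v₁ v₂) ≫ b := pullback.lift_snd _ _ _
  have sqD : IsPullback ((yon S).map w₁ ≫ a) ((yon S).map lam) (pullback.diagonal π) m' := by
    refine IsPullback.mk' ?_ ?_ ?_
    · apply pullback.hom_ext
      · rw [Category.assoc, pullback.diagonal_fst, Category.comp_id, Category.assoc, hm1,
          ← Category.assoc, ← Functor.map_comp, hl1]
      · rw [Category.assoc, pullback.diagonal_snd, Category.comp_id, Category.assoc, hm2,
          ← Category.assoc, ← Functor.map_comp, hl2, sq.w]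
    · intro Z z₁ z₂ _ h
      apply sq.hom_ext
      · have := h =≫ (yon S).map (pullback.fst v₁ v₂)
        simpa only [Category.assoc, ← Functor.map_comp, hl1] using this
      · have := h =≫ (yon S).map (pullback.snd v₁ v₂)
        simpa only [Category.assoc, ← Functor.map_comp, hl2] using this
    · intro Z x y hxy
      have e1 : x = y ≫ (yon S).map (pullback.fst v₁ v₂) ≫ a := by
        have := hxy =≫ pullback.fst π π
        simpa only [Category.assoc, pullback.diagonal_fst, Category.comp_id, hm1] using this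
      have e2 : x = y ≫ (yon S).map (pullback.snd v₁ v₂) ≫ b := by
        have := hxy =≫ pullback.snd π π
        simpa only [Category.assoc, pullback.diagonal_snd, Category.comp_id, hm2] using this
      have hw' : (y ≫ (yon S).map (pullback.fst v₁ v₂)) ≫ a =
          (y ≫ (yon S).map (pullback.snd v₁ v₂)) ≫ b := by
        rw [Category.assoc, Category.assoc, ← e1, ← e2]
      refine ⟨sq.lift _ _ hw', ?_, ?_⟩
      · rw [← Category.assoc, sq.lift_fst, Category.assoc, ← e1]
      · apply sqQ.hom_ext
        · rw [Category.assoc, ← Functor.map_comp, hl1, sq.lift_fst]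
        · rw [Category.assoc, ← Functor.map_comp, hl2, sq.lift_snd]
  have hcl : IsClosedImmersion lam.left := hπ.property m' _ lam sqD
  let e : (pullback v₁ v₂).left ≅ pullback v₁.left v₂.left :=
    ((IsPullback.of_hasPullback v₁ v₂).map (Over.forget S)).isoPullback
  have he1 : e.hom ≫ pullback.fst v₁.left v₂.left = (pullback.fst v₁ v₂).left :=
    IsPullback.isoPullback_hom_fst _
  have he2 : e.hom ≫ pullback.snd v₁.left v₂.left = (pullback.snd v₁ v₂).left :=
    IsPullback.isoPullback_hom_snd _
  have key : lam.left ≫ e.hom = pullback.lift w₁.left w₂.left hw := by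
    apply pullback.hom_ext
    · refine (Category.assoc _ _ _).trans ?_
      rw [he1, ← Over.comp_left, hl1, pullback.lift_fst]
    · refine (Category.assoc _ _ _).trans ?_
      rw [he2, ← Over.comp_left, hl2, pullback.lift_snd]
  rw [← key]
  infer_instance

end Groth.Agent.Lib.Helper3.VLift
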