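import Groth.Agent.Lib.Helper3.VLift2
import Groth.Agent.Lib.Helper3.SchImChart
import Groth.Agent.Lib.Helper3.SchImFactor
import Groth.Agent.Lib.Helper3.AlgSpChartPts
set_option autoImplicit false
universe u
open CategoryTheory CategoryTheory.Limits AlgebraicGeometry Opposite AlgSp

namespace Groth.Agent.Lib.Helper3.VLift

variable {S : Scheme.{u}}

theorem mono_Spec_fractionRing (A K : Type u) [CommRing A] [IsDomain A] [Field K] [Algebra A K]
    [IsFractionRing A K] : Mono (Spec.map (CommRingCat.ofHom (algebraMap A K))) := by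
  have h1 : Epi (CommRingCat.ofHom (algebraMap A K)) :=
    IsLocalization.epi (nonZeroDivisors A) K
  have h2 : Mono (CommRingCat.ofHom (algebraMap A K)).op := inferInstance
  exact Scheme.Spec.map_mono (CommRingCat.ofHom (algebraMap A K)).op

/-- **Core**: a section over the fraction field of a valuation ring of a separated morphism to
its spectrum extends, as soon as the closed fibre contains a specialization of the generic
point of the section. -/
theorem core_sp (A K : Type u) [CommRing A] [IsDomain A] [ValuationRing A] [Field K]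
    [Algebra A K] [IsFractionRing A K] (str : Spec (CommRingCat.of A) ⟶ S) {G : Sp S}
    (π : G ⟶ (yon S).obj (Over.mk str)) (hπ : IsSeparatedMor π)
    (σK : (yon S).obj (Over.mk (Spec.map (CommRingCat.ofHom (algebraMap A K)) ≫ str)) ⟶ G)
    (hσK : σK ≫ π = (yon S).map (Over.homMk (Spec.map (CommRingCat.ofHom (algebraMap A K))) rfl :
      Over.mk (Spec.map (CommRingCat.ofHom (algebraMap A K)) ≫ str) ⟶ Over.mk str))
    {U : Over S} [IsAffine U.left] (p : (yon S).obj U ⟶ G) (hp : RepWith @Etale p)
    (q : U ⟶ Over.mk str) (hq : (yon S).map q = p ≫ π)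
    (u : ↥U.left) (hu : Points.ofPt p u ∈ closure (Set.range (Points.map σK)))
    (hqu : q.left u = IsLocalRing.closedPoint A) :
    ∃ l : (yon S).obj (Over.mk str) ⟶ G,
      (yon S).map (Over.homMk (Spec.map (CommRingCat.ofHom (algebraMap A K))) rfl :
        Over.mk (Spec.map (CommRingCat.ofHom (algebraMap A K)) ≫ str) ⟶ Over.mk str) ≫ l = σK ∧
      l ≫ π = 𝟙 _ := by
  let T : Over S := Over.mk str
  let TK : Over S := Over.mk (Spec.map (CommRingCat.ofHom (algebraMap A K)) ≫ str)
  let j : TK ⟶ T := Over.homMk (Spec.map (CommRingCat.ofHom (algebraMap A K))) rfl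
  have hjmono : Mono j.left := mono_Spec_fractionRing A K
  -- the relation
  obtain ⟨s, hs⟩ := (yon S).map_surjective (hp.rep.fst p)
  let t := hp.rep.snd p
  have sqR : IsPullback ((yon S).map s) ((yon S).map t) p p := by
    rw [hs]; exact hp.rep.isPullback p
  have hte : Etale t.left := hp.property p _ t sqR
  have hse : Etale s.left := hp.property p _ s sqR.flip
  -- the fibre of the chart over the generic section
  obtain ⟨b, hb⟩ := (yon S).map_surjective (hp.rep.fst σK)
  let a' := hp.rep.snd σK
  have sqX : IsPullback ((yon S).map a') ((yon S).map b) σK p := by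
    rw [hb]; exact (hp.rep.isPullback σK).flip
  have hae : Etale a'.left := hp.property σK _ a' sqX.flip
  have haq : a' ≫ j = b ≫ q := by
    apply (yon S).map_injective
    rw [Functor.map_comp, Functor.map_comp, ← hσK, hq, ← Category.assoc, sqX.w, Category.assoc]
  have haql : a'.left ≫ j.left = b.left ≫ q.left := by
    rw [← Over.comp_left, haq, Over.comp_left]
  have hst : s ≫ q = t ≫ q := by
    apply (yon S).map_injective
    rw [Functor.map_comp, Functor.map_comp, hq, ← Category.assoc, sqR.w, Category.assoc]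
  have hstl : s.left ≫ q.left = t.left ≫ q.left := by
    rw [← Over.comp_left, hst, Over.comp_left]
  have hclR : IsClosedImmersion (pullback.lift s.left t.left hstl) :=
    isClosedImmersion_lift_of_separated π hπ p p s t sqR q q hq.symm hq.symm hstl
  have hclX : IsClosedImmersion (pullback.lift a'.left b.left haql) :=
    isClosedImmersion_lift_of_separated π hπ σK p a' b sqX j q hσK hq.symm haql
  have hTaff : IsAffine T.left := inferInstanceAs (IsAffine (Spec (CommRingCat.of A)))
  have hTKaff : IsAffine TK.left := inferInstanceAs (IsAffine (Spec (CommRingCat.of K)))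
  have hXaff : IsAffine (hp.rep.pullback σK).left :=
    isAffine_of_isAffineHom (pullback.lift a'.left b.left haql)
  have hbqc : QuasiCompact b.left := inferInstance
  -- invariance of the kernel
  have hsf : Flat s.left := inferInstance
  have htf : Flat t.left := inferInstance
  have hinv : b.left.ker.comap s.left = b.left.ker.comap t.left :=
    SchIm.ker_invariant_of_quasiCompact σK b ((yon S).map a') p sqX s t sqR.w
  -- the generic fibre square lands in the relation
  let f1 := pullback.fst (b.left ≫ q.left) (b.left ≫ q.left)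
  let f2 := pullback.snd (b.left ≫ q.left) (b.left ≫ q.left)
  have hf12 : f1 ≫ b.left ≫ q.left = f2 ≫ b.left ≫ q.left := pullback.condition
  have hXhom : (hp.rep.pullback σK).hom = b.left ≫ q.left ≫ str := by
    have h1 := Over.w b
    have h2 := Over.w q
    rw [← h1, ← h2]; rfl
  let Ξ : Over S := Over.mk (f1 ≫ (hp.rep.pullback σK).hom)
  let ξ1 : Ξ ⟶ hp.rep.pullback σK := Over.homMk f1 rfl
  let ξ2 : Ξ ⟶ hp.rep.pullback σK := Over.homMk f2 (by
    change f2 ≫ (hp.rep.pullback σK).hom = f1 ≫ (hp.rep.pullback σK).hom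
    rw [hXhom, ← Category.assoc, ← Category.assoc, ← Category.assoc, ← Category.assoc,
      Category.assoc f2, Category.assoc f1, hf12])
  have ha12 : ξ1 ≫ a' = ξ2 ≫ a' := by
    ext
    rw [Over.comp_left, Over.comp_left, ← cancel_mono j.left, Category.assoc, Category.assoc, haql]
    exact hf12
  have hpp : (yon S).map (ξ1 ≫ b) ≫ p = (yon S).map (ξ2 ≫ b) ≫ p := by
    rw [Functor.map_comp, Functor.map_comp, Category.assoc, Category.assoc, ← sqX.w,
      ← Category.assoc, ← Category.assoc, ← Functor.map_comp, ← Functor.map_comp, ha12]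
  obtain ⟨ρ0, hρ0⟩ := (yon S).map_surjective (sqR.lift _ _ hpp)
  have hρ1 : ρ0 ≫ s = ξ1 ≫ b := by
    apply (yon S).map_injective
    rw [Functor.map_comp, hρ0, sqR.lift_fst]
  have hρ2 : ρ0 ≫ t = ξ2 ≫ b := by
    apply (yon S).map_injective
    rw [Functor.map_comp, hρ0, sqR.lift_snd]
  have hρ1l : ρ0.left ≫ s.left = f1 ≫ b.left := by
    rw [← Over.comp_left, hρ1]; rfl
  have hρ2l : ρ0.left ≫ t.left = f2 ≫ b.left := by
    rw [← Over.comp_left, hρ2]; rfl
  -- the point
  have hu' : u ∈ closure (Set.range b.left) := by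
    have hopen := isOpenMap_ofPt p hp
    have hcont := Points.continuous_ofPt p
    have h1 : u ∈ (Points.ofPt p) ⁻¹' closure (Set.range (Points.map σK)) := hu
    rw [hopen.preimage_closure_eq_closure_preimage hcont] at h1
    refine closure_mono ?_ h1
    rintro u' ⟨x, hx⟩
    obtain ⟨k, rfl⟩ := (Points.schemeHomeo TK).surjective x
    have hx' : Points.ofPt σK k = Points.ofPt p u' := by
      rw [Points.ofPt_eq_map_ofScheme]; exact hx
    obtain ⟨w, -, hw⟩ := exists_of_ofPt_eq_of_isPullback sqX k u' hx'
    exact ⟨w, hw⟩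
  obtain ⟨hvet, hvsurj, ρ', hρ's, hρ't⟩ := core_scheme A K q.left s.left t.left hstl hclR b.left
    a'.left haql hinv ρ0.left hρ1l hρ2l u hu' hqu
  -- the closure as a scheme over `S`
  let V' : Over S := Over.mk (b.left.imageι ≫ U.hom)
  let ι' : V' ⟶ U := Over.homMk b.left.imageι rfl
  let vO : V' ⟶ T := ι' ≫ q
  have hvOl : vO.left = b.left.imageι ≫ q.left := rfl
  have hepi : Epi ((yon S).map vO) :=
    SchIm.epi_of_etale_surjective _ ((repWith_yon_map_iff _ _).2 hvet)
      ((repWith_yon_map_iff _ _).2 hvsurj)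
  have hkp : IsKernelPair ((yon S).map vO) ((yon S).map (pullback.fst vO vO))
      ((yon S).map (pullback.snd vO vO)) := (IsPullback.of_hasPullback vO vO).map (yon S)
  let e : (pullback vO vO).left ≅ pullback vO.left vO.left :=
    ((IsPullback.of_hasPullback vO vO).map (Over.forget S)).isoPullback
  have he1 : e.hom ≫ pullback.fst vO.left vO.left = (pullback.fst vO vO).left :=
    IsPullback.isoPullback_hom_fst _
  have he2 : e.hom ≫ pullback.snd vO.left vO.left = (pullback.snd vO vO).left :=
    IsPullback.isoPullback_hom_snd _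
  let R := hp.rep.pullback p
  have hρ's' : (e.hom ≫ ρ') ≫ s.left = (pullback.fst vO vO ≫ ι').left :=
    calc (e.hom ≫ ρ') ≫ s.left = e.hom ≫ (ρ' ≫ s.left) := Category.assoc _ _ _
      _ = e.hom ≫ (pullback.fst vO.left vO.left ≫ b.left.imageι) := congrArg (e.hom ≫ ·) hρ's
      _ = (e.hom ≫ pullback.fst vO.left vO.left) ≫ b.left.imageι := (Category.assoc _ _ _).symm
      _ = (pullback.fst vO vO).left ≫ b.left.imageι := congrArg (· ≫ b.left.imageι) he1
      _ = _ := rfl
  have hρ't' : (e.hom ≫ ρ') ≫ t.left = (pullback.snd vO vO ≫ ι').left :=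
    calc (e.hom ≫ ρ') ≫ t.left = e.hom ≫ (ρ' ≫ t.left) := Category.assoc _ _ _
      _ = e.hom ≫ (pullback.snd vO.left vO.left ≫ b.left.imageι) := congrArg (e.hom ≫ ·) hρ't
      _ = (e.hom ≫ pullback.snd vO.left vO.left) ≫ b.left.imageι := (Category.assoc _ _ _).symm
      _ = (pullback.snd vO vO).left ≫ b.left.imageι := congrArg (· ≫ b.left.imageι) he2
      _ = _ := rfl
  let ρO : pullback vO vO ⟶ R := Over.homMk (e.hom ≫ ρ') (by
    have h1 := Over.w s
    rw [← h1, ← Category.assoc, hρ's']
    exact Over.w (pullback.fst vO vO ≫ ι'))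
  have hρOs : ρO ≫ s = pullback.fst vO vO ≫ ι' := by
    ext; exact hρ's'
  have hρOt : ρO ≫ t = pullback.snd vO vO ≫ ι' := by
    ext; exact hρ't'
  have hcoeq : (yon S).map (pullback.fst vO vO) ≫ ((yon S).map ι' ≫ p) =
      (yon S).map (pullback.snd vO vO) ≫ ((yon S).map ι' ≫ p) := by
    rw [← Category.assoc, ← Category.assoc, ← Functor.map_comp, ← Functor.map_comp, ← hρOs, ← hρOt,
      Functor.map_comp, Functor.map_comp, Category.assoc, Category.assoc, sqR.w]
  obtain ⟨l, hl⟩ := SchIm.exists_desc_of_epi ((yon S).map vO) hkp ((yon S).map ι' ≫ p) hcoeq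
  refine ⟨l, ?_, ?_⟩
  · have hne : (Set.range b.left).Nonempty := by
      by_contra h
      rw [Set.not_nonempty_iff_eq_empty] at h
      rw [h, closure_empty] at hu'
      exact hu'
    obtain ⟨_, w, -⟩ := hne
    have hsub : Subsingleton ↥TK.left := inferInstanceAs (Subsingleton (PrimeSpectrum K))
    have hasurj : Surjective a'.left := ⟨fun y => ⟨w, Subsingleton.elim _ _⟩⟩
    have hepia : Epi ((yon S).map a') :=
      SchIm.epi_of_etale_surjective _ ((repWith_yon_map_iff _ _).2 hae)
        ((repWith_yon_map_iff _ _).2 hasurj)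
    let b'O : hp.rep.pullback σK ⟶ V' := Over.homMk b.left.toImage (by
      change b.left.toImage ≫ b.left.imageι ≫ U.hom = _
      rw [← Category.assoc, b.left.toImage_imageι]
      exact Over.w b)
    have hb'ι : b'O ≫ ι' = b := by
      ext; exact b.left.toImage_imageι
    have hajv : a' ≫ j = b'O ≫ vO := by
      rw [haq, ← hb'ι, Category.assoc]
    rw [← cancel_epi ((yon S).map a'), ← Category.assoc, ← Functor.map_comp, hajv, Functor.map_comp,
      Category.assoc, hl, ← Category.assoc, ← Functor.map_comp, hb'ι]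
    exact sqX.w.symm
  · rw [← cancel_epi ((yon S).map vO), ← Category.assoc, hl, Category.assoc, ← hq,
      ← Functor.map_comp, Category.comp_id]

end Groth.Agent.Lib.Helper3.VLift
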