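import Groth.Agent.Lib.Helper3.VLift3
import Groth.Agent.Lib.Helper3.SpUC
import Groth.Agent.Lib.Helper3.AlgSpSep
import Groth.Agent.Lib.Helper3.AlgSpFibre
set_option autoImplicit false
universe u
open CategoryTheory CategoryTheory.Limits AlgebraicGeometry Opposite AlgSp

namespace Groth.Agent.Lib.Helper3.VLift

variable {S : Scheme.{u}}

/-- For a separated morphism of algebraic spaces, a valuative square which has a lift after a
dominating extension of the valuation ring already has a lift. -/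
theorem main10284 {X Y : AlgSp.Space S} (f : X ⟶ Y)
    (hf : AlgSp.IsSeparatedMor f.hom) (sq : AlgSp.ValSq f.hom) (e : sq.DomExt) (he : e.HasLift) :
    sq.HasLift := by
  obtain ⟨l', hl'1, hl'2⟩ := he
  let G : Sp S := pullback f.hom sq.bot
  let π : G ⟶ (yon S).obj sq.ptA := pullback.snd f.hom sq.bot
  have sqG : IsPullback (pullback.fst f.hom sq.bot) π f.hom sq.bot := IsPullback.of_hasPullback _ _
  have hπ : IsSeparatedMor π := repWith_diagonal_of_isPullback _ sqG hf
  have hG : IsAlgSpace G :=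
    isAlgSpace_of_isPullback' Y.property X.property (IsAlgSpace.yon_obj _) sqG
  let σK : (yon S).obj sq.ptK ⟶ G := pullback.lift sq.top ((yon S).map sq.j) sq.comm
  have hσK : σK ≫ π = (yon S).map sq.j := pullback.lift_snd _ _ _
  let φ' : e.ptA' ⟶ sq.ptA := Over.homMk (Spec.map (CommRingCat.ofHom e.φ)) rfl
  let σ' : (yon S).obj e.ptA' ⟶ G := pullback.lift l' ((yon S).map φ') hl'2
  have hσ'π : σ' ≫ π = (yon S).map φ' := pullback.lift_snd _ _ _
  let κ' : e.ptK' ⟶ e.ptA' := Over.homMk (Spec.map (CommRingCat.ofHom (algebraMap e.A' e.K'))) rfl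
  have hψ : Spec.map (CommRingCat.ofHom e.ψ) ≫ sq.ptK.hom = e.ptK'.hom := by
    change Spec.map _ ≫ Spec.map _ ≫ _ = Spec.map _ ≫ Spec.map _ ≫ _
    rw [← Spec.map_comp_assoc, ← Spec.map_comp_assoc, ← CommRingCat.ofHom_comp,
      ← CommRingCat.ofHom_comp, e.comm]
  let ψ' : e.ptK' ⟶ sq.ptK := Over.homMk (Spec.map (CommRingCat.ofHom e.ψ)) hψ
  have hl'1' : (yon S).map κ' ≫ l' = (yon S).map ψ' ≫ sq.top := hl'1
  have hκφ : κ' ≫ φ' = ψ' ≫ sq.j := by
    ext
    change Spec.map _ ≫ Spec.map _ = Spec.map _ ≫ Spec.map _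
    rw [← Spec.map_comp, ← Spec.map_comp, ← CommRingCat.ofHom_comp, ← CommRingCat.ofHom_comp, e.comm]
  have hσ'K : (yon S).map κ' ≫ σ' = (yon S).map ψ' ≫ σK := by
    apply pullback.hom_ext
    · rw [Category.assoc, Category.assoc, pullback.lift_fst, pullback.lift_fst]
      exact hl'1'
    · rw [Category.assoc, Category.assoc, pullback.lift_snd, pullback.lift_snd, ← Functor.map_comp,
        ← Functor.map_comp, hκφ]
  -- the chart
  let x0 : ↥e.ptA'.left := IsLocalRing.closedPoint e.A'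
  obtain ⟨W, a, hae, has⟩ := hG.atlas
  obtain ⟨w, hw⟩ := SpUC.ofPt_surjective a has (Points.ofPt σ' x0)
  obtain ⟨U₀, hU₀, hwU₀⟩ : ∃ U₀ : W.left.Opens, IsAffineOpen U₀ ∧ w ∈ U₀ := by
    obtain ⟨_, ⟨U₀, hU₀, rfl⟩, hwU₀, -⟩ :=
      W.left.isBasis_affineOpens.exists_subset_of_mem_open (Set.mem_univ w) isOpen_univ
    exact ⟨U₀, hU₀, hwU₀⟩
  let U : Over S := Over.mk (U₀.ι ≫ W.hom)
  have hUaff : IsAffine U.left := hU₀
  let p : (yon S).obj U ⟶ G := chartRestrict a U₀
  have hp : RepWith @Etale p := chartRestrict_etale a hae U₀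
  let u : ↥U.left := ⟨w, hwU₀⟩
  have hpu : Points.ofPt p u = Points.ofPt σ' x0 := by
    rw [← hw]
    exact ofPt_chartRestrict a U₀ u
  let q : U ⟶ sq.ptA := (yon S).preimage (p ≫ π)
  have hq : (yon S).map q = p ≫ π := Functor.map_preimage _ _
  have hu : Points.ofPt p u ∈ closure (Set.range (Points.map σK)) := by
    rw [hpu]
    let pt0 : ↥e.ptK'.left := IsLocalRing.closedPoint e.K'
    have hsp : κ'.left pt0 ⤳ x0 := IsLocalRing.specializes_closedPoint (R := e.A') (κ'.left pt0)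
    have h1 := hsp.map (Points.continuous_ofPt σ')
    have h2 : Points.ofPt σ' x0 ∈ closure {Points.ofPt σ' (κ'.left pt0)} := h1.mem_closure
    refine closure_mono ?_ h2
    rw [Set.singleton_subset_iff, ← Points.ofPt_yon_map_comp κ' σ' pt0, hσ'K,
      Points.ofPt_yon_map_comp ψ' σK pt0, Points.ofPt_eq_map_ofScheme]
    exact ⟨_, rfl⟩
  have hloc : IsLocalHom e.φ := e.isLocalHom
  have hqu : q.left u = IsLocalRing.closedPoint sq.A := by
    apply (Points.schemeHomeo sq.ptA).injective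
    rw [← SpUC.ofPt_yon_map q u, hq, ← Points.map_ofPt p π u, hpu, Points.map_ofPt, hσ'π,
      SpUC.ofPt_yon_map]
    congr 1
    exact IsLocalRing.comap_closedPoint e.φ
  obtain ⟨l, hl1, hl2⟩ := core_sp sq.A sq.K sq.str π hπ σK hσK p hp q hq u hu hqu
  refine ⟨l ≫ pullback.fst f.hom sq.bot, ?_, ?_⟩
  · rw [← Category.assoc]
    rw [hl1]
    exact pullback.lift_fst _ _ _
  · rw [Category.assoc, pullback.condition, ← Category.assoc]
    change (l ≫ π) ≫ _ = _
    rw [hl2, Category.id_comp]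

end Groth.Agent.Lib.Helper3.VLift
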