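import Groth.Agent.Lib.Helper3.VLift4
import Groth.Agent.Lib.Helper3.AlgSpProper
import Groth.Agent.S10054
import Groth.Agent.S10192
set_option autoImplicit false
universe u
open CategoryTheory CategoryTheory.Limits AlgebraicGeometry Opposite AlgSp

namespace Groth.Agent.Lib.Helper3.VLift

variable {S : Scheme.{u}}

/-- A morphism of finite type to a locally Noetherian algebraic space which has the lifting
property for discrete valuation rings is closed. -/
theorem isClosedMap_of_dvr_lift {X Y : AlgSp.Space S} (f : X ⟶ Y)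
    (hft : AlgSp.IsFiniteTypeMor f.hom) (hY : AlgSp.IsLocNoethSp Y.obj)
    (h : ∀ sq : AlgSp.ValSq f.hom, IsDiscreteValuationRing sq.A → sq.HasLift) :
    IsClosedMap (Points.map f.hom) := by
  intro C hC
  rw [← closure_subset_iff_isClosed]
  intro y hy
  obtain ⟨Z, i, hicl, hir, -⟩ := Groth.Agent.S10192.result X C hC
  have hift : IsFiniteTypeMor i.hom := (isProperMor_of_repWith_isClosedImmersion i.hom hicl).2.1
  have hcft : IsFiniteTypeMor (i ≫ f).hom :=
    ⟨locP_comp isEtLocal_locallyOfFiniteType Z.property X.property Y.property i.hom f.hom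
      hift.1 hft.1,
     isQuasiCompactMor_comp X.property Y.property.diag hift.2 hft.2⟩
  have hy' : y ∈ closure (Set.range (Points.map (i ≫ f).hom)) := by
    have : Set.range (Points.map (i ≫ f).hom) = Points.map f.hom '' C := by
      rw [← hir, ← Set.range_comp]
      congr 1
      funext z
      exact Points.map_comp i.hom f.hom z
    rw [this]; exact hy
  obtain ⟨A, _, _, hdvr, a, α, κ, hcomm, hpt⟩ := Groth.Agent.S10054.result S (i ≫ f) hcft hY y hy'
  let sq : ValSq f.hom :=
    { A := A
      K := FractionRing A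
      str := a
      top := κ ≫ i.hom
      bot := α
      comm := by rw [Category.assoc]; exact hcomm }
  obtain ⟨l, hl1, hl2⟩ := h sq hdvr
  let x0 : ↥sq.ptA.left := IsLocalRing.closedPoint A
  refine ⟨Points.ofPt l x0, ?_, ?_⟩
  · let pt0 : ↥sq.ptK.left := IsLocalRing.closedPoint (FractionRing A)
    have hsp : sq.j.left pt0 ⤳ x0 := IsLocalRing.specializes_closedPoint (R := A) (sq.j.left pt0)
    have h1 := hsp.map (Points.continuous_ofPt l)
    refine hC.stableUnderSpecialization h1 ?_
    rw [← Points.ofPt_yon_map_comp sq.j l pt0, hl1, ← hir]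
    exact ⟨Points.ofPt κ pt0, rfl⟩
  · rw [Points.map_ofPt, hl2, ← hpt, Points.ofPt_eq_map_ofScheme]
    rfl

end Groth.Agent.Lib.Helper3.VLift
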