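import Groth.Agent.Lib.Helper3.VLift5
import Groth.Agent.S10053
import Groth.Agent.S10064
import Groth.Agent.S10289
import Groth.Agent.S10290
set_option autoImplicit false
universe u
open CategoryTheory CategoryTheory.Limits AlgebraicGeometry Opposite AlgSp

namespace Groth.Agent.Lib.Helper3.VLift

variable {S : Scheme.{u}}

/-- The lifting property for discrete valuation rings passes to base changes. -/
theorem dvr_lift_of_isPullback {F G F' G' : Sp S} {f : F ⟶ G} {g : G' ⟶ G} {fst : F' ⟶ F}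
    {snd : F' ⟶ G'} (sqP : IsPullback fst snd f g)
    (h : ∀ sq : AlgSp.ValSq f, IsDiscreteValuationRing sq.A → sq.HasLift)
    (sq : AlgSp.ValSq snd) (hd : IsDiscreteValuationRing sq.A) : sq.HasLift := by
  let sq' : ValSq f :=
    { A := sq.A
      K := sq.K
      str := sq.str
      top := sq.top ≫ fst
      bot := sq.bot ≫ g
      comm := by rw [Category.assoc, sqP.w, ← Category.assoc, sq.comm, Category.assoc] }
  obtain ⟨l, hl1, hl2⟩ := h sq' hd
  refine ⟨sqP.lift l sq.bot hl2, ?_, sqP.lift_snd _ _ _⟩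
  apply sqP.hom_ext
  · rw [Category.assoc, sqP.lift_fst]; exact hl1
  · rw [Category.assoc, sqP.lift_snd]; exact sq.comm.symm

theorem main10065 (S : Scheme.{u}) {X Y : AlgSp.Space S} (f : X ⟶ Y)
    (hqs : AlgSp.IsQuasiSeparatedMor f.hom) (hft : AlgSp.IsFiniteTypeMor f.hom)
    (hY : AlgSp.IsLocNoethSp Y.obj) :
    AlgSp.IsProperMor f.hom ↔
      ∀ sq : AlgSp.ValSq f.hom, IsDiscreteValuationRing sq.A → sq.HasLift ∧ sq.HasUniq := by
  constructor
  · rintro ⟨hsep, -, huc⟩ sq -
    refine ⟨?_, Groth.Agent.S10290.result f hsep sq⟩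
    obtain ⟨e, he⟩ := Groth.Agent.S10289.result f hqs huc sq
    exact main10284 f hsep sq e he
  · intro h
    refine ⟨(Groth.Agent.S10064.result S f hqs hft.1 hY).2 (fun sq hd => (h sq hd).2), hft, ?_⟩
    obtain ⟨V, p, hpe, hps, hVn⟩ := hY
    refine (Groth.Agent.S10053.result S f hft.2).2.2 ⟨V, p, hpe, hps, fun n P fst snd sqP => ?_⟩
    have hVn' : IsLocallyNoetherian V.left := hVn
    have hP : IsAlgSpace P :=
      isAlgSpace_of_isPullback' Y.property X.property (IsAlgSpace.yon_obj _) sqP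
    let An : Over S := Over.mk ((𝔸(ULift.{u} (Fin n); V.left) ↘ V.left) ≫ V.hom)
    let P' : Space S := ⟨P, hP⟩
    let Y' : Space S := ⟨(yon S).obj An, IsAlgSpace.yon_obj _⟩
    let f' : P' ⟶ Y' := ObjectProperty.homMk snd
    have hft' : IsFiniteTypeMor f'.hom :=
      ⟨locP_of_isPullback isEtLocal_locallyOfFiniteType X.property Y.property
        (IsAlgSpace.yon_obj _) hP f.hom _ fst snd sqP hft.1,
       isQuasiCompactMor_of_isPullback sqP hft.2⟩
    have hAn : IsLocallyNoetherian An.left :=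
      LocallyOfFiniteType.isLocallyNoetherian (𝔸(ULift.{u} (Fin n); V.left) ↘ V.left)
    have hY' : IsLocNoethSp Y'.obj :=
      ⟨An, 𝟙 _, MorphismProperty.id_mem _ _, MorphismProperty.id_mem _ _, hAn⟩
    exact isClosedMap_of_dvr_lift f' hft' hY'
      (dvr_lift_of_isPullback sqP (fun sq hd => (h sq hd).1))

end Groth.Agent.Lib.Helper3.VLift
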