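import Groth.Agent.Lib.Helper3.VLift6
import Groth.Agent.Lib.Helper3.DvrExt
import Groth.Agent.Lib.Helper9.AlgSpVC2
import Groth.Agent.S10286
import Groth.Agent.S10283
set_option autoImplicit false
universe u
open CategoryTheory CategoryTheory.Limits AlgebraicGeometry Opposite AlgSp

namespace Groth.Agent.Lib.Helper3.VLift

variable {S : Scheme.{u}}

/-- The lifting property after extension for discrete valuation rings passes to base changes. -/
theorem dvr_liftExt_of_isPullback {F G F' G' : Sp S} {f : F ⟶ G} {g : G' ⟶ G} {fst : F' ⟶ F}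
    {snd : F' ⟶ G'} (sqP : IsPullback fst snd f g)
    (h : ∀ sq : AlgSp.ValSq f, IsDiscreteValuationRing sq.A → sq.HasLiftExt)
    (sq' : AlgSp.ValSq snd) (hd : IsDiscreteValuationRing sq'.A) : sq'.HasLiftExt := by
  obtain ⟨e, l, hl1, hl2⟩ := h (Groth.Agent.S10286.pushSq f g fst snd sqP.w sq') hd
  let e' : sq'.DomExt :=
    { A' := e.A', K' := e.K', φ := e.φ, ψ := e.ψ, comm := e.comm, isLocalHom := e.isLocalHom }
  refine ⟨e', ?_⟩
  have hl2' : l ≫ f = ((AlgSp.yon S).map (Over.homMk (Spec.map (CommRingCat.ofHom e'.φ)) rfl :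
      e'.ptA' ⟶ sq'.ptA) ≫ sq'.bot) ≫ g := by
    rw [Category.assoc]; exact hl2
  refine ⟨sqP.lift l _ hl2', ?_, ?_⟩
  · apply sqP.hom_ext
    · rw [Category.assoc, sqP.lift_fst, Category.assoc]
      exact hl1
    · rw [Category.assoc, sqP.lift_snd, Category.assoc, sq'.comm, ← Category.assoc, ← Category.assoc,
        ← Functor.map_comp, ← Functor.map_comp]
      congr 2
      ext
      change Spec.map _ ≫ Spec.map _ = Spec.map _ ≫ Spec.map _
      rw [← Spec.map_comp, ← Spec.map_comp, ← CommRingCat.ofHom_comp, ← CommRingCat.ofHom_comp]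
      exact congrArg (fun r => Spec.map (CommRingCat.ofHom r)) e.comm
  · rw [sqP.lift_snd]

/-- A morphism of finite type to a locally Noetherian algebraic space which has the lifting
property (after extensions) for discrete valuation rings is closed. -/
theorem isClosedMap_of_dvr_liftExt {X Y : AlgSp.Space S} (f : X ⟶ Y)
    (hft : AlgSp.IsFiniteTypeMor f.hom) (hY : AlgSp.IsLocNoethSp Y.obj)
    (h : ∀ sq : AlgSp.ValSq f.hom, IsDiscreteValuationRing sq.A → sq.HasLiftExt) :
    IsClosedMap (Points.map f.hom) := by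
  intro C hC
  rw [← closure_subset_iff_isClosed]
  intro y hy
  obtain ⟨Z, i, hicl, hir, -⟩ := Groth.Agent.S10192.result X C hC
  have hift : IsFiniteTypeMor i.hom := (isProperMor_of_repWith_isClosedImmersion i.hom hicl).2.1
  have hcft : IsFiniteTypeMor (i ≫ f).hom :=
    ⟨locP_comp isEtLocal_locallyOfFiniteType Z.property X.property Y.property i.hom f.hom
      hift.1 hft.1,
     isQuasiCompactMor_comp X.property Y.property.diag hift.2 hft.2⟩
  have hy' : y ∈ closure (Set.range (Points.map (i ≫ f).hom)) := by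
    have : Set.range (Points.map (i ≫ f).hom) = Points.map f.hom '' C := by
      rw [← hir, ← Set.range_comp]
      congr 1
      funext z
      exact Points.map_comp i.hom f.hom z
    rw [this]; exact hy
  obtain ⟨A, _, _, hdvr, a, α, κ, hcomm, hpt⟩ := Groth.Agent.S10054.result S (i ≫ f) hcft hY y hy'
  let sq : ValSq f.hom :=
    { A := A
      K := FractionRing A
      str := a
      top := κ ≫ i.hom
      bot := α
      comm := by rw [Category.assoc]; exact hcomm }
  obtain ⟨e, l, hl1, hl2⟩ := h sq hdvr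
  have hloc : IsLocalHom e.φ := e.isLocalHom
  let x0 : ↥e.ptA'.left := IsLocalRing.closedPoint e.A'
  let κ' : e.ptK' ⟶ e.ptA' := Over.homMk (Spec.map (CommRingCat.ofHom (algebraMap e.A' e.K'))) rfl
  let φ' : e.ptA' ⟶ sq.ptA := Over.homMk (Spec.map (CommRingCat.ofHom e.φ)) rfl
  refine ⟨Points.ofPt l x0, ?_, ?_⟩
  · let pt0 : ↥e.ptK'.left := IsLocalRing.closedPoint e.K'
    have hsp : κ'.left pt0 ⤳ x0 := IsLocalRing.specializes_closedPoint (R := e.A') (κ'.left pt0)
    have h1 := hsp.map (Points.continuous_ofPt l)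
    refine hC.stableUnderSpecialization h1 ?_
    rw [← Points.ofPt_yon_map_comp κ' l pt0, hl1, Points.ofPt_yon_map_comp, ← hir]
    exact ⟨Points.ofPt κ _, rfl⟩
  · rw [Points.map_ofPt, hl2, Points.ofPt_yon_map_comp φ' sq.bot x0, ← hpt,
      Points.ofPt_eq_map_ofScheme]
    congr 1
    congr 1
    exact IsLocalRing.comap_closedPoint e.φ

theorem main13897 (S : Scheme.{u}) {X Y : AlgSp.Space S}
    (f : X ⟶ Y) (hft : AlgSp.IsFiniteTypeMor f.hom) (hY : AlgSp.IsLocNoethSp Y.obj) :
    ((∀ sq : AlgSp.ValSq f.hom, IsDiscreteValuationRing sq.A → sq.HasLiftExt) →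
      AlgSp.IsUnivClosedMor f.hom) ∧
    (AlgSp.IsDecentMor f.hom → AlgSp.IsUnivClosedMor f.hom →
      ∀ sq : AlgSp.ValSq f.hom, IsDiscreteValuationRing sq.A →
        ∃ e : sq.DomExt, IsDiscreteValuationRing e.A' ∧
          (letI := e.ψ.toAlgebra; Module.Finite sq.K e.K' ∧ Algebra.IsSeparable sq.K e.K') ∧
            e.HasLift) := by
  constructor
  · intro h
    obtain ⟨V, p, hpe, hps, hVn⟩ := hY
    refine (Groth.Agent.S10053.result S f hft.2).2.2 ⟨V, p, hpe, hps, fun n P fst snd sqP => ?_⟩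
    have hVn' : IsLocallyNoetherian V.left := hVn
    have hP : IsAlgSpace P :=
      isAlgSpace_of_isPullback' Y.property X.property (IsAlgSpace.yon_obj _) sqP
    let An : Over S := Over.mk ((𝔸(ULift.{u} (Fin n); V.left) ↘ V.left) ≫ V.hom)
    let P' : Space S := ⟨P, hP⟩
    let Y' : Space S := ⟨(yon S).obj An, IsAlgSpace.yon_obj _⟩
    let f' : P' ⟶ Y' := ObjectProperty.homMk snd
    have hft' : IsFiniteTypeMor f'.hom :=
      ⟨locP_of_isPullback isEtLocal_locallyOfFiniteType X.property Y.property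
        (IsAlgSpace.yon_obj _) hP f.hom _ fst snd sqP hft.1,
       isQuasiCompactMor_of_isPullback sqP hft.2⟩
    have hAn : IsLocallyNoetherian An.left :=
      LocallyOfFiniteType.isLocallyNoetherian (𝔸(ULift.{u} (Fin n); V.left) ↘ V.left)
    have hY' : IsLocNoethSp Y'.obj :=
      ⟨An, 𝟙 _, MorphismProperty.id_mem _ _, MorphismProperty.id_mem _ _, hAn⟩
    exact isClosedMap_of_dvr_liftExt f' hft' hY' (dvr_liftExt_of_isPullback sqP h)
  · intro hd hc sq hdvr
    have hE := Groth.Agent.Lib.Helper9.AlgSpVC2.existVC_of_isDecentMor f hd hc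
    obtain ⟨e, hfs, he⟩ := Groth.Agent.S10283.result f hE sq
    refine ⟨e, ?_, hfs, he⟩
    let _ := e.ψ.toAlgebra
    have : IsDiscreteValuationRing sq.A := hdvr
    have : FiniteDimensional sq.K e.K' := hfs.1
    have : Algebra.IsSeparable sq.K e.K' := hfs.2
    exact DvrExt.isDiscreteValuationRing_of_dominates e.φ e.isLocalHom e.comm

end Groth.Agent.Lib.Helper3.VLift
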