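import Mathlib.AlgebraicGeometry.Limits
import Mathlib.AlgebraicGeometry.Morphisms.QuasiSeparated
import Mathlib.RingTheory.KrullDimension.Zero
import Mathlib.RingTheory.Spectrum.Prime.Topology

set_option autoImplicit false

universe u
open CategoryTheory CategoryTheory.Limits AlgebraicGeometry Topology TopologicalSpace

namespace Groth.Agent.Lib.Helper3.ZeroDim

/-- **Z1.** In the spectrum of a zero-dimensional ring, basic opens are closed. -/
theorem isClosed_basicOpen {R : Type*} [CommRing R] [Ring.KrullDimLE 0 R] (f : R) :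
    IsClosed (PrimeSpectrum.basicOpen f : Set (PrimeSpectrum R)) := by
  rw [← isOpen_compl_iff, isOpen_iff_forall_mem_open]
  intro p hp
  have hfp : f ∈ p.asIdeal := by
    by_contra h
    exact hp h
  have hmin : p.asIdeal ∈ minimalPrimes R := Ideal.mem_minimalPrimes_of_krullDimLE_zero p.asIdeal
  haveI : Ring.KrullDimLE 0 (Localization.AtPrime p.asIdeal) :=
    Ring.KrullDimLE.of_isLocalization p.asIdeal hmin _
  have h1 : algebraMap R (Localization.AtPrime p.asIdeal) f ∈
      IsLocalRing.maximalIdeal (Localization.AtPrime p.asIdeal) :=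
    (IsLocalization.AtPrime.to_map_mem_maximal_iff _ p.asIdeal f).2 hfp
  obtain ⟨n, hn⟩ := Ring.KrullDimLE.isNilpotent_iff_mem_maximalIdeal.2 h1
  rw [← map_pow, IsLocalization.map_eq_zero_iff p.asIdeal.primeCompl] at hn
  obtain ⟨s, hs⟩ := hn
  refine ⟨PrimeSpectrum.basicOpen (s : R), ?_, (PrimeSpectrum.basicOpen (s : R)).isOpen, s.2⟩
  intro q hq hqf
  have h2 : (s : R) * f ^ n ∈ q.asIdeal := by rw [hs]; exact q.asIdeal.zero_mem
  rcases q.2.mem_or_mem h2 with h3 | h3
  · exact hq h3
  · exact hqf (q.2.mem_of_pow_mem n h3)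

/-- Compact opens of the spectrum of a zero-dimensional ring are closed. -/
theorem isClosed_of_isCompact_isOpen {R : Type*} [CommRing R] [Ring.KrullDimLE 0 R]
    {s : Set (PrimeSpectrum R)} (hc : IsCompact s) (ho : IsOpen s) : IsClosed s := by
  obtain ⟨t, rfl⟩ := PrimeSpectrum.isCompact_isOpen_iff.1 ⟨hc, ho⟩
  have : (PrimeSpectrum.zeroLocus (t : Set R))ᶜ =
      ⋃ f ∈ t, (PrimeSpectrum.basicOpen f : Set (PrimeSpectrum R)) := by
    ext p
    simp only [Set.mem_compl_iff, PrimeSpectrum.mem_zeroLocus, Set.mem_iUnion,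
      SetLike.mem_coe, PrimeSpectrum.mem_basicOpen, exists_prop, Set.not_subset]
  rw [this]
  exact t.finite_toSet.isClosed_biUnion fun f _ => isClosed_basicOpen f

end Groth.Agent.Lib.Helper3.ZeroDim
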