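import Groth.Agent.Lib.Helper3.ZeroDim1
import Mathlib.AlgebraicGeometry.ValuativeCriterion

set_option autoImplicit false

universe u
open CategoryTheory CategoryTheory.Limits AlgebraicGeometry Topology TopologicalSpace

namespace Groth.Agent.Lib.Helper3.ZeroDim

/-- All affine opens have zero-dimensional coordinate rings. -/
def ZD (G : Scheme.{u}) : Prop := ∀ B : G.Opens, IsAffineOpen B → Ring.KrullDimLE 0 Γ(G, B)

variable {G : Scheme.{u}}

/-- **Z2.** Affine opens of a quasi-separated zero-dimensional scheme are closed. -/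
theorem isClosed_of_isAffineOpen [QuasiSeparatedSpace G] (hG : ZD G) {A : G.Opens}
    (hA : IsAffineOpen A) : IsClosed (A : Set G) := by
  rw [← closure_subset_iff_isClosed]
  intro y hy
  obtain ⟨_, ⟨(B : G.Opens), hB, rfl⟩, hyB, -⟩ := (G.isBasis_affineOpens).exists_subset_of_mem_open
    (Set.mem_univ y) isOpen_univ
  have hB' : IsAffineOpen B := hB
  have := hG B hB'
  have hcomp : IsCompact ((A : Set G) ∩ B) :=
    QuasiSeparatedSpace.inter_isCompact _ _ A.isOpen hA.isCompact B.isOpen hB'.isCompact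
  have hemb : IsOpenEmbedding hB'.fromSpec := hB'.fromSpec.isOpenEmbedding
  have hpre : hB'.fromSpec ⁻¹' (A : Set G) = hB'.fromSpec ⁻¹' ((A : Set G) ∩ B) := by
    ext p
    simp only [Set.mem_preimage, Set.mem_inter_iff, iff_self_and]
    intro _
    have : hB'.fromSpec p ∈ Set.range hB'.fromSpec := ⟨p, rfl⟩
    rw [hB'.range_fromSpec] at this
    exact this
  have hc' : IsCompact (hB'.fromSpec ⁻¹' (A : Set G)) := by
    rw [hpre]
    apply hemb.isInducing.isCompact_preimage' hcomp
    rw [hB'.range_fromSpec]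
    exact Set.inter_subset_right
  have hcl : IsClosed (hB'.fromSpec ⁻¹' (A : Set G)) :=
    isClosed_of_isCompact_isOpen hc' (A.isOpen.preimage hB'.fromSpec.continuous)
  have hyr : y ∈ Set.range hB'.fromSpec := by rw [hB'.range_fromSpec]; exact hyB
  obtain ⟨p, rfl⟩ := hyr
  have : p ∈ closure (hB'.fromSpec ⁻¹' (A : Set G)) := by
    rw [← hemb.isOpenMap.preimage_closure_eq_closure_preimage hB'.fromSpec.continuous]
    exact hy
  rw [hcl.closure_eq] at this
  exact this

/-- **Z4.** The intersection of an affine open with a clopen set is affine. -/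
theorem isAffineOpen_inf_of_isClopen {B : G.Opens} (hB : IsAffineOpen B) (C : G.Opens)
    (hC : IsClosed (C : Set G)) : IsAffineOpen (B ⊓ C) := by
  have hclopen : IsClopen (hB.fromSpec ⁻¹' (C : Set G)) :=
    ⟨hC.preimage hB.fromSpec.continuous, C.isOpen.preimage hB.fromSpec.continuous⟩
  obtain ⟨e, -, he⟩ := PrimeSpectrum.exists_idempotent_basicOpen_eq_of_isClopen hclopen
  have h1 := hB.fromSpec_image_basicOpen e
  have h2 : G.basicOpen e = B ⊓ C := by
    rw [← h1]
    ext1
    change hB.fromSpec '' (PrimeSpectrum.basicOpen e : Set (PrimeSpectrum _)) = _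
    rw [← he, Set.image_preimage_eq_inter_range, hB.range_fromSpec, Set.inter_comm]
    rfl
  rw [← h2]
  exact hB.basicOpen e

/-- **Z3.** Quasi-compact opens of a quasi-separated zero-dimensional scheme are affine
(and closed). -/
theorem isAffineOpen_of_isCompact [QuasiSeparatedSpace G] (hG : ZD G) (V : G.Opens)
    (hV : IsCompact (V : Set G)) : IsAffineOpen V ∧ IsClosed (V : Set G) := by
  refine compact_open_induction_on (P := fun V : G.Opens => IsAffineOpen V ∧ IsClosed (V : Set G))
    V hV ⟨isAffineOpen_bot G, by simp⟩ ?_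
  rintro S - U ⟨hSa, hSc⟩
  have hUc : IsClosed ((U : G.Opens) : Set G) := isClosed_of_isAffineOpen hG U.2
  let Sc : G.Opens := ⟨(S : Set G)ᶜ, hSc.isOpen_compl⟩
  have hScc : IsClosed (Sc : Set G) := by
    change IsClosed ((S : Set G)ᶜ)
    exact S.isOpen.isClosed_compl
  have h1 : IsAffineOpen ((U : G.Opens) ⊓ Sc) := isAffineOpen_inf_of_isClopen U.2 Sc hScc
  have hdisj : Disjoint S ((U : G.Opens) ⊓ Sc) := by
    rw [disjoint_iff]
    ext x
    simp only [Opens.coe_inf, Set.mem_inter_iff, SetLike.mem_coe, Opens.coe_bot,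
      Set.mem_empty_iff_false, iff_false, not_and]
    intro hxS _ hxSc
    exact hxSc hxS
  have heq : S ⊔ (U : G.Opens) = S ⊔ ((U : G.Opens) ⊓ Sc) := by
    ext x
    simp only [Opens.coe_sup, Opens.coe_inf, Set.mem_union, Set.mem_inter_iff, SetLike.mem_coe]
    constructor
    · rintro (h | h)
      · exact Or.inl h
      · by_cases hx : x ∈ S
        · exact Or.inl hx
        · exact Or.inr ⟨h, hx⟩
    · rintro (h | ⟨h, -⟩)
      · exact Or.inl h
      · exact Or.inr h
  refine ⟨?_, ?_⟩
  · rw [heq]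
    exact hSa.sup_of_disjoint h1 hdisj
  · rw [Opens.coe_sup]
    exact hSc.union hUc

end Groth.Agent.Lib.Helper3.ZeroDim
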