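import Groth.Agent.Lib.Helper3.ZeroDim2

set_option autoImplicit false

universe u
open CategoryTheory CategoryTheory.Limits AlgebraicGeometry Topology TopologicalSpace

namespace Groth.Agent.Lib.Helper3.ZeroDim

variable {G : Scheme.{u}}

/-- Two morphisms from the spectrum of a local domain to a scheme without proper specializations
which agree on the generic point are equal. -/
theorem eq_of_comp_eq_of_no_specializations (hG : ∀ x y : G, x ⤳ y → x = y)
    (R K : Type u) [CommRing R] [IsDomain R] [IsLocalRing R] [Field K] [Algebra R K]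
    [IsFractionRing R K] (l₁ l₂ : Spec (.of R) ⟶ G)
    (h : Spec.map (CommRingCat.ofHom (algebraMap R K)) ≫ l₁ =
      Spec.map (CommRingCat.ofHom (algebraMap R K)) ≫ l₂) : l₁ = l₂ := by
  set j := Spec.map (CommRingCat.ofHom (algebraMap R K)) with hj
  let η : Spec (.of R) := j (IsLocalRing.closedPoint K)
  let cp : Spec (.of R) := IsLocalRing.closedPoint R
  have hsp : η ⤳ cp := IsLocalRing.specializes_closedPoint η
  have e1 : l₁ η = l₁ cp := hG _ _ (hsp.map l₁.continuous)
  have e2 : l₂ η = l₂ cp := hG _ _ (hsp.map l₂.continuous)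
  have e3 : l₁ η = l₂ η := by
    change (j ≫ l₁) _ = (j ≫ l₂) _
    rw [h]
  have e4 : l₁ cp = l₂ cp := by rw [← e1, e3, e2]
  obtain ⟨_, ⟨(B : G.Opens), hB, rfl⟩, hB1, -⟩ := (G.isBasis_affineOpens).exists_subset_of_mem_open
    (Set.mem_univ (l₁ cp)) isOpen_univ
  have hB' : IsAffineOpen B := hB
  have hr1 : Set.range l₁ ⊆ Set.range hB'.fromSpec := by
    rw [hB'.range_fromSpec]
    rintro _ ⟨z, rfl⟩
    have : l₁ ⁻¹ᵁ B = ⊤ := Scheme.preimage_eq_top_of_closedPoint_mem l₁ hB1
    have hz : z ∈ l₁ ⁻¹ᵁ B := by rw [this]; trivial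
    exact hz
  have hr2 : Set.range l₂ ⊆ Set.range hB'.fromSpec := by
    rw [hB'.range_fromSpec]
    rintro _ ⟨z, rfl⟩
    have : l₂ ⁻¹ᵁ B = ⊤ := Scheme.preimage_eq_top_of_closedPoint_mem l₂ (by rw [← e4]; exact hB1)
    have hz : z ∈ l₂ ⁻¹ᵁ B := by rw [this]; trivial
    exact hz
  obtain ⟨φ₁, hφ₁⟩ := Spec.map_surjective (IsOpenImmersion.lift hB'.fromSpec l₁ hr1)
  obtain ⟨φ₂, hφ₂⟩ := Spec.map_surjective (IsOpenImmersion.lift hB'.fromSpec l₂ hr2)
  have hl₁ : l₁ = Spec.map φ₁ ≫ hB'.fromSpec := by rw [hφ₁, IsOpenImmersion.lift_fac]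
  have hl₂ : l₂ = Spec.map φ₂ ≫ hB'.fromSpec := by rw [hφ₂, IsOpenImmersion.lift_fac]
  rw [hl₁, hl₂, ← Category.assoc, ← Category.assoc, cancel_mono, ← Spec.map_comp,
    ← Spec.map_comp] at h
  have h' := Spec.map_injective h
  have : φ₁ = φ₂ := by
    ext a
    apply IsFractionRing.injective R K
    exact congrArg (fun ψ => ψ.hom a) h'
  rw [hl₁, hl₂, this]

/-- A quasi-separated scheme without proper specializations is separated. -/
theorem isSeparated_of_no_specializations [QuasiSeparatedSpace G]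
    (hG : ∀ x y : G, x ⤳ y → x = y) : G.IsSeparated := by
  have : QuasiSeparated (terminal.from G) :=
    (quasiSeparatedSpace_iff_quasiSeparated G).1 inferInstance
  refine ⟨?_⟩
  apply IsSeparated.of_valuativeCriterion
  intro Sq
  constructor
  intro a b
  have := eq_of_comp_eq_of_no_specializations hG Sq.R Sq.K a.l b.l (by rw [a.fac_left, b.fac_left])
  cases a; cases b; congr

end Groth.Agent.Lib.Helper3.ZeroDim

namespace Groth.Agent.Lib.Helper3.ZeroDim

variable {G : Scheme.{u}}

theorem zd_of_topologicalKrullDim_le (h : topologicalKrullDim G ≤ 0) : ZD G := by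
  intro B hB
  rw [Ring.krullDimLE_iff, ← PrimeSpectrum.topologicalKrullDim_eq_ringKrullDim, Nat.cast_zero]
  exact (hB.fromSpec.isOpenEmbedding.isInducing.topologicalKrullDim_le).trans h

theorem no_specializations_of_zd (hG : ZD G) : ∀ x y : G, x ⤳ y → x = y := by
  intro x y hxy
  obtain ⟨_, ⟨(B : G.Opens), hB, rfl⟩, hyB, -⟩ := (G.isBasis_affineOpens).exists_subset_of_mem_open
    (Set.mem_univ y) isOpen_univ
  have hB' : IsAffineOpen B := hB
  have := hG B hB'
  have hxB : x ∈ B := hxy.mem_open B.isOpen hyB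
  have hx : x ∈ Set.range hB'.fromSpec := by rw [hB'.range_fromSpec]; exact hxB
  have hy : y ∈ Set.range hB'.fromSpec := by rw [hB'.range_fromSpec]; exact hyB
  obtain ⟨p, rfl⟩ := hx
  obtain ⟨q, rfl⟩ := hy
  rw [hB'.fromSpec.isOpenEmbedding.isInducing.specializes_iff] at hxy
  have hle : PrimeSpectrum.asIdeal p ≤ PrimeSpectrum.asIdeal q :=
    (PrimeSpectrum.le_iff_specializes _ _).2 hxy
  have hmax : (PrimeSpectrum.asIdeal p).IsMaximal := inferInstance
  have : p = q := PrimeSpectrum.ext (hmax.eq_of_le (PrimeSpectrum.isPrime q).ne_top hle)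
  rw [this]

/-- **Zero-dimensional quasi-separated schemes** are separated and their quasi-compact opens are
affine. -/
theorem main_scheme [QuasiSeparatedSpace G] (h : topologicalKrullDim G ≤ 0) :
    G.IsSeparated ∧ ∀ V : G.Opens, IsCompact (V : Set G) → IsAffineOpen V :=
  ⟨isSeparated_of_no_specializations (no_specializations_of_zd (zd_of_topologicalKrullDim_le h)),
    fun V hV => (isAffineOpen_of_isCompact (zd_of_topologicalKrullDim_le h) V hV).1⟩

end Groth.Agent.Lib.Helper3.ZeroDim
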