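import Groth.Agent.Lib.Helper3.ZeroDim3
import Groth.Agent.Lib.Helper3.SchLoc5
import Groth.Agent.Lib.Helper3.QSepChart

set_option autoImplicit false

universe u
open CategoryTheory CategoryTheory.Limits AlgebraicGeometry Topology TopologicalSpace
open AlgSp
open Groth.Agent.Lib.Helper3 Groth.Agent.Lib.Helper3.GenDense Groth.Agent.Lib.Helper3.GenFinSp
  Groth.Agent.Lib.Helper3.RelNorm Groth.Agent.Lib.Helper3.SchLoc

namespace Groth.Agent.Lib.Helper3.ZeroDim

variable {S : Scheme.{u}}

theorem repWith_etale_of_isIso {F G : Sp S} (f : F ⟶ G) [IsIso f] : RepWith @Etale f :=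
  MorphismProperty.of_isIso (RepWith @Etale) f

/-- A scheme representing a quasi-separated sheaf over a quasi-separated base is quasi-separated. -/
theorem quasiSeparatedSpace_of_iso [QuasiSeparatedSpace ↥S] {X : Sp S} (hqs : IsQuasiSeparatedSp X)
    {G : Over S} (e : (yon S).obj G ≅ X) : QuasiSeparatedSpace ↥G.left := by
  have h1 : IsQuasiSeparatedSp ((yon S).obj G) := QSepChart.isQuasiSeparatedSp_of_mono e.hom hqs
  have h2 : QuasiCompact (pullback.diagonal G.hom) := (repWith_diag_yon_iff @QuasiCompact G).1 h1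
  have : QuasiSeparated G.hom := ⟨h2⟩
  exact quasiSeparatedSpace_of_quasiSeparated G.hom

/-- A zero-dimensional algebraic space all of whose points are... every point is of codimension 0. -/
theorem hasAt_D0_of_dim_le {X : Sp S} (hX : IsAlgSpace X) (hd : AlgSp.dim X ≤ 0) (x : Points X) :
    HasAt D0 X x := by
  obtain ⟨U₀, a₀, hae, has⟩ := hX.atlas
  obtain ⟨u, rfl⟩ := exists_ofPt_eq a₀ has x
  refine ⟨U₀, a₀, u, hae, rfl, ?_⟩
  apply le_antisymm
  · exact (ringKrullDim_stalk_le_topologicalKrullDim U₀.left u).trans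
      ((le_dim_of_chart a₀ hae).trans hd)
  · exact ringKrullDim_nonneg_of_nontrivial

/-- **S10450.** -/
theorem main10450 [QuasiSeparatedSpace S]
    (X : AlgSp.Space S) (hqs : AlgSp.IsQuasiSeparatedSp X.obj) (hd : AlgSp.dim X.obj = 0) :
    ∃ (U : Over S) (_ : (AlgSp.yon S).obj U ≅ X.obj), U.left.IsSeparated ∧
      ∀ V : U.left.Opens, IsCompact (V : Set ↥U.left) → IsAffineOpen V := by
  obtain ⟨X', j, hjo, hrep, -, hall⟩ := main10200 X (zlqs_of_isQuasiSeparatedSp X hqs)
  have hsurj : IsSurjectiveMor j.hom := fun x => hall x (hasAt_D0_of_dim_le X.property hd.le x)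
  haveI : IsIso j.hom := isIso_of_repWith_isOpenImmersion_of_isSurjectiveMor j.hom hjo hsurj
  obtain ⟨G, ⟨eG⟩⟩ := hrep
  let e : (yon S).obj G ≅ X.obj := isoOfRepresentableBy eG ≪≫ asIso j.hom
  haveI : QuasiSeparatedSpace ↥G.left := quasiSeparatedSpace_of_iso hqs e
  have hdim : topologicalKrullDim ↥G.left ≤ 0 :=
    (le_dim_of_chart e.hom (repWith_etale_of_isIso e.hom)).trans hd.le
  obtain ⟨h1, h2⟩ := main_scheme (G := G.left) hdim
  exact ⟨G, e, h1, h2⟩

end Groth.Agent.Lib.Helper3.ZeroDim
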