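import Groth.Agent.Lib.Helper3.ZeroDim4
import Groth.Agent.Lib.Helper3.AlgSpLftField
import Groth.Agent.Lib.Helper3.DecDense4
import Groth.Agent.Lib.Helper3.OnePt1
import Mathlib.AlgebraicGeometry.Artinian

set_option autoImplicit false

universe u
open CategoryTheory CategoryTheory.Limits AlgebraicGeometry Topology TopologicalSpace
open AlgSp
open Groth.Agent.Lib.Helper3 Groth.Agent.Lib.Helper3.GenDense Groth.Agent.Lib.Helper3.GenFinSp
  Groth.Agent.Lib.Helper3.RelNorm Groth.Agent.Lib.Helper3.SchLoc

namespace Groth.Agent.Lib.Helper3.ZeroDim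

/-- A discrete scheme is separated and its quasi-compact opens are affine. -/
theorem main_scheme_discrete (G : Scheme.{u}) [DiscreteTopology G] :
    G.IsSeparated ∧ ∀ V : G.Opens, IsCompact (V : Set G) → IsAffineOpen V := by
  haveI : QuasiSeparatedSpace G := by
    refine ⟨fun U V _ hU _ hV => ?_⟩
    exact ((isCompact_iff_finite.1 hU).inter_of_left V).isCompact
  refine ⟨isSeparated_of_no_specializations (fun x y h => (specializes_iff_eq.1 h)), ?_⟩
  intro V hV
  have hfin : Finite ↥V := (isCompact_iff_finite.1 hV).to_subtype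
  have : Finite ↥(V : Scheme.{u}) := hfin
  have : DiscreteTopology ↥(V : Scheme.{u}) := inferInstanceAs (DiscreteTopology ↥V)
  exact (inferInstance : IsAffine (V : Scheme.{u}))

variable (k : Type u) [Field k]

/-- Etale charts of a zero-dimensional space locally of finite type over a field are discrete. -/
theorem chart_discrete {X : Sp (Spec (CommRingCat.of k))}
    (p : X ⟶ (yon (Spec (CommRingCat.of k))).obj (Over.mk (𝟙 _)))
    (hp : LocP @LocallyOfFiniteType p) (hd : AlgSp.dim X ≤ 0)
    {U : Over (Spec (CommRingCat.of k))}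
    (a : (yon (Spec (CommRingCat.of k))).obj U ⟶ X) (ha : RepWith @Etale a) :
    DiscreteTopology ↥U.left := by
  haveI := chart_isLocallyNoetherian_of_locP_to_field k p hp a ha
  haveI : IsLocallyArtinian U.left :=
    IsLocallyArtinian.of_topologicalKrullDim_le_zero ((le_dim_of_chart a ha).trans hd)
  infer_instance

/-- A finite discrete scheme locally of finite type over a field has finite self-product. -/
theorem finite_prod_of_finite {U : Over (Spec (CommRingCat.of k))} [Finite ↥U.left]
    [LocallyOfFiniteType U.hom] [IsAffine U.left] : Finite ↥(U ⨯ U).left := by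
  have hqf : LocallyQuasiFinite U.hom :=
    LocallyQuasiFinite.of_finite_preimage_singleton U.hom (fun _ => Set.toFinite _)
  have h1 : LocallyQuasiFinite (pullback.fst U.hom U.hom) := inferInstance
  have h2 : QuasiCompact (pullback.fst U.hom U.hom) := inferInstance
  have hfib : ∀ u : ↥U.left, (pullback.fst U.hom U.hom ⁻¹' {u}).Finite :=
    fun u => (pullback.fst U.hom U.hom).finite_preimage_singleton u
  have huniv : (Set.univ : Set ↥(pullback U.hom U.hom)) =
      ⋃ u : ↥U.left, pullback.fst U.hom U.hom ⁻¹' {u} := by
    ext z; simp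
  have hfin : Finite ↥(pullback U.hom U.hom) := by
    rw [← Set.finite_univ_iff, huniv]
    exact Set.finite_iUnion hfib
  exact Finite.of_injective _ (Over.prodLeftIsoPullback U U).hom.homeomorph.injective

theorem finFibres_of_lft_field_dim_zero {X : Sp (Spec (CommRingCat.of k))}
    (p : X ⟶ (yon (Spec (CommRingCat.of k))).obj (Over.mk (𝟙 _)))
    (hp : LocP @LocallyOfFiniteType p) (hd : AlgSp.dim X ≤ 0) : DecDense.FinFibres X := by
  intro U φ hU hφ R s t kp u
  haveI := hU
  haveI := chart_discrete k p hp hd φ hφ
  haveI : Finite ↥U.left := finite_of_compact_of_discrete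
  haveI := chart_lft_of_locP_to_field k p hp φ hφ
  haveI := finite_prod_of_finite k (U := U)
  have heq : IsEqvRel s t := DecMono.isEqvRel_of_kernelPair φ s t kp
  have hmono : Mono (prod.lift t s) := by
    constructor
    intro T r r' hrr
    refine heq.injective T r r' ?_ ?_
    · have := congrArg (fun k => k ≫ (prod.fst : U ⨯ U ⟶ U)) hrr
      simpa only [Category.assoc, prod.lift_fst] using this
    · have := congrArg (fun k => k ≫ (prod.snd : U ⨯ U ⟶ U)) hrr
      simpa only [Category.assoc, prod.lift_snd] using this
  have hmono' : Mono (prod.lift t s).left := inferInstance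
  have : Finite ↥R.left := Finite.of_injective _ (prod.lift t s).left.injective
  exact Set.toFinite _

/-- **S10451.** -/
theorem main10451
    (X : AlgSp.Space (Spec (CommRingCat.of k))) (p : X.obj ⟶ (AlgSp.yon (Spec (CommRingCat.of k))).obj (Over.mk (𝟙 _)))
    (hp : AlgSp.LocP @LocallyOfFiniteType p) (hd : AlgSp.dim X.obj = 0) :
    ∃ (U : Over (Spec (CommRingCat.of k))) (_ : (AlgSp.yon (Spec (CommRingCat.of k))).obj U ≅ X.obj), U.left.IsSeparated ∧
      ∀ V : U.left.Opens, IsCompact (V : Set ↥U.left) → IsAffineOpen V := by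
  have hff := finFibres_of_lft_field_dim_zero k p hp hd.le
  -- the space of points is discrete
  have hdisc : DiscreteTopology (Points X.obj) := by
    rw [discreteTopology_iff_isOpen_singleton]
    intro x
    obtain ⟨U₀, a₀, hae, has⟩ := X.property.atlas
    obtain ⟨u, rfl⟩ := exists_ofPt_eq a₀ has x
    haveI := chart_discrete k p hp hd.le a₀ hae
    have := isOpenMap_ofPt a₀ hae {u} (isOpen_discrete _)
    rwa [Set.image_singleton] at this
  obtain ⟨X', j, hjo, hrep, hdense⟩ := DecDense.exists_dense_open_subscheme X hff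
  have hsurj : IsSurjectiveMor j.hom := by
    intro x
    have : Set.range (Points.map j.hom) = Set.univ := by
      rw [← hdense.closure_eq, closure_discrete]
    have hx : x ∈ Set.range (Points.map j.hom) := by rw [this]; exact Set.mem_univ x
    exact hx
  haveI : IsIso j.hom := isIso_of_repWith_isOpenImmersion_of_isSurjectiveMor j.hom hjo hsurj
  obtain ⟨G, ⟨eG⟩⟩ := hrep
  let e : (yon (Spec (CommRingCat.of k))).obj G ≅ X.obj := isoOfRepresentableBy eG ≪≫ asIso j.hom
  haveI : DiscreteTopology ↥G.left := chart_discrete k p hp hd.le e.hom (repWith_etale_of_isIso e.hom)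
  obtain ⟨h1, h2⟩ := main_scheme_discrete G.left
  exact ⟨G, e, h1, h2⟩

end Groth.Agent.Lib.Helper3.ZeroDim
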