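import Groth.Agent.Lib.Helper3.ZeroDim5
import Groth.Agent.Lib.Helper3.AlgSpLocP2
import Groth.Agent.S10482

set_option autoImplicit false
universe u

namespace Groth.Agent.Lib.Helper3.ZeroDim

open CategoryTheory CategoryTheory.Limits AlgebraicGeometry TopologicalSpace Opposite AlgSp
open Groth.Agent.Lib.Helper3 Groth.Agent.Lib.Helper3.SchLoc

variable (k : Type u) [Field k]

/-- Variant of `main10451` for `dim ≤ 0`, giving a discrete representing scheme. -/
theorem exists_discrete_scheme
    (X : AlgSp.Space (Spec (CommRingCat.of k)))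
    (p : X.obj ⟶ (AlgSp.yon (Spec (CommRingCat.of k))).obj (Over.mk (𝟙 _)))
    (hp : AlgSp.LocP @LocallyOfFiniteType p) (hd : AlgSp.dim X.obj ≤ 0) :
    ∃ (U : Over (Spec (CommRingCat.of k)))
      (_ : (AlgSp.yon (Spec (CommRingCat.of k))).obj U ≅ X.obj),
      DiscreteTopology ↥U.left ∧ LocallyOfFiniteType U.hom := by
  have hff := finFibres_of_lft_field_dim_zero k p hp hd
  have hdisc : DiscreteTopology (Points X.obj) := by
    rw [discreteTopology_iff_isOpen_singleton]
    intro x
    obtain ⟨U₀, a₀, hae, has⟩ := X.property.atlas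
    obtain ⟨u, rfl⟩ := exists_ofPt_eq a₀ has x
    haveI := chart_discrete k p hp hd a₀ hae
    have := isOpenMap_ofPt a₀ hae {u} (isOpen_discrete _)
    rwa [Set.image_singleton] at this
  obtain ⟨X', j, hjo, hrep, hdense⟩ := DecDense.exists_dense_open_subscheme X hff
  have hsurj : IsSurjectiveMor j.hom := by
    intro x
    have : Set.range (Points.map j.hom) = Set.univ := by
      rw [← hdense.closure_eq, closure_discrete]
    have hx : x ∈ Set.range (Points.map j.hom) := by rw [this]; exact Set.mem_univ x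
    exact hx
  haveI : IsIso j.hom := isIso_of_repWith_isOpenImmersion_of_isSurjectiveMor j.hom hjo hsurj
  obtain ⟨G, ⟨eG⟩⟩ := hrep
  let e : (yon (Spec (CommRingCat.of k))).obj G ≅ X.obj := isoOfRepresentableBy eG ≪≫ asIso j.hom
  exact ⟨G, e, chart_discrete k p hp hd e.hom (repWith_etale_of_isIso e.hom),
    chart_lft_of_locP_to_field k p hp e.hom (repWith_etale_of_isIso e.hom)⟩

theorem isLocalRing_of_subsingleton_primeSpectrum (A : Type*) [CommRing A] [Nontrivial A]
    [Subsingleton (PrimeSpectrum A)] : IsLocalRing A := by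
  refine IsLocalRing.of_unique_max_ideal ?_
  obtain ⟨M, hM⟩ := Ideal.exists_maximal A
  refine ⟨M, hM, fun M' hM' => ?_⟩
  have := Subsingleton.elim (⟨M', hM'.isPrime⟩ : PrimeSpectrum A) ⟨M, hM.isPrime⟩
  exact congrArg PrimeSpectrum.asIdeal this

/-- **S10483**, forward direction. -/
theorem main10483_mp
    (X : AlgSp.Space (Spec (CommRingCat.of k)))
    (p : X.obj ⟶ (AlgSp.yon (Spec (CommRingCat.of k))).obj (Over.mk (𝟙 _)))
    (hp : AlgSp.LocP @LocallyOfFiniteType p) (hd : AlgSp.dim X.obj ≤ 0) :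
    ∃ (U : Over (Spec (CommRingCat.of k)))
      (_ : (AlgSp.yon (Spec (CommRingCat.of k))).obj U ≅ X.obj), ∀ u : ↥U.left, ∃ V : U.left.Opens,
        u ∈ V ∧ IsAffineOpen V ∧ IsArtinianRing ↥Γ(U.left, V) ∧ IsLocalRing ↥Γ(U.left, V) ∧
          IsFinite (V.ι ≫ U.hom) := by
  obtain ⟨U, e, hdisc, hlft⟩ := exists_discrete_scheme k X p hp hd
  refine ⟨U, e, fun u => ?_⟩
  let V : U.left.Opens := ⟨{u}, isOpen_discrete _⟩
  have hVc : IsCompact (V : Set ↥U.left) := isCompact_singleton
  have hVa : IsAffineOpen V := (main_scheme_discrete U.left).2 V hVc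
  haveI : IsLocallyNoetherian U.left := LocallyOfFiniteType.isLocallyNoetherian U.hom
  haveI : IsLocallyArtinian U.left :=
    IsLocallyArtinian.of_isLocallyNoetherian_of_discreteTopology
  have hArt : IsArtinianRing ↥Γ(U.left, V) :=
    IsLocallyArtinian.isArtinianRing_presheaf_obj ⟨V, hVa⟩
  have hsub : Subsingleton ↥V := ⟨fun a b => Subtype.ext (a.2.trans b.2.symm)⟩
  have hsub2 : Subsingleton ↥(V.toScheme) := hsub
  have hsub' : Subsingleton (PrimeSpectrum ↥Γ(U.left, V)) := by
    have e1 := hVa.isoSpec.hom.homeomorph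
    exact e1.symm.injective.subsingleton
  have hnt : Nontrivial ↥Γ(U.left, V) := by
    have : Nonempty (PrimeSpectrum ↥Γ(U.left, V)) := by
      have e1 := hVa.isoSpec.hom.homeomorph
      exact ⟨e1 ⟨u, rfl⟩⟩
    exact (PrimeSpectrum.nonempty_iff_nontrivial).1 this
  refine ⟨V, rfl, hVa, hArt, isLocalRing_of_subsingleton_primeSpectrum _, ?_⟩
  haveI : IsAffine V.toScheme := hVa
  haveI : LocallyOfFiniteType (V.ι ≫ U.hom) := inferInstance
  haveI : LocallyQuasiFinite (V.ι ≫ U.hom) := by
    haveI : Finite ↥V.toScheme := Finite.of_subsingleton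
    exact LocallyQuasiFinite.of_finite_preimage_singleton _ (fun _ => Set.toFinite _)
  exact IsFinite.of_locallyQuasiFinite (V.ι ≫ U.hom)

end Groth.Agent.Lib.Helper3.ZeroDim

namespace Groth.Agent.Lib.Helper3.ZeroDim

open CategoryTheory CategoryTheory.Limits AlgebraicGeometry TopologicalSpace Opposite AlgSp
open Groth.Agent.Lib.Helper3 Groth.Agent.Lib.Helper3.SchLoc

variable (k : Type u) [Field k]

/-- **S10483.** -/
theorem main10483 (X : AlgSp.Space (Spec (CommRingCat.of k)))
    (p : X.obj ⟶ (AlgSp.yon (Spec (CommRingCat.of k))).obj (Over.mk (𝟙 _))) :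
    AlgSp.LocP (@LocallyQuasiFinite ⊓ @LocallyOfFiniteType : MorphismProperty Scheme.{u}) p ↔
      ∃ (U : Over (Spec (CommRingCat.of k)))
        (_ : (AlgSp.yon (Spec (CommRingCat.of k))).obj U ≅ X.obj), ∀ u : ↥U.left, ∃ V : U.left.Opens,
        u ∈ V ∧ IsAffineOpen V ∧ IsArtinianRing ↥Γ(U.left, V) ∧ IsLocalRing ↥Γ(U.left, V) ∧
          IsFinite (V.ι ≫ U.hom) := by
  constructor
  · intro h
    obtain ⟨hp, hd⟩ := (Groth.Agent.S10482.result k X p).1 h
    exact main10483_mp k X p hp hd
  · rintro ⟨U, e, hU⟩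
    obtain ⟨h, hh⟩ := (yon (Spec (CommRingCat.of k))).map_surjective (e.hom ≫ p)
    refine locP_of_chart isEtLocal_locallyQuasiFinite p e.hom (repWith_etale_of_isIso e.hom)
      (MorphismProperty.of_isIso (RepWith @Surjective) e.hom) (𝟙 _) (repWith_id _ _) h
      (by rw [hh, Category.comp_id]) ?_
    have h2 : h.left = U.hom := by simpa using Over.w h
    rw [h2]
    choose V hV using hU
    have hcov : ⨆ u, V u = ⊤ := by
      rw [eq_top_iff]
      intro u _
      exact TopologicalSpace.Opens.mem_iSup.2 ⟨u, (hV u).1⟩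
    constructor
    · refine (IsZariskiLocalAtSource.iff_of_iSup_eq_top (P := @LocallyQuasiFinite) V hcov).2
        (fun u => ?_)
      have := (hV u).2.2.2.2
      infer_instance
    · refine (IsZariskiLocalAtSource.iff_of_iSup_eq_top (P := @LocallyOfFiniteType) V hcov).2
        (fun u => ?_)
      have := (hV u).2.2.2.2
      infer_instance

end Groth.Agent.Lib.Helper3.ZeroDim
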