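import Groth.Agent.Lib.Helper3.RNZmt2
import Groth.Agent.Lib.Helper3.SchImRed

set_option autoImplicit false
universe u w

namespace Groth.Agent.Lib.Helper3.ZmtGen

open CategoryTheory CategoryTheory.Limits AlgebraicGeometry Opposite AlgSp
open Groth.Agent.Lib.Helper3 Groth.Agent.Lib.Helper3.RelNorm

variable {S : Scheme.{u}}

/-- A two-element family of sheaves. -/
def pairObj (A B : Sp S) : Bool → Sp S := fun b => cond b A B

/-- A two-element family of morphisms. -/
def pairHom {A B P : Sp S} (a : A ⟶ P) (b : B ⟶ P) : ∀ i, pairObj A B i ⟶ P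
  | true => a
  | false => b

section pair

variable {F R P : Sp S} (jV : F ⟶ P) (jR : R ⟶ P)

theorem jointlyLS_pair (hjV : RepWith @IsOpenImmersion jV) (hjR : RepWith @IsOpenImmersion jR)
    (hcov : ∀ x : Points P, x ∈ Set.range (Points.map jV) ∨ x ∈ Set.range (Points.map jR)) :
    JointlyLS (pairObj F R) (pairHom jV jR) := by
  refine jointlyLS_of_factor _ _ fun T x => ?_
  let TV : Over S := hjV.rep.pullback x
  let sndV : TV ⟶ T := hjV.rep.snd x
  have sqV : IsPullback (hjV.rep.fst x) ((yon S).map sndV) jV x := hjV.rep.isPullback x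
  have hoV : IsOpenImmersion sndV.left := hjV.property_snd x
  let TR : Over S := hjR.rep.pullback x
  let sndR : TR ⟶ T := hjR.rep.snd x
  have sqR : IsPullback (hjR.rep.fst x) ((yon S).map sndR) jR x := hjR.rep.isPullback x
  have hoR : IsOpenImmersion sndR.left := hjR.property_snd x
  let Pf : Bool → Over S := fun b => cond b TV TR
  let gf : ∀ b, Pf b ⟶ T := fun b => match b with
    | true => sndV
    | false => sndR
  have hmem : Sieve.generate (Presieve.ofArrows Pf gf) ∈ AlgSp.J S T := by
    refine generate_ofArrows_mem_J Pf gf (fun b => ?_) (fun t => ?_)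
    · cases b
      · exact hoR
      · exact hoV
    · rcases hcov (Points.ofPt x t) with ⟨z, hz⟩ | ⟨z, hz⟩
      · obtain ⟨v, -, hv⟩ := exists_of_isPullback_chart sqV z t hz
        exact ⟨true, v, hv⟩
      · obtain ⟨v, -, hv⟩ := exists_of_isPullback_chart sqR z t hz
        exact ⟨false, v, hv⟩
  refine ⟨_, hmem, ?_⟩
  rintro T' φ ⟨W, ψ, _, ⟨b⟩, rfl⟩
  cases b
  · refine ⟨false, (yon S).map ψ ≫ hjR.rep.fst x, ?_⟩
    change ((yon S).map ψ ≫ hjR.rep.fst x) ≫ jR = (yon S).map (ψ ≫ sndR) ≫ x
    rw [Category.assoc, sqR.w, Functor.map_comp, Category.assoc]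
  · refine ⟨true, (yon S).map ψ ≫ hjV.rep.fst x, ?_⟩
    change ((yon S).map ψ ≫ hjV.rep.fst x) ≫ jV = (yon S).map (ψ ≫ sndV) ≫ x
    rw [Category.assoc, sqV.w, Functor.map_comp, Category.assoc]

theorem isEmpty_of_disjoint
    (hdisj : Disjoint (Set.range (Points.map jV)) (Set.range (Points.map jR))) {T : Over S}
    (a : (yon S).obj T ⟶ F) (b : (yon S).obj T ⟶ R) (h : a ≫ jV = b ≫ jR) : IsEmpty ↥T.left := by
  constructor
  intro t
  have h1 : Points.ofPt (b ≫ jR) t ∈ Set.range (Points.map jR) := ⟨Points.ofPt b t, rfl⟩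
  have h2 : Points.ofPt (a ≫ jV) t ∈ Set.range (Points.map jV) := ⟨Points.ofPt a t, rfl⟩
  rw [h] at h2
  exact Set.disjoint_left.1 hdisj h2 h1

theorem exists_desc_pair (hjV : RepWith @IsOpenImmersion jV) (hjR : RepWith @IsOpenImmersion jR)
    (hcov : ∀ x : Points P, x ∈ Set.range (Points.map jV) ∨ x ∈ Set.range (Points.map jR))
    (hdisj : Disjoint (Set.range (Points.map jV)) (Set.range (Points.map jR)))
    {G : Sp S} (k₁ : F ⟶ G) (k₂ : R ⟶ G) :
    ∃ k : P ⟶ G, jV ≫ k = k₁ ∧ jR ≫ k = k₂ := by
  have hm : Mono jV := mono_of_repWith_isOpenImmersion jV hjV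
  have hm' : Mono jR := mono_of_repWith_isOpenImmersion jR hjR
  obtain ⟨k, hk⟩ := glue' (pairObj F R) (pairHom jV jR)
    (jointlyLS_pair jV jR hjV hjR hcov) (pairHom k₁ k₂) (by
      intro i l T a b hab
      cases i <;> cases l
      · have : a = b := (cancel_mono jR).1 hab
        rw [this]
      · have := isEmpty_of_disjoint jV jR hdisj b a hab.symm
        exact hom_ext_of_isEmpty this _ _
      · have := isEmpty_of_disjoint jV jR hdisj a b hab
        exact hom_ext_of_isEmpty this _ _
      · have : a = b := (cancel_mono jV).1 hab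
        rw [this])
  exact ⟨k, hk true, hk false⟩

theorem hom_ext_pair (hjV : RepWith @IsOpenImmersion jV) (hjR : RepWith @IsOpenImmersion jR)
    (hcov : ∀ x : Points P, x ∈ Set.range (Points.map jV) ∨ x ∈ Set.range (Points.map jR))
    {G : Sp S} (k k' : P ⟶ G) (h₁ : jV ≫ k = jV ≫ k')
    (h₂ : jR ≫ k = jR ≫ k') : k = k' := by
  refine hom_ext_of_jointlyLS _ _ (jointlyLS_pair jV jR hjV hjR hcov) _ _ fun i => ?_
  cases i
  · exact h₂
  · exact h₁

/-- Two disjoint open subspaces covering `P` form a coproduct decomposition. -/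
theorem nonempty_isColimit_pair (hjV : RepWith @IsOpenImmersion jV)
    (hjR : RepWith @IsOpenImmersion jR)
    (hcov : ∀ x : Points P, x ∈ Set.range (Points.map jV) ∨ x ∈ Set.range (Points.map jR))
    (hdisj : Disjoint (Set.range (Points.map jV)) (Set.range (Points.map jR))) :
    Nonempty (IsColimit (BinaryCofan.mk jV jR)) := by
  choose d hd₁ hd₂ using fun (G : Sp S) (k₁ : F ⟶ G) (k₂ : R ⟶ G) =>
    exists_desc_pair jV jR hjV hjR hcov hdisj k₁ k₂
  exact ⟨BinaryCofan.IsColimit.mk _ (fun {G} k₁ k₂ => d G k₁ k₂) (fun {G} k₁ k₂ => hd₁ G k₁ k₂)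
    (fun {G} k₁ k₂ => hd₂ G k₁ k₂) (fun {G} k₁ k₂ m h1 h2 =>
      hom_ext_pair jV jR hjV hjR hcov _ _ ((show jV ≫ m = k₁ from h1).trans (hd₁ G k₁ k₂).symm)
        ((show jR ≫ m = k₂ from h2).trans (hd₂ G k₁ k₂).symm))⟩

end pair

section openClosed

variable {F P : Sp S} (jV : F ⟶ P)

/-- The complement of the image of `jV`. -/
def complSet : Set (Points P) := (Set.range (Points.map jV))ᶜ

theorem isOpen_complSet (hjc : RepWith @IsClosedImmersion jV) : IsOpen (complSet jV) :=
  (SchIm.isClosed_range_of_closedImmersion jV hjc).isOpen_compl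

/-- The complementary open subspace. -/
noncomputable abbrev complSp : Sp S := openSub P (complSet jV)

/-- The inclusion of the complementary open subspace. -/
noncomputable abbrev complι : complSp jV ⟶ P := openSubι P (complSet jV)

theorem repWith_isOpenImmersion_complι (hjc : RepWith @IsClosedImmersion jV) :
    RepWith @IsOpenImmersion (complι jV) :=
  repWith_isOpenImmersion_openSubι P _ (isOpen_complSet jV hjc)

/-- An open and closed subspace and its complement form a coproduct decomposition. -/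
theorem nonempty_isColimit_open_closed (hjo : RepWith @IsOpenImmersion jV)
    (hjc : RepWith @IsClosedImmersion jV) :
    Nonempty (IsColimit (BinaryCofan.mk jV (complι jV))) := by
  refine nonempty_isColimit_pair jV (complι jV) hjo (repWith_isOpenImmersion_complι jV hjc)
    (fun x => ?_) ?_
  · rw [range_map_openSubι]
    exact Classical.em _
  · rw [range_map_openSubι]
    exact disjoint_compl_right

end openClosed

end Groth.Agent.Lib.Helper3.ZmtGen
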