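import Groth.Agent.Lib.Helper3.ZmtB

set_option autoImplicit false
universe u w

namespace Groth.Agent.Lib.Helper3.ZmtGen

open CategoryTheory CategoryTheory.Limits AlgebraicGeometry Opposite AlgSp
open Groth.Agent.Lib.Helper3 Groth.Agent.Lib.Helper3.RelNorm

variable {S : Scheme.{u}}

/-- **Core claim**: if `P = Vs ⨿ R` with `Vs` integral over `B`, then `Vs` is an open and closed
piece of the normalization `N` of `B` in `P`, with inverse image `Vs` in `P`. -/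
theorem core {B Vs R P N Z : Sp S} (jV : Vs ⟶ P) (jR : R ⟶ P)
    (hP : IsColimit (BinaryCofan.mk jV jR))
    (g : P ⟶ B) (n : N ⟶ B) (g' : P ⟶ N) (hn : IsRelNormalization g n g') (hN : IsAlgSpace N)
    (inl : Vs ⟶ Z) (inr : B ⟶ Z) (hZ : IsColimit (BinaryCofan.mk inl inr)) (hZa : IsAlgSpace Z)
    (π : Z ⟶ B) (hπ : IsIntegralMor π) (hπ₁ : inl ≫ π = jV ≫ g) (hπ₂ : inr ≫ π = 𝟙 B) :
    ∃ h : N ⟶ Z, IsPullback (jV ≫ g') (𝟙 Vs) h inl ∧ IsPullback jV (𝟙 Vs) g' (jV ≫ g') := by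
  obtain ⟨hg, hnint, hUP⟩ := hn
  -- the map `k`
  obtain ⟨k, hk₁, hk₂⟩ : ∃ k : P ⟶ Z, jV ≫ k = inl ∧ jR ≫ k = (jR ≫ g) ≫ inr :=
    ⟨(BinaryCofan.IsColimit.desc' hP inl ((jR ≫ g) ≫ inr)).1,
      (BinaryCofan.IsColimit.desc' hP inl ((jR ≫ g) ≫ inr)).2.1,
      (BinaryCofan.IsColimit.desc' hP inl ((jR ≫ g) ≫ inr)).2.2⟩
  have hPext : ∀ {G : Sp S} (a b : P ⟶ G), jV ≫ a = jV ≫ b → jR ≫ a = jR ≫ b → a = b :=
    fun a b h1 h2 => BinaryCofan.IsColimit.hom_ext hP h1 h2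
  have hkπ : k ≫ π = g := by
    apply hPext
    · rw [← Category.assoc, hk₁, hπ₁]
    · rw [← Category.assoc, hk₂, Category.assoc, hπ₂, Category.comp_id]
  -- Van Kampen for `Z` along `k`
  have hVK : ∀ {X' Y' : Sp S} (c' : BinaryCofan X' Y') (αX : X' ⟶ Vs) (αY : Y' ⟶ B)
      (f : c'.pt ⟶ Z), αX ≫ inl = c'.inl ≫ f → αY ≫ inr = c'.inr ≫ f →
      (Nonempty (IsColimit c') ↔ IsPullback c'.inl αX f inl ∧ IsPullback c'.inr αY f inr) :=
    fun c' αX αY f h1 h2 => (BinaryCofan.isVanKampen_iff (BinaryCofan.mk inl inr)).1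
      (FinitaryExtensive.van_kampen' _ hZ) c' αX αY f h1 h2
  obtain ⟨sqA, -⟩ := (hVK (BinaryCofan.mk jV jR) (𝟙 Vs) (jR ≫ g) k
    (by change 𝟙 Vs ≫ inl = jV ≫ k; rw [hk₁, Category.id_comp])
    (by change (jR ≫ g) ≫ inr = jR ≫ k; rw [hk₂])).1 ⟨hP⟩
  replace sqA : IsPullback jV (𝟙 Vs) k inl := sqA
  -- the map `h`
  obtain ⟨h, ⟨hh1, hh2⟩, -⟩ := hUP hZa π k hπ hkπ
  -- decomposition of `N`
  let iV := pullback.fst h inl
  let hV := pullback.snd h inl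
  let iR := pullback.fst h inr
  let hR := pullback.snd h inr
  have sqV : IsPullback iV hV h inl := IsPullback.of_hasPullback h inl
  have sqR : IsPullback iR hR h inr := IsPullback.of_hasPullback h inr
  obtain ⟨hNc⟩ := (hVK (BinaryCofan.mk iV iR) hV hR h
    (by change hV ≫ inl = iV ≫ h; exact sqV.w.symm)
    (by change hR ≫ inr = iR ≫ h; exact sqR.w.symm)).2 ⟨sqV, sqR⟩
  have hNext : ∀ {G : Sp S} (a b : N ⟶ G), iV ≫ a = iV ≫ b → iR ≫ a = iR ≫ b → a = b :=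
    fun a b h1 h2 => BinaryCofan.IsColimit.hom_ext hNc h1 h2
  have hinl : Mono inl := MonoCoprod.binaryCofan_inl (BinaryCofan.mk inl inr) hZ
  have hiV : Mono iV := by
    change Mono (pullback.fst h inl)
    infer_instance
  -- the lifts
  have wm : (jV ≫ g') ≫ h = 𝟙 Vs ≫ inl := by
    rw [Category.assoc, hh1, hk₁, Category.id_comp]
  have wr : (jR ≫ g') ≫ h = (jR ≫ g) ≫ inr := by
    rw [Category.assoc, hh1, hk₂]
  let m' : Vs ⟶ pullback h inl := pullback.lift (jV ≫ g') (𝟙 Vs) wm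
  let r' : R ⟶ pullback h inr := pullback.lift (jR ≫ g') (jR ≫ g) wr
  have hm'1 : m' ≫ iV = jV ≫ g' := pullback.lift_fst _ _ _
  have hm'2 : m' ≫ hV = 𝟙 Vs := pullback.lift_snd _ _ _
  have hr'1 : r' ≫ iR = jR ≫ g' := pullback.lift_fst _ _ _
  -- the endomorphism `θ`
  obtain ⟨θ, hθ₁, hθ₂⟩ : ∃ θ : N ⟶ N, iV ≫ θ = hV ≫ jV ≫ g' ∧ iR ≫ θ = iR :=
    ⟨(BinaryCofan.IsColimit.desc' hNc (hV ≫ jV ≫ g') iR).1,
      (BinaryCofan.IsColimit.desc' hNc (hV ≫ jV ≫ g') iR).2.1,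
      (BinaryCofan.IsColimit.desc' hNc (hV ≫ jV ≫ g') iR).2.2⟩
  have hθn : θ ≫ n = n := by
    apply hNext
    · rw [← Category.assoc, hθ₁, Category.assoc, Category.assoc, hg, ← hπ₁, ← Category.assoc,
        ← sqV.w, Category.assoc, hh2]
    · rw [← Category.assoc, hθ₂]
  have hg'θ : g' ≫ θ = g' := by
    apply hPext
    · calc jV ≫ g' ≫ θ = (m' ≫ iV) ≫ θ := by rw [hm'1, Category.assoc]
        _ = (m' ≫ hV) ≫ jV ≫ g' := by rw [Category.assoc, hθ₁, Category.assoc]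
        _ = jV ≫ g' := by rw [hm'2, Category.id_comp]
    · calc jR ≫ g' ≫ θ = (r' ≫ iR) ≫ θ := by rw [hr'1, Category.assoc]
        _ = r' ≫ iR := by rw [Category.assoc, hθ₂]
        _ = jR ≫ g' := hr'1
  have hθ1 : θ = 𝟙 N := by
    obtain ⟨h₀, -, huniq⟩ := hUP hN n g' hnint hg
    rw [huniq θ ⟨hg'θ, hθn⟩, huniq (𝟙 N) ⟨Category.comp_id _, Category.id_comp _⟩]
  have hVm' : hV ≫ m' = 𝟙 _ := by
    rw [← cancel_mono iV, Category.assoc, hm'1, ← hθ₁, hθ1, Category.comp_id, Category.id_comp]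
  let e : Vs ≅ pullback h inl := ⟨m', hV, hm'2, hVm'⟩
  -- the pullback squares
  have sqL : IsPullback jV m' g' iV := by
    have big : IsPullback (m' ≫ hV) jV inl (g' ≫ h) := by
      rw [hm'2, hh1]
      exact sqA.flip
    exact (IsPullback.of_right big hm'1 sqV.flip).flip
  refine ⟨h, ?_, ?_⟩
  · refine IsPullback.of_iso sqV e.symm (Iso.refl _) (Iso.refl _) (Iso.refl _) ?_ ?_ ?_ ?_
    · change iV ≫ 𝟙 _ = hV ≫ jV ≫ g'
      rw [Category.comp_id, ← hθ₁, hθ1, Category.comp_id]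
    · change hV ≫ 𝟙 _ = hV ≫ 𝟙 _
      rfl
    · simp
    · simp
  · refine IsPullback.of_iso sqL (Iso.refl _) (Iso.refl _) e.symm (Iso.refl _) ?_ ?_ ?_ ?_
    · simp
    · change m' ≫ hV = 𝟙 _ ≫ 𝟙 _
      rw [hm'2, Category.id_comp]
    · simp
    · change iV ≫ 𝟙 _ = hV ≫ jV ≫ g'
      rw [Category.comp_id, ← hθ₁, hθ1, Category.comp_id]

end Groth.Agent.Lib.Helper3.ZmtGen
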