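import Groth.Agent.Lib.Helper3.ZmtC
import Groth.Agent.Lib.Helper3.EtSplitQF

set_option autoImplicit false
universe u w

namespace Groth.Agent.Lib.Helper3.ZmtGen

open CategoryTheory CategoryTheory.Limits AlgebraicGeometry Opposite AlgSp
open Groth.Agent.Lib.Helper3 Groth.Agent.Lib.Helper3.RelNorm

variable {S : Scheme.{u}}

/-- **Local statement**: near a quasi-finite point, the map to the normalization is, etale locally on
the normalization, an isomorphism. -/
theorem exists_etale_section {X Y Y' : Sp S} (hX : IsAlgSpace X) (hY : IsAlgSpace Y)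
    (hY' : IsAlgSpace Y') (f : X ⟶ Y) (ν : Y' ⟶ Y) (f' : X ⟶ Y')
    (hqc : IsQuasiCompactMor f) (hsep : IsSeparatedMor f) (hn : IsRelNormalization f ν f')
    (x : Points X)
    (hx : HasAtMor (fun U _ h u => ∃ W : U.Opens, u ∈ W ∧ LocallyQuasiFinite (W.ι ≫ h) ∧
      LocallyOfFiniteType (W.ι ≫ h)) f x) :
    ∃ (E : Over S) (e : (yon S).obj E ⟶ Y') (σ : (yon S).obj E ⟶ X), RepWith @Etale e ∧
      IsPullback σ (𝟙 _) f' e ∧ (∃ t : ↥E.left, Points.ofPt σ t = x) ∧
      ∀ t : ↥E.left, HasAtMor (fun U _ h u => ∃ W : U.Opens, u ∈ W ∧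
        LocallyQuasiFinite (W.ι ≫ h) ∧ LocallyOfFiniteType (W.ι ≫ h)) f (Points.ofPt σ t) := by
  obtain ⟨U, a, u, hae, -, hsplit⟩ := EtSplitQF.main10677 hX hY f x hsep hx
  have hqs : IsQuasiSeparatedMor f :=
    repWith_mono (fun _ _ g hg => by have : IsClosedImmersion g := hg; infer_instance) hsep
  have haE : RepWith @Etale a := by
    have := hae (𝟙 _) (repWith_id _ U)
    rwa [Category.id_comp] at this
  -- the base change
  let P : Sp S := pullback f a
  let prX : P ⟶ X := pullback.fst f a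
  let prU : P ⟶ (yon S).obj U := pullback.snd f a
  have sqP : IsPullback prX prU f a := IsPullback.of_hasPullback f a
  have hP : IsAlgSpace P := isAlgSpace_of_isPullback' hY hX (IsAlgSpace.yon_obj U) sqP
  obtain ⟨V, jV, hjo, hjc, hfin, v, hv, -⟩ := hsplit P prX prU sqP
  -- the normalization of the base change
  have hν : RepWith @IsIntegralHom ν := (isIntegralMor_iff_repWith ν).1 hn.2.1
  let N₀ : Over S := hν.rep.pullback a
  let n₀ : N₀ ⟶ U := hν.rep.snd a
  let b : (yon S).obj N₀ ⟶ Y' := hν.rep.fst a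
  have sqN : IsPullback b ((yon S).map n₀) ν a := hν.rep.isPullback a
  have hn₀ : IsIntegralHom n₀.left := hν.property_snd a
  have wg' : (prX ≫ f') ≫ ν = prU ≫ a := by
    rw [Category.assoc, hn.1]
    exact sqP.w
  let g' : P ⟶ (yon S).obj N₀ := sqN.lift (prX ≫ f') prU wg'
  have hg'1 : g' ≫ b = prX ≫ f' := sqN.lift_fst _ _ _
  have hg'2 : g' ≫ (yon S).map n₀ = prU := sqN.lift_snd _ _ _
  have hUN := un_of_isRelNormalization hY hY' f hqc hqs ν f' hn
  have hUNe : UN @Etale f ν f' hn.1 := hUN.mono etale_le_smooth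
  have key := normAt_of_UN (le_refl _) hUNe hn.2.1 (IsAlgSpace.yon_obj U) a
    (fun W₁ w₁ _ h => hae w₁ h)
  rw [normAt_iff_of_isPullback hn.1 a sqP sqN g' hg'2 hg'1] at key
  -- the finite part
  obtain ⟨γ, hγ⟩ := (yon S).map_surjective (jV ≫ prU)
  have hγfin : IsFinite γ.left := by
    rw [← hγ, isFiniteMor_iff_repWith] at hfin
    exact (repWith_yon_map_iff _ _).1 hfin
  have hγint : IsIntegralHom γ.left := inferInstance
  -- the core claim
  obtain ⟨hPc⟩ := nonempty_isColimit_open_closed jV hjo hjc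
  obtain ⟨hZc⟩ := nonempty_isColimit_z V U
  obtain ⟨h, sq1, sq2⟩ := core jV (complι jV) hPc prU ((yon S).map n₀) g' key
    (IsAlgSpace.yon_obj N₀) ((yon S).map (zInl V U)) ((yon S).map (zInr V U)) hZc
    (IsAlgSpace.yon_obj _) ((yon S).map (zPi γ))
    (isIntegralMor_yon_map _ (isIntegralHom_zPi γ hγint))
    (by rw [← Functor.map_comp, zInl_pi, hγ])
    (by rw [← Functor.map_comp, zInr_pi, CategoryTheory.Functor.map_id])
  have hm : RepWith @IsOpenImmersion (jV ≫ g') :=
    MorphismProperty.of_isPullback sq1.flip ((repWith_yon_map_iff _ _).2 isOpenImmersion_zInl)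
  have hme : RepWith @Etale (jV ≫ g') :=
    repWith_mono (fun _ _ g hg => by have : IsOpenImmersion g := hg; infer_instance) hm
  have hbe : RepWith @Etale b := MorphismProperty.of_isPullback sqN.flip haE
  -- `P = X ×_{Y'} N`
  have sqPN : IsPullback prX g' f' b := by
    refine IsPullback.of_bot ?_ hg'1.symm sqN
    rw [hg'2, hn.1]
    exact sqP
  have sqE : IsPullback (jV ≫ prX) (𝟙 _) f' ((jV ≫ g') ≫ b) := sq2.paste_horiz sqPN
  refine ⟨V, (jV ≫ g') ≫ b, jV ≫ prX, MorphismProperty.comp_mem _ _ _ hme hbe, sqE, ?_, ?_⟩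
  · obtain ⟨t, rfl⟩ := (Points.schemeHomeo V).surjective v
    exact ⟨t, (Points.ofPt_eq_map_ofScheme _ t).trans hv⟩
  · intro t
    have hjVe : RepWith @Etale jV :=
      repWith_mono (fun _ _ g hg => by have : IsOpenImmersion g := hg; infer_instance) hjo
    have hprXe : RepWith @Etale prX := MorphismProperty.of_isPullback sqP.flip haE
    refine ⟨V, U, jV ≫ prX, a, γ, t, MorphismProperty.comp_mem _ _ _ hjVe hprXe, haE, ?_, rfl,
      ⊤, trivial, ?_, ?_⟩
    · rw [Category.assoc, sqP.w, ← Category.assoc, hγ]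
    · infer_instance
    · infer_instance

end Groth.Agent.Lib.Helper3.ZmtGen
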