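import Groth.Agent.Lib.Helper3.ZmtD
import Groth.Agent.Lib.Helper3.AlgSpZarDecent

set_option autoImplicit false
universe u w

namespace Groth.Agent.Lib.Helper3.ZmtGen

open CategoryTheory CategoryTheory.Limits AlgebraicGeometry Opposite AlgSp
open Groth.Agent.Lib.Helper3 Groth.Agent.Lib.Helper3.RelNorm

variable {S : Scheme.{u}}

/-- Being an isomorphism is local on the target for a jointly locally surjective family. -/
theorem isIso_of_jointlyLS {C P' : Sp S} (g : C ⟶ P') {κ : Type w} (E : κ → Sp S)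
    (q : ∀ i, E i ⟶ P') (hq : JointlyLS E q) (A : κ → Sp S) (g' : ∀ i, A i ⟶ E i)
    (q' : ∀ i, A i ⟶ C) (sq : ∀ i, IsPullback (g' i) (q' i) (q i) g) (hiso : ∀ i, IsIso (g' i)) :
    IsIso g := by
  have hmono : Mono g := by
    refine mono_of_yon_points g fun {T a b} hab => ?_
    obtain ⟨Sv, hSv, hfac⟩ := hq.exists_factor T (a ≫ g)
    refine yon_hom_ext_of_sieve Sv hSv a b fun T' φ hφ => ?_
    obtain ⟨i, e, he⟩ := hfac φ hφ
    have wa : e ≫ q i = ((yon S).map φ ≫ a) ≫ g := by rw [he, Category.assoc]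
    have wb : e ≫ q i = ((yon S).map φ ≫ b) ≫ g := by rw [he, Category.assoc, hab]
    have := hiso i
    have hl : (sq i).lift e ((yon S).map φ ≫ a) wa = (sq i).lift e ((yon S).map φ ≫ b) wb := by
      rw [← cancel_mono (g' i), (sq i).lift_fst, (sq i).lift_fst]
    have h2 := congrArg (fun m => m ≫ q' i) hl
    simpa only [(sq i).lift_snd] using h2
  have hinv : ∀ i, (inv (g' i) ≫ q' i) ≫ g = q i := fun i => by
    have := hiso i
    rw [Category.assoc, ← (sq i).w, IsIso.inv_hom_id_assoc]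
  obtain ⟨σ, hσ⟩ := glue' E q hq (fun i => haveI := hiso i; inv (g' i) ≫ q' i) (by
    intro i l T a b hab
    rw [← cancel_mono g]
    calc (a ≫ inv (g' i) ≫ q' i) ≫ g = a ≫ (inv (g' i) ≫ q' i) ≫ g := by
          simp only [Category.assoc]
      _ = b ≫ (inv (g' l) ≫ q' l) ≫ g := by rw [hinv i, hinv l]; exact hab
      _ = (b ≫ inv (g' l) ≫ q' l) ≫ g := by simp only [Category.assoc])
  have h1 : σ ≫ g = 𝟙 P' := by
    refine hom_ext_of_jointlyLS E q hq _ _ fun i => ?_
    rw [← Category.assoc, hσ i, hinv i, Category.comp_id]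
  have h2 : g ≫ σ = 𝟙 C := by
    rw [← cancel_mono g, Category.assoc, h1, Category.comp_id, Category.id_comp]
  exact ⟨σ, h2, h1⟩

/-- The quasi-finiteness predicate of the statement. -/
abbrev QfAt {X Y : Sp S} (f : X ⟶ Y) (x : Points X) : Prop :=
  HasAtMor (fun U _ h u => ∃ W : U.Opens, u ∈ W ∧ LocallyQuasiFinite (W.ι ≫ h) ∧
    LocallyOfFiniteType (W.ι ≫ h)) f x

theorem main10646_aux {X Y Y' : Sp S} (hX : IsAlgSpace X) (hY : IsAlgSpace Y)
    (hY' : IsAlgSpace Y') (f : X ⟶ Y) (ν : Y' ⟶ Y) (f' : X ⟶ Y')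
    (hqc : IsQuasiCompactMor f) (hsep : IsSeparatedMor f) (hn : IsRelNormalization f ν f') :
    ∃ (U' : Sp S) (_ : IsAlgSpace U') (j : U' ⟶ Y'), RepWith @IsOpenImmersion j ∧
      ∀ (P : Sp S) (fst : P ⟶ X) (snd : P ⟶ U'), IsPullback fst snd f' j →
        IsIso snd ∧ Set.range (Points.map fst) = {x | QfAt f x} := by
  classical
  choose E e σ hE hsq ht hall using fun x : {x : Points X // QfAt f x} =>
    exists_etale_section hX hY hY' f ν f' hqc hsep hn x.1 x.2
  let Ω : Set (Points Y') := ⋃ x, Set.range (Points.ofPt (e x))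
  have hΩ : IsOpen Ω := by
    refine isOpen_iUnion fun x => ?_
    rw [← range_map_eq_range_ofPt]
    exact (isOpenMap_map_of_etale (hE x)).isOpen_range
  let j := openSubι Y' Ω
  have hj : RepWith @IsOpenImmersion j := repWith_isOpenImmersion_openSubι Y' Ω hΩ
  have hjr : Set.range (Points.map j) = Ω := range_map_openSubι Y' Ω
  have hjinj : Function.Injective (Points.map j) := Points.map_injective_of_mono j
  refine ⟨openSub Y' Ω, isAlgSpace_openSub hY' Ω hΩ, j, hj, ?_⟩
  intro P fst snd sqP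
  -- the charts of `U'`
  have hq : ∀ x, ∃ q : (yon S).obj (E x) ⟶ openSub Y' Ω, q ≫ j = e x := fun x =>
    exists_factor_of_range_subset j hj (e x) (by
      rw [hjr, range_map_eq_range_ofPt]
      exact Set.subset_iUnion (fun x => Set.range (Points.ofPt (e x))) x)
  choose q hq using hq
  have hqe : ∀ x, RepWith @Etale (q x) := fun x => by
    have sq : IsPullback (𝟙 ((yon S).obj (E x))) (q x) (e x) j :=
      IsPullback.of_horiz_isIso_mono ⟨by rw [Category.id_comp, hq x]⟩
    exact MorphismProperty.of_isPullback sq (hE x)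
  have hqs : ∀ y : Points (openSub Y' Ω), ∃ (x : {x : Points X // QfAt f x}) (t : ↥(E x).left),
      Points.ofPt (q x) t = y := by
    intro y
    have hy : Points.map j y ∈ Ω := hjr.subset (Set.mem_range_self y)
    obtain ⟨x, t, hxt⟩ := Set.mem_iUnion.1 hy
    refine ⟨x, t, hjinj ?_⟩
    rw [Points.map_ofPt, hq x]
    exact hxt
  have hJ : JointlyLS (fun x => (yon S).obj (E x)) q := jointlyLS_of_etale_charts E q hqe hqs
  -- the lifts to `P`
  have wq' : ∀ x, σ x ≫ f' = q x ≫ j := fun x => by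
    rw [hq x, (hsq x).w, Category.id_comp]
  let q' : ∀ x, (yon S).obj (E x) ⟶ P := fun x => sqP.lift (σ x) (q x) (wq' x)
  have hq'1 : ∀ x, q' x ≫ fst = σ x := fun x => sqP.lift_fst _ _ _
  have hq'2 : ∀ x, q' x ≫ snd = q x := fun x => sqP.lift_snd _ _ _
  have sqx : ∀ x, IsPullback (𝟙 ((yon S).obj (E x))) (q' x) (q x) snd := fun x => by
    refine IsPullback.of_bot ?_ (by rw [Category.id_comp, hq'2]) sqP.flip
    rw [hq'1, hq x]
    exact (hsq x).flip
  have hiso : IsIso snd := isIso_of_jointlyLS snd _ q hJ _ (fun x => 𝟙 _) q' sqx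
    (fun x => inferInstance)
  refine ⟨hiso, ?_⟩
  apply Set.Subset.antisymm
  · rintro _ ⟨p, rfl⟩
    obtain ⟨x, t, hxt⟩ := hqs (Points.map snd p)
    have hp : p = Points.ofPt (q' x) t := by
      have hsinj : Function.Injective (Points.map snd) := Points.map_injective_of_mono snd
      apply hsinj
      rw [Points.map_ofPt, hq'2, hxt]
    change QfAt f (Points.map fst p)
    rw [hp, Points.map_ofPt, hq'1]
    exact hall x t
  · intro x hx
    obtain ⟨t, ht⟩ := ht ⟨x, hx⟩
    have h1 : Points.map f' x ∈ Ω := by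
      refine Set.mem_iUnion.2 ⟨⟨x, hx⟩, t, ?_⟩
      have ht' : Points.ofPt (σ ⟨x, hx⟩) t = x := ht
      calc Points.ofPt (e ⟨x, hx⟩) t = Points.ofPt (σ ⟨x, hx⟩ ≫ f') t := by
            rw [(hsq ⟨x, hx⟩).w, Category.id_comp]
        _ = Points.map f' (Points.ofPt (σ ⟨x, hx⟩) t) := (Points.map_ofPt _ _ _).symm
        _ = Points.map f' x := by rw [ht']
    have h1' : Points.map f' x ∈ Set.range (Points.map j) := hjr.symm.subset h1
    obtain ⟨z, hz⟩ := h1'
    obtain ⟨p, hp, -⟩ := Points.exists_of_isPullback sqP x z hz.symm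
    exact ⟨p, hp⟩

end Groth.Agent.Lib.Helper3.ZmtGen
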